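import Mathlib
import Cfsg.Prelude.Def_Transfer

set_option autoImplicit false

namespace Cfsg.Agent.Helper25

open Cfsg

theorem map_pResidual_le' {G G' : Type*} [Group G] [Group G'] (p : ℕ) (f : G →* G')
    (hf : Function.Injective f) : (pResidual p G).map f ≤ pResidual p G' := by
  unfold pResidual
  rw [MonoidHom.map_closure]
  apply Subgroup.closure_mono
  rintro _ ⟨g, hg, rfl⟩
  show Nat.Coprime (orderOf (f g)) p
  rw [orderOf_injective f hf g]
  exact hg

theorem map_pResidual_equiv {G G' : Type*} [Group G] [Group G'] (p : ℕ) (e : G ≃* G') :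
    (pResidual p G).map e.toMonoidHom = pResidual p G' := by
  apply le_antisymm (map_pResidual_le' p e.toMonoidHom e.injective)
  intro x hx
  have := map_pResidual_le' p e.symm.toMonoidHom e.symm.injective ⟨x, hx, rfl⟩
  exact ⟨e.symm x, this, by simp⟩

theorem pResidual_normal' (p : ℕ) (G : Type*) [Group G] : (pResidual p G).Normal := by
  constructor
  intro n hn g
  have := map_pResidual_le' p (MulAut.conj g).toMonoidHom (MulAut.conj g).injective ⟨n, hn, rfl⟩
  simpa using this

theorem exists_pow_mem_pResidual' {G : Type*} [Group G] [Finite G] (p : ℕ) [Fact p.Prime] (g : G) :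
    ∃ k : ℕ, g ^ p ^ k ∈ pResidual p G := by
  have hp : p.Prime := Fact.out
  have ho : orderOf g ≠ 0 := (orderOf_pos g).ne'
  obtain ⟨k, m, hm, hkm⟩ := Nat.exists_eq_pow_mul_and_not_dvd ho p hp.ne_one
  refine ⟨k, Subgroup.subset_closure ?_⟩
  show Nat.Coprime (orderOf (g ^ p ^ k)) p
  have h1 : orderOf (g ^ p ^ k) ∣ m := by
    apply orderOf_dvd_of_pow_eq_one
    rw [← pow_mul, ← hkm, pow_orderOf_eq_one]
  exact Nat.Coprime.coprime_dvd_left h1 ((Nat.Prime.coprime_iff_not_dvd hp).mpr hm).symm

/-- In a finite group, every element is the product of an element of a given Sylow `p`-subgroup and an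
element of `O^p`. -/
theorem exists_mul_pResidual {G : Type*} [Group G] [Finite G] (p : ℕ) [Fact p.Prime] (R : Sylow p G)
    (n : G) : ∃ r ∈ (R : Subgroup G), ∃ u ∈ pResidual p G, n = r * u := by
  haveI := pResidual_normal' p G
  set N := pResidual p G with hN
  have hquot : IsPGroup p (G ⧸ N) := by
    intro q
    obtain ⟨g, rfl⟩ := QuotientGroup.mk_surjective q
    obtain ⟨k, hk⟩ := exists_pow_mem_pResidual' p g
    refine ⟨k, ?_⟩
    rw [← QuotientGroup.mk_pow]
    exact (QuotientGroup.eq_one_iff _).mpr hk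
  set Rbar := R.mapSurjective (QuotientGroup.mk'_surjective N) with hRbar
  have htop : (Rbar : Subgroup (G ⧸ N)) = ⊤ := by
    have := Rbar.is_maximal' (Q := ⊤) (hquot.to_subgroup _) le_top
    exact this.symm
  have hmem : QuotientGroup.mk' N n ∈ (Rbar : Subgroup (G ⧸ N)) := by rw [htop]; trivial
  rw [hRbar, Sylow.coe_mapSurjective] at hmem
  obtain ⟨r, hr, hrn⟩ := hmem
  refine ⟨r, hr, r⁻¹ * n, ?_, by group⟩
  rw [← QuotientGroup.eq_one_iff, ← QuotientGroup.mk'_apply, map_mul, map_inv, hrn]
  simp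

end Cfsg.Agent.Helper25
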