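import Mathlib
import Cfsg.Agent.Lib.Helper5.TLDefs
import Cfsg.Agent.Lib.Helper5.TL2Defs

/-!
# S4441 second wave, piece AP1 + basic API of `ThetaData` (helper25)
-/

set_option autoImplicit false

namespace Cfsg.Agent.Helper5.TL

open scoped Padic

variable (p : ℕ) [Fact p.Prime]

variable {L : Type*} [AddCommGroup L] [Module ℤ_[p] L]

/-- a lift of an element of `ZMod p` to `ℤ_[p]`. -/
noncomputable def ap_lift (a : ZMod p) : ℤ_[p] := ((a.val : ℕ) : ℤ_[p])

theorem ap_toZMod_lift (a : ZMod p) : PadicInt.toZMod (ap_lift p a) = a := by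
  unfold ap_lift
  rw [map_natCast, ZMod.natCast_zmod_val]

section api

variable {p}
variable {X : Module.End ℤ_[p] L} {W W' : Submodule ℤ_[p] L} {n : ℕ} {θ : L → Fin n → ZMod p}

theorem ThetaData.map_zero' (hθ : ThetaData p X W W' n θ) : θ 0 = 0 := by
  have h := hθ.1 0 0
  rw [add_zero] at h
  exact left_eq_add.1 h

theorem ThetaData.map_neg' (hθ : ThetaData p X W W' n θ) (u : L) : θ (-u) = -θ u := by
  have h := hθ.2.1 (-1) u
  rw [neg_one_smul, map_neg, map_one, neg_one_smul] at h
  exact h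

theorem ThetaData.map_sub' (hθ : ThetaData p X W W' n θ) (u u' : L) : θ (u - u') = θ u - θ u' := by
  rw [sub_eq_add_neg, hθ.1, hθ.map_neg', sub_eq_add_neg]

theorem ThetaData.map_sum' (hθ : ThetaData p X W W' n θ) {ι : Type*} (s : Finset ι) (f : ι → L) :
    θ (∑ i ∈ s, f i) = ∑ i ∈ s, θ (f i) := by
  classical
  induction s using Finset.induction_on with
  | empty => rw [Finset.sum_empty, Finset.sum_empty, hθ.map_zero']
  | insert a s ha ih => rw [Finset.sum_insert ha, Finset.sum_insert ha, hθ.1, ih]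

end api

/-- PIECE AP1: with coordinate data, `W / W'` is cyclic iff `n ≤ 1`. -/
theorem cyclic_iff_of_theta (X : Module.End ℤ_[p] L) (W W' : Submodule ℤ_[p] L) (n : ℕ)
    (θ : L → Fin n → ZMod p) (hθ : ThetaData p X W W' n θ) : CyclicQuot p W W' ↔ n ≤ 1 := by
  have hθ' := hθ
  obtain ⟨ha, hs, hz, hm, hsurj, hlift⟩ := hθ
  constructor
  · rintro ⟨w, hw, hcyc⟩
    by_contra hn
    push Not at hn
    -- every vector is a multiple of `θ w`
    have hmult : ∀ c : Fin n → ZMod p, ∃ r : ZMod p, c = r • θ w := by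
      intro c
      obtain ⟨u, hu, rfl⟩ := hsurj c
      obtain ⟨r, hr⟩ := hcyc u hu
      have h0 := hz _ hr
      rw [hθ'.map_sub', hs, sub_eq_zero] at h0
      exact ⟨PadicInt.toZMod r, h0⟩
    set i0 : Fin n := ⟨0, by omega⟩ with hi0
    set i1 : Fin n := ⟨1, by omega⟩ with hi1
    have h01 : i0 ≠ i1 := by
      intro e
      have := congrArg Fin.val e
      simp [hi0, hi1] at this
    obtain ⟨r0, hr0⟩ := hmult (Pi.single i0 1)
    obtain ⟨r1, hr1⟩ := hmult (Pi.single i1 1)
    have e1 := congrFun hr0 i0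
    have e2 := congrFun hr0 i1
    have e3 := congrFun hr1 i1
    rw [Pi.single_apply, if_pos rfl, Pi.smul_apply, smul_eq_mul] at e1
    rw [Pi.single_apply, if_neg h01.symm, Pi.smul_apply, smul_eq_mul] at e2
    rw [Pi.single_apply, if_pos rfl, Pi.smul_apply, smul_eq_mul] at e3
    have hr0' : r0 ≠ 0 := by
      intro h
      rw [h, zero_mul] at e1
      exact one_ne_zero e1
    have h4 : θ w i1 = 0 := by
      rcases mul_eq_zero.1 e2.symm with h | h
      · exact absurd h hr0'
      · exact h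
    rw [h4, mul_zero] at e3
    exact one_ne_zero e3
  · intro hn
    rcases Nat.lt_or_ge n 1 with h0 | h1
    · -- `n = 0`
      have hn0 : n = 0 := by omega
      subst hn0
      refine ⟨0, W.zero_mem, ?_⟩
      intro u hu
      refine ⟨0, ?_⟩
      rw [zero_smul, sub_zero]
      exact hm u hu (Subsingleton.elim _ _)
    · have hn1 : n = 1 := by omega
      subst hn1
      obtain ⟨w, hw, hθw⟩ := hsurj (fun _ => 1)
      refine ⟨w, hw, ?_⟩
      intro u hu
      refine ⟨ap_lift p (θ u 0), ?_⟩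
      apply hm _ (W.sub_mem hu (W.smul_mem _ hw))
      rw [hθ'.map_sub', hs, ap_toZMod_lift, hθw]
      funext i
      have hi : i = 0 := Subsingleton.elim _ _
      rw [hi, Pi.sub_apply, Pi.smul_apply, smul_eq_mul, mul_one, sub_self]
      rfl

end Cfsg.Agent.Helper5.TL
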