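import Mathlib
import Cfsg.Agent.Lib.Helper5.TLDefs
import Cfsg.Agent.Lib.Helper5.TL2Defs
import Cfsg.Agent.Lib.Helper25.TL2AP1

/-!
# S4441 second wave, piece AP2 (core, with FP as a hypothesis) (helper25)
-/

set_option autoImplicit false
set_option linter.unusedVariables false

namespace Cfsg.Agent.Helper5.TL

open scoped Padic

variable (p : ℕ) [Fact p.Prime]

variable {L : Type*} [AddCommGroup L] [Module ℤ_[p] L]

/-- PIECE AP2, core: the abstract form of Steps 5/6, with the statement of FP as a hypothesis. -/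
theorem step_of_theta_core
    (hFP : ∀ {n : ℕ} (hn : 2 ≤ n) (N : Matrix (Fin n) (Fin n) (ZMod p)) (hN : N ^ (p - 1) = 1),
      ∃ (f : Matrix (Fin n) (Fin n) (ZMod p)) (u₀ u₁ : Fin n → ZMod p),
        f * N = N * f ∧ u₀ ≠ 0 ∧ u₁ ≠ 0 ∧ f.mulVec u₀ = 0 ∧ f.mulVec u₁ = u₁)
    (X : Module.End ℤ_[p] L) (W W' : Submodule ℤ_[p] L) (n : ℕ)
    (θ : L → Fin n → ZMod p) (hθ : ThetaData p X W W' n θ) (hn : 2 ≤ n) (ν : Module.End ℤ_[p] L)
    (hν1 : ∀ u ∈ W, ν u ∈ W) (hν2 : ∀ u ∈ W', ν u ∈ W')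
    (hν3 : ∀ u ∈ W, (ν ^ (p - 1)) u - u ∈ W') :
    ∃ (φ : Module.End ℤ_[p] L) (v₀ v₁ : L), Commute φ X ∧
      (∀ u ∈ W, ν (φ u) - φ (ν u) ∈ W') ∧
      v₀ ∈ W ∧ v₀ ∉ W' ∧ φ v₀ ∈ W' ∧ v₁ ∈ W ∧ v₁ ∉ W' ∧ φ v₁ - v₁ ∈ W' := by
  classical
  have hθ' := hθ
  obtain ⟨ha, hs, hz, hm, hsurj, hlift⟩ := hθ
  choose uu huW huθ using fun j : Fin n => hsurj (Pi.single j 1)
  set N : Matrix (Fin n) (Fin n) (ZMod p) := Matrix.of (fun i j => θ (ν (uu j)) i) with hNdef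
  -- the matrix of `ν`
  have hN : ∀ u ∈ W, θ (ν u) = N.mulVec (θ u) := by
    intro u hu
    set u' := u - ∑ j, ap_lift p (θ u j) • uu j with hu'
    have hsumW : ∑ j, ap_lift p (θ u j) • uu j ∈ W :=
      W.sum_mem fun j _ => W.smul_mem _ (huW j)
    have hu'W : u' ∈ W := W.sub_mem hu hsumW
    have hθu' : θ u' = 0 := by
      rw [hu', hθ'.map_sub', hθ'.map_sum']
      have : ∀ j ∈ (Finset.univ : Finset (Fin n)), θ (ap_lift p (θ u j) • uu j) =
          θ u j • (Pi.single j 1 : Fin n → ZMod p) := by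
        intro j _
        rw [hs, ap_toZMod_lift, huθ]
      rw [Finset.sum_congr rfl this, sub_eq_zero]
      funext i
      rw [Finset.sum_apply, Finset.sum_eq_single i]
      · rw [Pi.smul_apply, Pi.single_apply, if_pos rfl, smul_eq_mul, mul_one]
      · intro j _ hji
        rw [Pi.smul_apply, Pi.single_apply, if_neg hji.symm, smul_zero]
      · intro h; exact absurd (Finset.mem_univ _) h
    have hu'W' : u' ∈ W' := hm u' hu'W hθu'
    have h1 : θ (ν u') = 0 := hz _ (hν2 _ hu'W')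
    rw [hu', map_sub, hθ'.map_sub', sub_eq_zero, map_sum, hθ'.map_sum'] at h1
    rw [h1]
    funext i
    rw [Finset.sum_apply, Matrix.mulVec, dotProduct]
    refine Finset.sum_congr rfl fun j _ => ?_
    rw [map_smul, hs, ap_toZMod_lift, Pi.smul_apply, smul_eq_mul, hNdef, Matrix.of_apply, mul_comm]
  have hNk : ∀ k : ℕ, ∀ u ∈ W, (ν ^ k) u ∈ W ∧ θ ((ν ^ k) u) = (N ^ k).mulVec (θ u) := by
    intro k
    induction k with
    | zero =>
      intro u hu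
      refine ⟨by simpa using hu, ?_⟩
      rw [pow_zero, pow_zero, Matrix.one_mulVec]
      rfl
    | succ k ih =>
      intro u hu
      obtain ⟨h1, h2⟩ := ih u hu
      have h3 : (ν ^ (k + 1)) u = ν ((ν ^ k) u) := by
        rw [pow_succ']
        rfl
      rw [h3]
      refine ⟨hν1 _ h1, ?_⟩
      rw [hN _ h1, h2, Matrix.mulVec_mulVec, ← pow_succ']
  have hN1 : N ^ (p - 1) = 1 := by
    have hfix : ∀ c : Fin n → ZMod p, (N ^ (p - 1)).mulVec c = c := by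
      intro c
      obtain ⟨u, hu, rfl⟩ := hsurj c
      have h1 := hz _ (hν3 u hu)
      rw [hθ'.map_sub', sub_eq_zero] at h1
      rw [← (hNk (p - 1) u hu).2, h1]
    ext i j
    have h1 := congrFun (hfix (Pi.single j 1)) i
    rw [Matrix.mulVec_single_one] at h1
    have h2 : (N ^ (p - 1)) i j = (Pi.single j 1 : Fin n → ZMod p) i := h1
    rw [h2, Matrix.one_apply, Pi.single_apply]
  obtain ⟨f, ū₀, ū₁, hfN, hū₀, hū₁, hf0, hf1⟩ := hFP hn N hN1
  obtain ⟨φ, hφX, hφW, hφθ⟩ := hlift f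
  obtain ⟨v₀, hv₀W, hv₀⟩ := hsurj ū₀
  obtain ⟨v₁, hv₁W, hv₁⟩ := hsurj ū₁
  refine ⟨φ, v₀, v₁, hφX, ?_, hv₀W, ?_, ?_, hv₁W, ?_, ?_⟩
  · intro u hu
    apply hm _ (W.sub_mem (hν1 _ (hφW u hu)) (hφW _ (hν1 u hu)))
    rw [hθ'.map_sub', hN _ (hφW u hu), hφθ u hu, hφθ _ (hν1 u hu), hN u hu, Matrix.mulVec_mulVec,
      Matrix.mulVec_mulVec, hfN, sub_self]
  · intro h
    apply hū₀
    rw [← hv₀]
    exact hz _ h
  · apply hm _ (hφW _ hv₀W)
    rw [hφθ _ hv₀W, hv₀, hf0]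
  · intro h
    apply hū₁
    rw [← hv₁]
    exact hz _ h
  · apply hm _ (W.sub_mem (hφW _ hv₁W) hv₁W)
    rw [hθ'.map_sub', hφθ _ hv₁W, hv₁, hf1, sub_self]

end Cfsg.Agent.Helper5.TL
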