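import Mathlib
import Cfsg.Agent.Lib.Helper5.TLDefs
import Cfsg.Agent.Lib.Helper5.TL2Defs
import Cfsg.Agent.Lib.Helper25.TL2AP1

/-!
# S4441 second wave, piece THA0 (helper25)
-/

set_option autoImplicit false

namespace Cfsg.Agent.Helper5.TL

open scoped Padic

variable (p : ℕ) [Fact p.Prime]

variable {L : Type*} [AddCommGroup L] [Module ℤ_[p] L]

theorem tha0_toZMod_p : PadicInt.toZMod (p : ℤ_[p]) = 0 := by
  rw [map_natCast, ZMod.natCast_self]

theorem tha0_exists_of_toZMod_eq_zero {x : ℤ_[p]} (hx : PadicInt.toZMod x = 0) :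
    ∃ d : ℤ_[p], x = (p : ℤ_[p]) * d := by
  have h1 : x ∈ RingHom.ker (PadicInt.toZMod (p := p)) := hx
  rw [PadicInt.ker_toZMod, PadicInt.maximalIdeal_eq_span_p, Ideal.mem_span_singleton'] at h1
  obtain ⟨d, hd⟩ := h1
  exact ⟨d, by rw [← hd, mul_comm]⟩

/-- PIECE THA0: a lattice with trivial action: `Ĥ⁰ = L / pL`. -/
theorem theta_trivial [Module.Free ℤ_[p] L] [Module.Finite ℤ_[p] L] (X : Module.End ℤ_[p] L)
    (hX1 : ∀ u, X u = u) :
    ∃ θ : L → Fin (Module.finrank ℤ_[p] L) → ZMod p,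
      ThetaData p X ⊤ (sigRange p X) (Module.finrank ℤ_[p] L) θ := by
  classical
  set e := Module.finBasis ℤ_[p] L with he
  have hX : X = 1 := LinearMap.ext hX1
  have hsig : ∀ z : L, sig p X z = (p : ℤ_[p]) • z := by
    intro z
    unfold sig
    rw [hX, LinearMap.sum_apply]
    simp only [one_pow, Module.End.one_apply, Finset.sum_const, Finset.card_range]
    rw [Nat.cast_smul_eq_nsmul]
  refine ⟨fun u j => PadicInt.toZMod (e.repr u j), ?_, ?_, ?_, ?_, ?_, ?_⟩
  · intro u u'
    funext j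
    simp only [Pi.add_apply, map_add, Finsupp.coe_add]
  · intro c u
    funext j
    simp only [Pi.smul_apply, map_smul, Finsupp.coe_smul, smul_eq_mul, map_mul]
  · rintro u ⟨z, rfl⟩
    funext j
    rw [hsig]
    simp only [map_smul, Finsupp.coe_smul, Pi.smul_apply, smul_eq_mul, map_mul, tha0_toZMod_p,
      zero_mul, Pi.zero_apply]
  · intro u _ h0
    have h1 : ∀ j, ∃ d : ℤ_[p], e.repr u j = (p : ℤ_[p]) * d := fun j =>
      tha0_exists_of_toZMod_eq_zero p (congrFun h0 j)
    choose d hd using h1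
    refine ⟨∑ j, d j • e j, ?_⟩
    rw [hsig, Finset.smul_sum]
    conv_rhs => rw [← e.sum_repr u]
    refine Finset.sum_congr rfl fun j _ => ?_
    rw [hd, smul_smul]
  · intro c
    refine ⟨∑ j, ap_lift p (c j) • e j, Submodule.mem_top, ?_⟩
    funext j
    show PadicInt.toZMod (e.repr (∑ j, ap_lift p (c j) • e j) j) = c j
    rw [e.repr_sum_self, ap_toZMod_lift]
  · intro g
    set G : Matrix (Fin (Module.finrank ℤ_[p] L)) (Fin (Module.finrank ℤ_[p] L)) ℤ_[p] :=
      g.map (ap_lift p) with hG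
    refine ⟨Matrix.toLin e e G, ?_, fun u _ => Submodule.mem_top, ?_⟩
    · rw [hX]
      exact Commute.one_right _
    · intro u _
      have h1 := LinearMap.toMatrix_mulVec_repr e e (Matrix.toLin e e G) u
      rw [LinearMap.toMatrix_toLin] at h1
      funext i
      show PadicInt.toZMod (e.repr ((Matrix.toLin e e G) u) i) = _
      rw [← h1, Matrix.mulVec, dotProduct, map_sum, Matrix.mulVec, dotProduct]
      refine Finset.sum_congr rfl fun j _ => ?_
      rw [map_mul, hG, Matrix.map_apply, ap_toZMod_lift]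

end Cfsg.Agent.Helper5.TL
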