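import Mathlib
import Cfsg.Agent.Lib.Helper5.TLDefs
import Cfsg.Agent.Lib.Helper5.TL2Defs

/-!
# S4441 second wave, piece TRANSFER (helper25)
-/

set_option autoImplicit false

namespace Cfsg.Agent.Helper5.TL

open scoped Padic

variable (p : ℕ) [Fact p.Prime]

variable {L : Type*} [AddCommGroup L] [Module ℤ_[p] L]

/-- PIECE TRANSFER: coordinate data on an `X`-stable direct summand give coordinate data on `L`. -/
theorem theta_transfer (X : Module.End ℤ_[p] L) (L' : Submodule ℤ_[p] L) (hstab : ∀ u ∈ L', X u ∈ L')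
    (q : L →ₗ[ℤ_[p]] L') (hq : ∀ u : L', q (u : L) = u)
    (hqX : ∀ u, q (X u) = X.restrict hstab (q u))
    (W W' : Submodule ℤ_[p] L) (W₀ W₀' : Submodule ℤ_[p] L') (n : ℕ) (θ₀ : L' → Fin n → ZMod p)
    (hθ₀ : ThetaData p (X.restrict hstab) W₀ W₀' n θ₀)
    (h1 : ∀ u ∈ W, q u ∈ W₀) (h2 : ∀ u ∈ W', q u ∈ W₀') (h3 : ∀ u ∈ W, q u ∈ W₀' → u ∈ W')
    (h4 : ∀ u : L', u ∈ W₀ → (u : L) ∈ W) : ThetaData p X W W' n (fun u => θ₀ (q u)) := by
  obtain ⟨ha, hs, hz, hm, hsurj, hlift⟩ := hθ₀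
  refine ⟨?_, ?_, ?_, ?_, ?_, ?_⟩
  · intro u u'
    show θ₀ (q (u + u')) = θ₀ (q u) + θ₀ (q u')
    rw [map_add, ha]
  · intro c u
    show θ₀ (q (c • u)) = PadicInt.toZMod c • θ₀ (q u)
    rw [map_smul, hs]
  · intro u hu
    exact hz _ (h2 u hu)
  · intro u hu h0
    exact h3 u hu (hm _ (h1 u hu) h0)
  · intro c
    obtain ⟨u₀, hu₀, hc⟩ := hsurj c
    refine ⟨(u₀ : L), h4 u₀ hu₀, ?_⟩
    show θ₀ (q (u₀ : L)) = c
    rw [hq, hc]
  · intro g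
    obtain ⟨φ₀, hcomm, hW, hθ⟩ := hlift g
    refine ⟨L'.subtype ∘ₗ φ₀ ∘ₗ q, ?_, ?_, ?_⟩
    · apply LinearMap.ext
      intro u
      show ((φ₀ (q (X u)) : L') : L) = X ((φ₀ (q u) : L') : L)
      rw [hqX]
      have h5 : φ₀ (X.restrict hstab (q u)) = X.restrict hstab (φ₀ (q u)) := by
        have := congrArg (fun f : Module.End ℤ_[p] L' => f (q u)) hcomm.eq
        exact this
      rw [h5]
      rfl
    · intro u hu
      exact h4 _ (hW _ (h1 u hu))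
    · intro u hu
      show θ₀ (q ((φ₀ (q u) : L') : L)) = g.mulVec (θ₀ (q u))
      rw [hq]
      exact hθ _ (h1 u hu)

end Cfsg.Agent.Helper5.TL
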