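import Mathlib
import Cfsg.Prelude.Def_Blocks
import Cfsg.Agent.Lib.Helper24.CharLinear
import Cfsg.Agent.Lib.Helper24.CharOrtho
import Cfsg.Agent.Lib.Helper24.CharComplete

/-!
# S4503 piece CONS: irreducible constituents of a character
-/

set_option autoImplicit false
set_option linter.style.haveILetI false
set_option linter.unusedSectionVars false
set_option linter.unusedVariables false

namespace Cfsg.Agent.Helper14.BRB

open scoped ComplexConjugate
open Cfsg Cfsg.Agent.Helper24

universe u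

variable {G : Type u} [Group G] [Fintype G] (p : ℕ) [Fact p.Prime]

/-- PIECE CONS (1). -/
theorem degree_le_of_constituent {χ : G → ℂ} (hχ : IsCharacter G χ) (ζ : IrrCharacter G)
    (h : classInner χ (ζ : G → ℂ) ≠ 0) : charDegree (ζ : G → ℂ) ≤ charDegree χ := by
  classical
  haveI : Fintype (IrrCharacter G) := irrFintype
  obtain ⟨hm, hdec⟩ := isCharacter_decomp hχ
  choose m hm using hm
  have h1 : χ 1 = ∑ ψ : IrrCharacter G, ((m ψ * charDegree (ψ : G → ℂ) : ℕ) : ℂ) := by
    have := congrFun hdec 1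
    rw [Finset.sum_apply] at this
    rw [this]
    apply Finset.sum_congr rfl
    intro ψ _
    rw [Pi.smul_apply, smul_eq_mul, hm ψ, irr_one_eq_charDegree ψ.2]
    push_cast
    rfl
  rw [char_one_eq_charDegree hχ, ← Nat.cast_sum] at h1
  have h2 : charDegree χ = ∑ ψ : IrrCharacter G, m ψ * charDegree (ψ : G → ℂ) := by
    exact_mod_cast h1
  rw [h2]
  have hmz : m ζ ≠ 0 := by
    intro h0
    apply h
    rw [hm ζ, h0]
    simp
  calc charDegree (ζ : G → ℂ) ≤ m ζ * charDegree (ζ : G → ℂ) :=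
        Nat.le_mul_of_pos_left _ (Nat.pos_of_ne_zero hmz)
    _ ≤ ∑ ψ : IrrCharacter G, m ψ * charDegree (ψ : G → ℂ) :=
        Finset.single_le_sum (f := fun ψ : IrrCharacter G => m ψ * charDegree (ψ : G → ℂ))
          (fun _ _ => Nat.zero_le _) (Finset.mem_univ ζ)

/-- PIECE CONS (2). -/
theorem eq_of_constituents {χ : G → ℂ} (hχ : IsCharacter G χ) (g : G)
    (h : ∀ ζ : IrrCharacter G, classInner χ (ζ : G → ℂ) ≠ 0 →
      (ζ : G → ℂ) g = (ζ : G → ℂ) 1) : χ g = χ 1 := by
  classical
  haveI : Fintype (IrrCharacter G) := irrFintype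
  obtain ⟨hm, hdec⟩ := isCharacter_decomp hχ
  have e1 := congrFun hdec g
  have e2 := congrFun hdec 1
  rw [Finset.sum_apply] at e1 e2
  rw [e1, e2]
  apply Finset.sum_congr rfl
  intro ψ _
  rw [Pi.smul_apply, Pi.smul_apply]
  by_cases h0 : classInner χ (ψ : G → ℂ) = 0
  · rw [h0, zero_smul, zero_smul]
  · rw [h ψ h0]

end Cfsg.Agent.Helper14.BRB
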