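import Mathlib
import Cfsg.Prelude.Def_Blocks
import Cfsg.Agent.Lib.Helper24.CharLinear
import Cfsg.Agent.Lib.Helper24.CharAlgebra
import Cfsg.Agent.Lib.Helper24.CharAbelian

/-!
# S4503 piece REDLIN: no nontrivial linear characters
-/

set_option autoImplicit false
set_option linter.style.haveILetI false
set_option linter.unusedSectionVars false
set_option linter.unusedVariables false

namespace Cfsg.Agent.Helper14.BRB

open scoped ComplexConjugate
open Cfsg Cfsg.Agent.Helper24

universe u

variable {G : Type u} [Group G] [Fintype G] (p : ℕ) [Fact p.Prime]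

variable (P : Sylow p G)

local notation "𝒞" => Subgroup.centralizer ((P : Subgroup G) : Set G)
local notation "𝒩" => Subgroup.normalizer ((P : Subgroup G) : Set G)

/-- PIECE REDLIN: no nontrivial linear characters. -/
theorem linear_trivial (hP : Nat.card P = p)
    (hnn : ∀ H : Subgroup G, H.Normal → Nat.card H ≠ p)
    (hR4 : ∀ K : Subgroup G, K.Normal → K ≠ ⊤ → K ≤ Subgroup.center G)
    (χ : IrrCharacter G) (h1 : charDegree (χ : G → ℂ) = 1) : χ = principalChar G := by
  by_contra hne
  have hχ1 : (χ : G → ℂ) 1 = 1 := (charDegree_eq_one_iff χ.2).mp h1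
  have hφ : ∃ φ : G →* ℂˣ, ∀ g, ((φ g : ℂˣ) : ℂ) = (χ : G → ℂ) g :=
    ⟨linHom (isCharacter_of_isIrrCharacter χ.2) hχ1, fun g => rfl⟩
  obtain ⟨φ, hφ⟩ := hφ
  have hker : φ.ker ≠ ⊤ := by
    intro htop
    apply hne
    apply Subtype.ext
    funext g
    have hg : g ∈ φ.ker := by rw [htop]; trivial
    have hg1 : φ g = 1 := hg
    show (χ : G → ℂ) g = 1
    rw [← hφ g, hg1]
    rfl
  have hcent : φ.ker ≤ Subgroup.center G := hR4 _ (MonoidHom.normal_ker φ) hker
  haveI : Finite φ.range := Finite.of_surjective φ.rangeRestrict φ.rangeRestrict_surjective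
  haveI : IsCyclic φ.range := isCyclic_subgroup_units φ.range
  have hmc : IsMulCommutative G :=
    MonoidHom.isMulCommutative_of_isCyclic_of_ker_le_center φ.rangeRestrict
      (by rw [MonoidHom.ker_rangeRestrict]; exact hcent)
  have hcomm : ∀ a b : G, a * b = b * a := fun a b => hmc.is_comm.comm a b
  have hPn : (P : Subgroup G).Normal := by
    constructor
    intro n hn g
    rw [hcomm g n, mul_inv_cancel_right]
    exact hn
  exact hnn _ hPn hP

end Cfsg.Agent.Helper14.BRB
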