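import Mathlib
import Cfsg.Prelude.Def_Blocks
import Cfsg.Agent.Lib.Helper24.CharLinear
import Cfsg.Agent.Lib.Helper24.CharAlgebra
import Cfsg.Agent.Lib.Helper24.CharAbelian
import Cfsg.Agent.Lib.Helper10.BR996Defs

/-!
# S0996 piece PERF: a perfect group has no nontrivial linear character
-/

set_option autoImplicit false
set_option linter.unusedSectionVars false
set_option linter.unusedVariables false

namespace Cfsg.Agent.Helper10.BR996

open scoped ComplexConjugate
open Cfsg Cfsg.Agent.Helper24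

universe u

variable {G : Type u} [Group G] [Fintype G] [Fintype (IrrCharacter G)]
  (p : ℕ) [Fact p.Prime] (P : Subgroup G)

/-- PIECE PERF. -/
theorem eq_principal_of_degree_one (hperf : commutator G = ⊤) (χ : IrrCharacter G)
    (h1 : charDegree (χ : G → ℂ) = 1) : χ = principalChar G := by
  have hχ1 : (χ : G → ℂ) 1 = 1 := (charDegree_eq_one_iff χ.2).mp h1
  have hφ : ∃ φ : G →* ℂˣ, ∀ g, ((φ g : ℂˣ) : ℂ) = (χ : G → ℂ) g :=
    ⟨linHom (isCharacter_of_isIrrCharacter χ.2) hχ1, fun g => rfl⟩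
  obtain ⟨φ, hφ⟩ := hφ
  have hker : φ.ker = ⊤ := by
    rw [eq_top_iff, ← hperf]
    exact Abelianization.commutator_subset_ker φ
  apply Subtype.ext
  funext g
  have hg : g ∈ φ.ker := by rw [hker]; trivial
  have hg1 : φ g = 1 := hg
  show (χ : G → ℂ) g = 1
  rw [← hφ g, hg1]
  rfl

end Cfsg.Agent.Helper10.BR996
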