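import Mathlib
import Cfsg.Agent.Lib.Helper21.BTDefs

/-!
# S0997 (helper21's farm-out), PIECE NUMU (helper25): `χ(1) = u p + δ`, `A(χ) = u + δ`, `A(χ) ≤ χ(1)`, (WT).
-/

set_option autoImplicit false

namespace Cfsg.Agent.Helper21.BT

namespace Num

variable {ι : Type*} [Fintype ι] [DecidableEq ι] (N : Num ι)

namespace NUMU

/-- `1 ≤ p` -/
theorem p_pos : 1 ≤ N.p := N.hp.one_lt.le

/-- `w ≤ p - 1` -/
theorem w_le : N.w + 1 ≤ N.p := by
  have h := N.hwt
  have hp := N.hp.two_le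
  have ht : 1 ≤ N.t := by
    rcases Nat.eq_zero_or_pos N.t with h0 | h0
    · rw [h0, mul_zero] at h
      omega
    · exact h0
  have : N.w * 1 ≤ N.w * N.t := Nat.mul_le_mul_left _ ht
  omega

end NUMU

/-- PIECE NUMU: `χ(1) = u p + δ`, `A(χ) = u + δ` on `X`. -/
theorem exists_u {i : ι} (hi : i ∈ N.X) :
    ∃ u : ℕ, (N.deg i : ℤ) = u * N.p + N.sg i ∧ (N.a i : ℤ) = u + N.sg i ∧ (i ≠ N.one → 1 ≤ u) := by
  have hX := N.hwX i hi
  have hp : (1 : ℤ) ≤ N.p := by exact_mod_cast NUMU.p_pos N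
  have hd : (1 : ℤ) ≤ N.deg i := by exact_mod_cast N.deg_pos i
  rcases N.sg_pm i hi with hs | hs
  · rw [hs] at hX ⊢
    -- `p a = deg + p - 1`, so `a ≥ 1`
    have ha : 1 ≤ N.a i := by
      rcases Nat.eq_zero_or_pos (N.a i) with h0 | h0
      · rw [h0] at hX
        push_cast at hX
        linarith
      · exact h0
    obtain ⟨u, hu⟩ : ∃ u, N.a i = u + 1 := ⟨N.a i - 1, by omega⟩
    refine ⟨u, ?_, ?_, ?_⟩
    · rw [hu] at hX
      push_cast at hX
      linarith
    · rw [hu]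
      push_cast
      ring
    · intro hne
      rcases Nat.eq_zero_or_pos u with h0 | h0
      · exfalso
        apply hne
        apply N.eq_one
        rw [hu, h0] at hX
        push_cast at hX
        have : (N.deg i : ℤ) = 1 := by linarith
        exact_mod_cast this
      · exact h0
  · rw [hs] at hX ⊢
    refine ⟨N.a i + 1, ?_, ?_, fun _ => by omega⟩
    · push_cast
      linarith
    · push_cast
      ring

/-- PIECE NUMU: `A(χ) ≤ χ(1)`. -/
theorem a_le_deg (i : ι) : N.a i ≤ N.deg i := by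
  have hp := NUMU.p_pos N
  have hd := N.deg_pos i
  by_cases hX : i ∈ N.X
  · obtain ⟨u, h1, h2, -⟩ := N.exists_u hX
    have hpz : (1 : ℤ) ≤ N.p := by exact_mod_cast hp
    have hu : (0 : ℤ) ≤ u := by positivity
    have : (N.a i : ℤ) ≤ N.deg i := by
      rw [h1, h2]
      nlinarith
    exact_mod_cast this
  · by_cases hY : i ∈ N.Y
    · have h := N.hwY i hY
      have hw := NUMU.w_le N
      by_contra hlt
      push Not at hlt
      have h1 : (N.deg i : ℤ) + 1 ≤ N.a i := by exact_mod_cast hlt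
      have hpz : (1 : ℤ) ≤ N.p := by exact_mod_cast hp
      have hdz : (1 : ℤ) ≤ N.deg i := by exact_mod_cast hd
      have hwz : (N.w : ℤ) + 1 ≤ N.p := by exact_mod_cast hw
      have hw0 : (0 : ℤ) ≤ N.w := by positivity
      have h2 : (N.p : ℤ) * ((N.deg i : ℤ) + 1) ≤ N.p * N.a i :=
        mul_le_mul_of_nonneg_left h1 (by linarith)
      rcases N.d0_pm with h0 | h0
      · rw [h0] at h
        nlinarith
      · rw [h0] at h
        nlinarith
    · have h := N.hwD i hX hY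
      calc N.a i = 1 * N.a i := (one_mul _).symm
        _ ≤ N.p * N.a i := Nat.mul_le_mul_right _ hp
        _ = N.deg i := h

/-- PIECE NUMU (WT): `∑_X δ A(χ) + δ₀ A(θ) = w`  (sum `hwX` over `X`, add `hwY`, use `degeq`). -/
theorem weight_sum {j : ι} (hj : j ∈ N.Y) :
    ∑ i ∈ N.X, N.sg i * (N.a i : ℤ) + N.d0 * (N.a j : ℤ) = N.w := by
  have hp0 : (N.p : ℤ) ≠ 0 := by
    have := NUMU.p_pos N
    have : N.p ≠ 0 := by omega
    exact_mod_cast this
  have hsum : ∑ i ∈ N.X, (N.p : ℤ) * (N.sg i * (N.a i : ℤ)) =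
      ∑ i ∈ N.X, (N.sg i * (N.deg i : ℤ) + ((N.p : ℤ) - 1)) := by
    refine Finset.sum_congr rfl fun i hi => ?_
    have h := N.hwX i hi
    have hs2 : N.sg i * N.sg i = 1 := by
      rcases N.sg_pm i hi with hs | hs <;> rw [hs] <;> norm_num
    calc (N.p : ℤ) * (N.sg i * (N.a i : ℤ)) = N.sg i * ((N.p : ℤ) * N.a i) := by ring
      _ = N.sg i * ((N.deg i : ℤ) + N.sg i * ((N.p : ℤ) - 1)) := by rw [h]
      _ = N.sg i * (N.deg i : ℤ) + (N.sg i * N.sg i) * ((N.p : ℤ) - 1) := by ring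
      _ = _ := by rw [hs2, one_mul]
  have hY := N.hwY j hj
  have hd2 : N.d0 * N.d0 = 1 := by
    rcases N.d0_pm with hs | hs <;> rw [hs] <;> norm_num
  have hdeg := N.degeq j hj
  have hcard : ∑ _i ∈ N.X, ((N.p : ℤ) - 1) = (N.w : ℤ) * ((N.p : ℤ) - 1) := by
    rw [Finset.sum_const, N.cardX, nsmul_eq_mul]
  have key : (N.p : ℤ) * (∑ i ∈ N.X, N.sg i * (N.a i : ℤ) + N.d0 * (N.a j : ℤ)) = N.p * N.w := by
    rw [mul_add, Finset.mul_sum, hsum, Finset.sum_add_distrib, hcard]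
    have e : (N.p : ℤ) * (N.d0 * (N.a j : ℤ)) = N.d0 * (N.deg j : ℤ) + N.d0 * N.d0 * N.w := by
      calc (N.p : ℤ) * (N.d0 * (N.a j : ℤ)) = N.d0 * ((N.p : ℤ) * N.a j) := by ring
        _ = N.d0 * ((N.deg j : ℤ) + N.d0 * N.w) := by rw [hY]
        _ = _ := by ring
    rw [e, hd2]
    linear_combination hdeg
  exact mul_left_cancel₀ hp0 key

end Num

end Cfsg.Agent.Helper21.BT
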