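import Mathlib
import Cfsg.Agent.Lib.Helper21.BTDefs
import Cfsg.Agent.Lib.Helper25.BTNUMU

/-!
# S0997 (helper21's farm-out), PIECE NUMB2A (helper25): case `d0 = +1`, `w = 2^c`, `c ≥ 2` forces `t = 2`.
-/

set_option autoImplicit false

namespace Cfsg.Agent.Helper21.BT

namespace Num

variable {ι : Type*} [Fintype ι] [DecidableEq ι] (N : Num ι)

/-- PIECE NUMB2A (section 5 (B2), first half: the congruence modulo 4 forces `t = 2`). -/
theorem caseB2_t {x0 : ℕ} (hS : N.Struct x0) (hd0 : N.d0 = 1) (hxw : x0 + N.w = N.p)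
    (haY : ∀ j ∈ N.Y, N.a j = 1) (hq2 : N.q = 2) (c : ℕ) (hc : 2 ≤ c) (hwc : N.w = 2 ^ c) :
    N.t = 2 := by
  have ht2 := hS.ht
  have hone : N.one ∈ N.X := N.one_memX ht2
  have hsg1 := N.sg_one hone
  obtain ⟨j, hj⟩ : N.Y.Nonempty := by
    rw [← Finset.card_pos, N.cardY]
    omega
  have hWT := N.weight_sum hj
  rw [hd0, haY j hj] at hWT
  push_cast at hWT
  -- `4 ∣ w`
  obtain ⟨w', hw'⟩ : ∃ w', N.w = 4 * w' := by
    refine ⟨2 ^ (c - 2), ?_⟩
    rw [hwc]
    obtain ⟨e, rfl⟩ : ∃ e, c = e + 2 := ⟨c - 2, by omega⟩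
    rw [Nat.add_sub_cancel, pow_succ, pow_succ]
    ring
  have hw'1 : 1 ≤ w' := by
    have := N.hw
    omega
  have hp4 : N.p = 4 * (w' * N.t) + 1 := by
    rw [N.hwt, hw']
    ring
  -- `a one = 1`
  have ha1 : N.a N.one = 1 := by
    have h := N.hwX N.one hone
    rw [hsg1, N.deg_one] at h
    have hp0 : (N.p : ℤ) ≠ 0 := by
      have := NUMU.p_pos N
      have : N.p ≠ 0 := by omega
      exact_mod_cast this
    have h2 : (N.p : ℤ) * (N.a N.one : ℤ) = N.p * 1 := by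
      rw [h]
      push_cast
      ring
    have h3 := mul_left_cancel₀ hp0 h2
    exact_mod_cast h3
  -- the sum over `X ∖ {one}`
  have hsplit : ∑ i ∈ N.X.erase N.one, N.sg i * (N.a i : ℤ) = (N.w : ℤ) - 2 := by
    have h := Finset.add_sum_erase N.X (fun i => N.sg i * (N.a i : ℤ)) hone
    simp only [hsg1, ha1] at h
    push_cast at h
    linarith
  -- each member of `X ∖ {one}`
  have hkey : ∀ i ∈ N.X.erase N.one, ∃ u : ℕ, (N.deg i : ℤ) = u * N.p + N.sg i ∧
      (N.a i : ℤ) = u + N.sg i ∧ 1 ≤ u ∧ N.deg i = 4 * (w' * N.t * u) + N.a i := by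
    intro i hi
    rw [Finset.mem_erase] at hi
    obtain ⟨u, h1, h2, h3⟩ := N.exists_u hi.2
    refine ⟨u, h1, h2, h3 hi.1, ?_⟩
    have : (N.deg i : ℤ) = 4 * ((w' : ℤ) * N.t * u) + N.a i := by
      rw [h1, h2, hp4]
      push_cast
      ring
    exact_mod_cast this
  -- some `a i ≡ 2 (mod 4)`
  have hex : ∃ i ∈ N.X.erase N.one, N.a i % 4 = 2 := by
    by_contra hno
    push Not at hno
    have hdvd : (4 : ℤ) ∣ ∑ i ∈ N.X.erase N.one, N.sg i * (N.a i : ℤ) := by
      refine Finset.dvd_sum fun i hi => ?_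
      obtain ⟨u, -, -, -, h4⟩ := hkey i hi
      have hi' := Finset.mem_erase.mp hi
      have heven : 2 ∣ N.deg i := by
        have := hS.hqX i hi'.2 hi'.1
        rwa [hq2] at this
      have hne := hno i hi
      have h40 : N.a i % 4 = 0 := by omega
      have : (4 : ℤ) ∣ (N.a i : ℤ) := by exact_mod_cast Nat.dvd_of_mod_eq_zero h40
      exact Dvd.dvd.mul_left this _
    rw [hsplit, hw'] at hdvd
    push_cast at hdvd
    omega
  obtain ⟨i, hi, hai⟩ := hex
  obtain ⟨u, h1, h2, hu1, h4⟩ := hkey i hi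
  have hi' := Finset.mem_erase.mp hi
  have hD4 : N.deg i % 4 = 2 := by omega
  -- `p ∤ deg i`
  have hp := N.hp
  have hpD : ¬ N.p ∣ N.deg i := by
    intro hd
    have hdz : (N.p : ℤ) ∣ (N.deg i : ℤ) := by exact_mod_cast hd
    rw [h1] at hdz
    have hsgd : (N.p : ℤ) ∣ N.sg i := (dvd_add_right (Dvd.intro_left _ rfl)).mp hdz
    have h1' : (N.p : ℤ) ∣ 1 := by
      rcases N.sg_pm i hi'.2 with hs | hs
      · rwa [hs] at hsgd
      · rw [hs] at hsgd
        exact (dvd_neg).mp hsgd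
    have : N.p ∣ 1 := by exact_mod_cast h1'
    exact hp.one_lt.ne' (Nat.dvd_one.1 this)
  -- `deg i = 2 d`, `d` odd, `d ∣ x0`
  obtain ⟨d, hd⟩ : ∃ d, N.deg i = 2 * d := ⟨N.deg i / 2, by omega⟩
  have hdodd : d % 2 = 1 := by omega
  have hdD : d ∣ N.deg i := ⟨2, by rw [hd]; ring⟩
  have hcop2 : Nat.Coprime d 2 := by
    rw [Nat.coprime_comm, Nat.Prime.coprime_iff_not_dvd Nat.prime_two]
    omega
  have hcopp : Nat.Coprime d N.p := by
    rw [Nat.coprime_comm, Nat.Prime.coprime_iff_not_dvd hp]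
    exact fun h => hpD (h.trans hdD)
  have hcop : Nat.Coprime d (N.p * 2 ^ N.b) := Nat.Coprime.mul_right hcopp (Nat.Coprime.pow_right _ hcop2)
  have hdx : d ∣ x0 := by
    have h := hdD.trans (N.hdvd i)
    rw [hq2, hS.hg] at h
    exact hcop.dvd_of_dvd_mul_left h
  have hwle := NUMU.w_le N
  have hx0 : 0 < x0 := by omega
  have hdle : d ≤ x0 := Nat.le_of_dvd hx0 hdx
  -- `u = 1`
  have hu : u = 1 := by
    by_contra hne
    have hu2 : 2 ≤ u := by omega
    have hpz : (0 : ℤ) ≤ N.p := by positivity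
    have h5 : (2 : ℤ) * N.p - 1 ≤ N.deg i := by
      rw [h1]
      have : (2 : ℤ) ≤ u := by exact_mod_cast hu2
      rcases N.sg_pm i hi'.2 with hs | hs <;> rw [hs] <;> nlinarith
    have h6 : (N.deg i : ℤ) ≤ 2 * x0 := by
      have : N.deg i ≤ 2 * x0 := by omega
      exact_mod_cast this
    have h7 : (x0 : ℤ) + N.w = N.p := by exact_mod_cast hxw
    have h8 : (4 : ℤ) ≤ N.w := by
      have : 4 ≤ N.w := by omega
      exact_mod_cast this
    linarith
  rw [hu] at h1
  -- `sg i = 1`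
  have hs1 : N.sg i = 1 := by
    rcases N.sg_pm i hi'.2 with hs | hs
    · exact hs
    · exfalso
      rw [hs] at h1
      have : (N.deg i : ℤ) = 4 * ((w' : ℤ) * N.t) := by
        rw [h1, hp4]
        push_cast
        ring
      have h9 : N.deg i = 4 * (w' * N.t) := by exact_mod_cast this
      omega
  rw [hs1] at h1
  have hD : N.deg i = N.p + 1 := by
    have : (N.deg i : ℤ) = ((N.p + 1 : ℕ) : ℤ) := by
      rw [h1]
      push_cast
      ring
    exact_mod_cast this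
  -- `d ∣ w + 1`
  have hdw : d ∣ N.w + 1 := by
    have h := Nat.dvd_sub hdD hdx
    have e : N.deg i - x0 = N.w + 1 := by omega
    rwa [e] at h
  have hdle2 : d ≤ N.w + 1 := Nat.le_of_dvd (by omega) hdw
  have hd' : d = 2 * (w' * N.t) + 1 := by omega
  have hfin : w' * N.t ≤ w' * 2 := by omega
  have := Nat.le_of_mul_le_mul_left hfin hw'1
  omega

end Num

end Cfsg.Agent.Helper21.BT
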