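import Mathlib
import Cfsg.Prelude.Def_FusionSystem

set_option autoImplicit false

namespace Cfsg.Agent.Helper25

open Cfsg Cfsg.FusionSystem

variable {Ω : Type*} [Group Ω] {S : Subgroup Ω}

/-- Extensionality for fusion systems: equal `Hom` sets give equal systems. -/
theorem fs_ext {F E : FusionSystem S} (h : ∀ P : Subgroup Ω, F.Hom P = E.Hom P) : F = E := by
  cases F; cases E
  simp only [FusionSystem.mk.injEq]
  funext P
  exact h P

theorem conjHom_apply (P : Subgroup Ω) (g : Ω) (x : P) : conjHom P g x = g * (x : Ω) * g⁻¹ := rfl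

theorem conjHom_one (P : Subgroup Ω) : conjHom P 1 = P.subtype := by
  ext x; simp [conjHom_apply]

/-- The inclusion of a subgroup of `S` is a map of the system. -/
theorem subtype_mem (F : FusionSystem S) {P : Subgroup Ω} (hP : P ≤ S) : P.subtype ∈ F.Hom P := by
  have := F.conj_mem (g := 1) hP S.one_mem
  rwa [conjHom_one] at this

/-- Restriction of a map of the system to a smaller subgroup. -/
theorem restrict_mem (F : FusionSystem S) {P Q : Subgroup Ω} (hQP : Q ≤ P) {φ : P →* Ω}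
    (hφ : φ ∈ F.Hom P) : φ.comp (Subgroup.inclusion hQP) ∈ F.Hom Q := by
  have hPS := (F.le_of_mem hφ).1
  have h1 : Q.subtype ∈ F.Hom Q := subtype_mem F (hQP.trans hPS)
  have h2 := F.comp_mem h1 hφ (fun x => hQP x.2)
  have : φ.comp (Subgroup.inclusion hQP) = φ.comp (Q.subtype.codRestrict P fun x => hQP x.2) := by
    ext x; rfl
  rw [this]; exact h2

/-- Transport of a map along an equality of sources. -/
theorem hom_transport (F : FusionSystem S) {P Q : Subgroup Ω} (h : Q = P) {φ : P →* Ω}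
    (hφ : φ ∈ F.Hom P) : φ.comp (Subgroup.inclusion h.le) ∈ F.Hom Q :=
  restrict_mem F h.le hφ

/-- Composition, in a convenient form. -/
theorem comp_mem' (F : FusionSystem S) {P Q : Subgroup Ω} {φ : P →* Ω} {ψ : Q →* Ω}
    (hφ : φ ∈ F.Hom P) (hψ : ψ ∈ F.Hom Q) (h : ∀ x : P, φ x ∈ Q) {χ : P →* Ω}
    (hχ : ∀ x : P, χ x = ψ ⟨φ x, h x⟩) : χ ∈ F.Hom P := by
  have := F.comp_mem hφ hψ h
  have e : χ = ψ.comp (φ.codRestrict Q h) := by
    ext x; rw [hχ]; rfl
  rw [e]; exact this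

/-- Inverse of a map of the system whose image is `Q`. -/
theorem exists_inv (F : FusionSystem S) {P Q : Subgroup Ω} {φ : P →* Ω} (hφ : φ ∈ F.Hom P)
    (hQ : φ.range = Q) :
    ∃ ψ ∈ F.Hom Q, (∀ (x : P) (h : φ x ∈ Q), ψ ⟨φ x, h⟩ = x) ∧ ψ.range = P := by
  subst hQ
  obtain ⟨ψ, hψ, hinv⟩ := F.inv_mem hφ
  refine ⟨ψ, hψ, fun x h => hinv x, ?_⟩
  ext y
  constructor
  · rintro ⟨⟨_, x, rfl⟩, rfl⟩
    rw [hinv x]; exact x.2
  · intro hy
    exact ⟨⟨φ ⟨y, hy⟩, ⟨y, hy⟩, rfl⟩, hinv ⟨y, hy⟩⟩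

theorem isConj_refl (F : FusionSystem S) {P : Subgroup Ω} (hP : P ≤ S) : F.IsConj P P :=
  ⟨P.subtype, subtype_mem F hP, Subgroup.range_subtype P⟩

theorem isConj_symm (F : FusionSystem S) {P Q : Subgroup Ω} (h : F.IsConj P Q) : F.IsConj Q P := by
  obtain ⟨φ, hφ, hQ⟩ := h
  obtain ⟨ψ, hψ, -, hr⟩ := exists_inv F hφ hQ
  exact ⟨ψ, hψ, hr⟩

theorem isConj_trans (F : FusionSystem S) {P Q R : Subgroup Ω} (h₁ : F.IsConj P Q)
    (h₂ : F.IsConj Q R) : F.IsConj P R := by
  obtain ⟨φ, hφ, hQ⟩ := h₁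
  obtain ⟨ψ, hψ, hR⟩ := h₂
  subst hQ
  refine ⟨ψ.comp (φ.codRestrict φ.range fun x => ⟨x, rfl⟩), F.comp_mem hφ hψ _, ?_⟩
  rw [← hR]
  ext y
  constructor
  · rintro ⟨x, rfl⟩; exact ⟨_, rfl⟩
  · rintro ⟨⟨_, x, rfl⟩, rfl⟩; exact ⟨x, rfl⟩

theorem isConj_le_left (F : FusionSystem S) {P Q : Subgroup Ω} (h : F.IsConj P Q) : P ≤ S := by
  obtain ⟨φ, hφ, -⟩ := h
  exact (F.le_of_mem hφ).1

theorem isConj_le_right (F : FusionSystem S) {P Q : Subgroup Ω} (h : F.IsConj P Q) : Q ≤ S := by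
  obtain ⟨φ, hφ, rfl⟩ := h
  rintro _ ⟨x, rfl⟩
  exact (F.le_of_mem hφ).2 x

/-- Membership in `Aut_F(P)` for `P ≤ S`: the closure in the definition is the set itself. -/
theorem mem_autGroup_iff (F : FusionSystem S) {P : Subgroup Ω} (hP : P ≤ S) (α : MulAut P) :
    α ∈ F.autGroup P ↔ P.subtype.comp α.toMonoidHom ∈ F.Hom P := by
  constructor
  · intro h
    unfold FusionSystem.autGroup at h
    induction h using Subgroup.closure_induction with
    | mem x hx => exact hx
    | one =>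
      have : P.subtype.comp (1 : MulAut P).toMonoidHom = P.subtype := by ext x; rfl
      rw [this]; exact subtype_mem F hP
    | mul a b _ _ ha hb =>
      refine comp_mem' F hb ha (fun x => (b x).2) (fun x => ?_)
      rfl
    | inv a _ ha =>
      obtain ⟨ψ, hψ, hinv, -⟩ := exists_inv F ha (Q := P) (by
        ext y
        constructor
        · rintro ⟨x, rfl⟩; exact (a x).2
        · intro hy
          exact ⟨a⁻¹ ⟨y, hy⟩, by simp⟩)
      have : P.subtype.comp (a⁻¹ : MulAut P).toMonoidHom = ψ := by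
        ext y
        have := hinv (a⁻¹ y) (by simp)
        simp only [MonoidHom.coe_comp, Subgroup.coe_subtype, MulEquiv.coe_toMonoidHom,
          Function.comp_apply, MulAut.apply_inv_self, Subtype.coe_eta] at this
        simp [this]
      rw [this]; exact hψ
  · intro h
    exact Subgroup.subset_closure h

/-- Membership in `Aut_K(P)`: the closure in the definition is the set itself. -/
theorem mem_autInducedBy_iff {K P : Subgroup Ω} (α : MulAut P) :
    α ∈ autInducedBy K P ↔ ∃ g ∈ K, ∀ x : P, ((α x : P) : Ω) = g * (x : Ω) * g⁻¹ := by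
  constructor
  · intro h
    unfold autInducedBy at h
    induction h using Subgroup.closure_induction with
    | mem x hx => exact hx
    | one => exact ⟨1, K.one_mem, fun x => by simp⟩
    | mul a b _ _ ha hb =>
      obtain ⟨g, hg, hga⟩ := ha
      obtain ⟨k, hk, hkb⟩ := hb
      refine ⟨g * k, K.mul_mem hg hk, fun x => ?_⟩
      rw [MulAut.mul_apply, hga, hkb]
      simp [mul_assoc]
    | inv a _ ha =>
      obtain ⟨g, hg, hga⟩ := ha
      refine ⟨g⁻¹, K.inv_mem hg, fun x => ?_⟩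
      have := hga (a⁻¹ x)
      rw [MulAut.apply_inv_self] at this
      rw [this]
      simp [mul_assoc]
  · intro h
    exact Subgroup.subset_closure h

/-- Membership in the extender `N_φ`: the closure in the definition is the set itself. -/
theorem mem_extender_iff {P : Subgroup Ω} (φ : P →* Ω) (g : Ω) :
    g ∈ extender S P φ ↔ g ∈ S ∧ g ∈ Subgroup.normalizer (P : Set Ω) ∧
      ∃ h ∈ S, ∀ (x : P) (hx : g * (x : Ω) * g⁻¹ ∈ P), φ ⟨g * x * g⁻¹, hx⟩ = h * φ x * h⁻¹ := by
  constructor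
  · intro hg
    unfold extender at hg
    induction hg using Subgroup.closure_induction with
    | mem x hx => exact hx
    | one =>
      refine ⟨S.one_mem, Subgroup.one_mem _, 1, S.one_mem, fun x hx => ?_⟩
      have : (⟨1 * (x : Ω) * 1⁻¹, hx⟩ : P) = x := Subtype.ext (by simp)
      rw [this]; simp
    | mul a b _ _ ha hb =>
      obtain ⟨haS, haN, h, hh, hah⟩ := ha
      obtain ⟨hbS, hbN, k, hk, hbk⟩ := hb
      refine ⟨S.mul_mem haS hbS, Subgroup.mul_mem _ haN hbN, h * k, S.mul_mem hh hk, fun x hx => ?_⟩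
      have hbx : b * (x : Ω) * b⁻¹ ∈ P := (Subgroup.mem_normalizer_iff.mp hbN x).mp x.2
      have e : (⟨a * b * (x : Ω) * (a * b)⁻¹, hx⟩ : P) =
          ⟨a * ((⟨b * (x : Ω) * b⁻¹, hbx⟩ : P) : Ω) * a⁻¹, by
            simpa [mul_assoc] using hx⟩ := Subtype.ext (by simp [mul_assoc])
      rw [e, hah, hbk]
      simp [mul_assoc]
    | inv a _ ha =>
      obtain ⟨haS, haN, h, hh, hah⟩ := ha
      refine ⟨S.inv_mem haS, Subgroup.inv_mem _ haN, h⁻¹, S.inv_mem hh, fun x hx => ?_⟩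
      have := hah ⟨a⁻¹ * (x : Ω) * a⁻¹⁻¹, hx⟩ (by simp [mul_assoc])
      have e : (⟨a * ((⟨a⁻¹ * (x : Ω) * a⁻¹⁻¹, hx⟩ : P) : Ω) * a⁻¹, by simp [mul_assoc]⟩ : P) = x :=
        Subtype.ext (by simp [mul_assoc])
      rw [e] at this
      rw [this]
      simp [mul_assoc]
  · intro h
    exact Subgroup.subset_closure h

theorem mem_centralizerIn {S P : Subgroup Ω} {g : Ω} :
    g ∈ centralizerIn S P ↔ g ∈ S ∧ ∀ x ∈ P, x * g = g * x := by
  unfold centralizerIn
  rw [Subgroup.mem_inf, Subgroup.mem_centralizer_iff]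
  rfl

theorem mem_normalizerIn {S P : Subgroup Ω} {g : Ω} :
    g ∈ normalizerIn S P ↔ g ∈ S ∧ g ∈ Subgroup.normalizer (P : Set Ω) := by
  unfold normalizerIn
  rw [Subgroup.mem_inf]

theorem centralizerIn_le {S P : Subgroup Ω} : centralizerIn S P ≤ S := inf_le_left

theorem normalizerIn_le {S P : Subgroup Ω} : normalizerIn S P ≤ S := inf_le_left

theorem centralizerIn_le_normalizerIn {S P : Subgroup Ω} : centralizerIn S P ≤ normalizerIn S P := by
  intro g hg
  exact ⟨hg.1, Subgroup.centralizer_le_normalizer _ hg.2⟩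

theorem le_normalizerIn {S P : Subgroup Ω} (hP : P ≤ S) : P ≤ normalizerIn S P := by
  intro g hg
  exact ⟨hP hg, Subgroup.le_normalizer hg⟩

end Cfsg.Agent.Helper25
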