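import Mathlib
import Cfsg.Prelude.Def_RootSubgroups

set_option autoImplicit false

namespace Cfsg.Agent.Helper25

variable {G : Type*} [Group G]

theorem mem_conjBy {A : Subgroup G} {g x : G} : x ∈ Cfsg.conjBy A g ↔ g⁻¹ * x * g ∈ A := by
  unfold Cfsg.conjBy
  constructor
  · rintro ⟨y, hy, rfl⟩
    simpa [mul_assoc] using hy
  · intro h
    refine ⟨g⁻¹ * x * g, h, ?_⟩
    simp [mul_assoc]

theorem conjBy_one (A : Subgroup G) : Cfsg.conjBy A 1 = A := by
  ext x; simp [mem_conjBy]

theorem conjBy_conjBy (A : Subgroup G) (g h : G) :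
    Cfsg.conjBy (Cfsg.conjBy A g) h = Cfsg.conjBy A (h * g) := by
  ext x; simp [mem_conjBy, mul_assoc]

theorem conjBy_of_mem {A : Subgroup G} {a : G} (ha : a ∈ A) : Cfsg.conjBy A a = A := by
  ext x
  rw [mem_conjBy]
  constructor
  · intro h
    have := A.mul_mem (A.mul_mem ha h) (A.inv_mem ha)
    simpa [mul_assoc] using this
  · intro h
    exact A.mul_mem (A.mul_mem (A.inv_mem ha) h) ha

theorem conjBy_eq_iff {A B : Subgroup G} {g : G} : Cfsg.conjBy A g = B ↔ A = Cfsg.conjBy B g⁻¹ := by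
  constructor
  · rintro rfl; rw [conjBy_conjBy]; simp [conjBy_one]
  · rintro rfl; rw [conjBy_conjBy]; simp [conjBy_one]

theorem conjBy_injective (g : G) : Function.Injective (fun A : Subgroup G => Cfsg.conjBy A g) := by
  intro A B h
  have h' : Cfsg.conjBy A g = Cfsg.conjBy B g := h
  have := congrArg (fun C => Cfsg.conjBy C g⁻¹) h'
  simpa [conjBy_conjBy, conjBy_one] using this

theorem mem_normalizer_iff_conjBy {A : Subgroup G} {g : G} :
    g ∈ Subgroup.normalizer (A : Set G) ↔ Cfsg.conjBy A g = A := by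
  constructor
  · intro hg
    ext x
    rw [mem_conjBy]
    have hg' : g⁻¹ ∈ Subgroup.normalizer (A : Set G) := Subgroup.inv_mem _ hg
    rw [Subgroup.mem_normalizer_iff] at hg'
    have := hg' x
    simp only [inv_inv] at this
    exact this.symm
  · intro h
    rw [Subgroup.mem_normalizer_iff]
    intro x
    have h1 : g * x * g⁻¹ ∈ Cfsg.conjBy A g ↔ x ∈ A := by
      rw [mem_conjBy]; simp [mul_assoc]
    rw [h] at h1
    exact h1.symm

end Cfsg.Agent.Helper25
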