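import Mathlib
import Cfsg.Agent.Lib.Helper25.ConjBy

set_option autoImplicit false

namespace Cfsg.Agent.Helper25

open scoped Pointwise

variable {G : Type*} [Group G]

/-- `H` is a Sylow `p`-subgroup of `K` (both subgroups of `G`), in maximality form. -/
def IsSylowIn (p : ℕ) (H K : Subgroup G) : Prop :=
  H ≤ K ∧ IsPGroup p H ∧ ∀ L : Subgroup G, L ≤ K → IsPGroup p L → H ≤ L → L = H

theorem isPGroup_subgroupOf {p : ℕ} {H : Subgroup G} (K : Subgroup G) (hH : IsPGroup p H) :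
    IsPGroup p (H.subgroupOf K) :=
  hH.comap_of_injective K.subtype K.subtype_injective

theorem isPGroup_of_subgroupOf {p : ℕ} {H K : Subgroup G} (hHK : H ≤ K)
    (h : IsPGroup p (H.subgroupOf K)) : IsPGroup p H := by
  have := h.map K.subtype
  rwa [Subgroup.map_subgroupOf_eq_of_le hHK] at this

theorem subgroupOf_injective_of_le {H L K : Subgroup G} (hH : H ≤ K) (hL : L ≤ K)
    (h : H.subgroupOf K = L.subgroupOf K) : H = L := by
  rw [← Subgroup.map_subgroupOf_eq_of_le hH, ← Subgroup.map_subgroupOf_eq_of_le hL, h]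

/-- Bridge between `IsSylowIn` and Mathlib's `Sylow` structure of the subgroup-as-type. -/
theorem isSylowIn_iff_exists_sylow {p : ℕ} {H K : Subgroup G} (hHK : H ≤ K) :
    IsSylowIn p H K ↔ ∃ R : Sylow p K, (R : Subgroup K) = H.subgroupOf K := by
  constructor
  · rintro ⟨-, hp, hmax⟩
    refine ⟨⟨H.subgroupOf K, isPGroup_subgroupOf K hp, ?_⟩, rfl⟩
    intro Q hQ hle
    have hL : Q.map K.subtype ≤ K := by
      rintro _ ⟨x, -, rfl⟩; exact x.2
    have hHL : H ≤ Q.map K.subtype := by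
      intro x hx
      exact ⟨⟨x, hHK hx⟩, hle (Subgroup.mem_subgroupOf.mpr hx), rfl⟩
    have := hmax _ hL (hQ.map _) hHL
    rw [← this]
    exact (Subgroup.comap_map_eq_self_of_injective K.subtype_injective Q).symm
  · rintro ⟨R, hR⟩
    have hp : IsPGroup p H := isPGroup_of_subgroupOf hHK (hR ▸ R.isPGroup')
    refine ⟨hHK, hp, fun L hLK hL hHL => ?_⟩
    have h1 : L.subgroupOf K = R := by
      apply R.is_maximal' (isPGroup_subgroupOf K hL)
      rw [hR]
      exact Subgroup.subgroupOf_mono K hHL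
    rw [hR] at h1
    exact subgroupOf_injective_of_le hLK hHK h1

theorem IsSylowIn.le {p : ℕ} {H K : Subgroup G} (h : IsSylowIn p H K) : H ≤ K := h.1

theorem IsSylowIn.isPGroup {p : ℕ} {H K : Subgroup G} (h : IsSylowIn p H K) : IsPGroup p H := h.2.1

/-- A Sylow subgroup of `K` contained in an intermediate subgroup `M` is Sylow in `M`. -/
theorem IsSylowIn.of_le {p : ℕ} {H M K : Subgroup G} (h : IsSylowIn p H K) (hHM : H ≤ M) (hMK : M ≤ K) :
    IsSylowIn p H M :=
  ⟨hHM, h.2.1, fun L hLM hL hHL => h.2.2 L (hLM.trans hMK) hL hHL⟩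

theorem conjBy_mono {A B : Subgroup G} (h : A ≤ B) (g : G) : Cfsg.conjBy A g ≤ Cfsg.conjBy B g :=
  Subgroup.map_mono h

theorem isPGroup_conjBy {p : ℕ} {H : Subgroup G} (hH : IsPGroup p H) (g : G) :
    IsPGroup p (Cfsg.conjBy H g) := hH.map _

theorem card_conjBy (H : Subgroup G) (g : G) : Nat.card (Cfsg.conjBy H g) = Nat.card H :=
  Subgroup.card_map_of_injective (MulAut.conj g).injective

theorem conjBy_inv_conjBy (A : Subgroup G) (g : G) : Cfsg.conjBy (Cfsg.conjBy A g) g⁻¹ = A := by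
  rw [conjBy_conjBy]; simp [conjBy_one]

theorem conjBy_conjBy_inv (A : Subgroup G) (g : G) : Cfsg.conjBy (Cfsg.conjBy A g⁻¹) g = A := by
  rw [conjBy_conjBy]; simp [conjBy_one]

theorem conjBy_le_iff {A B : Subgroup G} {g : G} : Cfsg.conjBy A g ≤ B ↔ A ≤ Cfsg.conjBy B g⁻¹ := by
  constructor
  · intro h
    have := conjBy_mono h g⁻¹
    rwa [conjBy_inv_conjBy] at this
  · intro h
    have := conjBy_mono h g
    rwa [conjBy_conjBy_inv] at this

/-- Conjugation transports Sylow-ness. -/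
theorem IsSylowIn.conj {p : ℕ} {H K : Subgroup G} (h : IsSylowIn p H K) (g : G) :
    IsSylowIn p (Cfsg.conjBy H g) (Cfsg.conjBy K g) := by
  refine ⟨conjBy_mono h.1 g, isPGroup_conjBy h.2.1 g, fun L hLK hL hHL => ?_⟩
  have h1 : Cfsg.conjBy L g⁻¹ ≤ K := by
    have := conjBy_mono hLK g⁻¹; rwa [conjBy_inv_conjBy] at this
  have h2 : H ≤ Cfsg.conjBy L g⁻¹ := by
    have := conjBy_mono hHL g⁻¹; rwa [conjBy_inv_conjBy] at this
  have h3 := h.2.2 _ h1 (isPGroup_conjBy hL g⁻¹) h2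
  rw [← h3, conjBy_conjBy_inv]

/-- Existence of a Sylow subgroup of `K` containing a given `p`-subgroup. -/
theorem exists_isSylowIn_ge {p : ℕ} {L K : Subgroup G} (hLK : L ≤ K) (hL : IsPGroup p L) :
    ∃ H, IsSylowIn p H K ∧ L ≤ H := by
  obtain ⟨R, hR⟩ := (isPGroup_subgroupOf K hL).exists_le_sylow
  refine ⟨(R : Subgroup K).map K.subtype, ?_, ?_⟩
  · have hle : (R : Subgroup K).map K.subtype ≤ K := by
      rintro _ ⟨x, -, rfl⟩; exact x.2
    rw [isSylowIn_iff_exists_sylow hle]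
    refine ⟨R, ?_⟩
    exact (Subgroup.comap_map_eq_self_of_injective K.subtype_injective _).symm
  · intro x hx
    exact ⟨⟨x, hLK hx⟩, hR (Subgroup.mem_subgroupOf.mpr hx), rfl⟩

/-- Sylow's second theorem inside `K`: a `p`-subgroup of `K` is conjugate by an element of `K` into a
given Sylow subgroup of `K`. -/
theorem IsSylowIn.exists_conj_le [Finite G] {p : ℕ} [Fact p.Prime] {H K L : Subgroup G}
    (h : IsSylowIn p H K) (hLK : L ≤ K) (hL : IsPGroup p L) :
    ∃ k ∈ K, Cfsg.conjBy L k ≤ H := by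
  obtain ⟨R, hR⟩ := (isSylowIn_iff_exists_sylow h.1).mp h
  obtain ⟨R', hR'⟩ := (isPGroup_subgroupOf K hL).exists_le_sylow
  obtain ⟨k, hk⟩ := MulAction.exists_smul_eq K R' R
  refine ⟨k, k.2, ?_⟩
  intro y hy
  rw [mem_conjBy] at hy
  have h1 : (⟨_, hLK hy⟩ : K) ∈ (R' : Subgroup K) := hR' (Subgroup.mem_subgroupOf.mpr hy)
  have h2 : MulAut.conj k • (⟨_, hLK hy⟩ : K) ∈ MulAut.conj k • (R' : Subgroup K) :=
    Subgroup.smul_mem_pointwise_smul _ _ _ h1
  have hk' : MulAut.conj k • (R' : Subgroup K) = (R : Subgroup K) := by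
    rw [← Sylow.coe_subgroup_smul, hk]
  rw [hk', hR, Subgroup.mem_subgroupOf] at h2
  have h4 : ((MulAut.conj k • (⟨(k : G)⁻¹ * y * k, hLK hy⟩ : K) : K) : G) = y := by
    show (k : G) * ((k : G)⁻¹ * y * k) * (k : G)⁻¹ = y
    group
  rwa [h4] at h2

theorem IsSylowIn.card_le [Finite G] {p : ℕ} [Fact p.Prime] {H K L : Subgroup G}
    (h : IsSylowIn p H K) (hLK : L ≤ K) (hL : IsPGroup p L) : Nat.card L ≤ Nat.card H := by
  obtain ⟨k, -, hk⟩ := h.exists_conj_le hLK hL
  rw [← card_conjBy L k]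
  exact Subgroup.card_le_of_le hk

/-- Cardinality criterion. -/
theorem isSylowIn_of_card_le [Finite G] {p : ℕ} {H K : Subgroup G} (hHK : H ≤ K) (hH : IsPGroup p H)
    (hcard : ∀ L : Subgroup G, L ≤ K → IsPGroup p L → Nat.card L ≤ Nat.card H) : IsSylowIn p H K :=
  ⟨hHK, hH, fun L hLK hL hHL => (Subgroup.eq_of_le_of_card_ge hHL (hcard L hLK hL)).symm⟩

/-- Two Sylow subgroups of `K` have the same cardinality. -/
theorem IsSylowIn.card_eq [Finite G] {p : ℕ} [Fact p.Prime] {H H' K : Subgroup G}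
    (h : IsSylowIn p H K) (h' : IsSylowIn p H' K) : Nat.card H = Nat.card H' :=
  le_antisymm (h'.card_le h.1 h.2.1) (h.card_le h'.1 h'.2.1)

/-- A `p`-subgroup of `K` with the cardinality of a Sylow subgroup of `K` is Sylow in `K`. -/
theorem IsSylowIn.of_card_ge [Finite G] {p : ℕ} [Fact p.Prime] {H H' K : Subgroup G}
    (h : IsSylowIn p H K) (hH'K : H' ≤ K) (hH' : IsPGroup p H') (hc : Nat.card H ≤ Nat.card H') :
    IsSylowIn p H' K :=
  isSylowIn_of_card_le hH'K hH' fun L hLK hL => (h.card_le hLK hL).trans hc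

theorem isSylowIn_top_of_sylow {p : ℕ} (S : Sylow p G) : IsSylowIn p (S : Subgroup G) ⊤ :=
  ⟨le_top, S.isPGroup', fun _ _ hL hSL => S.is_maximal' hL hSL⟩

end Cfsg.Agent.Helper25
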