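import Mathlib
import Cfsg.Prelude.Def_FusionSystem
import Cfsg.Agent.Lib.Helper25.Fusion
import Cfsg.Agent.Lib.Helper25.SylowIn

set_option autoImplicit false

namespace Cfsg.Agent.Helper25

open Cfsg Cfsg.FusionSystem

variable {Ω : Type*} [Group Ω] {S : Subgroup Ω}

/-- The isomorphism `Q ≃* φ(Q)` induced by a map of the system. -/
noncomputable def homEquiv (F : FusionSystem S) {Q : Subgroup Ω} {φ : Q →* Ω} (hφ : φ ∈ F.Hom Q) :
    Q ≃* φ.range :=
  MonoidHom.ofInjective (F.injective_of_mem hφ)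

theorem homEquiv_apply_coe (F : FusionSystem S) {Q : Subgroup Ω} {φ : Q →* Ω} (hφ : φ ∈ F.Hom Q)
    (x : Q) : ((homEquiv F hφ x : φ.range) : Ω) = φ x := rfl

theorem range_le (F : FusionSystem S) {Q : Subgroup Ω} {φ : Q →* Ω} (hφ : φ ∈ F.Hom Q) :
    φ.range ≤ S := by
  rintro _ ⟨x, rfl⟩; exact (F.le_of_mem hφ).2 x

/-- Inverse of a map of the system, as a map on its range, with the symm of `homEquiv`. -/
theorem exists_inv' (F : FusionSystem S) {Q : Subgroup Ω} {φ : Q →* Ω} (hφ : φ ∈ F.Hom Q) :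
    ∃ θ ∈ F.Hom φ.range, ∀ y : φ.range, θ y = (((homEquiv F hφ).symm y : Q) : Ω) := by
  obtain ⟨θ, hθ, hinv, -⟩ := exists_inv F hφ rfl
  refine ⟨θ, hθ, fun y => ?_⟩
  obtain ⟨x, hx⟩ := (homEquiv F hφ).surjective y
  subst hx
  rw [MulEquiv.symm_apply_apply]
  exact hinv x _

/-- Transport of an automorphism of the system along a map of the system. -/
theorem congr_mem_autGroup (F : FusionSystem S) {Q : Subgroup Ω} {φ : Q →* Ω} (hφ : φ ∈ F.Hom Q)
    {β : MulAut Q} (hβ : β ∈ F.autGroup Q) :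
    MulAut.congr (homEquiv F hφ) β ∈ F.autGroup φ.range := by
  have hQS : Q ≤ S := (F.le_of_mem hφ).1
  rw [mem_autGroup_iff F (range_le F hφ)]
  rw [mem_autGroup_iff F hQS] at hβ
  obtain ⟨θ, hθ, hθe⟩ := exists_inv' F hφ
  have h1 : ∀ y : φ.range, θ y ∈ Q := fun y => by rw [hθe]; exact Subtype.property _
  have hχ1 : (Q.subtype.comp β.toMonoidHom).comp (θ.codRestrict Q h1) ∈ F.Hom φ.range :=
    F.comp_mem hθ hβ h1
  have h2 : ∀ y : φ.range, ((Q.subtype.comp β.toMonoidHom).comp (θ.codRestrict Q h1)) y ∈ Q :=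
    fun y => Subtype.property _
  refine comp_mem' F hχ1 hφ h2 (fun y => ?_)
  show ((MulAut.congr (homEquiv F hφ) β y : φ.range) : Ω) = φ ⟨_, _⟩
  have : (MulAut.congr (homEquiv F hφ) β) y = homEquiv F hφ (β ((homEquiv F hφ).symm y)) := rfl
  rw [this, homEquiv_apply_coe]
  congr 1
  apply Subtype.ext
  show ((β ((homEquiv F hφ).symm y) : Q) : Ω) = ((β (θ.codRestrict Q h1 y) : Q) : Ω)
  congr 2
  apply Subtype.ext
  exact (hθe y).symm

/-- `Aut_S(Q) ≤ Aut_F(Q)` for `Q ≤ S`. -/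
theorem autInducedBy_le_autGroup (F : FusionSystem S) {Q : Subgroup Ω} (hQ : Q ≤ S) :
    autInducedBy S Q ≤ F.autGroup Q := by
  intro α hα
  obtain ⟨g, hg, hgα⟩ := (mem_autInducedBy_iff α).mp hα
  rw [mem_autGroup_iff F hQ]
  have : Q.subtype.comp α.toMonoidHom = conjHom Q g := by
    ext x; exact hgα x
  rw [this]
  exact F.conj_mem hQ hg

/-- `Aut_S(Q)` is a `p`-group when `S` is. -/
theorem isPGroup_autInducedBy {p : ℕ} (hS : IsPGroup p S) (Q : Subgroup Ω) :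
    IsPGroup p (autInducedBy S Q) := by
  intro ⟨α, hα⟩
  obtain ⟨g, hg, hgα⟩ := (mem_autInducedBy_iff α).mp hα
  obtain ⟨k, hk⟩ := hS ⟨g, hg⟩
  refine ⟨k, ?_⟩
  apply Subtype.ext
  show α ^ p ^ k = 1
  have hpow : ∀ n : ℕ, ∀ x : Q, (((α ^ n) x : Q) : Ω) = g ^ n * (x : Ω) * (g ^ n)⁻¹ := by
    intro n
    induction n with
    | zero => intro x; simp
    | succ n ih =>
      intro x
      rw [pow_succ', MulAut.mul_apply, hgα, ih, pow_succ']
      simp [mul_assoc]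
  have hg1 : g ^ p ^ k = 1 := by
    have := congrArg Subtype.val hk
    simpa using this
  ext x
  rw [hpow, hg1]
  simp

/-- Fully automized, in `IsSylowIn` form. -/
theorem isFullyAutomized_iff (F : FusionSystem S) (p : ℕ) {Q : Subgroup Ω} (hQ : Q ≤ S) :
    F.IsFullyAutomized p Q ↔ IsSylowIn p (autInducedBy S Q) (F.autGroup Q) := by
  unfold FusionSystem.IsFullyAutomized
  rw [isSylowIn_iff_exists_sylow (autInducedBy_le_autGroup F hQ)]
  exact ⟨fun h => h.2, fun h => ⟨hQ, h⟩⟩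

/-- A sufficient condition for `N_S(Q) ≤ N_φ`. -/
theorem normalizerIn_le_extender {Q : Subgroup Ω} (φ : Q →* Ω)
    (h : ∀ g ∈ normalizerIn S Q, ∃ h ∈ S, ∀ (x : Q) (hx : g * (x : Ω) * g⁻¹ ∈ Q),
      φ ⟨g * x * g⁻¹, hx⟩ = h * φ x * h⁻¹) : normalizerIn S Q ≤ extender S Q φ := by
  intro g hg
  rw [mem_extender_iff]
  exact ⟨hg.1, hg.2, h g hg⟩

end Cfsg.Agent.Helper25
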