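import Mathlib
import Cfsg.Prelude.Def_FusionSystem
import Cfsg.Agent.Lib.Helper25.Fusion

set_option autoImplicit false

namespace Cfsg.Agent.Helper25

open Cfsg Cfsg.FusionSystem

variable {Ω : Type*} [Group Ω] {S : Subgroup Ω}

/-- The subgroups of a finite subgroup form a finite set. -/
theorem finite_subgroups_le (S : Subgroup Ω) [Finite S] : {Q : Subgroup Ω | Q ≤ S}.Finite := by
  have : {Q : Subgroup Ω | Q ≤ S} ⊆ (fun H : Subgroup S => H.map S.subtype) '' Set.univ := by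
    intro Q hQ
    exact ⟨Q.subgroupOf S, Set.mem_univ _, Subgroup.map_subgroupOf_eq_of_le hQ⟩
  exact (Set.finite_univ.image _).subset this

/-- Induction principle: a property of subgroups holding for `⊥`, stable under binary joins, and holding
on a family of subgroups of a finite subgroup, holds for the join of the family. -/
theorem sSup_induction_of_finite (S : Subgroup Ω) [Finite S] (T : Set (Subgroup Ω))
    (hT : ∀ Q ∈ T, Q ≤ S) (C : Subgroup Ω → Prop) (hbot : C ⊥)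
    (hsup : ∀ Q R, C Q → C R → C (Q ⊔ R)) (hmem : ∀ Q ∈ T, C Q) : C (sSup T) := by
  have hfin : T.Finite := (finite_subgroups_le S).subset hT
  clear hT
  induction T, hfin using Set.Finite.induction_on with
  | empty => simpa using hbot
  | insert _ _ ih =>
    rw [sSup_insert]
    exact hsup _ _ (hmem _ (Set.mem_insert _ _)) (ih fun Q hQ => hmem Q (Set.mem_insert_of_mem _ hQ))

theorem isNormal_bot (F : FusionSystem S) : F.IsNormal ⊥ := by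
  refine ⟨bot_le, fun P φ hφ => ?_⟩
  have hle : P ⊔ ⊥ ≤ P := by simp
  refine ⟨φ.comp (Subgroup.inclusion hle), restrict_mem F hle hφ, fun x => ?_, ?_⟩
  · rfl
  · ext y
    constructor
    · rintro ⟨x, hx, rfl⟩
      have hx' : (x : Ω) = 1 := by simpa [Subgroup.mem_subgroupOf] using hx
      have : x = 1 := Subtype.ext hx'
      rw [this, map_one]; exact Subgroup.one_mem _
    · intro hy
      rw [Subgroup.mem_bot] at hy
      subst hy
      exact Subgroup.one_mem _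

theorem isCentral_bot (F : FusionSystem S) : F.IsCentral ⊥ := by
  refine ⟨bot_le, fun P φ hφ => ?_⟩
  have hle : P ⊔ ⊥ ≤ P := by simp
  refine ⟨φ.comp (Subgroup.inclusion hle), restrict_mem F hle hφ, fun x => ?_, ?_⟩
  · rfl
  · rintro ⟨x, hx⟩
    rw [Subgroup.mem_bot] at hx
    subst hx
    have : (Subgroup.inclusion (le_sup_right : (⊥ : Subgroup Ω) ≤ P ⊔ ⊥) ⟨1, Subgroup.one_mem _⟩) = 1 :=
      Subtype.ext rfl
    rw [this, map_one]

/-- image of a subgroup `Q ≤ K` under a hom defined on `K` -/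
theorem mem_map_subgroupOf {K Q : Subgroup Ω} (ψ : K →* Ω) {y : Ω} :
    y ∈ (Q.subgroupOf K).map ψ ↔ ∃ (x : Ω) (hK : x ∈ K), x ∈ Q ∧ ψ ⟨x, hK⟩ = y := by
  constructor
  · rintro ⟨x, hx, rfl⟩
    exact ⟨x, x.2, hx, rfl⟩
  · rintro ⟨x, hK, hQ, rfl⟩
    exact ⟨⟨x, hK⟩, hQ, rfl⟩

/-- Induction on membership in a binary join of subgroups. -/
theorem sup_induction {Q R : Subgroup Ω} {C : Ω → Prop} (hQ : ∀ x ∈ Q, C x) (hR : ∀ x ∈ R, C x)
    (hmul : ∀ a b, a ∈ Q ⊔ R → b ∈ Q ⊔ R → C a → C b → C (a * b)) {z : Ω} (hz : z ∈ Q ⊔ R) : C z := by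
  have key : z ∈ Q ⊔ R ∧ C z ∧ C z⁻¹ := by
    rw [Subgroup.sup_eq_closure] at hz
    induction hz using Subgroup.closure_induction with
    | mem x hx =>
      rcases hx with hx | hx
      · exact ⟨le_sup_left (a := Q) hx, hQ x hx, hQ _ (Q.inv_mem hx)⟩
      · exact ⟨le_sup_right (a := Q) hx, hR x hx, hR _ (R.inv_mem hx)⟩
    | one => exact ⟨Subgroup.one_mem _, hQ 1 Q.one_mem, by simpa using hQ 1 Q.one_mem⟩
    | mul a b _ _ ha hb =>
      refine ⟨Subgroup.mul_mem _ ha.1 hb.1, hmul a b ha.1 hb.1 ha.2.1 hb.2.1, ?_⟩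
      rw [mul_inv_rev]
      exact hmul _ _ (Subgroup.inv_mem _ hb.1) (Subgroup.inv_mem _ ha.1) hb.2.2 ha.2.2
    | inv a _ ha => exact ⟨Subgroup.inv_mem _ ha.1, ha.2.2, by simpa using ha.2.1⟩
  exact key.2.1

theorem isNormal_sup (F : FusionSystem S) {Q R : Subgroup Ω} (hQ : F.IsNormal Q) (hR : F.IsNormal R) :
    F.IsNormal (Q ⊔ R) := by
  refine ⟨sup_le hQ.1 hR.1, fun P φ hφ => ?_⟩
  obtain ⟨ψ₁, hψ₁, hext₁, himg₁⟩ := hQ.2 P φ hφ
  obtain ⟨ψ₂, hψ₂, hext₂, himg₂⟩ := hR.2 (P ⊔ Q) ψ₁ hψ₁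
  have hle : P ⊔ (Q ⊔ R) ≤ (P ⊔ Q) ⊔ R := by rw [sup_assoc]
  refine ⟨ψ₂.comp (Subgroup.inclusion hle), restrict_mem F hle hψ₂, fun x => ?_, ?_⟩
  · rw [← hext₁ x, ← hext₂]
    rfl
  · -- image of Q ⊔ R
    have hQ' : ∀ y, y ∈ Q ↔ ∃ (x : Ω) (hK : x ∈ P ⊔ Q ⊔ R), x ∈ Q ∧ ψ₂ ⟨x, hK⟩ = y := by
      intro y
      have e : y ∈ Q ↔ y ∈ (Q.subgroupOf (P ⊔ Q)).map ψ₁ := by rw [himg₁]
      rw [e, mem_map_subgroupOf]
      constructor
      · rintro ⟨x, hK, hxQ, rfl⟩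
        exact ⟨x, le_sup_left (a := P ⊔ Q) hK, hxQ, hext₂ ⟨x, hK⟩⟩
      · rintro ⟨x, hK, hxQ, rfl⟩
        have hK' : x ∈ P ⊔ Q := le_sup_right (a := P) hxQ
        exact ⟨x, hK', hxQ, (hext₂ ⟨x, hK'⟩).symm⟩
    have hR' : ∀ y, y ∈ R ↔ ∃ (x : Ω) (hK : x ∈ P ⊔ Q ⊔ R), x ∈ R ∧ ψ₂ ⟨x, hK⟩ = y := by
      intro y
      have e : y ∈ R ↔ y ∈ (R.subgroupOf (P ⊔ Q ⊔ R)).map ψ₂ := by rw [himg₂]
      rw [e, mem_map_subgroupOf]
    have hQK : Q ≤ P ⊔ (Q ⊔ R) := le_sup_of_le_right le_sup_left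
    have hRK : R ≤ P ⊔ (Q ⊔ R) := le_sup_of_le_right le_sup_right
    rw [Subgroup.subgroupOf_sup hQK hRK, Subgroup.map_sup]
    congr 1
    · ext y
      rw [hQ' y, mem_map_subgroupOf]
      constructor
      · rintro ⟨x, hK, hxQ, rfl⟩
        exact ⟨x, hle hK, hxQ, rfl⟩
      · rintro ⟨x, hK, hxQ, rfl⟩
        exact ⟨x, hQK hxQ, hxQ, rfl⟩
    · ext y
      rw [hR' y, mem_map_subgroupOf]
      constructor
      · rintro ⟨x, hK, hxR, rfl⟩
        exact ⟨x, hle hK, hxR, rfl⟩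
      · rintro ⟨x, hK, hxR, rfl⟩
        exact ⟨x, hRK hxR, hxR, rfl⟩

theorem isCentral_sup (F : FusionSystem S) {Q R : Subgroup Ω} (hQ : F.IsCentral Q) (hR : F.IsCentral R) :
    F.IsCentral (Q ⊔ R) := by
  refine ⟨sup_le hQ.1 hR.1, fun P φ hφ => ?_⟩
  obtain ⟨ψ₁, hψ₁, hext₁, hfix₁⟩ := hQ.2 P φ hφ
  obtain ⟨ψ₂, hψ₂, hext₂, hfix₂⟩ := hR.2 (P ⊔ Q) ψ₁ hψ₁
  have hle : P ⊔ (Q ⊔ R) ≤ (P ⊔ Q) ⊔ R := by rw [sup_assoc]
  refine ⟨ψ₂.comp (Subgroup.inclusion hle), restrict_mem F hle hψ₂, fun x => ?_, ?_⟩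
  · rw [← hext₁ x, ← hext₂]
    rfl
  · rintro ⟨x, hx⟩
    have key : ∀ z (hz : z ∈ Q ⊔ R), ∀ (hK : z ∈ P ⊔ Q ⊔ R), ψ₂ ⟨z, hK⟩ = z := by
      intro z hz
      refine sup_induction (C := fun z => ∀ (hK : z ∈ P ⊔ Q ⊔ R), ψ₂ ⟨z, hK⟩ = z) ?_ ?_ ?_ hz
      · intro z hz hK
        have hK' : z ∈ P ⊔ Q := le_sup_right (a := P) hz
        have h1 := hext₂ ⟨z, hK'⟩
        have h2 := hfix₁ ⟨z, hz⟩
        have e : (Subgroup.inclusion (le_sup_left : P ⊔ Q ≤ P ⊔ Q ⊔ R) ⟨z, hK'⟩) = ⟨z, hK⟩ := rfl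
        have e' : (Subgroup.inclusion (le_sup_right : Q ≤ P ⊔ Q) ⟨z, hz⟩) = ⟨z, hK'⟩ := rfl
        rw [e] at h1; rw [e'] at h2
        rw [h1, h2]
      · intro z hz hK
        exact hfix₂ ⟨z, hz⟩
      · intro a b ha hb iha ihb hK
        have haK : a ∈ P ⊔ Q ⊔ R := hle (le_sup_right (a := P) ha)
        have hbK : b ∈ P ⊔ Q ⊔ R := hle (le_sup_right (a := P) hb)
        have : (⟨a * b, hK⟩ : ↥(P ⊔ Q ⊔ R)) = ⟨a, haK⟩ * ⟨b, hbK⟩ := rfl
        rw [this, map_mul, iha haK, ihb hbK]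
    exact key x hx _

theorem isNormal_core (F : FusionSystem S) [Finite S] : F.IsNormal F.core := by
  unfold FusionSystem.core
  exact sSup_induction_of_finite S _ (fun Q hQ => hQ.1) F.IsNormal (isNormal_bot F)
    (fun Q R hQ hR => isNormal_sup F hQ hR) (fun Q hQ => hQ)

theorem isCentral_center (F : FusionSystem S) [Finite S] : F.IsCentral F.center := by
  unfold FusionSystem.center
  exact sSup_induction_of_finite S _ (fun Q hQ => hQ.1) F.IsCentral (isCentral_bot F)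
    (fun Q R hQ hR => isCentral_sup F hQ hR) (fun Q hQ => hQ)

end Cfsg.Agent.Helper25
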