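import Mathlib
import Cfsg.Prelude.Def_FusionSystem
import Cfsg.Agent.Lib.Helper25.FusionAut
import Cfsg.Agent.Lib.Helper25.FusionNormal

set_option autoImplicit false

namespace Cfsg.Agent.Helper25

open Cfsg Cfsg.FusionSystem

variable {Ω : Type*} [Group Ω] {S : Subgroup Ω}

theorem finite_of_le_finite {P : Subgroup Ω} [Finite S] (hP : P ≤ S) : Finite P :=
  Finite.of_injective (Subgroup.inclusion hP) (Subgroup.inclusion_injective _)

theorem mem_normalizer_of_forall {P : Subgroup Ω} {g : Ω} (h1 : ∀ y ∈ P, g * y * g⁻¹ ∈ P)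
    (h2 : ∀ y ∈ P, g⁻¹ * y * g ∈ P) : g ∈ Subgroup.normalizer (P : Set Ω) := by
  rw [Subgroup.mem_normalizer_iff]
  intro y
  refine ⟨h1 y, fun h => ?_⟩
  have := h2 _ h
  simpa [mul_assoc] using this

/-- Key lemma (AKO I.2.6(c)): if `P` is fully automized and receptive and `Q` is conjugate to `P`, there is a
map of the system `N_S(Q) → N_S(P)` carrying `Q` onto `P`. -/
theorem exists_normalizer_map [Finite S] (p : ℕ) [Fact p.Prime] (hS : IsPGroup p S) (F : FusionSystem S)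
    (P Q : Subgroup Ω) (h₁ : F.IsFullyAutomized p P) (h₂ : F.IsReceptive P) (hQ : F.IsConj Q P) :
    ∃ φ ∈ F.Hom (normalizerIn S Q), (∀ x, φ x ∈ normalizerIn S P) ∧
      (∀ (x : Ω) (hx : x ∈ Q) (hN : x ∈ normalizerIn S Q), φ ⟨x, hN⟩ ∈ P) ∧
      (Q.subgroupOf (normalizerIn S Q)).map φ = P := by
  obtain ⟨ψ, hψ, rfl⟩ := hQ
  have hQS : Q ≤ S := (F.le_of_mem hψ).1
  have hPS : ψ.range ≤ S := range_le F hψ
  haveI : Finite ψ.range := finite_of_le_finite hPS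
  set e := homEquiv F hψ with he
  have hsyl := (isFullyAutomized_iff F p hPS).mp h₁
  -- the transported copy of Aut_S(Q)
  set X : Subgroup (MulAut ψ.range) := (autInducedBy S Q).map (MulAut.congr e).toMonoidHom with hX
  have hXle : X ≤ F.autGroup ψ.range := by
    rintro _ ⟨β, hβ, rfl⟩
    exact congr_mem_autGroup F hψ (autInducedBy_le_autGroup F hQS hβ)
  have hXp : IsPGroup p X := (isPGroup_autInducedBy hS Q).map _
  obtain ⟨α, hα, hle⟩ := hsyl.exists_conj_le hXle hXp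
  have hαF := (mem_autGroup_iff F hPS α).mp hα
  have hval : ∀ x : Q, ψ x ∈ ψ.range := fun x => ⟨x, rfl⟩
  set φ₀ : Q →* Ω := (ψ.range.subtype.comp α.toMonoidHom).comp (ψ.codRestrict ψ.range hval) with hφ₀
  have hφ₀F : φ₀ ∈ F.Hom Q := F.comp_mem hψ hαF hval
  have hφ₀apply : ∀ x : Q, φ₀ x = ((α (e x) : ψ.range) : Ω) := fun x => rfl
  have hφ₀range : φ₀.range = ψ.range := by
    ext y
    constructor
    · rintro ⟨x, rfl⟩; rw [hφ₀apply]; exact Subtype.property _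
    · intro hy
      refine ⟨e.symm (α⁻¹ ⟨y, hy⟩), ?_⟩
      rw [hφ₀apply]; simp
  -- N_S(Q) ≤ N_{φ₀}
  have hNle : normalizerIn S Q ≤ extender S Q φ₀ := by
    apply normalizerIn_le_extender
    intro g hg
    set βg : MulAut Q := Q.normalizerMonoidHom ⟨g, hg.2⟩ with hβg
    have hβg_mem : βg ∈ autInducedBy S Q :=
      (mem_autInducedBy_iff βg).mpr ⟨g, hg.1, fun x => rfl⟩
    have h1 : α * (MulAut.congr e βg) * α⁻¹ ∈ Cfsg.conjBy X α := by
      rw [mem_conjBy]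
      have : α⁻¹ * (α * (MulAut.congr e βg) * α⁻¹) * α = MulAut.congr e βg := by group
      rw [this]
      exact ⟨βg, hβg_mem, rfl⟩
    obtain ⟨h, hhS, hh⟩ := (mem_autInducedBy_iff _).mp (hle h1)
    refine ⟨h, hhS, fun x hx => ?_⟩
    have := hh (α (e x))
    rw [hφ₀apply, hφ₀apply, ← this]
    congr 1
    show α (e ⟨g * x * g⁻¹, hx⟩) = (α * (MulAut.congr e βg) * α⁻¹) (α (e x))
    rw [MulAut.mul_apply, MulAut.mul_apply, MulAut.inv_apply_self]
    congr 1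
    show e ⟨g * x * g⁻¹, hx⟩ = e (βg (e.symm (e x)))
    rw [MulEquiv.symm_apply_apply]
    rfl
  obtain ⟨χ, hχ, hχext⟩ := h₂.2 Q φ₀ hφ₀F hφ₀range
  have hQN : Q ≤ normalizerIn S Q := le_normalizerIn hQS
  set φ : ↥(normalizerIn S Q) →* Ω := χ.comp (Subgroup.inclusion hNle) with hφ
  have hφF : φ ∈ F.Hom (normalizerIn S Q) := restrict_mem F hNle hχ
  have hφQ : ∀ (x : Ω) (hx : x ∈ Q) (hN : x ∈ normalizerIn S Q), φ ⟨x, hN⟩ = φ₀ ⟨x, hx⟩ :=
    fun x hx hN => hχext x hx (hNle hN)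
  have hφQmem : ∀ (x : Ω) (hx : x ∈ Q) (hN : x ∈ normalizerIn S Q), φ ⟨x, hN⟩ ∈ ψ.range := by
    intro x hx hN
    rw [hφQ x hx hN, ← hφ₀range]; exact ⟨_, rfl⟩
  -- conjugation by φ(g) preserves P
  have hconj : ∀ g : ↥(normalizerIn S Q), ∀ y ∈ ψ.range, φ g * y * (φ g)⁻¹ ∈ ψ.range := by
    intro g y hy
    rw [← hφ₀range] at hy
    obtain ⟨x, rfl⟩ := hy
    have hgx : (g : Ω) * x * (g : Ω)⁻¹ ∈ Q := (Subgroup.mem_normalizer_iff.mp g.2.2 x).mp x.2
    have e1 : φ₀ x = φ ⟨x, hQN x.2⟩ := (hφQ x x.2 (hQN x.2)).symm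
    have e2 : φ g * φ ⟨x, hQN x.2⟩ * (φ g)⁻¹ = φ ⟨(g : Ω) * x * (g : Ω)⁻¹, hQN hgx⟩ := by
      rw [← map_inv, ← map_mul, ← map_mul]; rfl
    rw [e1, e2]
    exact hφQmem _ hgx _
  refine ⟨φ, hφF, fun g => ⟨(F.le_of_mem hφF).2 g, ?_⟩, hφQmem, ?_⟩
  · apply mem_normalizer_of_forall (hconj g)
    intro y hy
    have := hconj g⁻¹ y hy
    rwa [map_inv, inv_inv] at this
  · ext y
    rw [mem_map_subgroupOf]
    constructor
    · rintro ⟨x, hN, hxQ, rfl⟩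
      exact hφQmem x hxQ hN
    · intro hy
      rw [← hφ₀range] at hy
      obtain ⟨x, rfl⟩ := hy
      exact ⟨x, hQN x.2, x.2, hφQ x x.2 _⟩

end Cfsg.Agent.Helper25
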