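import Mathlib
import Cfsg.Prelude.Def_FusionSystem
import Cfsg.Agent.Lib.Helper25.Fusion
import Cfsg.Agent.Lib.Helper25.SylowIn

set_option autoImplicit false

namespace Cfsg.Agent.Helper25

open Cfsg Cfsg.FusionSystem

variable {G : Type*} [Group G]

theorem normalizer_conjBy (P : Subgroup G) (g : G) :
    Subgroup.normalizer ((Cfsg.conjBy P g : Subgroup G) : Set G) =
      Cfsg.conjBy (Subgroup.normalizer (P : Set G)) g :=
  (Subgroup.map_equiv_normalizer_eq P (MulAut.conj g)).symm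

theorem centralizer_conjBy (P : Subgroup G) (g : G) :
    Subgroup.centralizer ((Cfsg.conjBy P g : Subgroup G) : Set G) =
      Cfsg.conjBy (Subgroup.centralizer (P : Set G)) g := by
  ext x
  rw [mem_conjBy, Subgroup.mem_centralizer_iff, Subgroup.mem_centralizer_iff]
  constructor
  · intro h y hy
    have hy' : g * y * g⁻¹ ∈ (Cfsg.conjBy P g : Subgroup G) := by
      rw [mem_conjBy]; simpa [mul_assoc] using hy
    have := h _ hy'
    calc y * (g⁻¹ * x * g) = g⁻¹ * ((g * y * g⁻¹) * x) * g := by group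
      _ = g⁻¹ * (x * (g * y * g⁻¹)) * g := by rw [this]
      _ = g⁻¹ * x * g * y := by group
  · intro h y hy
    have hy' : g⁻¹ * y * g ∈ P := mem_conjBy.mp hy
    have := h _ hy'
    calc y * x = g * ((g⁻¹ * y * g) * (g⁻¹ * x * g)) * g⁻¹ := by group
      _ = g * ((g⁻¹ * x * g) * (g⁻¹ * y * g)) * g⁻¹ := by rw [this]
      _ = x * y := by group

theorem conjBy_inf (A B : Subgroup G) (g : G) :
    Cfsg.conjBy (A ⊓ B) g = Cfsg.conjBy A g ⊓ Cfsg.conjBy B g := by
  ext x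
  simp only [mem_conjBy, Subgroup.mem_inf]

/-- Conjugacy in the fusion system of a group. -/
theorem groupFusionSystem_isConj_iff {S P Q : Subgroup G} :
    (groupFusionSystem S).IsConj P Q ↔ P ≤ S ∧ Q ≤ S ∧ ∃ g : G, Q = Cfsg.conjBy P g := by
  constructor
  · rintro ⟨φ, ⟨hP, hφS, g, hg⟩, rfl⟩
    refine ⟨hP, ?_, g, ?_⟩
    · rintro _ ⟨x, rfl⟩; exact hφS x
    · ext y
      rw [mem_conjBy]
      constructor
      · rintro ⟨x, rfl⟩
        rw [hg]
        simpa [mul_assoc] using x.2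
      · intro hy
        refine ⟨⟨_, hy⟩, ?_⟩
        rw [hg]
        simp [mul_assoc]
  · rintro ⟨hP, hQ, g, rfl⟩
    refine ⟨conjHom P g, ⟨hP, fun x => hQ ?_, g, fun x => rfl⟩, ?_⟩
    · rw [mem_conjBy, conjHom_apply]; simpa [mul_assoc] using x.2
    · ext y
      rw [mem_conjBy]
      constructor
      · rintro ⟨x, rfl⟩
        rw [conjHom_apply]
        simpa [mul_assoc] using x.2
      · intro hy
        refine ⟨⟨_, hy⟩, ?_⟩
        rw [conjHom_apply]
        simp [mul_assoc]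

section Sylow

variable [Finite G] {p : ℕ} [Fact p.Prime]

/-- For a conjugation-equivariant "localizer" `Φ` (normalizer or centralizer) every subgroup of a
Sylow subgroup `S` is conjugate to `Q ≤ S` with `S ∩ Φ Q` Sylow in `Φ Q`. -/
theorem exists_conj_sylow (Φ : Subgroup G → Subgroup G)
    (hΦconj : ∀ X g, Φ (Cfsg.conjBy X g) = Cfsg.conjBy (Φ X) g)
    (hΦN : ∀ X : Subgroup G, Φ X ≤ Subgroup.normalizer (X : Set G))
    (S : Sylow p G) {P : Subgroup G} (hP : P ≤ S) :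
    ∃ g : G, Cfsg.conjBy P g ≤ S ∧
      IsSylowIn p ((S : Subgroup G) ⊓ Φ (Cfsg.conjBy P g)) (Φ (Cfsg.conjBy P g)) := by
  have hPp : IsPGroup p P := S.isPGroup'.to_le hP
  obtain ⟨H, hH, -⟩ := exists_isSylowIn_ge (p := p) (L := ⊥) (K := Φ P) bot_le IsPGroup.of_bot
  have hPH : IsPGroup p (P ⊔ H : Subgroup G) :=
    hPp.to_sup_of_normal_left' hH.2.1 (hH.1.trans (hΦN P))
  obtain ⟨g, -, hg⟩ := (isSylowIn_top_of_sylow S).exists_conj_le le_top hPH
  have hQS : Cfsg.conjBy P g ≤ S := (conjBy_mono le_sup_left g).trans hg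
  refine ⟨g, hQS, ?_⟩
  have hHg : IsSylowIn p (Cfsg.conjBy H g) (Φ (Cfsg.conjBy P g)) := by
    rw [hΦconj]; exact hH.conj g
  have hle : Cfsg.conjBy H g ≤ (S : Subgroup G) ⊓ Φ (Cfsg.conjBy P g) :=
    le_inf ((conjBy_mono le_sup_right g).trans hg) hHg.1
  have := hHg.2.2 _ inf_le_right (S.isPGroup'.to_le inf_le_left) hle
  rw [this]; exact hHg

/-- "Fully Φ-ized" in cardinality form is equivalent to the Sylow condition. -/
theorem fully_iff_isSylowIn (Φ : Subgroup G → Subgroup G)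
    (hΦconj : ∀ X g, Φ (Cfsg.conjBy X g) = Cfsg.conjBy (Φ X) g)
    (hΦN : ∀ X : Subgroup G, Φ X ≤ Subgroup.normalizer (X : Set G))
    (S : Sylow p G) {P : Subgroup G} (hP : P ≤ S) :
    (∀ g : G, Cfsg.conjBy P g ≤ S →
        Nat.card ((S : Subgroup G) ⊓ Φ (Cfsg.conjBy P g) : Subgroup G) ≤
          Nat.card ((S : Subgroup G) ⊓ Φ P : Subgroup G)) ↔
      IsSylowIn p ((S : Subgroup G) ⊓ Φ P) (Φ P) := by
  constructor
  · intro h
    obtain ⟨g, hQS, hsyl⟩ := exists_conj_sylow Φ hΦconj hΦN S hP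
    have hc := h g hQS
    have h1 := hsyl.conj g⁻¹
    rw [hΦconj, conjBy_inv_conjBy] at h1
    refine h1.of_card_ge inf_le_right (S.isPGroup'.to_le inf_le_left) ?_
    rw [card_conjBy]
    rw [hΦconj] at hc
    exact hc
  · intro h g hQS
    have h1 : Cfsg.conjBy ((S : Subgroup G) ⊓ Φ (Cfsg.conjBy P g)) g⁻¹ ≤ Φ P := by
      have := conjBy_mono (inf_le_right : (S : Subgroup G) ⊓ Φ (Cfsg.conjBy P g) ≤ _) g⁻¹
      rw [hΦconj, conjBy_inv_conjBy] at this
      rw [hΦconj]; exact this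
    have := h.card_le h1 (isPGroup_conjBy (S.isPGroup'.to_le inf_le_left) _)
    rwa [card_conjBy] at this

end Sylow

end Cfsg.Agent.Helper25
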