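import Mathlib
import Cfsg.Prelude.Def_FusionSystem
import Cfsg.Agent.Lib.Helper25.FusionSylow

set_option autoImplicit false

namespace Cfsg.Agent.Helper25

open Cfsg Cfsg.FusionSystem

variable {G : Type*} [Group G]

/-- If `g` conjugates every element of `Q` into `Q` compatibly with an automorphism `α` of `Q`, then `g`
normalizes `Q`. -/
theorem mem_normalizer_of_aut {Q : Subgroup G} (α : MulAut Q) {g : G}
    (h : ∀ x : Q, ((α x : Q) : G) = g * (x : G) * g⁻¹) : g ∈ Subgroup.normalizer (Q : Set G) := by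
  rw [Subgroup.mem_normalizer_iff]
  intro x
  constructor
  · intro hx
    rw [← h ⟨x, hx⟩]; exact (α ⟨x, hx⟩).2
  · intro hx
    have h1 := h (α⁻¹ ⟨g * x * g⁻¹, hx⟩)
    rw [MulAut.apply_inv_self] at h1
    have h2 : x = ((α⁻¹ ⟨g * x * g⁻¹, hx⟩ : Q) : G) := by
      have : g * x * g⁻¹ = g * ((α⁻¹ ⟨g * x * g⁻¹, hx⟩ : Q) : G) * g⁻¹ := h1
      exact mul_left_cancel (mul_right_cancel this)
    rw [h2]; exact (α⁻¹ ⟨g * x * g⁻¹, hx⟩).2

theorem normalizerMonoidHom_apply_coe (Q : Subgroup G) (n : Subgroup.normalizer (Q : Set G)) (x : Q) :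
    ((Q.normalizerMonoidHom n x : Q) : G) = (n : G) * (x : G) * (n : G)⁻¹ := rfl

/-- `Aut_K(Q)` is the image of `N_K(Q)` under the conjugation homomorphism `N_G(Q) → Aut(Q)`. -/
theorem autInducedBy_eq_map (K Q : Subgroup G) :
    autInducedBy K Q =
      ((K ⊓ Subgroup.normalizer (Q : Set G)).subgroupOf (Subgroup.normalizer (Q : Set G))).map
        Q.normalizerMonoidHom := by
  ext α
  rw [mem_autInducedBy_iff]
  constructor
  · rintro ⟨g, hgK, hg⟩
    have hgN : g ∈ Subgroup.normalizer (Q : Set G) := mem_normalizer_of_aut α hg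
    refine ⟨⟨g, hgN⟩, Subgroup.mem_subgroupOf.mpr ⟨hgK, hgN⟩, ?_⟩
    ext x
    rw [normalizerMonoidHom_apply_coe, hg]
  · rintro ⟨n, hn, rfl⟩
    exact ⟨n, (Subgroup.mem_subgroupOf.mp hn).1, fun x => rfl⟩

theorem autInducedBy_top_eq_range (Q : Subgroup G) :
    autInducedBy ⊤ Q = Q.normalizerMonoidHom.range := by
  rw [autInducedBy_eq_map, top_inf_eq, Subgroup.subgroupOf_self, MonoidHom.range_eq_map]

/-- The image of a Sylow subgroup under a homomorphism from a finite group is Sylow in the image. -/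
theorem isSylowIn_map_range {N A : Type*} [Group N] [Group A] [Finite N] {p : ℕ} [Fact p.Prime]
    (f : N →* A) (T : Sylow p N) : IsSylowIn p ((T : Subgroup N).map f) f.range := by
  have hle : (T : Subgroup N).map f ≤ f.range := by
    rintro _ ⟨t, -, rfl⟩; exact ⟨t, rfl⟩
  rw [isSylowIn_iff_exists_sylow hle]
  refine ⟨T.mapSurjective f.rangeRestrict_surjective, ?_⟩
  rw [Sylow.coe_mapSurjective]
  ext ⟨y, hy⟩
  rw [Subgroup.mem_subgroupOf]
  constructor
  · rintro ⟨t, ht, hty⟩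
    exact ⟨t, ht, congrArg Subtype.val hty⟩
  · rintro ⟨t, ht, hty⟩
    exact ⟨t, ht, Subtype.ext hty⟩

/-- If `T` is Sylow in `N` and `C ≤ N` is normalized by `N`, then `T ∩ C` is Sylow in `C`. -/
theorem IsSylowIn.inf_of_normal [Finite G] {p : ℕ} [Fact p.Prime] {T N C : Subgroup G}
    (h : IsSylowIn p T N) (hCN : C ≤ N) (hnorm : ∀ n ∈ N, Cfsg.conjBy C n = C) :
    IsSylowIn p (T ⊓ C) C := by
  have hTCp : IsPGroup p (T ⊓ C : Subgroup G) := h.2.1.to_le inf_le_left
  obtain ⟨H, hH, hle⟩ := exists_isSylowIn_ge (p := p) (L := T ⊓ C) (K := C) inf_le_right hTCp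
  obtain ⟨n, hn, hHn⟩ := h.exists_conj_le (hH.1.trans hCN) hH.2.1
  have h1 : Cfsg.conjBy H n ≤ T ⊓ C := by
    refine le_inf hHn ?_
    have := conjBy_mono hH.1 n
    rwa [hnorm n hn] at this
  refine hH.of_card_ge inf_le_right hTCp ?_
  rw [← card_conjBy H n]
  exact Subgroup.card_le_of_le h1

end Cfsg.Agent.Helper25
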