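import Mathlib
import Cfsg.Prelude.Def_FusionSystem
import Cfsg.Agent.Lib.Helper25.FusionRecept
import Cfsg.Agent.Lib.Helper25.FusionSylow2

set_option autoImplicit false

namespace Cfsg.Agent.Helper25

open Cfsg Cfsg.FusionSystem

/-- Sylow-ness is transported by group isomorphisms. -/
theorem IsSylowIn.map_equiv {G H : Type*} [Group G] [Group H] {p : ℕ} (e : G ≃* H) {A K : Subgroup G}
    (h : IsSylowIn p A K) : IsSylowIn p (A.map e.toMonoidHom) (K.map e.toMonoidHom) := by
  refine ⟨Subgroup.map_mono h.1, h.2.1.map _, fun L hLK hL hAL => ?_⟩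
  have h1 : L.comap e.toMonoidHom ≤ K := by
    intro x hx
    obtain ⟨k, hk, hkx⟩ := hLK hx
    have : k = x := e.injective hkx
    rwa [← this]
  have h2 : IsPGroup p (L.comap e.toMonoidHom) := hL.comap_of_injective _ e.injective
  have h3 : A ≤ L.comap e.toMonoidHom := fun x hx => hAL ⟨x, hx, rfl⟩
  have h4 := h.2.2 _ h1 h2 h3
  rw [← h4, Subgroup.map_comap_eq_self_of_surjective e.surjective]

variable {Ω : Type*} [Group Ω] {S : Subgroup Ω}

/-- The inverse of an isomorphism of the system is a map of the system. -/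
theorem symm_mem (F : FusionSystem S) {P Q : Subgroup Ω} (e : P ≃* Q)
    (he : Q.subtype.comp e.toMonoidHom ∈ F.Hom P) : P.subtype.comp e.symm.toMonoidHom ∈ F.Hom Q := by
  have hr : (Q.subtype.comp e.toMonoidHom).range = Q := by
    ext y
    constructor
    · rintro ⟨x, rfl⟩; exact (e x).2
    · intro hy; exact ⟨e.symm ⟨y, hy⟩, by simp⟩
  obtain ⟨θ, hθ, hinv, -⟩ := exists_inv F he hr
  have : P.subtype.comp e.symm.toMonoidHom = θ := by
    ext y
    have := hinv (e.symm y) (by simp)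
    simp only [MonoidHom.coe_comp, Subgroup.coe_subtype, MulEquiv.coe_toMonoidHom,
      Function.comp_apply, MulEquiv.apply_symm_apply, Subtype.coe_eta] at this
    simp [this]
  rw [this]; exact hθ

/-- Transport of automorphisms of the system along an isomorphism of the system. -/
theorem congr_mem_autGroup' (F : FusionSystem S) {P Q : Subgroup Ω} (e : P ≃* Q)
    (he : Q.subtype.comp e.toMonoidHom ∈ F.Hom P) {β : MulAut P} (hβ : β ∈ F.autGroup P) :
    MulAut.congr e β ∈ F.autGroup Q := by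
  have hPS : P ≤ S := (F.le_of_mem he).1
  have hQS : Q ≤ S := fun y hy => by
    have := (F.le_of_mem he).2 (e.symm ⟨y, hy⟩)
    simpa using this
  rw [mem_autGroup_iff F hQS]
  rw [mem_autGroup_iff F hPS] at hβ
  have hθ := symm_mem F e he
  have h1 : ∀ y : Q, (P.subtype.comp e.symm.toMonoidHom) y ∈ P := fun y => (e.symm y).2
  have hχ1 := F.comp_mem hθ hβ h1
  refine comp_mem' F hχ1 he (fun y => Subtype.property _) (fun y => ?_)
  rfl

theorem autGroup_map_congr (F : FusionSystem S) {P Q : Subgroup Ω} (e : P ≃* Q)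
    (he : Q.subtype.comp e.toMonoidHom ∈ F.Hom P) :
    (F.autGroup P).map (MulAut.congr e).toMonoidHom = F.autGroup Q := by
  apply le_antisymm
  · rintro _ ⟨β, hβ, rfl⟩
    exact congr_mem_autGroup' F e he hβ
  · intro γ hγ
    refine ⟨MulAut.congr e.symm γ, congr_mem_autGroup' F e.symm (symm_mem F e he) hγ, ?_⟩
    ext y
    simp [MulAut.congr]

/-- If `e c_g e⁻¹` is induced by an element of `S` for every `g ∈ N_S(P)`, then `e` carries `Aut_S(P)`
into `Aut_S(Q)`. -/
theorem autInducedBy_map_congr_le {P Q : Subgroup Ω} (e : P ≃* Q)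
    (h : ∀ g ∈ normalizerIn S P, ∃ k ∈ S, ∀ (x : P) (hx : g * (x : Ω) * g⁻¹ ∈ P),
      ((e ⟨g * x * g⁻¹, hx⟩ : Q) : Ω) = k * (e x : Q) * k⁻¹) :
    (autInducedBy S P).map (MulAut.congr e).toMonoidHom ≤ autInducedBy S Q := by
  rintro _ ⟨β, hβ, rfl⟩
  obtain ⟨g, hg, hgβ⟩ := (mem_autInducedBy_iff β).mp hβ
  have hgN : g ∈ Subgroup.normalizer (P : Set Ω) := mem_normalizer_of_aut β hgβ
  obtain ⟨k, hk, hke⟩ := h g ⟨hg, hgN⟩
  rw [mem_autInducedBy_iff]
  refine ⟨k, hk, fun y => ?_⟩
  have hx : g * ((e.symm y : P) : Ω) * g⁻¹ ∈ P := by rw [← hgβ]; exact (β _).2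
  have := hke (e.symm y) hx
  rw [MulEquiv.apply_symm_apply] at this
  rw [← this]
  show ((e (β (e.symm y)) : Q) : Ω) = _
  congr 2
  exact Subtype.ext (hgβ _)

end Cfsg.Agent.Helper25
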