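import Mathlib
import Cfsg.Prelude.Def_FusionSystem
import Cfsg.Agent.Lib.Helper25.FusionTransport

set_option autoImplicit false

namespace Cfsg.Agent.Helper25

open Cfsg Cfsg.FusionSystem

variable {Ω : Type*} [Group Ω] {S : Subgroup Ω}

/-- The source of a map of the system lies in its extender. -/
theorem le_extender (F : FusionSystem S) {Q : Subgroup Ω} {φ : Q →* Ω} (hφ : φ ∈ F.Hom Q) :
    Q ≤ extender S Q φ := by
  have hQS : Q ≤ S := (F.le_of_mem hφ).1
  intro x hx
  rw [mem_extender_iff]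
  refine ⟨hQS hx, Subgroup.le_normalizer hx, φ ⟨x, hx⟩, (F.le_of_mem hφ).2 _, fun y hy => ?_⟩
  have : (⟨x * (y : Ω) * x⁻¹, hy⟩ : Q) = ⟨x, hx⟩ * y * ⟨x, hx⟩⁻¹ := Subtype.ext rfl
  rw [this, map_mul, map_mul, map_inv]

theorem centralizerIn_le_extender {Q : Subgroup Ω} (φ : Q →* Ω) :
    centralizerIn S Q ≤ extender S Q φ := by
  intro c hc
  rw [mem_extender_iff]
  have hc' := mem_centralizerIn.mp hc
  refine ⟨hc'.1, Subgroup.centralizer_le_normalizer _ hc.2, 1, S.one_mem, fun y hy => ?_⟩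
  have : (⟨c * (y : Ω) * c⁻¹, hy⟩ : Q) = y := by
    apply Subtype.ext
    show c * (y : Ω) * c⁻¹ = y
    rw [← hc'.2 y y.2, mul_inv_cancel_right]
  rw [this]; simp

theorem extender_le (S : Subgroup Ω) {Q : Subgroup Ω} (φ : Q →* Ω) : extender S Q φ ≤ S :=
  fun x hx => ((mem_extender_iff φ x).mp hx).1

/-- A receptive subgroup is fully centralized. -/
theorem isFullyCentralized_of_receptive [Finite S] (F : FusionSystem S) {P : Subgroup Ω}
    (hP : F.IsReceptive P) : F.IsFullyCentralized P := by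
  refine ⟨hP.1, fun Q hQ => ?_⟩
  obtain ⟨φ, hφ, hr⟩ := isConj_symm F hQ
  obtain ⟨ψ, hψ, hext⟩ := hP.2 Q φ hφ hr
  have hQN := le_extender F hφ
  have hCN : centralizerIn S Q ≤ extender S Q φ := centralizerIn_le_extender φ
  have hinj := F.injective_of_mem hψ
  have hψS := (F.le_of_mem hψ).2
  haveI : Finite (centralizerIn S P) := finite_of_le_finite centralizerIn_le
  have hmap : ∀ c : centralizerIn S Q, ψ ⟨c, hCN c.2⟩ ∈ centralizerIn S P := by
    intro c
    rw [mem_centralizerIn]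
    refine ⟨hψS _, ?_⟩
    intro y hy
    rw [← hr] at hy
    obtain ⟨x, rfl⟩ := hy
    rw [← hext x x.2 (hQN x.2), ← map_mul, ← map_mul]
    congr 1
    apply Subtype.ext
    exact (mem_centralizerIn.mp c.2).2 x x.2
  refine Nat.card_le_card_of_injective (fun c => ⟨ψ ⟨c, hCN c.2⟩, hmap c⟩) ?_
  intro c d hcd
  have h1 : ψ ⟨c, hCN c.2⟩ = ψ ⟨d, hCN d.2⟩ := congrArg Subtype.val hcd
  have h2 := hinj h1
  have h3 : ((⟨c, hCN c.2⟩ : extender S Q φ) : Ω) = ((⟨d, hCN d.2⟩ : extender S Q φ) : Ω) :=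
    congrArg Subtype.val h2
  exact Subtype.ext h3

section

variable [Finite S] (p : ℕ) [Fact p.Prime] (hS : IsPGroup p S) (F : FusionSystem S)
include hS

/-- Fully automized and receptive subgroups are fully normalized. -/
theorem isFullyNormalized_of_fa_receptive {P : Subgroup Ω} (h₁ : F.IsFullyAutomized p P)
    (h₂ : F.IsReceptive P) : F.IsFullyNormalized P := by
  refine ⟨h₂.1, fun Q hQ => ?_⟩
  obtain ⟨φ, hφ, hφN, -, -⟩ := exists_normalizer_map p hS F P Q h₁ h₂ (isConj_symm F hQ)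
  haveI : Finite (normalizerIn S P) := finite_of_le_finite normalizerIn_le
  refine Nat.card_le_card_of_injective (fun c => ⟨φ c, hφN c⟩) ?_
  intro c d hcd
  exact F.injective_of_mem hφ (congrArg Subtype.val hcd)

omit [Finite S] [Fact p.Prime] hS in
/-- A map `N_S(P) → N_S(Q)` of the system carrying `P` onto `Q` carries `C_S(P)` into `C_S(Q)`. -/
theorem map_centralizerIn_mem {P Q : Subgroup Ω} {φ : ↥(normalizerIn S P) →* Ω}
    (hφ : φ ∈ F.Hom (normalizerIn S P))
    (himg : (P.subgroupOf (normalizerIn S P)).map φ = Q) (c : Ω) (hc : c ∈ centralizerIn S P) :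
    φ ⟨c, centralizerIn_le_normalizerIn hc⟩ ∈ centralizerIn S Q := by
  rw [mem_centralizerIn]
  refine ⟨(F.le_of_mem hφ).2 _, fun y hy => ?_⟩
  rw [← himg] at hy
  obtain ⟨x, hN, hxP, rfl⟩ := (mem_map_subgroupOf φ).mp hy
  rw [← map_mul, ← map_mul]
  congr 1
  apply Subtype.ext
  exact (mem_centralizerIn.mp hc).2 x hxP

omit [Finite S] [Fact p.Prime] hS in
/-- the image of `C_S(P)` under such a map, as a subgroup -/
theorem card_map_centralizerIn {P : Subgroup Ω} {φ : ↥(normalizerIn S P) →* Ω}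
    (hφ : φ ∈ F.Hom (normalizerIn S P)) :
    Nat.card (((centralizerIn S P).subgroupOf (normalizerIn S P)).map φ) =
      Nat.card (centralizerIn S P) := by
  rw [Subgroup.card_map_of_injective (F.injective_of_mem hφ)]
  exact Nat.card_congr (Subgroup.subgroupOfEquivOfLe centralizerIn_le_normalizerIn).toEquiv

end

end Cfsg.Agent.Helper25
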