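import Mathlib
import Cfsg.Prelude.Def_FusionSystem
import Cfsg.Agent.Lib.Helper25.FusionSat

set_option autoImplicit false

namespace Cfsg.Agent.Helper25

open Cfsg Cfsg.FusionSystem

variable {Ω : Type*} [Group Ω] {S : Subgroup Ω}

/-- In a saturated system, fully centralized subgroups are receptive (AKO I.2.6(c)). -/
theorem isReceptive_of_fullyCentralized [Finite S] (p : ℕ) [Fact p.Prime] (hS : IsPGroup p S)
    (F : FusionSystem S) (hF : F.IsSaturated p) {P : Subgroup Ω} (hP : F.IsFullyCentralized P) :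
    F.IsReceptive P := by
  obtain ⟨Q, hPQ, hQfa, hQrec⟩ := hF P hP.1
  obtain ⟨φ, hφ, hφN, hφQ, hφimg⟩ := exists_normalizer_map p hS F Q P hQfa hQrec hPQ
  have hPS : P ≤ S := hP.1
  have hQS : Q ≤ S := hQrec.1
  have hPN : P ≤ normalizerIn S P := le_normalizerIn hPS
  have hφinj := F.injective_of_mem hφ
  have hφS := (F.le_of_mem hφ).2
  -- C_S(Q) is the image of C_S(P)
  haveI : Finite (centralizerIn S Q) := finite_of_le_finite centralizerIn_le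
  have hCsurj : ∀ d ∈ centralizerIn S Q, ∃ (c : Ω) (hc : c ∈ centralizerIn S P),
      φ ⟨c, centralizerIn_le_normalizerIn hc⟩ = d := by
    have hle : ((centralizerIn S P).subgroupOf (normalizerIn S P)).map φ ≤ centralizerIn S Q := by
      rintro _ ⟨x, hx, rfl⟩
      exact map_centralizerIn_mem F hφ hφimg x (Subgroup.mem_subgroupOf.mp hx)
    have hcard : Nat.card (centralizerIn S Q) ≤
        Nat.card (((centralizerIn S P).subgroupOf (normalizerIn S P)).map φ) := by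
      rw [card_map_centralizerIn F hφ]
      exact hP.2 Q hPQ
    have heq := Subgroup.eq_of_le_of_card_ge hle hcard
    intro d hd
    rw [← heq] at hd
    obtain ⟨x, hx, rfl⟩ := hd
    exact ⟨x, Subgroup.mem_subgroupOf.mp hx, rfl⟩
  refine ⟨hPS, fun R ψ hψ hrange => ?_⟩
  have hRS : R ≤ S := (F.le_of_mem hψ).1
  have hψP : ∀ x : R, ψ x ∈ P := fun x => hrange ▸ ⟨x, rfl⟩
  have hval : ∀ x : R, ψ x ∈ normalizerIn S P := fun x => hPN (hψP x)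
  set ψ₂ : R →* Ω := φ.comp (ψ.codRestrict (normalizerIn S P) hval) with hψ₂def
  have hψ₂ : ψ₂ ∈ F.Hom R := F.comp_mem hψ hφ hval
  have hψ₂apply : ∀ x : R, ψ₂ x = φ ⟨ψ x, hval x⟩ := fun x => rfl
  have hψ₂range : ψ₂.range = Q := by
    rw [← hφimg]
    ext y
    rw [mem_map_subgroupOf]
    constructor
    · rintro ⟨x, rfl⟩
      exact ⟨ψ x, hval x, hψP x, rfl⟩
    · rintro ⟨z, hzN, hzP, rfl⟩
      rw [← hrange] at hzP
      obtain ⟨x, rfl⟩ := hzP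
      exact ⟨x, rfl⟩
  -- N_ψ ≤ N_ψ₂, with explicit witnesses
  have hkey : ∀ g ∈ extender S R ψ, ∃ (h : Ω) (hh : h ∈ normalizerIn S P),
      ∀ (x : R) (hx : g * (x : Ω) * g⁻¹ ∈ R), ψ ⟨g * x * g⁻¹, hx⟩ = h * ψ x * h⁻¹ := by
    intro g hg
    obtain ⟨hgS, hgN, h, hhS, hh⟩ := (mem_extender_iff ψ g).mp hg
    have hgR : ∀ x : R, g * (x : Ω) * g⁻¹ ∈ R := fun x =>
      (Subgroup.mem_normalizer_iff.mp hgN x).mp x.2
    have hgR' : ∀ x : R, g⁻¹ * (x : Ω) * g ∈ R := fun x => by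
      have := (Subgroup.mem_normalizer_iff.mp (Subgroup.inv_mem _ hgN) x).mp x.2
      simpa using this
    refine ⟨h, ⟨hhS, ?_⟩, hh⟩
    apply mem_normalizer_of_forall
    · intro y hy
      rw [← hrange] at hy
      obtain ⟨x, rfl⟩ := hy
      rw [← hh x (hgR x)]
      exact hψP _
    · intro y hy
      rw [← hrange] at hy
      obtain ⟨x, rfl⟩ := hy
      have := hh ⟨g⁻¹ * (x : Ω) * g, hgR' x⟩ (by simp [mul_assoc])
      have e : (⟨g * ((⟨g⁻¹ * (x : Ω) * g, hgR' x⟩ : R) : Ω) * g⁻¹, by simp [mul_assoc]⟩ : R) = x :=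
        Subtype.ext (by simp [mul_assoc])
      rw [e] at this
      rw [this]
      have : h⁻¹ * (h * ψ ⟨g⁻¹ * (x : Ω) * g, hgR' x⟩ * h⁻¹) * h = ψ ⟨g⁻¹ * (x : Ω) * g, hgR' x⟩ := by
        group
      rw [this]
      exact hψP _
  have hle : extender S R ψ ≤ extender S R ψ₂ := by
    intro g hg
    obtain ⟨h, hhN, hh⟩ := hkey g hg
    obtain ⟨hgS, hgN, -⟩ := (mem_extender_iff ψ g).mp hg
    rw [mem_extender_iff]
    refine ⟨hgS, hgN, φ ⟨h, hhN⟩, hφS _, fun x hx => ?_⟩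
    rw [hψ₂apply, hψ₂apply]
    have e : (⟨ψ ⟨g * x * g⁻¹, hx⟩, hval _⟩ : ↥(normalizerIn S P)) =
        ⟨h, hhN⟩ * ⟨ψ x, hval x⟩ * ⟨h, hhN⟩⁻¹ := Subtype.ext (hh x hx)
    rw [e, map_mul, map_mul, map_inv]
  obtain ⟨χ, hχ, hχext⟩ := hQrec.2 R ψ₂ hψ₂ hψ₂range
  have hRN₂ : R ≤ extender S R ψ₂ := le_extender F hψ₂
  have hχS := (F.le_of_mem hχ).2
  -- χ maps N_ψ into the range of φ
  have hmem : ∀ g : ↥(extender S R ψ), (χ.comp (Subgroup.inclusion hle)) g ∈ φ.range := by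
    intro g
    obtain ⟨h, hhN, hh⟩ := hkey g g.2
    obtain ⟨hgS, hgN, -⟩ := (mem_extender_iff ψ g).mp g.2
    have hgR : ∀ x : R, (g : Ω) * (x : Ω) * (g : Ω)⁻¹ ∈ R := fun x =>
      (Subgroup.mem_normalizer_iff.mp hgN x).mp x.2
    set k := φ ⟨h, hhN⟩ with hk
    set cg := χ ⟨g, hle g.2⟩ with hcg
    -- d := k⁻¹ * χ(g) centralizes Q
    have hd : k⁻¹ * cg ∈ centralizerIn S Q := by
      rw [mem_centralizerIn]
      refine ⟨S.mul_mem (S.inv_mem (hφS _)) (hχS _), fun y hy => ?_⟩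
      rw [← hψ₂range] at hy
      obtain ⟨x, rfl⟩ := hy
      -- χ(g) ψ₂(x) χ(g)⁻¹ = ψ₂(g x g⁻¹) = k ψ₂(x) k⁻¹
      have e1 : cg * ψ₂ x * cg⁻¹ = ψ₂ ⟨g * x * (g : Ω)⁻¹, hgR x⟩ := by
        rw [← hχext x x.2 (hRN₂ x.2), ← hχext _ (hgR x) (hRN₂ (hgR x)), hcg, ← map_inv, ← map_mul,
          ← map_mul]
        rfl
      have e2 : ψ₂ ⟨g * x * (g : Ω)⁻¹, hgR x⟩ = k * ψ₂ x * k⁻¹ := by
        rw [hψ₂apply, hψ₂apply]
        have e : (⟨ψ ⟨g * x * (g : Ω)⁻¹, hgR x⟩, hval _⟩ : ↥(normalizerIn S P)) =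
            ⟨h, hhN⟩ * ⟨ψ x, hval x⟩ * ⟨h, hhN⟩⁻¹ := Subtype.ext (hh x (hgR x))
        rw [e, map_mul, map_mul, map_inv]
      have e3 : cg * ψ₂ x * cg⁻¹ = k * ψ₂ x * k⁻¹ := e1.trans e2
      calc ψ₂ x * (k⁻¹ * cg) = k⁻¹ * (k * ψ₂ x * k⁻¹) * cg := by group
        _ = k⁻¹ * (cg * ψ₂ x * cg⁻¹) * cg := by rw [e3]
        _ = k⁻¹ * cg * ψ₂ x := by group
    obtain ⟨c, hc, hcd⟩ := hCsurj _ hd
    refine ⟨⟨h, hhN⟩ * ⟨c, centralizerIn_le_normalizerIn hc⟩, ?_⟩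
    rw [map_mul, hcd]
    show k * (k⁻¹ * cg) = _
    rw [mul_inv_cancel_left]
    rfl
  obtain ⟨θ, hθ, hθinv, -⟩ := exists_inv F hφ rfl
  have hχ' : χ.comp (Subgroup.inclusion hle) ∈ F.Hom (extender S R ψ) := restrict_mem F hle hχ
  refine ⟨θ.comp ((χ.comp (Subgroup.inclusion hle)).codRestrict φ.range hmem),
    F.comp_mem hχ' hθ hmem, fun x hxR hxN => ?_⟩
  show θ ⟨χ ⟨x, hle hxN⟩, _⟩ = ψ ⟨x, hxR⟩
  have e1 : χ ⟨x, hle hxN⟩ = φ ⟨ψ ⟨x, hxR⟩, hval _⟩ := by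
    rw [hχext x hxR (hle hxN)]; rfl
  have := hθinv ⟨ψ ⟨x, hxR⟩, hval _⟩ ⟨_, rfl⟩
  refine Eq.trans ?_ this
  congr 1
  exact Subtype.ext e1

end Cfsg.Agent.Helper25
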