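import Mathlib
import Cfsg.Prelude.Def_FusionSystem
import Cfsg.Agent.Lib.Helper25.FusionSat2

set_option autoImplicit false

namespace Cfsg.Agent.Helper25

open Cfsg Cfsg.FusionSystem

variable {Ω : Type*} [Group Ω] {S : Subgroup Ω}

/-- In a saturated system, a fully normalized subgroup is fully centralized, fully automized and receptive
(AKO I.2.6). -/
theorem of_fullyNormalized [Finite S] (p : ℕ) [Fact p.Prime] (hS : IsPGroup p S)
    (F : FusionSystem S) (hF : F.IsSaturated p) {P : Subgroup Ω} (hP : F.IsFullyNormalized P) :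
    F.IsFullyCentralized P ∧ F.IsFullyAutomized p P ∧ F.IsReceptive P := by
  obtain ⟨Q, hPQ, hQfa, hQrec⟩ := hF P hP.1
  obtain ⟨φ, hφ, hφN, hφQ, hφimg⟩ := exists_normalizer_map p hS F Q P hQfa hQrec hPQ
  have hPS : P ≤ S := hP.1
  have hQS : Q ≤ S := hQrec.1
  have hPN : P ≤ normalizerIn S P := le_normalizerIn hPS
  have hφinj := F.injective_of_mem hφ
  have hφS := (F.le_of_mem hφ).2
  haveI : Finite (normalizerIn S Q) := finite_of_le_finite normalizerIn_le
  haveI : Finite (normalizerIn S P) := finite_of_le_finite normalizerIn_le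
  haveI : Finite P := finite_of_le_finite hPS
  haveI : Finite Q := finite_of_le_finite hQS
  -- φ is onto N_S(Q)
  have hrange : φ.range = normalizerIn S Q := by
    have hle : φ.range ≤ normalizerIn S Q := by rintro _ ⟨x, rfl⟩; exact hφN x
    apply Subgroup.eq_of_le_of_card_ge hle
    rw [← Nat.card_congr (MonoidHom.ofInjective hφinj).toEquiv]
    exact hP.2 Q hPQ
  have hsurj : ∀ d ∈ normalizerIn S Q, ∃ g : ↥(normalizerIn S P), φ g = d := by
    intro d hd; rw [← hrange] at hd; exact hd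
  -- preimages of C_S(Q) lie in C_S(P)
  have hCpre : ∀ g : ↥(normalizerIn S P), φ g ∈ centralizerIn S Q → (g : Ω) ∈ centralizerIn S P := by
    intro g hg
    rw [mem_centralizerIn]
    refine ⟨g.2.1, fun x hx => ?_⟩
    have h1 : φ ⟨x, hPN hx⟩ * φ g = φ g * φ ⟨x, hPN hx⟩ :=
      (mem_centralizerIn.mp hg).2 _ (hφQ x hx _)
    rw [← map_mul, ← map_mul] at h1
    exact congrArg Subtype.val (hφinj h1)
  -- fully centralized
  have hQfc : F.IsFullyCentralized Q := isFullyCentralized_of_receptive F hQrec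
  haveI : Finite (centralizerIn S P) := finite_of_le_finite centralizerIn_le
  have hcardC : Nat.card (centralizerIn S Q) ≤ Nat.card (centralizerIn S P) := by
    rw [← card_map_centralizerIn F hφ]
    haveI : Finite (((centralizerIn S P).subgroupOf (normalizerIn S P)).map φ) :=
      finite_of_le_finite (S := S) (by rintro _ ⟨x, -, rfl⟩; exact hφS x)
    apply Subgroup.card_le_of_le
    intro d hd
    obtain ⟨g, rfl⟩ := hsurj d (centralizerIn_le_normalizerIn hd)
    exact ⟨g, Subgroup.mem_subgroupOf.mpr (hCpre g hd), rfl⟩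
  have hPfc : F.IsFullyCentralized P := by
    refine ⟨hPS, fun R hR => ?_⟩
    exact (hQfc.2 R (isConj_trans F (isConj_symm F hPQ) hR)).trans hcardC
  refine ⟨hPfc, ?_, isReceptive_of_fullyCentralized p hS F hF hPfc⟩
  -- fully automized: transport along e : P ≃* Q induced by φ
  let f : P →* Q := (φ.comp (Subgroup.inclusion hPN)).codRestrict Q (fun x => hφQ x x.2 _)
  have hfinj : Function.Injective f := by
    intro a b hab
    have h1 : φ ⟨a, hPN a.2⟩ = φ ⟨b, hPN b.2⟩ := congrArg Subtype.val hab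
    have h2 := hφinj h1
    exact Subtype.ext (congrArg Subtype.val h2 : ((⟨a, hPN a.2⟩ : ↥(normalizerIn S P)) : Ω) = _)
  have hfsurj : Function.Surjective f := by
    intro y
    have hy : (y : Ω) ∈ (P.subgroupOf (normalizerIn S P)).map φ := by rw [hφimg]; exact y.2
    obtain ⟨x, hN, hxP, hxy⟩ := (mem_map_subgroupOf φ).mp hy
    exact ⟨⟨x, hxP⟩, Subtype.ext hxy⟩
  let e : P ≃* Q := MulEquiv.ofBijective f ⟨hfinj, hfsurj⟩
  have he_apply : ∀ x : P, ((e x : Q) : Ω) = φ ⟨x, hPN x.2⟩ := fun x => rfl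
  have he : Q.subtype.comp e.toMonoidHom ∈ F.Hom P := by
    have := restrict_mem F hPN hφ
    have e' : Q.subtype.comp e.toMonoidHom = φ.comp (Subgroup.inclusion hPN) := by
      ext x; rfl
    rw [e']; exact this
  have hesymm := symm_mem F e he
  -- (i) Aut_S(P) maps into Aut_S(Q)
  have h1 : (autInducedBy S P).map (MulAut.congr e).toMonoidHom ≤ autInducedBy S Q := by
    apply autInducedBy_map_congr_le
    intro g hg
    refine ⟨φ ⟨g, hg⟩, hφS _, fun x hx => ?_⟩
    rw [he_apply, he_apply]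
    have : (⟨g * (x : Ω) * g⁻¹, hPN hx⟩ : ↥(normalizerIn S P)) =
        ⟨g, hg⟩ * ⟨x, hPN x.2⟩ * ⟨g, hg⟩⁻¹ := Subtype.ext rfl
    rw [this, map_mul, map_mul, map_inv]
  -- (ii) Aut_S(Q) maps into Aut_S(P)
  have h2 : (autInducedBy S Q).map (MulAut.congr e.symm).toMonoidHom ≤ autInducedBy S P := by
    apply autInducedBy_map_congr_le
    intro d hd
    obtain ⟨g, rfl⟩ := hsurj d hd
    refine ⟨g, g.2.1, fun y hy => ?_⟩
    have hgy : (g : Ω) * ((e.symm y : P) : Ω) * (g : Ω)⁻¹ ∈ P :=
      (Subgroup.mem_normalizer_iff.mp g.2.2 _).mp (e.symm y).2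
    have key : e.symm ⟨φ g * (y : Ω) * (φ g)⁻¹, hy⟩ = ⟨(g : Ω) * ((e.symm y : P) : Ω) * (g : Ω)⁻¹, hgy⟩ := by
      rw [MulEquiv.symm_apply_eq]
      apply Subtype.ext
      rw [he_apply]
      have : (⟨(g : Ω) * ((e.symm y : P) : Ω) * (g : Ω)⁻¹, hPN hgy⟩ : ↥(normalizerIn S P)) =
          g * ⟨(e.symm y : P), hPN (e.symm y).2⟩ * g⁻¹ := Subtype.ext rfl
      rw [this, map_mul, map_mul, map_inv, ← he_apply, MulEquiv.apply_symm_apply]
    rw [key]
  have hsylQ := (isFullyAutomized_iff F p hQS).mp hQfa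
  rw [isFullyAutomized_iff F p hPS]
  have h3 := hsylQ.map_equiv (MulAut.congr e.symm)
  rw [autGroup_map_congr F e.symm hesymm] at h3
  have h4 : (autInducedBy S Q).map (MulAut.congr e.symm).toMonoidHom = autInducedBy S P := by
    apply le_antisymm h2
    intro β hβ
    refine ⟨MulAut.congr e β, h1 ⟨β, hβ, rfl⟩, ?_⟩
    ext x
    simp [MulAut.congr]
  rwa [h4] at h3

end Cfsg.Agent.Helper25
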