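import Mathlib
import Cfsg.Prelude.Def_FusionSystem
import Cfsg.Agent.Lib.Helper25.FusionSat3

set_option autoImplicit false

namespace Cfsg.Agent.Helper25

open Cfsg Cfsg.FusionSystem

variable {Ω : Type*} [Group Ω] {S : Subgroup Ω}

/-- Every subgroup of a finite `S` is conjugate in the system to a fully normalized subgroup. -/
theorem exists_isConj_fullyNormalized [Finite S] (F : FusionSystem S) {P : Subgroup Ω} (hP : P ≤ S) :
    ∃ Q, F.IsConj P Q ∧ F.IsFullyNormalized Q := by
  have hfin : {Q : Subgroup Ω | F.IsConj P Q}.Finite :=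
    (finite_subgroups_le S).subset fun Q hQ => isConj_le_right F hQ
  obtain ⟨Q, hQ, hmax⟩ := Set.exists_max_image _ (fun Q => Nat.card (normalizerIn S Q)) hfin
    ⟨P, isConj_refl F hP⟩
  exact ⟨Q, hQ, isConj_le_right F hQ, fun R hR => hmax R (isConj_trans F hQ hR)⟩

/-- Every subgroup of a finite `S` is conjugate in the system to a fully centralized subgroup. -/
theorem exists_isConj_fullyCentralized [Finite S] (F : FusionSystem S) {P : Subgroup Ω} (hP : P ≤ S) :
    ∃ Q, F.IsConj P Q ∧ F.IsFullyCentralized Q := by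
  have hfin : {Q : Subgroup Ω | F.IsConj P Q}.Finite :=
    (finite_subgroups_le S).subset fun Q hQ => isConj_le_right F hQ
  obtain ⟨Q, hQ, hmax⟩ := Set.exists_max_image _ (fun Q => Nat.card (centralizerIn S Q)) hfin
    ⟨P, isConj_refl F hP⟩
  exact ⟨Q, hQ, isConj_le_right F hQ, fun R hR => hmax R (isConj_trans F hQ hR)⟩

/-- The two standard definitions of saturation agree (Roberts–Shpectorov; AKO I.2.5). -/
theorem isSaturated_iff [Finite S] (p : ℕ) [Fact p.Prime] (hS : IsPGroup p S) (F : FusionSystem S) :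
    F.IsSaturated p ↔
      ((∀ P : Subgroup Ω, F.IsFullyNormalized P → F.IsFullyCentralized P ∧ F.IsFullyAutomized p P) ∧
        (∀ P : Subgroup Ω, F.IsFullyCentralized P → F.IsReceptive P)) := by
  constructor
  · intro hF
    refine ⟨fun P hP => ?_, fun P hP => isReceptive_of_fullyCentralized p hS F hF hP⟩
    obtain ⟨h1, h2, -⟩ := of_fullyNormalized p hS F hF hP
    exact ⟨h1, h2⟩
  · rintro ⟨hA, hB⟩ P hP
    obtain ⟨Q, hPQ, hQ⟩ := exists_isConj_fullyNormalized F hP
    obtain ⟨h1, h2⟩ := hA Q hQ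
    exact ⟨Q, hPQ, h2, hB Q h1⟩

end Cfsg.Agent.Helper25
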