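import Mathlib
import Cfsg.Prelude.Def_FusionSystem
import Cfsg.Agent.Lib.Helper25.FusionSat4

set_option autoImplicit false

namespace Cfsg.Agent.Helper25

open Cfsg Cfsg.FusionSystem

variable {Ω : Type*} [Group Ω] {S : Subgroup Ω}

/-- If `Q` is fully automized and `Aut_F(Q)` is a `p`-group then `Aut_S(Q) = Aut_F(Q)`. -/
theorem autInducedBy_eq_autGroup_of_isPGroup (F : FusionSystem S) (p : ℕ) {Q : Subgroup Ω}
    (hFA : F.IsFullyAutomized p Q) (hp : IsPGroup p (F.autGroup Q)) :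
    autInducedBy S Q = F.autGroup Q := by
  have hQ := hFA.1
  have h := (isFullyAutomized_iff F p hQ).mp hFA
  exact (h.2.2 _ le_rfl hp h.1).symm

/-- Normalizers grow in a finite `p`-group. -/
theorem exists_mem_normalizerIn_not_mem [Finite S] {p : ℕ} [Fact p.Prime] (hS : IsPGroup p S)
    {P : Subgroup Ω} (hP : P ≤ S) (hne : P ≠ S) : ∃ g ∈ normalizerIn S P, g ∉ P := by
  haveI : Group.IsNilpotent S := hS.isNilpotent
  have hnc : NormalizerCondition S := normalizerCondition_of_isNilpotent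
  have hlt : P.subgroupOf S < ⊤ := by
    rw [lt_top_iff_ne_top]
    intro h
    rw [Subgroup.subgroupOf_eq_top] at h
    exact hne (le_antisymm hP h)
  have h2 := hnc _ hlt
  obtain ⟨g, hgN, hgP⟩ := SetLike.exists_of_lt h2
  refine ⟨(g : Ω), ?_, fun h => hgP (Subgroup.mem_subgroupOf.mpr h)⟩
  rw [mem_normalizerIn]
  refine ⟨g.2, ?_⟩
  rw [Subgroup.mem_normalizer_iff] at hgN ⊢
  intro x
  constructor
  · intro hx
    have := (hgN ⟨x, hP hx⟩).mp (Subgroup.mem_subgroupOf.mpr hx)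
    exact Subgroup.mem_subgroupOf.mp this
  · intro hx
    have hxS : x ∈ S := by
      have h1 : g⁻¹.1 * ((g : Ω) * x * (g : Ω)⁻¹) * g.1 ∈ S :=
        S.mul_mem (S.mul_mem g⁻¹.2 (hP hx)) g.2
      simpa [mul_assoc] using h1
    have := (hgN ⟨x, hxS⟩).mpr (Subgroup.mem_subgroupOf.mpr hx)
    exact Subgroup.mem_subgroupOf.mp this

end Cfsg.Agent.Helper25
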