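import Mathlib
import Cfsg.Prelude.Def_FusionSystem
import Cfsg.Agent.Lib.Helper25.FusionInner

set_option autoImplicit false

namespace Cfsg.Agent.Helper25

open Cfsg Cfsg.FusionSystem

variable {Ω : Type*} [Group Ω] {S : Subgroup Ω}

/-- Extension of an `F`-automorphism of a receptive subgroup `Q` normalizing `Aut_S(Q)` to an
`F`-automorphism of `N_S(Q)`. -/
theorem exists_autGroup_normalizerIn_extension [Finite S] (F : FusionSystem S) {Q : Subgroup Ω}
    (hRec : F.IsReceptive Q) {α : MulAut Q} (hα : α ∈ F.autGroup Q)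
    (hnorm : ∀ β ∈ autInducedBy S Q, α * β * α⁻¹ ∈ autInducedBy S Q) :
    ∃ αbar ∈ F.autGroup (normalizerIn S Q), ∀ (x : Q),
      ((αbar ⟨x, le_normalizerIn hRec.1 x.2⟩ : ↥(normalizerIn S Q)) : Ω) = ((α x : Q) : Ω) := by
  have hQS : Q ≤ S := hRec.1
  have hQN : Q ≤ normalizerIn S Q := le_normalizerIn hQS
  set φ₀ : Q →* Ω := Q.subtype.comp α.toMonoidHom with hφ₀
  have hφ₀F : φ₀ ∈ F.Hom Q := (mem_autGroup_iff F hQS α).mp hα
  have hφ₀apply : ∀ x : Q, φ₀ x = ((α x : Q) : Ω) := fun x => rfl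
  have hφ₀range : φ₀.range = Q := by
    ext y
    constructor
    · rintro ⟨x, rfl⟩; exact (α x).2
    · intro hy
      exact ⟨α⁻¹ ⟨y, hy⟩, by rw [hφ₀apply]; simp⟩
  have hNle : normalizerIn S Q ≤ extender S Q φ₀ := by
    apply normalizerIn_le_extender
    intro g hg
    set βg : MulAut Q := Q.normalizerMonoidHom ⟨g, hg.2⟩ with hβg
    have hβg_mem : βg ∈ autInducedBy S Q :=
      (mem_autInducedBy_iff βg).mpr ⟨g, hg.1, fun x => rfl⟩
    obtain ⟨k, hkS, hk⟩ := (mem_autInducedBy_iff _).mp (hnorm βg hβg_mem)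
    refine ⟨k, hkS, fun x hx => ?_⟩
    have := hk (α x)
    rw [hφ₀apply, hφ₀apply, ← this]
    congr 1
    show α ⟨g * x * g⁻¹, hx⟩ = (α * βg * α⁻¹) (α x)
    rw [MulAut.mul_apply, MulAut.mul_apply, MulAut.inv_apply_self]
    rfl
  obtain ⟨χ, hχ, hχext⟩ := hRec.2 Q φ₀ hφ₀F hφ₀range
  set φ : ↥(normalizerIn S Q) →* Ω := χ.comp (Subgroup.inclusion hNle) with hφ
  have hφF : φ ∈ F.Hom (normalizerIn S Q) := restrict_mem F hNle hχ
  have hφQ : ∀ (x : Ω) (hx : x ∈ Q) (hN : x ∈ normalizerIn S Q), φ ⟨x, hN⟩ = φ₀ ⟨x, hx⟩ :=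
    fun x hx hN => hχext x hx (hNle hN)
  have hφQmem : ∀ (x : Ω) (hx : x ∈ Q) (hN : x ∈ normalizerIn S Q), φ ⟨x, hN⟩ ∈ Q := by
    intro x hx hN
    rw [hφQ x hx hN]; exact (α ⟨x, hx⟩).2
  have hconj : ∀ g : ↥(normalizerIn S Q), ∀ y ∈ Q, φ g * y * (φ g)⁻¹ ∈ Q := by
    intro g y hy
    rw [← hφ₀range] at hy
    obtain ⟨x, rfl⟩ := hy
    have hgx : (g : Ω) * x * (g : Ω)⁻¹ ∈ Q := (Subgroup.mem_normalizer_iff.mp g.2.2 x).mp x.2
    have e1 : φ₀ x = φ ⟨x, hQN x.2⟩ := (hφQ x x.2 (hQN x.2)).symm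
    have e2 : φ g * φ ⟨x, hQN x.2⟩ * (φ g)⁻¹ = φ ⟨(g : Ω) * x * (g : Ω)⁻¹, hQN hgx⟩ := by
      rw [← map_inv, ← map_mul, ← map_mul]; rfl
    rw [e1, e2]
    exact hφQmem _ hgx _
  have hφN : ∀ g : ↥(normalizerIn S Q), φ g ∈ normalizerIn S Q := by
    intro g
    refine ⟨(F.le_of_mem hφF).2 g, ?_⟩
    apply mem_normalizer_of_forall (hconj g)
    intro y hy
    have := hconj g⁻¹ y hy
    rwa [map_inv, inv_inv] at this
  haveI : Finite ↥(normalizerIn S Q) := finite_of_le_finite normalizerIn_le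
  set φc : ↥(normalizerIn S Q) →* ↥(normalizerIn S Q) := φ.codRestrict _ hφN with hφc
  have hinj : Function.Injective φc := by
    intro a b hab
    apply F.injective_of_mem hφF
    have := congrArg Subtype.val hab
    exact this
  have hbij : Function.Bijective φc := Finite.injective_iff_bijective.mp hinj
  refine ⟨MulEquiv.ofBijective φc hbij, ?_, fun x => ?_⟩
  · rw [mem_autGroup_iff F normalizerIn_le]
    have : (normalizerIn S Q).subtype.comp (MulEquiv.ofBijective φc hbij).toMonoidHom = φ := by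
      ext x; rfl
    rw [this]; exact hφF
  · show φ ⟨x, _⟩ = _
    rw [hφQ x x.2]
    rfl

/-- Compatibility of an automorphism of `T` with an automorphism of a subgroup `Q ≤ T`. -/
def AutCompat {Q T : Subgroup Ω} (hQT : Q ≤ T) (a : MulAut T) (b : MulAut Q) : Prop :=
  ∀ x : Q, a (Subgroup.inclusion hQT x) = Subgroup.inclusion hQT (b x)

theorem AutCompat.one {Q T : Subgroup Ω} (hQT : Q ≤ T) : AutCompat hQT 1 1 := fun _ => rfl

theorem AutCompat.mul {Q T : Subgroup Ω} {hQT : Q ≤ T} {a a' : MulAut T} {b b' : MulAut Q}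
    (h : AutCompat hQT a b) (h' : AutCompat hQT a' b') : AutCompat hQT (a * a') (b * b') := by
  intro x
  rw [MulAut.mul_apply, MulAut.mul_apply, h', h]

theorem AutCompat.inv {Q T : Subgroup Ω} {hQT : Q ≤ T} {a : MulAut T} {b : MulAut Q}
    (h : AutCompat hQT a b) : AutCompat hQT a⁻¹ b⁻¹ := by
  intro x
  have := h (b⁻¹ x)
  rw [MulAut.apply_inv_self] at this
  rw [← this, MulAut.inv_apply_self]

theorem AutCompat.pow {Q T : Subgroup Ω} {hQT : Q ≤ T} {a : MulAut T} {b : MulAut Q}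
    (h : AutCompat hQT a b) (n : ℕ) : AutCompat hQT (a ^ n) (b ^ n) := by
  induction n with
  | zero => simpa using AutCompat.one hQT
  | succ n ih => rw [pow_succ, pow_succ]; exact ih.mul h

theorem AutCompat.coe {Q T : Subgroup Ω} {hQT : Q ≤ T} {a : MulAut T} {b : MulAut Q}
    (h : AutCompat hQT a b) (x : Q) : ((a ⟨x, hQT x.2⟩ : T) : Ω) = ((b x : Q) : Ω) := by
  have := h x
  exact congrArg Subtype.val this

/-- The `p`-part trick: in a finite group, given `a` and an element `b` of `p`-power order in another group,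
there is an exponent `m` with `a ^ m` a `p`-element and `b` a power of `b ^ m`. -/
theorem exists_pow_pElement {A B : Type*} [Group A] [Group B] [Finite A] (p : ℕ) [Fact p.Prime]
    (a : A) (b : B) (hb : ∃ j : ℕ, b ^ p ^ j = 1) :
    ∃ m : ℕ, (∃ k : ℕ, (a ^ m) ^ p ^ k = 1) ∧ ∃ n : ℕ, (b ^ m) ^ n = b := by
  have hp : p.Prime := Fact.out
  have ho : orderOf a ≠ 0 := (orderOf_pos a).ne'
  obtain ⟨k, m, hm, hkm⟩ := Nat.exists_eq_pow_mul_and_not_dvd ho p hp.ne_one
  refine ⟨m, ⟨k, ?_⟩, ?_⟩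
  · rw [← pow_mul, mul_comm, ← hkm, pow_orderOf_eq_one]
  · obtain ⟨j, hj⟩ := hb
    apply exists_pow_eq_self_of_coprime
    have hdvd : orderOf b ∣ p ^ j := orderOf_dvd_of_pow_eq_one hj
    obtain ⟨i, -, hi⟩ := (Nat.dvd_prime_pow hp).mp hdvd
    rw [hi]
    exact Nat.Coprime.pow_right _ ((Nat.Prime.coprime_iff_not_dvd hp).mpr hm).symm

/-- Key step of the Roberts–Shpectorov argument. -/
theorem mem_autInducedBy_of_compat [Finite S] (p : ℕ) [Fact p.Prime] (F : FusionSystem S)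
    {Q : Subgroup Ω} (hFN : F.IsFullyNormalized Q)
    (hIH : ∀ T' : Subgroup Ω, F.IsFullyNormalized T' →
      Nat.card T' = Nat.card (normalizerIn S Q) → F.IsFullyAutomized p T')
    {β : MulAut (normalizerIn S Q)} (hβ : β ∈ F.autGroup (normalizerIn S Q))
    (hβp : ∃ k : ℕ, β ^ p ^ k = 1)
    {α' : MulAut Q} (hc : AutCompat (le_normalizerIn hFN.1) β α') : α' ∈ autInducedBy S Q := by
  have hQS := hFN.1
  have hQT : Q ≤ normalizerIn S Q := le_normalizerIn hQS
  have hTS : normalizerIn S Q ≤ S := normalizerIn_le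
  obtain ⟨T', ⟨ψ, hψ, rfl⟩, hT'FN⟩ := exists_isConj_fullyNormalized F hTS
  set e := homEquiv F hψ with he
  have hT'S : ψ.range ≤ S := range_le F hψ
  haveI : Finite ↥(normalizerIn S Q) := finite_of_le_finite hTS
  haveI : Finite ψ.range := finite_of_le_finite hT'S
  have hcard : Nat.card ψ.range = Nat.card ↥(normalizerIn S Q) := (Nat.card_congr e.toEquiv).symm
  have hFA := hIH _ hT'FN hcard
  have hsyl := (isFullyAutomized_iff F p hT'S).mp hFA
  set β' := MulAut.congr e β with hβ'def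
  have hβ' : β' ∈ F.autGroup ψ.range := congr_mem_autGroup F hψ hβ
  have hzle : Subgroup.zpowers β' ≤ F.autGroup ψ.range := by
    rw [Subgroup.zpowers_le]; exact hβ'
  have hzp : IsPGroup p (Subgroup.zpowers β') := by
    obtain ⟨k, hk⟩ := hβp
    rintro ⟨g, hg⟩
    obtain ⟨i, rfl⟩ := Subgroup.mem_zpowers_iff.mp hg
    refine ⟨k, Subtype.ext ?_⟩
    show (β' ^ i) ^ (p ^ k) = 1
    have h1 : β' ^ p ^ k = 1 := by rw [hβ'def, ← map_pow, hk, map_one]
    rw [← zpow_natCast, ← zpow_mul, mul_comm, zpow_mul, zpow_natCast, h1, one_zpow]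
  obtain ⟨γ, hγ, hle⟩ := hsyl.exists_conj_le hzle hzp
  have h1 : γ * β' * γ⁻¹ ∈ Cfsg.conjBy (Subgroup.zpowers β') γ := by
    rw [mem_conjBy]
    have : γ⁻¹ * (γ * β' * γ⁻¹) * γ = β' := by group
    rw [this]; exact Subgroup.mem_zpowers β'
  obtain ⟨s, hsS, hs⟩ := (mem_autInducedBy_iff _).mp (hle h1)
  set e₁ : ↥(normalizerIn S Q) ≃* ψ.range := e.trans γ with he₁
  have hkey : ∀ x : ↥(normalizerIn S Q),
      ((e₁ (β x) : ψ.range) : Ω) = s * ((e₁ x : ψ.range) : Ω) * s⁻¹ := by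
    intro x
    rw [← hs (e₁ x)]
    congr 1
    show γ (e (β x)) = (γ * β' * γ⁻¹) (γ (e x))
    rw [MulAut.mul_apply, MulAut.mul_apply, MulAut.inv_apply_self]
    congr 1
    show e (β x) = e (β (e.symm (e x)))
    rw [MulEquiv.symm_apply_apply]
  -- the F-map ψ₁ = e₁ followed by inclusion
  have hγF := (mem_autGroup_iff F hT'S γ).mp hγ
  have hval : ∀ x : ↥(normalizerIn S Q), ψ x ∈ ψ.range := fun x => ⟨x, rfl⟩
  set ψ₁ : ↥(normalizerIn S Q) →* Ω := ψ.range.subtype.comp e₁.toMonoidHom with hψ₁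
  have hψ₁F : ψ₁ ∈ F.Hom (normalizerIn S Q) :=
    comp_mem' F hψ hγF hval (fun x => rfl)
  set ψQ : Q →* Ω := ψ₁.comp (Subgroup.inclusion hQT) with hψQ
  have hψQF : ψQ ∈ F.Hom Q := restrict_mem F hQT hψ₁F
  have hψQapply : ∀ x : Q, ψQ x = ((e₁ (Subgroup.inclusion hQT x) : ψ.range) : Ω) := fun x => rfl
  have hconjQ : F.IsConj Q ψQ.range := ⟨ψQ, hψQF, rfl⟩
  have hcardN := hFN.2 _ hconjQ
  -- e₁ g normalizes Q'
  have hnormT : ∀ g : ↥(normalizerIn S Q), ∀ y ∈ ψQ.range,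
      ((e₁ g : ψ.range) : Ω) * y * ((e₁ g : ψ.range) : Ω)⁻¹ ∈ ψQ.range := by
    rintro g _ ⟨x, rfl⟩
    have hgx : (g : Ω) * x * (g : Ω)⁻¹ ∈ Q := (Subgroup.mem_normalizer_iff.mp g.2.2 x).mp x.2
    refine ⟨⟨_, hgx⟩, ?_⟩
    rw [hψQapply, hψQapply]
    have : Subgroup.inclusion hQT ⟨(g : Ω) * x * (g : Ω)⁻¹, hgx⟩ = g * Subgroup.inclusion hQT x * g⁻¹ :=
      Subtype.ext rfl
    rw [this, map_mul, map_mul, map_inv]
    rfl
  have hT'le : ψ.range ≤ normalizerIn S ψQ.range := by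
    intro t' ht'
    refine ⟨hT'S ht', ?_⟩
    have hg : ((e₁ (e₁.symm ⟨t', ht'⟩) : ψ.range) : Ω) = t' := by
      rw [MulEquiv.apply_symm_apply]
    apply mem_normalizer_of_forall
    · intro y hy
      have := hnormT (e₁.symm ⟨t', ht'⟩) y hy
      rwa [hg] at this
    · intro y hy
      have := hnormT (e₁.symm ⟨t', ht'⟩)⁻¹ y hy
      rw [map_inv] at this
      rw [Subgroup.coe_inv, hg, inv_inv] at this
      exact this
  have hsN : s ∈ normalizerIn S ψQ.range := by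
    refine ⟨hsS, ?_⟩
    apply mem_normalizer_of_forall
    · rintro _ ⟨x, rfl⟩
      refine ⟨α' x, ?_⟩
      rw [hψQapply, hψQapply, ← hkey, hc x]
    · rintro _ ⟨x, rfl⟩
      refine ⟨α'⁻¹ x, ?_⟩
      rw [hψQapply, hψQapply]
      have h2 := hkey (β⁻¹ (Subgroup.inclusion hQT x))
      rw [MulAut.apply_inv_self] at h2
      rw [← hc.inv x, h2]
      group
  haveI : Finite ↥(normalizerIn S ψQ.range) := finite_of_le_finite normalizerIn_le
  have hTeq : ψ.range = normalizerIn S ψQ.range :=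
    Subgroup.eq_of_le_of_card_ge hT'le (by rw [hcard]; exact hcardN)
  have hsT' : s ∈ ψ.range := by rw [hTeq]; exact hsN
  set t := e₁.symm ⟨s, hsT'⟩ with ht
  have het : ((e₁ t : ψ.range) : Ω) = s := by rw [ht, MulEquiv.apply_symm_apply]
  have hβt : ∀ x : ↥(normalizerIn S Q), β x = t * x * t⁻¹ := by
    intro x
    apply e₁.injective
    apply Subtype.ext
    rw [hkey, map_mul, map_mul, map_inv]
    show _ = ((e₁ t : ψ.range) : Ω) * _ * ((e₁ t : ψ.range) : Ω)⁻¹
    rw [het]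
  rw [mem_autInducedBy_iff]
  refine ⟨(t : Ω), hTS t.2, fun x => ?_⟩
  rw [← hc.coe x, hβt]
  rfl

/-- Roberts–Shpectorov: if `S` is fully automized and every fully normalized subgroup is receptive then
every fully normalized subgroup is fully automized. -/
theorem isFullyAutomized_of_fullyNormalized_aux [Finite S] (p : ℕ) [Fact p.Prime] (hS : IsPGroup p S)
    (F : FusionSystem S) (h1 : F.IsFullyAutomized p S)
    (h2 : ∀ P : Subgroup Ω, F.IsFullyNormalized P → F.IsReceptive P) :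
    ∀ (n : ℕ) (Q : Subgroup Ω), F.IsFullyNormalized Q → Nat.card S - Nat.card Q = n →
      F.IsFullyAutomized p Q := by
  intro n
  induction n using Nat.strong_induction_on with
  | _ n ih =>
  intro Q hFN hn
  have hQS := hFN.1
  by_cases hQ : Q = S
  · rw [hQ]; exact h1
  · haveI : Finite Q := finite_of_le_finite hQS
    have hQT : Q ≤ normalizerIn S Q := le_normalizerIn hQS
    haveI : Finite ↥(normalizerIn S Q) := finite_of_le_finite normalizerIn_le
    obtain ⟨g₀, hg₀N, hg₀Q⟩ := exists_mem_normalizerIn_not_mem hS hQS hQ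
    have hlt : Nat.card Q < Nat.card ↥(normalizerIn S Q) := by
      by_contra hcon
      push Not at hcon
      have := Subgroup.eq_of_le_of_card_ge hQT hcon
      exact hg₀Q (this ▸ hg₀N)
    have hNS : Nat.card ↥(normalizerIn S Q) ≤ Nat.card S := Subgroup.card_le_of_le normalizerIn_le
    have hIH : ∀ T' : Subgroup Ω, F.IsFullyNormalized T' →
        Nat.card T' = Nat.card (normalizerIn S Q) → F.IsFullyAutomized p T' := by
      intro T' hT' hc
      refine ih (Nat.card S - Nat.card T') ?_ T' hT' rfl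
      rw [← hn, hc]; omega
    have hRec := h2 Q hFN
    rw [isFullyAutomized_iff F p hQS]
    refine ⟨autInducedBy_le_autGroup F hQS, isPGroup_autInducedBy hS Q, fun L hLK hLp hAL => ?_⟩
    by_contra hne
    haveI : Finite L := inferInstance
    obtain ⟨α, hαN, hαA⟩ := exists_mem_normalizerIn_not_mem (S := L) hLp hAL (Ne.symm hne)
    have hαL : α ∈ L := hαN.1
    have hαn : ∀ β ∈ autInducedBy S Q, α * β * α⁻¹ ∈ autInducedBy S Q := fun β hβ =>
      (Subgroup.mem_normalizer_iff.mp hαN.2 β).mp hβ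
    obtain ⟨αbar, hαbar, hcompat⟩ := exists_autGroup_normalizerIn_extension F hRec (hLK hαL) hαn
    have hc : AutCompat hQT αbar α := fun x => Subtype.ext (hcompat x)
    have hb : ∃ j : ℕ, α ^ p ^ j = 1 := by
      obtain ⟨j, hj⟩ := hLp ⟨α, hαL⟩
      exact ⟨j, congrArg Subtype.val hj⟩
    obtain ⟨m, hk, n', hn'⟩ := exists_pow_pElement p αbar α hb
    have hmem := mem_autInducedBy_of_compat p F hFN hIH
      (Subgroup.pow_mem _ hαbar m) hk (hc.pow m)
    apply hαA
    rw [← hn']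
    exact Subgroup.pow_mem _ hmem n'

theorem isFullyAutomized_of_fullyNormalized [Finite S] (p : ℕ) [Fact p.Prime] (hS : IsPGroup p S)
    (F : FusionSystem S) (h1 : F.IsFullyAutomized p S)
    (h2 : ∀ P : Subgroup Ω, F.IsFullyNormalized P → F.IsReceptive P)
    {Q : Subgroup Ω} (hQ : F.IsFullyNormalized Q) : F.IsFullyAutomized p Q :=
  isFullyAutomized_of_fullyNormalized_aux p hS F h1 h2 _ Q hQ rfl

/-- `S` itself is fully automized in a saturated fusion system. -/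
theorem isFullyAutomized_self [Finite S] (p : ℕ) (F : FusionSystem S) (hF : F.IsSaturated p) :
    F.IsFullyAutomized p S := by
  obtain ⟨Q, ⟨φ, hφ, hr⟩, hFA, -⟩ := hF S le_rfl
  have hQS : Q ≤ S := hFA.1
  have : Q = S := by
    apply Subgroup.eq_of_le_of_card_ge hQS
    rw [← hr]
    exact le_of_eq (Nat.card_congr (homEquiv F hφ).toEquiv)
  rwa [this] at hFA

end Cfsg.Agent.Helper25
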