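import Mathlib
import Cfsg.Prelude.Def_EvenType
import Cfsg.Prelude.Def_ClassificationK

set_option autoImplicit false

namespace Cfsg.Agent.Helper25

open Cfsg

/-- A nontrivial finite `p`-group has positive `p`-rank. -/
theorem not_pRankLE_zero_of_ne_bot {X : Type*} [Group X] [Finite X] (p : ℕ) [Fact p.Prime]
    {N : Subgroup X} (hN : IsPGroup p N) (hne : N ≠ ⊥) : ¬ PRankLE p 0 N := by
  have hp : p.Prime := Fact.out
  intro h
  haveI : Nontrivial N := (Subgroup.nontrivial_iff_ne_bot N).mpr hne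
  have hdvd : p ∣ Nat.card N := by
    obtain ⟨n, hn⟩ := hN.exists_card_eq
    rw [hn]
    have : n ≠ 0 := by
      rintro rfl
      rw [pow_zero] at hn
      have := Finite.one_lt_card (α := N)
      omega
    exact dvd_pow_self p this
  obtain ⟨x, hx⟩ := exists_prime_orderOf_dvd_card' p hdvd
  have hcomm : IsMulCommutative (Subgroup.zpowers x) := by
    refine ⟨⟨?_⟩⟩
    rintro ⟨a, ha⟩ ⟨b, hb⟩
    obtain ⟨i, rfl⟩ := Subgroup.mem_zpowers_iff.mp ha
    obtain ⟨j, rfl⟩ := Subgroup.mem_zpowers_iff.mp hb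
    apply Subtype.ext
    show x ^ i * x ^ j = x ^ j * x ^ i
    rw [← zpow_add, ← zpow_add, add_comm]
  have hexp : ∀ a ∈ Subgroup.zpowers x, a ^ p = 1 := by
    intro a ha
    obtain ⟨i, rfl⟩ := Subgroup.mem_zpowers_iff.mp ha
    rw [← zpow_natCast, ← zpow_mul, mul_comm, zpow_mul, zpow_natCast, ← hx, pow_orderOf_eq_one,
      one_zpow]
  have := h (Subgroup.zpowers x) hcomm hexp
  rw [Nat.card_zpowers, hx, pow_zero] at this
  exact absurd this (by have := hp.two_le; omega)

/-- A finite group with a strongly `p`-embedded subgroup has no nontrivial normal `p`-subgroup. -/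
theorem eq_bot_of_normal_of_isStronglyPEmbedded {X : Type*} [Group X] [Finite X] (p : ℕ)
    [Fact p.Prime] {E : Subgroup X} (hE : IsStronglyPEmbedded p E) {N : Subgroup X} [hn : N.Normal]
    (hN : IsPGroup p N) : N = ⊥ := by
  by_contra hne
  obtain ⟨-, hEtop, R, hR⟩ := hE
  apply hEtop
  rw [eq_top_iff]
  refine le_trans ?_ hR
  have hNR : N ≤ (R : Subgroup X) := hN.le_sylow_of_normal R
  have h1 : ¬ PRankLE p (1 - 1) N := not_pRankLE_zero_of_ne_bot p hN hne
  have h2 : Subgroup.normalizer ((N : Subgroup X) : Set X) ≤ kGeneratedCore p 1 (R : Subgroup X) :=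
    le_iSup (fun Q : {Q : Subgroup X // Q ≤ (R : Subgroup X) ∧ ¬ PRankLE p (1 - 1) Q} =>
      Subgroup.normalizer ((Q : Subgroup X) : Set X)) ⟨N, hNR, h1⟩
  refine le_trans ?_ h2
  rw [Subgroup.normalizer_eq_top]

theorem isPGroup_pCore' (p : ℕ) [Fact p.Prime] (G : Type*) [Group G] : IsPGroup p ↥(Cfsg.pCore p G) :=
  Sylow.sSup_of_normal _ (fun _ h => h.2) (fun _ h => h.1)

theorem le_pCore' {G : Type*} [Group G] {p : ℕ} {N : Subgroup G} (hn : N.Normal) (h : IsPGroup p ↥N) :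
    N ≤ Cfsg.pCore p G :=
  le_sSup ⟨hn, h⟩

end Cfsg.Agent.Helper25
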