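import Mathlib
import Cfsg.Prelude.Def_FusionSystem
import Cfsg.Agent.Lib.Helper25.FusionRS
import Cfsg.Agent.Lib.Helper25.StronglyEmbedded

set_option autoImplicit false

namespace Cfsg.Agent.Helper25

open Cfsg Cfsg.FusionSystem

variable {Ω : Type*} [Group Ω] {S : Subgroup Ω}

/-- The automorphisms of `P` that extend to a map of the system on a strictly larger subgroup. -/
def extSet (F : FusionSystem S) (P : Subgroup Ω) : Set (MulAut P) :=
  {α | ∃ (Q : Subgroup Ω) (hPQ : P < Q) (φ : Q →* Ω), φ ∈ F.Hom Q ∧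
    ∀ x : P, φ (Subgroup.inclusion hPQ.le x) = α x}

theorem extSet_subset_autGroup (F : FusionSystem S) (P : Subgroup Ω) :
    extSet F P ⊆ F.autGroup P := by
  rintro α ⟨Q, hPQ, φ, hφ, h⟩
  have hPS : P ≤ S := hPQ.le.trans (F.le_of_mem hφ).1
  apply (mem_autGroup_iff F hPS α).mpr
  have : P.subtype.comp α.toMonoidHom = φ.comp (Subgroup.inclusion hPQ.le) := by
    ext x
    exact (h x).symm
  rw [this]
  exact restrict_mem F hPQ.le hφ

/-- (L1) An automorphism of a receptive subgroup whose extender is strictly larger lies in `extSet`. -/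
theorem mem_extSet_of_extender (F : FusionSystem S) {P : Subgroup Ω} (hRec : F.IsReceptive P)
    {α : MulAut P} (hα : α ∈ F.autGroup P) {g : Ω}
    (hg : g ∈ extender S P (P.subtype.comp α.toMonoidHom)) (hgP : g ∉ P) : α ∈ extSet F P := by
  have hPS : P ≤ S := hRec.1
  set φ₀ : P →* Ω := P.subtype.comp α.toMonoidHom with hφ₀
  have hφ₀F : φ₀ ∈ F.Hom P := (mem_autGroup_iff F hPS α).mp hα
  have hφ₀range : φ₀.range = P := by
    ext y
    constructor
    · rintro ⟨x, rfl⟩; exact (α x).2
    · intro hy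
      exact ⟨α⁻¹ ⟨y, hy⟩, by show ((α (α⁻¹ ⟨y, hy⟩) : P) : Ω) = y; simp⟩
  obtain ⟨χ, hχ, hχext⟩ := hRec.2 P φ₀ hφ₀F hφ₀range
  have hle : P ≤ extender S P φ₀ := le_extender F hφ₀F
  have hlt : P < extender S P φ₀ := lt_of_le_of_ne hle (fun h => hgP (h ▸ hg))
  exact ⟨extender S P φ₀, hlt, χ, hχ, fun x => hχext x x.2 (hle x.2)⟩

/-- (L2) `Inn(P)` is normal in `Aut(P)`. -/
theorem inn_normal (P : Type*) [Group P] : (Inn P).Normal := by
  constructor
  rintro _ ⟨g, rfl⟩ α
  refine ⟨α g, ?_⟩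
  ext x
  simp [MulAut.conj_apply]

theorem inn_subgroupOf_normal (P : Type*) [Group P] (A : Subgroup (MulAut P)) :
    ((Inn P).subgroupOf A).Normal :=
  haveI := inn_normal P
  Subgroup.Normal.subgroupOf inferInstance A

theorem inn_le_autInducedBy {P : Subgroup Ω} (hPS : P ≤ S) : Inn P ≤ autInducedBy S P := by
  rintro _ ⟨g, rfl⟩
  rw [mem_autInducedBy_iff]
  exact ⟨g, hPS g.2, fun x => rfl⟩

/-- (L3) A fully centralized subgroup containing its centralizer in `S` is centric. -/
theorem isCentric_of_fullyCentralized [Finite S] (F : FusionSystem S) {P : Subgroup Ω}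
    (hFC : F.IsFullyCentralized P) (hcen : centralizerIn S P ≤ P) : F.IsCentric P := by
  refine ⟨hFC.1, ?_⟩
  rintro Q ⟨φ, hφ, rfl⟩
  have hle := hFC.2 _ ⟨φ, hφ, rfl⟩
  set M : Subgroup Ω := ((centralizerIn S P).subgroupOf P).map φ with hM
  have hMle : M ≤ centralizerIn S φ.range := by
    rintro _ ⟨z, hz, rfl⟩
    rw [mem_centralizerIn]
    refine ⟨(F.le_of_mem hφ).2 z, ?_⟩
    rintro _ ⟨x, rfl⟩
    have hz' : (z : Ω) ∈ centralizerIn S P := hz
    have := (mem_centralizerIn.mp hz').2 x x.2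
    rw [← map_mul, ← map_mul]
    congr 1
    exact Subtype.ext this
  have hcardM : Nat.card M = Nat.card (centralizerIn S P) := by
    rw [hM, Subgroup.card_map_of_injective (F.injective_of_mem hφ)]
    exact Nat.card_congr (Subgroup.subgroupOfEquivOfLe hcen).toEquiv
  haveI : Finite ↥(centralizerIn S φ.range) := finite_of_le_finite centralizerIn_le
  have hMeq : M = centralizerIn S φ.range :=
    Subgroup.eq_of_le_of_card_ge hMle (by rw [hcardM]; exact hle)
  rw [← hMeq]
  rintro _ ⟨z, -, rfl⟩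
  exact ⟨z, rfl⟩

/-- `Aut_S(P) ≤ ⟨extSet⟩` for a proper subgroup `P` of the finite `p`-group `S`. -/
theorem autInducedBy_le_closure_extSet [Finite S] {p : ℕ} [Fact p.Prime] (hS : IsPGroup p S)
    (F : FusionSystem S) {P : Subgroup Ω} (hPS : P ≤ S) (hne : P ≠ S) :
    autInducedBy S P ≤ Subgroup.closure (extSet F P) := by
  intro β hβ
  apply Subgroup.subset_closure
  obtain ⟨g, hgS, hg⟩ := (mem_autInducedBy_iff β).mp hβ
  obtain ⟨g₀, hg₀N, hg₀P⟩ := exists_mem_normalizerIn_not_mem hS hPS hne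
  have hle : P ≤ normalizerIn S P := le_normalizerIn hPS
  have hlt : P < normalizerIn S P := lt_of_le_of_ne hle (fun h => hg₀P (h ▸ hg₀N))
  refine ⟨normalizerIn S P, hlt, conjHom _ g, F.conj_mem normalizerIn_le hgS, fun x => ?_⟩
  rw [hg x]; rfl

/-- For `P` containing its centralizer, an element of `S` inducing an inner automorphism of `P` lies
in `P`. -/
theorem mem_of_induces_inner {P : Subgroup Ω} (hPS : P ≤ S) (hcen : centralizerIn S P ≤ P)
    {β : MulAut P} (hβ : β ∈ Inn P) {g : Ω} (hgS : g ∈ S)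
    (hg : ∀ x : P, ((β x : P) : Ω) = g * (x : Ω) * g⁻¹) : g ∈ P := by
  obtain ⟨h, rfl⟩ := hβ
  have hc : (h : Ω)⁻¹ * g ∈ centralizerIn S P := by
    rw [mem_centralizerIn]
    refine ⟨S.mul_mem (S.inv_mem (hPS h.2)) hgS, ?_⟩
    intro x hx
    have h2 : (h : Ω) * x * (h : Ω)⁻¹ = g * x * g⁻¹ := hg ⟨x, hx⟩
    have h3 : x * ((h : Ω)⁻¹ * g) = (h : Ω)⁻¹ * ((h : Ω) * x * (h : Ω)⁻¹) * g := by group
    rw [h3, h2]; group
  have := hcen hc
  have h4 : g = (h : Ω) * ((h : Ω)⁻¹ * g) := by group
  rw [h4]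
  exact P.mul_mem h.2 this

/-- Lemma E: for a proper fully normalized subgroup `P` that is not essential, `Aut_F(P)` is generated by
the automorphisms extending to strictly larger subgroups. -/
theorem autGroup_le_closure_extSet [Finite S] (p : ℕ) [Fact p.Prime] (hS : IsPGroup p S)
    (F : FusionSystem S) (hF : F.IsSaturated p) {P : Subgroup Ω} (hne : P ≠ S)
    (hFN : F.IsFullyNormalized P) (hness : ¬ F.IsEssential p P) :
    F.autGroup P ≤ Subgroup.closure (extSet F P) := by
  obtain ⟨hFC, hFA, hRec⟩ := of_fullyNormalized p hS F hF hFN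
  have hPS : P ≤ S := hFN.1
  haveI : Finite P := finite_of_le_finite hPS
  by_cases hcen : centralizerIn S P ≤ P
  · -- centric case
    have hcentric := isCentric_of_fullyCentralized F hFC hcen
    haveI hnorm : ((Inn P).subgroupOf (F.autGroup P)).Normal := inn_subgroupOf_normal P _
    set H := Subgroup.closure (extSet F P) with hH
    set I := (Inn P).subgroupOf (F.autGroup P) with hI
    set Hbar := (H.subgroupOf (F.autGroup P)).map (QuotientGroup.mk' I) with hHbar
    have hAutS_le : autInducedBy S P ≤ H := autInducedBy_le_closure_extSet hS F hPS hne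
    have hInn_le : Inn P ≤ H := (inn_le_autInducedBy hPS).trans hAutS_le
    -- the Sylow subgroup of Out
    obtain ⟨R, hR⟩ := hFA.2
    set Rbar : Sylow p (↥(F.autGroup P) ⧸ I) := R.mapSurjective (QuotientGroup.mk'_surjective I)
      with hRbar
    have hRbar_coe : (Rbar : Subgroup (↥(F.autGroup P) ⧸ I)) =
        ((autInducedBy S P).subgroupOf (F.autGroup P)).map (QuotientGroup.mk' I) := by
      rw [hRbar, Sylow.coe_mapSurjective, hR]
    -- membership in Rbar gives an element of Aut_S(P)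
    have hmemR : ∀ a : ↥(F.autGroup P), QuotientGroup.mk' I a ∈ (Rbar : Subgroup _) →
        (a : MulAut P) ∈ autInducedBy S P := by
      intro a ha
      rw [hRbar_coe] at ha
      obtain ⟨b, hb, hba⟩ := ha
      have hbi : b⁻¹ * a ∈ I := by
        rw [← QuotientGroup.eq_one_iff, ← QuotientGroup.mk'_apply, map_mul, map_inv, hba]; simp
      have hbi' : ((b⁻¹ * a : ↥(F.autGroup P)) : MulAut P) ∈ autInducedBy S P :=
        inn_le_autInducedBy hPS (Subgroup.mem_subgroupOf.mp hbi)
      have : (a : MulAut P) = (b : MulAut P) * ((b⁻¹ * a : ↥(F.autGroup P)) : MulAut P) := by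
        simp
      rw [this]
      exact Subgroup.mul_mem _ (Subgroup.mem_subgroupOf.mp hb) hbi'
    -- an element of N_S(P) outside P
    obtain ⟨g₀, hg₀N, hg₀P⟩ := exists_mem_normalizerIn_not_mem hS hPS hne
    -- key: normalizers of nontrivial subgroups of Rbar lie in Hbar
    have hkey : kGeneratedCore p 1 (Rbar : Subgroup (↥(F.autGroup P) ⧸ I)) ≤ Hbar := by
      apply iSup_le
      rintro ⟨Q, hQR, hQrank⟩
      have hQne : Q ≠ ⊥ := by
        rintro rfl
        apply hQrank
        intro A' _ _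
        haveI : Subsingleton (↥(⊥ : Subgroup (↥(F.autGroup P) ⧸ I))) := inferInstance
        simp
      obtain ⟨⟨ybar, hyQ⟩, hy1⟩ := (Subgroup.ne_bot_iff_exists_ne_one.mp hQne)
      have hy1' : ybar ≠ 1 := fun h => hy1 (Subtype.ext h)
      obtain ⟨b, rfl⟩ := QuotientGroup.mk'_surjective I ybar
      have hbS : (b : MulAut P) ∈ autInducedBy S P := hmemR b (hQR hyQ)
      obtain ⟨g, hgS, hg⟩ := (mem_autInducedBy_iff _).mp hbS
      have hgN : g ∈ Subgroup.normalizer (P : Set Ω) := mem_normalizer_of_aut _ hg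
      have hgP : g ∉ P := by
        intro hgP
        apply hy1'
        rw [QuotientGroup.mk'_apply, QuotientGroup.eq_one_iff]
        apply Subgroup.mem_subgroupOf.mpr
        refine ⟨⟨g, hgP⟩, ?_⟩
        ext x
        rw [hg x]; rfl
      intro xbar hx
      obtain ⟨a, rfl⟩ := QuotientGroup.mk'_surjective I xbar
      have hconj : QuotientGroup.mk' I a * QuotientGroup.mk' I b * (QuotientGroup.mk' I a)⁻¹ ∈ Q :=
        (Subgroup.mem_normalizer_iff.mp hx _).mp hyQ
      have hconj' : QuotientGroup.mk' I (a * b * a⁻¹) ∈ (Rbar : Subgroup _) := by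
        rw [map_mul, map_mul, map_inv]; exact hQR hconj
      have habS := hmemR _ hconj'
      obtain ⟨h, hhS, hh⟩ := (mem_autInducedBy_iff _).mp habS
      have hgext : g ∈ extender S P (P.subtype.comp (a : MulAut P).toMonoidHom) := by
        rw [mem_extender_iff]
        refine ⟨hgS, hgN, h, hhS, fun x hx => ?_⟩
        have := hh ((a : MulAut P) x)
        show (((a : MulAut P) ⟨g * x * g⁻¹, hx⟩ : P) : Ω) = h * (((a : MulAut P) x : P) : Ω) * h⁻¹
        rw [← this]
        congr 1
        show (a : MulAut P) ⟨g * x * g⁻¹, hx⟩ =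
          ((a : MulAut P) * (b : MulAut P) * (a : MulAut P)⁻¹) ((a : MulAut P) x)
        rw [MulAut.mul_apply, MulAut.mul_apply, MulAut.inv_apply_self]
        congr 1
        exact Subtype.ext (hg x).symm
      have haH : (a : MulAut P) ∈ H :=
        Subgroup.subset_closure (mem_extSet_of_extender F hRec a.2 hgext hgP)
      exact ⟨a, Subgroup.mem_subgroupOf.mpr haH, rfl⟩
    -- p divides the order of Out
    have hpdvd : p ∣ Nat.card (↥(F.autGroup P) ⧸ I) := by
      set β₀ : MulAut P := P.normalizerMonoidHom ⟨g₀, hg₀N.2⟩ with hβ₀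
      have hβ₀S : β₀ ∈ autInducedBy S P :=
        (mem_autInducedBy_iff β₀).mpr ⟨g₀, hg₀N.1, fun x => rfl⟩
      have hβ₀A : β₀ ∈ F.autGroup P := autInducedBy_le_autGroup F hPS hβ₀S
      set ybar := QuotientGroup.mk' I ⟨β₀, hβ₀A⟩ with hybar
      have hyR : ybar ∈ (Rbar : Subgroup _) := by
        rw [hRbar_coe]
        exact ⟨⟨β₀, hβ₀A⟩, Subgroup.mem_subgroupOf.mpr hβ₀S, rfl⟩
      have hyne : ybar ≠ 1 := by
        intro h1
        rw [hybar, QuotientGroup.mk'_apply, QuotientGroup.eq_one_iff] at h1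
        have h2 : β₀ ∈ Inn P := Subgroup.mem_subgroupOf.mp h1
        exact hg₀P (mem_of_induces_inner hPS hcen h2 hg₀N.1 (fun x => rfl))
      obtain ⟨k, hk⟩ := Rbar.isPGroup' ⟨ybar, hyR⟩
      have hk' : ybar ^ p ^ k = 1 := congrArg Subtype.val hk
      have hord : orderOf ybar ∣ p ^ k := orderOf_dvd_of_pow_eq_one hk'
      obtain ⟨j, -, hj⟩ := (Nat.dvd_prime_pow Fact.out).mp hord
      have hj0 : j ≠ 0 := by
        rintro rfl
        rw [pow_zero, orderOf_eq_one_iff] at hj
        exact hyne hj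
      have : p ∣ orderOf ybar := by rw [hj]; exact dvd_pow_self p hj0
      exact this.trans (orderOf_dvd_natCard ybar)
    -- conclude: Hbar = ⊤
    have hHtop : Hbar = ⊤ := by
      by_contra hHne
      apply hness
      exact ⟨hcentric, hFN, hnorm, Hbar, hpdvd, hHne, Rbar, hkey⟩
    intro α hα
    have h1 : QuotientGroup.mk' I ⟨α, hα⟩ ∈ Hbar := by rw [hHtop]; trivial
    obtain ⟨b, hb, hba⟩ := h1
    have hbi : b⁻¹ * ⟨α, hα⟩ ∈ I := by
      rw [← QuotientGroup.eq_one_iff, ← QuotientGroup.mk'_apply, map_mul, map_inv, hba]; simp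
    have hbi' : ((b⁻¹ * ⟨α, hα⟩ : ↥(F.autGroup P)) : MulAut P) ∈ H :=
      hInn_le (Subgroup.mem_subgroupOf.mp hbi)
    have : α = (b : MulAut P) * ((b⁻¹ * ⟨α, hα⟩ : ↥(F.autGroup P)) : MulAut P) := by
      simp
    rw [this]
    exact Subgroup.mul_mem _ (Subgroup.mem_subgroupOf.mp hb) hbi'
  · -- non-centric case: every automorphism extends to `P C_S(P)`
    obtain ⟨c, hc, hcP⟩ := SetLike.not_le_iff_exists.mp hcen
    intro α hα
    apply Subgroup.subset_closure
    exact mem_extSet_of_extender F hRec hα (centralizerIn_le_extender _ hc) hcP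

end Cfsg.Agent.Helper25
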