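import Mathlib
import Cfsg.Prelude.Def_FusionSystem
import Cfsg.Agent.Lib.Helper25.FusionAlperin
import Cfsg.Agent.S5082

set_option autoImplicit false

namespace Cfsg.Agent.Helper25

open Cfsg Cfsg.FusionSystem

variable {Ω : Type*} [Group Ω] {S : Subgroup Ω}

/-- The subsystem of `F` cut out by a predicate on maps that holds for conjugations by elements of `S` and
is stable under composition and inverses. -/
def predSub (F : FusionSystem S) (Pr : ∀ P : Subgroup Ω, (P →* Ω) → Prop)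
    (hconj : ∀ {P : Subgroup Ω} {g : Ω}, P ≤ S → g ∈ S → Pr P (conjHom P g))
    (hcomp : ∀ {P Q : Subgroup Ω} {φ : P →* Ω} {ψ : Q →* Ω}, φ ∈ F.Hom P → ψ ∈ F.Hom Q → Pr P φ → Pr Q ψ →
      ∀ h : ∀ x : P, φ x ∈ Q, Pr P (ψ.comp (φ.codRestrict Q h)))
    (hinv : ∀ {P : Subgroup Ω} {φ : P →* Ω}, φ ∈ F.Hom P → Pr P φ → ∀ ψ ∈ F.Hom φ.range,
      (∀ x : P, ψ ⟨φ x, ⟨x, rfl⟩⟩ = (x : Ω)) → Pr φ.range ψ) : FusionSystem S where
  Hom P := {φ | φ ∈ F.Hom P ∧ Pr P φ}
  le_of_mem h := F.le_of_mem h.1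
  injective_of_mem h := F.injective_of_mem h.1
  conj_mem hP hg := ⟨F.conj_mem hP hg, hconj hP hg⟩
  comp_mem hφ hψ h := ⟨F.comp_mem hφ.1 hψ.1 h, hcomp hφ.1 hψ.1 hφ.2 hψ.2 h⟩
  inv_mem := by
    rintro P φ ⟨hφ, hP⟩
    obtain ⟨ψ, hψ, h⟩ := F.inv_mem hφ
    exact ⟨ψ, ⟨hψ, hinv hφ hP ψ hψ h⟩, h⟩

/-- Alperin induction: a predicate on maps of a saturated fusion system that holds for conjugations by
elements of `S`, is stable under composition and inverses, and holds for the automorphisms of `S` and of the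
essential subgroups, holds for all maps of the system. -/
theorem alperin_induction [Finite S] (p : ℕ) [Fact p.Prime] (hS : IsPGroup p S) (F : FusionSystem S)
    (hF : F.IsSaturated p) (Pr : ∀ P : Subgroup Ω, (P →* Ω) → Prop)
    (hconj : ∀ {P : Subgroup Ω} {g : Ω}, P ≤ S → g ∈ S → Pr P (conjHom P g))
    (hcomp : ∀ {P Q : Subgroup Ω} {φ : P →* Ω} {ψ : Q →* Ω}, φ ∈ F.Hom P → ψ ∈ F.Hom Q → Pr P φ → Pr Q ψ →
      ∀ h : ∀ x : P, φ x ∈ Q, Pr P (ψ.comp (φ.codRestrict Q h)))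
    (hinv : ∀ {P : Subgroup Ω} {φ : P →* Ω}, φ ∈ F.Hom P → Pr P φ → ∀ ψ ∈ F.Hom φ.range,
      (∀ x : P, ψ ⟨φ x, ⟨x, rfl⟩⟩ = (x : Ω)) → Pr φ.range ψ)
    (haut : ∀ P : Subgroup Ω, (P = S ∨ F.IsEssential p P) → ∀ α ∈ F.autGroup P,
      Pr P (P.subtype.comp α.toMonoidHom))
    {P : Subgroup Ω} {φ : P →* Ω} (hφ : φ ∈ F.Hom P) : Pr P φ := by
  have hle : F ≤ predSub F Pr hconj hcomp hinv := by
    apply Cfsg.Agent.S5082.result p hS F hF
    intro P hP α hα
    have hPS : P ≤ S := by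
      rcases hP with rfl | hP
      · exact le_rfl
      · exact hP.1.1
    rw [mem_autGroup_iff _ hPS]
    exact ⟨(mem_autGroup_iff F hPS α).mp hα, haut P hP α hα⟩
  exact (hle P hφ).2

/-- `S` and the essential subgroups are fully automized. -/
theorem isFullyAutomized_of_eq_or_essential [Finite S] (p : ℕ) [Fact p.Prime] (hS : IsPGroup p S)
    (F : FusionSystem S) (hF : F.IsSaturated p) {P : Subgroup Ω} (hP : P = S ∨ F.IsEssential p P) :
    F.IsFullyAutomized p P := by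
  rcases hP with rfl | hP
  · exact isFullyAutomized_self p F hF
  · exact (of_fullyNormalized p hS F hF hP.2.1).2.1

end Cfsg.Agent.Helper25
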