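import Mathlib
import Cfsg.Prelude.Def_FusionSystem
import Cfsg.Agent.Lib.Helper25.FusionAlperin2
import Cfsg.Agent.Lib.Helper25.PResidual

set_option autoImplicit false

namespace Cfsg.Agent.Helper25

open Cfsg Cfsg.FusionSystem
open scoped commutatorElement

variable {Ω : Type*} [Group Ω] {S : Subgroup Ω}

/-- For a fully automized `P`, `Aut_F(P) = Aut_S(P) · O^p(Aut_F(P))`. -/
theorem exists_mul_autInducedBy_pResidual [Finite S] (p : ℕ) [Fact p.Prime] (F : FusionSystem S)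
    {P : Subgroup Ω} (hFA : F.IsFullyAutomized p P) {α : MulAut P} (hα : α ∈ F.autGroup P) :
    ∃ σ ∈ autInducedBy S P, ∃ ν : ↥(F.autGroup P), ν ∈ pResidual p ↥(F.autGroup P) ∧
      α = σ * (ν : MulAut P) := by
  haveI : Finite P := finite_of_le_finite hFA.1
  obtain ⟨R, hR⟩ := hFA.2
  obtain ⟨r, hr, u, hu, hru⟩ := exists_mul_pResidual p R ⟨α, hα⟩
  have hr' : r ∈ (autInducedBy S P).subgroupOf (F.autGroup P) := by rw [← hR]; exact hr
  exact ⟨r, Subgroup.mem_subgroupOf.mp hr', u, hu, congrArg Subtype.val hru⟩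

theorem hyperfocal_gen_mem (F : FusionSystem S) (p : ℕ) {P : Subgroup Ω} (hPS : P ≤ S)
    (ν : ↥(F.autGroup P)) (hν : ν ∈ pResidual p ↥(F.autGroup P)) (x : P) :
    (x : Ω)⁻¹ * (((ν : MulAut P) x : P) : Ω) ∈ F.hyperfocalSubgroup p :=
  Subgroup.subset_closure ⟨P, ν, x, hPS, hν, rfl⟩

theorem commutator_mem_of_mem {a b : Ω} (ha : a ∈ S) (hb : b ∈ S) :
    a⁻¹ * b * a * b⁻¹ ∈ ⁅(S : Subgroup Ω), (S : Subgroup Ω)⁆ := by
  have h1 : ⁅a⁻¹, b⁆ ∈ ⁅(S : Subgroup Ω), (S : Subgroup Ω)⁆ :=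
    Subgroup.commutator_mem_commutator (S.inv_mem ha) hb
  have h2 : ⁅a⁻¹, b⁆ = a⁻¹ * b * a * b⁻¹ := by rw [commutatorElement_def, inv_inv]
  rwa [h2] at h1

theorem hyperfocalSubgroup_le (F : FusionSystem S) (p : ℕ) : F.hyperfocalSubgroup p ≤ S := by
  unfold FusionSystem.hyperfocalSubgroup
  rw [Subgroup.closure_le]
  rintro _ ⟨P, α, x, hPS, -, rfl⟩
  exact S.mul_mem (S.inv_mem (hPS x.2)) (hPS ((α : MulAut P) x).2)

theorem pResidual_transport {M M' : Type*} [Group M] [Group M'] (p : ℕ) (Θ : M →* M')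
    (hΘ : Function.Injective Θ) {A : Subgroup M} {A' : Subgroup M'} (h : ∀ a ∈ A, Θ a ∈ A')
    {ν : ↥A} (hν : ν ∈ pResidual p ↥A) : (⟨Θ ν, h ν ν.2⟩ : ↥A') ∈ pResidual p ↥A' := by
  set f : ↥A →* ↥A' := (Θ.comp A.subtype).codRestrict A' (fun a => h a a.2) with hf
  have hfinj : Function.Injective f := by
    intro a b hab
    have : Θ a = Θ b := congrArg Subtype.val hab
    exact Subtype.ext (hΘ this)
  exact map_pResidual_le' p f hfinj ⟨ν, hν, rfl⟩

/-- The hyperfocal subgroup is normalized by `S`. -/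
theorem conj_mem_hyperfocalSubgroup (F : FusionSystem S) (p : ℕ) {s : Ω} (hs : s ∈ S) {y : Ω}
    (hy : y ∈ F.hyperfocalSubgroup p) : s * y * s⁻¹ ∈ F.hyperfocalSubgroup p := by
  unfold FusionSystem.hyperfocalSubgroup at hy
  induction hy using Subgroup.closure_induction with
  | mem y hy =>
    obtain ⟨P, ν, x, hPS, hν, rfl⟩ := hy
    have hc : conjHom P s ∈ F.Hom P := F.conj_mem hPS hs
    set e := homEquiv F hc with he
    have hP'S : (conjHom P s).range ≤ S := range_le F hc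
    have heF : (conjHom P s).range.subtype.comp e.toMonoidHom ∈ F.Hom P := by
      have : (conjHom P s).range.subtype.comp e.toMonoidHom = conjHom P s := by
        ext z; rfl
      rw [this]; exact hc
    have hmap : ∀ a ∈ F.autGroup P, (MulAut.congr e).toMonoidHom a ∈ F.autGroup (conjHom P s).range :=
      fun a ha => congr_mem_autGroup' F e heF ha
    have hν' := pResidual_transport p (MulAut.congr e).toMonoidHom (MulAut.congr e).injective hmap hν
    have hgen := hyperfocal_gen_mem F p hP'S _ hν' (e x)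
    have hex : ∀ z : P, ((e z : (conjHom P s).range) : Ω) = s * (z : Ω) * s⁻¹ := fun z => rfl
    have h1 : (((MulAut.congr e) (ν : MulAut P)) (e x)) = e ((ν : MulAut P) x) := by
      simp [MulAut.congr]
    have h2 : ((e x : (conjHom P s).range) : Ω)⁻¹ *
        ((((MulAut.congr e) (ν : MulAut P)) (e x) : (conjHom P s).range) : Ω) =
        s * ((x : Ω)⁻¹ * (((ν : MulAut P) x : P) : Ω)) * s⁻¹ := by
      rw [h1, hex, hex]; group
    rw [← h2]
    exact hgen
  | one => simp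
  | mul a b _ _ ha hb =>
    have : s * (a * b) * s⁻¹ = (s * a * s⁻¹) * (s * b * s⁻¹) := by group
    rw [this]; exact Subgroup.mul_mem _ ha hb
  | inv a _ ha =>
    have : s * a⁻¹ * s⁻¹ = (s * a * s⁻¹)⁻¹ := by group
    rw [this]; exact Subgroup.inv_mem _ ha

end Cfsg.Agent.Helper25
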