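import Mathlib
import Cfsg.Prelude.Def_FusionComponents
import Cfsg.Agent.Lib.Helper25.Fusion

set_option autoImplicit false

namespace Cfsg.Agent.Helper25

open Cfsg Cfsg.FusionSystem

variable {Ω : Type*} [Group Ω] {S : Subgroup Ω} {Ω' : Type*} [Group Ω']

theorem mem_preimageAlong {θ : S →* Ω'} {P' : Subgroup Ω'} {x : Ω} :
    x ∈ preimageAlong θ P' ↔ ∃ h : x ∈ S, θ ⟨x, h⟩ ∈ P' := by
  unfold preimageAlong
  constructor
  · rintro ⟨s, hs, rfl⟩
    exact ⟨s.2, hs⟩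
  · rintro ⟨h, hx⟩
    exact ⟨⟨x, h⟩, hx, rfl⟩

theorem preimageAlong_le (θ : S →* Ω') (P' : Subgroup Ω') : preimageAlong θ P' ≤ S := by
  intro x hx
  exact (mem_preimageAlong.1 hx).1

theorem map_mem_of_mem_preimageAlong {θ : S →* Ω'} {P' : Subgroup Ω'} (x : preimageAlong θ P') :
    θ ⟨x, preimageAlong_le θ P' x.2⟩ ∈ P' :=
  (mem_preimageAlong.1 x.2).2

theorem exists_preimage {θ : S →* Ω'} {S' P' : Subgroup Ω'} (hS' : θ.range = S') (hP' : P' ≤ S')
    {x' : Ω'} (hx' : x' ∈ P') : ∃ x : preimageAlong θ P', θ ⟨x, preimageAlong_le θ P' x.2⟩ = x' := by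
  have : x' ∈ θ.range := hS' ▸ hP' hx'
  obtain ⟨s, rfl⟩ := this
  exact ⟨⟨s, mem_preimageAlong.2 ⟨s.2, hx'⟩⟩, rfl⟩

/-- The restriction of `θ` to the full preimage of `P'`, as a map onto `P'`. -/
def preimageMap (θ : S →* Ω') (P' : Subgroup Ω') : preimageAlong θ P' →* P' :=
  (θ.comp (Subgroup.inclusion (preimageAlong_le θ P'))).codRestrict P'
    (fun x => map_mem_of_mem_preimageAlong x)

theorem preimageMap_apply (θ : S →* Ω') (P' : Subgroup Ω') (x : preimageAlong θ P') :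
    ((preimageMap θ P' x : P') : Ω') = θ ⟨x, preimageAlong_le θ P' x.2⟩ := rfl

theorem preimageMap_surjective {θ : S →* Ω'} {S' P' : Subgroup Ω'} (hS' : θ.range = S')
    (hP' : P' ≤ S') : Function.Surjective (preimageMap θ P') := by
  intro x'
  obtain ⟨x, hx⟩ := exists_preimage hS' hP' x'.2
  exact ⟨x, Subtype.ext hx⟩

/-- A map of `F` defined on a full preimage, which keeps the kernel of `θ` inside the kernel, induces a
homomorphism along `θ`. -/
theorem exists_inducedAlong {θ : S →* Ω'} {S' Q' : Subgroup Ω'} (hS' : θ.range = S') (hQ' : Q' ≤ S')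
    {ψ : preimageAlong θ Q' →* Ω} (hψS : ∀ x, ψ x ∈ S)
    (hk : ∀ x : preimageAlong θ Q', θ ⟨x, preimageAlong_le θ Q' x.2⟩ = 1 → θ ⟨ψ x, hψS x⟩ = 1) :
    ∃ ψ' : Q' →* Ω', InducedAlong θ ψ ψ' := by
  have hsurj := preimageMap_surjective hS' hQ'
  let g : preimageAlong θ Q' →* Ω' := θ.comp (ψ.codRestrict S hψS)
  have hle : (preimageMap θ Q').ker ≤ g.ker := by
    intro x hx
    rw [MonoidHom.mem_ker] at hx ⊢
    have h1 : θ ⟨x, preimageAlong_le θ Q' x.2⟩ = 1 := by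
      have := congrArg Subtype.val hx
      simpa [preimageMap_apply] using this
    exact hk x h1
  refine ⟨(preimageMap θ Q').liftOfRightInverse (Function.surjInv hsurj)
    (Function.rightInverse_surjInv hsurj) ⟨g, hle⟩, preimageAlong_le θ Q', hψS,
    fun x => map_mem_of_mem_preimageAlong x, fun x => ?_⟩
  have := MonoidHom.liftOfRightInverse_comp_apply (preimageMap θ Q') (Function.surjInv hsurj)
    (Function.rightInverse_surjInv hsurj) ⟨g, hle⟩ x
  exact this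

/-- The factor system of `F` modulo a strongly closed subgroup, read through `θ`. -/
theorem exists_factorSystem [Finite S] (F : FusionSystem S) (S₀ : Subgroup Ω) (hS₀ : F.StronglyClosed S₀)
    (θ : S →* Ω') (hker : ∀ s : S, θ s = 1 ↔ (s : Ω) ∈ S₀) (S' : Subgroup Ω') (hS' : θ.range = S') :
    ∃ E : FusionSystem S', F.IsFactorSystem S₀ θ E := by
  -- a map with source containing x ∈ S₀ keeps x in S₀
  have hsc : ∀ {P : Subgroup Ω} {φ : P →* Ω}, φ ∈ F.Hom P → ∀ x : P, (x : Ω) ∈ S₀ → φ x ∈ S₀ := by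
    intro P φ hφ x hx
    have h1 := restrict_mem F (inf_le_left : P ⊓ S₀ ≤ P) hφ
    exact hS₀.2 (P ⊓ S₀) inf_le_right _ h1 ⟨(x : Ω), ⟨x.2, hx⟩⟩
  have hkerle : ∀ P' : Subgroup Ω', S₀ ≤ preimageAlong θ P' := by
    intro P' x hx
    rw [mem_preimageAlong]
    refine ⟨hS₀.1 hx, ?_⟩
    have : θ ⟨x, hS₀.1 hx⟩ = 1 := (hker _).2 hx
    rw [this]; exact P'.one_mem
  refine ⟨{ Hom := fun P' => {φ' | P' ≤ S' ∧ ∃ φ ∈ F.Hom (preimageAlong θ P'), InducedAlong θ φ φ'}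
            le_of_mem := ?_
            injective_of_mem := ?_
            conj_mem := ?_
            comp_mem := ?_
            inv_mem := ?_ }, hS₀.1, hker, hS', fun P' φ' => Iff.rfl⟩
  · rintro P' φ' ⟨hP', φ, hφ, hP, hφS, hPP', hind⟩
    refine ⟨hP', fun x' => ?_⟩
    obtain ⟨x, hx⟩ := exists_preimage hS' hP' x'.2
    have := hind x
    have e : (⟨θ ⟨(x : Ω), hP x.2⟩, hPP' x⟩ : P') = x' := Subtype.ext hx
    rw [e] at this
    rw [this, ← hS']
    exact ⟨_, rfl⟩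
  · rintro P' φ' ⟨hP', φ, hφ, hP, hφS, hPP', hind⟩
    rw [injective_iff_map_eq_one]
    intro x' hx'
    obtain ⟨x, hx⟩ := exists_preimage hS' hP' x'.2
    have h1 := hind x
    have e : (⟨θ ⟨(x : Ω), hP x.2⟩, hPP' x⟩ : P') = x' := Subtype.ext hx
    rw [e, hx'] at h1
    have h2 : (φ x : Ω) ∈ S₀ := (hker _).1 h1.symm
    -- pull back along the inverse map
    obtain ⟨ψ, hψ, hinv⟩ := F.inv_mem hφ
    have h3 := hsc hψ ⟨φ x, ⟨x, rfl⟩⟩ h2
    rw [hinv x] at h3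
    have h4 : θ ⟨(x : Ω), hP x.2⟩ = 1 := (hker _).2 h3
    apply Subtype.ext
    rw [← hx]
    exact h4
  · intro P' g' hP' hg'
    refine ⟨hP', ?_⟩
    have : g' ∈ θ.range := hS' ▸ hg'
    obtain ⟨g, rfl⟩ := this
    have hcS : ∀ x : preimageAlong θ P', conjHom (preimageAlong θ P') (g : Ω) x ∈ S := by
      intro x
      rw [conjHom_apply]
      exact S.mul_mem (S.mul_mem g.2 (preimageAlong_le θ P' x.2)) (S.inv_mem g.2)
    refine ⟨conjHom (preimageAlong θ P') g, F.conj_mem (preimageAlong_le θ P') g.2,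
      preimageAlong_le θ P', hcS, fun x => map_mem_of_mem_preimageAlong x, ?_⟩
    intro x
    rw [conjHom_apply]
    have : (⟨(conjHom (preimageAlong θ P') (g : Ω)) x, hcS x⟩ : S) =
        g * ⟨(x : Ω), preimageAlong_le θ P' x.2⟩ * g⁻¹ := Subtype.ext rfl
    rw [this, map_mul, map_mul, map_inv]
  · rintro P' Q' φ' ψ' ⟨hP', φ, hφ, hP, hφS, hPP', hind⟩ ⟨hQ', ψ, hψ, hQ, hψS, hQQ', hindψ⟩ h
    refine ⟨hP', ?_⟩
    -- φ maps the preimage of P' into the preimage of Q'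
    have hφQ : ∀ x : preimageAlong θ P', φ x ∈ preimageAlong θ Q' := by
      intro x
      rw [mem_preimageAlong]
      refine ⟨hφS x, ?_⟩
      rw [← hind x]
      exact h _
    refine ⟨ψ.comp (φ.codRestrict _ hφQ), F.comp_mem hφ hψ hφQ, hP, fun x => hψS _, hPP', ?_⟩
    intro x
    have h1 := hind x
    have h2 := hindψ (φ.codRestrict _ hφQ x)
    have e : (φ'.codRestrict Q' h) ⟨θ ⟨(x : Ω), hP x.2⟩, hPP' x⟩ =
        ⟨θ ⟨((φ.codRestrict _ hφQ x : preimageAlong θ Q') : Ω), hQ (φ.codRestrict _ hφQ x).2⟩,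
          hQQ' _⟩ := by
      apply Subtype.ext
      exact h1
    exact (congrArg ψ' e).trans h2
  · rintro P' φ' ⟨hP', φ, hφ, hP, hφS, hPP', hind⟩
    -- φ maps S₀ onto S₀
    have hS₀P : S₀ ≤ preimageAlong θ P' := hkerle P'
    have hS₀range : S₀ ≤ φ.range := by
      haveI : Finite S₀ := Finite.of_injective (Subgroup.inclusion hS₀.1) (Subgroup.inclusion_injective _)
      let f : S₀ → S₀ := fun y => ⟨φ ⟨y, hS₀P y.2⟩, hsc hφ ⟨y, hS₀P y.2⟩ y.2⟩
      have hfinj : Function.Injective f := by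
        intro y z hyz
        have h1 : φ ⟨y, hS₀P y.2⟩ = φ ⟨z, hS₀P z.2⟩ := congrArg Subtype.val hyz
        have h2 := F.injective_of_mem hφ h1
        apply Subtype.ext
        have h3 : ((⟨y, hS₀P y.2⟩ : preimageAlong θ P') : Ω) = ((⟨z, hS₀P z.2⟩ : preimageAlong θ P') : Ω) :=
          congrArg (fun w : preimageAlong θ P' => (w : Ω)) h2
        exact h3
      have hfsurj := Finite.surjective_of_injective hfinj
      intro y hy
      obtain ⟨z, hz⟩ := hfsurj ⟨y, hy⟩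
      exact ⟨⟨z, hS₀P z.2⟩, congrArg Subtype.val hz⟩
    have hrangeS' : φ'.range ≤ S' := by
      rintro _ ⟨x', rfl⟩
      obtain ⟨x, hx⟩ := exists_preimage hS' hP' x'.2
      have h1 := hind x
      have e : (⟨θ ⟨(x : Ω), hP x.2⟩, hPP' x⟩ : P') = x' := Subtype.ext hx
      rw [e] at h1
      rw [h1, ← hS']; exact ⟨_, rfl⟩
    have hrange : φ.range = preimageAlong θ φ'.range := by
      ext y
      rw [mem_preimageAlong]
      constructor
      · rintro ⟨x, rfl⟩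
        exact ⟨hφS x, ⟨⟨θ ⟨(x : Ω), hP x.2⟩, hPP' x⟩, hind x⟩⟩
      · rintro ⟨hyS, ⟨x', hx'⟩⟩
        obtain ⟨x, hx⟩ := exists_preimage hS' hP' x'.2
        have h1 := hind x
        have e : (⟨θ ⟨(x : Ω), hP x.2⟩, hPP' x⟩ : P') = x' := Subtype.ext hx
        rw [e, hx'] at h1
        have h2 : θ (⟨y, hyS⟩ * (⟨φ x, hφS x⟩ : S)⁻¹) = 1 := by
          rw [map_mul, map_inv, ← h1, mul_inv_cancel]
        have h3 : y * (φ x : Ω)⁻¹ ∈ S₀ := (hker _).1 h2
        have h4 := hS₀range h3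
        have : y = (y * (φ x : Ω)⁻¹) * φ x := by group
        rw [this]
        exact Subgroup.mul_mem _ h4 ⟨x, rfl⟩
    obtain ⟨ψ, hψ, hinv, _⟩ := exists_inv F hφ hrange
    have hψS : ∀ y : preimageAlong θ φ'.range, ψ y ∈ S := (F.le_of_mem hψ).2
    have hk : ∀ x : preimageAlong θ φ'.range, θ ⟨x, preimageAlong_le θ _ x.2⟩ = 1 →
        θ ⟨ψ x, hψS x⟩ = 1 := by
      intro x hx
      have h1 : (x : Ω) ∈ S₀ := (hker _).1 hx
      exact (hker _).2 (hsc hψ x h1)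
    obtain ⟨ψ', hψ'⟩ := exists_inducedAlong hS' hrangeS' hψS hk
    refine ⟨ψ', ⟨hrangeS', ψ, hψ, hψ'⟩, ?_⟩
    intro x'
    obtain ⟨hQ, hψS', hQQ', hindψ⟩ := hψ'
    obtain ⟨x, hx⟩ := exists_preimage hS' hP' x'.2
    have h1 := hind x
    have e : (⟨θ ⟨(x : Ω), hP x.2⟩, hPP' x⟩ : P') = x' := Subtype.ext hx
    rw [e] at h1
    -- y = φ x as an element of the preimage of φ'.range
    have hy : (φ x : Ω) ∈ preimageAlong θ φ'.range := by
      rw [← hrange]; exact ⟨x, rfl⟩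
    have h2 := hindψ ⟨φ x, hy⟩
    have h3 : ψ ⟨φ x, hy⟩ = x := hinv x hy
    have e2 : (⟨θ ⟨((⟨φ x, hy⟩ : preimageAlong θ φ'.range) : Ω), hQ hy⟩, hQQ' ⟨φ x, hy⟩⟩ : φ'.range) =
        ⟨φ' x', ⟨x', rfl⟩⟩ := Subtype.ext h1.symm
    rw [e2] at h2
    rw [h2, ← hx]
    congr 1
    exact Subtype.ext h3

end Cfsg.Agent.Helper25
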