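import Mathlib
import Cfsg.Prelude.Def_FusionComponents
import Cfsg.Agent.Lib.Helper25.FusionFactor
import Cfsg.Agent.Lib.Helper25.FusionAut
import Cfsg.Agent.Lib.Helper25.FusionSylow2
import Cfsg.Agent.Lib.Helper25.FusionRecept
import Cfsg.Agent.Lib.Helper25.FusionTransport

/-!
# Surjective morphisms of fusion systems: descent of automorphisms and of saturation
-/

set_option autoImplicit false

namespace Cfsg.Agent.Helper25

open Cfsg Cfsg.FusionSystem

/-! ### Descent of automorphisms along a surjection (pure group theory) -/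

section Descend

variable {Q Q' : Type*} [Group Q] [Group Q']

/-- An automorphism preserving (together with its inverse) the kernel of a surjection descends. -/
theorem exists_descend (π : Q →* Q') (hπ : Function.Surjective π) (β : MulAut Q)
    (hβ : ∀ x, π x = 1 → π (β x) = 1) (hβ' : ∀ x, π x = 1 → π (β⁻¹ x) = 1) :
    ∃ β' : MulAut Q', ∀ x, β' (π x) = π (β x) := by
  have h1 : π.ker ≤ (π.comp β.toMonoidHom).ker := by
    intro x hx
    rw [MonoidHom.mem_ker] at hx ⊢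
    exact hβ x hx
  have h2 : π.ker ≤ (π.comp (β⁻¹).toMonoidHom).ker := by
    intro x hx
    rw [MonoidHom.mem_ker] at hx ⊢
    exact hβ' x hx
  let f : Q' →* Q' := π.liftOfRightInverse (Function.surjInv hπ) (Function.rightInverse_surjInv hπ)
    ⟨π.comp β.toMonoidHom, h1⟩
  let g : Q' →* Q' := π.liftOfRightInverse (Function.surjInv hπ) (Function.rightInverse_surjInv hπ)
    ⟨π.comp (β⁻¹).toMonoidHom, h2⟩
  have hf : ∀ x, f (π x) = π (β x) := fun x =>
    MonoidHom.liftOfRightInverse_comp_apply π (Function.surjInv hπ)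
      (Function.rightInverse_surjInv hπ) ⟨π.comp β.toMonoidHom, h1⟩ x
  have hg : ∀ x, g (π x) = π (β⁻¹ x) := fun x =>
    MonoidHom.liftOfRightInverse_comp_apply π (Function.surjInv hπ)
      (Function.rightInverse_surjInv hπ) ⟨π.comp (β⁻¹).toMonoidHom, h2⟩ x
  refine ⟨MulEquiv.mk ⟨f, g, ?_, ?_⟩ (map_mul f), hf⟩
  · intro y
    obtain ⟨x, rfl⟩ := hπ y
    rw [hf, hg]; simp
  · intro y
    obtain ⟨x, rfl⟩ := hπ y
    rw [hg, hf]; simp

/-- The descent homomorphism on a subgroup of automorphisms preserving the kernel. -/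
noncomputable def descHom (π : Q →* Q') (hπ : Function.Surjective π) (A : Subgroup (MulAut Q))
    (hA : ∀ β ∈ A, ∀ x, π x = 1 → π (β x) = 1) : A →* MulAut Q' where
  toFun β := Classical.choose (exists_descend π hπ β.1 (hA β.1 β.2) (hA _ (A.inv_mem β.2)))
  map_one' := by
    ext y
    obtain ⟨x, rfl⟩ := hπ y
    rw [Classical.choose_spec (exists_descend π hπ (1 : A).1 (hA _ (1 : A).2) (hA _ (A.inv_mem (1 : A).2))) x]
    rfl
  map_mul' := by
    intro a b
    ext y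
    obtain ⟨x, rfl⟩ := hπ y
    rw [Classical.choose_spec (exists_descend π hπ (a * b).1 (hA _ (a * b).2)
      (hA _ (A.inv_mem (a * b).2))) x]
    rw [MulAut.mul_apply,
      Classical.choose_spec (exists_descend π hπ b.1 (hA _ b.2) (hA _ (A.inv_mem b.2))) x,
      Classical.choose_spec (exists_descend π hπ a.1 (hA _ a.2) (hA _ (A.inv_mem a.2))) (b.1 x)]
    rfl

theorem descHom_apply (π : Q →* Q') (hπ : Function.Surjective π) (A : Subgroup (MulAut Q))
    (hA : ∀ β ∈ A, ∀ x, π x = 1 → π (β x) = 1) (β : A) (x : Q) :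
    descHom π hπ A hA β (π x) = π (β.1 x) :=
  Classical.choose_spec (exists_descend π hπ β.1 (hA β.1 β.2) (hA _ (A.inv_mem β.2))) x

theorem descHom_eq_iff (π : Q →* Q') (hπ : Function.Surjective π) (A : Subgroup (MulAut Q))
    (hA : ∀ β ∈ A, ∀ x, π x = 1 → π (β x) = 1) (β : A) (β' : MulAut Q') :
    descHom π hπ A hA β = β' ↔ ∀ x, β' (π x) = π (β.1 x) := by
  constructor
  · rintro rfl x
    exact descHom_apply π hπ A hA β x
  · intro h
    ext y
    obtain ⟨x, rfl⟩ := hπ y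
    rw [descHom_apply, h]

/-- Sylow lemma: a `p`-subgroup whose image lies in the image of a Sylow subgroup can be conjugated into that
Sylow subgroup by an element of the kernel. -/
theorem exists_ker_conj_le {A B : Type*} [Group A] [Group B] [Finite A] {p : ℕ} [Fact p.Prime]
    (Θ : A →* B) (T : Sylow p A) (X : Subgroup A) (hX : IsPGroup p X)
    (hXT : X.map Θ ≤ (T : Subgroup A).map Θ) :
    ∃ χ ∈ Θ.ker, ∀ x ∈ X, χ * x * χ⁻¹ ∈ (T : Subgroup A) := by
  set M : Subgroup A := ((T : Subgroup A).map Θ).comap Θ with hM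
  have hTM : (T : Subgroup A) ≤ M := Subgroup.le_comap_map _ _
  have hXM : X ≤ M := by
    intro x hx
    exact hXT ⟨x, hx, rfl⟩
  have hs : IsSylowIn p (T : Subgroup A) M := (isSylowIn_top_of_sylow T).of_le hTM le_top
  obtain ⟨μ, hμ, hle⟩ := hs.exists_conj_le hXM hX
  obtain ⟨t, ht, htμ⟩ := hμ
  refine ⟨t⁻¹ * μ, ?_, fun x hx => ?_⟩
  · rw [MonoidHom.mem_ker, map_mul, map_inv, htμ, inv_mul_cancel]
  · have h1 : μ * x * μ⁻¹ ∈ (T : Subgroup A) := by
      apply hle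
      rw [mem_conjBy]
      simpa [mul_assoc] using hx
    have : t⁻¹ * μ * x * (t⁻¹ * μ)⁻¹ = t⁻¹ * (μ * x * μ⁻¹) * t := by group
    rw [this]
    exact Subgroup.mul_mem _ (Subgroup.mul_mem _ (Subgroup.inv_mem _ ht) h1) ht

end Descend

/-! ### Morphisms: basic facts -/

section Basic

variable {Ω : Type*} [Group Ω] {S : Subgroup Ω} {Ω' : Type*} [Group Ω'] {S' : Subgroup Ω'}

theorem mem_imageAlong {α : S →* Ω'} {P : Subgroup Ω} {y : Ω'} :
    y ∈ imageAlong α P ↔ ∃ s : S, (s : Ω) ∈ P ∧ α s = y := by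
  unfold imageAlong
  rw [Subgroup.mem_map]
  constructor
  · rintro ⟨s, hs, rfl⟩
    exact ⟨s, Subgroup.mem_subgroupOf.mp hs, rfl⟩
  · rintro ⟨s, hs, rfl⟩
    exact ⟨s, Subgroup.mem_subgroupOf.mpr hs, rfl⟩

theorem imageAlong_preimageAlong {α : S →* Ω'} (hS' : α.range = S') {P' : Subgroup Ω'} (hP' : P' ≤ S') :
    imageAlong α (preimageAlong α P') = P' := by
  ext y
  rw [mem_imageAlong]
  constructor
  · rintro ⟨s, hs, rfl⟩
    obtain ⟨h, hx⟩ := mem_preimageAlong.mp hs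
    exact hx
  · intro hy
    obtain ⟨s, rfl⟩ : y ∈ α.range := hS' ▸ hP' hy
    exact ⟨s, mem_preimageAlong.mpr ⟨s.2, hy⟩, rfl⟩

/-- The spec of an induced map on a full preimage, through `preimageMap`. -/
theorem inducedAlong_apply {α : S →* Ω'} {P' : Subgroup Ω'}
    {φ : preimageAlong α P' →* Ω} {φ' : P' →* Ω'} (h : InducedAlong α φ φ') :
    ∃ hφ : ∀ x, φ x ∈ S, ∀ x, φ' (preimageMap α P' x) = α ⟨φ x, hφ x⟩ := by
  obtain ⟨hP, hφ, hP', hx⟩ := h
  exact ⟨hφ, fun x => hx x⟩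

/-- A morphism induces maps on the subgroups `P'` of `S'` from maps on full preimages. -/
theorem exists_induced_of_surj {F : FusionSystem S} {F' : FusionSystem S'} {α : S →* Ω'}
    (hα : F.IsSurjectiveMorphism F' α) {P' : Subgroup Ω'} (hP' : P' ≤ S')
    {φ : preimageAlong α P' →* Ω} (hφ : φ ∈ F.Hom (preimageAlong α P')) :
    ∃ φ' ∈ F'.Hom P', InducedAlong α φ φ' := by
  obtain ⟨⟨-, hmor⟩, hrange, -⟩ := hα
  obtain ⟨φ'', hφ'', hP, hφS, hP'', hind⟩ := hmor _ φ hφ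
  have himg := imageAlong_preimageAlong hrange hP'
  refine ⟨φ''.comp (Subgroup.inclusion himg.ge), hom_transport F' himg.symm hφ'', hP, hφS,
    fun x => map_mem_of_mem_preimageAlong x, fun x => ?_⟩
  exact hind x

/-- Elements of the kernel lie in the range of any map of the system defined on a full preimage. -/
theorem ker_le_range [Finite S] {F : FusionSystem S} {F' : FusionSystem S'} {α : S →* Ω'}
    (hα : F.IsMorphism F' α) {P' : Subgroup Ω'}
    {φ : preimageAlong α P' →* Ω} (hφ : φ ∈ F.Hom (preimageAlong α P'))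
    {k : Ω} (hk : k ∈ S) (hk1 : α ⟨k, hk⟩ = 1) : k ∈ φ.range := by
  classical
  -- the kernel as a set
  let K : Set Ω := {k | ∃ h : k ∈ S, α ⟨k, h⟩ = 1}
  have hKP : ∀ k ∈ K, k ∈ preimageAlong α P' := by
    rintro k ⟨h, hk⟩
    exact mem_preimageAlong.mpr ⟨h, hk ▸ P'.one_mem⟩
  obtain ⟨φ', hφ', hP, hφS, hP'', hind⟩ := hα.2 _ φ hφ
  have hφK : ∀ (k : Ω) (hk : k ∈ K), φ ⟨k, hKP k hk⟩ ∈ K := by
    rintro k ⟨h, hk⟩
    refine ⟨hφS _, ?_⟩
    rw [← hind ⟨k, _⟩]
    have : (⟨α ⟨k, hP (hKP k ⟨h, hk⟩)⟩, hP'' ⟨k, hKP k ⟨h, hk⟩⟩⟩ : imageAlong α (preimageAlong α P')) = 1 := by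
      apply Subtype.ext
      exact hk
    rw [this, map_one]
  haveI : Finite K := Finite.of_injective (fun k : K => (⟨k.1, k.2.1⟩ : S))
    (fun a b h => Subtype.ext (by have := congrArg Subtype.val h; exact this))
  let f : K → K := fun k => ⟨φ ⟨k.1, hKP k.1 k.2⟩, hφK k.1 k.2⟩
  have hf : Function.Injective f := by
    intro a b h
    have h1 : φ ⟨a.1, hKP a.1 a.2⟩ = φ ⟨b.1, hKP b.1 b.2⟩ := congrArg Subtype.val h
    have h2 := F.injective_of_mem hφ h1
    exact Subtype.ext (by have := congrArg Subtype.val h2; exact this)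
  obtain ⟨k₀, hk₀⟩ := (Finite.injective_iff_surjective.mp hf) ⟨k, hk, hk1⟩
  exact ⟨⟨k₀.1, hKP k₀.1 k₀.2⟩, congrArg Subtype.val hk₀⟩

/-- The range of a map on a full preimage inducing `φ'` is the full preimage of the range of `φ'`. -/
theorem range_eq_preimageAlong [Finite S] {F : FusionSystem S} {F' : FusionSystem S'} {α : S →* Ω'}
    (hα : F.IsSurjectiveMorphism F' α) {P' : Subgroup Ω'} (hP' : P' ≤ S')
    {φ : preimageAlong α P' →* Ω} (hφ : φ ∈ F.Hom (preimageAlong α P')) {φ' : P' →* Ω'}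
    (hind : InducedAlong α φ φ') : φ.range = preimageAlong α φ'.range := by
  obtain ⟨hφS, hspec⟩ := inducedAlong_apply hind
  ext y
  constructor
  · rintro ⟨x, rfl⟩
    exact mem_preimageAlong.mpr ⟨hφS x, by rw [← hspec x]; exact ⟨_, rfl⟩⟩
  · intro hy
    obtain ⟨hyS, x', hx'⟩ := mem_preimageAlong.mp hy
    obtain ⟨x, rfl⟩ := preimageMap_surjective hα.2.1 hP' x'
    rw [hspec x] at hx'
    -- k := y * (φ x)⁻¹ is in the kernel
    have hkS : y * (φ x)⁻¹ ∈ S := S.mul_mem hyS (S.inv_mem (hφS x))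
    have hk1 : α ⟨y * (φ x)⁻¹, hkS⟩ = 1 := by
      have : (⟨y * (φ x)⁻¹, hkS⟩ : S) = ⟨y, hyS⟩ * ⟨φ x, hφS x⟩⁻¹ := rfl
      rw [this, map_mul, map_inv, hx', mul_inv_cancel]
    obtain ⟨k₀, hk₀⟩ := ker_le_range hα.1 hφ hkS hk1
    refine ⟨k₀ * x, ?_⟩
    rw [map_mul, hk₀]
    group

end Basic

/-! ### Descent of `Aut_F(Q)` to `Aut_F'(Q')` for `Q` the full preimage of `Q'` -/

section AutDesc

variable {Ω : Type*} [Group Ω] {S : Subgroup Ω} {Ω' : Type*} [Group Ω'] {S' : Subgroup Ω'}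

/-- The restriction of `α` to `Q`, the full preimage of `Q'`, as a map onto `Q'`. -/
def piMap {α : S →* Ω'} {Q : Subgroup Ω} {Q' : Subgroup Ω'} (hQ : Q = preimageAlong α Q') : Q →* Q' :=
  (preimageMap α Q').comp (Subgroup.inclusion hQ.le)

theorem piMap_coe {α : S →* Ω'} {Q : Subgroup Ω} {Q' : Subgroup Ω'} (hQ : Q = preimageAlong α Q')
    (x : Q) : ((piMap hQ x : Q') : Ω') = α ⟨x, (hQ.le.trans (preimageAlong_le α Q')) x.2⟩ := rfl

theorem piMap_surjective {α : S →* Ω'} (hS' : α.range = S') {Q : Subgroup Ω} {Q' : Subgroup Ω'}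
    (hQ' : Q' ≤ S') (hQ : Q = preimageAlong α Q') : Function.Surjective (piMap hQ) := by
  subst hQ
  intro y
  obtain ⟨x, hx⟩ := preimageMap_surjective hS' hQ' y
  exact ⟨x, hx⟩

theorem map_eq_one_of_isMorphism {F : FusionSystem S} {F' : FusionSystem S'} {α : S →* Ω'}
    (hα : F.IsMorphism F' α) {P : Subgroup Ω} {φ : P →* Ω} (hφ : φ ∈ F.Hom P) (x : P)
    (h1 : α ⟨x, (F.le_of_mem hφ).1 x.2⟩ = 1) : α ⟨φ x, (F.le_of_mem hφ).2 x⟩ = 1 := by
  obtain ⟨φ', hφ', hP, hφS, hP', hind⟩ := hα.2 P φ hφ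
  rw [← hind x]
  have : (⟨α ⟨x, hP x.2⟩, hP' x⟩ : imageAlong α P) = 1 := Subtype.ext h1
  rw [this, map_one]

theorem autGroup_preserves_ker {F : FusionSystem S} {F' : FusionSystem S'} {α : S →* Ω'}
    (hα : F.IsMorphism F' α) {Q : Subgroup Ω} {Q' : Subgroup Ω'} (hQ : Q = preimageAlong α Q') :
    ∀ β ∈ F.autGroup Q, ∀ x, piMap hQ x = 1 → piMap hQ (β x) = 1 := by
  intro β hβ x hx
  have hQS : Q ≤ S := hQ.le.trans (preimageAlong_le α Q')
  have hβF := (mem_autGroup_iff F hQS β).mp hβ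
  apply Subtype.ext
  rw [piMap_coe]
  have h1 : α ⟨x, hQS x.2⟩ = 1 := by
    have := congrArg Subtype.val hx
    rwa [piMap_coe] at this
  exact map_eq_one_of_isMorphism hα hβF x h1

/-- The descent homomorphism `Aut_F(Q) → Aut(Q')`. -/
noncomputable def autDesc {F : FusionSystem S} {F' : FusionSystem S'} {α : S →* Ω'}
    (hα : F.IsSurjectiveMorphism F' α) {Q : Subgroup Ω} {Q' : Subgroup Ω'} (hQ' : Q' ≤ S')
    (hQ : Q = preimageAlong α Q') : F.autGroup Q →* MulAut Q' :=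
  descHom (piMap hQ) (piMap_surjective hα.2.1 hQ' hQ) (F.autGroup Q) (autGroup_preserves_ker hα.1 hQ)

theorem autDesc_apply {F : FusionSystem S} {F' : FusionSystem S'} {α : S →* Ω'}
    (hα : F.IsSurjectiveMorphism F' α) {Q : Subgroup Ω} {Q' : Subgroup Ω'} (hQ' : Q' ≤ S')
    (hQ : Q = preimageAlong α Q') (β : F.autGroup Q) (x : Q) :
    autDesc hα hQ' hQ β (piMap hQ x) = piMap hQ (β.1 x) :=
  descHom_apply _ _ _ _ β x

theorem autDesc_eq_iff {F : FusionSystem S} {F' : FusionSystem S'} {α : S →* Ω'}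
    (hα : F.IsSurjectiveMorphism F' α) {Q : Subgroup Ω} {Q' : Subgroup Ω'} (hQ' : Q' ≤ S')
    (hQ : Q = preimageAlong α Q') (β : F.autGroup Q) (β' : MulAut Q') :
    autDesc hα hQ' hQ β = β' ↔ ∀ x, β' (piMap hQ x) = piMap hQ (β.1 x) :=
  descHom_eq_iff _ _ _ _ β β'

theorem autDesc_mem {F : FusionSystem S} {F' : FusionSystem S'} {α : S →* Ω'}
    (hα : F.IsSurjectiveMorphism F' α) {Q : Subgroup Ω} {Q' : Subgroup Ω'} (hQ' : Q' ≤ S')
    (hQ : Q = preimageAlong α Q') (β : F.autGroup Q) :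
    autDesc hα hQ' hQ β ∈ F'.autGroup Q' := by
  subst hQ
  have hQS : preimageAlong α Q' ≤ S := preimageAlong_le α Q'
  have hβF := (mem_autGroup_iff F hQS β.1).mp β.2
  obtain ⟨φ', hφ', hind⟩ := exists_induced_of_surj hα hQ' hβF
  obtain ⟨hφS, hspec⟩ := inducedAlong_apply hind
  rw [mem_autGroup_iff F' hQ']
  have : Q'.subtype.comp (autDesc hα hQ' rfl β).toMonoidHom = φ' := by
    ext y
    obtain ⟨x, rfl⟩ := preimageMap_surjective hα.2.1 hQ' y
    rw [hspec x]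
    have := autDesc_apply hα hQ' rfl β x
    have h2 := congrArg Subtype.val this
    exact h2
  rw [this]
  exact hφ'

/-- A map of the system from `P` onto `P` is an element of `Aut_F(P)`. -/
theorem aut_of_range_eq (F : FusionSystem S) {P : Subgroup Ω} {φ : P →* Ω} (hφ : φ ∈ F.Hom P)
    (hr : φ.range = P) : ∃ β ∈ F.autGroup P, ∀ x : P, ((β x : P) : Ω) = φ x := by
  have hPS : P ≤ S := (F.le_of_mem hφ).1
  refine ⟨(homEquiv F hφ).trans (MulEquiv.subgroupCongr hr), ?_, fun x => rfl⟩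
  rw [mem_autGroup_iff F hPS]
  have : P.subtype.comp ((homEquiv F hφ).trans (MulEquiv.subgroupCongr hr)).toMonoidHom = φ := by
    ext x; rfl
  rw [this]
  exact hφ

theorem autDesc_surj [Finite S] {F : FusionSystem S} {F' : FusionSystem S'} {α : S →* Ω'}
    (hα : F.IsSurjectiveMorphism F' α) {Q : Subgroup Ω} {Q' : Subgroup Ω'} (hQ' : Q' ≤ S')
    (hQ : Q = preimageAlong α Q') (β' : MulAut Q') (hβ' : β' ∈ F'.autGroup Q') :
    ∃ β : F.autGroup Q, autDesc hα hQ' hQ β = β' := by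
  subst hQ
  have hβF' := (mem_autGroup_iff F' hQ' β').mp hβ'
  obtain ⟨ψ, hψ, hind⟩ := hα.2.2 Q' hQ' _ hβF'
  have hr := range_eq_preimageAlong hα hQ' hψ hind
  have hr2 : (Q'.subtype.comp β'.toMonoidHom).range = Q' := by
    ext y
    constructor
    · rintro ⟨x, rfl⟩
      exact (β' x).2
    · intro hy
      exact ⟨β'⁻¹ ⟨y, hy⟩, by simp⟩
  rw [hr2] at hr
  obtain ⟨β, hβ, hβψ⟩ := aut_of_range_eq F hψ hr
  refine ⟨⟨β, hβ⟩, ?_⟩
  rw [autDesc_eq_iff]
  intro x
  obtain ⟨hφS, hspec⟩ := inducedAlong_apply hind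
  apply Subtype.ext
  have := hspec x
  rw [piMap_coe]
  simp only [hβψ]
  exact this

/-- The descent of a conjugation automorphism is the conjugation by the image. -/
theorem autDesc_mem_autInducedBy {F : FusionSystem S} {F' : FusionSystem S'} {α : S →* Ω'}
    (hα : F.IsSurjectiveMorphism F' α) {Q : Subgroup Ω} {Q' : Subgroup Ω'} (hQ' : Q' ≤ S')
    (hQ : Q = preimageAlong α Q') (β : F.autGroup Q) (hβ : β.1 ∈ autInducedBy S Q) :
    autDesc hα hQ' hQ β ∈ autInducedBy S' Q' := by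
  obtain ⟨g, hg, hgβ⟩ := (mem_autInducedBy_iff β.1).mp hβ
  rw [mem_autInducedBy_iff]
  refine ⟨α ⟨g, hg⟩, hα.1.1 _, fun y => ?_⟩
  obtain ⟨x, rfl⟩ := piMap_surjective hα.2.1 hQ' hQ y
  rw [autDesc_apply, piMap_coe, piMap_coe]
  have hQS : Q ≤ S := hQ.le.trans (preimageAlong_le α Q')
  have : (⟨((β.1 x : Q) : Ω), hQS (β.1 x).2⟩ : S) = ⟨g, hg⟩ * ⟨x, hQS x.2⟩ * ⟨g, hg⟩⁻¹ :=
    Subtype.ext (hgβ x)
  rw [this, map_mul, map_mul, map_inv]

theorem exists_autDesc_eq_of_mem_autInducedBy {F : FusionSystem S} {F' : FusionSystem S'}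
    {α : S →* Ω'} (hα : F.IsSurjectiveMorphism F' α) {Q : Subgroup Ω} {Q' : Subgroup Ω'}
    (hQ' : Q' ≤ S') (hQ : Q = preimageAlong α Q') (β' : MulAut Q') (hβ' : β' ∈ autInducedBy S' Q') :
    ∃ β : F.autGroup Q, β.1 ∈ autInducedBy S Q ∧ autDesc hα hQ' hQ β = β' := by
  have hQS : Q ≤ S := hQ.le.trans (preimageAlong_le α Q')
  obtain ⟨g', hg', hgβ'⟩ := (mem_autInducedBy_iff β').mp hβ'
  obtain ⟨g, rfl⟩ : g' ∈ α.range := hα.2.1 ▸ hg'
  -- `g` normalizes `Q`
  have hmemQ : ∀ y : Ω, y ∈ Q ↔ ∃ h : y ∈ S, α ⟨y, h⟩ ∈ Q' := by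
    intro y; rw [hQ]; exact mem_preimageAlong
  have hconj : ∀ (k : S) (β'' : MulAut Q'), (∀ y : Q', ((β'' y : Q') : Ω') = α k * y * (α k)⁻¹) →
      ∀ y ∈ Q, (k : Ω) * y * (k : Ω)⁻¹ ∈ Q := by
    intro k β'' hk y hy
    obtain ⟨hyS, hy'⟩ := (hmemQ y).mp hy
    rw [hmemQ]
    refine ⟨S.mul_mem (S.mul_mem k.2 hyS) (S.inv_mem k.2), ?_⟩
    have : (⟨(k : Ω) * y * (k : Ω)⁻¹, S.mul_mem (S.mul_mem k.2 hyS) (S.inv_mem k.2)⟩ : S) =
        k * ⟨y, hyS⟩ * k⁻¹ := rfl
    rw [this, map_mul, map_mul, map_inv, ← hk ⟨_, hy'⟩]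
    exact (β'' _).2
  have hgN : (g : Ω) ∈ Subgroup.normalizer (Q : Set Ω) := by
    apply mem_normalizer_of_forall
    · exact hconj g β' hgβ'
    · have := hconj g⁻¹ β'⁻¹ (by
        intro y
        have h1 := hgβ' (β'⁻¹ y)
        rw [MulAut.apply_inv_self] at h1
        rw [map_inv, inv_inv, h1]
        group)
      intro y hy
      have h2 := this y hy
      simpa using h2
  let β : MulAut Q := Q.normalizerMonoidHom ⟨g, hgN⟩
  have hβS : β ∈ autInducedBy S Q :=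
    (mem_autInducedBy_iff β).mpr ⟨g, g.2, fun x => rfl⟩
  refine ⟨⟨β, autInducedBy_le_autGroup F hQS hβS⟩, hβS, ?_⟩
  rw [autDesc_eq_iff]
  intro x
  apply Subtype.ext
  rw [hgβ', piMap_coe, piMap_coe]
  have : (⟨((β x : Q) : Ω), hQS (β x).2⟩ : S) = g * ⟨x, hQS x.2⟩ * g⁻¹ := rfl
  rw [this, map_mul, map_mul, map_inv]

/-- Descent of "fully automized". -/
theorem isSylowIn_autInducedBy_of_surj [Finite S] {p : ℕ} [Fact p.Prime] {F : FusionSystem S}
    {F' : FusionSystem S'} {α : S →* Ω'}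
    (hα : F.IsSurjectiveMorphism F' α) {Q : Subgroup Ω} {Q' : Subgroup Ω'} (hQ' : Q' ≤ S')
    (hQ : Q = preimageAlong α Q') (h : IsSylowIn p (autInducedBy S Q) (F.autGroup Q)) :
    IsSylowIn p (autInducedBy S' Q') (F'.autGroup Q') := by
  have hQS : Q ≤ S := hQ.le.trans (preimageAlong_le α Q')
  haveI : Finite Q := finite_of_le_finite hQS
  obtain ⟨T, hT⟩ := (isSylowIn_iff_exists_sylow (autInducedBy_le_autGroup F hQS)).mp h
  have h1 := isSylowIn_map_range (autDesc hα hQ' hQ) T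
  have e1 : (autDesc hα hQ' hQ).range = F'.autGroup Q' := by
    ext β'
    constructor
    · rintro ⟨β, rfl⟩
      exact autDesc_mem hα hQ' hQ β
    · intro hβ'
      exact autDesc_surj hα hQ' hQ β' hβ'
  have e2 : (T : Subgroup (F.autGroup Q)).map (autDesc hα hQ' hQ) = autInducedBy S' Q' := by
    rw [hT]
    ext β'
    constructor
    · rintro ⟨β, hβ, rfl⟩
      exact autDesc_mem_autInducedBy hα hQ' hQ β (Subgroup.mem_subgroupOf.mp hβ)
    · intro hβ'
      obtain ⟨β, hβS, rfl⟩ := exists_autDesc_eq_of_mem_autInducedBy hα hQ' hQ β' hβ'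
      exact ⟨β, Subgroup.mem_subgroupOf.mpr hβS, rfl⟩
  rw [e1, e2] at h1
  exact h1

theorem autInducedBy_mono {K L P : Subgroup Ω} (h : K ≤ L) : autInducedBy K P ≤ autInducedBy L P := by
  intro β hβ
  obtain ⟨g, hg, hgβ⟩ := (mem_autInducedBy_iff β).mp hβ
  exact (mem_autInducedBy_iff β).mpr ⟨g, h hg, hgβ⟩

/-- Descent of "receptive" (given fully automized). -/
theorem isReceptive_of_surj [Finite S] {p : ℕ} [Fact p.Prime] (hS : IsPGroup p S)
    {F : FusionSystem S} {F' : FusionSystem S'} {α : S →* Ω'}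
    (hα : F.IsSurjectiveMorphism F' α) {Q' : Subgroup Ω'} (hQ' : Q' ≤ S')
    (hFA : F.IsFullyAutomized p (preimageAlong α Q')) (hRc : F.IsReceptive (preimageAlong α Q')) :
    F'.IsReceptive Q' := by
  refine ⟨hQ', fun R' φ' hφ' hrange => ?_⟩
  subst hrange
  have hR'S' : R' ≤ S' := (F'.le_of_mem hφ').1
  obtain ⟨φ, hφ, hind⟩ := hα.2.2 R' hR'S' φ' hφ'
  have hr : φ.range = preimageAlong α φ'.range := range_eq_preimageAlong hα hR'S' hφ hind
  obtain ⟨hφS, hspec⟩ := inducedAlong_apply hind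
  have hQS : preimageAlong α φ'.range ≤ S := preimageAlong_le α _
  have hRS : preimageAlong α R' ≤ S := preimageAlong_le α R'
  haveI : Finite (preimageAlong α φ'.range) := finite_of_le_finite hQS
  obtain ⟨e, he_coe⟩ : ∃ e : preimageAlong α R' ≃* preimageAlong α φ'.range,
      ∀ x, ((e x : preimageAlong α φ'.range) : Ω) = φ x :=
    ⟨(homEquiv F hφ).trans (MulEquiv.subgroupCongr hr), fun x => rfl⟩
  have heF : (preimageAlong α φ'.range).subtype.comp e.toMonoidHom ∈ F.Hom (preimageAlong α R') := by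
    have : (preimageAlong α φ'.range).subtype.comp e.toMonoidHom = φ := by
      ext x; exact he_coe x
    rw [this]; exact hφ
  have hπe : ∀ x : preimageAlong α R',
      ((piMap (rfl : preimageAlong α φ'.range = preimageAlong α φ'.range) (e x) : φ'.range) : Ω') =
        φ' (preimageMap α R' x) := by
    intro x
    rw [piMap_coe, hspec x]
    congr 1
    exact Subtype.ext (he_coe x)
  -- the Sylow subgroup
  have hsyl := (isFullyAutomized_iff F p hQS).mp hFA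
  obtain ⟨T, hT⟩ := (isSylowIn_iff_exists_sylow (autInducedBy_le_autGroup F hQS)).mp hsyl
  -- facts on the preimage of the extender
  have hN'S' : extender S' R' φ' ≤ S' := fun x hx => ((mem_extender_iff φ' x).mp hx).1
  have hNS : preimageAlong α (extender S' R' φ') ≤ S := preimageAlong_le α _
  have hmemR : ∀ y : Ω, y ∈ preimageAlong α R' ↔ ∃ h : y ∈ S, α ⟨y, h⟩ ∈ R' :=
    fun y => mem_preimageAlong
  have hNnorm : ∀ g ∈ preimageAlong α (extender S' R' φ'),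
      g ∈ Subgroup.normalizer ((preimageAlong α R' : Subgroup Ω) : Set Ω) := by
    intro g hg
    obtain ⟨hgS, hgN'⟩ := mem_preimageAlong.mp hg
    obtain ⟨-, hgnorm, -⟩ := (mem_extender_iff φ' _).mp hgN'
    have key : ∀ (k : S), α k ∈ Subgroup.normalizer (R' : Set Ω') → ∀ y ∈ preimageAlong α R',
        (k : Ω) * y * (k : Ω)⁻¹ ∈ preimageAlong α R' := by
      intro k hk y hy
      obtain ⟨hyS, hy'⟩ := (hmemR y).mp hy
      rw [hmemR]
      refine ⟨S.mul_mem (S.mul_mem k.2 hyS) (S.inv_mem k.2), ?_⟩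
      have : (⟨(k : Ω) * y * (k : Ω)⁻¹, S.mul_mem (S.mul_mem k.2 hyS) (S.inv_mem k.2)⟩ : S) =
          k * ⟨y, hyS⟩ * k⁻¹ := rfl
      rw [this, map_mul, map_mul, map_inv]
      exact (Subgroup.mem_normalizer_iff.mp hk _).mp hy'
    apply mem_normalizer_of_forall
    · exact key ⟨g, hgS⟩ hgnorm
    · have := key ⟨g, hgS⟩⁻¹ (by rw [map_inv]; exact Subgroup.inv_mem _ hgnorm)
      intro y hy
      have h2 := this y hy
      simpa using h2
  -- the transported p-subgroup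
  obtain ⟨X, hXdef⟩ : ∃ X : Subgroup (F.autGroup (preimageAlong α φ'.range)),
      X = ((autInducedBy (preimageAlong α (extender S' R' φ')) (preimageAlong α R')).map
        (MulAut.congr e).toMonoidHom).subgroupOf (F.autGroup (preimageAlong α φ'.range)) := ⟨_, rfl⟩
  have hXp : IsPGroup p X := by
    rw [hXdef]
    apply IsPGroup.comap_of_injective _ _ (Subgroup.subtype_injective _)
    exact (((isPGroup_autInducedBy hS (preimageAlong α R')).to_le (autInducedBy_mono hNS)).map _)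
  have hsurjQ := piMap_surjective hα.2.1 hQ' (rfl : preimageAlong α φ'.range = preimageAlong α φ'.range)
  -- the key computation: transported conjugations descend to conjugations by elements of S'
  have hkey : ∀ (g : Ω) (hgN : g ∈ preimageAlong α (extender S' R' φ'))
      (γ : MulAut (preimageAlong α R')),
      (∀ x, ((γ x : preimageAlong α R') : Ω) = g * x * g⁻¹) →
      ∀ β : F.autGroup (preimageAlong α φ'.range), β.1 = MulAut.congr e γ →
        autDesc hα hQ' rfl β ∈ autInducedBy S' φ'.range := by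
    intro g hgN γ hγ β hβ
    obtain ⟨hgS, hgN'⟩ := mem_preimageAlong.mp hgN
    obtain ⟨-, hgnorm, h', hh', hconj⟩ := (mem_extender_iff φ' _).mp hgN'
    rw [mem_autInducedBy_iff]
    refine ⟨h', hh', fun y' => ?_⟩
    obtain ⟨y, rfl⟩ := hsurjQ y'
    obtain ⟨x, rfl⟩ := e.surjective y
    rw [autDesc_apply, hβ]
    have h1 : (MulAut.congr e γ) (e x) = e (γ x) := by
      simp [MulAut.congr]
    rw [h1, hπe, hπe]
    have hx' : α ⟨g, hgS⟩ * ((preimageMap α R' x : R') : Ω') * (α ⟨g, hgS⟩)⁻¹ ∈ R' :=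
      (Subgroup.mem_normalizer_iff.mp hgnorm _).mp (preimageMap α R' x).2
    rw [← hconj (preimageMap α R' x) hx']
    congr 1
    apply Subtype.ext
    have : (⟨((γ x : preimageAlong α R') : Ω), hRS (γ x).2⟩ : S) =
        ⟨g, hgS⟩ * ⟨x, hRS x.2⟩ * ⟨g, hgS⟩⁻¹ := Subtype.ext (hγ x)
    show α ⟨((γ x : preimageAlong α R') : Ω), hRS (γ x).2⟩ =
      α ⟨g, hgS⟩ * α ⟨x, hRS x.2⟩ * (α ⟨g, hgS⟩)⁻¹
    rw [this, map_mul, map_mul, map_inv]
  have hXT : X.map (autDesc hα hQ' rfl) ≤ (T : Subgroup _).map (autDesc hα hQ' rfl) := by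
    rintro _ ⟨β, hβX, rfl⟩
    have hβX' : β ∈ X := hβX
    rw [hXdef, Subgroup.mem_subgroupOf] at hβX'
    obtain ⟨γ, hγ, hγβ⟩ := hβX'
    obtain ⟨g, hgN, hgγ⟩ := (mem_autInducedBy_iff γ).mp hγ
    have h1 := hkey g hgN γ hgγ β hγβ.symm
    obtain ⟨β₂, hβ₂S, hβ₂⟩ := exists_autDesc_eq_of_mem_autInducedBy hα hQ' rfl _ h1
    refine ⟨β₂, ?_, hβ₂⟩
    rw [SetLike.mem_coe, hT, Subgroup.mem_subgroupOf]
    exact hβ₂S
  obtain ⟨χ, hχker, hχX⟩ := exists_ker_conj_le (autDesc hα hQ' rfl) T X hXp hXT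
  have hχF := (mem_autGroup_iff F hQS χ.1).mp χ.2
  -- the corrected lift
  obtain ⟨φ₁, hφ₁def⟩ : ∃ φ₁ : preimageAlong α R' →* Ω,
      ∀ x, φ₁ x = ((χ.1 (e x) : preimageAlong α φ'.range) : Ω) :=
    ⟨((preimageAlong α φ'.range).subtype.comp χ.1.toMonoidHom).comp e.toMonoidHom, fun x => rfl⟩
  have hφ₁F : φ₁ ∈ F.Hom (preimageAlong α R') :=
    comp_mem' F heF hχF (fun x => (e x).2) (fun x => by rw [hφ₁def]; rfl)
  have hφ₁range : φ₁.range = preimageAlong α φ'.range := by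
    ext y
    constructor
    · rintro ⟨x, rfl⟩
      rw [hφ₁def]; exact Subtype.property _
    · intro hy
      refine ⟨e.symm (χ.1⁻¹ ⟨y, hy⟩), ?_⟩
      rw [hφ₁def]; simp
  -- N ≤ N_{φ₁}
  have hNle : preimageAlong α (extender S' R' φ') ≤ extender S (preimageAlong α R') φ₁ := by
    intro g hgN
    have hgS : g ∈ S := hNS hgN
    have hgnorm := hNnorm g hgN
    rw [mem_extender_iff]
    refine ⟨hgS, hgnorm, ?_⟩
    obtain ⟨γ, hγ⟩ : ∃ γ : MulAut (preimageAlong α R'),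
        ∀ x, ((γ x : preimageAlong α R') : Ω) = g * x * g⁻¹ :=
      ⟨(preimageAlong α R').normalizerMonoidHom ⟨g, hgnorm⟩, fun x => rfl⟩
    have hγN : γ ∈ autInducedBy (preimageAlong α (extender S' R' φ')) (preimageAlong α R') :=
      (mem_autInducedBy_iff γ).mpr ⟨g, hgN, hγ⟩
    have hγF : γ ∈ F.autGroup (preimageAlong α R') :=
      autInducedBy_le_autGroup F hRS (autInducedBy_mono hNS hγN)
    have hβA : MulAut.congr e γ ∈ F.autGroup (preimageAlong α φ'.range) :=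
      congr_mem_autGroup' F e heF hγF
    have hβX : (⟨MulAut.congr e γ, hβA⟩ : F.autGroup (preimageAlong α φ'.range)) ∈ X := by
      rw [hXdef, Subgroup.mem_subgroupOf]
      exact ⟨γ, hγN, rfl⟩
    have h1 := hχX _ hβX
    rw [← SetLike.mem_coe, hT, SetLike.mem_coe, Subgroup.mem_subgroupOf] at h1
    obtain ⟨h, hhS, hh⟩ := (mem_autInducedBy_iff _).mp h1
    refine ⟨h, hhS, fun x hx => ?_⟩
    rw [hφ₁def, hφ₁def, ← hh (χ.1 (e x))]
    have e1 : (⟨g * (x : Ω) * g⁻¹, hx⟩ : preimageAlong α R') = γ x := Subtype.ext (hγ x).symm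
    rw [e1]
    show ((χ.1 (e (γ x)) : preimageAlong α φ'.range) : Ω) =
      (((χ.1 * MulAut.congr e γ * χ.1⁻¹) (χ.1 (e x)) : preimageAlong α φ'.range) : Ω)
    congr 1
    simp [MulAut.congr]
  obtain ⟨ψ, hψ, hψext⟩ := hRc.2 _ φ₁ hφ₁F hφ₁range
  have hψN := restrict_mem F hNle hψ
  obtain ⟨ψ', hψ', hindψ⟩ := exists_induced_of_surj hα hN'S' hψN
  obtain ⟨hψS, hspecψ⟩ := inducedAlong_apply hindψ
  refine ⟨ψ', hψ', fun x' hP hN => ?_⟩
  obtain ⟨s, rfl⟩ : x' ∈ α.range := hα.2.1 ▸ hR'S' hP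
  have hsR : (s : Ω) ∈ preimageAlong α R' := mem_preimageAlong.mpr ⟨s.2, hP⟩
  have hsN : (s : Ω) ∈ preimageAlong α (extender S' R' φ') := mem_preimageAlong.mpr ⟨s.2, hN⟩
  have h1 := hspecψ ⟨s, hsN⟩
  have e1 : preimageMap α (extender S' R' φ') ⟨s, hsN⟩ = ⟨α s, hN⟩ := Subtype.ext rfl
  rw [e1] at h1
  rw [h1]
  have e2 : (ψ.comp (Subgroup.inclusion hNle)) ⟨s, hsN⟩ = φ₁ ⟨s, hsR⟩ :=
    hψext s hsR (hNle hsN)
  have e3 : (⟨(ψ.comp (Subgroup.inclusion hNle)) ⟨s, hsN⟩, hψS ⟨s, hsN⟩⟩ : S) =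
      ⟨((χ.1 (e ⟨s, hsR⟩) : preimageAlong α φ'.range) : Ω), hQS (χ.1 (e ⟨s, hsR⟩)).2⟩ := by
    apply Subtype.ext
    show (ψ.comp (Subgroup.inclusion hNle)) ⟨s, hsN⟩ = _
    rw [e2, hφ₁def]
  rw [e3]
  -- χ descends to the identity
  have hχ1 : autDesc hα hQ' rfl χ = 1 := hχker
  have h2 := autDesc_apply hα hQ' rfl χ (e ⟨s, hsR⟩)
  rw [hχ1, MulAut.one_apply] at h2
  have h3 := congrArg Subtype.val h2
  rw [hπe ⟨s, hsR⟩, piMap_coe] at h3
  rw [← h3]
  congr 1

/-- The image of a saturated fusion system under a surjective morphism is saturated. -/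
theorem isSaturated_of_surj [Finite S] {p : ℕ} [Fact p.Prime] (hS : IsPGroup p S)
    {F : FusionSystem S} {F' : FusionSystem S'} {α : S →* Ω'} (hF : F.IsSaturated p)
    (hα : F.IsSurjectiveMorphism F' α) : F'.IsSaturated p := by
  intro P' hP'
  obtain ⟨Q, hconj, hFA, hRc⟩ := hF (preimageAlong α P') (preimageAlong_le α P')
  obtain ⟨φ, hφ, hrange⟩ := hconj
  obtain ⟨φ', hφ', hind⟩ := exists_induced_of_surj hα hP' hφ
  have hr := range_eq_preimageAlong hα hP' hφ hind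
  rw [hrange] at hr
  subst hr
  have hQ' : φ'.range ≤ S' := range_le F' hφ'
  refine ⟨φ'.range, ⟨φ', hφ', rfl⟩, ?_, isReceptive_of_surj hS hα hQ' hFA hRc⟩
  rw [isFullyAutomized_iff F' p hQ']
  exact isSylowIn_autInducedBy_of_surj hα hQ' rfl
    ((isFullyAutomized_iff F p (preimageAlong_le α _)).mp hFA)

end AutDesc

end Cfsg.Agent.Helper25
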