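import Mathlib
import Cfsg.Prelude.Def_FusionSystem
import Cfsg.Agent.Lib.Helper25.FusionSylow2

set_option autoImplicit false

namespace Cfsg.Agent.Helper25

open Cfsg Cfsg.FusionSystem
open scoped Pointwise

variable {G : Type*} [Group G]

/-- If `N_S(Q)` is Sylow in `N_G(Q)`, any `p`-subgroup of `N_S(Q) C_G(Q)` is conjugate into `N_S(Q)` by an
element of `C_G(Q)`. -/
theorem exists_centralizer_conj_le [Finite G] (p : ℕ) [Fact p.Prime] (S : Sylow p G) (Q : Subgroup G)
    (hs : IsSylowIn p (normalizerIn (S : Subgroup G) Q) (Subgroup.normalizer (Q : Set G)))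
    (X : Subgroup G) (hXp : IsPGroup p X)
    (hX : X ≤ normalizerIn (S : Subgroup G) Q ⊔ Subgroup.centralizer (Q : Set G)) :
    ∃ h ∈ Subgroup.centralizer (Q : Set G), Cfsg.conjBy X h ≤ normalizerIn (S : Subgroup G) Q := by
  set T := normalizerIn (S : Subgroup G) Q with hT
  set C := Subgroup.centralizer (Q : Set G) with hC
  have hTN : T ≤ Subgroup.normalizer (Q : Set G) := inf_le_right
  have hCN : C ≤ Subgroup.normalizer (Q : Set G) := Subgroup.centralizer_le_normalizer _
  have hM : T ⊔ C ≤ Subgroup.normalizer (Q : Set G) := sup_le hTN hCN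
  have hsM : IsSylowIn p T (T ⊔ C) := hs.of_le le_sup_left hM
  obtain ⟨m, hm, hXm⟩ := hsM.exists_conj_le hX hXp
  have hTnC : T ≤ Subgroup.normalizer (C : Set G) := by
    intro n hn
    rw [mem_normalizer_iff_conjBy, hC, ← centralizer_conjBy, mem_normalizer_iff_conjBy.mp (hTN hn)]
  have hm' : m ∈ ((T ⊔ C : Subgroup G) : Set G) := hm
  rw [Subgroup.coe_mul_of_left_le_normalizer_right T C hTnC] at hm'
  obtain ⟨s, hsT, c, hcC, rfl⟩ := hm'
  refine ⟨c, hcC, ?_⟩
  rw [← conjBy_conjBy] at hXm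
  have := conjBy_le_iff.mp hXm
  rwa [conjBy_of_mem (T.inv_mem hsT)] at this

/-- `Aut_F(Q)` for the fusion system of a group is `Aut_G(Q)`. -/
theorem groupFusionSystem_autGroup {S Q : Subgroup G} (hQ : Q ≤ S) :
    (groupFusionSystem S).autGroup Q = autInducedBy ⊤ Q := by
  ext α
  rw [mem_autGroup_iff _ hQ, mem_autInducedBy_iff]
  constructor
  · rintro ⟨-, -, g, hg⟩
    exact ⟨g, Subgroup.mem_top g, fun x => hg x⟩
  · rintro ⟨g, -, hg⟩
    exact ⟨hQ, fun x => hQ (α x).2, g, fun x => hg x⟩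

/-- The fusion system of a finite group on a Sylow subgroup is saturated. -/
theorem groupFusionSystem_isSaturated [Finite G] (p : ℕ) [Fact p.Prime] (S : Sylow p G) :
    (groupFusionSystem (S : Subgroup G)).IsSaturated p := by
  intro P hP
  obtain ⟨g, hQS, hs⟩ := exists_conj_sylow (fun X => Subgroup.normalizer (X : Set G))
    (fun X g => normalizer_conjBy X g) (fun X => le_rfl) S hP
  set Q := Cfsg.conjBy P g with hQdef
  have hs' : IsSylowIn p (normalizerIn (S : Subgroup G) Q) (Subgroup.normalizer (Q : Set G)) := hs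
  refine ⟨Q, groupFusionSystem_isConj_iff.mpr ⟨hP, hQS, g, rfl⟩, ⟨hQS, ?_⟩, ⟨hQS, ?_⟩⟩
  · -- fully automized
    have hle : normalizerIn (S : Subgroup G) Q ≤ Subgroup.normalizer (Q : Set G) := inf_le_right
    obtain ⟨T, hT⟩ := (isSylowIn_iff_exists_sylow hle).mp hs'
    have h1 := isSylowIn_map_range (Q.normalizerMonoidHom) T
    rw [hT] at h1
    have e1 : ((normalizerIn (S : Subgroup G) Q).subgroupOf (Subgroup.normalizer (Q : Set G))).map
        Q.normalizerMonoidHom = autInducedBy (S : Subgroup G) Q := by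
      rw [autInducedBy_eq_map]; rfl
    rw [e1, ← autInducedBy_top_eq_range, ← groupFusionSystem_autGroup hQS] at h1
    exact (isSylowIn_iff_exists_sylow h1.1).mp h1
  · -- receptive
    rintro P' φ ⟨hP'S, hφS, k, hk⟩ hrange
    have hQk : Q = Cfsg.conjBy P' k := by
      rw [← hrange]
      ext y
      rw [mem_conjBy]
      constructor
      · rintro ⟨x, rfl⟩
        rw [hk]; simpa [mul_assoc] using x.2
      · intro hy
        refine ⟨⟨_, hy⟩, ?_⟩
        rw [hk]; simp [mul_assoc]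
    set Nφ := extender (S : Subgroup G) P' φ with hNφ
    have hNφS : Nφ ≤ S := fun x hx => ((mem_extender_iff φ x).mp hx).1
    have hNφp : IsPGroup p Nφ := S.isPGroup'.to_le hNφS
    -- conjBy Nφ k ≤ N_S(Q) ⊔ C_G(Q)
    have hX : Cfsg.conjBy Nφ k ≤ normalizerIn (S : Subgroup G) Q ⊔ Subgroup.centralizer (Q : Set G) := by
      rintro _ ⟨x, hx, rfl⟩
      obtain ⟨hxS, hxN, h, hhS, hh⟩ := (mem_extender_iff φ x).mp hx
      show k * x * k⁻¹ ∈ _
      -- for y ∈ P': k (x y x⁻¹) k⁻¹ = h (k y k⁻¹) h⁻¹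
      have hconj : ∀ y ∈ P', k * (x * y * x⁻¹) * k⁻¹ = h * (k * y * k⁻¹) * h⁻¹ := by
        intro y hy
        have hxy : x * y * x⁻¹ ∈ P' := (Subgroup.mem_normalizer_iff.mp hxN y).mp hy
        have := hh ⟨y, hy⟩ hxy
        rw [hk, hk] at this
        exact this
      -- h normalizes Q
      have hhN : h ∈ Subgroup.normalizer (Q : Set G) := by
        rw [mem_normalizer_iff_conjBy]
        ext z
        rw [mem_conjBy, hQk, mem_conjBy, mem_conjBy]
        constructor
        · intro hz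
          -- k⁻¹ (h⁻¹ z h) k ∈ P'; let y be it; then z = h k y k⁻¹ h⁻¹ = k (x y x⁻¹) k⁻¹
          have := hconj _ hz
          have hxy : x * (k⁻¹ * (h⁻¹ * z * h) * k) * x⁻¹ ∈ P' :=
            (Subgroup.mem_normalizer_iff.mp hxN _).mp hz
          have e : k⁻¹ * z * k = x * (k⁻¹ * (h⁻¹ * z * h) * k) * x⁻¹ := by
            have : z = k * (x * (k⁻¹ * (h⁻¹ * z * h) * k) * x⁻¹) * k⁻¹ := by
              rw [this]; group
            calc k⁻¹ * z * k = k⁻¹ * (k * (x * (k⁻¹ * (h⁻¹ * z * h) * k) * x⁻¹) * k⁻¹) * k := by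
                  rw [← this]
              _ = _ := by group
          rw [e]; exact hxy
        · intro hz
          -- y := x⁻¹ (k⁻¹ z k) x ∈ P'
          have hy : x⁻¹ * (k⁻¹ * z * k) * x ∈ P' := by
            have := (Subgroup.mem_normalizer_iff.mp (Subgroup.inv_mem _ hxN) (k⁻¹ * z * k)).mp hz
            simpa using this
          have := hconj _ hy
          have e : k⁻¹ * (h⁻¹ * z * h) * k = x⁻¹ * (k⁻¹ * z * k) * x := by
            have h2 : z = h * (k * (x⁻¹ * (k⁻¹ * z * k) * x) * k⁻¹) * h⁻¹ := by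
              rw [← this]; group
            calc k⁻¹ * (h⁻¹ * z * h) * k
                = k⁻¹ * (h⁻¹ * (h * (k * (x⁻¹ * (k⁻¹ * z * k) * x) * k⁻¹) * h⁻¹) * h) * k := by
                  rw [← h2]
              _ = _ := by group
          rw [e]; exact hy
      have hc : h⁻¹ * (k * x * k⁻¹) ∈ Subgroup.centralizer (Q : Set G) := by
        rw [Subgroup.mem_centralizer_iff]
        intro z hz
        have hz' : k⁻¹ * z * k ∈ P' := by
          have : z ∈ Cfsg.conjBy P' k := hQk ▸ hz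
          exact mem_conjBy.mp this
        have := hconj _ hz'
        have e1 : k * (k⁻¹ * z * k) * k⁻¹ = z := by group
        rw [e1] at this
        -- k x (k⁻¹ z k) x⁻¹ k⁻¹ = h z h⁻¹
        calc z * (h⁻¹ * (k * x * k⁻¹)) = h⁻¹ * (h * z * h⁻¹) * (k * x * k⁻¹) := by group
          _ = h⁻¹ * (k * (x * (k⁻¹ * z * k) * x⁻¹) * k⁻¹) * (k * x * k⁻¹) := by rw [this]
          _ = h⁻¹ * (k * x * k⁻¹) * z := by group
      have : k * x * k⁻¹ = h * (h⁻¹ * (k * x * k⁻¹)) := by group
      rw [this]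
      exact Subgroup.mul_mem _ (Subgroup.mem_sup_left ⟨hhS, hhN⟩) (Subgroup.mem_sup_right hc)
    obtain ⟨h, hhC, hle⟩ := exists_centralizer_conj_le p S Q hs' (Cfsg.conjBy Nφ k)
      (isPGroup_conjBy hNφp k) hX
    rw [conjBy_conjBy] at hle
    refine ⟨conjHom Nφ (h * k), ⟨hNφS, fun x => ?_, h * k, fun x => rfl⟩, ?_⟩
    · have : (h * k) * (x : G) * (h * k)⁻¹ ∈ Cfsg.conjBy Nφ (h * k) := by
        rw [mem_conjBy]; simpa [mul_assoc] using x.2
      exact (hle this).1
    · intro x hxP hxN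
      rw [conjHom_apply, hk]
      show h * k * x * (h * k)⁻¹ = k * x * k⁻¹
      have hq : k * x * k⁻¹ ∈ Q := by
        rw [hQk, mem_conjBy]; simpa [mul_assoc] using hxP
      have := (Subgroup.mem_centralizer_iff.mp hhC) _ hq
      calc h * k * x * (h * k)⁻¹ = h * (k * x * k⁻¹) * h⁻¹ := by group
        _ = (k * x * k⁻¹) * h * h⁻¹ := by rw [← this]
        _ = k * x * k⁻¹ := by group

end Cfsg.Agent.Helper25
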