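import Mathlib
import Cfsg.Prelude.Def_FusionComponents
import Cfsg.Agent.Lib.Helper25.FusionMorph
import Cfsg.Agent.Lib.Helper25.FusionSylow3

/-!
# Fusion systems realized by a Sylow embedding are saturated
-/

set_option autoImplicit false

namespace Cfsg.Agent.Helper25

open Cfsg Cfsg.FusionSystem

variable {Ω : Type*} [Group Ω] {S : Subgroup Ω} {G : Type*} [Group G]

/-- The inverse of an injective homomorphism `ι : S →* G`, on its range, with values in the ambient group
of `S`. -/
noncomputable def realInv (ι : S →* G) (hι : Function.Injective ι) : ι.range →* Ω :=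
  S.subtype.comp (MonoidHom.ofInjective hι).symm.toMonoidHom

theorem realInv_mem (ι : S →* G) (hι : Function.Injective ι) (t : ι.range) : realInv ι hι t ∈ S :=
  Subtype.property _

theorem map_realInv (ι : S →* G) (hι : Function.Injective ι) (t : ι.range) :
    ι ⟨realInv ι hι t, realInv_mem ι hι t⟩ = t := by
  have := (MonoidHom.ofInjective hι).apply_symm_apply t
  exact congrArg Subtype.val this

theorem realInv_apply (ι : S →* G) (hι : Function.Injective ι) (s : S) (h : ι s ∈ ι.range) :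
    realInv ι hι ⟨ι s, h⟩ = s := by
  have : (MonoidHom.ofInjective hι).symm ⟨ι s, h⟩ = s := by
    rw [MulEquiv.symm_apply_eq]
    rfl
  exact congrArg Subtype.val this

/-- A system realized by `ι` is the image of the fusion system of `G` on `ι(S)` under the inverse of `ι`. -/
theorem isSurjectiveMorphism_of_realized (F : FusionSystem S) (ι : S →* G) (h : F.IsRealizedBy ι) :
    (groupFusionSystem ι.range).IsSurjectiveMorphism F (realInv ι h.1) := by
  obtain ⟨hι, hreal⟩ := h
  refine ⟨⟨realInv_mem ι hι, ?_⟩, ?_, ?_⟩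
  · -- morphism
    rintro P φ ⟨hPT, hφT, g, hg⟩
    have hP₁S : imageAlong (realInv ι hι) P ≤ S := by
      intro y hy
      obtain ⟨t, -, rfl⟩ := mem_imageAlong.mp hy
      exact realInv_mem ι hι t
    have hjmem : ∀ y : imageAlong (realInv ι hι) P, ι ⟨y, hP₁S y.2⟩ ∈ P := by
      intro y
      obtain ⟨t, ht, hty⟩ := mem_imageAlong.mp y.2
      have : (⟨(y : Ω), hP₁S y.2⟩ : S) = ⟨realInv ι hι t, realInv_mem ι hι t⟩ := Subtype.ext hty.symm
      rw [this, map_realInv]
      exact ht
    let j : imageAlong (realInv ι hι) P →* P :=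
      (ι.comp (Subgroup.inclusion hP₁S)).codRestrict P hjmem
    let φ' : imageAlong (realInv ι hι) P →* Ω :=
      (realInv ι hι).comp ((φ.codRestrict ι.range hφT).comp j)
    have hφ'S : ∀ y, φ' y ∈ S := fun y => realInv_mem ι hι _
    have hφ'F : φ' ∈ F.Hom (imageAlong (realInv ι hι) P) := by
      rw [hreal _ hP₁S φ' hφ'S]
      refine ⟨g, fun y => ?_⟩
      have h1 : ι ⟨φ' y, hφ'S y⟩ = φ (j y) := map_realInv ι hι _
      rw [h1, hg]
      rfl
    refine ⟨φ', hφ'F, hPT, hφT, fun x => mem_imageAlong.mpr ⟨⟨x, hPT x.2⟩, x.2, rfl⟩, fun x => ?_⟩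
    show realInv ι hι ⟨φ (j _), _⟩ = _
    congr 2
    congr 1
    apply Subtype.ext
    exact map_realInv ι hι ⟨x, hPT x.2⟩
  · -- range
    ext s
    constructor
    · rintro ⟨t, rfl⟩
      exact realInv_mem ι hι t
    · intro hs
      exact ⟨⟨ι ⟨s, hs⟩, ⟨_, rfl⟩⟩, realInv_apply ι hι ⟨s, hs⟩ _⟩
  · -- surjectivity
    intro P' hP' φ' hφ'
    have hφ'S : ∀ x, φ' x ∈ S := (F.le_of_mem hφ').2
    obtain ⟨g, hg⟩ := (hreal P' hP' φ' hφ'S).mp hφ'
    have hpreT : preimageAlong (realInv ι hι) P' ≤ ι.range := preimageAlong_le _ _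
    have hx_eq : ∀ x : preimageAlong (realInv ι hι) P',
        (x : G) = ι ⟨realInv ι hι ⟨x, hpreT x.2⟩, realInv_mem ι hι _⟩ :=
      fun x => (map_realInv ι hι ⟨x, hpreT x.2⟩).symm
    have hconj : ∀ x : preimageAlong (realInv ι hι) P',
        g * (x : G) * g⁻¹ = ι ⟨φ' ⟨realInv ι hι ⟨x, hpreT x.2⟩, map_mem_of_mem_preimageAlong x⟩,
          hφ'S _⟩ := by
      intro x
      rw [hg]
      congr 2
      exact hx_eq x
    have hval : ∀ x : preimageAlong (realInv ι hι) P',
        conjHom (preimageAlong (realInv ι hι) P') g x ∈ ι.range := by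
      intro x
      rw [conjHom_apply, hconj x]
      exact ⟨_, rfl⟩
    refine ⟨conjHom (preimageAlong (realInv ι hι) P') g, ⟨hpreT, hval, g, fun x => rfl⟩,
      hpreT, hval, fun x => map_mem_of_mem_preimageAlong x, fun x => ?_⟩
    have : (⟨conjHom (preimageAlong (realInv ι hι) P') g x, hval x⟩ : ι.range) =
        ⟨ι ⟨φ' ⟨realInv ι hι ⟨x, hpreT x.2⟩, map_mem_of_mem_preimageAlong x⟩, hφ'S _⟩, ⟨_, rfl⟩⟩ :=
      Subtype.ext (hconj x)
    rw [this]
    exact (realInv_apply ι hι ⟨φ' ⟨realInv ι hι ⟨x, hpreT x.2⟩, map_mem_of_mem_preimageAlong x⟩,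
      hφ'S _⟩ ⟨_, rfl⟩).symm

/-- A fusion system realized by an embedding of `S` onto a Sylow `p`-subgroup of a finite group is
saturated. -/
theorem isSaturated_of_realized [Finite G] {p : ℕ} [Fact p.Prime] (F : FusionSystem S) (ι : S →* G)
    (h : F.IsRealizedBy ι) (T : Sylow p G) (hT : (T : Subgroup G) = ι.range) : F.IsSaturated p := by
  have hsat : (groupFusionSystem ι.range).IsSaturated p := hT ▸ groupFusionSystem_isSaturated p T
  have hp : IsPGroup p ι.range := hT ▸ T.isPGroup'
  exact isSaturated_of_surj hp hsat (isSurjectiveMorphism_of_realized F ι h)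

end Cfsg.Agent.Helper25
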