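import Mathlib
import Cfsg.Prelude.Def_FusionComponents
import Cfsg.Agent.Lib.Helper25.FusionRealized
import Cfsg.Agent.Lib.Helper25.FusionHyp

/-!
# The fusion system of a subgroup on one of its Sylow subgroups
-/

set_option autoImplicit false

namespace Cfsg.Agent.Helper25

open Cfsg Cfsg.FusionSystem

variable {G : Type*} [Group G]

theorem mem_fusionSystemOfSubgroup {H T : Subgroup G} (hTH : T ≤ H) {P : Subgroup G} {φ : P →* G} :
    φ ∈ (fusionSystemOfSubgroup H T hTH).Hom P ↔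
      P ≤ T ∧ (∀ x : P, φ x ∈ T) ∧ ∃ g ∈ H, ∀ x : P, φ x = g * (x : G) * g⁻¹ := Iff.rfl

theorem fusionSystemOfSubgroup_isRealizedBy {H T : Subgroup G} (hTH : T ≤ H) :
    (fusionSystemOfSubgroup H T hTH).IsRealizedBy (Subgroup.inclusion hTH) := by
  refine ⟨Subgroup.inclusion_injective hTH, fun P hP φ hφ => ?_⟩
  rw [mem_fusionSystemOfSubgroup]
  constructor
  · rintro ⟨-, -, g, hg, hgφ⟩
    refine ⟨⟨g, hg⟩, fun x => ?_⟩
    apply Subtype.ext
    exact hgφ x
  · rintro ⟨g, hg⟩
    refine ⟨hP, hφ, g, g.2, fun x => ?_⟩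
    exact congrArg Subtype.val (hg x)

/-- The fusion system of `H` on a Sylow `p`-subgroup `T` of `H` is saturated. -/
theorem fusionSystemOfSubgroup_isSaturated [Finite G] {p : ℕ} [Fact p.Prime] {H T : Subgroup G}
    (hs : IsSylowIn p T H) : (fusionSystemOfSubgroup H T hs.le).IsSaturated p := by
  obtain ⟨R, hR⟩ := (isSylowIn_iff_exists_sylow hs.le).mp hs
  exact isSaturated_of_realized _ _ (fusionSystemOfSubgroup_isRealizedBy hs.le) R
    (by rw [hR, Subgroup.inclusion_range])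

/-- The hyperfocal subgroup is monotone in the system. -/
theorem hyperfocalSubgroup_mono {Ω : Type*} [Group Ω] {S T : Subgroup Ω} (F : FusionSystem S)
    (E : FusionSystem T) (hTS : T ≤ S) (hEF : ∀ P : Subgroup Ω, E.Hom P ⊆ F.Hom P) (p : ℕ) :
    E.hyperfocalSubgroup p ≤ F.hyperfocalSubgroup p := by
  unfold FusionSystem.hyperfocalSubgroup
  rw [Subgroup.closure_le]
  rintro _ ⟨P, ν, x, hPT, hν, rfl⟩
  have hPS : P ≤ S := hPT.trans hTS
  have hle : ∀ a ∈ E.autGroup P, (MonoidHom.id (MulAut P)) a ∈ F.autGroup P := by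
    intro a ha
    rw [mem_autGroup_iff F hPS]
    exact hEF P ((mem_autGroup_iff E hPT a).mp ha)
  have hν' := pResidual_transport p (MonoidHom.id (MulAut P)) (fun a b h => h) hle hν
  exact Subgroup.subset_closure ⟨P, _, x, hPS, hν', rfl⟩

end Cfsg.Agent.Helper25
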