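import Mathlib
import Cfsg.Prelude.Def_FusionSystem
import Cfsg.Agent.Lib.Helper25.FusionNormal

set_option autoImplicit false

namespace Cfsg.Agent.Helper25

open Cfsg Cfsg.FusionSystem

variable {Ω : Type*} [Group Ω] {S : Subgroup Ω}

/-- The maps of the `K`-normalizer subsystem `N_F^K(Q)`, taken over all of `S`. -/
def normSubHom (F : FusionSystem S) (Q : Subgroup Ω) (K : Subgroup (MulAut Q)) (P : Subgroup Ω) :
    Set (P →* Ω) :=
  {φ | φ ∈ F.Hom P ∧ ∃ ψ ∈ F.Hom (P ⊔ Q), (∀ x : P, ψ (Subgroup.inclusion le_sup_left x) = φ x) ∧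
      ∃ κ ∈ K, ∀ x : Q, ψ (Subgroup.inclusion le_sup_right x) = ((κ x : Q) : Ω)}

/-- The `K`-normalizer subsystem of `Q ⊴ S` (with `Aut_S(Q) ≤ K`) as a fusion system over `S`. -/
def normSub (F : FusionSystem S) (Q : Subgroup Ω) (K : Subgroup (MulAut Q)) (hQS : Q ≤ S)
    (hK : ∀ g ∈ S, ∃ κ ∈ K, ∀ x : Q, ((κ x : Q) : Ω) = g * (x : Ω) * g⁻¹) : FusionSystem S where
  Hom := normSubHom F Q K
  le_of_mem h := F.le_of_mem h.1
  injective_of_mem h := F.injective_of_mem h.1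
  conj_mem := by
    intro P g hP hg
    obtain ⟨κ, hκ, hκg⟩ := hK g hg
    exact ⟨F.conj_mem hP hg, conjHom (P ⊔ Q) g, F.conj_mem (sup_le hP hQS) hg, fun x => rfl, κ, hκ,
      fun x => (hκg x).symm⟩
  comp_mem := by
    rintro P P' φ φ' ⟨hφ, ψ, hψ, hψP, κ, hκ, hψQ⟩ ⟨hφ', ψ', hψ', hψ'P, κ', hκ', hψ'Q⟩ h
    have hψval : ∀ y : ↥(P ⊔ Q), ψ y ∈ P' ⊔ Q := by
      rintro ⟨z, hz⟩
      have : ∀ hz : z ∈ P ⊔ Q, ψ ⟨z, hz⟩ ∈ P' ⊔ Q := by
        refine sup_induction (C := fun z => ∀ hz : z ∈ P ⊔ Q, ψ ⟨z, hz⟩ ∈ P' ⊔ Q) ?_ ?_ ?_ hz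
        · intro x hx hz
          have := hψP ⟨x, hx⟩
          have e : ψ ⟨x, hz⟩ = φ ⟨x, hx⟩ := this
          rw [e]
          exact le_sup_left (a := P') (h ⟨x, hx⟩)
        · intro x hx hz
          have e : ψ ⟨x, hz⟩ = ((κ ⟨x, hx⟩ : Q) : Ω) := hψQ ⟨x, hx⟩
          rw [e]
          exact le_sup_right (a := P') (κ ⟨x, hx⟩).2
        · intro a b ha hb hCa hCb hab
          have e : (⟨a * b, hab⟩ : ↥(P ⊔ Q)) = ⟨a, ha⟩ * ⟨b, hb⟩ := rfl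
          rw [e, map_mul]
          exact Subgroup.mul_mem _ (hCa ha) (hCb hb)
      exact this hz
    refine ⟨F.comp_mem hφ hφ' h, ψ'.comp (ψ.codRestrict (P' ⊔ Q) hψval),
      F.comp_mem hψ hψ' hψval, fun x => ?_, κ' * κ, K.mul_mem hκ' hκ, fun x => ?_⟩
    · show ψ' ⟨ψ (Subgroup.inclusion le_sup_left x), _⟩ = φ' ⟨φ x, h x⟩
      rw [← hψ'P ⟨φ x, h x⟩]
      congr 1
      exact Subtype.ext (hψP x)
    · show ψ' ⟨ψ (Subgroup.inclusion le_sup_right x), _⟩ = (((κ' * κ) x : Q) : Ω)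
      rw [MulAut.mul_apply, ← hψ'Q (κ x)]
      congr 1
      exact Subtype.ext (hψQ x)
  inv_mem := by
    rintro P φ ⟨hφ, ψ, hψ, hψP, κ, hκ, hψQ⟩
    have hrange : ψ.range = φ.range ⊔ Q := by
      apply le_antisymm
      · rintro _ ⟨⟨z, hz⟩, rfl⟩
        have : ∀ hz : z ∈ P ⊔ Q, ψ ⟨z, hz⟩ ∈ φ.range ⊔ Q := by
          refine sup_induction (C := fun z => ∀ hz : z ∈ P ⊔ Q, ψ ⟨z, hz⟩ ∈ φ.range ⊔ Q) ?_ ?_ ?_ hz
          · intro x hx hz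
            have e : ψ ⟨x, hz⟩ = φ ⟨x, hx⟩ := hψP ⟨x, hx⟩
            rw [e]
            exact le_sup_left (a := φ.range) ⟨_, rfl⟩
          · intro x hx hz
            have e : ψ ⟨x, hz⟩ = ((κ ⟨x, hx⟩ : Q) : Ω) := hψQ ⟨x, hx⟩
            rw [e]
            exact le_sup_right (a := φ.range) (κ ⟨x, hx⟩).2
          · intro a b ha hb hCa hCb hab
            have e : (⟨a * b, hab⟩ : ↥(P ⊔ Q)) = ⟨a, ha⟩ * ⟨b, hb⟩ := rfl
            rw [e, map_mul]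
            exact Subgroup.mul_mem _ (hCa ha) (hCb hb)
        exact this hz
      · apply sup_le
        · rintro _ ⟨x, rfl⟩
          exact ⟨_, hψP x⟩
        · intro q hq
          refine ⟨Subgroup.inclusion le_sup_right (κ⁻¹ ⟨q, hq⟩), ?_⟩
          rw [hψQ]; simp
    obtain ⟨ψinv, hψinv, hinv, -⟩ := exists_inv F hψ hrange
    refine ⟨ψinv.comp (Subgroup.inclusion le_sup_left), ⟨restrict_mem F le_sup_left hψinv, ψinv, hψinv,
      fun x => rfl, κ⁻¹, K.inv_mem hκ, fun q => ?_⟩, fun x => ?_⟩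
    · have hq : ψ (Subgroup.inclusion le_sup_right (κ⁻¹ q)) = (q : Ω) := by
        rw [hψQ]; simp
      have hmem : ψ (Subgroup.inclusion le_sup_right (κ⁻¹ q)) ∈ φ.range ⊔ Q := by
        rw [hq]; exact le_sup_right (a := φ.range) q.2
      have := hinv (Subgroup.inclusion le_sup_right (κ⁻¹ q)) hmem
      refine Eq.trans ?_ this
      congr 1
      exact Subtype.ext hq.symm
    · have hmem : ψ (Subgroup.inclusion le_sup_left x) ∈ φ.range ⊔ Q := by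
        rw [hψP]; exact le_sup_left (a := φ.range) ⟨x, rfl⟩
      have := hinv (Subgroup.inclusion le_sup_left x) hmem
      show ψinv ⟨φ x, _⟩ = (x : Ω)
      refine Eq.trans ?_ this
      congr 1
      exact Subtype.ext (hψP x).symm

theorem mem_normSub_iff (F : FusionSystem S) (Q : Subgroup Ω) (K : Subgroup (MulAut Q)) (hQS : Q ≤ S)
    (hK : ∀ g ∈ S, ∃ κ ∈ K, ∀ x : Q, ((κ x : Q) : Ω) = g * (x : Ω) * g⁻¹) {P : Subgroup Ω}
    (φ : P →* Ω) :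
    φ ∈ (normSub F Q K hQS hK).Hom P ↔ φ ∈ F.Hom P ∧ ∃ ψ ∈ F.Hom (P ⊔ Q),
      (∀ x : P, ψ (Subgroup.inclusion le_sup_left x) = φ x) ∧
      ∃ κ ∈ K, ∀ x : Q, ψ (Subgroup.inclusion le_sup_right x) = ((κ x : Q) : Ω) := Iff.rfl

theorem normSub_le (F : FusionSystem S) (Q : Subgroup Ω) (K : Subgroup (MulAut Q)) (hQS : Q ≤ S)
    (hK : ∀ g ∈ S, ∃ κ ∈ K, ∀ x : Q, ((κ x : Q) : Ω) = g * (x : Ω) * g⁻¹) :
    normSub F Q K hQS hK ≤ F := fun _ _ h => h.1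

end Cfsg.Agent.Helper25
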