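import Mathlib
import Cfsg.Prelude.Def_FusionSystem
import Cfsg.Agent.Lib.Helper25.FusionNormSub
import Cfsg.Agent.Lib.Helper25.FusionAlperin
import Cfsg.Agent.S5082
import Cfsg.Agent.S5080

set_option autoImplicit false

namespace Cfsg.Agent.Helper25

open Cfsg Cfsg.FusionSystem

variable {Ω : Type*} [Group Ω] {S : Subgroup Ω}

theorem isNormal_of_le_normSub_top (F : FusionSystem S) (Q : Subgroup Ω) (hQS : Q ≤ S)
    (hK : ∀ g ∈ S, ∃ κ ∈ (⊤ : Subgroup (MulAut Q)), ∀ x : Q, ((κ x : Q) : Ω) = g * (x : Ω) * g⁻¹)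
    (h : F ≤ normSub F Q ⊤ hQS hK) : F.IsNormal Q := by
  refine ⟨hQS, fun P φ hφ => ?_⟩
  obtain ⟨-, ψ, hψ, hψP, κ, -, hψQ⟩ := h P hφ
  refine ⟨ψ, hψ, hψP, ?_⟩
  ext y
  rw [mem_map_subgroupOf]
  constructor
  · rintro ⟨x, hK, hxQ, rfl⟩
    have : ψ ⟨x, hK⟩ = ((κ ⟨x, hxQ⟩ : Q) : Ω) := hψQ ⟨x, hxQ⟩
    rw [this]; exact (κ ⟨x, hxQ⟩).2
  · intro hy
    refine ⟨((κ⁻¹ ⟨y, hy⟩ : Q) : Ω), le_sup_right (a := P) (κ⁻¹ ⟨y, hy⟩).2, (κ⁻¹ ⟨y, hy⟩).2, ?_⟩
    have := hψQ (κ⁻¹ ⟨y, hy⟩)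
    rw [MulAut.apply_inv_self] at this
    exact this

theorem isCentral_of_le_normSub_bot (F : FusionSystem S) (Q : Subgroup Ω) (hQS : Q ≤ S)
    (hK : ∀ g ∈ S, ∃ κ ∈ (⊥ : Subgroup (MulAut Q)), ∀ x : Q, ((κ x : Q) : Ω) = g * (x : Ω) * g⁻¹)
    (h : F ≤ normSub F Q ⊥ hQS hK) : F.IsCentral Q := by
  refine ⟨hQS, fun P φ hφ => ?_⟩
  obtain ⟨-, ψ, hψ, hψP, κ, hκ, hψQ⟩ := h P hφ
  refine ⟨ψ, hψ, hψP, fun x => ?_⟩
  rw [Subgroup.mem_bot] at hκ
  rw [hψQ x, hκ]; rfl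

/-- Membership in the automorphism group of the `K`-normalizer subsystem. -/
theorem mem_autGroup_normSub (F : FusionSystem S) (Q : Subgroup Ω) (K : Subgroup (MulAut Q)) (hQS : Q ≤ S)
    (hK : ∀ g ∈ S, ∃ κ ∈ K, ∀ x : Q, ((κ x : Q) : Ω) = g * (x : Ω) * g⁻¹) {P : Subgroup Ω}
    (hPS : P ≤ S) (hQP : Q ≤ P) {α : MulAut P} (hα : α ∈ F.autGroup P) {κ : MulAut Q} (hκ : κ ∈ K)
    (hακ : ∀ x : Q, α (Subgroup.inclusion hQP x) = Subgroup.inclusion hQP (κ x)) :
    α ∈ (normSub F Q K hQS hK).autGroup P := by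
  rw [mem_autGroup_iff _ hPS]
  have hαF := (mem_autGroup_iff F hPS α).mp hα
  have hle : P ⊔ Q ≤ P := sup_le le_rfl hQP
  refine ⟨hαF, (P.subtype.comp α.toMonoidHom).comp (Subgroup.inclusion hle), restrict_mem F hle hαF,
    fun x => rfl, κ, hκ, fun x => ?_⟩
  have := hακ x
  exact congrArg Subtype.val this

/-- Restriction of an automorphism of `P` to an invariant subgroup `Q`. -/
theorem exists_restrict_aut {Q P : Subgroup Ω} (hQP : Q ≤ P) (α : MulAut P)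
    (h : (Q.subgroupOf P).map α.toMonoidHom = Q.subgroupOf P) :
    ∃ κ : MulAut Q, ∀ x : Q, α (Subgroup.inclusion hQP x) = Subgroup.inclusion hQP (κ x) := by
  have hmem : ∀ x : Q, ((α (Subgroup.inclusion hQP x) : P) : Ω) ∈ Q := by
    intro x
    have h1 : α (Subgroup.inclusion hQP x) ∈ (Q.subgroupOf P).map α.toMonoidHom :=
      ⟨Subgroup.inclusion hQP x, Subgroup.mem_subgroupOf.mpr x.2, rfl⟩
    rw [h] at h1
    exact Subgroup.mem_subgroupOf.mp h1
  set f : Q →* Q :=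
    { toFun := fun x => ⟨((α (Subgroup.inclusion hQP x) : P) : Ω), hmem x⟩
      map_one' := by
        apply Subtype.ext
        show ((α (Subgroup.inclusion hQP 1) : P) : Ω) = 1
        rw [map_one, map_one]; rfl
      map_mul' := by
        intro a b
        apply Subtype.ext
        show ((α (Subgroup.inclusion hQP (a * b)) : P) : Ω) = _
        rw [map_mul, map_mul]; rfl } with hf
  have hbij : Function.Bijective f := by
    constructor
    · intro a b hab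
      have h1 : ((α (Subgroup.inclusion hQP a) : P) : Ω) = ((α (Subgroup.inclusion hQP b) : P) : Ω) :=
        congrArg (fun z : Q => (z : Ω)) hab
      have h2 := α.injective (Subtype.ext h1)
      exact Subgroup.inclusion_injective hQP h2
    · intro y
      have h1 : Subgroup.inclusion hQP y ∈ (Q.subgroupOf P).map α.toMonoidHom := by
        rw [h]; exact Subgroup.mem_subgroupOf.mpr y.2
      obtain ⟨x, hx, hxy⟩ := h1
      refine ⟨⟨(x : Ω), Subgroup.mem_subgroupOf.mp hx⟩, ?_⟩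
      apply Subtype.ext
      show ((α (Subgroup.inclusion hQP ⟨(x : Ω), _⟩) : P) : Ω) = y
      have : Subgroup.inclusion hQP ⟨(x : Ω), Subgroup.mem_subgroupOf.mp hx⟩ = x := Subtype.ext rfl
      rw [this]
      exact congrArg Subtype.val hxy
  exact ⟨MulEquiv.ofBijective f hbij, fun x => Subtype.ext rfl⟩

/-- A strongly closed subgroup `Q ≤ P` is invariant under `Aut_F(P)`. -/
theorem map_aut_eq_of_stronglyClosed (F : FusionSystem S) {Q P : Subgroup Ω} (hQ : F.StronglyClosed Q)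
    (hPS : P ≤ S) (hQP : Q ≤ P) {α : MulAut P} (hα : α ∈ F.autGroup P) :
    (Q.subgroupOf P).map α.toMonoidHom = Q.subgroupOf P := by
  have key : ∀ β ∈ F.autGroup P, (Q.subgroupOf P).map β.toMonoidHom ≤ Q.subgroupOf P := by
    rintro β hβ _ ⟨x, hx, rfl⟩
    have hβF := (mem_autGroup_iff F hPS β).mp hβ
    have h1 := restrict_mem F hQP hβF
    have h2 := hQ.2 Q le_rfl _ h1 ⟨(x : Ω), Subgroup.mem_subgroupOf.mp hx⟩
    apply Subgroup.mem_subgroupOf.mpr
    have : Subgroup.inclusion hQP ⟨(x : Ω), Subgroup.mem_subgroupOf.mp hx⟩ = x := Subtype.ext rfl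
    simpa [this] using h2
  apply le_antisymm (key α hα)
  intro x hx
  have h1 := key α⁻¹ (Subgroup.inv_mem _ hα) ⟨x, hx, rfl⟩
  refine ⟨α⁻¹ x, h1, ?_⟩
  simp

/-- A subgroup normal in the system is strongly closed. -/
theorem stronglyClosed_of_isNormal (F : FusionSystem S) {Q : Subgroup Ω} (hQ : F.IsNormal Q) :
    F.StronglyClosed Q := by
  refine ⟨hQ.1, fun R hRQ φ hφ x => ?_⟩
  obtain ⟨ψ, hψ, hψP, himg⟩ := hQ.2 R φ hφ
  rw [← hψP x]
  have h1 : ψ (Subgroup.inclusion le_sup_left x) ∈ (Q.subgroupOf (R ⊔ Q)).map ψ := by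
    rw [mem_map_subgroupOf]
    exact ⟨x, le_sup_left (b := Q) x.2, hRQ x.2, rfl⟩
  rw [himg] at h1
  exact h1

theorem le_of_isEssential (F : FusionSystem S) {p : ℕ} {P : Subgroup Ω} (h : F.IsEssential p P) :
    P ≤ S := h.1.1

/-- (S5087 ⇐) A subgroup contained in `S` and in all essential subgroups and invariant under their
automorphism groups is normal in the saturated system. -/
theorem isNormal_of_forall_essential [Finite S] (p : ℕ) [Fact p.Prime] (hS : IsPGroup p S)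
    (F : FusionSystem S) (hF : F.IsSaturated p) (Q : Subgroup Ω)
    (h : ∀ P : Subgroup Ω, (P = S ∨ F.IsEssential p P) →
      (Q ≤ P ∧ ∀ α ∈ F.autGroup P, (Q.subgroupOf P).map α.toMonoidHom = Q.subgroupOf P)) :
    F.IsNormal Q := by
  have hQS : Q ≤ S := (h S (Or.inl rfl)).1
  have hconj : ∀ g ∈ S, ∀ x ∈ Q, g * x * g⁻¹ ∈ Q := by
    intro g hg x hx
    set β : MulAut S := MulAut.conj ⟨g, hg⟩ with hβ
    have hβF : β ∈ F.autGroup S := by
      apply autInducedBy_le_autGroup F le_rfl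
      rw [mem_autInducedBy_iff]
      exact ⟨g, hg, fun y => rfl⟩
    have h1 := (h S (Or.inl rfl)).2 β hβF
    have h2 : β ⟨x, hQS hx⟩ ∈ (Q.subgroupOf S).map β.toMonoidHom :=
      ⟨⟨x, hQS hx⟩, Subgroup.mem_subgroupOf.mpr hx, rfl⟩
    rw [h1] at h2
    exact Subgroup.mem_subgroupOf.mp h2
  have hQn : ∀ g ∈ S, g ∈ Subgroup.normalizer (Q : Set Ω) := by
    intro g hg
    apply mem_normalizer_of_forall (hconj g hg)
    intro x hx
    have := hconj g⁻¹ (S.inv_mem hg) x hx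
    rwa [inv_inv] at this
  have hK : ∀ g ∈ S, ∃ κ ∈ (⊤ : Subgroup (MulAut Q)), ∀ x : Q, ((κ x : Q) : Ω) = g * (x : Ω) * g⁻¹ :=
    fun g hg => ⟨Q.normalizerMonoidHom ⟨g, hQn g hg⟩, Subgroup.mem_top _, fun x => rfl⟩
  apply isNormal_of_le_normSub_top F Q hQS hK
  apply Cfsg.Agent.S5082.result p hS F hF
  intro P hP α hα
  obtain ⟨hQP, hinv⟩ := h P hP
  have hPS : P ≤ S := by
    rcases hP with rfl | hP
    · exact le_rfl
    · exact le_of_isEssential F hP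
  obtain ⟨κ, hκ⟩ := exists_restrict_aut hQP α (hinv α hα)
  exact mem_autGroup_normSub F Q ⊤ hQS hK hPS hQP hα (Subgroup.mem_top κ) hκ

/-- Lemma CR: a subgroup normal in the system is contained in every centric radical subgroup. -/
theorem le_of_isNormal_of_centric_radical [Finite S] (p : ℕ) [Fact p.Prime] (hS : IsPGroup p S)
    (F : FusionSystem S) {Q P : Subgroup Ω} (hQ : F.IsNormal Q) (hcen : F.IsCentric P)
    (hrad : F.IsRadical p P) : Q ≤ P := by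
  have hPS : P ≤ S := hcen.1
  have hQS : Q ≤ S := hQ.1
  have hPQS : P ⊔ Q ≤ S := sup_le hPS hQS
  have hcenP : centralizerIn S P ≤ P := hcen.2 P (isConj_refl F hPS)
  haveI : Finite P := finite_of_le_finite hPS
  haveI : Finite ↥(P ⊔ Q) := finite_of_le_finite hPQS
  set N := normalizerIn (P ⊔ Q) P with hN
  have hNS : N ≤ S := normalizerIn_le.trans hPQS
  set B := autInducedBy N P with hB
  have hBA : B ≤ F.autGroup P := by
    intro β hβ
    apply autInducedBy_le_autGroup F hPS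
    obtain ⟨g, hg, hgx⟩ := (mem_autInducedBy_iff β).mp hβ
    exact (mem_autInducedBy_iff β).mpr ⟨g, hNS hg, hgx⟩
  have hBp : IsPGroup p B := by
    have h1 : B ≤ autInducedBy S P := by
      intro β hβ
      obtain ⟨g, hg, hgx⟩ := (mem_autInducedBy_iff β).mp hβ
      exact (mem_autInducedBy_iff β).mpr ⟨g, hNS hg, hgx⟩
    exact (isPGroup_autInducedBy hS P).to_le h1
  -- B is normalized by Aut_F(P)
  have hBnorm : (B.subgroupOf (F.autGroup P)).Normal := by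
    constructor
    rintro ⟨β, hβA⟩ hβ ⟨α, hαA⟩
    have hβB : β ∈ B := Subgroup.mem_subgroupOf.mp hβ
    apply Subgroup.mem_subgroupOf.mpr
    show α * β * α⁻¹ ∈ B
    obtain ⟨g, hgN, hg⟩ := (mem_autInducedBy_iff β).mp hβB
    have hαF := (mem_autGroup_iff F hPS α).mp hαA
    obtain ⟨ψ, hψ, hψP, himg⟩ := hQ.2 P _ hαF
    have hgPQ : g ∈ P ⊔ Q := hgN.1
    have hgn : g ∈ Subgroup.normalizer (P : Set Ω) := hgN.2
    -- ψ maps P ⊔ Q into P ⊔ Q
    have hψval : ∀ z (hz : z ∈ P ⊔ Q), ψ ⟨z, hz⟩ ∈ P ⊔ Q := by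
      intro z hz
      refine sup_induction (C := fun z => ∀ hz : z ∈ P ⊔ Q, ψ ⟨z, hz⟩ ∈ P ⊔ Q) ?_ ?_ ?_ hz hz
      · intro x hx hz
        have e : ψ ⟨x, hz⟩ = ((α ⟨x, hx⟩ : P) : Ω) := hψP ⟨x, hx⟩
        rw [e]; exact le_sup_left (b := Q) (α ⟨x, hx⟩).2
      · intro x hx hz
        have : ψ ⟨x, hz⟩ ∈ (Q.subgroupOf (P ⊔ Q)).map ψ := by
          rw [mem_map_subgroupOf]; exact ⟨x, hz, hx, rfl⟩
        rw [himg] at this
        exact le_sup_right (a := P) this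
      · intro a b ha hb hCa hCb hab
        have e : (⟨a * b, hab⟩ : ↥(P ⊔ Q)) = ⟨a, ha⟩ * ⟨b, hb⟩ := rfl
        rw [e, map_mul]
        exact Subgroup.mul_mem _ (hCa ha) (hCb hb)
    have hψα : ∀ x : P, ψ ⟨x, le_sup_left (b := Q) x.2⟩ = ((α x : P) : Ω) := fun x => hψP x
    -- ψ g conjugates as α β α⁻¹
    have hconj : ∀ x : P, (((α * β * α⁻¹) x : P) : Ω) =
        ψ ⟨g, hgPQ⟩ * (x : Ω) * (ψ ⟨g, hgPQ⟩)⁻¹ := by
      intro x
      rw [MulAut.mul_apply, MulAut.mul_apply, ← hψα, ← map_inv, ]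
      have hx : (x : Ω) = ψ ⟨((α⁻¹ x : P) : Ω), le_sup_left (b := Q) (α⁻¹ x).2⟩ := by
        rw [hψα]; simp
      conv_rhs => rw [hx]
      rw [← map_mul, ← map_mul]
      congr 1
      apply Subtype.ext
      show ((β (α⁻¹ x) : P) : Ω) = g * ((α⁻¹ x : P) : Ω) * g⁻¹
      exact hg _
    rw [mem_autInducedBy_iff]
    refine ⟨ψ ⟨g, hgPQ⟩, ⟨hψval g hgPQ, mem_normalizer_of_aut _ hconj⟩, hconj⟩
  -- hence B ≤ Inn P
  have hBInn : B ≤ Inn P := by
    have h1 : B.subgroupOf (F.autGroup P) ≤ pCore p (F.autGroup P) :=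
      le_pCore' hBnorm (isPGroup_subgroupOf _ hBp)
    rw [← hrad.2]
    intro β hβ
    exact ⟨⟨β, hBA hβ⟩, h1 (Subgroup.mem_subgroupOf.mpr hβ), rfl⟩
  -- so N ≤ P
  have hNP : N ≤ P := by
    intro g hg
    set β : MulAut P := P.normalizerMonoidHom ⟨g, hg.2⟩ with hβ
    have hβB : β ∈ B := (mem_autInducedBy_iff β).mpr ⟨g, hg, fun x => rfl⟩
    exact mem_of_induces_inner hPS hcenP (hBInn hβB) (hNS hg) (fun x => rfl)
  -- normalizers grow
  by_contra hQP
  have hne : P ≠ P ⊔ Q := by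
    intro h
    apply hQP
    rw [h]; exact le_sup_right
  have hPQp : IsPGroup p ↥(P ⊔ Q) := hS.to_le hPQS
  obtain ⟨g, hgN, hgP⟩ := exists_mem_normalizerIn_not_mem hPQp le_sup_left hne
  exact hgP (hNP hgN)

end Cfsg.Agent.Helper25
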