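import Mathlib
import Cfsg.Agent.Lib.Helper25.StronglyEmbedded

set_option autoImplicit false

namespace Cfsg.Agent.Helper25

variable {P : Type*} [Group P]

/-- One step: if `β` fixes `U` pointwise, `x⁻¹ β(x) ∈ U` for `x ∈ V` and `U` is killed by `N`, then
`β ^ N` fixes `V` pointwise. -/
theorem pow_fixes_of_stabilizes {U V : Subgroup P} {β : MulAut P} (hU : ∀ u ∈ U, β u = u)
    (hV : ∀ x ∈ V, x⁻¹ * β x ∈ U) {N : ℕ} (hN : ∀ u ∈ U, u ^ N = 1) : ∀ x ∈ V, (β ^ N) x = x := by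
  intro x hx
  have key : ∀ k : ℕ, (β ^ k) x = x * (x⁻¹ * β x) ^ k := by
    intro k
    induction k with
    | zero => simp
    | succ k ih =>
      rw [pow_succ', MulAut.mul_apply, ih, map_mul, map_pow, hU _ (hV x hx), pow_succ',
        ← mul_assoc, mul_inv_cancel_left]
  rw [key N, hN _ (hV x hx), mul_one]

/-- `β` (in `A`) stabilizes the chain `c`. -/
def StabilizesChain (A : Subgroup (MulAut P)) (c : ℕ → Subgroup P) (β : MulAut P) : Prop :=
  β ∈ A ∧ ∀ i, ∀ y ∈ c (i + 1), y⁻¹ * β y ∈ c i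

theorem StabilizesChain.one (A : Subgroup (MulAut P)) (c : ℕ → Subgroup P) :
    StabilizesChain A c 1 :=
  ⟨A.one_mem, fun i y _ => by simp⟩

theorem StabilizesChain.mul {A : Subgroup (MulAut P)} {c : ℕ → Subgroup P}
    (hmono : ∀ i, c i ≤ c (i + 1)) {β γ : MulAut P} (hβ : StabilizesChain A c β)
    (hγ : StabilizesChain A c γ) : StabilizesChain A c (β * γ) := by
  refine ⟨A.mul_mem hβ.1 hγ.1, fun i y hy => ?_⟩
  have h1 : y⁻¹ * γ y ∈ c i := hγ.2 i y hy
  have h2 : γ y ∈ c (i + 1) := by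
    have : γ y = y * (y⁻¹ * γ y) := by group
    rw [this]; exact (c (i + 1)).mul_mem hy (hmono i h1)
  have h3 : (γ y)⁻¹ * β (γ y) ∈ c i := hβ.2 i _ h2
  have : y⁻¹ * (β * γ) y = (y⁻¹ * γ y) * ((γ y)⁻¹ * β (γ y)) := by
    rw [MulAut.mul_apply]; group
  rw [this]; exact (c i).mul_mem h1 h3

theorem StabilizesChain.pow {A : Subgroup (MulAut P)} {c : ℕ → Subgroup P}
    (hmono : ∀ i, c i ≤ c (i + 1)) {β : MulAut P} (hβ : StabilizesChain A c β) (n : ℕ) :
    StabilizesChain A c (β ^ n) := by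
  induction n with
  | zero => simpa using StabilizesChain.one A c
  | succ n ih => rw [pow_succ]; exact ih.mul hmono hβ

theorem StabilizesChain.inv [Finite P] {A : Subgroup (MulAut P)} {c : ℕ → Subgroup P}
    (hmono : ∀ i, c i ≤ c (i + 1)) {β : MulAut P} (hβ : StabilizesChain A c β) :
    StabilizesChain A c β⁻¹ := by
  have h1 : β ^ (orderOf β - 1) * β = 1 := by
    rw [← pow_succ, Nat.sub_add_cancel (orderOf_pos β), pow_orderOf_eq_one]
  have h2 : β⁻¹ = β ^ (orderOf β - 1) := (eq_inv_of_mul_eq_one_left h1).symm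
  rw [h2]; exact hβ.pow hmono _

theorem StabilizesChain.conj {A : Subgroup (MulAut P)} {c : ℕ → Subgroup P}
    (hinv : ∀ i, ∀ α ∈ A, ∀ y ∈ c i, α y ∈ c i) {β : MulAut P} (hβ : StabilizesChain A c β)
    {α : MulAut P} (hα : α ∈ A) : StabilizesChain A c (α * β * α⁻¹) := by
  refine ⟨A.mul_mem (A.mul_mem hα hβ.1) (A.inv_mem hα), fun i y hy => ?_⟩
  have hz : α⁻¹ y ∈ c (i + 1) := hinv _ _ (A.inv_mem hα) y hy
  have h1 := hβ.2 i _ hz
  have h2 := hinv i α hα _ h1
  have : α ((α⁻¹ y)⁻¹ * β (α⁻¹ y)) = y⁻¹ * (α * β * α⁻¹) y := by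
    rw [map_mul, map_inv, MulAut.apply_inv_self, MulAut.mul_apply, MulAut.mul_apply]
  rw [← this]; exact h2

/-- The stability group of a chain, as a subgroup. -/
def stabChain [Finite P] (A : Subgroup (MulAut P)) (c : ℕ → Subgroup P)
    (hmono : ∀ i, c i ≤ c (i + 1)) : Subgroup (MulAut P) where
  carrier := {β | StabilizesChain A c β}
  one_mem' := StabilizesChain.one A c
  mul_mem' := fun hβ hγ => hβ.mul hmono hγ
  inv_mem' := fun hβ => hβ.inv hmono

/-- An automorphism of a finite `p`-group stabilizing an `A`-invariant chain ending in `⊤`, some `p`-power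
of which acts trivially on the bottom term, lies in `O_p(A)`. -/
theorem mem_pCore_of_stabilizesChain [Finite P] (p : ℕ) [Fact p.Prime] (hP : IsPGroup p P)
    (A : Subgroup (MulAut P)) (c : ℕ → Subgroup P) (m : ℕ) (hmono : ∀ i, c i ≤ c (i + 1))
    (hm : c m = ⊤) (hinv : ∀ i, ∀ α ∈ A, ∀ y ∈ c i, α y ∈ c i)
    (h0 : ∀ α, StabilizesChain A c α → ∃ k : ℕ, ∀ y ∈ c 0, (α ^ p ^ k) y = y)
    {β : MulAut P} (hβ : StabilizesChain A c β) :
    β ∈ (Cfsg.pCore p A).map A.subtype := by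
  set B := stabChain A c hmono with hB
  have hBA : B ≤ A := fun γ hγ => hγ.1
  have hBnorm : (B.subgroupOf A).Normal := by
    constructor
    rintro ⟨γ, hγA⟩ hγ ⟨α, hαA⟩
    have hγB : StabilizesChain A c γ := Subgroup.mem_subgroupOf.mp hγ
    apply Subgroup.mem_subgroupOf.mpr
    exact hγB.conj hinv hαA
  obtain ⟨n, hn⟩ := hP.exists_card_eq
  have hkill : ∀ (U : Subgroup P), ∀ u ∈ U, u ^ p ^ n = 1 := by
    intro U u _
    rw [← hn]; exact pow_card_eq_one'
  have hBp : IsPGroup p B := by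
    rintro ⟨γ, hγ⟩
    have hγ' : StabilizesChain A c γ := hγ
    have key : ∀ i, ∃ k : ℕ, ∀ y ∈ c i, (γ ^ p ^ k) y = y := by
      intro i
      induction i with
      | zero => exact h0 γ hγ'
      | succ i ih =>
        obtain ⟨k, hk⟩ := ih
        refine ⟨k + n, ?_⟩
        have hst := hγ'.pow hmono (p ^ k)
        have := pow_fixes_of_stabilizes (β := γ ^ p ^ k) hk (hst.2 i) (hkill (c i))
        rw [← pow_mul, ← pow_add] at this
        exact this
    obtain ⟨k, hk⟩ := key m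
    refine ⟨k, Subtype.ext ?_⟩
    show γ ^ p ^ k = 1
    ext y
    exact hk y (by rw [hm]; trivial)
  have hle : B.subgroupOf A ≤ Cfsg.pCore p A :=
    le_pCore' hBnorm (hBp.comap_of_injective A.subtype A.subtype_injective)
  exact ⟨⟨β, hβ.1⟩, hle (Subgroup.mem_subgroupOf.mpr hβ), rfl⟩

end Cfsg.Agent.Helper25
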