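import Mathlib
import Cfsg.Prelude.Def_FusionSystem
import Cfsg.Agent.Lib.Helper25.FusionNormal2
import Cfsg.Agent.Lib.Helper25.StabChain
import Cfsg.Agent.S5086

set_option autoImplicit false

namespace Cfsg.Agent.Helper25

open Cfsg Cfsg.FusionSystem
open scoped commutatorElement

variable {Ω : Type*} [Group Ω] {S : Subgroup Ω}

/-- Product decomposition in `P ⊔ Q` when `P` normalizes `Q`. -/
theorem exists_mul_of_mem_sup {P Q : Subgroup Ω} (hn : ∀ u ∈ P, ∀ v ∈ Q, u⁻¹ * v * u ∈ Q) {z : Ω}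
    (hz : z ∈ P ⊔ Q) : ∃ u ∈ P, ∃ v ∈ Q, z = u * v := by
  refine sup_induction (C := fun z => ∃ u ∈ P, ∃ v ∈ Q, z = u * v) ?_ ?_ ?_ hz
  · intro x hx; exact ⟨x, hx, 1, Q.one_mem, by simp⟩
  · intro x hx; exact ⟨1, P.one_mem, x, hx, by simp⟩
  · rintro _ _ _ _ ⟨u, hu, v, hv, rfl⟩ ⟨u', hu', v', hv', rfl⟩
    refine ⟨u * u', P.mul_mem hu hu', (u'⁻¹ * v * u') * v', Q.mul_mem (hn u' hu' v hv) hv', ?_⟩
    group

/-- A strongly closed subgroup is normalized by `S`. -/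
theorem conj_mem_of_stronglyClosed (F : FusionSystem S) {Q : Subgroup Ω} (hQ : F.StronglyClosed Q)
    {g : Ω} (hg : g ∈ S) {v : Ω} (hv : v ∈ Q) : g * v * g⁻¹ ∈ Q :=
  hQ.2 Q le_rfl _ (F.conj_mem hQ.1 hg) ⟨v, hv⟩

theorem conj_mem_of_stronglyClosed' (F : FusionSystem S) {Q : Subgroup Ω} (hQ : F.StronglyClosed Q)
    {g : Ω} (hg : g ∈ S) {v : Ω} (hv : v ∈ Q) : g⁻¹ * v * g ∈ Q := by
  have := conj_mem_of_stronglyClosed F hQ (S.inv_mem hg) hv
  rwa [inv_inv] at this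

/-- If `Q ≰ P` (with `Q` normalized by `S`) then some element of `Q` normalizes `P` without lying in it. -/
theorem exists_mem_normalizer_not_mem_of_not_le [Finite S] {p : ℕ} [Fact p.Prime] (hS : IsPGroup p S)
    {P Q : Subgroup Ω} (hPS : P ≤ S) (hQS : Q ≤ S) (hQn : ∀ g ∈ S, ∀ v ∈ Q, g⁻¹ * v * g ∈ Q)
    (h : ¬ Q ≤ P) : ∃ x ∈ Q, x ∈ Subgroup.normalizer (P : Set Ω) ∧ x ∉ P := by
  have hPQS : P ⊔ Q ≤ S := sup_le hPS hQS
  haveI : Finite ↥(P ⊔ Q) := finite_of_le_finite hPQS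
  have hne : P ≠ P ⊔ Q := by
    intro h'
    apply h
    rw [h']; exact le_sup_right
  have hPQp : IsPGroup p ↥(P ⊔ Q) := hS.to_le hPQS
  obtain ⟨g, hgN, hgP⟩ := exists_mem_normalizerIn_not_mem hPQp le_sup_left hne
  obtain ⟨u, hu, v, hv, rfl⟩ := exists_mul_of_mem_sup (fun u hu v hv => hQn u (hPS hu) v hv) hgN.1
  refine ⟨v, hv, ?_, fun hvP => hgP (P.mul_mem hu hvP)⟩
  have huN : u ∈ Subgroup.normalizer (P : Set Ω) := Subgroup.le_normalizer hu
  have : v = u⁻¹ * (u * v) := by group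
  rw [this]
  exact Subgroup.mul_mem _ (Subgroup.inv_mem _ huN) hgN.2

/-- Criterion: a strongly closed subgroup `Q` is normal in the saturated system provided each element of
`Q` normalizing a centric radical subgroup `P` induces an element of `O_p(Aut_F(P))`. -/
theorem isNormal_of_stronglyClosed_of_forall [Finite S] (p : ℕ) [Fact p.Prime] (hS : IsPGroup p S)
    (F : FusionSystem S) (hF : F.IsSaturated p) {Q : Subgroup Ω} (hQ : F.StronglyClosed Q)
    (h : ∀ P : Subgroup Ω, F.IsCentric P → F.IsRadical p P → ∀ (x : Ω) (_ : x ∈ Q)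
      (hxN : x ∈ Subgroup.normalizer (P : Set Ω)),
      P.normalizerMonoidHom ⟨x, hxN⟩ ∈ (pCore p (F.autGroup P)).map (F.autGroup P).subtype) :
    F.IsNormal Q := by
  apply (Cfsg.Agent.S5086.result p hS F hF Q).mpr
  refine ⟨hQ, fun P hc hr => ?_⟩
  by_contra hQP
  have hPS : P ≤ S := hc.1
  obtain ⟨x, hxQ, hxN, hxP⟩ := exists_mem_normalizer_not_mem_of_not_le hS hPS hQ.1
    (fun g hg v hv => conj_mem_of_stronglyClosed' F hQ hg hv) hQP
  have h1 := h P hc hr x hxQ hxN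
  rw [hr.2] at h1
  exact hxP (mem_of_induces_inner hPS (hc.2 P (isConj_refl F hPS)) h1 (hQ.1 hxQ) (fun y => rfl))

/-- A strongly closed subgroup is invariant (elementwise) under `Aut_F(P)`. -/
theorem aut_mem_of_stronglyClosed (F : FusionSystem S) {R P : Subgroup Ω} (hR : F.StronglyClosed R)
    (hPS : P ≤ S) {α : MulAut P} (hα : α ∈ F.autGroup P) {y : P} (hy : (y : Ω) ∈ R) :
    ((α y : P) : Ω) ∈ R := by
  have hαF := (mem_autGroup_iff F hPS α).mp hα
  have hle : P ⊓ R ≤ P := inf_le_left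
  have h1 := restrict_mem F hle hαF
  exact hR.2 (P ⊓ R) inf_le_right _ h1 ⟨(y : Ω), ⟨y.2, hy⟩⟩

/-- Chain criterion for normality in a saturated fusion system. -/
theorem isNormal_of_chain [Finite S] (p : ℕ) [Fact p.Prime] (hS : IsPGroup p S)
    (F : FusionSystem S) (hF : F.IsSaturated p) {Q : Subgroup Ω} (hQ : F.StronglyClosed Q)
    (R : ℕ → Subgroup Ω) (m : ℕ) (hRm : R m = Q) (hRmono : ∀ i, i < m → R i ≤ R (i + 1))
    (hRsc : ∀ i, i ≤ m → F.StronglyClosed (R i)) (hRcomm : ∀ i, i < m → ⁅Q, R (i + 1)⁆ ≤ R i)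
    (hbase : ∀ P : Subgroup Ω, F.IsCentric P → F.IsRadical p P → ∀ α ∈ F.autGroup P,
      ∃ k : ℕ, ∀ y : P, (y : Ω) ∈ R 0 → (α ^ p ^ k) y = y) :
    F.IsNormal Q := by
  apply isNormal_of_stronglyClosed_of_forall p hS F hF hQ
  intro P hc hr x hxQ hxN
  have hPS : P ≤ S := hc.1
  haveI : Finite P := finite_of_le_finite hPS
  have hPp : IsPGroup p P := hS.to_le hPS
  set c : ℕ → Subgroup P := fun i => if i ≤ m then (R i).subgroupOf P else ⊤ with hc_def
  have hc_le : ∀ i, i ≤ m → c i = (R i).subgroupOf P := fun i hi => by simp [hc_def, hi]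
  have hc_gt : ∀ i, ¬ i ≤ m → c i = ⊤ := fun i hi => by simp [hc_def, hi]
  have hmono : ∀ i, c i ≤ c (i + 1) := by
    intro i
    by_cases hi : i + 1 ≤ m
    · rw [hc_le i (by omega), hc_le (i + 1) hi]
      exact Subgroup.subgroupOf_mono P (hRmono i (by omega))
    · rw [hc_gt (i + 1) hi]; exact le_top
  have hm : c (m + 1) = ⊤ := hc_gt (m + 1) (by omega)
  have hinv : ∀ i, ∀ α ∈ F.autGroup P, ∀ y ∈ c i, α y ∈ c i := by
    intro i α hα y hy
    by_cases hi : i ≤ m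
    · rw [hc_le i hi] at hy ⊢
      exact Subgroup.mem_subgroupOf.mpr
        (aut_mem_of_stronglyClosed F (hRsc i hi) hPS hα (Subgroup.mem_subgroupOf.mp hy))
    · rw [hc_gt i hi]; trivial
  set β : MulAut P := P.normalizerMonoidHom ⟨x, hxN⟩ with hβ
  have hβA : β ∈ F.autGroup P := by
    apply autInducedBy_le_autGroup F hPS
    exact (mem_autInducedBy_iff β).mpr ⟨x, hQ.1 hxQ, fun y => rfl⟩
  have hβapply : ∀ y : P, ((y⁻¹ * β y : P) : Ω) = (y : Ω)⁻¹ * x * (y : Ω) * x⁻¹ := by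
    intro y
    show (y : Ω)⁻¹ * (x * (y : Ω) * x⁻¹) = _
    group
  have hstab : StabilizesChain (F.autGroup P) c β := by
    refine ⟨hβA, fun i y hy => ?_⟩
    by_cases hi : i + 1 ≤ m
    · rw [hc_le (i + 1) hi] at hy
      rw [hc_le i (by omega)]
      apply Subgroup.mem_subgroupOf.mpr
      rw [hβapply]
      apply hRcomm i (by omega)
      rw [Subgroup.commutator_comm]
      have h1 : ⁅(y : Ω)⁻¹, x⁆ ∈ ⁅R (i + 1), Q⁆ :=
        Subgroup.commutator_mem_commutator (Subgroup.inv_mem _ (Subgroup.mem_subgroupOf.mp hy)) hxQ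
      have h2 : ⁅(y : Ω)⁻¹, x⁆ = (y : Ω)⁻¹ * x * (y : Ω) * x⁻¹ := by
        rw [commutatorElement_def, inv_inv]
      rwa [h2] at h1
    · by_cases hi' : i ≤ m
      · have him : i = m := by omega
        rw [hc_le i hi']
        apply Subgroup.mem_subgroupOf.mpr
        rw [hβapply, him, hRm]
        exact Q.mul_mem (conj_mem_of_stronglyClosed' F hQ (hPS y.2) hxQ) (Q.inv_mem hxQ)
      · rw [hc_gt i hi']; trivial
  refine mem_pCore_of_stabilizesChain p hPp (F.autGroup P) c (m + 1) hmono hm hinv ?_ hstab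
  intro α hα
  obtain ⟨k, hk⟩ := hbase P hc hr α hα.1
  refine ⟨k, fun y hy => hk y ?_⟩
  rw [hc_le 0 (by omega)] at hy
  exact Subgroup.mem_subgroupOf.mp hy

theorem stronglyClosed_bot (F : FusionSystem S) : F.StronglyClosed ⊥ := by
  refine ⟨bot_le, fun R hR φ _ x => ?_⟩
  have : x = 1 := Subtype.ext (Subgroup.mem_bot.mp (hR x.2))
  rw [this, map_one]; exact Subgroup.one_mem _

end Cfsg.Agent.Helper25
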