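import Mathlib
import Cfsg.Prelude.Def_FusionSystem
import Cfsg.Agent.Lib.Helper26.FusionInduction2

set_option autoImplicit false

/-!
Induction principle along a subgroup `T` normalized by `S`, with a general family of normal subgroups
`K P ≤ Aut_F(P)` (generalizing `Helper26.stronglyClosed_induction`).
-/

namespace Cfsg.Agent.Helper25

open Cfsg Cfsg.FusionSystem Cfsg.Agent.Helper26

variable {Ω : Type*} [Group Ω] {S : Subgroup Ω}

/-- **Induction along a family of normal subgroups of the automizers.** -/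
theorem normal_family_induction' [Finite S] (p : ℕ) [Fact p.Prime] (hS : IsPGroup p S)
    (F : FusionSystem S) (hF : F.IsSaturated p) {T : Subgroup Ω} (hTS : T ≤ S)
    (hTn : ∀ g ∈ S, ∀ v ∈ T, g⁻¹ * v * g ∈ T)
    (Pr : ∀ P : Subgroup Ω, (P →* Ω) → Prop)
    (hconj : ∀ {P : Subgroup Ω} {g : Ω}, P ≤ S → g ∈ S → Pr P (conjHom P g))
    (hcomp : ∀ {P Q : Subgroup Ω} {φ : P →* Ω} {ψ : Q →* Ω}, φ ∈ F.Hom P → ψ ∈ F.Hom Q → Pr P φ →
      Pr Q ψ → ∀ h : ∀ x : P, φ x ∈ Q, Pr P (ψ.comp (φ.codRestrict Q h)))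
    (hinv : ∀ {P : Subgroup Ω} {φ : P →* Ω}, φ ∈ F.Hom P → Pr P φ → ∀ ψ ∈ F.Hom φ.range,
      (∀ x : P, ψ ⟨φ x, ⟨x, rfl⟩⟩ = (x : Ω)) → Pr φ.range ψ)
    (hbig : ∀ P : Subgroup Ω, P ≤ S → T ≤ P → ∀ α ∈ F.autGroup P,
      Pr P (P.subtype.comp α.toMonoidHom))
    (K : ∀ P : Subgroup Ω, P ≤ S → Subgroup (MulAut P))
    (hKA : ∀ (P : Subgroup Ω) (hP : P ≤ S), F.IsEssential p P → K P hP ≤ F.autGroup P)
    (hKn : ∀ (P : Subgroup Ω) (hP : P ≤ S), F.IsEssential p P → ∀ β ∈ F.autGroup P, ∀ γ ∈ K P hP,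
      β * γ * β⁻¹ ∈ K P hP)
    (hKT : ∀ (P : Subgroup Ω) (hP : P ≤ S), F.IsEssential p P → ∀ (g : Ω) (_ : g ∈ T)
      (hgN : g ∈ Subgroup.normalizer (P : Set Ω)), P.normalizerMonoidHom ⟨g, hgN⟩ ∈ K P hP)
    (hKPr : ∀ (P : Subgroup Ω) (hP : P ≤ S), F.IsEssential p P → ∀ γ ∈ K P hP,
      Pr P (P.subtype.comp γ.toMonoidHom))
    {R : Subgroup Ω} {φ : R →* Ω} (hφ : φ ∈ F.Hom R) : Pr R φ := by
  let E : FusionSystem S := predSub F Pr hconj hcomp hinv
  have hEmem : ∀ {P : Subgroup Ω} {φ : P →* Ω}, φ ∈ E.Hom P ↔ φ ∈ F.Hom P ∧ Pr P φ :=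
    fun {P φ} => Iff.rfl
  have hle : F ≤ E := by
    apply le_of_essential_induction p hS F hF E
    · intro α hα
      rw [mem_autGroup_iff E le_rfl]
      exact ⟨(mem_autGroup_iff F le_rfl α).mp hα, hbig S le_rfl hTS α hα⟩
    · intro P hess hPne IH α hα
      have hPS : P ≤ S := hess.1.1
      haveI : Finite P := finite_of_le_finite hPS
      rw [mem_autGroup_iff E hPS]
      refine ⟨(mem_autGroup_iff F hPS α).mp hα, ?_⟩
      by_cases hTP : T ≤ P
      · exact hbig P hPS hTP α hα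
      · have hfn : F.IsFullyNormalized P := hess.2.1
        obtain ⟨κ, hκ, ν, hν, hακν, hext⟩ := exists_frattini_factor p hS F hF hfn
          (K P hPS) (hKA P hPS hess) (hKn P hPS hess) hα
        obtain ⟨g, hgT, hgN, hgP⟩ := exists_mem_normalizer_not_mem_of_not_le hS hPS hTS hTn hTP
        have hgNS : g ∈ normalizerIn S P := ⟨hTS hgT, hgN⟩
        have hgK : P.normalizerMonoidHom ⟨g, hgNS.2⟩ ∈ K P hPS := hKT P hPS hess g hgT hgN
        have hgext := hext g hgNS hgK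
        set ν' : P →* Ω := P.subtype.comp ν.toMonoidHom with hν'
        have hν'F : ν' ∈ F.Hom P := (mem_autGroup_iff F hPS ν).mp hν
        have hrange : ν'.range = P := by
          ext y
          constructor
          · rintro ⟨x, rfl⟩; exact (ν x).2
          · intro hy
            refine ⟨ν⁻¹ ⟨y, hy⟩, ?_⟩
            show ((ν (ν⁻¹ ⟨y, hy⟩) : P) : Ω) = y
            rw [MulAut.apply_inv_self]
        obtain ⟨-, -, hrec⟩ := of_fullyNormalized p hS F hF hfn
        obtain ⟨ψ, hψ, hψP⟩ := hrec.2 P ν' hν'F hrange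
        have hPext : P ≤ extender S P ν' := le_extender F hν'F
        haveI : Finite (extender S P ν') := finite_of_le_finite (extender_le S ν')
        have hlt : Nat.card P < Nat.card (extender S P ν') := by
          have hfin : (extender S P ν' : Set Ω).Finite := Set.toFinite _
          have h1 := Set.ncard_lt_ncard (s := (P : Set Ω)) (t := (extender S P ν' : Set Ω))
            ⟨hPext, fun h => hgP (h hgext)⟩ hfin
          have e1 : Nat.card P = (P : Set Ω).ncard := _root_.Nat.card_coe_set_eq (P : Set Ω)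
          have e2 : Nat.card (extender S P ν') = (extender S P ν' : Set Ω).ncard :=
            _root_.Nat.card_coe_set_eq (extender S P ν' : Set Ω)
          rw [e1, e2]; exact h1
        have hψE := IH _ ψ hψ hlt
        have hPrψ : Pr _ ψ := (hEmem.mp hψE).2
        have hsub : Pr P P.subtype := by
          rw [← conjHom_one]; exact hconj hPS S.one_mem
        have hPrν : Pr P ν' := by
          have h1 := hcomp (subtype_mem F hPS) hψ hsub hPrψ (fun x => hPext x.2)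
          have e : ψ.comp (P.subtype.codRestrict (extender S P ν') fun x => hPext x.2) = ν' := by
            ext x
            exact hψP x x.2 (hPext x.2)
          rwa [e] at h1
        have hPrκ : Pr P (P.subtype.comp κ.toMonoidHom) := hKPr P hPS hess κ hκ
        have hκF : P.subtype.comp κ.toMonoidHom ∈ F.Hom P :=
          (mem_autGroup_iff F hPS κ).mp (hKA P hPS hess hκ)
        have h2 := hcomp hν'F hκF hPrν hPrκ (fun x => (ν x).2)
        have e2 : (P.subtype.comp κ.toMonoidHom).comp (ν'.codRestrict P fun x => (ν x).2)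
            = P.subtype.comp α.toMonoidHom := by
          ext x
          rw [hακν]
          rfl
        rwa [e2] at h2
  exact (hEmem.mp (hle R hφ)).2

/-- **Induction along a family of normal subgroups of the automizers** (hypotheses for all `P ≤ S`). -/
theorem normal_family_induction [Finite S] (p : ℕ) [Fact p.Prime] (hS : IsPGroup p S)
    (F : FusionSystem S) (hF : F.IsSaturated p) {T : Subgroup Ω} (hTS : T ≤ S)
    (hTn : ∀ g ∈ S, ∀ v ∈ T, g⁻¹ * v * g ∈ T)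
    (Pr : ∀ P : Subgroup Ω, (P →* Ω) → Prop)
    (hconj : ∀ {P : Subgroup Ω} {g : Ω}, P ≤ S → g ∈ S → Pr P (conjHom P g))
    (hcomp : ∀ {P Q : Subgroup Ω} {φ : P →* Ω} {ψ : Q →* Ω}, φ ∈ F.Hom P → ψ ∈ F.Hom Q → Pr P φ →
      Pr Q ψ → ∀ h : ∀ x : P, φ x ∈ Q, Pr P (ψ.comp (φ.codRestrict Q h)))
    (hinv : ∀ {P : Subgroup Ω} {φ : P →* Ω}, φ ∈ F.Hom P → Pr P φ → ∀ ψ ∈ F.Hom φ.range,
      (∀ x : P, ψ ⟨φ x, ⟨x, rfl⟩⟩ = (x : Ω)) → Pr φ.range ψ)
    (hbig : ∀ P : Subgroup Ω, P ≤ S → T ≤ P → ∀ α ∈ F.autGroup P,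
      Pr P (P.subtype.comp α.toMonoidHom))
    (K : ∀ P : Subgroup Ω, P ≤ S → Subgroup (MulAut P))
    (hKA : ∀ (P : Subgroup Ω) (hP : P ≤ S), K P hP ≤ F.autGroup P)
    (hKn : ∀ (P : Subgroup Ω) (hP : P ≤ S), ∀ β ∈ F.autGroup P, ∀ γ ∈ K P hP, β * γ * β⁻¹ ∈ K P hP)
    (hKT : ∀ (P : Subgroup Ω) (hP : P ≤ S), ∀ (g : Ω) (_ : g ∈ T)
      (hgN : g ∈ Subgroup.normalizer (P : Set Ω)), P.normalizerMonoidHom ⟨g, hgN⟩ ∈ K P hP)
    (hKPr : ∀ (P : Subgroup Ω) (hP : P ≤ S), ∀ γ ∈ K P hP, Pr P (P.subtype.comp γ.toMonoidHom))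
    {R : Subgroup Ω} {φ : R →* Ω} (hφ : φ ∈ F.Hom R) : Pr R φ :=
  normal_family_induction' p hS F hF hTS hTn Pr hconj hcomp hinv hbig K
    (fun P hP _ => hKA P hP) (fun P hP _ => hKn P hP) (fun P hP _ => hKT P hP)
    (fun P hP _ => hKPr P hP) hφ

end Cfsg.Agent.Helper25
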