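import Mathlib
import Cfsg.Prelude.Def_FusionSystem
import Cfsg.Agent.Lib.Helper25.FusionSat4

set_option autoImplicit false

namespace Cfsg.Agent.Helper25

open Cfsg Cfsg.FusionSystem

variable {Ω : Type*} [Group Ω]

/-- The automorphisms `κ ∈ K` of `Q` such that `φ κ φ⁻¹` is induced on `φ(Q)` by an element of `S`. -/
def TK (S : Subgroup Ω) {Q : Subgroup Ω} (K : Subgroup (MulAut Q)) (φ : Q →* Ω) :
    Subgroup (MulAut Q) where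
  carrier := {κ | κ ∈ K ∧ ∃ g ∈ S, ∀ x : Q, g * φ x * g⁻¹ = φ (κ x)}
  one_mem' := ⟨K.one_mem, 1, S.one_mem, fun x => by simp⟩
  mul_mem' := by
    rintro a b ⟨ha, g, hg, hga⟩ ⟨hb, h, hh, hhb⟩
    refine ⟨K.mul_mem ha hb, g * h, S.mul_mem hg hh, fun x => ?_⟩
    rw [MulAut.mul_apply, ← hga, ← hhb]
    group
  inv_mem' := by
    rintro a ⟨ha, g, hg, hga⟩
    refine ⟨K.inv_mem ha, g⁻¹, S.inv_mem hg, fun x => ?_⟩
    have := hga (a⁻¹ x)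
    rw [MulAut.apply_inv_self] at this
    rw [← this]
    group

theorem mem_TK {S : Subgroup Ω} {Q : Subgroup Ω} {K : Subgroup (MulAut Q)} {φ : Q →* Ω}
    {κ : MulAut Q} :
    κ ∈ TK S K φ ↔ κ ∈ K ∧ ∃ g ∈ S, ∀ x : Q, g * φ x * g⁻¹ = φ (κ x) := Iff.rfl

/-- The elements `g ∈ S` whose conjugation action on `φ(Q)` is `φ κ φ⁻¹` for some `κ ∈ K`. -/
def NK (S : Subgroup Ω) {Q : Subgroup Ω} (K : Subgroup (MulAut Q)) (φ : Q →* Ω) : Subgroup Ω where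
  carrier := {g | g ∈ S ∧ ∃ κ ∈ K, ∀ x : Q, g * φ x * g⁻¹ = φ (κ x)}
  one_mem' := ⟨S.one_mem, 1, K.one_mem, fun x => by simp⟩
  mul_mem' := by
    rintro g h ⟨hg, a, ha, hga⟩ ⟨hh, b, hb, hhb⟩
    refine ⟨S.mul_mem hg hh, a * b, K.mul_mem ha hb, fun x => ?_⟩
    rw [MulAut.mul_apply, ← hga, ← hhb]
    group
  inv_mem' := by
    rintro g ⟨hg, a, ha, hga⟩
    refine ⟨S.inv_mem hg, a⁻¹, K.inv_mem ha, fun x => ?_⟩
    have := hga (a⁻¹ x)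
    rw [MulAut.apply_inv_self] at this
    rw [← this]
    group

theorem mem_NK {S : Subgroup Ω} {Q : Subgroup Ω} {K : Subgroup (MulAut Q)} {φ : Q →* Ω} {g : Ω} :
    g ∈ NK S K φ ↔ g ∈ S ∧ ∃ κ ∈ K, ∀ x : Q, g * φ x * g⁻¹ = φ (κ x) := Iff.rfl

theorem TK_le {S : Subgroup Ω} {Q : Subgroup Ω} (K : Subgroup (MulAut Q)) (φ : Q →* Ω) :
    TK S K φ ≤ K := fun _ h => h.1

theorem NK_le {S : Subgroup Ω} {Q : Subgroup Ω} (K : Subgroup (MulAut Q)) (φ : Q →* Ω) :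
    NK S K φ ≤ S := fun _ h => h.1

theorem TK_mono {S : Subgroup Ω} {Q : Subgroup Ω} {K K' : Subgroup (MulAut Q)} (h : K ≤ K')
    (φ : Q →* Ω) : TK S K φ ≤ TK S K' φ := fun _ hκ => ⟨h hκ.1, hκ.2⟩

theorem TK_eq_inf {S : Subgroup Ω} {Q : Subgroup Ω} (K : Subgroup (MulAut Q)) (φ : Q →* Ω) :
    TK S K φ = K ⊓ TK S ⊤ φ := by
  ext κ
  simp only [mem_TK, Subgroup.mem_inf, Subgroup.mem_top, true_and]

/-- `TK` consists of `p`-elements when `S` is a `p`-group and `φ` is injective. -/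
theorem isPGroup_TK {p : ℕ} {S : Subgroup Ω} (hS : IsPGroup p S) {Q : Subgroup Ω}
    (K : Subgroup (MulAut Q)) {φ : Q →* Ω} (hφ : Function.Injective φ) :
    IsPGroup p (TK S K φ) := by
  rintro ⟨κ, -, g, hg, hgκ⟩
  obtain ⟨k, hk⟩ := hS ⟨g, hg⟩
  refine ⟨k, ?_⟩
  apply Subtype.ext
  show κ ^ p ^ k = 1
  have hpow : ∀ n : ℕ, ∀ x : Q, g ^ n * φ x * (g ^ n)⁻¹ = φ ((κ ^ n) x) := by
    intro n
    induction n with
    | zero => intro x; simp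
    | succ n ih =>
      intro x
      rw [pow_succ', pow_succ', MulAut.mul_apply, ← hgκ, ← ih]
      group
  have hg1 : g ^ p ^ k = 1 := by
    have := congrArg Subtype.val hk
    simpa using this
  ext x
  have := hpow (p ^ k) x
  rw [hg1] at this
  simp only [one_mul, inv_one, mul_one] at this
  have h2 := hφ this
  rw [← h2]
  rfl

variable {S : Subgroup Ω}

/-- Precomposition of a map of the system with an automorphism of the system. -/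
theorem comp_aut_mem (F : FusionSystem S) {Q : Subgroup Ω} {φ : Q →* Ω} (hφ : φ ∈ F.Hom Q)
    {κ : MulAut Q} (hκ : κ ∈ F.autGroup Q) : φ.comp κ.toMonoidHom ∈ F.Hom Q := by
  have hQS : Q ≤ S := (F.le_of_mem hφ).1
  have h1 := (mem_autGroup_iff F hQS κ).mp hκ
  exact comp_mem' F h1 hφ (fun x => (κ x).2) (fun x => rfl)

/-- `χ ∘ ψ⁻¹` as a map of the system on the image of `ψ`. -/
theorem exists_comp_inv (F : FusionSystem S) {Q : Subgroup Ω} {ψ χ : Q →* Ω} (hψ : ψ ∈ F.Hom Q)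
    (hχ : χ ∈ F.Hom Q) :
    ∃ μ ∈ F.Hom ψ.range, (∀ x : Q, μ ⟨ψ x, ⟨x, rfl⟩⟩ = χ x) ∧ μ.range = χ.range := by
  obtain ⟨θ, hθ, hinv⟩ := F.inv_mem hψ
  have h1 : ∀ y : ψ.range, θ y ∈ Q := by
    rintro ⟨_, x, rfl⟩
    rw [hinv]; exact x.2
  have hμ := F.comp_mem hθ hχ h1
  have hval : ∀ x : Q, (χ.comp (θ.codRestrict Q h1)) ⟨ψ x, ⟨x, rfl⟩⟩ = χ x := by
    intro x
    show χ ⟨θ ⟨ψ x, _⟩, _⟩ = χ x
    congr 1
    exact Subtype.ext (hinv x)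
  refine ⟨_, hμ, hval, ?_⟩
  ext y
  constructor
  · rintro ⟨⟨_, x, rfl⟩, rfl⟩
    rw [hval]; exact ⟨x, rfl⟩
  · rintro ⟨x, rfl⟩
    exact ⟨⟨ψ x, ⟨x, rfl⟩⟩, hval x⟩

/-- `TK` lies in `Aut_F(Q)` for a map of the system. -/
theorem TK_le_autGroup (F : FusionSystem S) {Q : Subgroup Ω} (K : Subgroup (MulAut Q))
    {φ : Q →* Ω} (hφ : φ ∈ F.Hom Q) : TK S K φ ≤ F.autGroup Q := by
  rintro κ ⟨-, g, hg, hgκ⟩
  have hQS : Q ≤ S := (F.le_of_mem hφ).1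
  rw [mem_autGroup_iff F hQS]
  -- χ := c_g ∘ φ
  have hc : conjHom φ.range g ∈ F.Hom φ.range := F.conj_mem (range_le F hφ) hg
  have hχ : (conjHom φ.range g).comp (φ.codRestrict φ.range fun x => ⟨x, rfl⟩) ∈ F.Hom Q :=
    F.comp_mem hφ hc _
  obtain ⟨μ, hμ, hμv, -⟩ := exists_comp_inv F hφ (subtype_mem F hQS)
  have h2 : ∀ x : Q, ((conjHom φ.range g).comp (φ.codRestrict φ.range fun x => ⟨x, rfl⟩)) x
      ∈ φ.range := by
    intro x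
    show g * φ x * g⁻¹ ∈ φ.range
    rw [hgκ]; exact ⟨_, rfl⟩
  refine comp_mem' F hχ hμ h2 (fun x => ?_)
  show ((κ x : Q) : Ω) = μ ⟨g * φ x * g⁻¹, _⟩
  have e : (⟨g * φ x * g⁻¹, h2 x⟩ : φ.range) = ⟨φ (κ x), ⟨κ x, rfl⟩⟩ := Subtype.ext (hgκ x)
  rw [e, hμv]
  rfl

theorem NK_inf_autGroup (F : FusionSystem S) {Q : Subgroup Ω} (K : Subgroup (MulAut Q))
    {φ : Q →* Ω} (hφ : φ ∈ F.Hom Q) : NK S (F.autGroup Q ⊓ K) φ = NK S K φ := by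
  ext g
  constructor
  · rintro ⟨hg, κ, hκ, h⟩
    exact ⟨hg, κ, hκ.2, h⟩
  · rintro ⟨hg, κ, hκ, h⟩
    exact ⟨hg, κ, ⟨TK_le_autGroup F ⊤ hφ ⟨Subgroup.mem_top _, g, hg, h⟩, hκ⟩, h⟩

theorem TK_inf_autGroup (F : FusionSystem S) {Q : Subgroup Ω} (K : Subgroup (MulAut Q))
    {φ : Q →* Ω} (hφ : φ ∈ F.Hom Q) : TK S (F.autGroup Q ⊓ K) φ = TK S K φ := by
  ext κ
  constructor
  · rintro ⟨hκ, h⟩
    exact ⟨hκ.2, h⟩
  · rintro ⟨hκ, g, hg, h⟩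
    exact ⟨⟨TK_le_autGroup F ⊤ hφ ⟨Subgroup.mem_top _, g, hg, h⟩, hκ⟩, g, hg, h⟩

/-- `NK` normalizes the image. -/
theorem NK_le_normalizer {Q : Subgroup Ω} (K : Subgroup (MulAut Q)) (φ : Q →* Ω) :
    NK S K φ ≤ Subgroup.normalizer (φ.range : Set Ω) := by
  intro g hg
  have key : ∀ g ∈ NK S K φ, ∀ y ∈ φ.range, g * y * g⁻¹ ∈ φ.range := by
    rintro g ⟨-, κ, -, h⟩ _ ⟨x, rfl⟩
    rw [h]; exact ⟨_, rfl⟩
  apply mem_normalizer_of_forall (key g hg)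
  intro y hy
  have := key g⁻¹ (Subgroup.inv_mem _ hg) y hy
  simpa using this

/-- A map `φ` is `M`-good: its image is fully centralized and the automorphisms in `M` realized through
`φ` by `S` form a Sylow `p`-subgroup of `M`. -/
def IsKGood (F : FusionSystem S) (p : ℕ) {Q : Subgroup Ω} (M : Subgroup (MulAut Q)) (φ : Q →* Ω) :
    Prop :=
  φ ∈ F.Hom Q ∧ F.IsFullyCentralized φ.range ∧ IsSylowIn p (TK S M φ) M

end Cfsg.Agent.Helper25
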