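import Mathlib
import Cfsg.Prelude.Def_FusionSystem
import Cfsg.Agent.Lib.Helper25.KNorm1

set_option autoImplicit false

namespace Cfsg.Agent.Helper25

open Cfsg Cfsg.FusionSystem

variable {Ω : Type*} [Group Ω] {S : Subgroup Ω}

theorem homEquiv_symm_apply (F : FusionSystem S) {Q : Subgroup Ω} {φ : Q →* Ω} (hφ : φ ∈ F.Hom Q)
    (y : φ.range) : φ ((homEquiv F hφ).symm y) = y := by
  have := homEquiv_apply_coe F hφ ((homEquiv F hφ).symm y)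
  rw [MulEquiv.apply_symm_apply] at this
  exact this.symm

/-- If `φ₀(Q)` is fully automized, the automorphisms of `Q` realized through `φ₀` by `S` form a Sylow
`p`-subgroup of `Aut_F(Q)`. -/
theorem TK_top_isSylowIn (F : FusionSystem S) (p : ℕ) {Q : Subgroup Ω} {φ₀ : Q →* Ω}
    (hφ₀ : φ₀ ∈ F.Hom Q) (hfa : F.IsFullyAutomized p φ₀.range) :
    IsSylowIn p (TK S ⊤ φ₀) (F.autGroup Q) := by
  have hsyl := (isFullyAutomized_iff F p (range_le F hφ₀)).mp hfa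
  have he0 : φ₀.range.subtype.comp (homEquiv F hφ₀).toMonoidHom ∈ F.Hom Q := by
    have : φ₀.range.subtype.comp (homEquiv F hφ₀).toMonoidHom = φ₀ := by ext x; rfl
    rw [this]; exact hφ₀
  have he1 := symm_mem F (homEquiv F hφ₀) he0
  have h1 := IsSylowIn.map_equiv (MulAut.congr (homEquiv F hφ₀).symm) hsyl
  rw [autGroup_map_congr F (homEquiv F hφ₀).symm he1] at h1
  have h2 : (autInducedBy S φ₀.range).map (MulAut.congr (homEquiv F hφ₀).symm).toMonoidHom =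
      TK S ⊤ φ₀ := by
    ext β
    constructor
    · rintro ⟨γ, hγ, rfl⟩
      obtain ⟨g, hg, hgγ⟩ := (mem_autInducedBy_iff γ).mp hγ
      refine ⟨Subgroup.mem_top _, g, hg, fun x => ?_⟩
      show g * φ₀ x * g⁻¹ = φ₀ ((homEquiv F hφ₀).symm (γ (homEquiv F hφ₀ x)))
      rw [homEquiv_symm_apply, hgγ]
      rfl
    · rintro ⟨-, g, hg, hgβ⟩
      refine ⟨MulAut.congr (homEquiv F hφ₀) β, ?_, ?_⟩
      · refine (mem_autInducedBy_iff _).mpr ⟨g, hg, fun y => ?_⟩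
        show ((homEquiv F hφ₀ (β ((homEquiv F hφ₀).symm y)) : φ₀.range) : Ω) = _
        rw [homEquiv_apply_coe, ← hgβ, homEquiv_symm_apply]
      · ext x
        simp [MulAut.congr]
  rwa [h2] at h1

theorem range_comp_aut {Q : Subgroup Ω} (φ : Q →* Ω) (κ : MulAut Q) :
    (φ.comp κ.toMonoidHom).range = φ.range := by
  ext y
  constructor
  · rintro ⟨x, rfl⟩; exact ⟨κ x, rfl⟩
  · rintro ⟨x, rfl⟩; exact ⟨κ⁻¹ x, by simp⟩

section

variable [Finite S] (p : ℕ) [Fact p.Prime] (hS : IsPGroup p S) (F : FusionSystem S)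
  (hF : F.IsSaturated p)
include hS hF

/-- Existence of good maps. -/
theorem exists_good {Q : Subgroup Ω} (hQ : Q ≤ S) {M : Subgroup (MulAut Q)}
    (hM : M ≤ F.autGroup Q) : ∃ φ, IsKGood F p M φ := by
  haveI : Finite Q := finite_of_le_finite hQ
  obtain ⟨Q', ⟨φ₀, hφ₀, rfl⟩, hfa, hrec⟩ := hF Q hQ
  have hL := TK_top_isSylowIn F p hφ₀ hfa
  obtain ⟨T, hT, -⟩ := exists_isSylowIn_ge (p := p) (bot_le : (⊥ : Subgroup (MulAut Q)) ≤ M)
    IsPGroup.of_bot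
  obtain ⟨a, ha, hle⟩ := hL.exists_conj_le (hT.1.trans hM) hT.2.1
  have hφ : φ₀.comp a.toMonoidHom ∈ F.Hom Q := comp_aut_mem F hφ₀ ha
  refine ⟨φ₀.comp a.toMonoidHom, hφ, ?_, ?_⟩
  · rw [range_comp_aut]
    exact isFullyCentralized_of_receptive F hrec
  · have hTle : T ≤ TK S M (φ₀.comp a.toMonoidHom) := by
      intro τ hτ
      have h1 : a * τ * a⁻¹ ∈ Cfsg.conjBy T a := by
        rw [mem_conjBy]
        simpa [mul_assoc] using hτ
      obtain ⟨-, g, hg, hgτ⟩ := hle h1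
      refine ⟨hT.1 hτ, g, hg, fun x => ?_⟩
      show g * φ₀ (a x) * g⁻¹ = φ₀ (a (τ x))
      rw [hgτ]
      simp [MulAut.mul_apply]
    have := hT.2.2 _ (TK_le M _) (isPGroup_TK hS M (F.injective_of_mem hφ)) hTle
    rw [this]
    exact hT

/-- Extension lemma: a good map `φ` receives, up to an automorphism in `M`, an extension of `φ ψ⁻¹`
to `N_S^M(ψ(Q)) ψ(Q)`. -/
theorem exists_extension_of_good {Q : Subgroup Ω} {M : Subgroup (MulAut Q)}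
    (hM : M ≤ F.autGroup Q) {φ : Q →* Ω} (hφ : IsKGood F p M φ) {ψ : Q →* Ω} (hψ : ψ ∈ F.Hom Q) :
    ∃ κ ∈ M, ∃ θ ∈ F.Hom (NK S M ψ ⊔ ψ.range),
      ∀ (x : Q) (h : ψ x ∈ NK S M ψ ⊔ ψ.range), θ ⟨ψ x, h⟩ = φ (κ x) := by
  have hQS : Q ≤ S := (F.le_of_mem hψ).1
  haveI : Finite Q := finite_of_le_finite hQS
  obtain ⟨κ, hκ, hle⟩ := hφ.2.2.exists_conj_le (TK_le M ψ)
    (isPGroup_TK hS M (F.injective_of_mem hψ))
  have hχ : φ.comp κ.toMonoidHom ∈ F.Hom Q := comp_aut_mem F hφ.1 (hM hκ)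
  obtain ⟨μ, hμ, hμv, hμr⟩ := exists_comp_inv F hψ hχ
  rw [range_comp_aut] at hμr
  have hrec := isReceptive_of_fullyCentralized p hS F hF hφ.2.1
  obtain ⟨θ₀, hθ₀, hext⟩ := hrec.2 ψ.range μ hμ hμr
  have hle' : NK S M ψ ⊔ ψ.range ≤ extender S ψ.range μ := by
    refine sup_le ?_ (le_extender F hμ)
    intro g hg
    obtain ⟨hgS, τ, hτM, hgτ⟩ := hg
    have hτ : τ ∈ TK S M ψ := ⟨hτM, g, hgS, hgτ⟩
    have h1 : κ * τ * κ⁻¹ ∈ Cfsg.conjBy (TK S M ψ) κ := by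
      rw [mem_conjBy]
      simpa [mul_assoc] using hτ
    obtain ⟨-, h, hh, hhτ⟩ := hle h1
    rw [mem_extender_iff]
    refine ⟨hgS, NK_le_normalizer M ψ ⟨hgS, τ, hτM, hgτ⟩, h, hh, ?_⟩
    rintro ⟨_, x, rfl⟩ hy
    have e : (⟨g * ψ x * g⁻¹, hy⟩ : ψ.range) = ⟨ψ (τ x), ⟨_, rfl⟩⟩ := Subtype.ext (hgτ x)
    rw [e, hμv, hμv]
    show φ (κ (τ x)) = h * φ (κ x) * h⁻¹
    rw [hhτ]
    simp [MulAut.mul_apply]
  refine ⟨κ, hκ, θ₀.comp (Subgroup.inclusion hle'), restrict_mem F hle' hθ₀, fun x h => ?_⟩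
  show θ₀ ⟨ψ x, hle' h⟩ = φ (κ x)
  rw [hext (ψ x) ⟨x, rfl⟩ (hle' h), hμv]
  rfl

end

end Cfsg.Agent.Helper25
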