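import Mathlib
import Cfsg.Prelude.Def_FusionSystem
import Cfsg.Agent.Lib.Helper25.KNorm2

set_option autoImplicit false

namespace Cfsg.Agent.Helper25

open Cfsg Cfsg.FusionSystem

/-- The image of a Sylow subgroup under a homomorphism is Sylow in the image. -/
theorem IsSylowIn.map_hom {G H : Type*} [Group G] [Group H] [Finite G] {p : ℕ} [Fact p.Prime]
    (f : G →* H) {A B : Subgroup G} (h : IsSylowIn p A B) : IsSylowIn p (A.map f) (B.map f) := by
  obtain ⟨T, hT⟩ := (isSylowIn_iff_exists_sylow h.1).mp h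
  have := isSylowIn_map_range (f.comp B.subtype) T
  have e1 : ((T : Subgroup B).map (f.comp B.subtype)) = A.map f := by
    rw [hT, ← Subgroup.map_map, Subgroup.map_subgroupOf_eq_of_le h.1]
  have e2 : (f.comp B.subtype).range = B.map f := by
    rw [MonoidHom.range_eq_map, ← Subgroup.map_map, ← MonoidHom.range_eq_map, Subgroup.range_subtype]
  rwa [e1, e2] at this

variable {Ω : Type*} [Group Ω] {S : Subgroup Ω}

/-- Values of a homomorphism on a join are controlled by its values on the two factors. -/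
theorem sup_hom_mem {P Q : Subgroup Ω} (φ : ↥(P ⊔ Q) →* Ω) (D : Subgroup Ω)
    (hP : ∀ (a : Ω) (ha : a ∈ P), φ ⟨a, (le_sup_left : P ≤ P ⊔ Q) ha⟩ ∈ D)
    (hQ : ∀ (b : Ω) (hb : b ∈ Q), φ ⟨b, (le_sup_right : Q ≤ P ⊔ Q) hb⟩ ∈ D) (x : ↥(P ⊔ Q)) :
    φ x ∈ D := by
  have h : (⊤ : Subgroup ↥(P ⊔ Q)) ≤ D.comap φ := by
    rw [← Subgroup.subgroupOf_self (P ⊔ Q), Subgroup.subgroupOf_sup le_sup_left le_sup_right]
    refine sup_le ?_ ?_
    · intro y hy
      exact hP y.1 (Subgroup.mem_subgroupOf.mp hy)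
    · intro y hy
      exact hQ y.1 (Subgroup.mem_subgroupOf.mp hy)
  exact h (Subgroup.mem_top x)

/-- Restriction to `P` of the automorphisms of `R` in a subgroup `A` all of whose elements stabilize `P`. -/
def resHom {P R : Subgroup Ω} (hPR : P ≤ R) (A : Subgroup (MulAut R))
    (hA : ∀ α ∈ A, ∀ x : R, (x : Ω) ∈ P → ((α x : R) : Ω) ∈ P) : A →* MulAut P where
  toFun α :=
    { toFun := fun x => ⟨((α : MulAut R) (Subgroup.inclusion hPR x) : R), hA α.1 α.2 _ x.2⟩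
      invFun := fun x => ⟨(((α : MulAut R)⁻¹) (Subgroup.inclusion hPR x) : R),
        hA _ (A.inv_mem α.2) _ x.2⟩
      left_inv := fun x => by
        apply Subtype.ext
        have e : Subgroup.inclusion hPR ⟨((α.1 (Subgroup.inclusion hPR x) : R) : Ω),
            hA α.1 α.2 _ x.2⟩ = α.1 (Subgroup.inclusion hPR x) := Subtype.ext rfl
        show ((α.1⁻¹ (Subgroup.inclusion hPR ⟨_, _⟩) : R) : Ω) = x
        rw [e]
        simp
      right_inv := fun x => by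
        apply Subtype.ext
        have e : Subgroup.inclusion hPR ⟨((α.1⁻¹ (Subgroup.inclusion hPR x) : R) : Ω),
            hA _ (A.inv_mem α.2) _ x.2⟩ = α.1⁻¹ (Subgroup.inclusion hPR x) := Subtype.ext rfl
        show ((α.1 (Subgroup.inclusion hPR ⟨_, _⟩) : R) : Ω) = x
        rw [e]
        simp
      map_mul' := fun x y => by
        apply Subtype.ext
        simp [map_mul] }
  map_one' := by
    ext x
    rfl
  map_mul' := fun α β => by
    ext x
    rfl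

theorem resHom_apply_coe {P R : Subgroup Ω} (hPR : P ≤ R) (A : Subgroup (MulAut R))
    (hA : ∀ α ∈ A, ∀ x : R, (x : Ω) ∈ P → ((α x : R) : Ω) ∈ P) (α : A) (x : P) :
    ((resHom hPR A hA α x : P) : Ω) = (((α : MulAut R) (Subgroup.inclusion hPR x) : R) : Ω) := rfl

/-- The automorphisms of `R ≥ Q` that stabilize `P` and restrict on `Q` to an element of `K`. -/
def KP {Q : Subgroup Ω} (K : Subgroup (MulAut Q)) (P R : Subgroup Ω) (hQR : Q ≤ R) :
    Subgroup (MulAut R) where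
  carrier := {α | (∀ x : R, (x : Ω) ∈ P → ((α x : R) : Ω) ∈ P) ∧
    (∀ x : R, (x : Ω) ∈ P → ((α⁻¹ x : R) : Ω) ∈ P) ∧
    ∃ κ ∈ K, ∀ x : Q, ((α (Subgroup.inclusion hQR x) : R) : Ω) = κ x}
  one_mem' := ⟨fun x h => h, fun x h => by simpa using h, 1, K.one_mem, fun x => rfl⟩
  mul_mem' := by
    rintro a b ⟨ha1, ha2, κa, hκa, hκa'⟩ ⟨hb1, hb2, κb, hκb, hκb'⟩
    refine ⟨fun x hx => ha1 _ (hb1 x hx), fun x hx => ?_, κa * κb, K.mul_mem hκa hκb, fun x => ?_⟩
    · rw [mul_inv_rev]; exact hb2 _ (ha2 x hx)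
    · show ((a (b (Subgroup.inclusion hQR x)) : R) : Ω) = κa (κb x)
      have : b (Subgroup.inclusion hQR x) = Subgroup.inclusion hQR (κb x) := Subtype.ext (hκb' x)
      rw [this, hκa']
  inv_mem' := by
    rintro a ⟨ha1, ha2, κa, hκa, hκa'⟩
    refine ⟨ha2, by simpa using ha1, κa⁻¹, K.inv_mem hκa, fun x => ?_⟩
    have : a (Subgroup.inclusion hQR (κa⁻¹ x)) = Subgroup.inclusion hQR x :=
      Subtype.ext (by rw [hκa']; simp)
    rw [← this]
    simp

theorem mem_KP {Q : Subgroup Ω} {K : Subgroup (MulAut Q)} {P R : Subgroup Ω} {hQR : Q ≤ R}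
    {α : MulAut R} : α ∈ KP K P R hQR ↔ (∀ x : R, (x : Ω) ∈ P → ((α x : R) : Ω) ∈ P) ∧
    (∀ x : R, (x : Ω) ∈ P → ((α⁻¹ x : R) : Ω) ∈ P) ∧
    ∃ κ ∈ K, ∀ x : Q, ((α (Subgroup.inclusion hQR x) : R) : Ω) = κ x := Iff.rfl

/-- Transport of `KP` along an isomorphism restricting to an element of `K` on `Q`. -/
theorem KP_congr {Q : Subgroup Ω} {K : Subgroup (MulAut Q)} {P P' R R' : Subgroup Ω} (e : R ≃* R')
    (hQR : Q ≤ R) (hQR' : Q ≤ R') {κ : MulAut Q} (hκ : κ ∈ K)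
    (heQ : ∀ q : Q, ((e (Subgroup.inclusion hQR q) : R') : Ω) = κ q)
    (heP : ∀ x : R, (x : Ω) ∈ P ↔ ((e x : R') : Ω) ∈ P') {α : MulAut R}
    (hα : α ∈ KP K P R hQR) : MulAut.congr e α ∈ KP K P' R' hQR' := by
  obtain ⟨h1, h2, κa, hκa, hκa'⟩ := hα
  have hsymm : ∀ y : R', ((e.symm y : R) : Ω) ∈ P ↔ (y : Ω) ∈ P' := fun y => by
    rw [heP]; simp
  refine ⟨fun y hy => ?_, fun y hy => ?_, κ * κa * κ⁻¹, K.mul_mem (K.mul_mem hκ hκa) (K.inv_mem hκ),
    fun q => ?_⟩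
  · show ((e (α (e.symm y)) : R') : Ω) ∈ P'
    rw [← heP]
    exact h1 _ ((hsymm y).mpr hy)
  · rw [← map_inv]
    show ((e (α⁻¹ (e.symm y)) : R') : Ω) ∈ P'
    rw [← heP]
    exact h2 _ ((hsymm y).mpr hy)
  · show ((e (α (e.symm (Subgroup.inclusion hQR' q))) : R') : Ω) = κ (κa (κ⁻¹ q))
    have e1 : e.symm (Subgroup.inclusion hQR' q) = Subgroup.inclusion hQR (κ⁻¹ q) := by
      rw [MulEquiv.symm_apply_eq]
      apply Subtype.ext
      rw [heQ]
      simp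
    have e2 : α (Subgroup.inclusion hQR (κ⁻¹ q)) = Subgroup.inclusion hQR (κa (κ⁻¹ q)) :=
      Subtype.ext (hκa' _)
    rw [e1, e2, heQ]

theorem KP_map_congr {Q : Subgroup Ω} {K : Subgroup (MulAut Q)} {P P' R R' : Subgroup Ω} (e : R ≃* R')
    (hQR : Q ≤ R) (hQR' : Q ≤ R') {κ : MulAut Q} (hκ : κ ∈ K)
    (heQ : ∀ q : Q, ((e (Subgroup.inclusion hQR q) : R') : Ω) = κ q)
    (heP : ∀ x : R, (x : Ω) ∈ P ↔ ((e x : R') : Ω) ∈ P') :
    (KP K P R hQR).map (MulAut.congr e).toMonoidHom = KP K P' R' hQR' := by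
  apply le_antisymm
  · rintro _ ⟨α, hα, rfl⟩
    exact KP_congr e hQR hQR' hκ heQ heP hα
  · intro β hβ
    have heQ' : ∀ q : Q, ((e.symm (Subgroup.inclusion hQR' q) : R) : Ω) = (κ⁻¹ : MulAut Q) q := by
      intro q
      have e1 : e.symm (Subgroup.inclusion hQR' q) = Subgroup.inclusion hQR (κ⁻¹ q) := by
        rw [MulEquiv.symm_apply_eq]
        apply Subtype.ext
        rw [heQ]
        simp
      rw [e1]
      rfl
    have heP' : ∀ y : R', (y : Ω) ∈ P' ↔ ((e.symm y : R) : Ω) ∈ P := fun y => by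
      rw [heP]; simp
    refine ⟨MulAut.congr e.symm β, KP_congr e.symm hQR' hQR (K.inv_mem hκ) heQ' heP' hβ, ?_⟩
    ext y
    simp [MulAut.congr]

/-- `E` is the `K`-normalizer system `N_F^K(Q)` over `S' = N_S^K(Q)`. -/
structure IsKNormSys (F : FusionSystem S) {Q : Subgroup Ω} (K : Subgroup (MulAut Q)) {S' : Subgroup Ω}
    (E : FusionSystem S') : Prop where
  mem_S : ∀ g, g ∈ S' ↔ g ∈ S ∧ ∃ κ ∈ K, ∀ x : Q, g * x * g⁻¹ = κ x
  mem_Hom : ∀ (P : Subgroup Ω) (φ : P →* Ω), φ ∈ E.Hom P ↔ φ ∈ F.Hom P ∧ P ≤ S' ∧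
    (∀ x, φ x ∈ S') ∧ ∃ ψ ∈ F.Hom (P ⊔ Q), (∀ x : P, ψ (Subgroup.inclusion le_sup_left x) = φ x) ∧
      ∃ κ ∈ K, ∀ x : Q, ψ (Subgroup.inclusion le_sup_right x) = κ x

/-- Transport of goodness of a map to goodness of the inclusion of its image. -/
theorem isKGood_subtype_of_isKGood (F : FusionSystem S) (p : ℕ) {R : Subgroup Ω} {ρ : R →* Ω}
    (hρ : ρ ∈ F.Hom R) {M₁ : Subgroup (MulAut R)} {M₂ : Subgroup (MulAut ρ.range)}
    (hM : M₁.map (MulAut.congr (homEquiv F hρ)).toMonoidHom = M₂) (h : IsKGood F p M₁ ρ) :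
    IsKGood F p M₂ ρ.range.subtype := by
  refine ⟨subtype_mem F (range_le F hρ), ?_, ?_⟩
  · rw [Subgroup.range_subtype]; exact h.2.1
  · have h1 := IsSylowIn.map_equiv (MulAut.congr (homEquiv F hρ)) h.2.2
    rw [hM] at h1
    have e : (TK S M₁ ρ).map (MulAut.congr (homEquiv F hρ)).toMonoidHom =
        TK S M₂ ρ.range.subtype := by
      subst hM
      ext β
      constructor
      · rintro ⟨τ, ⟨hτM, g, hg, hgτ⟩, rfl⟩
        refine ⟨⟨τ, hτM, rfl⟩, g, hg, fun y => ?_⟩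
        obtain ⟨x, rfl⟩ := (homEquiv F hρ).surjective y
        show g * ρ x * g⁻¹ = ((homEquiv F hρ (τ ((homEquiv F hρ).symm (homEquiv F hρ x))) : ρ.range) : Ω)
        rw [MulEquiv.symm_apply_apply, hgτ]
        rfl
      · rintro ⟨⟨τ, hτM, rfl⟩, g, hg, hgβ⟩
        refine ⟨τ, ⟨hτM, g, hg, fun x => ?_⟩, rfl⟩
        have := hgβ (homEquiv F hρ x)
        have e2 : ((MulAut.congr (homEquiv F hρ)) τ) (homEquiv F hρ x) = homEquiv F hρ (τ x) := by
          show homEquiv F hρ (τ ((homEquiv F hρ).symm (homEquiv F hρ x))) = _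
          rw [MulEquiv.symm_apply_apply]
        change g * ρ x * g⁻¹ = (((MulAut.congr (homEquiv F hρ)) τ) (homEquiv F hρ x) : ρ.range) at this
        rw [e2] at this
        exact this
    rwa [e] at h1

end Cfsg.Agent.Helper25
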