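import Mathlib
import Cfsg.Prelude.Def_FusionSystem
import Cfsg.Agent.Lib.Helper25.KNorm3

set_option autoImplicit false

namespace Cfsg.Agent.Helper25

open Cfsg Cfsg.FusionSystem

variable {Ω : Type*} [Group Ω] {S : Subgroup Ω}

section

variable [Finite S] (p : ℕ) [Fact p.Prime] (hS : IsPGroup p S) (F : FusionSystem S)
  (hF : F.IsSaturated p)
include hS hF

/-- Step 1 of AKO I.5.5: every `P ≤ N_S^K(Q)` is conjugate in `N_F^K(Q)` to some `P'` for which the
inclusion of `P'Q` is good for the group `K_{P'}`. -/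
theorem exists_conj_good {Q : Subgroup Ω} (hQ : Q ≤ S) {K : Subgroup (MulAut Q)}
    (hgood : IsKGood F p (F.autGroup Q ⊓ K) Q.subtype) {S' : Subgroup Ω} {E : FusionSystem S'}
    (hE : IsKNormSys F K E) {P : Subgroup Ω} (hP : P ≤ S') :
    ∃ (P' R' : Subgroup Ω) (hQR' : Q ≤ R'), E.IsConj P P' ∧ R' = P' ⊔ Q ∧
      IsKGood F p (F.autGroup R' ⊓ KP K P' R' hQR') R'.subtype := by
  have hS' : S' ≤ S := fun g hg => ((hE.mem_S g).mp hg).1
  have hPS : P ≤ S := hP.trans hS'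
  have hRS : P ⊔ Q ≤ S := sup_le hPS hQ
  haveI : Finite ↥(P ⊔ Q) := finite_of_le_finite hRS
  -- a good map for `(PQ, K_P)`
  obtain ⟨φ, hφ⟩ := exists_good p hS F hF hRS
    (M := F.autGroup (P ⊔ Q) ⊓ KP K P (P ⊔ Q) le_sup_right) inf_le_left
  have hφS := (F.le_of_mem hφ.1).2
  have hψ : φ.comp (Subgroup.inclusion (le_sup_right : Q ≤ P ⊔ Q)) ∈ F.Hom Q :=
    restrict_mem F le_sup_right hφ.1
  obtain ⟨κ, hκ, θ, hθ, hθv⟩ := exists_extension_of_good p hS F hF inf_le_left hgood hψ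
  have hθS := (F.le_of_mem hθ).2
  -- `φ(PQ)` lies in the source of `θ`
  have hφD : ∀ x : ↥(P ⊔ Q), φ x ∈
      NK S (F.autGroup Q ⊓ K) (φ.comp (Subgroup.inclusion (le_sup_right : Q ≤ P ⊔ Q))) ⊔
        (φ.comp (Subgroup.inclusion (le_sup_right : Q ≤ P ⊔ Q))).range := by
    apply sup_hom_mem
    · intro a ha
      apply (le_sup_left : NK S (F.autGroup Q ⊓ K) _ ≤ _)
      rw [NK_inf_autGroup F K hψ]
      obtain ⟨-, κa, hκa, hκa'⟩ := (hE.mem_S a).mp (hP ha)
      refine ⟨hφS _, κa, hκa, fun x => ?_⟩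
      show φ ⟨a, _⟩ * φ (Subgroup.inclusion le_sup_right x) * (φ ⟨a, _⟩)⁻¹ =
        φ (Subgroup.inclusion le_sup_right (κa x))
      rw [← map_inv, ← map_mul, ← map_mul]
      congr 1
      apply Subtype.ext
      exact hκa' x
    · intro b hb
      apply (le_sup_right : _ ≤ NK S (F.autGroup Q ⊓ K) _ ⊔ _)
      exact ⟨⟨b, hb⟩, rfl⟩
  -- ρ := θ ∘ φ
  have hρ : θ.comp (φ.codRestrict _ hφD) ∈ F.Hom (P ⊔ Q) := F.comp_mem hφ.1 hθ hφD
  obtain ⟨ρ, hρdef⟩ : ∃ ρ : ↥(P ⊔ Q) →* Ω, ρ = θ.comp (φ.codRestrict _ hφD) := ⟨_, rfl⟩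
  rw [← hρdef] at hρ
  have hρv : ∀ x : ↥(P ⊔ Q), ρ x = θ ⟨φ x, hφD x⟩ := fun x => by rw [hρdef]; rfl
  have hρS := (F.le_of_mem hρ).2
  have hρinj := F.injective_of_mem hρ
  have hρQ : ∀ x : Q, ρ (Subgroup.inclusion le_sup_right x) = κ x := by
    intro x
    rw [hρv]
    exact hθv x _
  have hρQ' : ∀ q : Q, ρ (Subgroup.inclusion le_sup_right (κ⁻¹ q)) = q := by
    intro q
    rw [hρQ]; simp
  have hQR' : Q ≤ ρ.range := fun q hq => ⟨_, hρQ' ⟨q, hq⟩⟩
  refine ⟨(P.subgroupOf (P ⊔ Q)).map ρ, ρ.range, hQR', ?_, ?_, ?_⟩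
  · -- conjugacy in `E`
    refine ⟨ρ.comp (Subgroup.inclusion le_sup_left), ?_, ?_⟩
    · rw [hE.mem_Hom]
      refine ⟨restrict_mem F le_sup_left hρ, hP, fun x => ?_, ρ, hρ, fun x => rfl, κ, hκ.2, hρQ⟩
      obtain ⟨-, κx, hκx, hκx'⟩ := (hE.mem_S x).mp (hP x.2)
      rw [hE.mem_S]
      refine ⟨hρS _, κ * κx * κ⁻¹, K.mul_mem (K.mul_mem hκ.2 hκx) (K.inv_mem hκ.2), fun q => ?_⟩
      show ρ (Subgroup.inclusion le_sup_left x) * (q : Ω) * (ρ (Subgroup.inclusion le_sup_left x))⁻¹ =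
        κ (κx (κ⁻¹ q))
      rw [← hρQ, ← map_inv]
      conv_lhs => rw [← hρQ' q]
      rw [← map_mul, ← map_mul]
      congr 1
      apply Subtype.ext
      exact hκx' _
    · ext y
      constructor
      · rintro ⟨x, rfl⟩
        exact ⟨Subgroup.inclusion le_sup_left x, Subgroup.mem_subgroupOf.mpr x.2, rfl⟩
      · rintro ⟨x, hx, rfl⟩
        exact ⟨⟨x.1, Subgroup.mem_subgroupOf.mp hx⟩, congrArg ρ (Subtype.ext rfl)⟩
  · -- `ρ(PQ) = ρ(P) Q`
    apply le_antisymm
    · rintro _ ⟨x, rfl⟩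
      revert x
      apply sup_hom_mem
      · intro a ha
        exact (le_sup_left : (P.subgroupOf (P ⊔ Q)).map ρ ≤ _)
          ⟨⟨a, le_sup_left (a := P) ha⟩, Subgroup.mem_subgroupOf.mpr ha, rfl⟩
      · intro b hb
        apply (le_sup_right : Q ≤ (P.subgroupOf (P ⊔ Q)).map ρ ⊔ Q)
        have := hρQ ⟨b, hb⟩
        have e : (Subgroup.inclusion (le_sup_right : Q ≤ P ⊔ Q) ⟨b, hb⟩) =
            ⟨b, le_sup_right (a := P) hb⟩ := rfl
        rw [e] at this
        rw [this]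
        exact (κ ⟨b, hb⟩).2
    · refine sup_le ?_ hQR'
      rintro _ ⟨x, -, rfl⟩
      exact ⟨x, rfl⟩
  · -- goodness
    have hgρ : IsKGood F p (F.autGroup (P ⊔ Q) ⊓ KP K P (P ⊔ Q) le_sup_right) ρ := by
      refine ⟨hρ, ?_, ?_⟩
      · -- fully centralized
        have hφle : φ.range ≤ NK S (F.autGroup Q ⊓ K)
            (φ.comp (Subgroup.inclusion (le_sup_right : Q ≤ P ⊔ Q))) ⊔
            (φ.comp (Subgroup.inclusion (le_sup_right : Q ≤ P ⊔ Q))).range := by
          rintro _ ⟨x, rfl⟩; exact hφD x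
        have hconj : F.IsConj φ.range ρ.range := by
          refine ⟨θ.comp (Subgroup.inclusion hφle), restrict_mem F hφle hθ, ?_⟩
          ext y
          constructor
          · rintro ⟨⟨_, x, rfl⟩, rfl⟩
            exact ⟨x, hρv x⟩
          · rintro ⟨x, rfl⟩
            exact ⟨⟨φ x, ⟨x, rfl⟩⟩, (hρv x).symm⟩
        refine ⟨range_le F hρ, fun R'' hR'' => ?_⟩
        refine (hφ.2.1.2 R'' (isConj_trans F hconj hR'')).trans ?_
        haveI : Finite (centralizerIn S ρ.range) := finite_of_le_finite centralizerIn_le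
        have hcD : ∀ c ∈ centralizerIn S φ.range, c ∈ NK S (F.autGroup Q ⊓ K)
            (φ.comp (Subgroup.inclusion (le_sup_right : Q ≤ P ⊔ Q))) ⊔
            (φ.comp (Subgroup.inclusion (le_sup_right : Q ≤ P ⊔ Q))).range := by
          intro c hc
          apply (le_sup_left : NK S (F.autGroup Q ⊓ K) _ ≤ _)
          have hc' := mem_centralizerIn.mp hc
          refine ⟨hc'.1, 1, Subgroup.one_mem _, fun x => ?_⟩
          show c * φ (Subgroup.inclusion le_sup_right x) * c⁻¹ = φ (Subgroup.inclusion le_sup_right x)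
          rw [← hc'.2 _ ⟨_, rfl⟩, mul_inv_cancel_right]
        have hmap : ∀ c : centralizerIn S φ.range, θ ⟨c, hcD c c.2⟩ ∈ centralizerIn S ρ.range := by
          intro c
          rw [mem_centralizerIn]
          refine ⟨hθS _, ?_⟩
          rintro _ ⟨x, rfl⟩
          rw [hρv, ← map_mul, ← map_mul]
          congr 1
          apply Subtype.ext
          exact (mem_centralizerIn.mp c.2).2 (φ x) ⟨x, rfl⟩
        refine Nat.card_le_card_of_injective (fun c => ⟨θ ⟨c, hcD c c.2⟩, hmap c⟩) ?_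
        intro c d hcd
        have h1 : θ ⟨c, hcD c c.2⟩ = θ ⟨d, hcD d d.2⟩ := congrArg Subtype.val hcd
        have h2 := F.injective_of_mem hθ h1
        have h3 : (c : Ω) = (d : Ω) := congrArg (fun z : ↥(NK S (F.autGroup Q ⊓ K)
            (φ.comp (Subgroup.inclusion (le_sup_right : Q ≤ P ⊔ Q))) ⊔
            (φ.comp (Subgroup.inclusion (le_sup_right : Q ≤ P ⊔ Q))).range) => (z : Ω)) h2
        exact Subtype.ext h3
      · -- Sylow
        have hle : TK S (F.autGroup (P ⊔ Q) ⊓ KP K P (P ⊔ Q) le_sup_right) φ ≤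
            TK S (F.autGroup (P ⊔ Q) ⊓ KP K P (P ⊔ Q) le_sup_right) ρ := by
          rintro α ⟨hαM, g, hg, hgα⟩
          obtain ⟨-, -, κα, hκα, hκα'⟩ := hαM.2
          have hgD : g ∈ NK S (F.autGroup Q ⊓ K)
              (φ.comp (Subgroup.inclusion (le_sup_right : Q ≤ P ⊔ Q))) ⊔
              (φ.comp (Subgroup.inclusion (le_sup_right : Q ≤ P ⊔ Q))).range := by
            apply (le_sup_left : NK S (F.autGroup Q ⊓ K) _ ≤ _)
            rw [NK_inf_autGroup F K hψ]
            refine ⟨hg, κα, hκα, fun q => ?_⟩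
            show g * φ (Subgroup.inclusion le_sup_right q) * g⁻¹ =
              φ (Subgroup.inclusion le_sup_right (κα q))
            rw [hgα]
            congr 1
            exact Subtype.ext (hκα' q)
          refine ⟨hαM, θ ⟨g, hgD⟩, hθS _, fun x => ?_⟩
          rw [hρv, hρv, ← map_inv, ← map_mul, ← map_mul]
          congr 1
          exact Subtype.ext (hgα x)
        have := hφ.2.2.2.2 _ (TK_le _ ρ) (isPGroup_TK hS _ hρinj) hle
        rw [this]
        exact hφ.2.2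
    refine isKGood_subtype_of_isKGood F p hρ ?_ hgρ
    have he : ρ.range.subtype.comp (homEquiv F hρ).toMonoidHom ∈ F.Hom (P ⊔ Q) := by
      have : ρ.range.subtype.comp (homEquiv F hρ).toMonoidHom = ρ := by ext x; rfl
      rw [this]; exact hρ
    rw [Subgroup.map_inf _ _ _ (MulAut.congr (homEquiv F hρ)).injective,
      autGroup_map_congr F (homEquiv F hρ) he]
    congr 1
    refine KP_map_congr (homEquiv F hρ) le_sup_right hQR' hκ.2 (fun q => ?_) (fun x => ?_)
    · rw [homEquiv_apply_coe]; exact hρQ q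
    · rw [homEquiv_apply_coe]
      constructor
      · intro hx
        exact ⟨x, Subgroup.mem_subgroupOf.mpr hx, rfl⟩
      · rintro ⟨x', hx', hxx'⟩
        have := hρinj hxx'
        rw [← this]
        exact Subgroup.mem_subgroupOf.mp hx'

end

end Cfsg.Agent.Helper25
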