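import Mathlib
import Cfsg.Prelude.Def_FusionSystem
import Cfsg.Agent.Lib.Helper25.KNorm4

set_option autoImplicit false

namespace Cfsg.Agent.Helper25

open Cfsg Cfsg.FusionSystem

variable {Ω : Type*} [Group Ω] {S : Subgroup Ω}

theorem normalizer_sup_mem {A B : Subgroup Ω} {g : Ω} (hA : g ∈ Subgroup.normalizer (A : Set Ω))
    (hB : g ∈ Subgroup.normalizer (B : Set Ω)) : g ∈ Subgroup.normalizer ((A ⊔ B : Subgroup Ω) : Set Ω) := by
  rw [mem_normalizer_iff_conjBy] at hA hB ⊢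
  show (A ⊔ B).map _ = A ⊔ B
  rw [Subgroup.map_sup]
  exact congrArg₂ (· ⊔ ·) hA hB

/-- An automorphism of `R` mapping a finite subgroup `P` into itself also has its inverse mapping `P`
into itself. -/
theorem inv_stab_of_stab {P R : Subgroup Ω} [Finite P] (hPR : P ≤ R) (α : MulAut R)
    (h : ∀ x : R, (x : Ω) ∈ P → ((α x : R) : Ω) ∈ P) :
    ∀ x : R, (x : Ω) ∈ P → ((α⁻¹ x : R) : Ω) ∈ P := by
  intro y hy
  have hinj : Function.Injective (fun x : P => (⟨((α (Subgroup.inclusion hPR x) : R) : Ω),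
      h _ x.2⟩ : P)) := by
    intro a b hab
    have h1 : ((α (Subgroup.inclusion hPR a) : R) : Ω) = ((α (Subgroup.inclusion hPR b) : R) : Ω) :=
      by
        have h0 := Subtype.ext_iff.mp hab
        exact h0
    have h2 := α.injective (Subtype.ext h1)
    exact Subtype.ext (congrArg (fun z : R => (z : Ω)) h2)
  obtain ⟨x, hx⟩ := Finite.surjective_of_injective hinj ⟨y, hy⟩
  have h3 : α (Subgroup.inclusion hPR x) = y := by
    have h0 := Subtype.ext_iff.mp hx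
    exact Subtype.ext h0
  rw [← h3]
  simp

/-- `Aut_F(PQ) ∩ K_P`. -/
def AF (F : FusionSystem S) {Q : Subgroup Ω} (K : Subgroup (MulAut Q)) (P : Subgroup Ω) :
    Subgroup (MulAut ↥(P ⊔ Q)) :=
  F.autGroup (P ⊔ Q) ⊓ KP K P (P ⊔ Q) le_sup_right

/-- Restriction `Aut_F(PQ) ∩ K_P → Aut(P)`. -/
def resAF (F : FusionSystem S) {Q : Subgroup Ω} (K : Subgroup (MulAut Q)) (P : Subgroup Ω) :
    ↥(AF F K P) →* MulAut P :=
  resHom le_sup_left (AF F K P) (fun _ hα => hα.2.1)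

theorem resAF_apply_coe (F : FusionSystem S) {Q : Subgroup Ω} (K : Subgroup (MulAut Q))
    (P : Subgroup Ω) (α : AF F K P) (x : P) :
    ((resAF F K P α x : P) : Ω) =
      (((α : MulAut ↥(P ⊔ Q)) (Subgroup.inclusion le_sup_left x) : ↥(P ⊔ Q)) : Ω) := rfl

theorem IsKNormSys.le (F : FusionSystem S) {Q : Subgroup Ω} {K : Subgroup (MulAut Q)} {S' : Subgroup Ω}
    {E : FusionSystem S'} (hE : IsKNormSys F K E) : S' ≤ S := fun g hg => ((hE.mem_S g).mp hg).1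

section

variable (F : FusionSystem S) {Q : Subgroup Ω} {K : Subgroup (MulAut Q)} {S' : Subgroup Ω}
  {E : FusionSystem S'} (hE : IsKNormSys F K E)
include hE

/-- Lemma A: automorphisms in `AF` induced by `S` restrict to automorphisms of `P` induced by `S'`. -/
theorem resAF_mem_autInducedBy {P : Subgroup Ω} (α : AF F K P)
    (h : α.1 ∈ TK S (AF F K P) (P ⊔ Q).subtype) : resAF F K P α ∈ autInducedBy S' P := by
  obtain ⟨-, g, hg, hgα⟩ := h
  obtain ⟨-, -, κα, hκα, hκα'⟩ := α.2.2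
  have hgS' : g ∈ S' := by
    rw [hE.mem_S]
    refine ⟨hg, κα, hκα, fun q => ?_⟩
    rw [← hκα' q]
    exact hgα (Subgroup.inclusion le_sup_right q)
  refine (mem_autInducedBy_iff _).mpr ⟨g, hgS', fun x => ?_⟩
  rw [resAF_apply_coe]
  exact (hgα (Subgroup.inclusion le_sup_left x)).symm

/-- Lemma C: restrictions of elements of `AF` are automorphisms of `E`. -/
theorem resAF_mem_autGroup {P : Subgroup Ω} (hP : P ≤ S') (hQ : Q ≤ S) (α : AF F K P) :
    resAF F K P α ∈ E.autGroup P := by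
  have hRS : P ⊔ Q ≤ S := sup_le (hP.trans (IsKNormSys.le F hE)) hQ
  obtain ⟨-, -, κα, hκα, hκα'⟩ := α.2.2
  have hαF := (mem_autGroup_iff F hRS α.1).mp α.2.1
  rw [mem_autGroup_iff E hP, hE.mem_Hom]
  refine ⟨?_, hP, fun x => hP (Subtype.property _), _, hαF, fun x => rfl, κα, hκα, hκα'⟩
  have : P.subtype.comp (resAF F K P α).toMonoidHom =
      ((P ⊔ Q).subtype.comp α.1.toMonoidHom).comp (Subgroup.inclusion le_sup_left) := by
    ext x; rfl
  rw [this]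
  exact restrict_mem F le_sup_left hαF

/-- Lemma B: automorphisms of `P` induced by `S'` lift to elements of `AF` induced by `S`. -/
theorem exists_resAF_eq_of_mem_autInducedBy {P : Subgroup Ω} (hP : P ≤ S') (hQ : Q ≤ S)
    {β : MulAut P} (hβ : β ∈ autInducedBy S' P) :
    ∃ α : AF F K P, α.1 ∈ TK S (AF F K P) (P ⊔ Q).subtype ∧ resAF F K P α = β := by
  have hS' := IsKNormSys.le F hE
  have hRS : P ⊔ Q ≤ S := sup_le (hP.trans hS') hQ
  obtain ⟨g, hg, hgβ⟩ := (mem_autInducedBy_iff β).mp hβ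
  obtain ⟨hgS, κg, hκg, hκg'⟩ := (hE.mem_S g).mp hg
  have hgP : g ∈ Subgroup.normalizer (P : Set Ω) := mem_normalizer_of_aut β hgβ
  have hgQ : g ∈ Subgroup.normalizer (Q : Set Ω) := mem_normalizer_of_aut κg (fun x => (hκg' x).symm)
  have hgN : g ∈ Subgroup.normalizer ((P ⊔ Q : Subgroup Ω) : Set Ω) := normalizer_sup_mem hgP hgQ
  obtain ⟨α, hαdef⟩ : ∃ α : MulAut ↥(P ⊔ Q), α = Subgroup.normalizerMonoidHom (P ⊔ Q) ⟨g, hgN⟩ :=
    ⟨_, rfl⟩
  have hαv : ∀ x : ↥(P ⊔ Q), ((α x : ↥(P ⊔ Q)) : Ω) = g * x * g⁻¹ := by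
    intro x; rw [hαdef]; exact normalizerMonoidHom_apply_coe (P ⊔ Q) ⟨g, hgN⟩ x
  have hαinv : ∀ x : ↥(P ⊔ Q), ((α⁻¹ x : ↥(P ⊔ Q)) : Ω) = g⁻¹ * x * g := by
    intro x
    have : α⁻¹ = Subgroup.normalizerMonoidHom (P ⊔ Q) (⟨g, hgN⟩⁻¹) := by rw [map_inv, hαdef]
    rw [this]
    have := normalizerMonoidHom_apply_coe (P ⊔ Q) (⟨g, hgN⟩⁻¹) x
    simpa using this
  have hαF : α ∈ F.autGroup (P ⊔ Q) := by
    rw [mem_autGroup_iff F hRS]
    have : (P ⊔ Q).subtype.comp α.toMonoidHom = conjHom (P ⊔ Q) g := by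
      ext x; exact hαv x
    rw [this]
    exact F.conj_mem hRS hgS
  have hαK : α ∈ KP K P (P ⊔ Q) le_sup_right := by
    refine ⟨fun x hx => ?_, fun x hx => ?_, κg, hκg, fun q => ?_⟩
    · rw [hαv]; exact (Subgroup.mem_normalizer_iff.mp hgP _).mp hx
    · rw [hαinv]
      have := (Subgroup.mem_normalizer_iff.mp (Subgroup.inv_mem _ hgP) _).mp hx
      simpa using this
    · rw [hαv]; exact hκg' q
  refine ⟨⟨α, hαF, hαK⟩, ⟨⟨hαF, hαK⟩, g, hgS, fun x => (hαv x).symm⟩, ?_⟩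
  ext x
  rw [resAF_apply_coe, hαv, hgβ]
  rfl

/-- Lemma D: automorphisms of `P` in `E` lift to `AF`. -/
theorem exists_resAF_eq_of_mem_autGroup [Finite S] {P : Subgroup Ω} (hP : P ≤ S') (hQ : Q ≤ S)
    {β : MulAut P} (hβ : β ∈ E.autGroup P) : ∃ α : AF F K P, resAF F K P α = β := by
  have hS' := IsKNormSys.le F hE
  have hRS : P ⊔ Q ≤ S := sup_le (hP.trans hS') hQ
  haveI : Finite ↥(P ⊔ Q) := finite_of_le_finite hRS
  haveI : Finite P := finite_of_le_finite (hP.trans hS')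
  obtain ⟨-, -, -, ψ, hψ, hψP, κ, hκ, hψQ⟩ := (hE.mem_Hom P _).mp ((mem_autGroup_iff E hP β).mp hβ)
  have hψR : ∀ x, ψ x ∈ P ⊔ Q := by
    apply sup_hom_mem
    · intro a ha
      apply (le_sup_left : P ≤ P ⊔ Q)
      have := hψP ⟨a, ha⟩
      have e : Subgroup.inclusion (le_sup_left : P ≤ P ⊔ Q) ⟨a, ha⟩ = ⟨a, le_sup_left (a := P) ha⟩ := rfl
      rw [e] at this
      rw [this]
      exact (β ⟨a, ha⟩).2
    · intro b hb
      apply (le_sup_right : Q ≤ P ⊔ Q)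
      have := hψQ ⟨b, hb⟩
      have e : Subgroup.inclusion (le_sup_right : Q ≤ P ⊔ Q) ⟨b, hb⟩ = ⟨b, le_sup_right (a := P) hb⟩ := rfl
      rw [e] at this
      rw [this]
      exact (κ ⟨b, hb⟩).2
  have hinj : Function.Injective (ψ.codRestrict (P ⊔ Q) hψR) := by
    intro a b hab
    exact F.injective_of_mem hψ (congrArg Subtype.val hab)
  obtain ⟨α, hαdef⟩ : ∃ α : MulAut ↥(P ⊔ Q),
      α = MulEquiv.ofBijective (ψ.codRestrict (P ⊔ Q) hψR) (Finite.injective_iff_bijective.mp hinj) :=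
    ⟨_, rfl⟩
  have hαv : ∀ x : ↥(P ⊔ Q), ((α x : ↥(P ⊔ Q)) : Ω) = ψ x := by
    intro x; rw [hαdef]; rfl
  have hαF : α ∈ F.autGroup (P ⊔ Q) := by
    rw [mem_autGroup_iff F hRS]
    have : (P ⊔ Q).subtype.comp α.toMonoidHom = ψ := by
      ext x; exact hαv x
    rw [this]
    exact hψ
  have hα1 : ∀ x : ↥(P ⊔ Q), (x : Ω) ∈ P → ((α x : ↥(P ⊔ Q)) : Ω) ∈ P := by
    intro x hx
    rw [hαv]
    have := hψP ⟨x, hx⟩
    have e : Subgroup.inclusion (le_sup_left : P ≤ P ⊔ Q) ⟨x, hx⟩ = x := rfl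
    rw [e] at this
    rw [this]
    exact (β ⟨x, hx⟩).2
  have hαK : α ∈ KP K P (P ⊔ Q) le_sup_right :=
    ⟨hα1, inv_stab_of_stab le_sup_left α hα1, κ, hκ, fun q => by rw [hαv]; exact hψQ q⟩
  refine ⟨⟨α, hαF, hαK⟩, ?_⟩
  ext x
  rw [resAF_apply_coe, hαv]
  exact hψP x

section

variable [Finite S] (p : ℕ) [Fact p.Prime]

/-- Step 2a of AKO I.5.5: `P` is fully automized in `N_F^K(Q)`. -/
theorem isFullyAutomized_of_good {P : Subgroup Ω} (hP : P ≤ S') (hQ : Q ≤ S)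
    (hgood : IsKGood F p (AF F K P) (P ⊔ Q).subtype) : E.IsFullyAutomized p P := by
  have hS' := IsKNormSys.le F hE
  have hRS : P ⊔ Q ≤ S := sup_le (hP.trans hS') hQ
  haveI : Finite ↥(P ⊔ Q) := finite_of_le_finite hRS
  obtain ⟨T, hT⟩ := (isSylowIn_iff_exists_sylow hgood.2.2.1).mp hgood.2.2
  have h := isSylowIn_map_range (resAF F K P) T
  rw [isFullyAutomized_iff E p hP]
  have e1 : (T : Subgroup ↥(AF F K P)).map (resAF F K P) = autInducedBy S' P := by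
    ext β
    constructor
    · rintro ⟨α, hα, rfl⟩
      have hα' : α ∈ (T : Subgroup ↥(AF F K P)) := hα
      rw [hT, Subgroup.mem_subgroupOf] at hα'
      exact resAF_mem_autInducedBy F hE α hα'
    · intro hβ
      obtain ⟨α, hα, rfl⟩ := exists_resAF_eq_of_mem_autInducedBy F hE hP hQ hβ
      refine ⟨α, ?_, rfl⟩
      show α ∈ (T : Subgroup ↥(AF F K P))
      rw [hT, Subgroup.mem_subgroupOf]
      exact hα
  have e2 : (resAF F K P).range = E.autGroup P := by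
    ext β
    constructor
    · rintro ⟨α, rfl⟩
      exact resAF_mem_autGroup F hE hP hQ α
    · intro hβ
      obtain ⟨α, rfl⟩ := exists_resAF_eq_of_mem_autGroup F hE hP hQ hβ
      exact ⟨α, rfl⟩
  rwa [e1, e2] at h

end

end

end Cfsg.Agent.Helper25
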