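import Mathlib
import Cfsg.Prelude.Def_FusionSystem
import Cfsg.Agent.Lib.Helper25.KNorm5

set_option autoImplicit false

namespace Cfsg.Agent.Helper25

open Cfsg Cfsg.FusionSystem

theorem mem_map_subtype_comap {G H : Type*} [Group G] [Group H] {A : Subgroup G} (f : A →* H)
    (B : Subgroup H) {a : G} :
    a ∈ (B.comap f).map A.subtype ↔ ∃ h : a ∈ A, f ⟨a, h⟩ ∈ B := by
  constructor
  · rintro ⟨x, hx, rfl⟩
    exact ⟨x.2, hx⟩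
  · rintro ⟨h, hf⟩
    exact ⟨⟨a, h⟩, hf, rfl⟩

variable {Ω : Type*} [Group Ω] {S : Subgroup Ω}

section

variable [Finite S] (p : ℕ) [Fact p.Prime] (hS : IsPGroup p S) (F : FusionSystem S)
  (hF : F.IsSaturated p) {Q : Subgroup Ω} {K : Subgroup (MulAut Q)} {S' : Subgroup Ω}
  {E : FusionSystem S'} (hE : IsKNormSys F K E)
include hS hF hE

set_option maxHeartbeats 1600000 in
/-- Step 2b of AKO I.5.5: `P` is receptive in `N_F^K(Q)`. -/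
theorem isReceptive_of_good {P : Subgroup Ω} (hP : P ≤ S') (hQ : Q ≤ S)
    (hgood : IsKGood F p (AF F K P) (P ⊔ Q).subtype) : E.IsReceptive P := by
  have hS' := IsKNormSys.le F hE
  have hPS : P ≤ S := hP.trans hS'
  have hRS : P ⊔ Q ≤ S := sup_le hPS hQ
  haveI : Finite ↥(P ⊔ Q) := finite_of_le_finite hRS
  haveI : Finite P := finite_of_le_finite hPS
  refine ⟨hP, fun P₀ φ hφE hrange => ?_⟩
  obtain ⟨hφF, hP₀, hφS', φb, hφb, hφbP, κ₀, hκ₀, hφbQ⟩ := (hE.mem_Hom P₀ φ).mp hφE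
  have hR₀S : P₀ ⊔ Q ≤ S := sup_le (hP₀.trans hS') hQ
  have hφP : ∀ x : P₀, φ x ∈ P := fun x => hrange ▸ ⟨x, rfl⟩
  have hφbrange : φb.range = P ⊔ Q := by
    apply le_antisymm
    · rintro _ ⟨x, rfl⟩
      revert x
      apply sup_hom_mem
      · intro a ha
        have := hφbP ⟨a, ha⟩
        have e : Subgroup.inclusion (le_sup_left : P₀ ≤ P₀ ⊔ Q) ⟨a, ha⟩ = ⟨a, le_sup_left (a := P₀) ha⟩ := rfl
        rw [e] at this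
        rw [this]
        exact le_sup_left (a := P) (hφP _)
      · intro b hb
        have := hφbQ ⟨b, hb⟩
        have e : Subgroup.inclusion (le_sup_right : Q ≤ P₀ ⊔ Q) ⟨b, hb⟩ = ⟨b, le_sup_right (a := P₀) hb⟩ := rfl
        rw [e] at this
        rw [this]
        exact le_sup_right (a := P) (κ₀ ⟨b, hb⟩).2
    · refine sup_le ?_ ?_
      · intro y hy
        rw [← hrange] at hy
        obtain ⟨x, rfl⟩ := hy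
        exact ⟨Subgroup.inclusion le_sup_left x, hφbP x⟩
      · intro q hq
        refine ⟨Subgroup.inclusion le_sup_right (κ₀⁻¹ ⟨q, hq⟩), ?_⟩
        rw [hφbQ]
        simp
  obtain ⟨ψ₀, hψ₀, hψ₀inv, hψ₀range⟩ := exists_inv F hφb hφbrange
  have hφbR : ∀ x, φb x ∈ P ⊔ Q := fun x => hφbrange ▸ ⟨x, rfl⟩
  have hψ₀R₀ : ∀ x, ψ₀ x ∈ P₀ ⊔ Q := fun x => hψ₀range ▸ ⟨x, rfl⟩
  -- `ψ₀` on `P` and on `Q`
  have hψ₀P : ∀ (x₀ : P₀) (hx : φ x₀ ∈ P ⊔ Q), ψ₀ ⟨φ x₀, hx⟩ = x₀ := by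
    intro x₀ hx
    have := hψ₀inv (Subgroup.inclusion le_sup_left x₀) (hφbR _)
    have e : (⟨φb (Subgroup.inclusion le_sup_left x₀), hφbR _⟩ : ↥(P ⊔ Q)) = ⟨φ x₀, hx⟩ :=
      Subtype.ext (hφbP x₀)
    rw [e] at this
    exact this
  have hψ₀Q : ∀ q : Q, ψ₀ (Subgroup.inclusion le_sup_right q) = ((κ₀⁻¹ q : Q) : Ω) := by
    intro q
    have := hψ₀inv (Subgroup.inclusion le_sup_right (κ₀⁻¹ q)) (hφbR _)
    have e : (⟨φb (Subgroup.inclusion le_sup_right (κ₀⁻¹ q)), hφbR _⟩ : ↥(P ⊔ Q)) =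
        Subgroup.inclusion le_sup_right q := by
      apply Subtype.ext
      show φb (Subgroup.inclusion le_sup_right (κ₀⁻¹ q)) = q
      rw [hφbQ]; simp
    rw [e] at this
    exact this
  -- the group `M`
  obtain ⟨M, hMdef⟩ : ∃ M : Subgroup (MulAut ↥(P ⊔ Q)),
      M = ((autInducedBy S' P).comap (resAF F K P)).map (AF F K P).subtype := ⟨_, rfl⟩
  have mem_M : ∀ α : MulAut ↥(P ⊔ Q), α ∈ M ↔
      ∃ h : α ∈ AF F K P, resAF F K P ⟨α, h⟩ ∈ autInducedBy S' P := by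
    intro α; rw [hMdef]; exact mem_map_subtype_comap _ _
  have hM_le : M ≤ AF F K P := fun α hα => ((mem_M α).mp hα).1
  have hAS_le : TK S (AF F K P) (P ⊔ Q).subtype ≤ M := fun α hα =>
    (mem_M α).mpr ⟨hα.1, resAF_mem_autInducedBy F hE ⟨α, hα.1⟩ hα⟩
  have hTK_eq : TK S M (P ⊔ Q).subtype = TK S (AF F K P) (P ⊔ Q).subtype :=
    le_antisymm (TK_mono hM_le _) (fun α hα => ⟨hAS_le hα, hα.2⟩)
  have hgoodM : IsKGood F p M (P ⊔ Q).subtype :=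
    ⟨hgood.1, hgood.2.1, by rw [hTK_eq]; exact hgood.2.2.of_le hAS_le hM_le⟩
  obtain ⟨χ, hχM, θ, hθ, hθv⟩ := exists_extension_of_good p hS F hF
    (hM_le.trans inf_le_left) hgoodM hψ₀
  obtain ⟨hχA, hχind⟩ := (mem_M χ).mp hχM
  obtain ⟨s, hs, hsχ⟩ := (mem_autInducedBy_iff _).mp hχind
  obtain ⟨-, -, κχ, hκχ, hκχ'⟩ := hχA.2
  obtain ⟨hsS, κs, hκs, hκs'⟩ := (hE.mem_S s).mp hs
  -- the extender of `φ` lies in `NK S M ψ₀`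
  have hN : extender S' P₀ φ ≤ NK S M ψ₀ := by
    intro g hg
    obtain ⟨hgS', hgN, h, hh, hgh⟩ := (mem_extender_iff φ g).mp hg
    obtain ⟨hgS, κg, hκg, hκg'⟩ := (hE.mem_S g).mp hgS'
    have hgQ : g ∈ Subgroup.normalizer (Q : Set Ω) :=
      mem_normalizer_of_aut κg (fun x => (hκg' x).symm)
    have hgR₀ : g ∈ Subgroup.normalizer ((P₀ ⊔ Q : Subgroup Ω) : Set Ω) := normalizer_sup_mem hgN hgQ
    have hcF : (conjHom (P₀ ⊔ Q) g).comp (ψ₀.codRestrict (P₀ ⊔ Q) hψ₀R₀) ∈ F.Hom (P ⊔ Q) :=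
      F.comp_mem hψ₀ (F.conj_mem hR₀S hgS) hψ₀R₀
    have hcR₀ : ∀ x : ↥(P ⊔ Q), g * ψ₀ x * g⁻¹ ∈ P₀ ⊔ Q := fun x =>
      (Subgroup.mem_normalizer_iff.mp hgR₀ _).mp (hψ₀R₀ x)
    have hα₀F : φb.comp (((conjHom (P₀ ⊔ Q) g).comp (ψ₀.codRestrict (P₀ ⊔ Q) hψ₀R₀)).codRestrict
        (P₀ ⊔ Q) hcR₀) ∈ F.Hom (P ⊔ Q) := F.comp_mem hcF hφb hcR₀
    obtain ⟨α₀, hα₀def⟩ : ∃ α₀ : ↥(P ⊔ Q) →* Ω, α₀ = φb.comp (((conjHom (P₀ ⊔ Q) g).comp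
        (ψ₀.codRestrict (P₀ ⊔ Q) hψ₀R₀)).codRestrict (P₀ ⊔ Q) hcR₀) := ⟨_, rfl⟩
    rw [← hα₀def] at hα₀F
    have hα₀v : ∀ x, α₀ x = φb ⟨g * ψ₀ x * g⁻¹, hcR₀ x⟩ := fun x => by rw [hα₀def]; rfl
    have hα₀R : ∀ x, α₀ x ∈ P ⊔ Q := fun x => by rw [hα₀v]; exact hφbR _
    have hinj : Function.Injective (α₀.codRestrict (P ⊔ Q) hα₀R) := by
      intro a b hab
      exact F.injective_of_mem hα₀F (Subtype.ext_iff.mp hab)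
    obtain ⟨α, hαdef⟩ : ∃ α : MulAut ↥(P ⊔ Q),
        α = MulEquiv.ofBijective (α₀.codRestrict (P ⊔ Q) hα₀R)
          (Finite.injective_iff_bijective.mp hinj) := ⟨_, rfl⟩
    have hαv : ∀ x : ↥(P ⊔ Q), ((α x : ↥(P ⊔ Q)) : Ω) = φb ⟨g * ψ₀ x * g⁻¹, hcR₀ x⟩ := by
      intro x; rw [hαdef, ← hα₀v]; rfl
    have hkey : ∀ x, ψ₀ (α x) = g * ψ₀ x * g⁻¹ := by
      intro x
      have e : α x = ⟨φb ⟨g * ψ₀ x * g⁻¹, hcR₀ x⟩, hφbR _⟩ := Subtype.ext (hαv x)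
      rw [e]
      exact hψ₀inv _ _
    have hαP : ∀ (x₀ : P₀) (hx : φ x₀ ∈ P ⊔ Q) (hgx : g * (x₀ : Ω) * g⁻¹ ∈ P₀),
        ((α ⟨φ x₀, hx⟩ : ↥(P ⊔ Q)) : Ω) = φ ⟨g * x₀ * g⁻¹, hgx⟩ := by
      intro x₀ hx hgx
      rw [hαv]
      have e1 : (⟨g * ψ₀ ⟨φ x₀, hx⟩ * g⁻¹, hcR₀ _⟩ : ↥(P₀ ⊔ Q)) =
          Subgroup.inclusion le_sup_left ⟨g * x₀ * g⁻¹, hgx⟩ := by
        apply Subtype.ext
        show g * ψ₀ ⟨φ x₀, hx⟩ * g⁻¹ = g * x₀ * g⁻¹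
        rw [hψ₀P]
      rw [e1, hφbP]
    have hαF : α ∈ F.autGroup (P ⊔ Q) := by
      rw [mem_autGroup_iff F hRS]
      have : (P ⊔ Q).subtype.comp α.toMonoidHom = α₀ := by
        ext x
        show ((α x : ↥(P ⊔ Q)) : Ω) = α₀ x
        rw [hαv, hα₀v]
      rw [this]
      exact hα₀F
    have hα1 : ∀ y : ↥(P ⊔ Q), (y : Ω) ∈ P → ((α y : ↥(P ⊔ Q)) : Ω) ∈ P := by
      intro y hy
      have hy' : (y : Ω) ∈ φ.range := by rw [hrange]; exact hy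
      obtain ⟨x₀, hx₀⟩ := hy'
      have ey : y = ⟨φ x₀, le_sup_left (a := P) (hφP x₀)⟩ := Subtype.ext hx₀.symm
      have hgx : g * (x₀ : Ω) * g⁻¹ ∈ P₀ := (Subgroup.mem_normalizer_iff.mp hgN _).mp x₀.2
      rw [ey, hαP x₀ _ hgx]
      exact hφP _
    have hαK : α ∈ KP K P (P ⊔ Q) le_sup_right := by
      refine ⟨hα1, inv_stab_of_stab le_sup_left α hα1, κ₀ * κg * κ₀⁻¹,
        K.mul_mem (K.mul_mem hκ₀ hκg) (K.inv_mem hκ₀), fun q => ?_⟩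
      rw [hαv]
      have e1 : (⟨g * ψ₀ (Subgroup.inclusion le_sup_right q) * g⁻¹, hcR₀ _⟩ : ↥(P₀ ⊔ Q)) =
          Subgroup.inclusion le_sup_right (κg (κ₀⁻¹ q)) := by
        apply Subtype.ext
        show g * ψ₀ (Subgroup.inclusion le_sup_right q) * g⁻¹ = κg (κ₀⁻¹ q)
        rw [hψ₀Q, hκg']
      rw [e1, hφbQ]
      rfl
    have hαA : α ∈ AF F K P := ⟨hαF, hαK⟩
    have hαM : α ∈ M := by
      rw [mem_M]
      refine ⟨hαA, (mem_autInducedBy_iff _).mpr ⟨h, hh, fun y => ?_⟩⟩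
      rw [resAF_apply_coe]
      obtain ⟨x₀, hx₀⟩ : (y : Ω) ∈ φ.range := by rw [hrange]; exact y.2
      have hgx : g * (x₀ : Ω) * g⁻¹ ∈ P₀ := (Subgroup.mem_normalizer_iff.mp hgN _).mp x₀.2
      have ey : Subgroup.inclusion (le_sup_left : P ≤ P ⊔ Q) y =
          ⟨φ x₀, le_sup_left (a := P) (hφP x₀)⟩ := Subtype.ext hx₀.symm
      rw [ey, hαP x₀ _ hgx, hgh x₀ hgx, hx₀]
    exact ⟨hgS, α, hαM, fun x => (hkey x).symm⟩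
  -- the extension
  have hND : extender S' P₀ φ ≤ NK S M ψ₀ ⊔ ψ₀.range := hN.trans le_sup_left
  have hR₀D : P₀ ⊔ Q ≤ NK S M ψ₀ ⊔ ψ₀.range := by rw [hψ₀range]; exact le_sup_right
  have hθR₀ : ∀ z : ↥(P₀ ⊔ Q), θ ⟨z, hR₀D z.2⟩ = ((χ ⟨φb z, hφbR z⟩ : ↥(P ⊔ Q)) : Ω) := by
    intro z
    have h1 : ψ₀ ⟨φb z, hφbR z⟩ ∈ NK S M ψ₀ ⊔ ψ₀.range := by
      rw [hψ₀inv]; exact hR₀D z.2
    have := hθv ⟨φb z, hφbR z⟩ h1
    have e : (⟨ψ₀ ⟨φb z, hφbR z⟩, h1⟩ : ↥(NK S M ψ₀ ⊔ ψ₀.range)) = ⟨z, hR₀D z.2⟩ :=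
      Subtype.ext (hψ₀inv z _)
    rw [e] at this
    exact this
  have hθ'F : (MulAut.conj s⁻¹).toMonoidHom.comp θ ∈ F.Hom (NK S M ψ₀ ⊔ ψ₀.range) :=
    comp_mem' F hθ (F.conj_mem (range_le F hθ) (S.inv_mem hsS)) (fun x => ⟨x, rfl⟩) (fun x => rfl)
  obtain ⟨θ', hθ'def⟩ : ∃ θ' : ↥(NK S M ψ₀ ⊔ ψ₀.range) →* Ω,
      θ' = (MulAut.conj s⁻¹).toMonoidHom.comp θ := ⟨_, rfl⟩
  rw [← hθ'def] at hθ'F
  have hθ'v : ∀ x, θ' x = s⁻¹ * θ x * s := by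
    intro x; rw [hθ'def]; simp [MulAut.conj_apply]
  have hθ'S := (F.le_of_mem hθ'F).2
  -- `θ'` on `P₀`
  have hθ'P : ∀ (x₀ : P₀), θ' ⟨x₀, hR₀D (le_sup_left (a := P₀) x₀.2)⟩ = φ x₀ := by
    intro x₀
    rw [hθ'v]
    have := hθR₀ (Subgroup.inclusion le_sup_left x₀)
    have e : (⟨((Subgroup.inclusion (le_sup_left : P₀ ≤ P₀ ⊔ Q) x₀ : ↥(P₀ ⊔ Q)) : Ω),
        hR₀D (Subgroup.inclusion (le_sup_left : P₀ ≤ P₀ ⊔ Q) x₀).2⟩ : ↥(NK S M ψ₀ ⊔ ψ₀.range)) =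
        ⟨x₀, hR₀D (le_sup_left (a := P₀) x₀.2)⟩ := rfl
    rw [e] at this
    rw [this]
    have e2 : (⟨φb (Subgroup.inclusion le_sup_left x₀), hφbR _⟩ : ↥(P ⊔ Q)) =
        Subgroup.inclusion le_sup_left ⟨φ x₀, hφP x₀⟩ := Subtype.ext (hφbP x₀)
    rw [e2]
    have h3 := hsχ ⟨φ x₀, hφP x₀⟩
    rw [resAF_apply_coe] at h3
    rw [h3]
    show s⁻¹ * (s * φ x₀ * s⁻¹) * s = φ x₀
    group
  -- `θ'` on `Q`
  have hsinv : ∀ y : Q, s⁻¹ * (y : Ω) * s = ((κs⁻¹ y : Q) : Ω) := by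
    intro y
    have := hκs' (κs⁻¹ y)
    rw [MulAut.apply_inv_self] at this
    rw [← this]
    group
  have hθ'Q : ∀ q : Q, θ' ⟨q, hR₀D (le_sup_right (a := P₀) q.2)⟩ = ((κs⁻¹ * κχ * κ₀) q : Q) := by
    intro q
    rw [hθ'v]
    have := hθR₀ (Subgroup.inclusion le_sup_right q)
    have e : (⟨((Subgroup.inclusion (le_sup_right : Q ≤ P₀ ⊔ Q) q : ↥(P₀ ⊔ Q)) : Ω),
        hR₀D (Subgroup.inclusion (le_sup_right : Q ≤ P₀ ⊔ Q) q).2⟩ : ↥(NK S M ψ₀ ⊔ ψ₀.range)) =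
        ⟨q, hR₀D (le_sup_right (a := P₀) q.2)⟩ := rfl
    rw [e] at this
    rw [this]
    have e2 : (⟨φb (Subgroup.inclusion le_sup_right q), hφbR _⟩ : ↥(P ⊔ Q)) =
        Subgroup.inclusion le_sup_right (κ₀ q) := Subtype.ext (hφbQ q)
    rw [e2, hκχ', hsinv]
    rfl
  have hlam : κs⁻¹ * κχ * κ₀ ∈ K := K.mul_mem (K.mul_mem (K.inv_mem hκs) hκχ) hκ₀
  have hNQD : extender S' P₀ φ ⊔ Q ≤ NK S M ψ₀ ⊔ ψ₀.range :=
    sup_le hND (le_sup_right.trans hR₀D)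
  refine ⟨θ'.comp (Subgroup.inclusion hND), ?_, fun x hxP hxN => ?_⟩
  · rw [hE.mem_Hom]
    refine ⟨restrict_mem F hND hθ'F, extender_le S' φ, fun g => ?_,
      θ'.comp (Subgroup.inclusion hNQD), restrict_mem F hNQD hθ'F, fun x => rfl,
      κs⁻¹ * κχ * κ₀, hlam, fun q => hθ'Q q⟩
    obtain ⟨-, κg, hκg, hκg'⟩ := (hE.mem_S g).mp (extender_le S' φ g.2)
    rw [hE.mem_S]
    refine ⟨hθ'S _, (κs⁻¹ * κχ * κ₀) * κg * (κs⁻¹ * κχ * κ₀)⁻¹,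
      K.mul_mem (K.mul_mem hlam hκg) (K.inv_mem hlam), fun q => ?_⟩
    show θ' ⟨g, hND g.2⟩ * (q : Ω) * (θ' ⟨g, hND g.2⟩)⁻¹ =
      ((κs⁻¹ * κχ * κ₀) (κg ((κs⁻¹ * κχ * κ₀)⁻¹ q)) : Q)
    rw [← hθ'Q, ← map_inv]
    have hq : (q : Ω) = θ' ⟨((κs⁻¹ * κχ * κ₀)⁻¹ q : Q),
        hR₀D (le_sup_right (a := P₀) ((κs⁻¹ * κχ * κ₀)⁻¹ q).2)⟩ := by
      rw [hθ'Q]; simp
    conv_lhs => rw [hq]
    rw [← map_mul, ← map_mul]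
    congr 1
    apply Subtype.ext
    exact hκg' _
  · exact hθ'P ⟨x, hxP⟩

end

end Cfsg.Agent.Helper25
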