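import Mathlib
import Cfsg.Prelude.Def_FusionSystem
import Cfsg.Agent.Lib.Helper25.KNorm6

set_option autoImplicit false

namespace Cfsg.Agent.Helper25

open Cfsg Cfsg.FusionSystem

variable {Ω : Type*} [Group Ω] {S : Subgroup Ω}

section

variable [Finite S] (p : ℕ) [Fact p.Prime] (hS : IsPGroup p S) (F : FusionSystem S)
  (hF : F.IsSaturated p)
include hS hF

/-- AKO Theorem I.5.5: the `K`-normalizer system `N_F^K(Q)` of a fully `K`-normalized subgroup is
saturated. -/
theorem isSaturated_of_isKNormSys {Q : Subgroup Ω} (hQ : Q ≤ S) {K : Subgroup (MulAut Q)}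
    (hgood : IsKGood F p (F.autGroup Q ⊓ K) Q.subtype) {S' : Subgroup Ω} {E : FusionSystem S'}
    (hE : IsKNormSys F K E) : E.IsSaturated p := by
  intro P hP
  obtain ⟨P', R', hQR', hconj, hR', hg⟩ := exists_conj_good p hS F hF hQ hgood hE hP
  subst hR'
  have hP' : P' ≤ S' := isConj_le_right E hconj
  exact ⟨P', hconj, isFullyAutomized_of_good F hE p hP' hQ hg,
    isReceptive_of_good p hS F hF hE hP' hQ hg⟩

/-- The normalizer system of a fully normalized subgroup is saturated. -/
theorem normalizerSystem_isSaturated {Q : Subgroup Ω} (hQ : F.IsFullyNormalized Q)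
    (E : FusionSystem (normalizerIn S Q)) (hE : F.IsNormalizerSystem Q E) : E.IsSaturated p := by
  have hQS : Q ≤ S := hQ.1
  haveI : Finite Q := finite_of_le_finite hQS
  obtain ⟨hfc, hfa, -⟩ := of_fullyNormalized p hS F hF hQ
  refine isSaturated_of_isKNormSys p hS F hF hQS (K := ⊤) ?_ ?_
  · refine ⟨subtype_mem F hQS, ?_, ?_⟩
    · rw [Subgroup.range_subtype]; exact hfc
    · rw [inf_top_eq]
      have e : TK S (F.autGroup Q) Q.subtype = autInducedBy S Q := by
        ext α
        constructor
        · rintro ⟨-, g, hg, h⟩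
          exact (mem_autInducedBy_iff α).mpr ⟨g, hg, fun x => (h x).symm⟩
        · intro hα
          obtain ⟨g, hg, h⟩ := (mem_autInducedBy_iff α).mp hα
          exact ⟨autInducedBy_le_autGroup F hQS hα, g, hg, fun x => (h x).symm⟩
      rw [e]
      exact (isFullyAutomized_iff F p hQS).mp hfa
  · constructor
    · intro g
      rw [mem_normalizerIn]
      constructor
      · rintro ⟨hg, hgN⟩
        refine ⟨hg, Subgroup.normalizerMonoidHom Q ⟨g, hgN⟩, Subgroup.mem_top _, fun x => ?_⟩
        exact (normalizerMonoidHom_apply_coe Q ⟨g, hgN⟩ x).symm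
      · rintro ⟨hg, κ, -, h⟩
        exact ⟨hg, mem_normalizer_of_aut κ (fun x => (h x).symm)⟩
    · intro P φ
      rw [hE P]
      unfold FusionSystem.normalizerHom
      simp only [Set.mem_setOf_eq]
      constructor
      · rintro ⟨h1, h2, h3, ψ, hψ, h4, h5⟩
        refine ⟨h1, h2, h3, ψ, hψ, h4, ?_⟩
        have hmem : ∀ x : Q, (ψ.comp (Subgroup.inclusion (le_sup_right : Q ≤ P ⊔ Q))) x ∈ Q := by
          intro x
          have h0 : (ψ.comp (Subgroup.inclusion (le_sup_right : Q ≤ P ⊔ Q))) x ∈
              (Q.subgroupOf (P ⊔ Q)).map ψ :=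
            ⟨Subgroup.inclusion le_sup_right x, Subgroup.mem_subgroupOf.mpr x.2, rfl⟩
          exact h5.le h0
        have hinj : Function.Injective
            ((ψ.comp (Subgroup.inclusion (le_sup_right : Q ≤ P ⊔ Q))).codRestrict Q hmem) := by
          intro a b hab
          have h0 := Subtype.ext_iff.mp hab
          have h6 := F.injective_of_mem hψ h0
          exact Subgroup.inclusion_injective _ h6
        refine ⟨MulEquiv.ofBijective _ (Finite.injective_iff_bijective.mp hinj),
          Subgroup.mem_top _, fun x => rfl⟩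
      · rintro ⟨h1, h2, h3, ψ, hψ, h4, κ, -, h5⟩
        refine ⟨h1, h2, h3, ψ, hψ, h4, ?_⟩
        ext y
        rw [mem_map_subgroupOf]
        constructor
        · rintro ⟨x, hx, hxQ, rfl⟩
          have := h5 ⟨x, hxQ⟩
          have e : Subgroup.inclusion (le_sup_right : Q ≤ P ⊔ Q) ⟨x, hxQ⟩ = ⟨x, hx⟩ := rfl
          rw [e] at this
          rw [this]
          exact (κ ⟨x, hxQ⟩).2
        · intro hy
          refine ⟨((κ⁻¹ ⟨y, hy⟩ : Q) : Ω), le_sup_right (a := P) (κ⁻¹ ⟨y, hy⟩).2,
            (κ⁻¹ ⟨y, hy⟩).2, ?_⟩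
          have := h5 (κ⁻¹ ⟨y, hy⟩)
          rw [MulAut.apply_inv_self] at this
          exact this

/-- The centralizer system of a fully centralized subgroup is saturated. -/
theorem centralizerSystem_isSaturated {Q : Subgroup Ω} (hQ : F.IsFullyCentralized Q)
    (E : FusionSystem (centralizerIn S Q)) (hE : F.IsCentralizerSystem Q E) : E.IsSaturated p := by
  have hQS : Q ≤ S := hQ.1
  refine isSaturated_of_isKNormSys p hS F hF hQS (K := ⊥) ?_ ?_
  · refine ⟨subtype_mem F hQS, ?_, ?_⟩
    · rw [Subgroup.range_subtype]; exact hQ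
    · rw [inf_bot_eq]
      have e : TK S (⊥ : Subgroup (MulAut Q)) Q.subtype = ⊥ := le_bot_iff.mp (TK_le _ _)
      rw [e]
      exact ⟨le_refl _, IsPGroup.of_bot, fun L hL _ _ => le_bot_iff.mp hL⟩
  · constructor
    · intro g
      rw [mem_centralizerIn]
      constructor
      · rintro ⟨hg, hc⟩
        refine ⟨hg, 1, Subgroup.one_mem _, fun x => ?_⟩
        show g * (x : Ω) * g⁻¹ = x
        rw [← hc x x.2, mul_inv_cancel_right]
      · rintro ⟨hg, κ, hκ, h⟩
        rw [Subgroup.mem_bot] at hκ
        subst hκ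
        refine ⟨hg, fun x hx => ?_⟩
        have := h ⟨x, hx⟩
        have h2 : g * x * g⁻¹ = x := this
        calc x * g = (g * x * g⁻¹) * g := by rw [h2]
          _ = g * x := by group
    · intro P φ
      rw [hE P]
      unfold FusionSystem.centralizerHom
      simp only [Set.mem_setOf_eq]
      constructor
      · rintro ⟨h1, h2, h3, ψ, hψ, h4, h5⟩
        exact ⟨h1, h2, h3, ψ, hψ, h4, 1, Subgroup.one_mem _, h5⟩
      · rintro ⟨h1, h2, h3, ψ, hψ, h4, κ, hκ, h5⟩
        rw [Subgroup.mem_bot] at hκ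
        subst hκ
        exact ⟨h1, h2, h3, ψ, hψ, h4, h5⟩

end

end Cfsg.Agent.Helper25
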