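import Mathlib
import Cfsg.Prelude.Def_FusionSystem
import Cfsg.Agent.Lib.Helper25.FusionInduction3
import Cfsg.Agent.Lib.Helper25.KNorm7

set_option autoImplicit false

/-!
Invariant subsystems: the invariance condition of Aschbacher is equivalent to strong invariance
(AKO Proposition I.6.4).
-/

namespace Cfsg.Agent.Helper25

open Cfsg Cfsg.FusionSystem

variable {Ω : Type*} [Group Ω] {S : Subgroup Ω}

/-- The strong invariance condition. -/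
def StrongInv (F : FusionSystem S) {T : Subgroup Ω} (E : FusionSystem T) : Prop :=
  ∀ (P Q : Subgroup Ω) (hPQ : P ≤ Q) (_ : Q ≤ T) (φ : P →* Ω) (_ : φ ∈ E.Hom P)
    (hφQ : ∀ x : P, φ x ∈ Q) (ψ : Q →* Ω) (_ : ψ ∈ F.Hom Q),
    ∃ χ ∈ E.Hom ((P.subgroupOf Q).map ψ),
      ∀ (x : P) (hx : ψ (Subgroup.inclusion hPQ x) ∈ (P.subgroupOf Q).map ψ),
        χ ⟨ψ (Subgroup.inclusion hPQ x), hx⟩ = ψ ⟨φ x, hφQ x⟩

theorem hom_congr_val {A : Subgroup Ω} (χ : A →* Ω) {a b : Ω} (ha : a ∈ A) (hb : b ∈ A)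
    (h : a = b) : χ ⟨a, ha⟩ = χ ⟨b, hb⟩ := by
  subst h; rfl

theorem mem_map_aut {T P : Subgroup Ω} (hPT : P ≤ T) (α : MulAut T) (x : P) :
    ((α ⟨x, hPT x.2⟩ : T) : Ω) ∈ (P.subgroupOf T).map (T.subtype.comp α.toMonoidHom) :=
  ⟨⟨x, hPT x.2⟩, Subgroup.mem_subgroupOf.mpr x.2, rfl⟩

section

variable (F : FusionSystem S) {T : Subgroup Ω} (E : FusionSystem T)

/-- Strong invariance, specialized to automorphisms of `T`. -/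
theorem StrongInv.conj {F : FusionSystem S} {T : Subgroup Ω} {E : FusionSystem T}
    (hSI : StrongInv F E) (hTS : T ≤ S) {α : MulAut T} (hα : α ∈ F.autGroup T)
    {P : Subgroup Ω} (hPT : P ≤ T) {φ : P →* Ω} (hφ : φ ∈ E.Hom P) :
    ∃ χ ∈ E.Hom ((P.subgroupOf T).map (T.subtype.comp α.toMonoidHom)),
      ∀ x : P, χ ⟨((α ⟨x, hPT x.2⟩ : T) : Ω), mem_map_aut hPT α x⟩ =
        ((α ⟨φ x, (E.le_of_mem hφ).2 x⟩ : T) : Ω) := by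
  obtain ⟨χ, hχ, hχv⟩ := hSI P T hPT le_rfl φ hφ (E.le_of_mem hφ).2 _
    ((mem_autGroup_iff F hTS α).mp hα)
  exact ⟨χ, hχ, fun x => hχv x (mem_map_aut hPT α x)⟩

/-- Invariance under `Aut_F(T)`, in the form delivered by `StrongInv.conj`. -/
def AutInv (F : FusionSystem S) {T : Subgroup Ω} (E : FusionSystem T) : Prop :=
  ∀ {α : MulAut T} (_ : α ∈ F.autGroup T) {P : Subgroup Ω} (hPT : P ≤ T) {φ : P →* Ω}
    (hφ : φ ∈ E.Hom P),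
    ∃ χ ∈ E.Hom ((P.subgroupOf T).map (T.subtype.comp α.toMonoidHom)),
      ∀ x : P, χ ⟨((α ⟨x, hPT x.2⟩ : T) : Ω), mem_map_aut hPT α x⟩ =
        ((α ⟨φ x, (E.le_of_mem hφ).2 x⟩ : T) : Ω)

theorem StrongInv.autInv {F : FusionSystem S} {T : Subgroup Ω} {E : FusionSystem T}
    (hSI : StrongInv F E) (hTS : T ≤ S) : AutInv F E :=
  fun hα _ hPT _ hφ => hSI.conj hTS hα hPT hφ

/-- The predicate used for the Frattini condition: the restriction of `φ` to `P ∩ T` is an automorphism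
of `T` in `F` composed with a map of `E`. -/
def FrattiniPr (P : Subgroup Ω) (φ : P →* Ω) : Prop :=
  ∃ α ∈ F.autGroup T, ∃ φ₀ : ↥(P ⊓ T) →* Ω, ∃ h : φ₀ ∈ E.Hom (P ⊓ T),
    ∀ x : ↥(P ⊓ T), φ ⟨x, x.2.1⟩ = ((α ⟨φ₀ x, (E.le_of_mem h).2 x⟩ : T) : Ω)

variable {F E}

theorem mem_normalizer_of_stronglyClosed (hT : F.StronglyClosed T) {g : Ω} (hg : g ∈ S) :
    g ∈ Subgroup.normalizer (T : Set Ω) :=
  mem_normalizer_of_forall (fun _ hy => conj_mem_of_stronglyClosed F hT hg hy)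
    (fun _ hy => conj_mem_of_stronglyClosed' F hT hg hy)

/-- conjugations satisfy the Frattini predicate -/
theorem frattiniPr_conj (hT : F.StronglyClosed T) {P : Subgroup Ω} {g : Ω} (hP : P ≤ S)
    (hg : g ∈ S) : FrattiniPr F E P (conjHom P g) := by
  have hgN := mem_normalizer_of_stronglyClosed hT hg
  refine ⟨Subgroup.normalizerMonoidHom T ⟨g, hgN⟩, ?_, (P ⊓ T).subtype, subtype_mem E inf_le_right,
    fun x => ?_⟩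
  · apply autInducedBy_le_autGroup F hT.1
    exact (mem_autInducedBy_iff _).mpr ⟨g, hg, fun x => normalizerMonoidHom_apply_coe T ⟨g, hgN⟩ x⟩
  · rw [normalizerMonoidHom_apply_coe]
    rfl

/-- the Frattini predicate is stable under composition -/
theorem frattiniPr_comp (hAI : AutInv F E) (hT : F.StronglyClosed T) {P Q : Subgroup Ω}
    {φ : P →* Ω} {ψ : Q →* Ω} (hφ : φ ∈ F.Hom P) (hψ : ψ ∈ F.Hom Q) (h1 : FrattiniPr F E P φ)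
    (h2 : FrattiniPr F E Q ψ) (h : ∀ x : P, φ x ∈ Q) :
    FrattiniPr F E P (ψ.comp (φ.codRestrict Q h)) := by
  obtain ⟨α₁, hα₁, φ₁, hφ₁, hφ₁v⟩ := h1
  obtain ⟨α₂, hα₂, ψ₂, hψ₂, hψ₂v⟩ := h2
  have hTS : T ≤ S := hT.1
  have hφ₁T := (E.le_of_mem hφ₁).2
  have hψ₂T := (E.le_of_mem hψ₂).2
  obtain ⟨χ, hχ, hχv⟩ := hAI (Subgroup.inv_mem _ hα₁) (inf_le_right : Q ⊓ T ≤ T) hψ₂
  -- `φ` maps `P ∩ T` into `Q ∩ T`
  have hφQT : ∀ x : ↥(P ⊓ T), φ ⟨x, x.2.1⟩ ∈ Q ⊓ T := by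
    intro x
    refine ⟨h _, ?_⟩
    rw [hφ₁v]
    exact Subtype.property _
  have hφ₁eq : ∀ x : ↥(P ⊓ T), φ₁ x = ((α₁⁻¹ ⟨φ ⟨x, x.2.1⟩, (hφQT x).2⟩ : T) : Ω) := by
    intro x
    have e : (⟨φ ⟨x, x.2.1⟩, (hφQT x).2⟩ : T) = α₁ ⟨φ₁ x, hφ₁T x⟩ := Subtype.ext (hφ₁v x)
    rw [e]
    simp
  have hmem : ∀ x : ↥(P ⊓ T), φ₁ x ∈
      ((Q ⊓ T).subgroupOf T).map (T.subtype.comp (α₁⁻¹ : MulAut T).toMonoidHom) := by
    intro x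
    rw [hφ₁eq]
    exact mem_map_aut (inf_le_right : Q ⊓ T ≤ T) α₁⁻¹ ⟨φ ⟨x, x.2.1⟩, hφQT x⟩
  refine ⟨α₂ * α₁, Subgroup.mul_mem _ hα₂ hα₁, χ.comp (φ₁.codRestrict _ hmem),
    E.comp_mem hφ₁ hχ hmem, fun x => ?_⟩
  show ψ ⟨φ ⟨x, x.2.1⟩, h _⟩ = ((α₂ (α₁ ⟨χ ⟨φ₁ x, hmem x⟩, _⟩) : T) : Ω)
  have e1 : (⟨φ₁ x, hmem x⟩ : ↥(((Q ⊓ T).subgroupOf T).map
      (T.subtype.comp (α₁⁻¹ : MulAut T).toMonoidHom))) =
      ⟨((α₁⁻¹ ⟨((⟨φ ⟨x, x.2.1⟩, hφQT x⟩ : ↥(Q ⊓ T)) : Ω), (hφQT x).2⟩ : T) : Ω),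
        mem_map_aut (inf_le_right : Q ⊓ T ≤ T) α₁⁻¹ ⟨φ ⟨x, x.2.1⟩, hφQT x⟩⟩ :=
    Subtype.ext (hφ₁eq x)
  have e2 := hχv ⟨φ ⟨x, x.2.1⟩, hφQT x⟩
  have e3 : (α₁ ⟨χ ⟨φ₁ x, hmem x⟩, (E.le_of_mem hχ).2 _⟩ : T) =
      ⟨ψ₂ ⟨φ ⟨x, x.2.1⟩, hφQT x⟩, hψ₂T _⟩ := by
    rw [MulEquiv.apply_eq_iff_symm_apply]
    apply Subtype.ext
    show χ ⟨φ₁ x, hmem x⟩ = _
    rw [e1, e2]
    rfl
  have e4 := hψ₂v ⟨φ ⟨x, x.2.1⟩, hφQT x⟩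
  rw [e4]
  congr 2
  exact e3.symm

/-- the Frattini predicate is stable under inverses -/
theorem frattiniPr_inv (hAI : AutInv F E) (hT : F.StronglyClosed T) {P : Subgroup Ω}
    {φ : P →* Ω} (hφ : φ ∈ F.Hom P) (h1 : FrattiniPr F E P φ) (ψ : φ.range →* Ω)
    (hψ : ψ ∈ F.Hom φ.range) (hinv : ∀ x : P, ψ ⟨φ x, ⟨x, rfl⟩⟩ = (x : Ω)) :
    FrattiniPr F E φ.range ψ := by
  obtain ⟨α, hα, φ₁, hφ₁, hφ₁v⟩ := h1
  have hTS : T ≤ S := hT.1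
  have hφ₁T := (E.le_of_mem hφ₁).2
  obtain ⟨θ₁, hθ₁, hθ₁v⟩ := E.inv_mem hφ₁
  have hθ₁T := (E.le_of_mem hθ₁).2
  have hr₁T : φ₁.range ≤ T := range_le E hφ₁
  obtain ⟨χ, hχ, hχv⟩ := hAI hα hr₁T hθ₁
  -- preimages of elements of `φ(P) ∩ T` lie in `T`
  have hxT : ∀ x : P, φ x ∈ T → (x : Ω) ∈ T := by
    intro x hx
    have h2 := hT.2 (φ.range ⊓ T) inf_le_right (ψ.comp (Subgroup.inclusion inf_le_left))
      (restrict_mem F inf_le_left hψ) ⟨φ x, ⟨⟨x, rfl⟩, hx⟩⟩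
    have e : (ψ.comp (Subgroup.inclusion (inf_le_left : φ.range ⊓ T ≤ φ.range)))
        ⟨φ x, ⟨⟨x, rfl⟩, hx⟩⟩ = ψ ⟨φ x, ⟨x, rfl⟩⟩ := rfl
    rw [e, hinv] at h2
    exact h2
  have hle : φ.range ⊓ T ≤ (φ₁.range.subgroupOf T).map (T.subtype.comp α.toMonoidHom) := by
    rintro y ⟨⟨x, rfl⟩, hyT⟩
    have := hφ₁v ⟨x, ⟨x.2, hxT x hyT⟩⟩
    have e : (⟨((⟨(x : Ω), ⟨x.2, hxT x hyT⟩⟩ : ↥(P ⊓ T)) : Ω), x.2⟩ : P) = x := Subtype.ext rfl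
    rw [e] at this
    rw [this]
    exact mem_map_aut hr₁T α ⟨φ₁ ⟨x, ⟨x.2, hxT x hyT⟩⟩, ⟨_, rfl⟩⟩
  refine ⟨α⁻¹, Subgroup.inv_mem _ hα, χ.comp (Subgroup.inclusion hle), restrict_mem E hle hχ,
    fun y => ?_⟩
  obtain ⟨y, ⟨x, rfl⟩, hyT⟩ := y
  show ψ ⟨φ x, _⟩ = ((α⁻¹ ⟨χ ⟨φ x, _⟩, _⟩ : T) : Ω)
  rw [hinv]
  have h3 := hφ₁v ⟨x, ⟨x.2, hxT x hyT⟩⟩
  have e : (⟨((⟨(x : Ω), ⟨x.2, hxT x hyT⟩⟩ : ↥(P ⊓ T)) : Ω), x.2⟩ : P) = x := Subtype.ext rfl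
  rw [e] at h3
  have h4 := hχv ⟨φ₁ ⟨x, ⟨x.2, hxT x hyT⟩⟩, ⟨_, rfl⟩⟩
  have e7 : (⟨θ₁ ⟨φ₁ ⟨x, ⟨x.2, hxT x hyT⟩⟩, ⟨_, rfl⟩⟩, hθ₁T _⟩ : T) = ⟨x, hxT x hyT⟩ :=
    Subtype.ext (hθ₁v _)
  rw [e7] at h4
  have e5 : (⟨χ ⟨φ x, hle ⟨⟨x, rfl⟩, hyT⟩⟩, (E.le_of_mem hχ).2 _⟩ : T) =
      α ⟨x, hxT x hyT⟩ := by
    apply Subtype.ext
    show χ ⟨φ x, _⟩ = ((α ⟨x, hxT x hyT⟩ : T) : Ω)
    rw [← h4]
    congr 1
    exact Subtype.ext h3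
  have e6 : (α⁻¹ ⟨χ ⟨φ x, hle ⟨⟨x, rfl⟩, hyT⟩⟩, (E.le_of_mem hχ).2 _⟩ : T) = ⟨x, hxT x hyT⟩ := by
    rw [e5]; simp
  exact (congrArg Subtype.val e6).symm

/-- restriction of `Aut_F(P)` to `P ∩ T` -/
def resT (hT : F.StronglyClosed T) (P : Subgroup Ω) (hPS : P ≤ S) :
    ↥(F.autGroup P) →* MulAut ↥(P ⊓ T) :=
  resHom inf_le_left (F.autGroup P)
    (fun α hα x hx => ⟨(α x).2, aut_mem_of_stronglyClosed F hT hPS hα hx.2⟩)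

/-- the automorphisms in `Aut_F(P)` whose restriction to `P ∩ T` lies in `E` -/
def KInv (E : FusionSystem T) (hT : F.StronglyClosed T) (P : Subgroup Ω) (hPS : P ≤ S) :
    Subgroup (MulAut P) :=
  ((E.autGroup (P ⊓ T)).comap (resT hT P hPS)).map (F.autGroup P).subtype

theorem mem_KInv (hT : F.StronglyClosed T) {P : Subgroup Ω} (hPS : P ≤ S) {γ : MulAut P} :
    γ ∈ KInv E hT P hPS ↔ γ ∈ F.autGroup P ∧
      (P.subtype.comp γ.toMonoidHom).comp (Subgroup.inclusion inf_le_left) ∈ E.Hom (P ⊓ T) := by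
  unfold KInv
  rw [mem_map_subtype_comap]
  constructor
  · rintro ⟨hγ, h⟩
    refine ⟨hγ, ?_⟩
    rw [mem_autGroup_iff E inf_le_right] at h
    have e : (P.subtype.comp γ.toMonoidHom).comp (Subgroup.inclusion inf_le_left) =
        (P ⊓ T).subtype.comp (resT hT P hPS ⟨γ, hγ⟩).toMonoidHom := by
      ext x; rfl
    rw [e]; exact h
  · rintro ⟨hγ, h⟩
    refine ⟨hγ, ?_⟩
    rw [mem_autGroup_iff E inf_le_right]
    have e : (P.subtype.comp γ.toMonoidHom).comp (Subgroup.inclusion inf_le_left) =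
        (P ⊓ T).subtype.comp (resT hT P hPS ⟨γ, hγ⟩).toMonoidHom := by
      ext x; rfl
    rw [← e]; exact h

theorem KInv_conj_mem (hSI : StrongInv F E) (hT : F.StronglyClosed T) {P : Subgroup Ω}
    (hPS : P ≤ S) {β : MulAut P} (hβ : β ∈ F.autGroup P) {γ : MulAut P}
    (hγ : γ ∈ KInv E hT P hPS) : β * γ * β⁻¹ ∈ KInv E hT P hPS := by
  rw [mem_KInv hT hPS] at hγ ⊢
  obtain ⟨hγF, hγE⟩ := hγ
  refine ⟨Subgroup.mul_mem _ (Subgroup.mul_mem _ hβ hγF) (Subgroup.inv_mem _ hβ), ?_⟩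
  have hβF := restrict_mem F (inf_le_left : P ⊓ T ≤ P) ((mem_autGroup_iff F hPS β).mp hβ)
  have hstab : ∀ (δ : MulAut P), δ ∈ F.autGroup P → ∀ x : ↥(P ⊓ T), ((δ ⟨x, x.2.1⟩ : P) : Ω) ∈ P ⊓ T :=
    fun δ hδ x => ⟨(δ _).2, aut_mem_of_stronglyClosed F hT hPS hδ x.2.2⟩
  obtain ⟨χ, hχ, hχv⟩ := hSI (P ⊓ T) (P ⊓ T) le_rfl inf_le_right _ hγE (hstab γ hγF) _ hβF
  have hle : P ⊓ T ≤ ((P ⊓ T).subgroupOf (P ⊓ T)).map
      ((P.subtype.comp β.toMonoidHom).comp (Subgroup.inclusion inf_le_left)) := by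
    intro y hy
    have h1 := hstab β⁻¹ (Subgroup.inv_mem _ hβ) ⟨y, hy⟩
    refine ⟨⟨_, h1⟩, Subgroup.mem_subgroupOf.mpr h1, ?_⟩
    show ((β (β⁻¹ ⟨y, hy.1⟩) : P) : Ω) = y
    simp
  have hχ' := restrict_mem E hle hχ
  have e : (P.subtype.comp (β * γ * β⁻¹).toMonoidHom).comp (Subgroup.inclusion inf_le_left) =
      χ.comp (Subgroup.inclusion hle) := by
    ext y
    have h1 := hstab β⁻¹ (Subgroup.inv_mem _ hβ) y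
    have h2 := hχv ⟨_, h1⟩
    have h3 : ((P.subtype.comp β.toMonoidHom).comp (Subgroup.inclusion (inf_le_left : P ⊓ T ≤ P)))
        (Subgroup.inclusion le_rfl ⟨((β⁻¹ ⟨y, y.2.1⟩ : P) : Ω), h1⟩) = y := by
      show ((β (β⁻¹ ⟨y, y.2.1⟩) : P) : Ω) = y
      simp
    show ((β (γ (β⁻¹ ⟨y, y.2.1⟩)) : P) : Ω) = χ ⟨y, hle y.2⟩
    have hm : ((P.subtype.comp β.toMonoidHom).comp (Subgroup.inclusion (inf_le_left : P ⊓ T ≤ P)))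
        (Subgroup.inclusion le_rfl ⟨((β⁻¹ ⟨y, y.2.1⟩ : P) : Ω), h1⟩) ∈
        ((P ⊓ T).subgroupOf (P ⊓ T)).map
          ((P.subtype.comp β.toMonoidHom).comp (Subgroup.inclusion inf_le_left)) :=
      ⟨_, Subgroup.mem_subgroupOf.mpr h1, rfl⟩
    rw [hom_congr_val χ (hle y.2) hm h3.symm, h2 hm]
    rfl
  rw [e]
  exact hχ'

theorem normalizerMonoidHom_mem_KInv (hT : F.StronglyClosed T) {P : Subgroup Ω} (hPS : P ≤ S)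
    {g : Ω} (hgT : g ∈ T) (hgN : g ∈ Subgroup.normalizer (P : Set Ω)) :
    P.normalizerMonoidHom ⟨g, hgN⟩ ∈ KInv E hT P hPS := by
  rw [mem_KInv hT hPS]
  refine ⟨autInducedBy_le_autGroup F hPS
    ((mem_autInducedBy_iff _).2 ⟨g, hT.1 hgT, fun x => rfl⟩), ?_⟩
  have e : (P.subtype.comp (P.normalizerMonoidHom ⟨g, hgN⟩).toMonoidHom).comp
      (Subgroup.inclusion inf_le_left) = conjHom (P ⊓ T) g := by
    ext x; rfl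
  rw [e]
  exact E.conj_mem inf_le_right hgT

theorem frattiniPr_of_mem_KInv (hT : F.StronglyClosed T) {P : Subgroup Ω} (hPS : P ≤ S)
    {γ : MulAut P} (hγ : γ ∈ KInv E hT P hPS) : FrattiniPr F E P (P.subtype.comp γ.toMonoidHom) := by
  rw [mem_KInv hT hPS] at hγ
  exact ⟨1, Subgroup.one_mem _, _, hγ.2, fun x => rfl⟩

theorem frattiniPr_of_le (hT : F.StronglyClosed T) {P : Subgroup Ω} (hPS : P ≤ S) (hTP : T ≤ P)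
    {α : MulAut P} (hα : α ∈ F.autGroup P) : FrattiniPr F E P (P.subtype.comp α.toMonoidHom) := by
  have hstab : ∀ δ ∈ F.autGroup P, ∀ x : P, (x : Ω) ∈ T → ((δ x : P) : Ω) ∈ T :=
    fun δ hδ x hx => aut_mem_of_stronglyClosed F hT hPS hδ hx
  refine ⟨resHom hTP (F.autGroup P) hstab ⟨α, hα⟩, ?_, (P ⊓ T).subtype, subtype_mem E inf_le_right,
    fun x => rfl⟩
  rw [mem_autGroup_iff F hT.1]
  have e : T.subtype.comp (resHom hTP (F.autGroup P) hstab ⟨α, hα⟩).toMonoidHom =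
      (P.subtype.comp α.toMonoidHom).comp (Subgroup.inclusion hTP) := by
    ext x; rfl
  rw [e]
  exact restrict_mem F hTP ((mem_autGroup_iff F hPS α).mp hα)

/-- Strong invariance implies invariance (AKO I.6.4). -/
theorem isInvariantIn_of_strongInv [Finite S] (p : ℕ) [Fact p.Prime] (hS : IsPGroup p S)
    (hF : F.IsSaturated p) (hEF : E.IsSubsystemOf F) (hT : F.StronglyClosed T)
    (hSI : StrongInv F E) : E.IsInvariantIn F := by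
  have hTS : T ≤ S := hT.1
  refine ⟨hEF, hT, ?_, ?_⟩
  · intro P hPT φ hφ α hα
    obtain ⟨χ, hχ, hχv⟩ := hSI.conj hTS hα hPT hφ
    exact ⟨χ, hχ, fun x _ _ => hχv x⟩
  · intro P hPT φ hφ
    have hPr : FrattiniPr F E P φ := normal_family_induction p hS F hF hTS
      (fun g hg v hv => conj_mem_of_stronglyClosed' F hT hg hv) (FrattiniPr F E)
      (frattiniPr_conj hT) (frattiniPr_comp (hSI.autInv hTS) hT)
      (fun hφ h ψ hψ hinv => frattiniPr_inv (hSI.autInv hTS) hT hφ h ψ hψ hinv)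
      (fun P hPS hTP α hα => frattiniPr_of_le hT hPS hTP hα)
      (KInv E hT) (fun P hPS γ hγ => ((mem_KInv hT hPS).mp hγ).1)
      (fun P hPS β hβ γ hγ => KInv_conj_mem hSI hT hPS hβ hγ)
      (fun P hPS g hgT hgN => normalizerMonoidHom_mem_KInv hT hPS hgT hgN)
      (fun P hPS γ hγ => frattiniPr_of_mem_KInv hT hPS hγ) hφ
    obtain ⟨α, hα, φ₀, hφ₀, hv⟩ := hPr
    have hle : P ≤ P ⊓ T := le_inf le_rfl hPT
    refine ⟨α, hα, φ₀.comp (Subgroup.inclusion hle), restrict_mem E hle hφ₀, fun x hx => ?_⟩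
    exact hv ⟨x, ⟨x.2, hPT x.2⟩⟩

/-- Invariance implies strong invariance. -/
theorem strongInv_of_isInvariantIn (hinv : E.IsInvariantIn F) : StrongInv F E := by
  obtain ⟨hEF, hT, hconj, hfrat⟩ := hinv
  intro P Q hPQ hQT φ hφ hφQ ψ hψ
  obtain ⟨α, hα, ψ₀, hψ₀, hψv⟩ := hfrat Q hQT ψ hψ
  have hψ₀T := (E.le_of_mem hψ₀).2
  have hψ₀P : ψ₀.comp (Subgroup.inclusion hPQ) ∈ E.Hom P := restrict_mem E hPQ hψ₀
  obtain ⟨θ, hθ, hθv⟩ := E.inv_mem hψ₀P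
  have hθP : ∀ y : ↥(ψ₀.comp (Subgroup.inclusion hPQ)).range, θ y ∈ P := by
    rintro ⟨_, x, rfl⟩
    rw [hθv]; exact x.2
  have h1 := E.comp_mem hθ hφ hθP
  have h2 : ∀ y, (φ.comp (θ.codRestrict P hθP)) y ∈ Q := fun y => hφQ _
  have hφ' := E.comp_mem h1 hψ₀ h2
  have hP'T : (ψ₀.comp (Subgroup.inclusion hPQ)).range ≤ T := range_le E hψ₀P
  obtain ⟨χ, hχ, hχv⟩ := hconj _ hP'T _ hφ' α hα
  have hle : (P.subgroupOf Q).map ψ ≤ ((ψ₀.comp (Subgroup.inclusion hPQ)).range.subgroupOf T).map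
      (T.subtype.comp α.toMonoidHom) := by
    rintro _ ⟨x, hx, rfl⟩
    rw [hψv x (hψ₀T x)]
    refine ⟨⟨ψ₀ x, hψ₀T x⟩, Subgroup.mem_subgroupOf.mpr ⟨⟨x, Subgroup.mem_subgroupOf.mp hx⟩, ?_⟩, rfl⟩
    show ψ₀ (Subgroup.inclusion hPQ ⟨x, _⟩) = ψ₀ x
    congr 1
  refine ⟨χ.comp (Subgroup.inclusion hle), restrict_mem E hle hχ, fun x hx => ?_⟩
  show χ ⟨ψ (Subgroup.inclusion hPQ x), hle hx⟩ = ψ ⟨φ x, hφQ x⟩
  have hy : ψ₀ (Subgroup.inclusion hPQ x) ∈ (ψ₀.comp (Subgroup.inclusion hPQ)).range := ⟨x, rfl⟩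
  have e1 : (⟨ψ (Subgroup.inclusion hPQ x), hle hx⟩ : ↥(((ψ₀.comp
      (Subgroup.inclusion hPQ)).range.subgroupOf T).map (T.subtype.comp α.toMonoidHom))) =
      ⟨((α ⟨((⟨ψ₀ (Subgroup.inclusion hPQ x), hy⟩ : ↥(ψ₀.comp (Subgroup.inclusion hPQ)).range) : Ω),
        hP'T hy⟩ : T) : Ω), mem_map_aut hP'T α ⟨_, hy⟩⟩ :=
    Subtype.ext (hψv _ (hψ₀T _))
  rw [e1, hχv ⟨_, hy⟩ ((E.le_of_mem hφ').2 _) _, hψv ⟨φ x, hφQ x⟩ (hψ₀T _)]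
  congr 2
  apply Subtype.ext
  show ψ₀ ⟨φ ⟨θ ⟨ψ₀ (Subgroup.inclusion hPQ x), hy⟩, _⟩, _⟩ = ψ₀ ⟨φ x, hφQ x⟩
  have e3 : (⟨θ ⟨ψ₀ (Subgroup.inclusion hPQ x), hy⟩, hθP ⟨_, hy⟩⟩ : P) = x := Subtype.ext (hθv x)
  exact hom_congr_val ψ₀ _ _ (congrArg φ e3)

end

end Cfsg.Agent.Helper25
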