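import Mathlib
import Cfsg.Prelude.Def_FusionSystem
import Cfsg.Agent.Lib.Helper25.FusionInvariant

set_option autoImplicit false

/-!
Subsystems of index prime to `p` (AKO Lemma I.7.6): the largest `Aut_F(S)`-invariant subsystem of a
subsystem `E ≤ F` over `S`, and the Frattini factorization `F = Aut_F(S) ∘ E`.
-/

namespace Cfsg.Agent.Helper25

open Cfsg Cfsg.FusionSystem

variable {Ω : Type*} [Group Ω] {S : Subgroup Ω}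

/-- `φ` and all its conjugates under `Aut_F(S)` lie in `E`. -/
def InvPr (F E : FusionSystem S) (P : Subgroup Ω) (φ : P →* Ω) : Prop :=
  ∀ α ∈ F.autGroup S, ∀ (hP : P ≤ S) (hφS : ∀ x, φ x ∈ S),
    ∃ χ ∈ E.Hom ((P.subgroupOf S).map (S.subtype.comp α.toMonoidHom)),
      ∀ x : P, χ ⟨((α ⟨x, hP x.2⟩ : S) : Ω), mem_map_aut hP α x⟩ = ((α ⟨φ x, hφS x⟩ : S) : Ω)

theorem map_aut_le (α : MulAut S) (P : Subgroup Ω) :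
    (P.subgroupOf S).map (S.subtype.comp α.toMonoidHom) ≤ S := by
  rintro _ ⟨x, -, rfl⟩
  exact (α x).2

theorem mem_map_aut_iff {P : Subgroup Ω} (hP : P ≤ S) (α : MulAut S) {y : Ω} :
    y ∈ (P.subgroupOf S).map (S.subtype.comp α.toMonoidHom) ↔
      ∃ x : P, ((α ⟨x, hP x.2⟩ : S) : Ω) = y := by
  constructor
  · rintro ⟨x, hx, rfl⟩
    exact ⟨⟨x, Subgroup.mem_subgroupOf.mp hx⟩, rfl⟩
  · rintro ⟨x, rfl⟩
    exact mem_map_aut hP α x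

variable (F E : FusionSystem S)

theorem invPr_conj {P : Subgroup Ω} {g : Ω} (hP : P ≤ S) (hg : g ∈ S) :
    InvPr F E P (conjHom P g) := by
  intro α _ hP' hφS
  refine ⟨conjHom _ ((α ⟨g, hg⟩ : S) : Ω), E.conj_mem (map_aut_le α P) (α ⟨g, hg⟩).2, fun x => ?_⟩
  show ((α ⟨g, hg⟩ : S) : Ω) * ((α ⟨x, hP' x.2⟩ : S) : Ω) * ((α ⟨g, hg⟩ : S) : Ω)⁻¹ = _
  have e : (⟨conjHom P g x, hφS x⟩ : S) = ⟨g, hg⟩ * ⟨x, hP' x.2⟩ * ⟨g, hg⟩⁻¹ := Subtype.ext rfl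
  rw [e, map_mul, map_mul, map_inv]
  rfl

theorem invPr_comp {P Q : Subgroup Ω} {φ : P →* Ω} {ψ : Q →* Ω} (hφ : φ ∈ E.Hom P)
    (hψ : ψ ∈ E.Hom Q) (h1 : InvPr F E P φ) (h2 : InvPr F E Q ψ) (h : ∀ x : P, φ x ∈ Q) :
    InvPr F E P (ψ.comp (φ.codRestrict Q h)) := by
  intro α hα hP hcS
  have hQ : Q ≤ S := (E.le_of_mem hψ).1
  have hφS := (E.le_of_mem hφ).2
  have hψS := (E.le_of_mem hψ).2
  obtain ⟨χ₁, hχ₁, hχ₁v⟩ := h1 α hα hP hφS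
  obtain ⟨χ₂, hχ₂, hχ₂v⟩ := h2 α hα hQ hψS
  have hval : ∀ y, χ₁ y ∈ (Q.subgroupOf S).map (S.subtype.comp α.toMonoidHom) := by
    rintro ⟨y, hy⟩
    obtain ⟨x, rfl⟩ := (mem_map_aut_iff hP α).mp hy
    rw [hχ₁v]
    exact mem_map_aut hQ α ⟨φ x, h x⟩
  refine ⟨χ₂.comp (χ₁.codRestrict _ hval), E.comp_mem hχ₁ hχ₂ hval, fun x => ?_⟩
  show χ₂ ⟨χ₁ ⟨_, _⟩, _⟩ = _
  have e := hom_congr_val χ₂ (hval ⟨_, mem_map_aut hP α x⟩) (mem_map_aut hQ α ⟨φ x, h x⟩) (hχ₁v x)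
  rw [e, hχ₂v]
  rfl

theorem invPr_inv {P : Subgroup Ω} {φ : P →* Ω} (hφ : φ ∈ E.Hom P) (h1 : InvPr F E P φ)
    (ψ : φ.range →* Ω) (hψ : ψ ∈ E.Hom φ.range) (hinv : ∀ x : P, ψ ⟨φ x, ⟨x, rfl⟩⟩ = (x : Ω)) :
    InvPr F E φ.range ψ := by
  intro α hα hR hψS
  have hP : P ≤ S := (E.le_of_mem hφ).1
  have hφS := (E.le_of_mem hφ).2
  obtain ⟨χ₁, hχ₁, hχ₁v⟩ := h1 α hα hP hφS
  obtain ⟨θ, hθ, hθv⟩ := E.inv_mem hχ₁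
  have hle : (φ.range.subgroupOf S).map (S.subtype.comp α.toMonoidHom) ≤ χ₁.range := by
    intro y hy
    obtain ⟨⟨_, x, rfl⟩, rfl⟩ := (mem_map_aut_iff hR α).mp hy
    exact ⟨⟨_, mem_map_aut hP α x⟩, hχ₁v x⟩
  refine ⟨θ.comp (Subgroup.inclusion hle), restrict_mem E hle hθ, ?_⟩
  rintro ⟨_, x, rfl⟩
  show θ ⟨((α ⟨φ x, _⟩ : S) : Ω), _⟩ = _
  have e := hom_congr_val θ (hle (mem_map_aut hR α ⟨φ x, ⟨x, rfl⟩⟩))
    (⟨⟨_, mem_map_aut hP α x⟩, rfl⟩ : χ₁ ⟨_, mem_map_aut hP α x⟩ ∈ χ₁.range) (hχ₁v x).symm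
  rw [e, hθv]
  show ((α ⟨x, hP x.2⟩ : S) : Ω) = ((α ⟨ψ ⟨φ x, ⟨x, rfl⟩⟩, _⟩ : S) : Ω)
  congr 2
  exact Subtype.ext (hinv x).symm

/-- The largest `Aut_F(S)`-invariant subsystem of `E`. -/
def invCore : FusionSystem S :=
  predSub E (InvPr F E) (fun hP hg => invPr_conj F E hP hg)
    (fun hφ hψ h1 h2 h => invPr_comp F E hφ hψ h1 h2 h)
    (fun hφ h1 ψ hψ hinv => invPr_inv F E hφ h1 ψ hψ hinv)

theorem mem_invCore {P : Subgroup Ω} {φ : P →* Ω} :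
    φ ∈ (invCore F E).Hom P ↔ φ ∈ E.Hom P ∧ InvPr F E P φ := Iff.rfl

theorem invCore_le {P : Subgroup Ω} {φ : P →* Ω} (h : φ ∈ (invCore F E).Hom P) : φ ∈ E.Hom P := h.1

/-- `invCore` is invariant under `Aut_F(S)`. -/
theorem invCore_autInv : AutInv F (invCore F E) := by
  intro α hα P hPT φ hφ
  obtain ⟨hφE, hφI⟩ := hφ
  have hφS := (E.le_of_mem hφE).2
  obtain ⟨χ, hχ, hχv⟩ := hφI α hα hPT hφS
  refine ⟨χ, ⟨hχ, ?_⟩, hχv⟩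
  intro β hβ hP' hχS
  obtain ⟨χ', hχ', hχ'v⟩ := hφI (β * α) (Subgroup.mul_mem _ hβ hα) hPT hφS
  have hle : (((P.subgroupOf S).map (S.subtype.comp α.toMonoidHom)).subgroupOf S).map
      (S.subtype.comp β.toMonoidHom) ≤ (P.subgroupOf S).map (S.subtype.comp (β * α).toMonoidHom) := by
    intro y hy
    obtain ⟨⟨_, hz⟩, rfl⟩ := (mem_map_aut_iff hP' β).mp hy
    obtain ⟨x, rfl⟩ := (mem_map_aut_iff hPT α).mp hz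
    exact mem_map_aut hPT (β * α) x
  refine ⟨χ'.comp (Subgroup.inclusion hle), restrict_mem E hle hχ', ?_⟩
  rintro ⟨_, hz⟩
  obtain ⟨x, rfl⟩ := (mem_map_aut_iff hPT α).mp hz
  show χ' ⟨_, _⟩ = _
  have e := hχ'v x
  have e1 := hom_congr_val χ' (hle (mem_map_aut hP' β ⟨_, hz⟩)) (mem_map_aut hPT (β * α) x)
    (rfl : ((β ⟨((α ⟨x, hPT x.2⟩ : S) : Ω), hP' hz⟩ : S) : Ω) = (((β * α) ⟨x, hPT x.2⟩ : S) : Ω))
  rw [e1, e]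
  show ((β (α ⟨φ x, _⟩) : S) : Ω) = ((β ⟨χ ⟨_, _⟩, _⟩ : S) : Ω)
  congr 2
  exact Subtype.ext (hχv x).symm

end Cfsg.Agent.Helper25
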