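import Mathlib
import Cfsg.Prelude.Def_FusionSystem
import Cfsg.Agent.Lib.Helper25.FusionPrimeIndex

set_option autoImplicit false

namespace Cfsg.Agent.Helper25

open Cfsg Cfsg.FusionSystem

variable {Ω : Type*} [Group Ω] {S : Subgroup Ω}

/-- `O^{p'}(Aut_F(P))` as a subgroup of `Aut(P)`. -/
def OpPrime (F : FusionSystem S) (p : ℕ) (P : Subgroup Ω) : Subgroup (MulAut P) :=
  (Subgroup.closure {α : ↥(F.autGroup P) | ∃ k : ℕ, orderOf α = p ^ k}).map (F.autGroup P).subtype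

theorem OpPrime_eq_closure (F : FusionSystem S) (p : ℕ) (P : Subgroup Ω) :
    OpPrime F p P = Subgroup.closure {γ : MulAut P | γ ∈ F.autGroup P ∧ ∃ k : ℕ, orderOf γ = p ^ k} := by
  unfold OpPrime
  rw [MonoidHom.map_closure]
  congr 1
  ext γ
  constructor
  · rintro ⟨α, ⟨k, hk⟩, rfl⟩
    refine ⟨α.2, k, ?_⟩
    rw [← hk]
    exact Subgroup.orderOf_coe α
  · rintro ⟨hγ, k, hk⟩
    refine ⟨⟨γ, hγ⟩, ⟨k, ?_⟩, rfl⟩
    rw [← hk]
    exact (Subgroup.orderOf_coe (⟨γ, hγ⟩ : F.autGroup P)).symm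

theorem OpPrime_le_autGroup (F : FusionSystem S) (p : ℕ) (P : Subgroup Ω) :
    OpPrime F p P ≤ F.autGroup P := by
  rw [OpPrime_eq_closure]
  exact (Subgroup.closure_le _).mpr fun γ hγ => hγ.1

theorem mem_OpPrime_of_orderOf (F : FusionSystem S) {p : ℕ} {P : Subgroup Ω} {γ : MulAut P}
    (hγ : γ ∈ F.autGroup P) {k : ℕ} (hk : orderOf γ = p ^ k) : γ ∈ OpPrime F p P := by
  rw [OpPrime_eq_closure]
  exact Subgroup.subset_closure ⟨hγ, k, hk⟩

theorem OpPrime_conj_mem (F : FusionSystem S) (p : ℕ) {P : Subgroup Ω} {β : MulAut P}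
    (hβ : β ∈ F.autGroup P) {γ : MulAut P} (hγ : γ ∈ OpPrime F p P) :
    β * γ * β⁻¹ ∈ OpPrime F p P := by
  rw [OpPrime_eq_closure] at hγ ⊢
  induction hγ using Subgroup.closure_induction with
  | mem x hx =>
    obtain ⟨hxA, k, hk⟩ := hx
    refine Subgroup.subset_closure ⟨Subgroup.mul_mem _ (Subgroup.mul_mem _ hβ hxA)
      (Subgroup.inv_mem _ hβ), k, ?_⟩
    rw [← hk]
    exact MulEquiv.orderOf_eq (MulAut.conj β) x
  | one => simp
  | mul a b _ _ ha hb =>
    have : β * (a * b) * β⁻¹ = (β * a * β⁻¹) * (β * b * β⁻¹) := by group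
    rw [this]; exact Subgroup.mul_mem _ ha hb
  | inv a _ ha =>
    have : β * a⁻¹ * β⁻¹ = (β * a * β⁻¹)⁻¹ := by group
    rw [this]; exact Subgroup.inv_mem _ ha

theorem normalizerMonoidHom_mem_OpPrime (F : FusionSystem S) {p : ℕ} [Fact p.Prime]
    (hS : IsPGroup p S) {P : Subgroup Ω} (hPS : P ≤ S) {g : Ω} (hg : g ∈ S)
    (hgN : g ∈ Subgroup.normalizer (P : Set Ω)) :
    P.normalizerMonoidHom ⟨g, hgN⟩ ∈ OpPrime F p P := by
  have hA : P.normalizerMonoidHom ⟨g, hgN⟩ ∈ F.autGroup P := autInducedBy_le_autGroup F hPS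
    ((mem_autInducedBy_iff _).2 ⟨g, hg, fun x => rfl⟩)
  obtain ⟨k, hk⟩ := (IsPGroup.iff_orderOf.mp hS) ⟨g, hg⟩
  have h1 : orderOf (⟨g, hgN⟩ : Subgroup.normalizer (P : Set Ω)) = p ^ k := by
    rw [← hk, ← Subgroup.orderOf_coe, ← Subgroup.orderOf_coe]
  have h2 : orderOf (P.normalizerMonoidHom ⟨g, hgN⟩) ∣ p ^ k := by
    rw [← h1]; exact orderOf_map_dvd _ _
  obtain ⟨j, -, hj⟩ := (Nat.dvd_prime_pow (Fact.out : p.Prime)).mp h2
  exact mem_OpPrime_of_orderOf F hA hj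

/-- The isomorphism `P ≃* α(P)` induced by an automorphism `α` of `S`. -/
noncomputable def autRestr {P : Subgroup Ω} (hP : P ≤ S) (α : MulAut S) :
    P ≃* ↥((P.subgroupOf S).map (S.subtype.comp α.toMonoidHom)) :=
  MulEquiv.ofBijective
    (((S.subtype.comp α.toMonoidHom).comp (Subgroup.inclusion hP)).codRestrict _
      (fun x => mem_map_aut hP α x))
    ⟨fun a b hab => by
        have h0 : ((α ⟨a, hP a.2⟩ : S) : Ω) = ((α ⟨b, hP b.2⟩ : S) : Ω) := by
          have h00 := Subtype.ext_iff.mp hab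
          exact h00
        have h1 := α.injective (Subtype.ext h0)
        have h2 : (a : Ω) = (b : Ω) := by
          have h10 := Subtype.ext_iff.mp h1
          exact h10
        exact Subtype.ext h2,
      fun y => by
        obtain ⟨x, hx⟩ := (mem_map_aut_iff hP α).mp y.2
        exact ⟨x, Subtype.ext hx⟩⟩

theorem autRestr_apply_coe {P : Subgroup Ω} (hP : P ≤ S) (α : MulAut S) (x : P) :
    ((autRestr hP α x : ↥((P.subgroupOf S).map (S.subtype.comp α.toMonoidHom))) : Ω) =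
      ((α ⟨x, hP x.2⟩ : S) : Ω) := rfl

theorem autRestr_mem (F : FusionSystem S) {P : Subgroup Ω} (hP : P ≤ S) {α : MulAut S}
    (hα : α ∈ F.autGroup S) :
    ((P.subgroupOf S).map (S.subtype.comp α.toMonoidHom)).subtype.comp (autRestr hP α).toMonoidHom
      ∈ F.Hom P := by
  have e : ((P.subgroupOf S).map (S.subtype.comp α.toMonoidHom)).subtype.comp
      (autRestr hP α).toMonoidHom = (S.subtype.comp α.toMonoidHom).comp (Subgroup.inclusion hP) := by
    ext x; rfl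
  rw [e]
  exact restrict_mem F hP ((mem_autGroup_iff F le_rfl α).mp hα)

theorem isCentric_of_isConj (F : FusionSystem S) {P Q : Subgroup Ω} (hP : F.IsCentric P)
    (h : F.IsConj P Q) : F.IsCentric Q :=
  ⟨isConj_le_right F h, fun R hR => hP.2 R (isConj_trans F h hR)⟩

theorem isConj_map_aut (F : FusionSystem S) {P : Subgroup Ω} (hP : P ≤ S) {α : MulAut S}
    (hα : α ∈ F.autGroup S) :
    F.IsConj P ((P.subgroupOf S).map (S.subtype.comp α.toMonoidHom)) := by
  refine ⟨_, autRestr_mem F hP hα, ?_⟩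
  ext y
  constructor
  · rintro ⟨x, rfl⟩
    exact Subtype.property _
  · intro hy
    obtain ⟨x, hx⟩ := (mem_map_aut_iff hP α).mp hy
    exact ⟨x, hx⟩

/-- If `E ≤ F` contains `O^{p'}(Aut_F(P))` for the `F`-centric `P`, so does its `Aut_F(S)`-invariant core. -/
theorem OpPrime_le_invCore_autGroup (F E : FusionSystem S) (p : ℕ)
    (h : ∀ P : Subgroup Ω, F.IsCentric P → OpPrime F p P ≤ E.autGroup P) {P : Subgroup Ω}
    (hPc : F.IsCentric P) : OpPrime F p P ≤ (invCore F E).autGroup P := by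
  have hP : P ≤ S := hPc.1
  rw [OpPrime_eq_closure]
  apply (Subgroup.closure_le _).mpr
  rintro γ ⟨hγA, k, hk⟩
  show γ ∈ (invCore F E).autGroup P
  rw [mem_autGroup_iff (invCore F E) hP]
  refine ⟨(mem_autGroup_iff E hP γ).mp (h P hPc (mem_OpPrime_of_orderOf F hγA hk)), ?_⟩
  intro α hα hP' hφS
  have he := autRestr_mem F hP hα
  have hγ' : MulAut.congr (autRestr hP α) γ ∈ F.autGroup _ := congr_mem_autGroup' F _ he hγA
  have hord : orderOf (MulAut.congr (autRestr hP α) γ) = p ^ k := by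
    rw [← hk]; exact MulEquiv.orderOf_eq (MulAut.congr (autRestr hP α)) γ
  have hc' := isCentric_of_isConj F hPc (isConj_map_aut F hP hα)
  have h1 := h _ hc' (mem_OpPrime_of_orderOf F hγ' hord)
  refine ⟨_, (mem_autGroup_iff E (map_aut_le α P) _).mp h1, fun x => ?_⟩
  show (((autRestr hP α) (γ ((autRestr hP α).symm ⟨_, _⟩)) :
    ↥((P.subgroupOf S).map (S.subtype.comp α.toMonoidHom))) : Ω) = _
  have e : (⟨((α ⟨x, hP' x.2⟩ : S) : Ω), mem_map_aut hP' α x⟩ :
      ↥((P.subgroupOf S).map (S.subtype.comp α.toMonoidHom))) = autRestr hP α x := Subtype.ext rfl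
  rw [e, MulEquiv.symm_apply_apply]
  rfl

end Cfsg.Agent.Helper25
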