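import Mathlib
import Cfsg.Prelude.Def_FusionSystem
import Cfsg.Agent.Lib.Helper25.FusionNormSub

/-!
# The centralizer fusion system `C_F(Q)` as a fusion system over `C_S(Q)` (helper25)
-/

set_option autoImplicit false

namespace Cfsg.Agent.Helper25

open Cfsg Cfsg.FusionSystem

variable {Ω : Type*} [Group Ω] {S : Subgroup Ω}

theorem normSubHom_comp (F : FusionSystem S) {Q : Subgroup Ω} {K : Subgroup (MulAut Q)}
    {P P' : Subgroup Ω} {φ : P →* Ω} {φ' : P' →* Ω} (h1 : φ ∈ normSubHom F Q K P)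
    (h2 : φ' ∈ normSubHom F Q K P') (h : ∀ x : P, φ x ∈ P') :
    φ'.comp (φ.codRestrict P' h) ∈ normSubHom F Q K P := by
  obtain ⟨hφ, ψ, hψ, hψP, κ, hκ, hψQ⟩ := h1
  obtain ⟨hφ', ψ', hψ', hψ'P, κ', hκ', hψ'Q⟩ := h2
  have hψval : ∀ y : ↥(P ⊔ Q), ψ y ∈ P' ⊔ Q := by
    rintro ⟨z, hz⟩
    have : ∀ hz : z ∈ P ⊔ Q, ψ ⟨z, hz⟩ ∈ P' ⊔ Q := by
      refine sup_induction (C := fun z => ∀ hz : z ∈ P ⊔ Q, ψ ⟨z, hz⟩ ∈ P' ⊔ Q) ?_ ?_ ?_ hz
      · intro x hx hz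
        have := hψP ⟨x, hx⟩
        have e : ψ ⟨x, hz⟩ = φ ⟨x, hx⟩ := this
        rw [e]
        exact le_sup_left (a := P') (h ⟨x, hx⟩)
      · intro x hx hz
        have e : ψ ⟨x, hz⟩ = ((κ ⟨x, hx⟩ : Q) : Ω) := hψQ ⟨x, hx⟩
        rw [e]
        exact le_sup_right (a := P') (κ ⟨x, hx⟩).2
      · intro a b ha hb hCa hCb hab
        have e : (⟨a * b, hab⟩ : ↥(P ⊔ Q)) = ⟨a, ha⟩ * ⟨b, hb⟩ := rfl
        rw [e, map_mul]
        exact Subgroup.mul_mem _ (hCa ha) (hCb hb)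
    exact this hz
  refine ⟨F.comp_mem hφ hφ' h, ψ'.comp (ψ.codRestrict (P' ⊔ Q) hψval),
    F.comp_mem hψ hψ' hψval, fun x => ?_, κ' * κ, K.mul_mem hκ' hκ, fun x => ?_⟩
  · show ψ' ⟨ψ (Subgroup.inclusion le_sup_left x), _⟩ = φ' ⟨φ x, h x⟩
    rw [← hψ'P ⟨φ x, h x⟩]
    congr 1
    exact Subtype.ext (hψP x)
  · show ψ' ⟨ψ (Subgroup.inclusion le_sup_right x), _⟩ = (((κ' * κ) x : Q) : Ω)
    rw [MulAut.mul_apply, ← hψ'Q (κ x)]
    congr 1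
    exact Subtype.ext (hψQ x)

theorem normSubHom_inv (F : FusionSystem S) {Q : Subgroup Ω} {K : Subgroup (MulAut Q)}
    {P : Subgroup Ω} {φ : P →* Ω} (h1 : φ ∈ normSubHom F Q K P) :
    ∃ χ ∈ normSubHom F Q K φ.range, ∀ x : P, χ ⟨φ x, ⟨x, rfl⟩⟩ = (x : Ω) := by
  obtain ⟨hφ, ψ, hψ, hψP, κ, hκ, hψQ⟩ := h1
  have hrange : ψ.range = φ.range ⊔ Q := by
    apply le_antisymm
    · rintro _ ⟨⟨z, hz⟩, rfl⟩
      have : ∀ hz : z ∈ P ⊔ Q, ψ ⟨z, hz⟩ ∈ φ.range ⊔ Q := by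
        refine sup_induction (C := fun z => ∀ hz : z ∈ P ⊔ Q, ψ ⟨z, hz⟩ ∈ φ.range ⊔ Q) ?_ ?_ ?_ hz
        · intro x hx hz
          have e : ψ ⟨x, hz⟩ = φ ⟨x, hx⟩ := hψP ⟨x, hx⟩
          rw [e]
          exact le_sup_left (a := φ.range) ⟨_, rfl⟩
        · intro x hx hz
          have e : ψ ⟨x, hz⟩ = ((κ ⟨x, hx⟩ : Q) : Ω) := hψQ ⟨x, hx⟩
          rw [e]
          exact le_sup_right (a := φ.range) (κ ⟨x, hx⟩).2
        · intro a b ha hb hCa hCb hab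
          have e : (⟨a * b, hab⟩ : ↥(P ⊔ Q)) = ⟨a, ha⟩ * ⟨b, hb⟩ := rfl
          rw [e, map_mul]
          exact Subgroup.mul_mem _ (hCa ha) (hCb hb)
      exact this hz
    · apply sup_le
      · rintro _ ⟨x, rfl⟩
        exact ⟨_, hψP x⟩
      · intro q hq
        refine ⟨Subgroup.inclusion le_sup_right (κ⁻¹ ⟨q, hq⟩), ?_⟩
        rw [hψQ]; simp
  obtain ⟨ψinv, hψinv, hinv, -⟩ := exists_inv F hψ hrange
  refine ⟨ψinv.comp (Subgroup.inclusion le_sup_left), ⟨restrict_mem F le_sup_left hψinv, ψinv, hψinv,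
    fun x => rfl, κ⁻¹, K.inv_mem hκ, fun q => ?_⟩, fun x => ?_⟩
  · have hq : ψ (Subgroup.inclusion le_sup_right (κ⁻¹ q)) = (q : Ω) := by
      rw [hψQ]; simp
    have hmem : ψ (Subgroup.inclusion le_sup_right (κ⁻¹ q)) ∈ φ.range ⊔ Q := by
      rw [hq]; exact le_sup_right (a := φ.range) q.2
    have := hinv (Subgroup.inclusion le_sup_right (κ⁻¹ q)) hmem
    refine Eq.trans ?_ this
    congr 1
    exact Subtype.ext hq.symm
  · have hmem : ψ (Subgroup.inclusion le_sup_left x) ∈ φ.range ⊔ Q := by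
      rw [hψP]; exact le_sup_left (a := φ.range) ⟨x, rfl⟩
    have := hinv (Subgroup.inclusion le_sup_left x) hmem
    show ψinv ⟨φ x, _⟩ = (x : Ω)
    refine Eq.trans ?_ this
    congr 1
    exact Subtype.ext (hψP x).symm

theorem mem_centralizerHom_iff (F : FusionSystem S) (Q P : Subgroup Ω) (φ : P →* Ω) :
    φ ∈ F.centralizerHom Q P ↔ φ ∈ normSubHom F Q ⊥ P ∧ P ≤ centralizerIn S Q ∧
      ∀ x : P, φ x ∈ centralizerIn S Q := by
  constructor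
  · rintro ⟨h1, h2, h3, ψ, hψ, hψP, hψQ⟩
    exact ⟨⟨h1, ψ, hψ, hψP, 1, Subgroup.mem_bot.mpr rfl, fun x => by rw [hψQ]; rfl⟩, h2, h3⟩
  · rintro ⟨⟨h1, ψ, hψ, hψP, κ, hκ, hψQ⟩, h2, h3⟩
    rw [Subgroup.mem_bot] at hκ
    subst hκ
    exact ⟨h1, h2, h3, ψ, hψ, hψP, fun x => by rw [hψQ]; rfl⟩

/-- The centralizer fusion system `C_F(Q)` over `C_S(Q)`. -/
def centSys (F : FusionSystem S) (Q : Subgroup Ω) (hQS : Q ≤ S) : FusionSystem (centralizerIn S Q) where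
  Hom := F.centralizerHom Q
  le_of_mem h := ⟨h.2.1, h.2.2.1⟩
  injective_of_mem h := F.injective_of_mem h.1
  conj_mem := by
    intro P g hP hg
    have hPS : P ≤ S := hP.trans centralizerIn_le
    have hgS : g ∈ S := centralizerIn_le hg
    refine ⟨F.conj_mem hPS hgS, hP, fun x => ?_, conjHom (P ⊔ Q) g,
      F.conj_mem (sup_le hPS hQS) hgS, fun x => rfl, fun x => ?_⟩
    · exact Subgroup.mul_mem _ (Subgroup.mul_mem _ hg (hP x.2)) (Subgroup.inv_mem _ hg)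
    · show g * (x : Ω) * g⁻¹ = x
      have := (mem_centralizerIn.mp hg).2 x x.2
      rw [← this, mul_inv_cancel_right]
  comp_mem := by
    intro P P' φ φ' hφ hφ' h
    rw [mem_centralizerHom_iff] at hφ hφ' ⊢
    exact ⟨normSubHom_comp F hφ.1 hφ'.1 h, hφ.2.1, fun x => hφ'.2.2 _⟩
  inv_mem := by
    intro P φ hφ
    rw [mem_centralizerHom_iff] at hφ
    obtain ⟨χ, hχ, hχx⟩ := normSubHom_inv F hφ.1
    refine ⟨χ, ?_, hχx⟩
    rw [mem_centralizerHom_iff]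
    refine ⟨hχ, ?_, ?_⟩
    · rintro _ ⟨x, rfl⟩
      exact hφ.2.2 x
    · rintro ⟨_, x, rfl⟩
      rw [hχx x]
      exact hφ.2.1 x.2

theorem isCentralizerSystem_centSys (F : FusionSystem S) (Q : Subgroup Ω) (hQS : Q ≤ S) :
    F.IsCentralizerSystem Q (centSys F Q hQS) := fun _ => rfl

end Cfsg.Agent.Helper25
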