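import Mathlib
import Cfsg.Prelude.Def_FusionSystem
import Cfsg.Agent.Lib.Helper25.FusionCentSys
import Cfsg.Agent.Lib.Helper25.FusionSat4
import Cfsg.Agent.Lib.Helper25.FusionInvariant

/-!
# Fusion systems over a central product `S = S₁ Z`, `S₁` strongly closed (helper25)
-/

set_option autoImplicit false

namespace Cfsg.Agent.Helper25

open Cfsg Cfsg.FusionSystem

variable {Ω : Type*} [Group Ω] {S : Subgroup Ω}

theorem exists_mul_of_mem_sup_commute {A B : Subgroup Ω} (h : ∀ a ∈ A, ∀ b ∈ B, a * b = b * a)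
    {z : Ω} (hz : z ∈ A ⊔ B) : ∃ a ∈ A, ∃ b ∈ B, z = a * b := by
  refine sup_induction (C := fun z => ∃ a ∈ A, ∃ b ∈ B, z = a * b) ?_ ?_ ?_ hz
  · intro x hx
    exact ⟨x, hx, 1, B.one_mem, (mul_one x).symm⟩
  · intro x hx
    exact ⟨1, A.one_mem, x, hx, (one_mul x).symm⟩
  · rintro _ _ - - ⟨a, ha, b, hb, rfl⟩ ⟨a', ha', b', hb', rfl⟩
    refine ⟨a * a', A.mul_mem ha ha', b * b', B.mul_mem hb hb', ?_⟩
    calc a * b * (a' * b') = a * (b * a') * b' := by group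
      _ = a * (a' * b) * b' := by rw [h a' ha' b hb]
      _ = a * a' * (b * b') := by group

theorem autInducedBy_eq_of_factor {S₁ Z Q : Subgroup Ω} (hS₁ : S₁ ≤ S)
    (hcomm : ∀ a ∈ S₁, ∀ b ∈ Z, a * b = b * a) (hsup : S₁ ⊔ Z = S) (hQ : Q ≤ S₁) :
    autInducedBy S Q = autInducedBy S₁ Q := by
  ext α
  rw [mem_autInducedBy_iff, mem_autInducedBy_iff]
  constructor
  · rintro ⟨g, hg, hgα⟩
    rw [← hsup] at hg
    obtain ⟨a, ha, b, hb, rfl⟩ := exists_mul_of_mem_sup_commute hcomm hg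
    refine ⟨a, ha, fun x => ?_⟩
    rw [hgα x]
    have hx : (x : Ω) * b = b * x := hcomm x (hQ x.2) b hb
    calc a * b * (x : Ω) * (a * b)⁻¹ = a * (b * x) * b⁻¹ * a⁻¹ := by group
      _ = a * (x * b) * b⁻¹ * a⁻¹ := by rw [hx]
      _ = a * x * a⁻¹ := by group
  · rintro ⟨g, hg, hgα⟩
    exact ⟨g, hS₁ hg, hgα⟩

theorem extender_mono {S₁ P : Subgroup Ω} (hS₁ : S₁ ≤ S) (φ : P →* Ω) :
    extender S₁ P φ ≤ extender S P φ := by
  intro g hg
  rw [mem_extender_iff] at hg ⊢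
  obtain ⟨h1, h2, h, hh, h3⟩ := hg
  exact ⟨hS₁ h1, h2, h, hS₁ hh, h3⟩

theorem autGroup_congr {S₁ : Subgroup Ω} (F : FusionSystem S) (R : FusionSystem S₁) {Q : Subgroup Ω}
    (h : R.Hom Q = F.Hom Q) : R.autGroup Q = F.autGroup Q := by
  unfold FusionSystem.autGroup
  rw [h]

/-- The full subsystem on a strongly closed central factor of `S` is saturated. -/
theorem fullSub_isSaturated [Finite S] (p : ℕ) [Fact p.Prime] (F : FusionSystem S)
    (hF : F.IsSaturated p) {S₁ Z : Subgroup Ω} (hS₁ : F.StronglyClosed S₁)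
    (hcomm : ∀ a ∈ S₁, ∀ b ∈ Z, a * b = b * a) (hsup : S₁ ⊔ Z = S)
    (R : FusionSystem S₁) (hR : ∀ P : Subgroup Ω, P ≤ S₁ → R.Hom P = F.Hom P) :
    R.IsSaturated p := by
  intro P hP
  obtain ⟨Q, ⟨φ, hφ, hφQ⟩, hfa, hrec⟩ := hF P (hP.trans hS₁.1)
  have hQ : Q ≤ S₁ := by
    rw [← hφQ]
    rintro _ ⟨x, rfl⟩
    exact hS₁.2 P hP φ hφ x
  refine ⟨Q, ⟨φ, by rw [hR P hP]; exact hφ, hφQ⟩, ⟨hQ, ?_⟩, hQ, ?_⟩
  · obtain ⟨-, T, hT⟩ := hfa
    have e1 : R.autGroup Q = F.autGroup Q := autGroup_congr F R (hR Q hQ)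
    have e2 : autInducedBy S Q = autInducedBy S₁ Q :=
      autInducedBy_eq_of_factor hS₁.1 hcomm hsup hQ
    rw [e1, ← e2]
    exact ⟨T, hT⟩
  · intro P' φ' hφ' hrange
    have hP' : P' ≤ S₁ := (R.le_of_mem hφ').1
    have hφF : φ' ∈ F.Hom P' := by rw [← hR P' hP']; exact hφ'
    obtain ⟨ψ, hψ, hψφ⟩ := hrec.2 P' φ' hφF hrange
    have hle : extender S₁ P' φ' ≤ extender S P' φ' := extender_mono hS₁.1 φ'
    refine ⟨ψ.comp (Subgroup.inclusion hle), ?_, fun x hx hN => hψφ x hx (hle hN)⟩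
    rw [hR _ (extender_le S₁ φ')]
    exact restrict_mem F hle hψ

/-- A map of the system defined on a subgroup containing a strongly closed subgroup `T` permutes `T`. -/
theorem surj_of_stronglyClosed [Finite S] (F : FusionSystem S) {T K : Subgroup Ω}
    (hT : F.StronglyClosed T) (hTK : T ≤ K) {ψ : K →* Ω} (hψ : ψ ∈ F.Hom K) {y : Ω} (hy : y ∈ T) :
    ∃ (x : Ω) (hx : x ∈ T), ψ ⟨x, hTK hx⟩ = y := by
  haveI : Finite T := finite_of_le_finite hT.1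
  have h1 := restrict_mem F hTK hψ
  have hval : ∀ x : T, (ψ.comp (Subgroup.inclusion hTK)) x ∈ T := fun x => hT.2 T le_rfl _ h1 x
  have hinj : Function.Injective ((ψ.comp (Subgroup.inclusion hTK)).codRestrict T hval) := by
    intro a b hab
    apply F.injective_of_mem h1
    exact congrArg Subtype.val hab
  obtain ⟨x, hx⟩ := Finite.surjective_of_injective hinj ⟨y, hy⟩
  exact ⟨x, x.2, congrArg Subtype.val hx⟩

/-- Extension of a map onto a receptive subgroup over a centralizing subgroup. -/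
theorem exists_ext_of_receptive (F : FusionSystem S) {Q P C : Subgroup Ω} (hrec : F.IsReceptive Q)
    {θ : P →* Ω} (hθ : θ ∈ F.Hom P) (hrange : θ.range = Q) (hC : C ≤ centralizerIn S P) :
    ∃ θ' ∈ F.Hom (P ⊔ C), ∀ x : P, θ' (Subgroup.inclusion le_sup_left x) = θ x := by
  obtain ⟨ψ, hψ, hψφ⟩ := hrec.2 P θ hθ hrange
  have hle : P ⊔ C ≤ extender S P θ :=
    sup_le (le_extender F hθ) (hC.trans (centralizerIn_le_extender θ))
  exact ⟨ψ.comp (Subgroup.inclusion hle), restrict_mem F hle hψ, fun x => hψφ x x.2 _⟩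

/-- In a saturated system, a map between subgroups of a strongly closed `T₁` extends over a strongly
closed subgroup `T₂` centralizing `T₁`. -/
theorem exists_ext_factor [Finite S] (p : ℕ) [Fact p.Prime] (F : FusionSystem S)
    (hF : F.IsSaturated p) {T₁ T₂ : Subgroup Ω} (h₁ : F.StronglyClosed T₁) (h₂ : F.StronglyClosed T₂)
    (hcomm : ∀ a ∈ T₁, ∀ b ∈ T₂, a * b = b * a) {P : Subgroup Ω} (hP : P ≤ T₁) {φ : P →* Ω}
    (hφ : φ ∈ F.Hom P) :
    ∃ φ' ∈ F.Hom (P ⊔ T₂), ∀ x : P, φ' (Subgroup.inclusion le_sup_left x) = φ x := by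
  have hcent : ∀ R : Subgroup Ω, R ≤ T₁ → T₂ ≤ centralizerIn S R := by
    intro R hR b hb
    rw [mem_centralizerIn]
    exact ⟨h₂.1 hb, fun x hx => hcomm x (hR hx) b hb⟩
  have hrT : φ.range ≤ T₁ := by
    rintro _ ⟨x, rfl⟩
    exact h₁.2 P hP φ hφ x
  obtain ⟨Q', ⟨χ, hχ, hχQ⟩, -, hrec⟩ := hF φ.range (range_le F hφ)
  have hval : ∀ x : P, φ x ∈ φ.range := fun x => ⟨x, rfl⟩
  have hθ : χ.comp (φ.codRestrict φ.range hval) ∈ F.Hom P := F.comp_mem hφ hχ hval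
  have hθr : (χ.comp (φ.codRestrict φ.range hval)).range = Q' := by
    rw [← hχQ]
    ext y
    constructor
    · rintro ⟨x, rfl⟩
      exact ⟨_, rfl⟩
    · rintro ⟨⟨_, x, rfl⟩, rfl⟩
      exact ⟨x, rfl⟩
  obtain ⟨θ', hθ', hθ'P⟩ := exists_ext_of_receptive F hrec hθ hθr (hcent P hP)
  obtain ⟨χ', hχ', hχ'P⟩ := exists_ext_of_receptive F hrec hχ hχQ (hcent φ.range hrT)
  obtain ⟨ω, hω, hωinv, -⟩ := exists_inv F hχ' rfl
  have hmem : ∀ z : ↥(P ⊔ T₂), θ' z ∈ χ'.range := by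
    rintro ⟨z, hz⟩
    have : ∀ hz : z ∈ P ⊔ T₂, θ' ⟨z, hz⟩ ∈ χ'.range := by
      refine sup_induction (C := fun z => ∀ hz : z ∈ P ⊔ T₂, θ' ⟨z, hz⟩ ∈ χ'.range) ?_ ?_ ?_ hz
      · intro x hx hz
        have e : θ' ⟨x, hz⟩ = χ ⟨φ ⟨x, hx⟩, hval _⟩ := hθ'P ⟨x, hx⟩
        rw [e, ← hχ'P]
        exact ⟨_, rfl⟩
      · intro x hx hz
        have h1 : θ' ⟨x, hz⟩ ∈ T₂ := by
          have := h₂.2 T₂ le_rfl _ (restrict_mem F (le_sup_right : T₂ ≤ P ⊔ T₂) hθ') ⟨x, hx⟩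
          exact this
        obtain ⟨w, hw, hwe⟩ := surj_of_stronglyClosed F h₂ (le_sup_right : T₂ ≤ φ.range ⊔ T₂) hχ' h1
        exact ⟨_, hwe⟩
      · intro a b ha hb hCa hCb hab
        have e : (⟨a * b, hab⟩ : ↥(P ⊔ T₂)) = ⟨a, ha⟩ * ⟨b, hb⟩ := rfl
        rw [e, map_mul]
        exact Subgroup.mul_mem _ (hCa ha) (hCb hb)
    exact this hz
  refine ⟨ω.comp (θ'.codRestrict χ'.range hmem), F.comp_mem hθ' hω hmem, fun x => ?_⟩
  have e1 : θ' (Subgroup.inclusion le_sup_left x) =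
      χ' (Subgroup.inclusion le_sup_left ⟨φ x, hval x⟩) := by
    rw [hθ'P, hχ'P]
    rfl
  have h2 := hωinv (Subgroup.inclusion le_sup_left ⟨φ x, hval x⟩) ⟨_, rfl⟩
  show ω ⟨θ' (Subgroup.inclusion le_sup_left x), _⟩ = φ x
  rw [hom_congr_val ω (hmem _) ⟨_, rfl⟩ e1, h2]
  rfl

end Cfsg.Agent.Helper25
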