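import Mathlib
import Cfsg.Prelude.Def_FusionSystem
import Cfsg.Agent.Lib.Helper25.FusionProduct

/-!
# Strong invariance of `C_F(T₂)|_{T₁}` for commuting strongly closed `T₁`, `T₂` (helper25)
-/

set_option autoImplicit false

namespace Cfsg.Agent.Helper25

open Cfsg Cfsg.FusionSystem

variable {Ω : Type*} [Group Ω] {S : Subgroup Ω}

theorem range_comp_inclusion {K L : Subgroup Ω} (hLK : L ≤ K) (ψ : K →* Ω) :
    (ψ.comp (Subgroup.inclusion hLK)).range = (L.subgroupOf K).map ψ := by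
  ext y
  constructor
  · rintro ⟨l, rfl⟩
    exact ⟨Subgroup.inclusion hLK l, Subgroup.mem_subgroupOf.mpr l.2, rfl⟩
  · rintro ⟨k, hk, rfl⟩
    exact ⟨⟨(k : Ω), Subgroup.mem_subgroupOf.mp hk⟩, rfl⟩

theorem restrict_apply' {A B : Subgroup Ω} (hAB : A ≤ B) (χ : B →* Ω) (y : Ω) (hy : y ∈ A) :
    (χ.comp (Subgroup.inclusion hAB)) ⟨y, hy⟩ = χ ⟨y, hAB hy⟩ := rfl

/-- The conjugate `ψ φ ψ⁻¹` of a map `φ` on `L ≤ K` by a map `ψ` on `K`. -/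
theorem exists_conj_map (F : FusionSystem S) {K L : Subgroup Ω} (hLK : L ≤ K) {ψ : K →* Ω}
    (hψ : ψ ∈ F.Hom K) {φ : L →* Ω} (hφ : φ ∈ F.Hom L) (hφK : ∀ l : L, φ l ∈ K) :
    ∃ χ ∈ F.Hom ((L.subgroupOf K).map ψ),
      ∀ (l : L) (hl : ψ (Subgroup.inclusion hLK l) ∈ (L.subgroupOf K).map ψ),
        χ ⟨ψ (Subgroup.inclusion hLK l), hl⟩ = ψ ⟨φ l, hφK l⟩ := by
  have hψL := restrict_mem F hLK hψ
  obtain ⟨ω, hω, hωinv, hωr⟩ := exists_inv F hψL (range_comp_inclusion hLK ψ)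
  have hωL : ∀ y, ω y ∈ L := fun y => by
    have h : ω y ∈ ω.range := ⟨y, rfl⟩
    rwa [hωr] at h
  have h1 := F.comp_mem hω hφ hωL
  have h2 : ∀ y, (φ.comp (ω.codRestrict L hωL)) y ∈ K := fun y => hφK _
  have h3 := F.comp_mem h1 hψ h2
  refine ⟨_, h3, fun l hl => ?_⟩
  show ψ ⟨φ ⟨ω ⟨ψ (Subgroup.inclusion hLK l), hl⟩, _⟩, _⟩ = ψ ⟨φ l, hφK l⟩
  have e : ω ⟨ψ (Subgroup.inclusion hLK l), hl⟩ = (l : Ω) := hωinv l hl
  congr 1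
  apply Subtype.ext
  show φ ⟨ω ⟨ψ (Subgroup.inclusion hLK l), hl⟩, _⟩ = φ l
  congr 1
  exact Subtype.ext e

theorem strongInv_centralizer [Finite S] (p : ℕ) [Fact p.Prime] (F : FusionSystem S)
    (hF : F.IsSaturated p) {T₁ T₂ : Subgroup Ω} (h₁ : F.StronglyClosed T₁)
    (h₂ : F.StronglyClosed T₂) (hcomm : ∀ a ∈ T₁, ∀ b ∈ T₂, a * b = b * a)
    (R' : FusionSystem T₁) (hR' : ∀ P : Subgroup Ω, P ≤ T₁ → R'.Hom P = F.centralizerHom T₂ P) :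
    StrongInv F R' := by
  intro P Q hPQ hQT φ hφ hφQ ψ hψ
  have hPT : P ≤ T₁ := hPQ.trans hQT
  rw [hR' P hPT] at hφ
  obtain ⟨hφF, hPc, hφc, φ', hφ', hφ'P, hφ'T⟩ := hφ
  obtain ⟨ψ', hψ', hψ'Q⟩ := exists_ext_factor p F hF h₁ h₂ hcomm hQT hψ
  have hT₁c : T₁ ≤ centralizerIn S T₂ := by
    intro a ha
    rw [mem_centralizerIn]
    exact ⟨h₁.1 ha, fun b hb => (hcomm a ha b hb).symm⟩
  -- the image of P
  have hA : (P.subgroupOf Q).map ψ ≤ T₁ := by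
    rintro _ ⟨x, hx, rfl⟩
    exact h₁.2 Q hQT ψ hψ x
  have hLK : P ⊔ T₂ ≤ Q ⊔ T₂ := sup_le_sup_right hPQ T₂
  have hφ'K : ∀ l : ↥(P ⊔ T₂), φ' l ∈ Q ⊔ T₂ := by
    rintro ⟨z, hz⟩
    have : ∀ hz : z ∈ P ⊔ T₂, φ' ⟨z, hz⟩ ∈ Q ⊔ T₂ := by
      refine sup_induction (C := fun z => ∀ hz : z ∈ P ⊔ T₂, φ' ⟨z, hz⟩ ∈ Q ⊔ T₂) ?_ ?_ ?_ hz
      · intro x hx hz
        have e : φ' ⟨x, hz⟩ = φ ⟨x, hx⟩ := hφ'P ⟨x, hx⟩
        rw [e]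
        exact le_sup_left (a := Q) (hφQ _)
      · intro x hx hz
        have e : φ' ⟨x, hz⟩ = x := hφ'T ⟨x, hx⟩
        rw [e]
        exact le_sup_right (a := Q) hx
      · intro a b ha hb hCa hCb hab
        have e : (⟨a * b, hab⟩ : ↥(P ⊔ T₂)) = ⟨a, ha⟩ * ⟨b, hb⟩ := rfl
        rw [e, map_mul]
        exact Subgroup.mul_mem _ (hCa ha) (hCb hb)
    exact this hz
  obtain ⟨χ', hχ', hχ'v⟩ := exists_conj_map F hLK hψ' hφ' hφ'K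
  -- identify the source of χ'
  have hB : (P.subgroupOf Q).map ψ ⊔ T₂ = ((P ⊔ T₂).subgroupOf (Q ⊔ T₂)).map ψ' := by
    apply le_antisymm
    · apply sup_le
      · rintro _ ⟨x, hx, rfl⟩
        refine ⟨⟨(x : Ω), le_sup_left (b := T₂) (hPQ (Subgroup.mem_subgroupOf.mp hx))⟩,
          Subgroup.mem_subgroupOf.mpr (le_sup_left (b := T₂) (Subgroup.mem_subgroupOf.mp hx)), ?_⟩
        exact hψ'Q x
      · intro z hz
        obtain ⟨w, hw, hwe⟩ := surj_of_stronglyClosed F h₂ (le_sup_right : T₂ ≤ Q ⊔ T₂) hψ' hz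
        exact ⟨⟨w, le_sup_right (a := Q) hw⟩,
          Subgroup.mem_subgroupOf.mpr (le_sup_right (a := P) hw), hwe⟩
    · rintro _ ⟨⟨z, hzK⟩, hz, rfl⟩
      have hz' : z ∈ P ⊔ T₂ := Subgroup.mem_subgroupOf.mp hz
      have : ∀ hzK : z ∈ Q ⊔ T₂, ψ' ⟨z, hzK⟩ ∈ (P.subgroupOf Q).map ψ ⊔ T₂ := by
        refine sup_induction
          (C := fun z => ∀ hzK : z ∈ Q ⊔ T₂, ψ' ⟨z, hzK⟩ ∈ (P.subgroupOf Q).map ψ ⊔ T₂) ?_ ?_ ?_ hz'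
        · intro x hx hzK
          have e : ψ' ⟨x, hzK⟩ = ψ ⟨x, hPQ hx⟩ := hψ'Q ⟨x, hPQ hx⟩
          rw [e]
          exact le_sup_left (b := T₂) ⟨⟨x, hPQ hx⟩, Subgroup.mem_subgroupOf.mpr hx, rfl⟩
        · intro x hx hzK
          have := h₂.2 T₂ le_rfl _ (restrict_mem F (le_sup_right : T₂ ≤ Q ⊔ T₂) hψ') ⟨x, hx⟩
          exact le_sup_right (a := (P.subgroupOf Q).map ψ) this
        · intro a b ha hb hCa hCb hab
          have haK : a ∈ Q ⊔ T₂ := hLK ha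
          have hbK : b ∈ Q ⊔ T₂ := hLK hb
          have e : (⟨a * b, hab⟩ : ↥(Q ⊔ T₂)) = ⟨a, haK⟩ * ⟨b, hbK⟩ := rfl
          rw [e, map_mul]
          exact Subgroup.mul_mem _ (hCa haK) (hCb hbK)
      exact this hzK
  have hχ'' := hom_transport F hB hχ'
  refine ⟨(χ'.comp (Subgroup.inclusion hB.le)).comp (Subgroup.inclusion le_sup_left), ?_, ?_⟩
  · rw [hR' _ hA]
    refine ⟨restrict_mem F le_sup_left hχ'', hA.trans hT₁c, ?_, χ'.comp (Subgroup.inclusion hB.le),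
      hχ'', fun x => rfl, ?_⟩
    · rintro ⟨y, hy⟩
      obtain ⟨x, hx, hxy⟩ := id hy
      have hxP : (x : Ω) ∈ P := Subgroup.mem_subgroupOf.mp hx
      have hl := hχ'v ⟨(x : Ω), le_sup_left (b := T₂) hxP⟩
      have e1 : ψ' (Subgroup.inclusion hLK ⟨(x : Ω), le_sup_left (b := T₂) hxP⟩) = y :=
        (hψ'Q x).trans hxy
      have hmem : ψ' (Subgroup.inclusion hLK ⟨(x : Ω), le_sup_left (b := T₂) hxP⟩) ∈
          ((P ⊔ T₂).subgroupOf (Q ⊔ T₂)).map ψ' :=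
        ⟨_, Subgroup.mem_subgroupOf.mpr (le_sup_left (b := T₂) hxP), rfl⟩
      have h2 := hl hmem
      rw [restrict_apply', restrict_apply', hom_congr_val χ' _ hmem e1.symm, h2]
      have e2 : φ' ⟨(x : Ω), le_sup_left (b := T₂) hxP⟩ = φ ⟨x, hxP⟩ := hφ'P ⟨x, hxP⟩
      have h3 : ψ' ⟨φ' ⟨(x : Ω), le_sup_left (b := T₂) hxP⟩, hφ'K _⟩ =
          ψ ⟨φ ⟨x, hxP⟩, hφQ _⟩ := by
        rw [← hψ'Q ⟨φ ⟨x, hxP⟩, hφQ _⟩]
        congr 1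
        exact Subtype.ext e2
      rw [h3]
      exact hT₁c (h₁.2 Q hQT ψ hψ _)
    · rintro ⟨z, hz⟩
      obtain ⟨w, hw, hwe⟩ := surj_of_stronglyClosed F h₂ (le_sup_right : T₂ ≤ Q ⊔ T₂) hψ' hz
      have hmem : ψ' (Subgroup.inclusion hLK ⟨w, le_sup_right (a := P) hw⟩) ∈
          ((P ⊔ T₂).subgroupOf (Q ⊔ T₂)).map ψ' :=
        ⟨_, Subgroup.mem_subgroupOf.mpr (le_sup_right (a := P) hw), rfl⟩
      have h2 := hχ'v ⟨w, le_sup_right (a := P) hw⟩ hmem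
      have e1 : ψ' (Subgroup.inclusion hLK ⟨w, le_sup_right (a := P) hw⟩) = z := hwe
      show (χ'.comp (Subgroup.inclusion hB.le)) ⟨z, _⟩ = z
      rw [restrict_apply', hom_congr_val χ' _ hmem e1.symm, h2]
      have e2 : φ' ⟨w, le_sup_right (a := P) hw⟩ = w := hφ'T ⟨w, hw⟩
      rw [← hwe]
      congr 1
      exact Subtype.ext e2
  · rintro ⟨x, hxP⟩ hx
    have hmem : ψ' (Subgroup.inclusion hLK ⟨(x : Ω), le_sup_left (b := T₂) hxP⟩) ∈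
        ((P ⊔ T₂).subgroupOf (Q ⊔ T₂)).map ψ' :=
      ⟨_, Subgroup.mem_subgroupOf.mpr (le_sup_left (b := T₂) hxP), rfl⟩
    have h2 := hχ'v ⟨(x : Ω), le_sup_left (b := T₂) hxP⟩ hmem
    have e1 : ψ' (Subgroup.inclusion hLK ⟨(x : Ω), le_sup_left (b := T₂) hxP⟩) =
        ψ (Subgroup.inclusion hPQ ⟨x, hxP⟩) := hψ'Q (Subgroup.inclusion hPQ ⟨x, hxP⟩)
    rw [restrict_apply', restrict_apply', hom_congr_val χ' _ hmem e1.symm, h2]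
    have e2 : φ' ⟨(x : Ω), le_sup_left (b := T₂) hxP⟩ = φ ⟨x, hxP⟩ := hφ'P ⟨x, hxP⟩
    rw [← hψ'Q ⟨φ ⟨x, hxP⟩, hφQ ⟨x, hxP⟩⟩]
    congr 1
    exact Subtype.ext e2

end Cfsg.Agent.Helper25
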