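import Mathlib
import Cfsg.Prelude.Def_FusionSystem
import Cfsg.Prelude.Def_TwoFusion
import Cfsg.Agent.Lib.Helper25.FusionProduct2
import Cfsg.Agent.Lib.Helper25.KNorm7

/-!
# Direct products of strongly closed subgroups: saturation and normality of the factors (helper25)
-/

set_option autoImplicit false

namespace Cfsg.Agent.Helper25

open Cfsg Cfsg.FusionSystem

variable {Ω : Type*} [Group Ω] {S : Subgroup Ω}

theorem range_eq_of_le {K : Subgroup Ω} [Finite K] {ψ : K →* Ω} (hinj : Function.Injective ψ)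
    (hle : ψ.range ≤ K) : ψ.range = K := by
  apply Subgroup.eq_of_le_of_card_ge hle
  rw [Nat.card_congr (MonoidHom.ofInjective hinj).toEquiv]

/-- An automorphism of the system on `U` from a map of the system `U → U`. -/
theorem exists_aut_of_hom [Finite S] (F : FusionSystem S) {U : Subgroup Ω} {ψ : U →* Ω}
    (hψ : ψ ∈ F.Hom U) (hval : ∀ x, ψ x ∈ U) :
    ∃ β ∈ F.autGroup U, ∀ x : U, ((β x : U) : Ω) = ψ x := by
  have hUS : U ≤ S := (F.le_of_mem hψ).1
  haveI : Finite U := finite_of_le_finite hUS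
  have hrange : ψ.range = U := by
    apply range_eq_of_le (F.injective_of_mem hψ)
    rintro _ ⟨x, rfl⟩
    exact hval x
  refine ⟨(homEquiv F hψ).trans (MulEquiv.subgroupCongr hrange), ?_, fun x => rfl⟩
  rw [mem_autGroup_iff F hUS]
  have : U.subtype.comp ((homEquiv F hψ).trans (MulEquiv.subgroupCongr hrange)).toMonoidHom = ψ := by
    ext x
    rfl
  rw [this]
  exact hψ

theorem center_aut_mem {T : Subgroup Ω} (α : MulAut T) {a : T}
    (ha : (a : Ω) ∈ Subgroup.centralizer (T : Set Ω)) :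
    ((α a : T) : Ω) ∈ T ⊓ Subgroup.centralizer (T : Set Ω) := by
  refine ⟨(α a).2, ?_⟩
  show ((α a : T) : Ω) ∈ Subgroup.centralizer (T : Set Ω)
  rw [Subgroup.mem_centralizer_iff]
  intro y hy
  obtain ⟨y', hy'⟩ := α.surjective ⟨y, hy⟩
  have h1 : a * y' = y' * a := by
    apply Subtype.ext
    have := (Subgroup.mem_centralizer_iff.mp ha) y' y'.2
    exact this.symm
  have h2 : α a * α y' = α y' * α a := by rw [← map_mul, ← map_mul, h1]
  rw [hy'] at h2
  have := congrArg (fun z : T => (z : Ω)) h2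
  exact this.symm

section Product

variable [Finite S] (p : ℕ) [Fact p.Prime] (hS : IsPGroup p S) (F : FusionSystem S)
  (hF : F.IsSaturated p) {S₁ S₂ : Subgroup Ω} (hprod : IsInternalDirectProduct S₁ S₂ S)
  (h₁ : F.StronglyClosed S₁) (h₂ : F.StronglyClosed S₂)

omit [Finite S] in
include hprod in
theorem centralizerIn_factor_eq :
    S₁ ⊔ centralizerIn S₂ S₂ = centralizerIn S S₂ := by
  obtain ⟨hS₁S, hS₂S, hcomm, hinf, hsup⟩ := hprod
  apply le_antisymm
  · apply sup_le
    · intro a ha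
      rw [mem_centralizerIn]
      exact ⟨hS₁S ha, fun b hb => (hcomm a ha b hb).symm⟩
    · intro z hz
      rw [mem_centralizerIn] at hz ⊢
      exact ⟨hS₂S hz.1, hz.2⟩
  · intro g hg
    rw [mem_centralizerIn] at hg
    have hg' : g ∈ S₁ ⊔ S₂ := by rw [hsup]; exact hg.1
    obtain ⟨a, ha, b, hb, rfl⟩ := exists_mul_of_mem_sup_commute hcomm hg'
    refine Subgroup.mul_mem _ (le_sup_left (b := centralizerIn S₂ S₂) ha)
      (le_sup_right (a := S₁) ?_)
    rw [mem_centralizerIn]
    refine ⟨hb, fun y hy => ?_⟩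
    have h1 := hg.2 y hy
    have h2 := hcomm a ha y hy
    -- y * (a * b) = (a * b) * y, a y = y a ⇒ y b = b y
    have : a * (y * b) = a * (b * y) := by
      calc a * (y * b) = (a * y) * b := by group
        _ = (y * a) * b := by rw [h2]
        _ = y * (a * b) := by group
        _ = a * b * y := h1
        _ = a * (b * y) := by group
    exact mul_left_cancel this

include hprod h₂ in
theorem isFullyCentralized_factor : F.IsFullyCentralized S₂ := by
  obtain ⟨hS₁S, hS₂S, hcomm, hinf, hsup⟩ := hprod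
  refine ⟨hS₂S, fun Q hQ => ?_⟩
  obtain ⟨φ, hφ, rfl⟩ := hQ
  have : φ.range = S₂ := by
    apply le_antisymm
    · rintro _ ⟨x, rfl⟩
      exact h₂.2 S₂ le_rfl φ hφ x
    · intro y hy
      obtain ⟨x, hx, hxy⟩ := surj_of_stronglyClosed F h₂ le_rfl hφ hy
      exact ⟨_, hxy⟩
  rw [this]

include hS hF hprod h₁ h₂ in
/-- `C_F(S₂)` restricted to `S₁` is saturated. -/
theorem centralizer_factor_isSaturated (R' : FusionSystem S₁)
    (hR' : ∀ P : Subgroup Ω, P ≤ S₁ → R'.Hom P = F.centralizerHom S₂ P) : R'.IsSaturated p := by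
  have hprod' := hprod
  obtain ⟨hS₁S, hS₂S, hcomm, hinf, hsup⟩ := hprod
  have hfc := isFullyCentralized_factor F hprod' h₂
  have hCsat := centralizerSystem_isSaturated p hS F hF hfc (centSys F S₂ hS₂S)
    (isCentralizerSystem_centSys F S₂ hS₂S)
  haveI : Finite ↥(centralizerIn S S₂) := finite_of_le_finite centralizerIn_le
  have hS₁c : S₁ ≤ centralizerIn S S₂ := by
    intro a ha
    rw [mem_centralizerIn]
    exact ⟨hS₁S ha, fun b hb => (hcomm a ha b hb).symm⟩
  refine fullSub_isSaturated p (centSys F S₂ hS₂S) hCsat (S₁ := S₁) (Z := centralizerIn S₂ S₂)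
    ⟨hS₁c, fun R₀ hR₀ φ hφ x => h₁.2 R₀ hR₀ φ hφ.1 x⟩ ?_ (centralizerIn_factor_eq hprod') R' ?_
  · intro a ha b hb
    exact hcomm a ha b (centralizerIn_le hb)
  · intro P hP
    rw [hR' P hP]
    rfl

end Product

end Cfsg.Agent.Helper25
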