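import Mathlib
import Cfsg.Agent.Lib.Helper25.StronglyEmbedded
import Cfsg.Agent.Lib.Helper25.FusionInner

set_option autoImplicit false

namespace Cfsg.Agent.Helper25

open Cfsg Cfsg.FusionSystem

variable {X : Type*} [Group X]

theorem card_lt_card_of_le_of_mem_not_mem [Finite X] {D L : Subgroup X} (hDL : D ≤ L) {g : X}
    (hgL : g ∈ L) (hgD : g ∉ D) : Nat.card D < Nat.card L := by
  by_contra hcon
  push Not at hcon
  have := Subgroup.eq_of_le_of_card_ge hDL hcon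
  exact hgD (this ▸ hgL)

/-- Key property of a subgroup `M` containing the normalizers of all nontrivial subgroups of a Sylow
`p`-subgroup `R`: an element `y` with `R ∩ yRy⁻¹ ≠ 1` lies in `M`. -/
theorem mem_of_inf_conjBy_ne_bot_aux [Finite X] (p : ℕ) [Fact p.Prime] {R M : Subgroup X}
    (hR : IsSylowIn p R ⊤)
    (hN : ∀ Q : Subgroup X, Q ≤ R → Q ≠ ⊥ → Subgroup.normalizer (Q : Set X) ≤ M) :
    ∀ (n : ℕ) (y : X), Nat.card R - Nat.card ↥(R ⊓ Cfsg.conjBy R y) = n →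
      R ⊓ Cfsg.conjBy R y ≠ ⊥ → y ∈ M := by
  intro n
  induction n using Nat.strong_induction_on with
  | _ n ih =>
  intro y hn hD
  set D := R ⊓ Cfsg.conjBy R y with hDdef
  have hRp : IsPGroup p R := hR.2.1
  have hR'p : IsPGroup p ↥(Cfsg.conjBy R y) := isPGroup_conjBy hRp y
  have hcardR' : Nat.card ↥(Cfsg.conjBy R y) = Nat.card R := card_conjBy R y
  by_cases hDR : D = R
  · have hle : R ≤ Cfsg.conjBy R y := by
      have h1 : D ≤ Cfsg.conjBy R y := inf_le_right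
      rwa [hDR] at h1
    have heq : R = Cfsg.conjBy R y := Subgroup.eq_of_le_of_card_ge hle (le_of_eq hcardR')
    have hyN : y ∈ Subgroup.normalizer (R : Set X) := mem_normalizer_iff_conjBy.mpr heq.symm
    exact hN R le_rfl (by rw [← hDR]; exact hD) hyN
  · have hDleR : D ≤ R := inf_le_left
    have hDleR' : D ≤ Cfsg.conjBy R y := inf_le_right
    have hDR' : D ≠ Cfsg.conjBy R y := by
      intro h
      apply hDR
      have hle : Cfsg.conjBy R y ≤ R := by rw [← h]; exact hDleR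
      have : Cfsg.conjBy R y = R := Subgroup.eq_of_le_of_card_ge hle (le_of_eq hcardR'.symm)
      rw [h, this]
    obtain ⟨g₁, hg₁N, hg₁D⟩ := exists_mem_normalizerIn_not_mem hRp hDleR hDR
    obtain ⟨g₂, hg₂N, hg₂D⟩ := exists_mem_normalizerIn_not_mem hR'p hDleR' hDR'
    set N := Subgroup.normalizer (D : Set X) with hNdef
    have hNM : N ≤ M := hN D hDleR hD
    have hDN : D ≤ N := Subgroup.le_normalizer
    set L₁ := normalizerIn R D with hL₁
    set L₂ := normalizerIn (Cfsg.conjBy R y) D with hL₂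
    have hL₁N : L₁ ≤ N := inf_le_right
    have hL₂N : L₂ ≤ N := inf_le_right
    have hL₁p : IsPGroup p L₁ := hRp.to_le inf_le_left
    have hL₂p : IsPGroup p L₂ := hR'p.to_le inf_le_left
    have hDL₁ : D ≤ L₁ := le_inf hDleR hDN
    have hDL₂ : D ≤ L₂ := le_inf hDleR' hDN
    have hcard₁ : Nat.card D < Nat.card L₁ := card_lt_card_of_le_of_mem_not_mem hDL₁ hg₁N hg₁D
    have hcard₂ : Nat.card D < Nat.card L₂ := card_lt_card_of_le_of_mem_not_mem hDL₂ hg₂N hg₂D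
    obtain ⟨T₁, hT₁, hLT₁⟩ := exists_isSylowIn_ge hL₁N hL₁p
    obtain ⟨T₂, hT₂, hLT₂⟩ := exists_isSylowIn_ge hL₂N hL₂p
    obtain ⟨k, hkN, hk⟩ := hT₁.exists_conj_le hT₂.1 hT₂.2.1
    obtain ⟨z, -, hz⟩ := hR.exists_conj_le (le_top : T₁ ≤ ⊤) hT₁.2.1
    have hT₁le : T₁ ≤ Cfsg.conjBy R z⁻¹ := conjBy_le_iff.mp hz
    have hcardD_pos : 0 < Nat.card D := Nat.card_pos
    have hcardDle : Nat.card D ≤ Nat.card R := Subgroup.card_le_of_le hDleR
    -- generic use of the induction hypothesis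
    have IH : ∀ w : X, ∀ L : Subgroup X, L ≤ R ⊓ Cfsg.conjBy R w → Nat.card D < Nat.card L → w ∈ M := by
      intro w L hL hcard
      have h1 : Nat.card L ≤ Nat.card ↥(R ⊓ Cfsg.conjBy R w) := Subgroup.card_le_of_le hL
      have h2 : Nat.card ↥(R ⊓ Cfsg.conjBy R w) ≤ Nat.card R := Subgroup.card_le_of_le inf_le_left
      refine ih (Nat.card R - Nat.card ↥(R ⊓ Cfsg.conjBy R w)) (by omega) w rfl ?_
      intro hbot
      rw [hbot, Subgroup.card_bot] at h1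
      omega
    -- z⁻¹ ∈ M
    have hzM : z⁻¹ ∈ M := IH z⁻¹ L₁ (le_inf inf_le_left (hLT₁.trans hT₁le)) hcard₁
    -- second conjugation
    have hT₂le : T₂ ≤ Cfsg.conjBy R (k⁻¹ * z⁻¹) := by
      have h1 : T₂ ≤ Cfsg.conjBy T₁ k⁻¹ := conjBy_le_iff.mp hk
      have h2 : Cfsg.conjBy T₁ k⁻¹ ≤ Cfsg.conjBy (Cfsg.conjBy R z⁻¹) k⁻¹ := conjBy_mono hT₁le _
      rw [conjBy_conjBy] at h2
      exact h1.trans h2
    set w := k⁻¹ * z⁻¹ with hw
    have hwM : w ∈ M := M.mul_mem (M.inv_mem (hNM hkN)) hzM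
    have hL₂le : L₂ ≤ Cfsg.conjBy R y ⊓ Cfsg.conjBy R w := le_inf inf_le_left (hLT₂.trans hT₂le)
    have hconj : Cfsg.conjBy L₂ y⁻¹ ≤ R ⊓ Cfsg.conjBy R (y⁻¹ * w) := by
      have h1 := conjBy_mono hL₂le y⁻¹
      rw [conjBy_inf, conjBy_conjBy, conjBy_conjBy, inv_mul_cancel, conjBy_one] at h1
      exact h1
    have hyw : y⁻¹ * w ∈ M := IH (y⁻¹ * w) (Cfsg.conjBy L₂ y⁻¹) hconj (by rw [card_conjBy]; exact hcard₂)
    have : y = w * (y⁻¹ * w)⁻¹ := by group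
    rw [this]
    exact M.mul_mem hwM (M.inv_mem hyw)

theorem mem_of_inf_conjBy_ne_bot [Finite X] (p : ℕ) [Fact p.Prime] {R M : Subgroup X}
    (hR : IsSylowIn p R ⊤)
    (hN : ∀ Q : Subgroup X, Q ≤ R → Q ≠ ⊥ → Subgroup.normalizer (Q : Set X) ≤ M) {y : X}
    (h : R ⊓ Cfsg.conjBy R y ≠ ⊥) : y ∈ M :=
  mem_of_inf_conjBy_ne_bot_aux p hR hN _ y rfl h

/-- From the `Γ_{R,1}` formulation to normalizers of nontrivial subgroups. -/
theorem normalizer_le_of_kGeneratedCore_le [Finite X] (p : ℕ) [Fact p.Prime] (R : Sylow p X)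
    {M : Subgroup X} (h : kGeneratedCore p 1 (R : Subgroup X) ≤ M) {Q : Subgroup X}
    (hQR : Q ≤ (R : Subgroup X)) (hQ : Q ≠ ⊥) : Subgroup.normalizer (Q : Set X) ≤ M := by
  have hQp : IsPGroup p Q := R.isPGroup'.to_le hQR
  have h1 : ¬ PRankLE p (1 - 1) Q := not_pRankLE_zero_of_ne_bot p hQp hQ
  have h2 : Subgroup.normalizer ((Q : Subgroup X) : Set X) ≤ kGeneratedCore p 1 (R : Subgroup X) :=
    le_iSup (fun Q : {Q : Subgroup X // Q ≤ (R : Subgroup X) ∧ ¬ PRankLE p (1 - 1) Q} =>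
      Subgroup.normalizer ((Q : Subgroup X) : Set X)) ⟨Q, hQR, h1⟩
  exact h2.trans h

end Cfsg.Agent.Helper25
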