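import Mathlib
import Cfsg.Prelude.Def_FusionSystem
import Cfsg.Agent.Lib.Helper25.FusionAlperin
import Cfsg.Agent.Lib.Helper25.StronglyEmbedded2

set_option autoImplicit false

namespace Cfsg.Agent.Helper25

open Cfsg Cfsg.FusionSystem

variable {Ω : Type*} [Group Ω] {S : Subgroup Ω}

/-- Facts on `Out_F(P)` for a proper fully normalized subgroup `P` containing its centralizer. -/
theorem out_facts [Finite S] (p : ℕ) [Fact p.Prime] (hS : IsPGroup p S)
    (F : FusionSystem S) (hF : F.IsSaturated p) {P : Subgroup Ω} (hne : P ≠ S)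
    (hFN : F.IsFullyNormalized P) (hcen : centralizerIn S P ≤ P)
    [hnorm : ((Inn P).subgroupOf (F.autGroup P)).Normal] :
    ∃ Rbar : Sylow p (↥(F.autGroup P) ⧸ (Inn P).subgroupOf (F.autGroup P)),
      (∀ a : ↥(F.autGroup P), QuotientGroup.mk' ((Inn P).subgroupOf (F.autGroup P)) a ∈
        (Rbar : Subgroup _) ↔ (a : MulAut P) ∈ autInducedBy S P) ∧
      p ∣ Nat.card (↥(F.autGroup P) ⧸ (Inn P).subgroupOf (F.autGroup P)) ∧
      kGeneratedCore p 1 (Rbar : Subgroup (↥(F.autGroup P) ⧸ (Inn P).subgroupOf (F.autGroup P))) ≤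
        ((Subgroup.closure (extSet F P)).subgroupOf (F.autGroup P)).map
          (QuotientGroup.mk' ((Inn P).subgroupOf (F.autGroup P))) := by
  obtain ⟨hFC, hFA, hRec⟩ := of_fullyNormalized p hS F hF hFN
  have hPS : P ≤ S := hFN.1
  haveI : Finite P := finite_of_le_finite hPS
  set H := Subgroup.closure (extSet F P) with hH
  set I := (Inn P).subgroupOf (F.autGroup P) with hI
  set Hbar := (H.subgroupOf (F.autGroup P)).map (QuotientGroup.mk' I) with hHbar
  -- the Sylow subgroup of Out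
  obtain ⟨R, hR⟩ := hFA.2
  set Rbar : Sylow p (↥(F.autGroup P) ⧸ I) := R.mapSurjective (QuotientGroup.mk'_surjective I)
    with hRbar
  have hRbar_coe : (Rbar : Subgroup (↥(F.autGroup P) ⧸ I)) =
      ((autInducedBy S P).subgroupOf (F.autGroup P)).map (QuotientGroup.mk' I) := by
    rw [hRbar, Sylow.coe_mapSurjective, hR]
  -- membership in Rbar gives an element of Aut_S(P)
  have hmemR : ∀ a : ↥(F.autGroup P), QuotientGroup.mk' I a ∈ (Rbar : Subgroup _) →
      (a : MulAut P) ∈ autInducedBy S P := by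
    intro a ha
    rw [hRbar_coe] at ha
    obtain ⟨b, hb, hba⟩ := ha
    have hbi : b⁻¹ * a ∈ I := by
      rw [← QuotientGroup.eq_one_iff, ← QuotientGroup.mk'_apply, map_mul, map_inv, hba]; simp
    have hbi' : ((b⁻¹ * a : ↥(F.autGroup P)) : MulAut P) ∈ autInducedBy S P :=
      inn_le_autInducedBy hPS (Subgroup.mem_subgroupOf.mp hbi)
    have : (a : MulAut P) = (b : MulAut P) * ((b⁻¹ * a : ↥(F.autGroup P)) : MulAut P) := by
      simp
    rw [this]
    exact Subgroup.mul_mem _ (Subgroup.mem_subgroupOf.mp hb) hbi'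
  -- an element of N_S(P) outside P
  obtain ⟨g₀, hg₀N, hg₀P⟩ := exists_mem_normalizerIn_not_mem hS hPS hne
  -- key: normalizers of nontrivial subgroups of Rbar lie in Hbar
  have hkey : kGeneratedCore p 1 (Rbar : Subgroup (↥(F.autGroup P) ⧸ I)) ≤ Hbar := by
    apply iSup_le
    rintro ⟨Q, hQR, hQrank⟩
    have hQne : Q ≠ ⊥ := by
      rintro rfl
      apply hQrank
      intro A' _ _
      haveI : Subsingleton (↥(⊥ : Subgroup (↥(F.autGroup P) ⧸ I))) := inferInstance
      simp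
    obtain ⟨⟨ybar, hyQ⟩, hy1⟩ := (Subgroup.ne_bot_iff_exists_ne_one.mp hQne)
    have hy1' : ybar ≠ 1 := fun h => hy1 (Subtype.ext h)
    obtain ⟨b, rfl⟩ := QuotientGroup.mk'_surjective I ybar
    have hbS : (b : MulAut P) ∈ autInducedBy S P := hmemR b (hQR hyQ)
    obtain ⟨g, hgS, hg⟩ := (mem_autInducedBy_iff _).mp hbS
    have hgN : g ∈ Subgroup.normalizer (P : Set Ω) := mem_normalizer_of_aut _ hg
    have hgP : g ∉ P := by
      intro hgP
      apply hy1'
      rw [QuotientGroup.mk'_apply, QuotientGroup.eq_one_iff]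
      apply Subgroup.mem_subgroupOf.mpr
      refine ⟨⟨g, hgP⟩, ?_⟩
      ext x
      rw [hg x]; rfl
    intro xbar hx
    obtain ⟨a, rfl⟩ := QuotientGroup.mk'_surjective I xbar
    have hconj : QuotientGroup.mk' I a * QuotientGroup.mk' I b * (QuotientGroup.mk' I a)⁻¹ ∈ Q :=
      (Subgroup.mem_normalizer_iff.mp hx _).mp hyQ
    have hconj' : QuotientGroup.mk' I (a * b * a⁻¹) ∈ (Rbar : Subgroup _) := by
      rw [map_mul, map_mul, map_inv]; exact hQR hconj
    have habS := hmemR _ hconj'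
    obtain ⟨h, hhS, hh⟩ := (mem_autInducedBy_iff _).mp habS
    have hgext : g ∈ extender S P (P.subtype.comp (a : MulAut P).toMonoidHom) := by
      rw [mem_extender_iff]
      refine ⟨hgS, hgN, h, hhS, fun x hx => ?_⟩
      have := hh ((a : MulAut P) x)
      show (((a : MulAut P) ⟨g * x * g⁻¹, hx⟩ : P) : Ω) = h * (((a : MulAut P) x : P) : Ω) * h⁻¹
      rw [← this]
      congr 1
      show (a : MulAut P) ⟨g * x * g⁻¹, hx⟩ =
        ((a : MulAut P) * (b : MulAut P) * (a : MulAut P)⁻¹) ((a : MulAut P) x)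
      rw [MulAut.mul_apply, MulAut.mul_apply, MulAut.inv_apply_self]
      congr 1
      exact Subtype.ext (hg x).symm
    have haH : (a : MulAut P) ∈ H :=
      Subgroup.subset_closure (mem_extSet_of_extender F hRec a.2 hgext hgP)
    exact ⟨a, Subgroup.mem_subgroupOf.mpr haH, rfl⟩
  -- p divides the order of Out
  have hpdvd : p ∣ Nat.card (↥(F.autGroup P) ⧸ I) := by
    set β₀ : MulAut P := P.normalizerMonoidHom ⟨g₀, hg₀N.2⟩ with hβ₀
    have hβ₀S : β₀ ∈ autInducedBy S P :=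
      (mem_autInducedBy_iff β₀).mpr ⟨g₀, hg₀N.1, fun x => rfl⟩
    have hβ₀A : β₀ ∈ F.autGroup P := autInducedBy_le_autGroup F hPS hβ₀S
    set ybar := QuotientGroup.mk' I ⟨β₀, hβ₀A⟩ with hybar
    have hyR : ybar ∈ (Rbar : Subgroup _) := by
      rw [hRbar_coe]
      exact ⟨⟨β₀, hβ₀A⟩, Subgroup.mem_subgroupOf.mpr hβ₀S, rfl⟩
    have hyne : ybar ≠ 1 := by
      intro h1
      rw [hybar, QuotientGroup.mk'_apply, QuotientGroup.eq_one_iff] at h1
      have h2 : β₀ ∈ Inn P := Subgroup.mem_subgroupOf.mp h1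
      exact hg₀P (mem_of_induces_inner hPS hcen h2 hg₀N.1 (fun x => rfl))
    obtain ⟨k, hk⟩ := Rbar.isPGroup' ⟨ybar, hyR⟩
    have hk' : ybar ^ p ^ k = 1 := congrArg Subtype.val hk
    have hord : orderOf ybar ∣ p ^ k := orderOf_dvd_of_pow_eq_one hk'
    obtain ⟨j, -, hj⟩ := (Nat.dvd_prime_pow Fact.out).mp hord
    have hj0 : j ≠ 0 := by
      rintro rfl
      rw [pow_zero, orderOf_eq_one_iff] at hj
      exact hyne hj
    have : p ∣ orderOf ybar := by rw [hj]; exact dvd_pow_self p hj0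
    exact this.trans (orderOf_dvd_natCard ybar)
  refine ⟨Rbar, fun a => ⟨hmemR a, fun ha => ?_⟩, hpdvd, hkey⟩
  rw [hRbar_coe]
  exact ⟨a, Subgroup.mem_subgroupOf.mpr ha, rfl⟩

/-- For an essential proper fully normalized subgroup, the image in `Out_F(P)` of the subgroup generated by
the automorphisms that extend to larger subgroups is a proper subgroup. -/
theorem image_closure_extSet_ne_top [Finite S] (p : ℕ) [Fact p.Prime] (hS : IsPGroup p S)
    (F : FusionSystem S) (hF : F.IsSaturated p) {P : Subgroup Ω} (hne : P ≠ S)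
    (hFN : F.IsFullyNormalized P) (hess : F.IsEssential p P)
    [hnorm : ((Inn P).subgroupOf (F.autGroup P)).Normal] :
    ((Subgroup.closure (extSet F P)).subgroupOf (F.autGroup P)).map
      (QuotientGroup.mk' ((Inn P).subgroupOf (F.autGroup P))) ≠ ⊤ := by
  have hPS : P ≤ S := hFN.1
  haveI : Finite P := finite_of_le_finite hPS
  have hcen : centralizerIn S P ≤ P := hess.1.2 P (isConj_refl F hPS)
  obtain ⟨Rbar, hRmem, -, -⟩ := out_facts p hS F hF hne hFN hcen
  obtain ⟨-, -, _, E', -, hE'top, R', hR'⟩ := hess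
  set I := (Inn P).subgroupOf (F.autGroup P) with hI
  have hN' : ∀ Q : Subgroup (↥(F.autGroup P) ⧸ I), Q ≤ (R' : Subgroup _) → Q ≠ ⊥ →
      Subgroup.normalizer (Q : Set (↥(F.autGroup P) ⧸ I)) ≤ E' :=
    fun Q hQ hQne => normalizer_le_of_kGeneratedCore_le p R' hR' hQ hQne
  have hR'S : IsSylowIn p (R' : Subgroup (↥(F.autGroup P) ⧸ I)) ⊤ := isSylowIn_top_of_sylow R'
  obtain ⟨k, -, hk⟩ := hR'S.exists_conj_le (le_top : (Rbar : Subgroup _) ≤ ⊤) Rbar.isPGroup'
  have hconjR : ∀ v ∈ (Rbar : Subgroup (↥(F.autGroup P) ⧸ I)), k * v * k⁻¹ ∈ (R' : Subgroup _) := by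
    intro v hv
    apply hk
    rw [mem_conjBy]
    have : k⁻¹ * (k * v * k⁻¹) * k = v := by group
    rw [this]; exact hv
  -- generators
  have hgen : ∀ α ∈ extSet F P, ∀ hα : α ∈ F.autGroup P,
      k * QuotientGroup.mk' I ⟨α, hα⟩ * k⁻¹ ∈ E' := by
    rintro α ⟨Q', hlt, φ, hφ, hφα⟩ hα
    have hQ'S : Q' ≤ S := (F.le_of_mem hφ).1
    haveI : Finite Q' := finite_of_le_finite hQ'S
    have hQ'p : IsPGroup p Q' := hS.to_le hQ'S
    obtain ⟨g, hgN, hgP⟩ := exists_mem_normalizerIn_not_mem hQ'p hlt.le hlt.ne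
    have hgQ' : g ∈ Q' := hgN.1
    set β : MulAut P := P.normalizerMonoidHom ⟨g, hgN.2⟩ with hβ
    have hβS : β ∈ autInducedBy S P := (mem_autInducedBy_iff β).mpr ⟨g, hQ'S hgQ', fun x => rfl⟩
    have hβA : β ∈ F.autGroup P := autInducedBy_le_autGroup F hPS hβS
    set ybar := QuotientGroup.mk' I ⟨β, hβA⟩ with hybar
    set abar := QuotientGroup.mk' I ⟨α, hα⟩ with habar
    have hyR : ybar ∈ (Rbar : Subgroup _) := (hRmem ⟨β, hβA⟩).mpr hβS
    have hyne : ybar ≠ 1 := by
      intro h1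
      rw [hybar, QuotientGroup.mk'_apply, QuotientGroup.eq_one_iff] at h1
      have h2 : β ∈ Inn P := Subgroup.mem_subgroupOf.mp h1
      exact hgP (mem_of_induces_inner hPS hcen h2 (hQ'S hgQ') (fun x => rfl))
    have hαβ : α * β * α⁻¹ ∈ autInducedBy S P := by
      rw [mem_autInducedBy_iff]
      refine ⟨φ ⟨g, hgQ'⟩, (F.le_of_mem hφ).2 _, fun x => ?_⟩
      rw [MulAut.mul_apply, MulAut.mul_apply, ← hφα]
      have hx : (x : Ω) = φ (Subgroup.inclusion hlt.le (α⁻¹ x)) := by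
        rw [hφα]; simp
      conv_rhs => rw [hx]
      rw [← map_inv, ← map_mul, ← map_mul]
      congr 1
    have hayR : abar * ybar * abar⁻¹ ∈ (Rbar : Subgroup _) := by
      have : abar * ybar * abar⁻¹ = QuotientGroup.mk' I (⟨α, hα⟩ * ⟨β, hβA⟩ * ⟨α, hα⟩⁻¹) := by
        rw [map_mul, map_mul, map_inv]
      rw [this]
      exact (hRmem _).mpr hαβ
    set u := k * ybar * k⁻¹ with hu
    set y := k * abar * k⁻¹ with hy
    have huR' : u ∈ (R' : Subgroup _) := hconjR _ hyR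
    have hune : u ≠ 1 := by
      intro h1
      apply hyne
      have : ybar = k⁻¹ * u * k := by rw [hu]; group
      rw [this, h1]; group
    have hyu : y * u * y⁻¹ ∈ (R' : Subgroup _) := by
      have : y * u * y⁻¹ = k * (abar * ybar * abar⁻¹) * k⁻¹ := by rw [hy, hu]; group
      rw [this]; exact hconjR _ hayR
    have hinf : (R' : Subgroup (↥(F.autGroup P) ⧸ I)) ⊓ Cfsg.conjBy (R' : Subgroup _) y⁻¹ ≠ ⊥ := by
      intro hbot
      apply hune
      have hc : u ∈ Cfsg.conjBy (R' : Subgroup (↥(F.autGroup P) ⧸ I)) y⁻¹ := by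
        rw [mem_conjBy, inv_inv]
        exact hyu
      have hmem : u ∈ (R' : Subgroup (↥(F.autGroup P) ⧸ I)) ⊓ Cfsg.conjBy (R' : Subgroup _) y⁻¹ :=
        Subgroup.mem_inf.mpr ⟨huR', hc⟩
      rw [hbot] at hmem
      exact Subgroup.mem_bot.mp hmem
    have := mem_of_inf_conjBy_ne_bot p hR'S hN' hinf
    have h2 := E'.inv_mem this
    rwa [inv_inv] at h2
  -- all of H
  have hall : ∀ h ∈ Subgroup.closure (extSet F P), ∀ hA : h ∈ F.autGroup P,
      k * QuotientGroup.mk' I ⟨h, hA⟩ * k⁻¹ ∈ E' := by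
    intro h hh
    induction hh using Subgroup.closure_induction with
    | mem x hx => exact hgen x hx
    | one =>
      intro hA
      have : (⟨1, hA⟩ : ↥(F.autGroup P)) = 1 := rfl
      rw [this, map_one]; simp
    | mul a b ha hb iha ihb =>
      intro hA
      have haA : a ∈ F.autGroup P := (Subgroup.closure_le _).mpr (extSet_subset_autGroup F P) ha
      have hbA : b ∈ F.autGroup P := (Subgroup.closure_le _).mpr (extSet_subset_autGroup F P) hb
      have e1 : (⟨a * b, hA⟩ : ↥(F.autGroup P)) = ⟨a, haA⟩ * ⟨b, hbA⟩ := rfl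
      have e2 : k * QuotientGroup.mk' I (⟨a, haA⟩ * ⟨b, hbA⟩) * k⁻¹ =
          (k * QuotientGroup.mk' I ⟨a, haA⟩ * k⁻¹) * (k * QuotientGroup.mk' I ⟨b, hbA⟩ * k⁻¹) := by
        rw [map_mul]; group
      rw [e1, e2]
      exact E'.mul_mem (iha haA) (ihb hbA)
    | inv a ha iha =>
      intro hA
      have haA : a ∈ F.autGroup P := (Subgroup.closure_le _).mpr (extSet_subset_autGroup F P) ha
      have e1 : (⟨a⁻¹, hA⟩ : ↥(F.autGroup P)) = ⟨a, haA⟩⁻¹ := rfl
      have e2 : k * QuotientGroup.mk' I (⟨a, haA⟩⁻¹) * k⁻¹ =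
          (k * QuotientGroup.mk' I ⟨a, haA⟩ * k⁻¹)⁻¹ := by
        rw [map_inv]; group
      rw [e1, e2]
      exact E'.inv_mem (iha haA)
  intro htop
  apply hE'top
  rw [eq_top_iff]
  intro e _
  have h1 : k⁻¹ * e * k ∈ ((Subgroup.closure (extSet F P)).subgroupOf (F.autGroup P)).map
      (QuotientGroup.mk' I) := by rw [htop]; trivial
  obtain ⟨h, hh, hhe⟩ := h1
  have h2 := hall h.1 (Subgroup.mem_subgroupOf.mp hh) h.2
  have e3 : (⟨h.1, h.2⟩ : ↥(F.autGroup P)) = h := rfl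
  rw [e3, hhe] at h2
  have e4 : k * (k⁻¹ * e * k) * k⁻¹ = e := by group
  rwa [e4] at h2

end Cfsg.Agent.Helper25
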