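import Mathlib
import Cfsg.Prelude.Def_FusionSystem
import Cfsg.Agent.Lib.Helper25.FusionAlperin3
import Cfsg.Agent.Lib.Helper25.FusionAlperin2
import Cfsg.Agent.Lib.Helper25.FusionProduct3
import Cfsg.Agent.Lib.Helper25.FusionRecept

set_option autoImplicit false

namespace Cfsg.Agent.Helper25.Omit

open Cfsg Cfsg.FusionSystem Cfsg.Agent.Helper25

variable {Ω : Type*} [Group Ω] {S : Subgroup Ω}

/-- Every conjugate `Q₁` of `Q` has a map of the system `N_S(Q₁) → N_S(Q)` carrying `Q₁` onto `Q`. -/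
def NMapEx (F : FusionSystem S) (Q : Subgroup Ω) : Prop :=
  ∀ Q₁ : Subgroup Ω, F.IsConj Q₁ Q → ∃ φ : normalizerIn S Q₁ →* Ω, φ ∈ F.Hom (normalizerIn S Q₁) ∧
    (∀ x, φ x ∈ normalizerIn S Q) ∧
    (∀ (x : Ω) (_ : x ∈ Q₁) (hN : x ∈ normalizerIn S Q₁), φ ⟨x, hN⟩ ∈ Q) ∧
    (Q₁.subgroupOf (normalizerIn S Q₁)).map φ = Q

open Classical in
/-- A chosen normalizer map for each conjugate of `Q`, as a total function. -/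
noncomputable def theta (F : FusionSystem S) (Q : Subgroup Ω) (hex : NMapEx F Q) (Q₁ : Subgroup Ω)
    (x : Ω) : Ω :=
  if hc : F.IsConj Q₁ Q then
    (if h : x ∈ normalizerIn S Q₁ then Classical.choose (hex Q₁ hc) ⟨x, h⟩ else 1)
  else 1

theorem theta_spec (F : FusionSystem S) (Q : Subgroup Ω) (hex : NMapEx F Q) {Q₁ : Subgroup Ω}
    (hc : F.IsConj Q₁ Q) : ∃ φ : normalizerIn S Q₁ →* Ω, φ ∈ F.Hom (normalizerIn S Q₁) ∧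
    (∀ x, φ x ∈ normalizerIn S Q) ∧
    (∀ (x : Ω) (_ : x ∈ Q₁) (hN : x ∈ normalizerIn S Q₁), φ ⟨x, hN⟩ ∈ Q) ∧
    (Q₁.subgroupOf (normalizerIn S Q₁)).map φ = Q ∧
    ∀ (x : Ω) (h : x ∈ normalizerIn S Q₁), theta F Q hex Q₁ x = φ ⟨x, h⟩ := by
  obtain ⟨h1, h2, h3, h4⟩ := Classical.choose_spec (hex Q₁ hc)
  refine ⟨Classical.choose (hex Q₁ hc), h1, h2, h3, h4, fun x h => ?_⟩
  unfold theta
  rw [dif_pos hc, dif_pos h]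

/-- Transport: a map of the system defined on a subgroup `M₁` with `Q₁ < M₁ ≤ N_S(Q₁)`, carrying `Q₁` into
`Q₂` and `M₁` into `N_S(Q₂)`, becomes, through the chosen normalizer maps, an automorphism of `Q` that extends
to a strictly larger subgroup. -/
theorem transport [Finite S] (F : FusionSystem S) {Q : Subgroup Ω} (hex : NMapEx F Q)
    {Q₁ Q₂ M₁ : Subgroup Ω} (hc₁ : F.IsConj Q₁ Q) (hc₂ : F.IsConj Q₂ Q) (hQ₁M : Q₁ ≤ M₁)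
    (hne : ¬ M₁ ≤ Q₁) (hM₁N : M₁ ≤ normalizerIn S Q₁) {χ : M₁ →* Ω} (hχ : χ ∈ F.Hom M₁)
    (hχN : ∀ m : M₁, χ m ∈ normalizerIn S Q₂) (hχQ : ∀ (x : Ω) (hx : x ∈ Q₁), χ ⟨x, hQ₁M hx⟩ ∈ Q₂) :
    ∃ τ ∈ extSet F Q, ∀ (x : Ω) (hx : x ∈ Q₁) (hθ : theta F Q hex Q₁ x ∈ Q),
      theta F Q hex Q₂ (χ ⟨x, hQ₁M hx⟩) = ((τ ⟨theta F Q hex Q₁ x, hθ⟩ : Q) : Ω) := by
  obtain ⟨φ₁, hφ₁, hφ₁N, hφ₁Q, hφ₁map, hθ₁⟩ := theta_spec F Q hex hc₁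
  obtain ⟨φ₂, hφ₂, hφ₂N, hφ₂Q, hφ₂map, hθ₂⟩ := theta_spec F Q hex hc₂
  have hQS : Q ≤ S := isConj_le_right F hc₁
  haveI : Finite Q := finite_of_le_finite hQS
  obtain ⟨ψ₁, hψ₁, hinv⟩ := F.inv_mem hφ₁
  set M : Subgroup Ω := (M₁.subgroupOf (normalizerIn S Q₁)).map φ₁ with hM
  have hM_le : M ≤ φ₁.range := by
    rintro _ ⟨n, -, rfl⟩
    exact ⟨n, rfl⟩
  have hψ₁' := restrict_mem F hM_le hψ₁
  -- values of ψ₁ on M lie in M₁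
  have hψ₁M : ∀ y : M, (ψ₁.comp (Subgroup.inclusion hM_le)) y ∈ M₁ := by
    rintro ⟨_, n, hn, rfl⟩
    have : (ψ₁.comp (Subgroup.inclusion hM_le)) ⟨φ₁ n, ⟨n, hn, rfl⟩⟩ = (n : Ω) := hinv n
    rw [this]
    exact Subgroup.mem_subgroupOf.mp hn
  have hΦ₁ := F.comp_mem hψ₁' hχ hψ₁M
  have hΦ₁N : ∀ y : M, (χ.comp ((ψ₁.comp (Subgroup.inclusion hM_le)).codRestrict M₁ hψ₁M)) y ∈
      normalizerIn S Q₂ := fun y => hχN _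
  have hΦ := F.comp_mem hΦ₁ hφ₂ hΦ₁N
  set Φ : M →* Ω := φ₂.comp ((χ.comp ((ψ₁.comp (Subgroup.inclusion hM_le)).codRestrict M₁ hψ₁M)).codRestrict
    (normalizerIn S Q₂) hΦ₁N) with hΦdef
  -- the value of Φ on φ₁ n
  have hΦval : ∀ (n : normalizerIn S Q₁) (hn : (n : Ω) ∈ M₁) (hm : φ₁ n ∈ M),
      Φ ⟨φ₁ n, hm⟩ = φ₂ ⟨χ ⟨n, hn⟩, hχN _⟩ := by
    intro n hn hm
    have h1 : (ψ₁.comp (Subgroup.inclusion hM_le)) ⟨φ₁ n, hm⟩ = (n : Ω) := hinv n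
    have e : ((ψ₁.comp (Subgroup.inclusion hM_le)).codRestrict M₁ hψ₁M) ⟨φ₁ n, hm⟩ = ⟨n, hn⟩ :=
      Subtype.ext h1
    have e2 : χ (((ψ₁.comp (Subgroup.inclusion hM_le)).codRestrict M₁ hψ₁M) ⟨φ₁ n, hm⟩) = χ ⟨n, hn⟩ := by
      rw [e]
    exact congrArg φ₂ (Subtype.ext e2)
  have hQ₁N : Q₁ ≤ normalizerIn S Q₁ := hQ₁M.trans hM₁N
  have hQM : Q ≤ M := by
    intro y hy
    rw [← hφ₁map] at hy
    obtain ⟨n, hn, rfl⟩ := hy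
    exact ⟨n, Subgroup.mem_subgroupOf.mpr (hQ₁M (Subgroup.mem_subgroupOf.mp hn)), rfl⟩
  have hval : ∀ y : Q, (Φ.comp (Subgroup.inclusion hQM)) y ∈ Q := by
    rintro ⟨y, hy⟩
    have hy' := hy
    rw [← hφ₁map] at hy'
    obtain ⟨n, hn, hny⟩ := hy'
    have hnQ₁ : (n : Ω) ∈ Q₁ := Subgroup.mem_subgroupOf.mp hn
    have e : (Subgroup.inclusion hQM ⟨y, hy⟩ : M) = ⟨φ₁ n, hny ▸ hQM hy⟩ := Subtype.ext hny.symm
    rw [MonoidHom.comp_apply, e, hΦval n (hQ₁M hnQ₁)]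
    exact hφ₂Q _ (hχQ n hnQ₁) _
  obtain ⟨τ, hτF, hτ⟩ := exists_aut_of_hom F (restrict_mem F hQM hΦ) hval
  have hlt : Q < M := by
    refine lt_of_le_of_ne hQM (fun heq => hne (fun m hm => ?_))
    have hmN : m ∈ normalizerIn S Q₁ := hM₁N hm
    have h1 : φ₁ ⟨m, hmN⟩ ∈ M := ⟨⟨m, hmN⟩, Subgroup.mem_subgroupOf.mpr hm, rfl⟩
    rw [← heq, ← hφ₁map] at h1
    obtain ⟨n, hn, hnm⟩ := h1
    have := F.injective_of_mem hφ₁ hnm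
    have hnm' : (n : Ω) = m := congrArg Subtype.val this
    rw [← hnm']
    exact Subgroup.mem_subgroupOf.mp hn
  refine ⟨τ, ⟨M, hlt, Φ, hΦ, fun x => (hτ x).symm⟩, fun x hx hθ => ?_⟩
  have hxN : x ∈ normalizerIn S Q₁ := hQ₁N hx
  rw [hτ]
  have e1 : theta F Q hex Q₁ x = φ₁ ⟨x, hxN⟩ := hθ₁ x hxN
  have e2 : theta F Q hex Q₂ (χ ⟨x, hQ₁M hx⟩) = φ₂ ⟨χ ⟨x, hQ₁M hx⟩, hχN _⟩ := hθ₂ _ (hχN _)
  rw [e2]
  have hm : φ₁ ⟨x, hxN⟩ ∈ M := ⟨⟨x, hxN⟩, Subgroup.mem_subgroupOf.mpr (hQ₁M hx), rfl⟩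
  have e3 : (Subgroup.inclusion hQM ⟨theta F Q hex Q₁ x, hθ⟩ : M) = ⟨φ₁ ⟨x, hxN⟩, hm⟩ := Subtype.ext e1
  rw [MonoidHom.comp_apply, e3, hΦval ⟨x, hxN⟩ (hQ₁M hx) hm]

theorem theta_mem (F : FusionSystem S) {Q : Subgroup Ω} (hex : NMapEx F Q) {Q₁ : Subgroup Ω}
    (hc : F.IsConj Q₁ Q) {x : Ω} (hx : x ∈ Q₁) : theta F Q hex Q₁ x ∈ Q := by
  obtain ⟨φ₁, hφ₁, hφ₁N, hφ₁Q, hφ₁map, hθ₁⟩ := theta_spec F Q hex hc
  have hxN : x ∈ normalizerIn S Q₁ := le_normalizerIn (isConj_le_left F hc) hx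
  rw [hθ₁ x hxN]
  exact hφ₁Q x hx hxN

theorem theta_surj (F : FusionSystem S) {Q : Subgroup Ω} (hex : NMapEx F Q) {Q₁ : Subgroup Ω}
    (hc : F.IsConj Q₁ Q) {y : Ω} (hy : y ∈ Q) : ∃ x ∈ Q₁, theta F Q hex Q₁ x = y := by
  obtain ⟨φ₁, hφ₁, hφ₁N, hφ₁Q, hφ₁map, hθ₁⟩ := theta_spec F Q hex hc
  rw [← hφ₁map] at hy
  obtain ⟨n, hn, rfl⟩ := hy
  exact ⟨n, Subgroup.mem_subgroupOf.mp hn, hθ₁ n n.2⟩

/-- The image of a conjugate of `Q` under a map of the system is a conjugate of `Q`. -/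
theorem isConj_map (F : FusionSystem S) {Q P Q₁ : Subgroup Ω} {φ : P →* Ω} (hφ : φ ∈ F.Hom P)
    (hQ₁P : Q₁ ≤ P) (hc : F.IsConj Q₁ Q) : F.IsConj ((Q₁.subgroupOf P).map φ) Q := by
  have h1 : F.IsConj Q₁ ((Q₁.subgroupOf P).map φ) := by
    refine ⟨φ.comp (Subgroup.inclusion hQ₁P), restrict_mem F hQ₁P hφ, ?_⟩
    ext y
    constructor
    · rintro ⟨x, rfl⟩
      exact ⟨Subgroup.inclusion hQ₁P x, Subgroup.mem_subgroupOf.mpr x.2, rfl⟩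
    · rintro ⟨x, hx, rfl⟩
      exact ⟨⟨x, Subgroup.mem_subgroupOf.mp hx⟩, rfl⟩
  exact isConj_trans F (isConj_symm F h1) hc

theorem mem_map_iff {P Q₁ : Subgroup Ω} (hQ₁P : Q₁ ≤ P) (φ : P →* Ω) {y : Ω} :
    y ∈ (Q₁.subgroupOf P).map φ ↔ ∃ (x : Ω) (hx : x ∈ Q₁), φ ⟨x, hQ₁P hx⟩ = y := by
  constructor
  · rintro ⟨x, hx, rfl⟩
    exact ⟨x, Subgroup.mem_subgroupOf.mp hx, rfl⟩
  · rintro ⟨x, hx, rfl⟩
    exact ⟨⟨x, hQ₁P hx⟩, Subgroup.mem_subgroupOf.mpr hx, rfl⟩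

/-- The predicate cutting out the subsystem. -/
def PrE (F : FusionSystem S) (Q : Subgroup Ω) (hex : NMapEx F Q) (H : Subgroup (MulAut Q))
    (P : Subgroup Ω) (φ : P →* Ω) : Prop :=
  ∀ (Q₁ : Subgroup Ω) (hQ₁P : Q₁ ≤ P), F.IsConj Q₁ Q → ∃ τ ∈ H, ∀ (x : Ω) (hx : x ∈ Q₁)
    (hθ : theta F Q hex Q₁ x ∈ Q),
    theta F Q hex ((Q₁.subgroupOf P).map φ) (φ ⟨x, hQ₁P hx⟩) = ((τ ⟨theta F Q hex Q₁ x, hθ⟩ : Q) : Ω)

/-- A map of the system satisfies the predicate at a conjugate `Q₁` of `Q` whose normalizer in the source is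
strictly larger. -/
theorem transport2 [Finite S] (F : FusionSystem S) {Q : Subgroup Ω} (hex : NMapEx F Q)
    {P Q₁ : Subgroup Ω} {φ : P →* Ω} (hφ : φ ∈ F.Hom P) (hQ₁P : Q₁ ≤ P) (hc₁ : F.IsConj Q₁ Q)
    (hne : ¬ normalizerIn P Q₁ ≤ Q₁) :
    ∃ τ ∈ extSet F Q, ∀ (x : Ω) (hx : x ∈ Q₁) (hθ : theta F Q hex Q₁ x ∈ Q),
      theta F Q hex ((Q₁.subgroupOf P).map φ) (φ ⟨x, hQ₁P hx⟩) =
        ((τ ⟨theta F Q hex Q₁ x, hθ⟩ : Q) : Ω) := by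
  have hPS : P ≤ S := (F.le_of_mem hφ).1
  have hφS : ∀ x, φ x ∈ S := (F.le_of_mem hφ).2
  have hc₂ := isConj_map F hφ hQ₁P hc₁
  have hM₁P : normalizerIn P Q₁ ≤ P := normalizerIn_le
  have hQ₁M : Q₁ ≤ normalizerIn P Q₁ := le_normalizerIn hQ₁P
  have hM₁N : normalizerIn P Q₁ ≤ normalizerIn S Q₁ := by
    intro m hm
    rw [mem_normalizerIn] at hm ⊢
    exact ⟨hPS hm.1, hm.2⟩
  have hχ := restrict_mem F hM₁P hφ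
  have hχN : ∀ m : normalizerIn P Q₁, (φ.comp (Subgroup.inclusion hM₁P)) m ∈
      normalizerIn S ((Q₁.subgroupOf P).map φ) := by
    intro m
    rw [mem_normalizerIn]
    refine ⟨hφS _, ?_⟩
    have hmN : (m : Ω) ∈ Subgroup.normalizer (Q₁ : Set Ω) := (mem_normalizerIn.mp m.2).2
    apply mem_normalizer_of_forall
    · intro y hy
      obtain ⟨x, hx, rfl⟩ := (mem_map_iff hQ₁P φ).mp hy
      have hx' : (m : Ω) * x * (m : Ω)⁻¹ ∈ Q₁ := (Subgroup.mem_normalizer_iff.mp hmN x).mp hx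
      refine (mem_map_iff hQ₁P φ).mpr ⟨_, hx', ?_⟩
      have e : (⟨(m : Ω) * x * (m : Ω)⁻¹, hQ₁P hx'⟩ : P) =
          (Subgroup.inclusion hM₁P m) * ⟨x, hQ₁P hx⟩ * (Subgroup.inclusion hM₁P m)⁻¹ := Subtype.ext rfl
      rw [e, map_mul, map_mul, map_inv]
      rfl
    · intro y hy
      obtain ⟨x, hx, rfl⟩ := (mem_map_iff hQ₁P φ).mp hy
      have hx' : (m : Ω)⁻¹ * x * (m : Ω) ∈ Q₁ := by
        have := (Subgroup.mem_normalizer_iff.mp (Subgroup.inv_mem _ hmN) x).mp hx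
        simpa using this
      refine (mem_map_iff hQ₁P φ).mpr ⟨_, hx', ?_⟩
      have e : (⟨(m : Ω)⁻¹ * x * (m : Ω), hQ₁P hx'⟩ : P) =
          (Subgroup.inclusion hM₁P m)⁻¹ * ⟨x, hQ₁P hx⟩ * (Subgroup.inclusion hM₁P m) := Subtype.ext rfl
      rw [e, map_mul, map_mul, map_inv]
      rfl
  have hχQ : ∀ (x : Ω) (hx : x ∈ Q₁), (φ.comp (Subgroup.inclusion hM₁P)) ⟨x, hQ₁M hx⟩ ∈
      (Q₁.subgroupOf P).map φ := fun x hx => (mem_map_iff hQ₁P φ).mpr ⟨x, hx, rfl⟩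
  obtain ⟨τ, hτ, hrel⟩ := transport F hex hc₁ hc₂ hQ₁M hne hM₁N hχ hχN hχQ
  exact ⟨τ, hτ, fun x hx hθ => hrel x hx hθ⟩

theorem prE_restrict (F : FusionSystem S) {Q : Subgroup Ω} (hex : NMapEx F Q) (H : Subgroup (MulAut Q))
    {P P' : Subgroup Ω} (hPP' : P ≤ P') {φ' : P' →* Ω} (h : PrE F Q hex H P' φ') :
    PrE F Q hex H P (φ'.comp (Subgroup.inclusion hPP')) := by
  intro Q₁ hQ₁P hc₁
  obtain ⟨τ, hτ, r⟩ := h Q₁ (hQ₁P.trans hPP') hc₁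
  refine ⟨τ, hτ, fun x hx hθ => ?_⟩
  have e : (Q₁.subgroupOf P).map (φ'.comp (Subgroup.inclusion hPP')) = (Q₁.subgroupOf P').map φ' := by
    ext y
    rw [mem_map_iff hQ₁P, mem_map_iff (hQ₁P.trans hPP')]
    rfl
  rw [e]
  exact r x hx hθ

theorem prE_conj [Finite S] {p : ℕ} [Fact p.Prime] (hS : IsPGroup p S) (F : FusionSystem S)
    {Q : Subgroup Ω} (hex : NMapEx F Q) (hQne : ∀ Q₁ : Subgroup Ω, F.IsConj Q₁ Q → Q₁ ≠ S)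
    {P : Subgroup Ω} {g : Ω} (hP : P ≤ S) (hg : g ∈ S) :
    PrE F Q hex (Subgroup.closure (extSet F Q)) P (conjHom P g) := by
  have h1 : PrE F Q hex (Subgroup.closure (extSet F Q)) S (conjHom S g) := by
    intro Q₁ hQ₁S hc₁
    obtain ⟨k, hkN, hkQ⟩ := exists_mem_normalizerIn_not_mem hS hQ₁S (hQne Q₁ hc₁)
    obtain ⟨τ, hτ, r⟩ := transport2 F hex (F.conj_mem le_rfl hg) hQ₁S hc₁ (fun hle => hkQ (hle hkN))
    exact ⟨τ, Subgroup.subset_closure hτ, r⟩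
  have h2 := prE_restrict F hex _ hP h1
  have e : conjHom P g = (conjHom S g).comp (Subgroup.inclusion hP) := by
    ext x; rfl
  rw [e]; exact h2

theorem prE_comp (F : FusionSystem S) {Q : Subgroup Ω} (hex : NMapEx F Q) (H : Subgroup (MulAut Q))
    {P P' : Subgroup Ω} {φ : P →* Ω} {ψ : P' →* Ω} (hφ : φ ∈ F.Hom P)
    (h₁ : PrE F Q hex H P φ) (h₂ : PrE F Q hex H P' ψ) (h : ∀ x : P, φ x ∈ P') :
    PrE F Q hex H P (ψ.comp (φ.codRestrict P' h)) := by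
  intro Q₁ hQ₁P hc₁
  have hc₂ := isConj_map F hφ hQ₁P hc₁
  have hQ₂P' : (Q₁.subgroupOf P).map φ ≤ P' := by
    rintro _ ⟨x, -, rfl⟩
    exact h x
  obtain ⟨τ₁, hτ₁, r₁⟩ := h₁ Q₁ hQ₁P hc₁
  obtain ⟨τ₂, hτ₂, r₂⟩ := h₂ _ hQ₂P' hc₂
  refine ⟨τ₂ * τ₁, H.mul_mem hτ₂ hτ₁, fun x hx hθ => ?_⟩
  have e : (Q₁.subgroupOf P).map (ψ.comp (φ.codRestrict P' h)) =
      (((Q₁.subgroupOf P).map φ).subgroupOf P').map ψ := by
    ext y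
    rw [mem_map_iff hQ₁P, mem_map_iff hQ₂P']
    constructor
    · rintro ⟨x, hx, rfl⟩
      exact ⟨φ ⟨x, hQ₁P hx⟩, (mem_map_iff hQ₁P φ).mpr ⟨x, hx, rfl⟩, rfl⟩
    · rintro ⟨z, hz, rfl⟩
      obtain ⟨x, hx, rfl⟩ := (mem_map_iff hQ₁P φ).mp hz
      exact ⟨x, hx, rfl⟩
  rw [e]
  have hy : φ ⟨x, hQ₁P hx⟩ ∈ (Q₁.subgroupOf P).map φ := (mem_map_iff hQ₁P φ).mpr ⟨x, hx, rfl⟩
  have hθ₂ : theta F Q hex ((Q₁.subgroupOf P).map φ) (φ ⟨x, hQ₁P hx⟩) ∈ Q := theta_mem F hex hc₂ hy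
  have k₁ := r₁ x hx hθ
  have k₂ := r₂ (φ ⟨x, hQ₁P hx⟩) hy hθ₂
  have e2 : (⟨theta F Q hex ((Q₁.subgroupOf P).map φ) (φ ⟨x, hQ₁P hx⟩), hθ₂⟩ : Q) =
      τ₁ ⟨theta F Q hex Q₁ x, hθ⟩ := Subtype.ext k₁
  rw [e2] at k₂
  rw [MulAut.mul_apply]
  exact k₂

theorem prE_inv (F : FusionSystem S) {Q : Subgroup Ω} (hex : NMapEx F Q) (H : Subgroup (MulAut Q))
    {P : Subgroup Ω} {φ : P →* Ω} (h₁ : PrE F Q hex H P φ) {ψ : φ.range →* Ω}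
    (hψ : ψ ∈ F.Hom φ.range) (hinv : ∀ x : P, ψ ⟨φ x, ⟨x, rfl⟩⟩ = (x : Ω)) :
    PrE F Q hex H φ.range ψ := by
  intro Q₂ hQ₂r hc₂
  have hc₁ := isConj_map F hψ hQ₂r hc₂
  have hQ₁P : (Q₂.subgroupOf φ.range).map ψ ≤ P := by
    rintro _ ⟨⟨_, x, rfl⟩, -, rfl⟩
    rw [hinv x]; exact x.2
  obtain ⟨τ, hτ, r⟩ := h₁ _ hQ₁P hc₁
  refine ⟨τ⁻¹, H.inv_mem hτ, fun y hy hθ => ?_⟩
  obtain ⟨x₀, hx₀⟩ := hQ₂r hy
  have hψy : ψ ⟨y, hQ₂r hy⟩ = (x₀ : Ω) := by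
    have := hinv x₀
    have e : (⟨φ x₀, ⟨x₀, rfl⟩⟩ : φ.range) = ⟨y, hQ₂r hy⟩ := Subtype.ext hx₀
    rw [e] at this
    exact this
  have hx₀Q₁ : (x₀ : Ω) ∈ (Q₂.subgroupOf φ.range).map ψ :=
    (mem_map_iff hQ₂r ψ).mpr ⟨y, hy, hψy⟩
  have hθ₁ : theta F Q hex ((Q₂.subgroupOf φ.range).map ψ) (x₀ : Ω) ∈ Q := theta_mem F hex hc₁ hx₀Q₁
  have k := r (x₀ : Ω) hx₀Q₁ hθ₁
  have e : (((Q₂.subgroupOf φ.range).map ψ).subgroupOf P).map φ = Q₂ := by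
    ext z
    rw [mem_map_iff hQ₁P]
    constructor
    · rintro ⟨x, hx, rfl⟩
      obtain ⟨y', hy', hxy⟩ := (mem_map_iff hQ₂r ψ).mp hx
      obtain ⟨x', hx'⟩ := hQ₂r hy'
      have h2 : ψ ⟨y', hQ₂r hy'⟩ = (x' : Ω) := by
        have := hinv x'
        have e : (⟨φ x', ⟨x', rfl⟩⟩ : φ.range) = ⟨y', hQ₂r hy'⟩ := Subtype.ext hx'
        rw [e] at this
        exact this
      have h3 : (⟨x, hQ₁P hx⟩ : P) = x' := Subtype.ext (hxy.symm.trans h2)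
      rw [h3, hx']
      exact hy'
    · intro hz
      obtain ⟨x', hx'⟩ := hQ₂r hz
      have h2 : ψ ⟨z, hQ₂r hz⟩ = (x' : Ω) := by
        have := hinv x'
        have e : (⟨φ x', ⟨x', rfl⟩⟩ : φ.range) = ⟨z, hQ₂r hz⟩ := Subtype.ext hx'
        rw [e] at this
        exact this
      exact ⟨x', (mem_map_iff hQ₂r ψ).mpr ⟨z, hz, h2⟩, hx'⟩
  rw [e] at k
  have e3 : (⟨(x₀ : Ω), hQ₁P hx₀Q₁⟩ : P) = x₀ := Subtype.ext rfl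
  rw [e3, hx₀] at k
  rw [hψy]
  have e4 : (⟨theta F Q hex Q₂ y, hθ⟩ : Q) = τ ⟨theta F Q hex ((Q₂.subgroupOf φ.range).map ψ) (x₀ : Ω), hθ₁⟩ :=
    Subtype.ext k
  rw [e4, MulAut.inv_apply_self]

/-- `S` itself is not essential in a saturated system. -/
theorem not_isEssential_self [Finite S] (p : ℕ) [Fact p.Prime] (F : FusionSystem S) (hF : F.IsSaturated p) :
    ¬ F.IsEssential p S := by
  rintro ⟨-, -, hn, E, hdvd, -, -⟩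
  haveI : Finite (MulAut S) := Finite.of_injective (fun e : MulAut S => (e : S → S))
    (fun a b h => MulEquiv.ext (congrFun h))
  obtain ⟨-, R, hR⟩ := isFullyAutomized_self p F hF
  have hinn : autInducedBy S S = Inn S := by
    apply le_antisymm
    · intro α hα
      obtain ⟨g, hg, hgα⟩ := (mem_autInducedBy_iff α).mp hα
      refine ⟨⟨g, hg⟩, ?_⟩
      ext x
      exact (hgα x).symm
    · exact inn_le_autInducedBy le_rfl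
  rw [hinn] at hR
  have h1 := Sylow.not_dvd_index R
  rw [hR, Subgroup.index_eq_card] at h1
  exact h1 hdvd

/-- A conjugate of a proper subgroup is a proper subgroup. -/
theorem ne_of_isConj [Finite S] (F : FusionSystem S) {Q Q₁ : Subgroup Ω} (hQS : Q ≤ S) (hQne : Q ≠ S)
    (hc : F.IsConj Q₁ Q) : Q₁ ≠ S := by
  rintro rfl
  obtain ⟨φ, hφ, hr⟩ := hc
  apply hQne
  apply Subgroup.eq_of_le_of_card_ge hQS
  rw [← hr]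
  exact le_of_eq (Nat.card_congr (homEquiv F hφ).toEquiv)

end Cfsg.Agent.Helper25.Omit
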