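import Mathlib
import Cfsg.Prelude.Def_FusionSystem
import Cfsg.Agent.Lib.Helper25.FusionRealized
import Cfsg.Agent.Lib.Helper25.FusionNormal3
import Cfsg.Agent.Lib.Helper25.KNorm7

/-!
# Models: normal subgroups of the system are normal in the model; normalizer systems of centric radicals
-/

set_option autoImplicit false

namespace Cfsg.Agent.Helper25

open Cfsg Cfsg.FusionSystem

variable {Ω : Type*} [Group Ω] {S : Subgroup Ω} {G : Type*} [Group G]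

theorem pCore_normal (p : ℕ) (G : Type*) [Group G] : (pCore p G).Normal :=
  Subgroup.sSup_normal _ (fun _ hH => hH.1)

theorem isPGroup_pCore (p : ℕ) [Fact p.Prime] (G : Type*) [Group G] [Finite G] :
    IsPGroup p (pCore p G) :=
  Sylow.sSup_of_normal _ (fun _ h => h.2) (fun _ h => h.1)

theorem le_pCore {p : ℕ} {H : Subgroup G} (hn : H.Normal) (hp : IsPGroup p H) : H ≤ pCore p G :=
  le_sSup ⟨hn, hp⟩

/-- In a realized system, conjugation by `g ∈ G` on a subgroup whose image stays inside `ι(S)` is a map of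
the system. -/
theorem exists_hom_of_conj (F : FusionSystem S) {ι : S →* G} (hreal : F.IsRealizedBy ι)
    {P : Subgroup Ω} (hP : P ≤ S) (g : G) (hg : ∀ x : P, g * ι ⟨x, hP x.2⟩ * g⁻¹ ∈ ι.range) :
    ∃ ψ ∈ F.Hom P, ∃ hψS : ∀ x, ψ x ∈ S, ∀ x : P, ι ⟨ψ x, hψS x⟩ = g * ι ⟨x, hP x.2⟩ * g⁻¹ := by
  obtain ⟨hι, hr⟩ := hreal
  have hval : ∀ y : P, ((MulAut.conj g).toMonoidHom.comp (ι.comp (Subgroup.inclusion hP))) y
      ∈ ι.range := hg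
  obtain ⟨ψ, hψdef⟩ : ∃ ψ : P →* Ω, ψ = (realInv ι hι).comp
      (((MulAut.conj g).toMonoidHom.comp (ι.comp (Subgroup.inclusion hP))).codRestrict
        ι.range hval) := ⟨_, rfl⟩
  have hψS : ∀ y, ψ y ∈ S := by
    intro y; rw [hψdef]; exact realInv_mem ι hι _
  have hιψ : ∀ y : P, ι ⟨ψ y, hψS y⟩ = g * ι ⟨y, hP y.2⟩ * g⁻¹ := by
    intro y
    have h1 := map_realInv ι hι ((((MulAut.conj g).toMonoidHom.comp
      (ι.comp (Subgroup.inclusion hP))).codRestrict ι.range hval) y)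
    have e : (⟨ψ y, hψS y⟩ : S) = ⟨realInv ι hι ((((MulAut.conj g).toMonoidHom.comp
      (ι.comp (Subgroup.inclusion hP))).codRestrict ι.range hval) y), realInv_mem ι hι _⟩ := by
      apply Subtype.ext
      show ψ y = realInv ι hι ((((MulAut.conj g).toMonoidHom.comp
        (ι.comp (Subgroup.inclusion hP))).codRestrict ι.range hval) y)
      rw [hψdef]
      rfl
    rw [e, h1]
    rfl
  exact ⟨ψ, (hr _ hP ψ hψS).mpr ⟨g, hιψ⟩, hψS, hιψ⟩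

/-- In a model, a subgroup normal in the system has normal image. -/
theorem normal_map_of_isNormal_of_isModel [Finite S] (p : ℕ) [Fact p.Prime] (F : FusionSystem S)
    (ι : S →* G) (hG : F.IsModel p G ι) {Q : Subgroup Ω} (hQ : F.IsNormal Q) :
    ((Q.subgroupOf S).map ι).Normal := by
  obtain ⟨hfin, hreal, ⟨T, hT⟩, hcen⟩ := hG
  haveI := hfin
  have hι := hreal.1
  have hUn : (pCore p G).Normal := pCore_normal p G
  have hUp : IsPGroup p (pCore p G) := isPGroup_pCore p G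
  have hUT : pCore p G ≤ ι.range := hT ▸ hUp.le_sylow_of_normal T
  obtain ⟨U₀, hU₀def⟩ : ∃ U₀ : Subgroup Ω, U₀ = ((pCore p G).comap ι).map S.subtype := ⟨_, rfl⟩
  have hmemU : ∀ y : Ω, y ∈ U₀ ↔ ∃ h : y ∈ S, ι ⟨y, h⟩ ∈ pCore p G := by
    intro y
    rw [hU₀def]
    constructor
    · rintro ⟨s, hs, rfl⟩
      exact ⟨s.2, hs⟩
    · rintro ⟨h, hy⟩
      exact ⟨⟨y, h⟩, hy, rfl⟩
  have hU₀S : U₀ ≤ S := fun y hy => ((hmemU y).mp hy).1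
  have hQS : Q ≤ S := hQ.1
  have hsc := stronglyClosed_of_isNormal F hQ
  constructor
  rintro _ ⟨q, hq, rfl⟩ g
  have hqQ : (q : Ω) ∈ Q := Subgroup.mem_subgroupOf.mp hq
  obtain ⟨ψg, hψg, hψgS, hιψg⟩ := exists_hom_of_conj F hreal hU₀S g (fun x =>
    hUT (hUn.conj_mem _ ((hmemU _).mp x.2).2 g))
  obtain ⟨ψ', hψ', hagree, hmap⟩ := hQ.2 U₀ ψg hψg
  have hle : U₀ ⊔ Q ≤ S := sup_le hU₀S hQS
  have hψ'S := (F.le_of_mem hψ').2
  obtain ⟨h, hh⟩ := (hreal.2 (U₀ ⊔ Q) hle ψ' hψ'S).mp hψ'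
  -- `z = h⁻¹ g` centralizes `O_p(G)`
  have hz : h⁻¹ * g ∈ Subgroup.centralizer ((pCore p G : Subgroup G) : Set G) := by
    rw [Subgroup.mem_centralizer_iff]
    intro u hu
    obtain ⟨u₀, rfl⟩ := hUT hu
    have hu₀ : (u₀ : Ω) ∈ U₀ := (hmemU _).mpr ⟨u₀.2, hu⟩
    have h1 := hh ⟨u₀, le_sup_left (b := Q) hu₀⟩
    have h2 := hιψg ⟨u₀, hu₀⟩
    have h3 : ι ⟨ψ' ⟨u₀, le_sup_left (b := Q) hu₀⟩, hψ'S _⟩ = ι ⟨ψg ⟨u₀, hu₀⟩, hψgS _⟩ := by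
      congr 1
      apply Subtype.ext
      exact hagree ⟨u₀, hu₀⟩
    rw [h1, h2] at h3
    change h * ι u₀ * h⁻¹ = g * ι u₀ * g⁻¹ at h3
    calc ι u₀ * (h⁻¹ * g) = h⁻¹ * (h * ι u₀ * h⁻¹) * g := by group
      _ = h⁻¹ * (g * ι u₀ * g⁻¹) * g := by rw [h3]
      _ = h⁻¹ * g * ι u₀ := by group
  obtain ⟨z₀, hz₀⟩ := hUT (hcen hz)
  -- conjugate `q` by `z₀` inside `Q`
  have hq' : (z₀ : Ω) * q * (z₀ : Ω)⁻¹ ∈ Q := conj_mem_of_stronglyClosed F hsc z₀.2 hqQ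
  have hq'R : (z₀ : Ω) * q * (z₀ : Ω)⁻¹ ∈ U₀ ⊔ Q := le_sup_right (a := U₀) hq'
  have h4 := hh ⟨_, hq'R⟩
  have hmem : ψ' ⟨_, hq'R⟩ ∈ Q := by
    have h0 : ψ' ⟨_, hq'R⟩ ∈ (Q.subgroupOf (U₀ ⊔ Q)).map ψ' :=
      ⟨⟨_, hq'R⟩, Subgroup.mem_subgroupOf.mpr hq', rfl⟩
    exact hmap.le h0
  refine ⟨⟨ψ' ⟨_, hq'R⟩, hψ'S _⟩, Subgroup.mem_subgroupOf.mpr hmem, ?_⟩
  rw [h4]
  have e : (⟨((⟨(z₀ : Ω) * q * (z₀ : Ω)⁻¹, hq'R⟩ : ↥(U₀ ⊔ Q)) : Ω), hle hq'R⟩ : S) = z₀ * q * z₀⁻¹ :=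
    Subtype.ext rfl
  rw [e, map_mul, map_mul, map_inv, hz₀]
  group

end Cfsg.Agent.Helper25
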