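import Mathlib
import Cfsg.Prelude.Def_FusionSystem
import Cfsg.Agent.Lib.Helper25.FusionModel

/-!
# Normalizer systems of centric radical subgroups and their models
-/

set_option autoImplicit false

namespace Cfsg.Agent.Helper25

open Cfsg Cfsg.FusionSystem

variable {Ω : Type*} [Group Ω] {S : Subgroup Ω} {G : Type*} [Group G]

/-- A map of `F` on `P ≤ N_S(R)` with values in `N_S(R)`, extended to `P ⊔ R` preserving `R`, gives a map of
the normalizer system on `P ⊔ R`. -/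
theorem normalizerSystem_ext_mem (F : FusionSystem S) {R : Subgroup Ω} (hR : R ≤ S)
    (E : FusionSystem (normalizerIn S R)) (hE : F.IsNormalizerSystem R E) {P : Subgroup Ω}
    (hP : P ≤ normalizerIn S R) {ψ : ↥(P ⊔ R) →* Ω} (hψ : ψ ∈ F.Hom (P ⊔ R))
    (hψP : ∀ x : P, ψ (Subgroup.inclusion le_sup_left x) ∈ normalizerIn S R)
    (hmap : (R.subgroupOf (P ⊔ R)).map ψ = R) : ψ ∈ E.Hom (P ⊔ R) := by
  have hRN : R ≤ normalizerIn S R := le_normalizerIn hR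
  rw [hE (P ⊔ R)]
  have hle : (P ⊔ R) ⊔ R ≤ P ⊔ R := sup_le le_rfl le_sup_right
  refine ⟨hψ, sup_le hP hRN, ?_, ψ.comp (Subgroup.inclusion hle), restrict_mem F hle hψ,
    fun x => ?_, ?_⟩
  · apply sup_hom_mem
    · intro a ha
      exact hψP ⟨a, ha⟩
    · intro b hb
      apply hRN
      have h0 : ψ ⟨b, le_sup_right (a := P) hb⟩ ∈ (R.subgroupOf (P ⊔ R)).map ψ :=
        ⟨⟨b, le_sup_right (a := P) hb⟩, Subgroup.mem_subgroupOf.mpr hb, rfl⟩
      exact hmap.le h0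
  · show ψ _ = ψ x
    congr 1
  · ext y
    rw [mem_map_subgroupOf]
    constructor
    · rintro ⟨x, hx, hxR, rfl⟩
      have h0 : ψ ⟨x, hle hx⟩ ∈ (R.subgroupOf (P ⊔ R)).map ψ :=
        ⟨⟨x, hle hx⟩, Subgroup.mem_subgroupOf.mpr hxR, rfl⟩
      exact hmap.le h0
    · intro hy
      have h0 : y ∈ (R.subgroupOf (P ⊔ R)).map ψ := hmap.ge hy
      obtain ⟨x, hx, rfl⟩ := h0
      exact ⟨x, le_sup_left (b := R) x.2, Subgroup.mem_subgroupOf.mp hx, rfl⟩

/-- `R` is normal in its normalizer system. -/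
theorem normalizerSystem_isNormal (F : FusionSystem S) {R : Subgroup Ω} (hR : R ≤ S)
    (E : FusionSystem (normalizerIn S R)) (hE : F.IsNormalizerSystem R E) : E.IsNormal R := by
  refine ⟨le_normalizerIn hR, fun P φ hφ => ?_⟩
  have h := hφ
  rw [hE P] at h
  obtain ⟨-, hP, hφN, ψ, hψ, hψP, hmap⟩ := h
  refine ⟨ψ, normalizerSystem_ext_mem F hR E hE hP hψ (fun x => ?_) hmap, hψP, hmap⟩
  rw [hψP]; exact hφN x

/-- Every map of the normalizer system with source `R` has image `R`. -/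
theorem normalizerSystem_range_eq (F : FusionSystem S) {R : Subgroup Ω}
    (E : FusionSystem (normalizerIn S R)) (hE : F.IsNormalizerSystem R E) {φ : R →* Ω}
    (hφ : φ ∈ E.Hom R) : φ.range = R := by
  rw [hE R] at hφ
  obtain ⟨-, -, -, ψ, -, hψP, hmap⟩ := hφ
  ext y
  constructor
  · rintro ⟨x, rfl⟩
    rw [← hψP]
    have h0 : ψ (Subgroup.inclusion le_sup_left x) ∈ (R.subgroupOf (R ⊔ R)).map ψ :=
      ⟨_, Subgroup.mem_subgroupOf.mpr x.2, rfl⟩
    exact hmap.le h0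
  · intro hy
    have h0 : y ∈ (R.subgroupOf (R ⊔ R)).map ψ := hmap.ge hy
    obtain ⟨x, hx, rfl⟩ := h0
    refine ⟨⟨x, Subgroup.mem_subgroupOf.mp hx⟩, ?_⟩
    rw [← hψP]
    congr 1

/-- An `F`-centric `R` is centric in its normalizer system. -/
theorem normalizerSystem_isCentric (F : FusionSystem S) {R : Subgroup Ω} (hRc : F.IsCentric R)
    (E : FusionSystem (normalizerIn S R)) (hE : F.IsNormalizerSystem R E) : E.IsCentric R := by
  refine ⟨le_normalizerIn hRc.1, ?_⟩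
  rintro Q' ⟨φ, hφ, rfl⟩
  rw [normalizerSystem_range_eq F E hE hφ]
  intro c hc
  have hc' := mem_centralizerIn.mp hc
  apply hRc.2 R (isConj_refl F hRc.1)
  exact mem_centralizerIn.mpr ⟨normalizerIn_le hc'.1, hc'.2⟩

/-- Automorphisms of `R` in `F` are maps of the normalizer system. -/
theorem normalizerSystem_aut_mem (F : FusionSystem S) {R : Subgroup Ω} (hR : R ≤ S)
    (E : FusionSystem (normalizerIn S R)) (hE : F.IsNormalizerSystem R E) {α : MulAut R}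
    (hα : α ∈ F.autGroup R) : R.subtype.comp α.toMonoidHom ∈ E.Hom R := by
  have hRN : R ≤ normalizerIn S R := le_normalizerIn hR
  have hαF := (mem_autGroup_iff F hR α).mp hα
  have hle : R ⊔ R ≤ R := sup_le le_rfl le_rfl
  rw [hE R]
  refine ⟨hαF, hRN, fun x => hRN (α x).2, (R.subtype.comp α.toMonoidHom).comp (Subgroup.inclusion hle),
    restrict_mem F hle hαF, fun x => ?_, ?_⟩
  · show ((α _ : R) : Ω) = ((α x : R) : Ω)
    congr 2
  · ext y
    rw [mem_map_subgroupOf]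
    constructor
    · rintro ⟨x, hx, hxR, rfl⟩
      exact (α _).2
    · intro hy
      refine ⟨((α⁻¹ ⟨y, hy⟩ : R) : Ω), le_sup_left (b := R) (α⁻¹ ⟨y, hy⟩).2, (α⁻¹ ⟨y, hy⟩).2, ?_⟩
      show ((α (Subgroup.inclusion hle ⟨((α⁻¹ ⟨y, hy⟩ : R) : Ω), _⟩) : R) : Ω) = y
      have e : Subgroup.inclusion hle ⟨((α⁻¹ ⟨y, hy⟩ : R) : Ω),
          le_sup_left (b := R) (α⁻¹ ⟨y, hy⟩).2⟩ = α⁻¹ ⟨y, hy⟩ := Subtype.ext rfl
      rw [e]
      simp

/-- In a realization of the normalizer system of a centric radical subgroup `R`, every normal `p`-subgroup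
of `G` inside the image of `N_S(R)` lies in the image of `R`. -/
theorem le_map_of_centric_radical [Finite S] (p : ℕ) [Fact p.Prime] (hS : IsPGroup p S)
    (F : FusionSystem S) {R : Subgroup Ω} (hRc : F.IsCentric R) (hRr : F.IsRadical p R)
    (E : FusionSystem (normalizerIn S R)) (hE : F.IsNormalizerSystem R E)
    (ι : ↥(normalizerIn S R) →* G) (hreal : E.IsRealizedBy ι) {U : Subgroup G} (hUn : U.Normal)
    (hUT : U ≤ ι.range) : U ≤ (R.subgroupOf (normalizerIn S R)).map ι := by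
  have hR : R ≤ S := hRc.1
  have hRN : R ≤ normalizerIn S R := le_normalizerIn hR
  have hι := hreal.1
  obtain ⟨U₀, hU₀def⟩ : ∃ U₀ : Subgroup Ω, U₀ = (U.comap ι).map (normalizerIn S R).subtype :=
    ⟨_, rfl⟩
  have hmemU : ∀ y : Ω, y ∈ U₀ ↔ ∃ h : y ∈ normalizerIn S R, ι ⟨y, h⟩ ∈ U := by
    intro y
    rw [hU₀def]
    constructor
    · rintro ⟨s, hs, rfl⟩
      exact ⟨s.2, hs⟩
    · rintro ⟨h, hy⟩
      exact ⟨⟨y, h⟩, hy, rfl⟩
  have hU₀N : U₀ ≤ normalizerIn S R := fun y hy => ((hmemU y).mp hy).1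
  have hU₀S : U₀ ≤ S := hU₀N.trans normalizerIn_le
  -- `Aut_{U₀}(R)` is a normal `p`-subgroup of `Aut_F(R)`
  have hle1 : autInducedBy U₀ R ≤ autInducedBy S R := by
    intro α hα
    obtain ⟨g, hg, h⟩ := (mem_autInducedBy_iff α).mp hα
    exact (mem_autInducedBy_iff α).mpr ⟨g, hU₀S hg, h⟩
  have hle2 : autInducedBy U₀ R ≤ F.autGroup R := hle1.trans (autInducedBy_le_autGroup F hR)
  have hp : IsPGroup p ((autInducedBy U₀ R).subgroupOf (F.autGroup R)) :=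
    isPGroup_subgroupOf _ ((isPGroup_autInducedBy hS R).to_le hle1)
  have hn : ((autInducedBy U₀ R).subgroupOf (F.autGroup R)).Normal := by
    constructor
    rintro ⟨γ, hγA⟩ hγ ⟨α, hαA⟩
    rw [Subgroup.mem_subgroupOf] at hγ ⊢
    obtain ⟨g, hg, hgγ⟩ := (mem_autInducedBy_iff γ).mp hγ
    obtain ⟨hgN, hgU⟩ := (hmemU g).mp hg
    have hαE := normalizerSystem_aut_mem F hR E hE hαA
    obtain ⟨a, ha⟩ := (hreal.2 R hRN _ (fun x => hRN (α x).2)).mp hαE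
    obtain ⟨g₁, hg₁⟩ := hUT (hUn.conj_mem _ hgU a)
    have hg₁U : (g₁ : Ω) ∈ U₀ := (hmemU _).mpr ⟨g₁.2, by rw [hg₁]; exact hUn.conj_mem _ hgU a⟩
    refine (mem_autInducedBy_iff _).mpr ⟨g₁, hg₁U, fun x => ?_⟩
    show ((α (γ (α⁻¹ x)) : R) : Ω) = g₁ * x * (g₁ : Ω)⁻¹
    -- compare through `ι`
    have hx1 : (g₁ : Ω) * x * (g₁ : Ω)⁻¹ ∈ normalizerIn S R :=
      Subgroup.mul_mem _ (Subgroup.mul_mem _ g₁.2 (hRN x.2)) (Subgroup.inv_mem _ g₁.2)
    have key : ι ⟨((α (γ (α⁻¹ x)) : R) : Ω), hRN (α _).2⟩ = ι ⟨(g₁ : Ω) * x * (g₁ : Ω)⁻¹, hx1⟩ := by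
      have h1 := ha (γ (α⁻¹ x))
      have h2 := ha (α⁻¹ x)
      simp only [MonoidHom.coe_comp, Subgroup.coe_subtype, MulEquiv.coe_toMonoidHom,
        Function.comp_apply, MulAut.apply_inv_self] at h1 h2
      rw [h1]
      have e1 : (⟨((γ (α⁻¹ x) : R) : Ω), hRN (γ (α⁻¹ x)).2⟩ : ↥(normalizerIn S R)) =
          ⟨g, hgN⟩ * ⟨((α⁻¹ x : R) : Ω), hRN (α⁻¹ x).2⟩ * ⟨g, hgN⟩⁻¹ := Subtype.ext (hgγ _)
      have e2 : (⟨(g₁ : Ω) * x * (g₁ : Ω)⁻¹, hx1⟩ : ↥(normalizerIn S R)) =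
          g₁ * ⟨x, hRN x.2⟩ * g₁⁻¹ := Subtype.ext rfl
      rw [e1, e2, map_mul, map_mul, map_inv, map_mul, map_mul, map_inv, hg₁, h2]
      group
    have := hι key
    exact congrArg Subtype.val this
  have hle3 : (autInducedBy U₀ R).subgroupOf (F.autGroup R) ≤ pCore p (F.autGroup R) :=
    le_pCore hn hp
  have hInn : autInducedBy U₀ R ≤ Inn R := by
    intro γ hγ
    rw [← hRr.2]
    exact ⟨⟨γ, hle2 hγ⟩, hle3 (Subgroup.mem_subgroupOf.mpr hγ), rfl⟩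
  -- conclusion
  intro u hu
  obtain ⟨n, rfl⟩ := hUT hu
  have hnU : (n : Ω) ∈ U₀ := (hmemU _).mpr ⟨n.2, hu⟩
  have hnN : (n : Ω) ∈ Subgroup.normalizer (R : Set Ω) := (mem_normalizerIn.mp n.2).2
  have hγ : Subgroup.normalizerMonoidHom R ⟨n, hnN⟩ ∈ autInducedBy U₀ R :=
    (mem_autInducedBy_iff _).mpr ⟨n, hnU, fun x => normalizerMonoidHom_apply_coe R ⟨n, hnN⟩ x⟩
  obtain ⟨r, hr⟩ := hInn hγ
  have hr' : ∀ x : R, (r : Ω) * x * (r : Ω)⁻¹ = n * x * (n : Ω)⁻¹ := by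
    intro x
    have h1 := congrArg (fun β : MulAut R => ((β x : R) : Ω)) hr
    simp only [MulAut.conj_apply] at h1
    rw [normalizerMonoidHom_apply_coe] at h1
    exact h1
  have hc : (r : Ω)⁻¹ * n ∈ centralizerIn S R := by
    rw [mem_centralizerIn]
    refine ⟨S.mul_mem (S.inv_mem (hR r.2)) (normalizerIn_le n.2), fun x hx => ?_⟩
    have := hr' ⟨x, hx⟩
    calc x * ((r : Ω)⁻¹ * n) = (r : Ω)⁻¹ * ((r : Ω) * x * (r : Ω)⁻¹) * n := by group
      _ = (r : Ω)⁻¹ * ((n : Ω) * x * (n : Ω)⁻¹) * n := by rw [this]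
      _ = (r : Ω)⁻¹ * n * x := by group
  have hcR := hRc.2 R (isConj_refl F hR) hc
  have hnR : (n : Ω) ∈ R := by
    have : (n : Ω) = r * ((r : Ω)⁻¹ * n) := by group
    rw [this]
    exact R.mul_mem r.2 hcR
  exact ⟨n, Subgroup.mem_subgroupOf.mpr hnR, rfl⟩

end Cfsg.Agent.Helper25
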