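import Mathlib
import Cfsg.Prelude.Def_FusionSystem
import Cfsg.Agent.Lib.Helper25.FusionRS
import Cfsg.Agent.Lib.Helper25.StabChain

set_option autoImplicit false

namespace Cfsg.Agent.Helper25

open Cfsg Cfsg.FusionSystem

variable {Ω : Type*} [Group Ω] {S : Subgroup Ω}

/-- A `p`-element of `Aut_F(P)` can be transported by an isomorphism of the system onto a fully normalized
subgroup so as to become conjugation by an element of `S`. -/
theorem exists_equiv_conj_into_autS [Finite S] (p : ℕ) [Fact p.Prime] (hS : IsPGroup p S)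
    (F : FusionSystem S) (hF : F.IsSaturated p) {P : Subgroup Ω} (hPS : P ≤ S) {β : MulAut P}
    (hβ : β ∈ F.autGroup P) (hβp : ∃ k : ℕ, β ^ p ^ k = 1) :
    ∃ (P' : Subgroup Ω) (e : P ≃* P'), P'.subtype.comp e.toMonoidHom ∈ F.Hom P ∧
      ∃ s ∈ S, ∀ x : P, ((e (β x) : P') : Ω) = s * ((e x : P') : Ω) * s⁻¹ := by
  obtain ⟨T', ⟨ψ, hψ, rfl⟩, hT'FN⟩ := exists_isConj_fullyNormalized F hPS
  set e := homEquiv F hψ with he
  have hT'S : ψ.range ≤ S := range_le F hψ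
  haveI : Finite P := finite_of_le_finite hPS
  haveI : Finite ψ.range := finite_of_le_finite hT'S
  have hFA := (of_fullyNormalized p hS F hF hT'FN).2.1
  have hsyl := (isFullyAutomized_iff F p hT'S).mp hFA
  set β' := MulAut.congr e β with hβ'def
  have hβ' : β' ∈ F.autGroup ψ.range := congr_mem_autGroup F hψ hβ
  have hzle : Subgroup.zpowers β' ≤ F.autGroup ψ.range := by
    rw [Subgroup.zpowers_le]; exact hβ'
  have hzp : IsPGroup p (Subgroup.zpowers β') := by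
    obtain ⟨k, hk⟩ := hβp
    rintro ⟨g, hg⟩
    obtain ⟨i, rfl⟩ := Subgroup.mem_zpowers_iff.mp hg
    refine ⟨k, Subtype.ext ?_⟩
    show (β' ^ i) ^ (p ^ k) = 1
    have h1 : β' ^ p ^ k = 1 := by rw [hβ'def, ← map_pow, hk, map_one]
    rw [← zpow_natCast, ← zpow_mul, mul_comm, zpow_mul, zpow_natCast, h1, one_zpow]
  obtain ⟨γ, hγ, hle⟩ := hsyl.exists_conj_le hzle hzp
  have h1 : γ * β' * γ⁻¹ ∈ Cfsg.conjBy (Subgroup.zpowers β') γ := by
    rw [mem_conjBy]
    have : γ⁻¹ * (γ * β' * γ⁻¹) * γ = β' := by group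
    rw [this]; exact Subgroup.mem_zpowers β'
  obtain ⟨s, hsS, hs⟩ := (mem_autInducedBy_iff _).mp (hle h1)
  set e₁ : P ≃* ψ.range := e.trans γ with he₁
  have hγF := (mem_autGroup_iff F hT'S γ).mp hγ
  have hval : ∀ x : P, ψ x ∈ ψ.range := fun x => ⟨x, rfl⟩
  refine ⟨ψ.range, e₁, comp_mem' F hψ hγF hval (fun x => rfl), s, hsS, fun x => ?_⟩
  rw [← hs (e₁ x)]
  congr 1
  show γ (e (β x)) = (γ * β' * γ⁻¹) (γ (e x))
  rw [MulAut.mul_apply, MulAut.mul_apply, MulAut.inv_apply_self]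
  congr 1
  show e (β x) = e (β (e.symm (e x)))
  rw [MulEquiv.symm_apply_apply]

/-- Overgroups (inside `S`) of centric subgroups are centric. -/
theorem isCentric_of_le (F : FusionSystem S) {Q N : Subgroup Ω} (hQ : F.IsCentric Q) (hQN : Q ≤ N)
    (hNS : N ≤ S) : F.IsCentric N := by
  refine ⟨hNS, ?_⟩
  rintro N' ⟨χ, hχ, rfl⟩
  have hχQ := restrict_mem F hQN hχ
  have hcen := hQ.2 _ ⟨_, hχQ, rfl⟩
  intro c hc
  have hc' : c ∈ centralizerIn S (χ.comp (Subgroup.inclusion hQN)).range := by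
    rw [mem_centralizerIn] at hc ⊢
    refine ⟨hc.1, ?_⟩
    rintro _ ⟨x, rfl⟩
    exact hc.2 _ ⟨Subgroup.inclusion hQN x, rfl⟩
  obtain ⟨x, hx⟩ := hcen hc'
  exact ⟨Subgroup.inclusion hQN x, hx⟩

/-- (NC1) An automorphism in `Aut_F(P)` fixing a centric subgroup `Q ≤ P` pointwise and acting trivially on
`P/Q` (in the sense `x⁻¹ψ(x) ∈ Q`) is conjugation by an element of `Z(Q)`. -/
theorem exists_conj_of_fixes_centric [Finite S] (p : ℕ) [Fact p.Prime] (hS : IsPGroup p S)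
    (F : FusionSystem S) (hF : F.IsSaturated p) {P Q : Subgroup Ω} (hPS : P ≤ S) (hQP : Q ≤ P)
    (hQ : F.IsCentric Q) {ψ : MulAut P} (hψ : ψ ∈ F.autGroup P)
    (hfix : ∀ x : P, (x : Ω) ∈ Q → ψ x = x) (hmod : ∀ x : P, ((x⁻¹ * ψ x : P) : Ω) ∈ Q) :
    ∃ z : P, (z : Ω) ∈ Q ∧ (z : Ω) ∈ Subgroup.centralizer (Q : Set Ω) ∧
      ∀ y : P, ψ y = z * y * z⁻¹ := by
  haveI : Finite P := finite_of_le_finite hPS
  have hPp : IsPGroup p P := hS.to_le hPS
  obtain ⟨n, hn⟩ := hPp.exists_card_eq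
  -- ψ has p-power order
  have hψp : ∃ k : ℕ, ψ ^ p ^ k = 1 := by
    refine ⟨n, ?_⟩
    have hU : ∀ u ∈ Q.subgroupOf P, ψ u = u := fun u hu => hfix u (Subgroup.mem_subgroupOf.mp hu)
    have hV : ∀ x ∈ (⊤ : Subgroup P), x⁻¹ * ψ x ∈ Q.subgroupOf P :=
      fun x _ => Subgroup.mem_subgroupOf.mpr (hmod x)
    have hkill : ∀ u ∈ Q.subgroupOf P, u ^ p ^ n = 1 := by
      intro u _
      rw [← hn]; exact pow_card_eq_one'
    have := pow_fixes_of_stabilizes hU hV hkill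
    ext y
    exact congrArg Subtype.val (this y trivial)
  obtain ⟨P', e, heF, s, hsS, hs⟩ := exists_equiv_conj_into_autS p hS F hF hPS hψ hψp
  -- the image of Q
  have heQ := restrict_mem F hQP heF
  set eQ : Q →* Ω := (P'.subtype.comp e.toMonoidHom).comp (Subgroup.inclusion hQP) with heQdef
  have heQapply : ∀ x : Q, eQ x = ((e (Subgroup.inclusion hQP x) : P') : Ω) := fun x => rfl
  have hcen := hQ.2 _ ⟨eQ, heQ, rfl⟩
  have hsC : s ∈ centralizerIn S eQ.range := by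
    rw [mem_centralizerIn]
    refine ⟨hsS, ?_⟩
    rintro _ ⟨x, rfl⟩
    have h1 := hs (Subgroup.inclusion hQP x)
    rw [hfix _ x.2] at h1
    rw [heQapply]
    have : s * ((e (Subgroup.inclusion hQP x) : P') : Ω) =
        (s * ((e (Subgroup.inclusion hQP x) : P') : Ω) * s⁻¹) * s := by group
    rw [this, ← h1]
  obtain ⟨z₀, hz₀⟩ := hcen hsC
  set z : P := Subgroup.inclusion hQP z₀ with hz
  have hez : ((e z : P') : Ω) = s := hz₀
  have hψz : ∀ y : P, ψ y = z * y * z⁻¹ := by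
    intro y
    apply e.injective
    apply Subtype.ext
    rw [hs y, map_mul, map_mul, map_inv]
    show _ = ((e z : P') : Ω) * _ * ((e z : P') : Ω)⁻¹
    rw [hez]
  refine ⟨z, z₀.2, ?_, hψz⟩
  apply Subgroup.mem_centralizer_iff.mpr
  intro q hq
  have h1 := hψz ⟨q, hQP hq⟩
  rw [hfix _ hq] at h1
  have h2 : q = (z : Ω) * q * (z : Ω)⁻¹ := congrArg Subtype.val h1
  calc q * (z : Ω) = ((z : Ω) * q * (z : Ω)⁻¹) * (z : Ω) := by rw [← h2]
    _ = (z : Ω) * q := by group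

end Cfsg.Agent.Helper25
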