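import Mathlib
import Cfsg.Agent.Lib.Helper14.GAG40Defs

/-!
# S4840, PIECE CARD (helper25 for helper14): `|V| = p^a`, `|X| = p^b (p^a - 1)`.
-/

set_option autoImplicit false
set_option linter.unusedVariables false
set_option linter.unusedSectionVars false

namespace Cfsg.Agent.Helper14.Gag40

open Cfsg

section CARD
variable {p : ℕ} {X V : Type*} [Group X] [Group V] [MulDistribMulAction X V]

theorem TLin.card [Finite X] [Finite V] [hp : Fact p.Prime] (h : TLin p X V) :
    ∃ a b : ℕ, 0 < a ∧ Nat.card V = p ^ a ∧ Nat.card X = p ^ b * (p ^ a - 1) := by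
  classical
  -- `V` is a `p`-group
  have hV : IsPGroup p V := by
    intro g
    exact ⟨1, by rw [pow_one]; exact h.exp g⟩
  obtain ⟨a, ha⟩ := IsPGroup.iff_card.1 hV
  obtain ⟨v0, hv0⟩ := h.nontriv
  have ha0 : 0 < a := by
    rcases Nat.eq_zero_or_pos a with h0 | h0
    · exfalso
      rw [h0, pow_zero] at ha
      have hss : Subsingleton V := (Nat.card_eq_one_iff_unique.1 ha).1
      exact hv0 (Subsingleton.elim _ _)
    · exact h0
  obtain ⟨b, hb⟩ := IsPGroup.iff_card.1 (h.stab v0 hv0)
  refine ⟨a, b, ha0, ha, ?_⟩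
  have horb : MulAction.orbit X v0 = ({1} : Set V)ᶜ := by
    ext w
    simp only [Set.mem_compl_iff, Set.mem_singleton_iff]
    constructor
    · rintro ⟨x, rfl⟩
      intro hx
      apply hv0
      have : x⁻¹ • (x • v0) = x⁻¹ • (1 : V) := by
        show x⁻¹ • ((fun m : X => m • v0) x) = _
        rw [← hx]
      rw [inv_smul_smul, smul_one] at this
      exact this
    · intro hw
      obtain ⟨x, hx⟩ := h.trans v0 w hv0 hw
      exact ⟨x, hx⟩
  have h2 := Subgroup.card_mul_index (MulAction.stabilizer X v0)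
  rw [MulAction.index_stabilizer, horb, Set.ncard_compl, Set.ncard_singleton, hb, ha] at h2
  exact h2.symm

end CARD

end Cfsg.Agent.Helper14.Gag40
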