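import Mathlib
import Cfsg.Agent.Lib.Helper14.GAG40Defs
import Cfsg.Agent.Lib.Helper16.UniqueOrderP
import Cfsg.Agent.Lib.Helper1.FpfAction

/-!
# S4840, PIECE UOP (helper25 for helper14): `l`-subgroups (`l ≠ p`) of `X` have at most one
subgroup of order `l`.  Proof: embed in `V ⋊ X` and use helper1's `mem_zpowers_of_fpf`.
-/

set_option autoImplicit false
set_option linter.unusedVariables false
set_option linter.unusedSectionVars false
set_option linter.style.haveILetI false

namespace Cfsg.Agent.Helper14.Gag40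

open Cfsg

section UOP
variable {p : ℕ} {X V : Type*} [Group X] [Group V] [MulDistribMulAction X V]

/-- the semidirect product version: a central element `z` of order `l` of the `l`-subgroup `S`
generates every element of order `l` of `S`. -/
theorem uop_mem_zpowers [Finite X] [Finite V] [hp : Fact p.Prime] (h : TLin p X V) {l : ℕ}
    [hl : Fact l.Prime] (hlp : l ≠ p) (S : Subgroup X) (hS : IsPGroup l S) {z w : X} (hzS : z ∈ S)
    (hz : orderOf z = l) (hzc : ∀ s ∈ S, z * s = s * z) (hwS : w ∈ S) (hw : orderOf w = l) :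
    w ∈ Subgroup.zpowers z := by
  classical
  let φ : X →* MulAut V := MulDistribMulAction.toMulAut X V
  haveI : Finite (V ⋊[φ] X) := Finite.of_equiv _ (SemidirectProduct.equivProd (φ := φ)).symm
  haveI hKn : ((SemidirectProduct.inl : V →* V ⋊[φ] X).range).Normal := by
    rw [SemidirectProduct.range_inl_eq_ker_rightHom]
    exact MonoidHom.normal_ker _
  have hK : (SemidirectProduct.inl : V →* V ⋊[φ] X).range ≠ ⊥ := by
    obtain ⟨v0, hv0⟩ := h.nontriv
    intro hb
    have hmem : (SemidirectProduct.inl v0 : V ⋊[φ] X) ∈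
        (SemidirectProduct.inl : V →* V ⋊[φ] X).range := ⟨v0, rfl⟩
    rw [hb, Subgroup.mem_bot] at hmem
    apply hv0
    apply SemidirectProduct.inl_injective (φ := φ)
    rw [hmem, map_one]
  -- orders of elements of `S` are coprime to `p`
  have hcop : ∀ x ∈ S, (orderOf x).Coprime p := by
    intro x hx
    obtain ⟨k, hk⟩ := IsPGroup.iff_orderOf.1 hS ⟨x, hx⟩
    have hk' : orderOf x = l ^ k := by
      rw [← hk]
      exact Subgroup.orderOf_coe (⟨x, hx⟩ : S)
    rw [hk']
    apply Nat.Coprime.pow_left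
    exact (Nat.coprime_primes hl.out hp.out).2 hlp
  have hfpf : ∀ g ∈ S.map (SemidirectProduct.inr : X →* V ⋊[φ] X), g ≠ 1 →
      (SemidirectProduct.inl : V →* V ⋊[φ] X).range ⊓ Subgroup.centralizer {g} = ⊥ := by
    rintro _ ⟨x, hx, rfl⟩ hg1
    rw [eq_bot_iff]
    intro k hk
    obtain ⟨⟨v, rfl⟩, hc⟩ := Subgroup.mem_inf.1 hk
    rw [Subgroup.mem_bot]
    have hc' := Subgroup.mem_centralizer_iff.1 hc (SemidirectProduct.inr x) rfl
    have hfix : x • v = v := by
      have h1 := congrArg SemidirectProduct.left hc'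
      rw [SemidirectProduct.mul_left, SemidirectProduct.mul_left] at h1
      simp only [SemidirectProduct.left_inr, SemidirectProduct.right_inr,
        SemidirectProduct.left_inl, SemidirectProduct.right_inl, one_mul, map_one, mul_one] at h1
      exact h1
    by_contra hv
    have hv1 : v ≠ 1 := fun hv1 => hv (by rw [hv1, map_one])
    have hx1 := h.fpf (hcop x hx) hfix hv1
    apply hg1
    rw [hx1, map_one]
  have hinj : Function.Injective (SemidirectProduct.inr : X →* V ⋊[φ] X) :=
    SemidirectProduct.inr_injective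
  have key := Cfsg.Agent.Helper1.mem_zpowers_of_fpf (p := l) hK hfpf
    (S.map (SemidirectProduct.inr : X →* V ⋊[φ] X)) le_rfl (hS.map _)
    (z := SemidirectProduct.inr z) (w := SemidirectProduct.inr w)
    (Subgroup.mem_map_of_mem _ hzS) (by rw [orderOf_injective _ hinj, hz])
    (by
      rintro _ ⟨s, hs, rfl⟩
      rw [← map_mul, ← map_mul, hzc s hs])
    (Subgroup.mem_map_of_mem _ hwS) (by rw [orderOf_injective _ hinj, hw])
  obtain ⟨k, hk⟩ := Subgroup.mem_zpowers_iff.1 key
  rw [← map_zpow] at hk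
  exact Subgroup.mem_zpowers_iff.2 ⟨k, hinj hk⟩

theorem uop [Finite X] [Finite V] [hp : Fact p.Prime] (h : TLin p X V) {l : ℕ} [hl : Fact l.Prime]
    (hlp : l ≠ p) (S : Subgroup X) (hS : IsPGroup l S) :
    Cfsg.Agent.Helper16.UniqueOrderP l S := by
  classical
  intro x y hx hy
  -- a central element of order `l`
  haveI : Nontrivial S := by
    refine ⟨⟨x, 1, ?_⟩⟩
    intro hx1
    rw [hx1, orderOf_one] at hx
    exact hl.out.one_lt.ne hx
  haveI hcn : Nontrivial (Subgroup.center S) := hS.center_nontrivial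
  have hdvd : l ∣ Nat.card (Subgroup.center S) := by
    obtain ⟨k, hk⟩ := IsPGroup.iff_card.1 (hS.to_subgroup (Subgroup.center S))
    rw [hk]
    have hk0 : k ≠ 0 := by
      intro h0
      rw [h0, pow_zero] at hk
      have hss : Subsingleton (Subgroup.center S) := (Nat.card_eq_one_iff_unique.1 hk).1
      exact not_subsingleton _ hss
    exact dvd_pow_self l hk0
  obtain ⟨z0, hz0⟩ := exists_prime_orderOf_dvd_card' l hdvd
  have hzS : orderOf (z0 : S) = l := by rw [Subgroup.orderOf_coe]; exact hz0
  have hzX : orderOf (((z0 : S) : X)) = l := by rw [Subgroup.orderOf_coe]; exact hzS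
  have hzc : ∀ s ∈ S, ((z0 : S) : X) * s = s * ((z0 : S) : X) := by
    intro s hs
    have := Subgroup.mem_center_iff.1 z0.2 ⟨s, hs⟩
    have h2 := congrArg Subtype.val this
    exact h2.symm
  have hxX : orderOf (x : X) = l := by rw [Subgroup.orderOf_coe]; exact hx
  have hyX : orderOf (y : X) = l := by rw [Subgroup.orderOf_coe]; exact hy
  have hxz := uop_mem_zpowers h hlp S hS (z0 : S).2 hzX hzc x.2 hxX
  have hyz := uop_mem_zpowers h hlp S hS (z0 : S).2 hzX hzc y.2 hyX
  -- `zpowers x = zpowers z` in `X`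
  have heq : Subgroup.zpowers (x : X) = Subgroup.zpowers (((z0 : S) : X)) := by
    apply Subgroup.eq_of_le_of_card_ge (Subgroup.zpowers_le.2 hxz)
    rw [Nat.card_zpowers, Nat.card_zpowers, hxX, hzX]
  rw [← heq] at hyz
  obtain ⟨k, hk⟩ := Subgroup.mem_zpowers_iff.1 hyz
  refine Subgroup.mem_zpowers_iff.2 ⟨k, Subtype.ext ?_⟩
  rw [Subgroup.coe_zpow]
  exact hk

end UOP

end Cfsg.Agent.Helper14.Gag40
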