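import Mathlib
import Cfsg.Agent.Lib.Helper15.CoprimeGen2

/-!
# S3786, piece X-GEN: coprime generation by centralisers of hyperplanes (modulo the kernel)
-/

set_option autoImplicit false
set_option linter.style.haveILetI false

namespace Cfsg.Agent.Helper3.HHX

open Subgroup

variable {Γ : Type*} [Group Γ]

/-- An integer power of an element of order dividing `p` is a natural power. -/
theorem hhxgen_zpow_eq_pow {H : Type*} [Group H] {p : ℕ} (hp : 0 < p) (a : H) (ha : a ^ p = 1)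
    (j : ℤ) : ∃ i : ℕ, a ^ j = a ^ i := by
  refine ⟨(j % (p : ℤ)).toNat, ?_⟩
  rw [zpow_eq_zpow_emod' j ha]
  have h0 : 0 ≤ j % (p : ℤ) := Int.emod_nonneg _ (by exact_mod_cast hp.ne')
  conv_lhs => rw [← Int.toNat_of_nonneg h0]
  rw [zpow_natCast]

/-- In an abelian subgroup `U` of exponent `p`, a subgroup `U₀` that is a coatom of `U` together
with any element `u ∉ U₀` generates: every `v ∈ U` has `v * u ^ i ∈ U₀` for some `i`. -/
theorem hhxgen_coatom {H : Type*} [Group H] {p : ℕ} (hp : 0 < p) {U U₀ : Subgroup H}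
    (hUc : ∀ a ∈ U, ∀ b ∈ U, a * b = b * a) (hUp : ∀ a ∈ U, a ^ p = 1)
    (hco : IsCoatom (U₀.subgroupOf U)) {u : H} (hu : u ∈ U) (hu0 : u ∉ U₀)
    {v : H} (hv : v ∈ U) : ∃ i : ℕ, v * u ^ i ∈ U₀ := by
  have hupow : ∀ i : ℕ, u ^ i ∈ U := fun i => pow_mem hu i
  let D : Subgroup ↥U :=
    { carrier := {w | ∃ i : ℕ, (w : H) * u ^ i ∈ U₀}
      one_mem' := ⟨0, by simp [U₀.one_mem]⟩
      mul_mem' := by
        rintro a b ⟨i, hi⟩ ⟨j, hj⟩
        refine ⟨i + j, ?_⟩
        have hc : (b : H) * u ^ i = u ^ i * b := hUc _ b.2 _ (hupow i)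
        have : ((a * b : ↥U) : H) * u ^ (i + j) = ((a : H) * u ^ i) * ((b : H) * u ^ j) := by
          rw [Subgroup.coe_mul, pow_add]
          calc (a : H) * b * (u ^ i * u ^ j) = (a : H) * ((b : H) * u ^ i) * u ^ j := by group
            _ = (a : H) * (u ^ i * b) * u ^ j := by rw [hc]
            _ = ((a : H) * u ^ i) * ((b : H) * u ^ j) := by group
        rw [this]
        exact U₀.mul_mem hi hj
      inv_mem' := by
        rintro a ⟨i, hi⟩
        refine ⟨(p - 1) * i, ?_⟩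
        have h1 : u ^ ((p - 1) * i) * u ^ i = 1 := by
          rw [← pow_add, ← Nat.succ_pred_eq_of_pos hp]
          simp only [Nat.succ_sub_one, Nat.pred_eq_sub_one]
          have : (p - 1) * i + i = p * i := by
            have : p - 1 + 1 = p := Nat.sub_add_cancel hp
            calc (p - 1) * i + i = (p - 1 + 1) * i := by ring
              _ = p * i := by rw [this]
          rw [this, pow_mul, hUp u hu, one_pow]
        have h2 : u ^ ((p - 1) * i) = (u ^ i)⁻¹ := eq_inv_of_mul_eq_one_left h1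
        have hc : (a : H) * u ^ i = u ^ i * a := hUc _ a.2 _ (hupow i)
        have : ((a⁻¹ : ↥U) : H) * u ^ ((p - 1) * i) = ((a : H) * u ^ i)⁻¹ := by
          rw [Subgroup.coe_inv, h2, hc, mul_inv_rev]
        rw [this]
        exact U₀.inv_mem hi }
  have hle : U₀.subgroupOf U ≤ D := by
    intro w hw
    exact ⟨0, by simpa using Subgroup.mem_subgroupOf.mp hw⟩
  have huD : (⟨u, hu⟩ : ↥U) ∈ D := by
    refine ⟨p - 1, ?_⟩
    have : u * u ^ (p - 1) = 1 := by
      rw [← pow_succ', Nat.sub_add_cancel hp, hUp u hu]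
    show u * u ^ (p - 1) ∈ U₀
    rw [this]
    exact U₀.one_mem
  have hlt : U₀.subgroupOf U < D := by
    refine lt_of_le_of_ne hle ?_
    intro h
    apply hu0
    have : (⟨u, hu⟩ : ↥U) ∈ U₀.subgroupOf U := h ▸ huD
    exact Subgroup.mem_subgroupOf.mp this
  have htop : D = ⊤ := hco.2 D hlt
  have : (⟨v, hv⟩ : ↥U) ∈ D := htop ▸ Subgroup.mem_top _
  exact this

/-- PIECE X-GEN: coprime generation by centralisers of "hyperplanes", for a group `E` acting on `Q`
as an elementary abelian `p`-group modulo the kernel of the action. -/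
theorem gen_hyper [Finite Γ] {p : ℕ} [Fact p.Prime] (Q E : Subgroup Γ)
    (hEQ : E ≤ normalizer (Q : Set Γ)) (hcop : (Nat.card Q).Coprime p)
    (hEab : ∀ x ∈ E, ∀ y ∈ E, x * y * x⁻¹ * y⁻¹ ∈ centralizer (Q : Set Γ))
    (hexp : ∀ e ∈ E, e ^ p ∈ centralizer (Q : Set Γ))
    (X : Subgroup Γ)
    (hX : ∀ B : Subgroup Γ, B ≤ E → E ⊓ centralizer (Q : Set Γ) ≤ B →
      (∀ x ∈ E, x ∉ B → ∀ y ∈ E, ∃ i : ℕ, y * x ^ i ∈ B) →
      Q ⊓ centralizer (B : Set Γ) ≤ X) : Q ≤ X := by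
  classical
  have hpp : p.Prime := Fact.out
  obtain ⟨κ, hκ⟩ : ∃ κ : ↥E →* MulAut ↥Q,
      κ = (Q.normalizerMonoidHom).comp (Subgroup.inclusion hEQ) := ⟨_, rfl⟩
  have hκapp : ∀ (e : ↥E) (g : ↥Q), ((κ e g : ↥Q) : Γ) = (e : Γ) * g * (e : Γ)⁻¹ := by
    intro e g
    rw [hκ]
    rfl
  have hκker : ∀ e : ↥E, κ e = 1 ↔ (e : Γ) ∈ centralizer (Q : Set Γ) := by
    intro e
    constructor
    · intro h
      rw [Subgroup.mem_centralizer_iff]
      intro g hg
      have h1 := hκapp e ⟨g, hg⟩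
      rw [h] at h1
      simp only [MulAut.one_apply] at h1
      calc g * (e : Γ) = ((e : Γ) * g * (e : Γ)⁻¹) * e := by rw [← h1]
        _ = e * g := by group
    · intro h
      ext g
      rw [hκapp, MulAut.one_apply]
      have := Subgroup.mem_centralizer_iff.mp h g g.2
      rw [← this]
      group
  -- the holomorph
  have hfinAut : Finite (MulAut ↥Q) := Finite.of_injective (fun f : MulAut ↥Q => (f : ↥Q → ↥Q))
    (fun f g hfg => MulEquiv.ext (congrFun hfg))
  have hfinS : Finite (↥Q ⋊[MonoidHom.id (MulAut ↥Q)] MulAut ↥Q) :=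
    Finite.of_equiv _ SemidirectProduct.equivProd.symm
  obtain ⟨ι, hι⟩ : ∃ ι : ↥E →* ↥Q ⋊[MonoidHom.id (MulAut ↥Q)] MulAut ↥Q,
      ι = (SemidirectProduct.inr).comp κ := ⟨_, rfl⟩
  have hconj : ∀ (e : ↥E) (g : ↥Q), ι e * SemidirectProduct.inl g * (ι e)⁻¹ =
      SemidirectProduct.inl (κ e g) := by
    intro e g
    have := SemidirectProduct.inl_aut (φ := MonoidHom.id (MulAut ↥Q)) (κ e) g
    rw [map_inv] at this
    rw [hι]
    exact this.symm
  have hιker : ∀ e : ↥E, ι e = 1 ↔ (e : Γ) ∈ centralizer (Q : Set Γ) := by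
    intro e
    rw [← hκker, hι]
    constructor
    · intro h
      apply SemidirectProduct.inr_injective (φ := MonoidHom.id (MulAut ↥Q))
      rw [map_one]
      exact h
    · intro h
      show SemidirectProduct.inr (κ e) = 1
      rw [h, map_one]
  have hUc : ∀ a ∈ ι.range, ∀ b ∈ ι.range, a * b = b * a := by
    rintro _ ⟨x, rfl⟩ _ ⟨y, rfl⟩
    have h1 : ι (x * y * x⁻¹ * y⁻¹) = 1 := by
      rw [hιker]
      exact hEab x x.2 y y.2
    rw [map_mul, map_mul, map_mul, map_inv, map_inv] at h1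
    calc ι x * ι y = (ι x * ι y * (ι x)⁻¹ * (ι y)⁻¹) * (ι y * ι x) := by group
      _ = ι y * ι x := by rw [h1, one_mul]
  have hUp : ∀ a ∈ ι.range, a ^ p = 1 := by
    rintro _ ⟨e, rfl⟩
    rw [← map_pow, hιker]
    exact hexp e e.2
  have hU : Cfsg.IsElementaryAbelian p ι.range := by
    constructor
    · rw [isMulCommutative_iff]
      rintro ⟨a, ha⟩ ⟨b, hb⟩
      apply Subtype.ext
      exact hUc a ha b hb
    · exact hUp
  have hR : (Nat.card (SemidirectProduct.inl :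
      ↥Q →* ↥Q ⋊[MonoidHom.id (MulAut ↥Q)] MulAut ↥Q).range).Coprime p := by
    have e : ↥Q ≃* (SemidirectProduct.inl :
        ↥Q →* ↥Q ⋊[MonoidHom.id (MulAut ↥Q)] MulAut ↥Q).range :=
      MonoidHom.ofInjective SemidirectProduct.inl_injective
    rw [← Nat.card_congr e.toEquiv]
    exact hcop
  have hRn : ((SemidirectProduct.inl :
      ↥Q →* ↥Q ⋊[MonoidHom.id (MulAut ↥Q)] MulAut ↥Q).range).Normal := by
    rw [SemidirectProduct.range_inl_eq_ker_rightHom]
    infer_instance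
  have hUR : ι.range ≤ Subgroup.normalizer (((SemidirectProduct.inl :
      ↥Q →* ↥Q ⋊[MonoidHom.id (MulAut ↥Q)] MulAut ↥Q).range : Subgroup _) : Set _) := by
    rw [Subgroup.normalizer_eq_top]
    exact le_top
  -- the subgroup of `E` attached to a subgroup of the holomorph
  have hBmem : ∀ (U₀ : Subgroup (↥Q ⋊[MonoidHom.id (MulAut ↥Q)] MulAut ↥Q)) (b : Γ),
      b ∈ (U₀.comap ι).map E.subtype ↔ ∃ hb : b ∈ E, ι ⟨b, hb⟩ ∈ U₀ := by
    intro U₀ b
    constructor
    · rintro ⟨e, he, rfl⟩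
      exact ⟨e.2, he⟩
    · rintro ⟨hb, h⟩
      exact ⟨⟨b, hb⟩, h, rfl⟩
  -- centralising the image is centralising `B`
  have hcent : ∀ (U₀ : Subgroup (↥Q ⋊[MonoidHom.id (MulAut ↥Q)] MulAut ↥Q)) (g : ↥Q),
      (SemidirectProduct.inl g : ↥Q ⋊[MonoidHom.id (MulAut ↥Q)] MulAut ↥Q) ∈
        centralizer (U₀ : Set _) →
      (g : Γ) ∈ Q ⊓ centralizer (((U₀.comap ι).map E.subtype : Subgroup Γ) : Set Γ) := by
    intro U₀ g hg
    refine Subgroup.mem_inf.mpr ⟨g.2, ?_⟩
    rw [Subgroup.mem_centralizer_iff]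
    intro b hb
    obtain ⟨hbE, hbU⟩ := (hBmem U₀ b).mp hb
    have h0 := Subgroup.mem_centralizer_iff.mp hg _ hbU
    have h1 : SemidirectProduct.inl (κ ⟨b, hbE⟩ g) =
        (SemidirectProduct.inl g : ↥Q ⋊[MonoidHom.id (MulAut ↥Q)] MulAut ↥Q) := by
      rw [← hconj, h0]
      group
    have h2 : κ ⟨b, hbE⟩ g = g := SemidirectProduct.inl_injective h1
    have h3 := hκapp ⟨b, hbE⟩ g
    rw [h2] at h3
    calc b * (g : Γ) = (b * g * b⁻¹) * b := by group
      _ = g * b := by rw [← h3]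
  by_cases hU2 : p ^ 2 ≤ Nat.card ι.range
  · -- rank at least two: coprime generation in the holomorph
    have key := Cfsg.Agent.Helper15.le_of_forall_coatom_inf_centralizer_le hU hU2 hR hUR
      ((X.subgroupOf Q).map SemidirectProduct.inl) (by
      intro U₀ hU₀U hco x hx
      obtain ⟨⟨g, rfl⟩, hxc⟩ := Subgroup.mem_inf.mp hx
      have hB := hX ((U₀.comap ι).map E.subtype) (Subgroup.map_subtype_le _) (by
          intro e he
          obtain ⟨heE, heC⟩ := Subgroup.mem_inf.mp he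
          refine (hBmem U₀ e).mpr ⟨heE, ?_⟩
          have : ι ⟨e, heE⟩ = 1 := (hιker ⟨e, heE⟩).mpr heC
          rw [this]
          exact U₀.one_mem) (by
          intro x hxE hxB y hyE
          have hux : ι ⟨x, hxE⟩ ∉ U₀ := fun h => hxB ((hBmem U₀ x).mpr ⟨hxE, h⟩)
          obtain ⟨i, hi⟩ := hhxgen_coatom hpp.pos hUc hUp hco (u := ι ⟨x, hxE⟩) ⟨_, rfl⟩ hux
            (v := ι ⟨y, hyE⟩) ⟨_, rfl⟩
          refine ⟨i, (hBmem U₀ _).mpr ⟨E.mul_mem hyE (E.pow_mem hxE i), ?_⟩⟩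
          have : (⟨y * x ^ i, E.mul_mem hyE (E.pow_mem hxE i)⟩ : ↥E) =
              ⟨y, hyE⟩ * ⟨x, hxE⟩ ^ i := by
            apply Subtype.ext
            simp
          rw [this, map_mul, map_pow]
          exact hi)
      have h3 := hB (hcent U₀ g hxc)
      exact Subgroup.mem_map.mpr ⟨g, Subgroup.mem_subgroupOf.mpr h3, rfl⟩)
    intro g hg
    have h1 : (SemidirectProduct.inl (⟨g, hg⟩ : ↥Q) :
        ↥Q ⋊[MonoidHom.id (MulAut ↥Q)] MulAut ↥Q) ∈
        (X.subgroupOf Q).map SemidirectProduct.inl := key ⟨⟨g, hg⟩, rfl⟩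
    obtain ⟨t, ht, hteq⟩ := Subgroup.mem_map.mp h1
    have : t = ⟨g, hg⟩ := SemidirectProduct.inl_injective hteq
    rw [this, Subgroup.mem_subgroupOf] at ht
    exact ht
  · -- rank at most one: `B = E ⊓ C(Q)` is admissible and `C_Q(B) = Q`
    push Not at hU2
    have hUpg : IsPGroup p ↥ι.range := Cfsg.Agent.Helper15.isPGroup_of_isElementaryAbelian hU
    obtain ⟨k, hk⟩ := IsPGroup.iff_card.mp hUpg
    have hk1 : k ≤ 1 := by
      by_contra hcon
      push Not at hcon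
      have : p ^ 2 ≤ p ^ k := Nat.pow_le_pow_right hpp.pos hcon
      omega
    have hB := hX (E ⊓ centralizer (Q : Set Γ)) inf_le_left le_rfl (by
      intro x hxE hxB y hyE
      have hux : ι ⟨x, hxE⟩ ≠ 1 := by
        intro h
        exact hxB (Subgroup.mem_inf.mpr ⟨hxE, (hιker ⟨x, hxE⟩).mp h⟩)
      -- the range has order exactly `p`
      have hk' : k = 1 := by
        rcases Nat.lt_or_ge k 1 with h | h
        · exfalso
          have hk0 : k = 0 := by omega
          rw [hk0, pow_zero] at hk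
          have hsub : Subsingleton ↥ι.range := (Nat.card_eq_one_iff_unique.mp hk).1
          have : (⟨ι ⟨x, hxE⟩, ⟨_, rfl⟩⟩ : ↥ι.range) = 1 := Subsingleton.elim _ _
          exact hux (congrArg Subtype.val this)
        · omega
      rw [hk', pow_one] at hk
      have hmem : (⟨(ι ⟨y, hyE⟩)⁻¹, ι.range.inv_mem ⟨_, rfl⟩⟩ : ↥ι.range) ∈
          Subgroup.zpowers (⟨ι ⟨x, hxE⟩, ⟨_, rfl⟩⟩ : ↥ι.range) :=
        mem_zpowers_of_prime_card hk (fun h => hux (congrArg Subtype.val h))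
      obtain ⟨j, hj⟩ := Subgroup.mem_zpowers_iff.mp hmem
      have hj' : (ι ⟨x, hxE⟩) ^ j = (ι ⟨y, hyE⟩)⁻¹ := by
        have := congrArg Subtype.val hj
        simpa using this
      obtain ⟨i, hi⟩ := hhxgen_zpow_eq_pow hpp.pos (ι ⟨x, hxE⟩) (hUp _ ⟨_, rfl⟩) j
      refine ⟨i, Subgroup.mem_inf.mpr ⟨E.mul_mem hyE (E.pow_mem hxE i), ?_⟩⟩
      have h1 : ι (⟨y, hyE⟩ * ⟨x, hxE⟩ ^ i) = 1 := by
        rw [map_mul, map_pow, ← hi, hj', mul_inv_cancel]
      have := (hιker _).mp h1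
      simpa using this)
    intro g hg
    apply hB
    refine Subgroup.mem_inf.mpr ⟨hg, ?_⟩
    rw [Subgroup.mem_centralizer_iff]
    intro b hb
    have hbC := (Subgroup.mem_inf.mp hb).2
    exact (Subgroup.mem_centralizer_iff.mp hbC g hg).symm

end Cfsg.Agent.Helper3.HHX
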