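import Mathlib
import Cfsg.Agent.Lib.Helper19.PLength
import Cfsg.Agent.Lib.Helper23.PSolvable
import Cfsg.Agent.Lib.Helper4.PLenExpD

/-!
# S3786, piece FB: the final induction for `l_p ≤ 2e` (relative to pieces EB and YQQ)
-/

set_option autoImplicit false
set_option linter.style.haveILetI false

namespace Cfsg.Agent.Helper3.HHX

open Cfsg Subgroup Cfsg.Agent.Helper19.PLen Cfsg.Agent.Helper23.PSolv Cfsg.Agent.Helper4.PLenExp

universe u

/-- quotient by a nontrivial normal subgroup is smaller -/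
theorem hhxfb_card_quotient_lt {G : Type u} [Group G] [Finite G] (N : Subgroup G) [N.Normal]
    (hN : N ≠ ⊥) : Nat.card (G ⧸ N) < Nat.card G := by
  have h1 := Subgroup.card_mul_index N
  rw [Subgroup.index_eq_card] at h1
  have h2 : 1 < Nat.card N := (Subgroup.one_lt_card_iff_ne_bot N).2 hN
  have h3 : 0 < Nat.card (G ⧸ N) := Nat.card_pos
  nlinarith

/-- a quotient is not larger -/
theorem hhxfb_card_quotient_le {G : Type u} [Group G] [Finite G] (N : Subgroup G) [N.Normal] :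
    Nat.card (G ⧸ N) ≤ Nat.card G := by
  have h1 := Subgroup.card_mul_index N
  rw [Subgroup.index_eq_card] at h1
  have h2 : 0 < Nat.card N := Nat.card_pos
  nlinarith

/-- every `p`-element of a quotient is conjugate to the image of a `p`-element -/
theorem hhxfb_exists_lift {G : Type u} [Group G] [Finite G] {p : ℕ} [Fact p.Prime]
    (N : Subgroup G) [N.Normal] (z' : G ⧸ N) (hz' : ∃ k : ℕ, z' ^ p ^ k = 1) :
    ∃ g' : G ⧸ N, ∃ s : G, (∃ k : ℕ, s ^ p ^ k = 1) ∧ z' = g' * QuotientGroup.mk' N s * g'⁻¹ := by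
  obtain ⟨P', hP'⟩ := (isPGroup_zpowers_of_pow z' hz').exists_le_sylow
  obtain ⟨S⟩ : Nonempty (Sylow p G) := inferInstance
  obtain ⟨g', s, hs, h⟩ := sylow_quotient_elem N S P' z' (hP' (mem_zpowers z'))
  exact ⟨g', s, exists_pow_of_mem_isPGroup S.2 hs, h⟩

/-- the exponent hypothesis (on `p`-elements) passes to quotients -/
theorem hhxfb_exp_quotient {G : Type u} [Group G] [Finite G] {p : ℕ} [Fact p.Prime]
    (N : Subgroup G) [N.Normal] (n : ℕ)
    (hexp : ∀ z : G, (∃ k : ℕ, z ^ p ^ k = 1) → z ^ p ^ n = 1) :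
    ∀ z : G ⧸ N, (∃ k : ℕ, z ^ p ^ k = 1) → z ^ p ^ n = 1 := by
  intro z' hz'
  obtain ⟨g', s, hs, rfl⟩ := hhxfb_exists_lift N z' hz'
  have h2 : (QuotientGroup.mk' N s) ^ p ^ n = 1 := by
    rw [← map_pow, hexp s hs, map_one]
  have h3 : (g' * QuotientGroup.mk' N s * g'⁻¹) ^ p ^ n =
      g' * (QuotientGroup.mk' N s) ^ p ^ n * g'⁻¹ := conj_pow
  rw [h3, h2]
  group

/-- PIECE FB relative to EB (`hEB`) and YQQ (`hYQQ`): part (b). -/
theorem aux_b_of {p : ℕ} [hp : Fact p.Prime]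
    (hEB : ∀ (G : Type u) [Group G] [Finite G], IsPSolvable p G → pPrimeCore p G = ⊥ →
      ∀ n : ℕ, (∀ z : G, (∃ k : ℕ, z ^ p ^ k = 1) → z ^ p ^ (n + 1) = 1) →
      (∀ S : Subgroup G, IsPGroup p ↥S → ∀ s₁ ∈ S, ∀ s₂ ∈ S,
        s₁ ^ p ^ n * s₂ ^ p ^ n = s₂ ^ p ^ n * s₁ ^ p ^ n) →
      ∀ x : G, (∃ k : ℕ, x ^ p ^ k = 1) → x ^ p ^ n ∈ pCore p G)
    (hYQQ : ∀ (G : Type u) [Group G] [Finite G], IsPSolvable p G → pPrimeCore p G = ⊥ →
      ∀ n : ℕ, (∀ z : G, (∃ k : ℕ, z ^ p ^ k = 1) → z ^ p ^ (n + 1) = 1) →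
      ∀ S : Subgroup ((G ⧸ pCore p G) ⧸ pPrimeCore p (G ⧸ pCore p G)), IsPGroup p ↥S →
      ∀ s₁ s₂ : (G ⧸ pCore p G) ⧸ pPrimeCore p (G ⧸ pCore p G), s₁ ∈ S → s₂ ∈ S →
        s₁ ^ p ^ n * s₂ ^ p ^ n = s₂ ^ p ^ n * s₁ ^ p ^ n) :
    ∀ (m : ℕ) (G : Type u) [Group G] [Finite G],
    Nat.card G = m → IsPSolvable p G →
    ∀ n : ℕ, (∀ z : G, (∃ k : ℕ, z ^ p ^ k = 1) → z ^ p ^ n = 1) → PLengthLE p (2 * n) G := by
  intro m
  induction m using Nat.strong_induction_on with
  | _ m ih =>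
  intro G _ _ hm hsol n hexp
  by_cases hO : pPrimeCore p G = ⊥
  · -- O_{p'}(G) = 1
    have hHp : IsPGroup p (pCore p G) := Cfsg.Agent.Helper10.pCore_isPGroup p
    have hc : centralizer (pCore p G : Set G) ≤ pCore p G := centralizer_pCore_le hsol hO
    by_cases hHbot : pCore p G = ⊥
    · have htop : (⊤ : Subgroup G) ≤ ⊥ := by
        have : centralizer ((⊥ : Subgroup G) : Set G) = ⊤ := by
          rw [Subgroup.coe_bot]; exact Subgroup.centralizer_eq_top_iff_subset.2 (by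
            intro x hx; rw [Set.mem_singleton_iff] at hx; rw [hx]; exact Subgroup.one_mem _)
        rw [hHbot, this] at hc
        exact hc
      have hcard : Nat.card G = 1 := by
        have h1 : (⊤ : Subgroup G) = ⊥ := le_bot_iff.1 htop
        rw [← Subgroup.card_top (G := G), h1]
        exact Subgroup.card_bot
      have h0 : PLengthLE p 0 G :=
        plengthLE_zero_of_coprime (by rw [hcard]; exact Nat.coprime_one_left p)
      exact plengthLE_mono (Nat.zero_le _) h0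
    · -- n is positive
      obtain ⟨n', rfl⟩ : ∃ n' : ℕ, n = n' + 1 := by
        rcases n with _ | n'
        · exfalso
          apply hHbot
          rw [eq_bot_iff]
          intro x hx
          have h1 := hexp x (exists_pow_of_mem_isPGroup hHp hx)
          rw [pow_zero, pow_one] at h1
          rw [Subgroup.mem_bot]
          exact h1
        · exact ⟨n', rfl⟩
      -- the three quotients
      have hsol1 : IsPSolvable p (G ⧸ pCore p G) := isPSolvable_quotient _ hsol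
      have hsol2 : IsPSolvable p ((G ⧸ pCore p G) ⧸ pPrimeCore p (G ⧸ pCore p G)) :=
        isPSolvable_quotient _ hsol1
      have hO2 : pPrimeCore p ((G ⧸ pCore p G) ⧸ pPrimeCore p (G ⧸ pCore p G)) = ⊥ :=
        pPrimeCore_quotient_pPrimeCore p
      have hexp1 := hhxfb_exp_quotient (pCore p G) (n' + 1) hexp
      have hexp2 := hhxfb_exp_quotient (pPrimeCore p (G ⧸ pCore p G)) (n' + 1) hexp1
      have hcomm2 : ∀ S : Subgroup ((G ⧸ pCore p G) ⧸ pPrimeCore p (G ⧸ pCore p G)),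
          IsPGroup p ↥S → ∀ s₁ ∈ S, ∀ s₂ ∈ S,
          s₁ ^ p ^ n' * s₂ ^ p ^ n' = s₂ ^ p ^ n' * s₁ ^ p ^ n' := by
        intro S hS s₁ hs₁ s₂ hs₂
        exact hYQQ G hsol hO n' hexp S hS s₁ s₂ hs₁ hs₂
      have hpow2 := hEB ((G ⧸ pCore p G) ⧸ pPrimeCore p (G ⧸ pCore p G)) hsol2 hO2 n' hexp2 hcomm2
      -- the third quotient has exponent `p ^ n'`
      have hexp3 : ∀ z : ((G ⧸ pCore p G) ⧸ pPrimeCore p (G ⧸ pCore p G)) ⧸
          pCore p ((G ⧸ pCore p G) ⧸ pPrimeCore p (G ⧸ pCore p G)),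
          (∃ k : ℕ, z ^ p ^ k = 1) → z ^ p ^ n' = 1 := by
        intro z' hz'
        obtain ⟨g', s, hs, rfl⟩ := hhxfb_exists_lift _ z' hz'
        have h1 := hpow2 s hs
        have h2 : (QuotientGroup.mk'
            (pCore p ((G ⧸ pCore p G) ⧸ pPrimeCore p (G ⧸ pCore p G))) s) ^ p ^ n' = 1 := by
          rw [← map_pow]
          exact (QuotientGroup.eq_one_iff _).mpr h1
        have h3 : (g' * QuotientGroup.mk'
            (pCore p ((G ⧸ pCore p G) ⧸ pPrimeCore p (G ⧸ pCore p G))) s * g'⁻¹) ^ p ^ n' =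
            g' * (QuotientGroup.mk'
              (pCore p ((G ⧸ pCore p G) ⧸ pPrimeCore p (G ⧸ pCore p G))) s) ^ p ^ n' * g'⁻¹ :=
          conj_pow
        rw [h3, h2]
        group
      have hsol3 : IsPSolvable p (((G ⧸ pCore p G) ⧸ pPrimeCore p (G ⧸ pCore p G)) ⧸
          pCore p ((G ⧸ pCore p G) ⧸ pPrimeCore p (G ⧸ pCore p G))) :=
        isPSolvable_quotient _ hsol2
      have hlt : Nat.card (((G ⧸ pCore p G) ⧸ pPrimeCore p (G ⧸ pCore p G)) ⧸
          pCore p ((G ⧸ pCore p G) ⧸ pPrimeCore p (G ⧸ pCore p G))) < m := by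
        have h1 : Nat.card (G ⧸ pCore p G) < m := hm ▸ hhxfb_card_quotient_lt _ hHbot
        have h2 := hhxfb_card_quotient_le (pPrimeCore p (G ⧸ pCore p G))
        have h3 := hhxfb_card_quotient_le
          (pCore p ((G ⧸ pCore p G) ⧸ pPrimeCore p (G ⧸ pCore p G)))
        omega
      have hih := ih _ hlt _ rfl hsol3 n' hexp3
      have hR : PLengthLE p 1 (pCore p ((G ⧸ pCore p G) ⧸ pPrimeCore p (G ⧸ pCore p G))) :=
        plengthLE_one_of_isPGroup (Cfsg.Agent.Helper10.pCore_isPGroup p)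
      have h2len := plengthLE_add _ hR hih
      have hM : PLengthLE p 0 (pPrimeCore p (G ⧸ pCore p G)) :=
        plengthLE_zero_of_coprime (Cfsg.Agent.Helper22.card_pPrimeCore_coprime p)
      have h1len := plengthLE_add _ hM h2len
      have hP : PLengthLE p 1 (pCore p G) := plengthLE_one_of_isPGroup hHp
      have h0len := plengthLE_add _ hP h1len
      exact plengthLE_mono (by omega) h0len
  · -- O_{p'}(G) ≠ 1
    have hlt : Nat.card (G ⧸ pPrimeCore p G) < m := hm ▸ hhxfb_card_quotient_lt _ hO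
    have hsolQ : IsPSolvable p (G ⧸ pPrimeCore p G) := isPSolvable_quotient _ hsol
    have hexpQ := hhxfb_exp_quotient (pPrimeCore p G) n hexp
    have hih := ih _ hlt (G ⧸ pPrimeCore p G) rfl hsolQ n hexpQ
    have hNlen : PLengthLE p 0 (pPrimeCore p G) :=
      plengthLE_zero_of_coprime (Cfsg.Agent.Helper22.card_pPrimeCore_coprime p)
    have hadd := plengthLE_add _ hNlen hih
    rwa [zero_add] at hadd

end Cfsg.Agent.Helper3.HHX
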