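import Mathlib
import Cfsg.Prelude.Def_Transfer
import Cfsg.Agent.Lib.Helper7.CoprimeGen3

/-!
# Toolkit for BG Theorem 3.6 (S1444), part A (helper25)

An elementary abelian `q`-group `A` normalizing an abelian group `W`:
averaging projections onto the centralizers `C_W(K)` of the hyperplanes `K` of `A`,
independence of the `C_W(K)`, and generation.
-/

set_option autoImplicit false

namespace Cfsg.Agent.Helper25.BG36

open Subgroup
open scoped IsMulCommutative

variable {G : Type*} [Group G]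

/-- `C_W(K)` -/
def cw (W K : Subgroup G) : Subgroup G := W ⊓ centralizer (K : Set G)

theorem mem_cw {W K : Subgroup G} {w : G} :
    w ∈ cw W K ↔ w ∈ W ∧ ∀ k ∈ K, k * w = w * k := by
  unfold cw
  rw [Subgroup.mem_inf, Subgroup.mem_centralizer_iff]
  rfl

theorem cw_le (W K : Subgroup G) : cw W K ≤ W := inf_le_left

theorem cw_anti (W : Subgroup G) {K K' : Subgroup G} (h : K ≤ K') : cw W K' ≤ cw W K :=
  inf_le_inf_left _ (Subgroup.centralizer_le h)

theorem cw_sup (W K K' : Subgroup G) : cw W K ⊓ cw W K' = cw W (K ⊔ K') := by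
  ext w
  simp only [Subgroup.mem_inf, mem_cw]
  constructor
  · rintro ⟨⟨hw, h1⟩, ⟨_, h2⟩⟩
    refine ⟨hw, ?_⟩
    have : K ⊔ K' ≤ centralizer ({w} : Set G) := by
      apply sup_le
      · intro k hk
        rw [Subgroup.mem_centralizer_singleton_iff]
        exact (h1 k hk)
      · intro k hk
        rw [Subgroup.mem_centralizer_singleton_iff]
        exact (h2 k hk)
    intro k hk
    have := this hk
    rw [Subgroup.mem_centralizer_singleton_iff] at this
    exact this
  · rintro ⟨hw, h⟩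
    exact ⟨⟨hw, fun k hk => h k (Subgroup.mem_sup_left hk)⟩,
      ⟨hw, fun k hk => h k (Subgroup.mem_sup_right hk)⟩⟩

/-- conjugation by a normalizing element, as an endomorphism of `↥W` -/
def conjW (W : Subgroup G) (g : G) (hg : g ∈ normalizer (W : Set G)) : ↥W →* ↥W where
  toFun w := ⟨g * w * g⁻¹, (mem_normalizer_iff.mp hg w).mp w.2⟩
  map_one' := by ext; simp
  map_mul' a b := by ext; simp [mul_assoc]

@[simp] theorem conjW_coe (W : Subgroup G) (g : G) (hg : g ∈ normalizer (W : Set G)) (w : ↥W) :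
    ((conjW W g hg w : ↥W) : G) = g * w * g⁻¹ := rfl


section Avg

variable [Finite G]

noncomputable local instance instFintypeSub (K : Subgroup G) : Fintype ↥K := Fintype.ofFinite _

/-- the averaging (norm) endomorphism `w ↦ ∏_{k ∈ K} k w k⁻¹` of the abelian group `W` -/
noncomputable def avg (W K : Subgroup G) [IsMulCommutative ↥W]
    (hK : K ≤ normalizer (W : Set G)) : ↥W →* ↥W :=
  ∏ k : ↥K, conjW W (k : G) (hK k.2)

theorem avg_apply (W K : Subgroup G) [IsMulCommutative ↥W]
    (hK : K ≤ normalizer (W : Set G)) (w : ↥W) :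
    avg W K hK w = ∏ k : ↥K, conjW W (k : G) (hK k.2) w := by
  unfold avg
  rw [MonoidHom.finset_prod_apply]

/-- `avg` lands in `C_W(K)` -/
theorem avg_mem_cw (W K : Subgroup G) [IsMulCommutative ↥W]
    (hK : K ≤ normalizer (W : Set G)) (w : ↥W) : ((avg W K hK w : ↥W) : G) ∈ cw W K := by
  rw [mem_cw]
  refine ⟨(avg W K hK w).2, ?_⟩
  intro k hk
  have h1 : conjW W k (hK hk) (avg W K hK w) = avg W K hK w := by
    rw [avg_apply, map_prod]
    refine Fintype.prod_equiv (Equiv.mulLeft (⟨k, hk⟩ : ↥K)) _ _ ?_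
    intro k'
    apply Subtype.ext
    simp only [conjW_coe, Equiv.coe_mulLeft, Subgroup.coe_mul, mul_inv_rev]
    group
  have h2 := congrArg (fun z : ↥W => (z : G)) h1
  simp only [conjW_coe] at h2
  calc k * ((avg W K hK w : ↥W) : G) = k * (avg W K hK w : ↥W) * k⁻¹ * k := by group
    _ = (avg W K hK w : ↥W) * k := by rw [h2]

/-- on `C_W(K)`, `avg` is the `|K|`-th power map -/
theorem avg_of_mem_cw (W K : Subgroup G) [IsMulCommutative ↥W]
    (hK : K ≤ normalizer (W : Set G)) (w : ↥W) (hw : (w : G) ∈ cw W K) :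
    avg W K hK w = w ^ Nat.card ↥K := by
  rw [avg_apply]
  have h : ∀ k : ↥K, conjW W (k : G) (hK k.2) w = w := by
    intro k
    apply Subtype.ext
    rw [conjW_coe]
    have := (mem_cw.mp hw).2 k k.2
    rw [this]
    group
  rw [Finset.prod_congr rfl (fun k _ => h k), Finset.prod_const, Finset.card_univ,
    Nat.card_eq_fintype_card]

/-- if `K'` commutes with `K` elementwise then `avg` preserves `C_W(K')` -/
theorem avg_mem_cw_of_comm (W K K' : Subgroup G) [IsMulCommutative ↥W]
    (hK : K ≤ normalizer (W : Set G)) (hcomm : ∀ k ∈ K, ∀ k' ∈ K', k * k' = k' * k)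
    (w : ↥W) (hw : (w : G) ∈ cw W K') : ((avg W K hK w : ↥W) : G) ∈ cw W K' := by
  rw [avg_apply]
  have hsub : ∀ k : ↥K, conjW W (k : G) (hK k.2) w ∈ (cw W K').subgroupOf W := by
    intro k
    rw [Subgroup.mem_subgroupOf, conjW_coe, mem_cw]
    refine ⟨(conjW W (k : G) (hK k.2) w).2, ?_⟩
    intro k' hk'
    have h1 := (mem_cw.mp hw).2 k' hk'
    have h2 := hcomm k k.2 k' hk'
    have h3 : (k : G)⁻¹ * k' = k' * (k : G)⁻¹ := by
      calc (k : G)⁻¹ * k' = (k : G)⁻¹ * (k' * k) * (k : G)⁻¹ := by group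
        _ = (k : G)⁻¹ * (k * k') * (k : G)⁻¹ := by rw [h2]
        _ = k' * (k : G)⁻¹ := by group
    calc k' * ((k : G) * w * (k : G)⁻¹) = (k' * k) * w * (k : G)⁻¹ := by group
      _ = (k * k') * w * (k : G)⁻¹ := by rw [h2]
      _ = k * (k' * w) * (k : G)⁻¹ := by group
      _ = k * (w * k') * (k : G)⁻¹ := by rw [h1]
      _ = k * w * (k' * (k : G)⁻¹) := by group
      _ = k * w * ((k : G)⁻¹ * k') := by rw [h3]
      _ = (k : G) * w * (k : G)⁻¹ * k' := by group
  have := Subgroup.prod_mem ((cw W K').subgroupOf W) (fun k (_ : k ∈ Finset.univ) => hsub k)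
  rw [Subgroup.mem_subgroupOf] at this
  exact this

end Avg

end Cfsg.Agent.Helper25.BG36
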