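import Mathlib
import Cfsg.Agent.Lib.Helper25.BG36A

/-!
# Toolkit for BG Theorem 3.6 (S1444), part B (helper25)

Hyperplanes of an elementary abelian `q`-group `A` acting on an elementary abelian `p`-group `W`
with `C_W(A) = 1`: independence of the `C_W(K)`, generation, `C_A(C_W(K)) = K`.
-/

set_option autoImplicit false

namespace Cfsg.Agent.Helper25.BG36

open Subgroup
open scoped IsMulCommutative

variable {G : Type*} [Group G]

/-- `K` is a hyperplane (subgroup of index `q`) of `A` -/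
def IsHyp (q : ℕ) (A K : Subgroup G) : Prop := K ≤ A ∧ K.relIndex A = q

theorem IsHyp.ne {q : ℕ} (hq : q.Prime) {A K : Subgroup G} (h : IsHyp q A K) : K ≠ A := by
  intro he
  have := h.2
  rw [he, Subgroup.relIndex_self] at this
  exact hq.one_lt.ne this

theorem IsHyp.sup_eq {q : ℕ} (hq : q.Prime) {A K K' : Subgroup G} (h : IsHyp q A K)
    (h' : IsHyp q A K') (hne : K ≠ K') : K ⊔ K' = A := by
  have hle : K ⊔ K' ≤ A := sup_le h.1 h'.1
  have h1 := Subgroup.relIndex_mul_relIndex K (K ⊔ K') A le_sup_left hle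
  rw [h.2] at h1
  have h2 : (K ⊔ K').relIndex A ∣ q := Dvd.intro_left _ h1
  rcases (Nat.dvd_prime hq).mp h2 with h3 | h3
  · exact le_antisymm hle (Subgroup.relIndex_eq_one.mp h3)
  · exfalso
    rw [h3] at h1
    have h4 : K.relIndex (K ⊔ K') = 1 := by
      have := hq.pos
      nlinarith [Nat.eq_of_mul_eq_mul_right this (by rw [one_mul]; exact h1 : K.relIndex (K ⊔ K') * q = 1 * q)]
    have h5 : K' ≤ K := le_trans le_sup_right (Subgroup.relIndex_eq_one.mp h4)
    have h6 := Subgroup.relIndex_mul_relIndex K' K A h5 h.1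
    rw [h.2, h'.2] at h6
    have h7 : K'.relIndex K = 1 := by
      have := hq.pos
      exact Nat.eq_of_mul_eq_mul_right this (by rw [one_mul]; exact h6)
    exact hne (le_antisymm (Subgroup.relIndex_eq_one.mp h7) h5)

/-- a subgroup strictly between a hyperplane and `A` does not exist -/
theorem IsHyp.eq_of_le {q : ℕ} (hq : q.Prime) {A K L : Subgroup G} (h : IsHyp q A K)
    (hKL : K ≤ L) (hLA : L ≤ A) : L = K ∨ L = A := by
  have h1 := Subgroup.relIndex_mul_relIndex K L A hKL hLA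
  rw [h.2] at h1
  have h2 : L.relIndex A ∣ q := Dvd.intro_left _ h1
  rcases (Nat.dvd_prime hq).mp h2 with h3 | h3
  · right
    exact le_antisymm hLA (Subgroup.relIndex_eq_one.mp h3)
  · left
    rw [h3] at h1
    have h4 : K.relIndex L = 1 :=
      Nat.eq_of_mul_eq_mul_right hq.pos (by rw [one_mul]; exact h1)
    exact le_antisymm (Subgroup.relIndex_eq_one.mp h4) hKL


/-- the standing hypotheses of the toolkit -/
structure Setup (p q : ℕ) (A W : Subgroup G) : Prop where
  hA : Cfsg.IsElementaryAbelian q A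
  hW : Cfsg.IsElementaryAbelian p W
  hAW : A ≤ normalizer (W : Set G)
  hfix : W ⊓ centralizer (A : Set G) = ⊥

section Indep

variable [Finite G] {p q : ℕ} [hp : Fact p.Prime] [hq : Fact q.Prime] {A W : Subgroup G}

theorem Setup.comm (S : Setup p q A W) {a b : G} (ha : a ∈ A) (hb : b ∈ A) : a * b = b * a := by
  have := S.hA.1
  have h := mul_comm' (⟨a, ha⟩ : ↥A) ⟨b, hb⟩
  exact congrArg Subtype.val h

theorem Setup.isPGroupA (S : Setup p q A W) : IsPGroup q ↥A := by
  intro a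
  refine ⟨1, ?_⟩
  apply Subtype.ext
  rw [pow_one, Subgroup.coe_pow, Subgroup.coe_one]
  exact S.hA.2 a a.2

theorem Setup.isPGroupW (S : Setup p q A W) : IsPGroup p ↥W := by
  intro a
  refine ⟨1, ?_⟩
  apply Subtype.ext
  rw [pow_one, Subgroup.coe_pow, Subgroup.coe_one]
  exact S.hW.2 a a.2

theorem Setup.instComm (S : Setup p q A W) : IsMulCommutative ↥W := S.hW.1

/-- an element of `W` whose power by a `q`-power is trivial is trivial -/
theorem Setup.eq_one_of_pow_card (S : Setup p q A W) (hpq : p ≠ q) {K : Subgroup G} (hK : K ≤ A)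
    (w : ↥W) (hw : w ^ Nat.card ↥K = 1) : w = 1 := by
  have h1 : orderOf w ∣ Nat.card ↥K := orderOf_dvd_of_pow_eq_one hw
  have h2 : orderOf w ∣ p := by
    apply orderOf_dvd_of_pow_eq_one
    apply Subtype.ext
    rw [Subgroup.coe_pow, Subgroup.coe_one]
    exact S.hW.2 w w.2
  obtain ⟨n, hn⟩ := (S.isPGroupA.to_le hK).exists_card_eq
  rw [hn] at h1
  have hcop : (p).Coprime (q ^ n) :=
    Nat.Coprime.pow_right n ((Nat.coprime_primes hp.out hq.out).mpr hpq)
  have h3 : orderOf w ∣ 1 := by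
    have := Nat.dvd_gcd h2 h1
    rwa [hcop] at this
  exact orderOf_eq_one_iff.mp (Nat.dvd_one.mp h3)

/-- `avg_K` kills `C_W(K')` for distinct hyperplanes -/
theorem Setup.avg_kill (S : Setup p q A W) {K K' : Subgroup G} (h : IsHyp q A K)
    (h' : IsHyp q A K') (hne : K ≠ K') (w : ↥W) (hw : (w : G) ∈ cw W K') :
    haveI := S.instComm
    avg W K (h.1.trans S.hAW) w = 1 := by
  haveI := S.instComm
  have h1 := avg_mem_cw W K (h.1.trans S.hAW) w
  have h2 := avg_mem_cw_of_comm W K K' (h.1.trans S.hAW)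
    (fun k hk k' hk' => S.comm (h.1 hk) (h'.1 hk')) w hw
  have h3 : ((avg W K (h.1.trans S.hAW) w : ↥W) : G) ∈ cw W K ⊓ cw W K' := ⟨h1, h2⟩
  rw [cw_sup, h.sup_eq hq.out h' hne] at h3
  have h4 : ((avg W K (h.1.trans S.hAW) w : ↥W) : G) ∈ (⊥ : Subgroup G) := by
    rw [← S.hfix]
    exact h3
  apply Subtype.ext
  rw [Subgroup.mem_bot] at h4
  rw [h4, Subgroup.coe_one]

/-- `avg_K` kills the join of the `C_W(K')`, `K' ≠ K` -/
theorem Setup.avg_kill_iSup (S : Setup p q A W) {K : Subgroup G} (h : IsHyp q A K)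
    {ι : Sort*} (f : ι → Subgroup G) (hf : ∀ i, IsHyp q A (f i)) (hne : ∀ i, K ≠ f i)
    (w : ↥W) (hw : (w : G) ∈ ⨆ i, cw W (f i)) :
    haveI := S.instComm
    avg W K (h.1.trans S.hAW) w = 1 := by
  haveI := S.instComm
  have key : ∀ g : G, g ∈ ⨆ i, cw W (f i) → ∃ hg : g ∈ W, avg W K (h.1.trans S.hAW) ⟨g, hg⟩ = 1 := by
    intro g hg
    refine Subgroup.iSup_induction (fun i => cw W (f i))
      (C := fun g => ∃ hg : g ∈ W, avg W K (h.1.trans S.hAW) ⟨g, hg⟩ = 1) hg ?_ ?_ ?_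
    · intro i x hx
      exact ⟨cw_le _ _ hx, S.avg_kill h (hf i) (hne i) ⟨x, cw_le _ _ hx⟩ hx⟩
    · exact ⟨W.one_mem, map_one _⟩
    · rintro x y ⟨hx, hx'⟩ ⟨hy, hy'⟩
      refine ⟨W.mul_mem hx hy, ?_⟩
      have : (⟨x * y, W.mul_mem hx hy⟩ : ↥W) = ⟨x, hx⟩ * ⟨y, hy⟩ := rfl
      rw [this, map_mul, hx', hy', one_mul]
  obtain ⟨_, h2⟩ := key w hw
  exact h2

/-- independence: `C_W(K)` meets the join of the other `C_W(K')` trivially -/
theorem Setup.disjoint (S : Setup p q A W) (hpq : p ≠ q) {K : Subgroup G} (h : IsHyp q A K)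
    {ι : Sort*} (f : ι → Subgroup G) (hf : ∀ i, IsHyp q A (f i)) (hne : ∀ i, K ≠ f i)
    {w : G} (hw : w ∈ cw W K) (hw' : w ∈ ⨆ i, cw W (f i)) : w = 1 := by
  haveI := S.instComm
  have hwW : w ∈ W := cw_le _ _ hw
  have h1 := S.avg_kill_iSup h f hf hne ⟨w, hwW⟩ hw'
  rw [avg_of_mem_cw W K (h.1.trans S.hAW) ⟨w, hwW⟩ hw] at h1
  have := S.eq_one_of_pow_card hpq h.1 ⟨w, hwW⟩ h1
  exact congrArg Subtype.val this

/-- generation: `W` is the join of the `C_W(K)`, `K` a hyperplane -/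
theorem Setup.le_iSup (S : Setup p q A W) (hpq : p ≠ q) :
    W ≤ ⨆ K : {K : Subgroup G // IsHyp q A K}, cw W (K : Subgroup G) := by
  by_cases hA1 : A = ⊥
  · have : W = ⊥ := by
      rw [← S.hfix, hA1]
      refine le_antisymm (le_inf le_rfl ?_) inf_le_left
      intro w _
      rw [Subgroup.mem_centralizer_iff]
      intro a ha
      rw [Subgroup.coe_bot, Set.mem_singleton_iff] at ha
      rw [ha, one_mul, mul_one]
    rw [this]
    exact bot_le
  have hnd : ¬ q ∣ Nat.card ↥W := by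
    intro hd
    obtain ⟨n, hn⟩ := S.isPGroupW.exists_card_eq
    rw [hn] at hd
    have := (Nat.prime_dvd_prime_iff_eq hq.out hp.out).mp (hq.out.dvd_of_dvd_pow hd)
    exact hpq this.symm
  have h1 := Cfsg.Agent.Helper7.le_hyperGen q A W S.hA hnd S.hAW
  have h2 := Cfsg.Agent.Helper7.hyperGen_le_iSup_relIndex_eq q S.isPGroupA hA1 W
  exact h1.trans h2

/-- `C_A(C_W(K)) = K` when `C_W(K) ≠ 1` -/
theorem Setup.centralizer_cw (S : Setup p q A W) {K : Subgroup G} (h : IsHyp q A K)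
    (hne : cw W K ≠ ⊥) : A ⊓ centralizer ((cw W K : Subgroup G) : Set G) = K := by
  have hKle : K ≤ A ⊓ centralizer ((cw W K : Subgroup G) : Set G) := by
    refine le_inf h.1 ?_
    intro k hk
    rw [Subgroup.mem_centralizer_iff]
    intro w hw
    exact ((mem_cw.mp hw).2 k hk).symm
  rcases h.eq_of_le hq.out hKle inf_le_left with h1 | h1
  · exact h1
  · exfalso
    apply hne
    rw [eq_bot_iff, ← S.hfix]
    intro w hw
    refine Subgroup.mem_inf.mpr ⟨cw_le _ _ hw, ?_⟩
    rw [Subgroup.mem_centralizer_iff]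
    intro a ha
    have ha' : a ∈ A ⊓ centralizer ((cw W K : Subgroup G) : Set G) := by rw [h1]; exact ha
    exact (Subgroup.mem_centralizer_iff.mp ha'.2 w hw).symm

end Indep

end Cfsg.Agent.Helper25.BG36
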