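import Mathlib
import Cfsg.Agent.Lib.Helper25.BG36B
import Cfsg.Agent.Lib.Helper8.HHGlue3

/-!
# Toolkit for BG Theorem 3.6 (S1444), part D (helper25)

Conjugates of hyperplanes, the norm map along an element `x` of prime order `r`, and the
"bad" hyperplanes (those not containing `[A, x]`): they all lie in one `x`-orbit.
-/

set_option autoImplicit false
set_option linter.unusedSectionVars false

namespace Cfsg.Agent.Helper25.BG36

open Subgroup
open scoped IsMulCommutative commutatorElement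

variable {G : Type*} [Group G]

/-- the conjugate `g K g⁻¹` -/
def cj (g : G) (K : Subgroup G) : Subgroup G := K.map (MulAut.conj g).toMonoidHom

theorem mem_cj {g a : G} {K : Subgroup G} : a ∈ cj g K ↔ g⁻¹ * a * g ∈ K := by
  unfold cj
  constructor
  · rintro ⟨k, hk, rfl⟩
    simp only [MulEquiv.coe_toMonoidHom, MulAut.conj_apply]
    have : g⁻¹ * (g * k * g⁻¹) * g = k := by group
    rw [this]; exact hk
  · intro h
    refine ⟨g⁻¹ * a * g, h, ?_⟩
    simp only [MulEquiv.coe_toMonoidHom, MulAut.conj_apply]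
    group

theorem conj_mem_cj {g k : G} {K : Subgroup G} (hk : k ∈ K) : g * k * g⁻¹ ∈ cj g K := by
  rw [mem_cj]
  have : g⁻¹ * (g * k * g⁻¹) * g = k := by group
  rw [this]; exact hk

theorem cj_one (K : Subgroup G) : cj 1 K = K := by
  ext a
  rw [mem_cj]
  simp

theorem cj_mul (g h : G) (K : Subgroup G) : cj (g * h) K = cj g (cj h K) := by
  ext a
  rw [mem_cj, mem_cj, mem_cj]
  have : (g * h)⁻¹ * a * (g * h) = h⁻¹ * (g⁻¹ * a * g) * h := by group
  rw [this]

theorem cj_inv_cj (g : G) (K : Subgroup G) : cj g⁻¹ (cj g K) = K := by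
  rw [← cj_mul, inv_mul_cancel, cj_one]

theorem cj_cj_inv (g : G) (K : Subgroup G) : cj g (cj g⁻¹ K) = K := by
  rw [← cj_mul, mul_inv_cancel, cj_one]

theorem cj_mono {g : G} {K K' : Subgroup G} (h : K ≤ K') : cj g K ≤ cj g K' :=
  Subgroup.map_mono h

theorem cj_injective (g : G) : Function.Injective (cj g) := by
  intro K K' h
  have := congrArg (cj g⁻¹) h
  rwa [cj_inv_cj, cj_inv_cj] at this

theorem cj_eq_of_mem_normalizer {g : G} {K : Subgroup G} (hg : g ∈ normalizer (K : Set G)) :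
    cj g K = K := by
  ext a
  rw [mem_cj]
  have h1 := Subgroup.mem_normalizer_iff.mp (Subgroup.inv_mem _ hg) a
  rw [inv_inv] at h1
  exact h1.symm

theorem mem_normalizer_of_cj_eq {g : G} {K : Subgroup G} (h : cj g K = K) :
    g ∈ normalizer (K : Set G) := by
  rw [Subgroup.mem_normalizer_iff]
  intro a
  constructor
  · intro ha
    rw [← h]
    exact conj_mem_cj ha
  · intro ha
    rw [← h, mem_cj] at ha
    have : g⁻¹ * (g * a * g⁻¹) * g = a := by group
    rwa [this] at ha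

theorem cj_eq_iff {g : G} {K : Subgroup G} : cj g K = K ↔ g ∈ normalizer (K : Set G) :=
  ⟨mem_normalizer_of_cj_eq, cj_eq_of_mem_normalizer⟩

theorem card_cj (g : G) (K : Subgroup G) : Nat.card ↥(cj g K) = Nat.card ↥K := by
  unfold cj
  exact Subgroup.card_map_of_injective (MulAut.conj g).injective

theorem cj_bot (g : G) : cj g (⊥ : Subgroup G) = ⊥ := by
  unfold cj
  exact Subgroup.map_bot _

theorem cj_eq_bot_iff {g : G} {K : Subgroup G} : cj g K = ⊥ ↔ K = ⊥ := by
  constructor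
  · intro h
    have := congrArg (cj g⁻¹) h
    rwa [cj_inv_cj, cj_bot] at this
  · intro h
    rw [h, cj_bot]

theorem relIndex_cj (g : G) (K A : Subgroup G) : (cj g K).relIndex (cj g A) = K.relIndex A := by
  unfold cj
  exact Subgroup.relIndex_map_map_of_injective K A (MulAut.conj g).injective

theorem IsHyp.cj {q : ℕ} {A K : Subgroup G} (h : IsHyp q A K) {g : G}
    (hg : g ∈ normalizer (A : Set G)) : IsHyp q A (cj g K) := by
  constructor
  · have := cj_mono (g := g) h.1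
    rwa [cj_eq_of_mem_normalizer hg] at this
  · have := relIndex_cj g K A
    rw [cj_eq_of_mem_normalizer hg] at this
    rw [this]
    exact h.2

theorem cw_cj {W K : Subgroup G} {g : G} (hg : g ∈ normalizer (W : Set G)) :
    cw W (cj g K) = cj g (cw W K) := by
  have hgi : g⁻¹ ∈ normalizer (W : Set G) := Subgroup.inv_mem _ hg
  ext w
  rw [mem_cj, mem_cw, mem_cw]
  constructor
  · rintro ⟨hw, h⟩
    refine ⟨?_, ?_⟩
    · have := (Subgroup.mem_normalizer_iff.mp hgi w).mp hw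
      rwa [inv_inv] at this
    · intro k hk
      have h1 := h (g * k * g⁻¹) (conj_mem_cj hk)
      calc k * (g⁻¹ * w * g) = g⁻¹ * ((g * k * g⁻¹) * w) * g := by group
        _ = g⁻¹ * (w * (g * k * g⁻¹)) * g := by rw [h1]
        _ = g⁻¹ * w * g * k := by group
  · rintro ⟨hw, h⟩
    refine ⟨?_, ?_⟩
    · have := (Subgroup.mem_normalizer_iff.mp hg (g⁻¹ * w * g)).mp hw
      have e : g * (g⁻¹ * w * g) * g⁻¹ = w := by group
      rwa [e] at this
    · intro k hk
      rw [mem_cj] at hk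
      have h1 := h _ hk
      calc k * w = g * ((g⁻¹ * k * g) * (g⁻¹ * w * g)) * g⁻¹ := by group
        _ = g * ((g⁻¹ * w * g) * (g⁻¹ * k * g)) * g⁻¹ := by rw [h1]
        _ = w * k := by group

theorem cj_pow_eq_of_cj_eq {x : G} {K : Subgroup G} (h : cj x K = K) (i : ℕ) :
    cj (x ^ i) K = K :=
  cj_eq_of_mem_normalizer (Subgroup.pow_mem _ (mem_normalizer_of_cj_eq h) i)

/-- a moved hyperplane is moved by every power `x ^ i` with `r ∤ i` -/
theorem cj_pow_ne {x : G} {r : ℕ} (hr : r.Prime) (hxr : orderOf x = r) {K : Subgroup G}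
    (hmv : cj x K ≠ K) {i : ℕ} (hi : ¬ r ∣ i) : cj (x ^ i) K ≠ K := by
  intro h
  apply hmv
  have hcop : i.Coprime (orderOf x) := by
    rw [hxr]
    exact ((Nat.Prime.coprime_iff_not_dvd hr).mpr hi).symm
  obtain ⟨m, hm⟩ := exists_pow_eq_self_of_coprime hcop
  have := cj_pow_eq_of_cj_eq h m
  rwa [hm] at this

theorem cj_pow_injOn {x : G} {r : ℕ} (hr : r.Prime) (hxr : orderOf x = r) {K : Subgroup G}
    (hmv : cj x K ≠ K) : Set.InjOn (fun i : ℕ => cj (x ^ i) K) (Finset.range r : Set ℕ) := by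
  have key : ∀ i j : ℕ, i < j → j < r → cj (x ^ i) K ≠ cj (x ^ j) K := by
    intro i j hij hjr h
    have h1 : x ^ j = x ^ i * x ^ (j - i) := by
      rw [← pow_add]
      congr 1
      omega
    rw [h1, cj_mul] at h
    have h2 := cj_injective _ h
    refine cj_pow_ne hr hxr hmv ?_ h2.symm
    intro hd
    have := Nat.le_of_dvd (by omega) hd
    omega
  intro i hi j hj h
  simp only [Finset.coe_range, Set.mem_Iio] at hi hj
  simp only at h
  rcases lt_trichotomy i j with h1 | h1 | h1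
  · exact absurd h (key i j h1 hj)
  · exact h1
  · exact absurd h.symm (key j i h1 hi)


section Nrm

variable [Finite G] {W : Subgroup G} [IsMulCommutative ↥W] {x : G}

/-- the norm map `w ↦ ∏_{i < r} x^i w x^{-i}` on the abelian group `W` -/
noncomputable def nrm (W : Subgroup G) [IsMulCommutative ↥W] (x : G)
    (hx : x ∈ normalizer (W : Set G)) (r : ℕ) : ↥W →* ↥W :=
  ∏ i ∈ Finset.range r, conjW W (x ^ i) (Subgroup.pow_mem _ hx i)

theorem nrm_apply (hx : x ∈ normalizer (W : Set G)) (r : ℕ) (w : ↥W) :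
    nrm W x hx r w = ∏ i ∈ Finset.range r, conjW W (x ^ i) (Subgroup.pow_mem _ hx i) w := by
  unfold nrm
  rw [MonoidHom.finset_prod_apply]

/-- the norm is fixed by `x` -/
theorem nrm_mem_cw (hx : x ∈ normalizer (W : Set G)) {r : ℕ} (hxr : x ^ r = 1) (w : ↥W) :
    ((nrm W x hx r w : ↥W) : G) ∈ cw W (zpowers x) := by
  rw [mem_cw]
  refine ⟨(nrm W x hx r w).2, ?_⟩
  have h1 : conjW W x hx (nrm W x hx r w) = nrm W x hx r w := by
    rw [nrm_apply, map_prod]
    have e : ∀ i : ℕ, conjW W x hx (conjW W (x ^ i) (Subgroup.pow_mem _ hx i) w) =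
        conjW W (x ^ (i + 1)) (Subgroup.pow_mem _ hx (i + 1)) w := by
      intro i
      apply Subtype.ext
      simp only [conjW_coe, pow_succ']
      group
    rw [Finset.prod_congr rfl (fun i _ => e i)]
    have h2 := Finset.prod_range_succ'
      (fun i => conjW W (x ^ i) (Subgroup.pow_mem _ hx i) w) r
    have h3 := Finset.prod_range_succ
      (fun i => conjW W (x ^ i) (Subgroup.pow_mem _ hx i) w) r
    have h4 : conjW W (x ^ r) (Subgroup.pow_mem _ hx r) w =
        conjW W (x ^ 0) (Subgroup.pow_mem _ hx 0) w := by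
      apply Subtype.ext
      simp only [conjW_coe, hxr, pow_zero]
    beta_reduce at h2 h3
    rw [h3, h4] at h2
    exact (mul_right_cancel h2).symm
  have h2 := congrArg (fun z : ↥W => (z : G)) h1
  simp only [conjW_coe] at h2
  have hx1 : x * ((nrm W x hx r w : ↥W) : G) = (nrm W x hx r w : ↥W) * x := by
    calc x * ((nrm W x hx r w : ↥W) : G) = x * (nrm W x hx r w : ↥W) * x⁻¹ * x := by group
      _ = (nrm W x hx r w : ↥W) * x := by rw [h2]
  intro k hk
  have hle : zpowers x ≤ centralizer ({((nrm W x hx r w : ↥W) : G)} : Set G) := by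
    rw [Subgroup.zpowers_le, Subgroup.mem_centralizer_singleton_iff]
    exact hx1
  have := hle hk
  rw [Subgroup.mem_centralizer_singleton_iff] at this
  exact this

/-- the norm of an element of `C_W(K)` lies in the join of the conjugates of `C_W(K)` -/
theorem nrm_mem_iSup (hx : x ∈ normalizer (W : Set G)) (r : ℕ) {K : Subgroup G} (w : ↥W)
    (hw : (w : G) ∈ cw W K) :
    ((nrm W x hx r w : ↥W) : G) ∈ ⨆ i : ℕ, cw W (cj (x ^ i) K) := by
  rw [nrm_apply]
  have hsub : ∀ i : ℕ, conjW W (x ^ i) (Subgroup.pow_mem _ hx i) w ∈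
      (⨆ i : ℕ, cw W (cj (x ^ i) K)).subgroupOf W := by
    intro i
    rw [Subgroup.mem_subgroupOf, conjW_coe]
    apply Subgroup.mem_iSup_of_mem i
    rw [cw_cj (Subgroup.pow_mem _ hx i)]
    exact conj_mem_cj hw
  have := Subgroup.prod_mem ((⨆ i : ℕ, cw W (cj (x ^ i) K)).subgroupOf W)
    (fun i (_ : i ∈ Finset.range r) => hsub i)
  rw [Subgroup.mem_subgroupOf] at this
  exact this

end Nrm


/-- the data of the element `x` of prime order `r` acting on `A` and `W` with `|C_W(x)| ≤ p` -/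
structure XData (p r : ℕ) (A W : Subgroup G) (x : G) : Prop where
  hxA : x ∈ normalizer (A : Set G)
  hxW : x ∈ normalizer (W : Set G)
  hxr : orderOf x = r
  hCW : Nat.card ↥(cw W (zpowers x)) ≤ p

/-- bad hyperplanes: `C_W(K) ≠ 1` and `[A, x] ≰ K` -/
def Bad (q : ℕ) (A W : Subgroup G) (x : G) (K : Subgroup G) : Prop :=
  IsHyp q A K ∧ cw W K ≠ ⊥ ∧ ¬ ⁅A, zpowers x⁆ ≤ K

/-- if `[A, x] ≤ K ≤ A` then `x` normalizes `K` -/
theorem cj_eq_of_commutator_le {A K : Subgroup G} {x : G} (hKA : K ≤ A)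
    (h : ⁅A, zpowers x⁆ ≤ K) : cj x K = K := by
  apply cj_eq_of_mem_normalizer
  have key : ∀ y ∈ zpowers x, ∀ k ∈ K, y * k * y⁻¹ ∈ K := by
    intro y hy k hk
    have h1 : ⁅y, k⁆ ∈ ⁅A, zpowers x⁆ := by
      rw [Subgroup.commutator_comm]
      exact Subgroup.commutator_mem_commutator hy (hKA hk)
    have h2 := K.mul_mem (h h1) hk
    rw [commutatorElement_def] at h2
    have e : y * k * y⁻¹ * k⁻¹ * k = y * k * y⁻¹ := by group
    rwa [e] at h2
  rw [Subgroup.mem_normalizer_iff]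
  intro k
  constructor
  · intro hk
    exact key x (Subgroup.mem_zpowers x) k hk
  · intro hk
    have := key x⁻¹ (Subgroup.inv_mem _ (Subgroup.mem_zpowers x)) _ hk
    have e : x⁻¹ * (x * k * x⁻¹) * x⁻¹⁻¹ = k := by group
    rwa [e] at this

section XLemmas

variable [Finite G] {p q r : ℕ} [hp : Fact p.Prime] [hq : Fact q.Prime] [hr : Fact r.Prime]
  {A W : Subgroup G} {x : G}

theorem XData.pow_eq_one (D : XData p r A W x) : x ^ r = 1 := by
  rw [← D.hxr]
  exact pow_orderOf_eq_one x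

theorem XData.card_zpowers (D : XData p r A W x) : Nat.card ↥(zpowers x) = r := by
  rw [Nat.card_zpowers, D.hxr]

theorem XData.zpowers_le_A (D : XData p r A W x) : zpowers x ≤ normalizer (A : Set G) :=
  Subgroup.zpowers_le.mpr D.hxA

theorem XData.zpowers_le_W (D : XData p r A W x) : zpowers x ≤ normalizer (W : Set G) :=
  Subgroup.zpowers_le.mpr D.hxW

theorem XData.isHyp_pow (D : XData p r A W x) {K : Subgroup G} (hK : IsHyp q A K) (i : ℕ) :
    IsHyp q A (cj (x ^ i) K) :=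
  hK.cj (Subgroup.pow_mem _ D.hxA i)

/-- `avg_K (nrm w) = w ^ |K|` for `w ∈ C_W(K)`, `K` moved by `x` -/
theorem Setup.avg_nrm (S : Setup p q A W) (D : XData p r A W x) {K : Subgroup G}
    (hK : IsHyp q A K) (hmv : cj x K ≠ K) (w : ↥W) (hw : (w : G) ∈ cw W K) :
    haveI := S.instComm
    avg W K (hK.1.trans S.hAW) (nrm W x D.hxW r w) = w ^ Nat.card ↥K := by
  haveI := S.instComm
  rw [nrm_apply, map_prod]
  rw [Finset.prod_eq_single 0]
  · have e : conjW W (x ^ 0) (Subgroup.pow_mem _ D.hxW 0) w = w := by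
      apply Subtype.ext
      simp only [conjW_coe, pow_zero]
      group
    rw [e, avg_of_mem_cw W K (hK.1.trans S.hAW) w hw]
  · intro i hi hi0
    rw [Finset.mem_range] at hi
    have hnd : ¬ r ∣ i := by
      intro hd
      have := Nat.le_of_dvd (Nat.pos_of_ne_zero hi0) hd
      omega
    have hne : K ≠ cj (x ^ i) K := (cj_pow_ne hr.out D.hxr hmv hnd).symm
    apply S.avg_kill hK (D.isHyp_pow hK i) hne
    rw [conjW_coe, cw_cj (Subgroup.pow_mem _ D.hxW i)]
    exact conj_mem_cj hw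
  · intro h0
    exfalso
    apply h0
    rw [Finset.mem_range]
    exact hr.out.pos

/-- **moved hyperplanes**: a nontrivial `x`-fixed element in the join of the orbit -/
theorem Setup.moved_exists (S : Setup p q A W) (hpq : p ≠ q) (D : XData p r A W x)
    {K : Subgroup G} (hK : IsHyp q A K) (hne : cw W K ≠ ⊥) (hmv : cj x K ≠ K) :
    haveI := S.instComm
    ∃ c : ↥W, (c : G) ∈ cw W (zpowers x) ∧ (c : G) ∈ ⨆ i : ℕ, cw W (cj (x ^ i) K) ∧
      avg W K (hK.1.trans S.hAW) c ≠ 1 := by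
  haveI := S.instComm
  obtain ⟨w, hw, hw1⟩ := (Subgroup.ne_bot_iff_exists_ne_one (H := cw W K)).mp hne |>.imp
    (fun w hw => hw) |> fun ⟨w, hw⟩ => (⟨(w : G), w.2, fun h => hw (Subtype.ext h)⟩ :
      ∃ w : G, w ∈ cw W K ∧ w ≠ 1)
  have hwW : w ∈ W := cw_le _ _ hw
  refine ⟨nrm W x D.hxW r ⟨w, hwW⟩, nrm_mem_cw D.hxW D.pow_eq_one _,
    nrm_mem_iSup D.hxW r ⟨w, hwW⟩ hw, ?_⟩
  rw [S.avg_nrm D hK hmv ⟨w, hwW⟩ hw]
  intro h
  have := S.eq_one_of_pow_card hpq hK.1 ⟨w, hwW⟩ h
  exact hw1 (congrArg Subtype.val this)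

/-- for a moved hyperplane `K`, `|C_W(K)| ≤ p` -/
theorem Setup.card_cw_le_of_moved (S : Setup p q A W) (hpq : p ≠ q) (D : XData p r A W x)
    {K : Subgroup G} (hK : IsHyp q A K) (hmv : cj x K ≠ K) : Nat.card ↥(cw W K) ≤ p := by
  haveI := S.instComm
  refine le_trans ?_ D.hCW
  let φ : ↥(cw W K) → ↥(cw W (zpowers x)) := fun w =>
    ⟨(nrm W x D.hxW r ⟨(w : G), cw_le _ _ w.2⟩ : ↥W), nrm_mem_cw D.hxW D.pow_eq_one _⟩
  apply Nat.card_le_card_of_injective φ
  intro w w' h
  have h1 : nrm W x D.hxW r ⟨(w : G), cw_le _ _ w.2⟩ = nrm W x D.hxW r ⟨(w' : G), cw_le _ _ w'.2⟩ := by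
    apply Subtype.ext
    exact congrArg (fun z : ↥(cw W (zpowers x)) => (z : G)) h
  have h2 := congrArg (avg W K (hK.1.trans S.hAW)) h1
  rw [S.avg_nrm D hK hmv _ w.2, S.avg_nrm D hK hmv _ w'.2] at h2
  have h3 : ((⟨(w : G), cw_le _ _ w.2⟩ : ↥W) / ⟨(w' : G), cw_le _ _ w'.2⟩) ^ Nat.card ↥K = 1 := by
    rw [div_pow, h2, div_self']
  have h4 := S.eq_one_of_pow_card hpq hK.1 _ h3
  rw [div_eq_one] at h4
  apply Subtype.ext
  exact congrArg (fun z : ↥W => (z : G)) h4


/-- `A` normalizes `C_W(K)` -/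
theorem Setup.le_normalizer_cw (S : Setup p q A W) {K : Subgroup G} (hK : K ≤ A) :
    A ≤ normalizer ((cw W K : Subgroup G) : Set G) := by
  intro a ha
  apply mem_normalizer_of_cj_eq
  rw [← cw_cj (S.hAW ha)]
  congr 1
  apply cj_eq_of_mem_normalizer
  rw [Subgroup.mem_normalizer_iff]
  intro k
  constructor
  · intro hk
    have : a * k * a⁻¹ = k := by
      rw [S.comm ha (hK hk)]
      group
    rw [this]; exact hk
  · intro hk
    have h1 : a * k * a⁻¹ ∈ A := A.mul_mem (A.mul_mem ha (by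
      have := A.mul_mem (A.mul_mem (A.inv_mem ha) (hK hk)) ha
      have e : a⁻¹ * (a * k * a⁻¹) * a = k := by group
      rwa [e] at this)) (A.inv_mem ha)
    have hkA : k ∈ A := by
      have := A.mul_mem (A.mul_mem (A.inv_mem ha) h1) ha
      have e : a⁻¹ * (a * k * a⁻¹) * a = k := by group
      rwa [e] at this
    have : a * k * a⁻¹ = k := by
      rw [S.comm ha hkA]
      group
    rwa [this] at hk

/-- **fixed bad hyperplanes**: a nontrivial `x`-fixed element of `C_W(K)` -/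
theorem Setup.fixed_exists (S : Setup p q A W) (hpq : p ≠ q) (hpr : p ≠ r) (hqr : q ≠ r)
    (hq2 : q ≠ 2) (D : XData p r A W x) {K : Subgroup G} (hK : IsHyp q A K)
    (hne : cw W K ≠ ⊥) (hfx : cj x K = K) (hbad : ¬ ⁅A, zpowers x⁆ ≤ K) :
    ∃ c : G, c ≠ 1 ∧ c ∈ cw W (zpowers x) ∧ c ∈ cw W K := by
  by_contra hcon
  push_neg at hcon
  apply hbad
  have hbot : cw W K ⊓ centralizer ((zpowers x : Subgroup G) : Set G) = ⊥ := by
    rw [eq_bot_iff]
    intro c hc
    rw [Subgroup.mem_bot]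
    by_contra hc1
    exact hcon c hc1 ⟨cw_le _ _ hc.1, hc.2⟩ hc.1
  have hXP : zpowers x ≤ normalizer ((cw W K : Subgroup G) : Set G) := by
    rw [Subgroup.zpowers_le]
    apply mem_normalizer_of_cj_eq
    rw [← cw_cj D.hxW, hfx]
  have key := Cfsg.Agent.Helper8.HHLin.commutator_le_centralizer_pgroup p hq.out hr.out hpq hpr hqr
    (fun h => hq2 h.1) (zpowers x) A (cw W K) (S.isPGroupW.to_le (cw_le _ _)) D.card_zpowers
    S.isPGroupA D.zpowers_le_A hXP (S.le_normalizer_cw hK.1) hbot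
  rw [Subgroup.commutator_comm]
  have hle : ⁅zpowers x, A⁆ ≤ A := by
    rw [Subgroup.commutator_le]
    intro y hy a ha
    rw [commutatorElement_def]
    have h1 : y * a * y⁻¹ ∈ A := (Subgroup.mem_normalizer_iff.mp (D.zpowers_le_A hy) a).mp ha
    exact A.mul_mem h1 (A.inv_mem ha)
  have := le_inf hle key
  rwa [S.centralizer_cw hK hne] at this

/-- **bad hyperplanes**: a nontrivial `x`-fixed element in the join of the orbit, not killed
by `avg_K` -/
theorem Setup.bad_exists (S : Setup p q A W) (hpq : p ≠ q) (hpr : p ≠ r) (hqr : q ≠ r)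
    (hq2 : q ≠ 2) (D : XData p r A W x) {K : Subgroup G} (hK : Bad q A W x K) :
    haveI := S.instComm
    ∃ c : ↥W, (c : G) ∈ cw W (zpowers x) ∧ (c : G) ∈ ⨆ i : ℕ, cw W (cj (x ^ i) K) ∧
      avg W K (hK.1.1.trans S.hAW) c ≠ 1 := by
  haveI := S.instComm
  by_cases hfx : cj x K = K
  · obtain ⟨c, hc1, hcx, hcK⟩ := S.fixed_exists hpq hpr hqr hq2 D hK.1 hK.2.1 hfx hK.2.2
    have hcW : c ∈ W := cw_le _ _ hcK
    refine ⟨⟨c, hcW⟩, hcx, ?_, ?_⟩
    · apply Subgroup.mem_iSup_of_mem 0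
      rw [pow_zero, cj_one]
      exact hcK
    · rw [avg_of_mem_cw W K (hK.1.1.trans S.hAW) ⟨c, hcW⟩ hcK]
      intro h
      have := S.eq_one_of_pow_card hpq hK.1.1 ⟨c, hcW⟩ h
      exact hc1 (congrArg Subtype.val this)
  · exact S.moved_exists hpq D hK.1 hK.2.1 hfx

/-- for a bad hyperplane `K`, `avg_K` kills no nontrivial element of `C_W(x)` -/
theorem Setup.bad_avg_ne_one (S : Setup p q A W) (hpq : p ≠ q) (hpr : p ≠ r) (hqr : q ≠ r)
    (hq2 : q ≠ 2) (D : XData p r A W x) {K : Subgroup G} (hK : Bad q A W x K)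
    (c : ↥W) (hc : (c : G) ∈ cw W (zpowers x)) (hc1 : c ≠ 1) :
    haveI := S.instComm
    avg W K (hK.1.1.trans S.hAW) c ≠ 1 := by
  haveI := S.instComm
  obtain ⟨c₀, hc₀x, -, hc₀⟩ := S.bad_exists hpq hpr hqr hq2 D hK
  -- `C_W(x)` has order `p`
  have hcard : Nat.card ↥(cw W (zpowers x)) = p := by
    obtain ⟨n, hn⟩ := (S.isPGroupW.to_le (cw_le W (zpowers x))).exists_card_eq
    have hle := D.hCW
    rw [hn] at hle ⊢
    rcases Nat.lt_or_ge n 1 with h0 | h1
    · exfalso
      have hn0 : n = 0 := by omega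
      rw [hn0, pow_zero] at hn
      have hbot := Subgroup.eq_bot_of_card_eq _ hn
      rw [hbot, Subgroup.mem_bot] at hc
      exact hc1 (Subtype.ext hc)
    · rcases Nat.lt_or_ge 1 n with h2 | h2
      · exfalso
        have h3 : p ^ 2 ≤ p ^ n := Nat.pow_le_pow_right hp.out.pos h2
        have h4 : p * 2 ≤ p ^ 2 := by
          rw [pow_two]
          exact Nat.mul_le_mul_left p hp.out.two_le
        have := hp.out.pos
        omega
      · have : n = 1 := by omega
        rw [this, pow_one]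
  have htop := zpowers_eq_top_of_prime_card (G := ↥(cw W (zpowers x))) hcard
    (g := ⟨(c : G), hc⟩) (fun h => hc1 (Subtype.ext (congrArg (fun z : ↥(cw W (zpowers x)) => (z : G)) h)))
  have hmem : (⟨(c₀ : G), hc₀x⟩ : ↥(cw W (zpowers x))) ∈ zpowers (⟨(c : G), hc⟩ : ↥(cw W (zpowers x))) := by
    rw [htop]; exact Subgroup.mem_top _
  obtain ⟨k, hk⟩ := Subgroup.mem_zpowers_iff.mp hmem
  have hk' : c ^ k = c₀ := by
    apply Subtype.ext
    have := congrArg (fun z : ↥(cw W (zpowers x)) => (z : G)) hk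
    simpa using this
  intro h
  apply hc₀
  rw [← hk', map_zpow, h, one_zpow]

/-- **all bad hyperplanes lie in one `x`-orbit** -/
theorem Setup.bad_orbit (S : Setup p q A W) (hpq : p ≠ q) (hpr : p ≠ r) (hqr : q ≠ r)
    (hq2 : q ≠ 2) (D : XData p r A W x) {K K' : Subgroup G} (hK : Bad q A W x K)
    (hK' : Bad q A W x K') : ∃ i : ℕ, K' = cj (x ^ i) K := by
  haveI := S.instComm
  by_contra hcon
  push_neg at hcon
  obtain ⟨c, hcx, hcS, hc⟩ := S.bad_exists hpq hpr hqr hq2 D hK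
  have hc1 : c ≠ 1 := by
    intro h
    apply hc
    rw [h, map_one]
  have h1 := S.bad_avg_ne_one hpq hpr hqr hq2 D hK' c hcx hc1
  apply h1
  exact S.avg_kill_iSup hK'.1 (fun i : ℕ => cj (x ^ i) K) (fun i => D.isHyp_pow hK.1 i) hcon c hcS

end XLemmas

end Cfsg.Agent.Helper25.BG36
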