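import Mathlib
import Cfsg.Agent.Lib.Helper25.BG36D
import Cfsg.Agent.Lib.Helper1.Glauberman

/-!
# Toolkit for BG Theorem 3.6 (S1444), part E (helper25)

The `p`-group `P = [P, x]` (with `C_P(x) ≤ C(A)`) fixes every active hyperplane of `A`.
-/

set_option autoImplicit false
set_option linter.unusedSectionVars false

namespace Cfsg.Agent.Helper25.BG36

open Subgroup
open scoped IsMulCommutative commutatorElement

variable {G : Type*} [Group G]

/-- the data of the `p`-group `P` -/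
structure PData (p : ℕ) (A W P : Subgroup G) (x : G) : Prop where
  hP : IsPGroup p ↥P
  hPA : P ≤ normalizer (A : Set G)
  hPW : P ≤ normalizer (W : Set G)
  hxP : x ∈ normalizer (P : Set G)
  hcomm : ⁅P, zpowers x⁆ = P
  hCP : P ⊓ centralizer ((zpowers x : Subgroup G) : Set G) ≤ centralizer (A : Set G)

/-- active hyperplanes -/
def Act (q : ℕ) (A W K : Subgroup G) : Prop := IsHyp q A K ∧ cw W K ≠ ⊥

theorem Act.cj {q : ℕ} {A W K : Subgroup G} (h : Act q A W K) {g : G}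
    (hgA : g ∈ normalizer (A : Set G)) (hgW : g ∈ normalizer (W : Set G)) :
    Act q A W (cj g K) := by
  refine ⟨h.1.cj hgA, ?_⟩
  rw [cw_cj hgW]
  intro h'
  exact h.2 (cj_eq_bot_iff.mp h')

theorem Act.bad_of_moved {q : ℕ} {A W K : Subgroup G} {x : G} (h : Act q A W K)
    (hmv : BG36.cj x K ≠ K) : Bad q A W x K :=
  ⟨h.1, h.2, fun hle => hmv (cj_eq_of_commutator_le h.1.1 hle)⟩

/-- conjugation action of `G` on its subgroups (not an instance) -/
def cjAction : MulAction G (Subgroup G) where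
  smul := cj
  one_smul := cj_one
  mul_smul := cj_mul

theorem cj_eq_of_mem_centralizer {c : G} {μ A : Subgroup G} (hμ : μ ≤ A)
    (hc : c ∈ centralizer (A : Set G)) : cj c μ = μ := by
  rw [Subgroup.mem_centralizer_iff] at hc
  ext a
  rw [mem_cj]
  constructor
  · intro h
    have h1 := hc _ (hμ h)
    have e : a = c * (c⁻¹ * a * c) * c⁻¹ := by group
    rw [e, ← h1]
    have e2 : c⁻¹ * a * c * c * c⁻¹ = c⁻¹ * a * c := by group
    rw [e2]
    exact h
  · intro h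
    have h1 := hc _ (hμ h)
    have e : c⁻¹ * a * c = c⁻¹ * (a * c) := by group
    rw [e, h1]
    have e2 : c⁻¹ * (c * a) = a := by group
    rw [e2]
    exact h

section Fix

variable [Finite G] {p q r : ℕ} [hp : Fact p.Prime] [hq : Fact q.Prime] [hr : Fact r.Prime]
  {A W P : Subgroup G} {x : G}

/-- Glauberman's lemma in the form needed here -/
theorem glauberman_lite (hpr : p ≠ r) (hxr : orderOf x = r) (PD : PData p A W P x)
    {μ : Subgroup G} (hμ : μ ≤ A) (hfx : cj x μ = μ) {g : G} (hg : g ∈ P)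
    (hfx' : cj x (cj g μ) = cj g μ) : cj g μ = μ := by
  letI : MulAction G (Subgroup G) := cjAction
  have hX : ∀ K : Subgroup G, cj x K = K → ∀ a ∈ zpowers x, cj a K = K := fun K h a ha =>
    cj_eq_of_mem_normalizer (Subgroup.zpowers_le.mpr (mem_normalizer_of_cj_eq h) ha)
  have hcard : Nat.card ↥(zpowers x) = r := by rw [Nat.card_zpowers, hxr]
  obtain ⟨n, hn⟩ := PD.hP.exists_card_eq
  have hcop : (Nat.card ↥(zpowers x)).Coprime (Nat.card ↥P) := by
    rw [hcard, hn]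
    exact Nat.Coprime.pow_right n ((Nat.coprime_primes hr.out hp.out).mpr hpr.symm)
  have hsolv : Group.IsSolvable ↥(zpowers x) := by
    haveI : Fact (Nat.card ↥(zpowers x)).Prime := ⟨by rw [hcard]; exact hr.out⟩
    haveI : IsCyclic ↥(zpowers x) := isCyclic_of_prime_card rfl
    exact Group.isSolvable_of_comm
      (fun a b => (IsCyclic.isMulCommutative (α := ↥(zpowers x))).is_comm.comm a b)
  obtain ⟨c, hc, hcμ⟩ := Cfsg.Agent.Helper1.glauberman_fixed_conj (zpowers x) P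
    (Subgroup.zpowers_le.mpr PD.hxP) hcop (Or.inl hsolv) μ (hX μ hfx) g hg (hX _ hfx')
  have h1 : cj c μ = μ := cj_eq_of_mem_centralizer hμ (PD.hCP hc)
  change cj c μ = cj g μ at hcμ
  rw [← hcμ, h1]

/-- the orbit of a subgroup under the `p`-group `P` has `p`-power size -/
theorem orbit_ncard (hP : IsPGroup p ↥P) (K₀ : Subgroup G) :
    ∃ n : ℕ, Set.ncard {K : Subgroup G | ∃ g ∈ P, K = cj g K₀} = p ^ n := by
  letI inst : MulAction ↥P (Subgroup G) :=
    { smul := fun g K => cj (g : G) K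
      one_smul := fun K => cj_one K
      mul_smul := fun g h K => cj_mul (g : G) (h : G) K }
  obtain ⟨n, hn⟩ := hP.card_orbit K₀
  refine ⟨n, ?_⟩
  rw [← hn, Nat.card_coe_set_eq]
  congr 1
  ext K
  constructor
  · rintro ⟨g, hg, rfl⟩
    exact ⟨⟨g, hg⟩, rfl⟩
  · rintro ⟨g, rfl⟩
    exact ⟨g, g.2, rfl⟩

/-- if some power `x ^ i` (`r ∤ i`) maps a member of the `P`-orbit of `K₀` into the orbit,
then every power of `x` preserves the orbit -/
theorem orbit_inv_of_pow (hxr : orderOf x = r) (hxP : x ∈ normalizer (P : Set G))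
    {K₀ : Subgroup G} {h h' : G} (hh : h ∈ P) (hh' : h' ∈ P) {i : ℕ} (hi : ¬ r ∣ i)
    (heq : cj (x ^ i) (cj h K₀) = cj h' K₀) :
    ∀ j : ℕ, ∀ g ∈ P, ∃ g' ∈ P, cj (x ^ j) (cj g K₀) = cj g' K₀ := by
  have hyP : x ^ i ∈ normalizer (P : Set G) := Subgroup.pow_mem _ hxP i
  have ha : ∀ g ∈ P, ∃ g' ∈ P, cj (x ^ i) (cj g K₀) = cj g' K₀ := by
    intro g hg
    have hmem : x ^ i * (g * h⁻¹) * (x ^ i)⁻¹ ∈ P :=
      (Subgroup.mem_normalizer_iff.mp hyP _).mp (P.mul_mem hg (P.inv_mem hh))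
    refine ⟨x ^ i * (g * h⁻¹) * (x ^ i)⁻¹ * h', P.mul_mem hmem hh', ?_⟩
    rw [cj_mul _ h', ← heq, ← cj_mul, ← cj_mul, ← cj_mul]
    congr 1
    group
  have hb : ∀ m : ℕ, ∀ g ∈ P, ∃ g' ∈ P, cj ((x ^ i) ^ m) (cj g K₀) = cj g' K₀ := by
    intro m
    induction m with
    | zero =>
      intro g hg
      exact ⟨g, hg, by rw [pow_zero, cj_one]⟩
    | succ m ih =>
      intro g hg
      obtain ⟨g', hg', h1⟩ := ih g hg
      obtain ⟨g'', hg'', h2⟩ := ha g' hg'
      refine ⟨g'', hg'', ?_⟩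
      rw [pow_succ', cj_mul, h1, h2]
  have hcop : i.Coprime (orderOf x) := by
    rw [hxr]
    exact ((Nat.Prime.coprime_iff_not_dvd hr.out).mpr hi).symm
  obtain ⟨m₀, hm₀⟩ := exists_pow_eq_self_of_coprime hcop
  intro j g hg
  obtain ⟨g', hg', h1⟩ := hb (m₀ * j) g hg
  refine ⟨g', hg', ?_⟩
  rw [← h1, pow_mul, hm₀]


/-- **`P` fixes every active hyperplane** -/
theorem Setup.P_fixes (S : Setup p q A W) (hpq : p ≠ q) (hpr : p ≠ r) (hqr : q ≠ r)
    (hq2 : q ≠ 2) (hp2 : Odd p) (hr2 : Odd r) (D : XData p r A W x) (PD : PData p A W P x)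
    {K₀ : Subgroup G} (hK₀ : Act q A W K₀) : ∀ g ∈ P, cj g K₀ = K₀ := by
  by_contra hcon
  push_neg at hcon
  obtain ⟨g₁, hg₁, hne₁⟩ := hcon
  have hact : ∀ g ∈ P, Act q A W (cj g K₀) := fun g hg => hK₀.cj (PD.hPA hg) (PD.hPW hg)
  -- two `x`-fixed members of the orbit coincide
  have hfix : ∀ g ∈ P, ∀ g' ∈ P, cj x (cj g K₀) = cj g K₀ → cj x (cj g' K₀) = cj g' K₀ →
      cj g K₀ = cj g' K₀ := by
    intro g hg g' hg' h h'
    have e : cj (g' * g⁻¹) (cj g K₀) = cj g' K₀ := by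
      rw [← cj_mul, inv_mul_cancel_right]
    have := glauberman_lite hpr D.hxr PD (μ := cj g K₀) (hact g hg).1.1 h (g := g' * g⁻¹)
      (P.mul_mem hg' (P.inv_mem hg)) (by rw [e]; exact h')
    rw [e] at this
    exact this.symm
  -- a moved member
  obtain ⟨g₂, hg₂, hmv₂⟩ : ∃ g ∈ P, cj x (cj g K₀) ≠ cj g K₀ := by
    by_contra hall
    push_neg at hall
    exact hne₁ ((hfix g₁ hg₁ 1 P.one_mem (hall g₁ hg₁) (hall 1 P.one_mem)).trans (cj_one K₀))
  -- the orbit is `x`-invariant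
  have hinv : ∀ j : ℕ, ∀ g ∈ P, ∃ g' ∈ P, cj (x ^ j) (cj g K₀) = cj g' K₀ := by
    by_cases hex : ∃ g ∈ P, cj x (cj g K₀) = cj g K₀
    · obtain ⟨h, hh, hfx⟩ := hex
      refine orbit_inv_of_pow D.hxr PD.hxP hh hh (i := 1) ?_ (by rw [pow_one]; exact hfx)
      intro hd
      exact hr.out.one_lt.ne' (Nat.dvd_one.mp hd)
    · push_neg at hex
      have hb0 : Bad q A W x (cj 1 K₀) := (hact 1 P.one_mem).bad_of_moved (hex 1 P.one_mem)
      have hb1 : Bad q A W x (cj g₁ K₀) := (hact g₁ hg₁).bad_of_moved (hex g₁ hg₁)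
      obtain ⟨i, hi⟩ := S.bad_orbit hpq hpr hqr hq2 D hb0 hb1
      have hnd : ¬ r ∣ i := by
        intro hd
        have h1 : x ^ i = 1 := by
          rw [← D.hxr] at hd
          exact orderOf_dvd_iff_pow_eq_one.mp hd
        rw [h1, cj_one, cj_one] at hi
        exact hne₁ hi
      exact orbit_inv_of_pow D.hxr PD.hxP P.one_mem hg₁ hnd hi.symm
  -- counting
  set O : Set (Subgroup G) := {K | ∃ g ∈ P, K = cj g K₀} with hO
  have hbK' : Bad q A W x (cj g₂ K₀) := (hact g₂ hg₂).bad_of_moved hmv₂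
  set B : Set (Subgroup G) :=
    (fun i : ℕ => cj (x ^ i) (cj g₂ K₀)) '' (Finset.range r : Set ℕ) with hB
  set F : Set (Subgroup G) := {K | K ∈ O ∧ cj x K = K} with hF
  have hBcard : B.ncard = r := by
    rw [hB, Set.InjOn.ncard_image (cj_pow_injOn hr.out D.hxr hmv₂), Set.ncard_coe_finset,
      Finset.card_range]
  have hBO : B ⊆ O := by
    rintro K ⟨i, -, rfl⟩
    obtain ⟨g', hg', h⟩ := hinv i g₂ hg₂
    exact ⟨g', hg', h⟩
  have hOBF : O ⊆ B ∪ F := by
    rintro K ⟨g, hg, rfl⟩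
    by_cases hfx : cj x (cj g K₀) = cj g K₀
    · right
      exact ⟨⟨g, hg, rfl⟩, hfx⟩
    · left
      obtain ⟨i, hi⟩ := S.bad_orbit hpq hpr hqr hq2 D hbK' ((hact g hg).bad_of_moved hfx)
      refine ⟨i % r, ?_, ?_⟩
      · simp only [Finset.coe_range, Set.mem_Iio]
        exact Nat.mod_lt _ hr.out.pos
      · simp only
        rw [hi]
        congr 1
        rw [← D.hxr]
        exact pow_mod_orderOf x i
  have hFsub : F.ncard ≤ 1 := by
    rw [Set.ncard_le_one_iff (Set.toFinite F)]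
    rintro a b ⟨⟨g, hg, rfl⟩, ha⟩ ⟨⟨g', hg', rfl⟩, hb⟩
    exact hfix g hg g' hg' ha hb
  obtain ⟨n, hn⟩ := orbit_ncard PD.hP K₀
  have h1 : r ≤ O.ncard := by
    rw [← hBcard]
    exact Set.ncard_le_ncard hBO (Set.toFinite O)
  have h2 : O.ncard ≤ r + 1 := by
    calc O.ncard ≤ (B ∪ F).ncard := Set.ncard_le_ncard hOBF (Set.toFinite _)
      _ ≤ B.ncard + F.ncard := Set.ncard_union_le B F
      _ ≤ r + 1 := by omega
  rw [hO, hn] at h1 h2
  rcases (by omega : p ^ n = r ∨ p ^ n = r + 1) with h | h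
  · rcases Nat.eq_zero_or_pos n with h0 | h0
    · rw [h0, pow_zero] at h
      exact hr.out.one_lt.ne h
    · have hd : p ∣ r := by
        rw [← h]
        exact dvd_pow_self p h0.ne'
      exact hpr ((Nat.prime_dvd_prime_iff_eq hp.out hr.out).mp hd)
  · have h3 : Odd (p ^ n) := hp2.pow
    have h4 : Even (r + 1) := hr2.add_one
    rw [h] at h3
    exact (Nat.not_even_iff_odd.mpr h3) h4

end Fix

end Cfsg.Agent.Helper25.BG36
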