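import Mathlib
import Cfsg.Agent.Lib.Helper25.BG36E
import Cfsg.Agent.Lib.Helper25.BG36C
import Cfsg.Agent.Lib.Helper19.PGroupBasic

/-!
# Toolkit for BG Theorem 3.6 (S1444), part F (helper25)

The abelian case of Lemma A: `P = [P, x]` centralizes `A`.
-/

set_option autoImplicit false
set_option linter.unusedSectionVars false

namespace Cfsg.Agent.Helper25.BG36

open Subgroup Cfsg.Agent.Helper8.SecRep Cfsg.Agent.Helper8.HHLin
open scoped IsMulCommutative commutatorElement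

variable {G : Type*} [Group G]

/-- a `p`-group normalizing a group of order at most `p` centralizes it -/
theorem le_centralizer_of_card_le [Finite G] {p : ℕ} [hp : Fact p.Prime] {P Y : Subgroup G}
    (hP : IsPGroup p ↥P) (hY : IsPGroup p ↥Y) (hcard : Nat.card ↥Y ≤ p)
    (hPY : P ≤ normalizer (Y : Set G)) : P ≤ centralizer (Y : Set G) := by
  by_cases hbot : Y = ⊥
  · rw [hbot]
    intro g _
    rw [Subgroup.mem_centralizer_iff]
    intro y hy
    rw [Subgroup.coe_bot, Set.mem_singleton_iff] at hy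
    rw [hy, one_mul, mul_one]
  have hcardY : Nat.card ↥Y = p := by
    obtain ⟨n, hn⟩ := hY.exists_card_eq
    rw [hn] at hcard ⊢
    rcases Nat.lt_or_ge n 1 with h0 | h1
    · exfalso
      have hn0 : n = 0 := by omega
      rw [hn0, pow_zero] at hn
      exact hbot (Subgroup.eq_bot_of_card_eq _ hn)
    · rcases Nat.lt_or_ge 1 n with h2 | h2
      · exfalso
        have h3 : p ^ 2 ≤ p ^ n := Nat.pow_le_pow_right hp.out.pos h2
        have h4 : p * 2 ≤ p ^ 2 := by
          rw [pow_two]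
          exact Nat.mul_le_mul_left p hp.out.two_le
        have := hp.out.pos
        omega
      · have : n = 1 := by omega
        rw [this, pow_one]
  set H : Subgroup G := P ⊔ Y with hH
  have hHp : IsPGroup p ↥H := hP.to_sup_of_normal_right' hY hPY
  have hYH : Y ≤ H := le_sup_right
  have hPH : P ≤ H := le_sup_left
  haveI hN : (Y.subgroupOf H).Normal :=
    (Subgroup.normal_subgroupOf_iff_le_normalizer hYH).mpr (sup_le hPY Subgroup.le_normalizer)
  have hNne : Y.subgroupOf H ≠ ⊥ := by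
    intro h
    apply hbot
    rw [eq_bot_iff]
    intro y hy
    have : (⟨y, hYH hy⟩ : ↥H) ∈ Y.subgroupOf H := by
      rw [Subgroup.mem_subgroupOf]; exact hy
    rw [h, Subgroup.mem_bot] at this
    rw [Subgroup.mem_bot]
    exact congrArg Subtype.val this
  have h1 := Cfsg.Agent.Helper19.normal_inf_center_ne_bot hHp (Y.subgroupOf H) hNne
  rcases Subgroup.bot_or_exists_ne_one (Y.subgroupOf H ⊓ Subgroup.center ↥H) with h0 | ⟨z, hz, hz1⟩
  · exact absurd h0 h1
  have hzY : (z : G) ∈ Y := Subgroup.mem_subgroupOf.mp (Subgroup.mem_inf.mp hz).1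
  have hzZ : z ∈ Subgroup.center ↥H := (Subgroup.mem_inf.mp hz).2
  have hz1' : (z : G) ≠ 1 := fun h => hz1 (Subtype.ext h)
  have htop := zpowers_eq_top_of_prime_card (G := ↥Y) hcardY (g := ⟨(z : G), hzY⟩)
    (fun h => hz1' (congrArg (fun w : ↥Y => (w : G)) h))
  intro g hg
  rw [Subgroup.mem_centralizer_iff]
  intro y hy
  have hmem : (⟨y, hy⟩ : ↥Y) ∈ zpowers (⟨(z : G), hzY⟩ : ↥Y) := by
    rw [htop]; exact Subgroup.mem_top _
  obtain ⟨k, hk⟩ := Subgroup.mem_zpowers_iff.mp hmem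
  have hk' : (z : G) ^ k = y := by
    have := congrArg (fun w : ↥Y => (w : G)) hk
    simpa using this
  have hcomm : (z : G) * g = g * (z : G) := by
    have := Subgroup.mem_center_iff.mp hzZ ⟨g, hPH hg⟩
    have h2 := congrArg (fun w : ↥H => (w : G)) this
    simp only [Subgroup.coe_mul] at h2
    exact h2.symm
  rw [← hk']
  exact ((Commute.zpow_left (show Commute (z : G) g from hcomm) k).eq)


theorem actKer_conj [Finite G] {L L₁ : Subgroup G} {g c : G} (hg : g ∈ nn L L₁)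
    (hc : c ∈ actKer L L₁) : g * c * g⁻¹ ∈ actKer L L₁ := by
  rw [mem_actKer] at hc ⊢
  refine ⟨Subgroup.mul_mem _ (Subgroup.mul_mem _ hg hc.1) (Subgroup.inv_mem _ hg), ?_⟩
  intro a ha
  have hgL := (mem_nn.mp hg).1
  have hgL₁ := (mem_nn.mp hg).2
  have ha' : g⁻¹ * a * g ∈ L := by
    have := (Subgroup.mem_normalizer_iff.mp (Subgroup.inv_mem _ hgL) a).mp ha
    rwa [inv_inv] at this
  have h1 := hc.2 _ ha'
  have h2 := (Subgroup.mem_normalizer_iff.mp hgL₁ _).mp h1
  have e : g * (c * (g⁻¹ * a * g) * c⁻¹ * (g⁻¹ * a * g)⁻¹) * g⁻¹ =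
      g * c * g⁻¹ * a * (g * c * g⁻¹)⁻¹ * a⁻¹ := by group
  rwa [e] at h2

theorem commutator_le_actKer [Finite G] {L L₁ P X : Subgroup G} (hX : X ≤ actKer L L₁)
    (hP : P ≤ nn L L₁) : ⁅P, X⁆ ≤ actKer L L₁ := by
  rw [Subgroup.commutator_le]
  intro g hg y hy
  rw [commutatorElement_def]
  exact Subgroup.mul_mem _ (actKer_conj (hP hg) (hX hy)) (Subgroup.inv_mem _ (hX hy))

section Abelian

variable [Finite G] {p q r : ℕ} [hp : Fact p.Prime] [hq : Fact q.Prime] [hr : Fact r.Prime]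
  {A W P : Subgroup G} {x : G}

theorem Setup.isSec (S : Setup p q A W) {K : Subgroup G} (hK : K ≤ A) : IsSec A K q where
  le := hK
  normal := by
    intro a ha n hn
    have : a * n * a⁻¹ = n := by
      rw [S.comm ha (hK hn)]
      group
    rw [this]; exact hn
  comm := by
    intro a ha b hb
    have : a * b * a⁻¹ * b⁻¹ = 1 := by
      rw [S.comm ha hb]
      group
    rw [this]; exact K.one_mem
  pow := by
    intro a ha
    rw [S.hA.2 a ha]; exact K.one_mem

/-- non-bad active hyperplanes -/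
theorem Setup.le_actKer_of_nonbad (S : Setup p q A W) (D : XData p r A W x)
    (PD : PData p A W P x) {K : Subgroup G} (hK : IsHyp q A K)
    (hPK : ∀ g ∈ P, cj g K = K) (hle : ⁅A, zpowers x⁆ ≤ K) : P ≤ actKer A K := by
  have hxK : cj x K = K := cj_eq_of_commutator_le hK.1 hle
  have hXnn : zpowers x ≤ nn A K := by
    rw [Subgroup.zpowers_le, mem_nn]
    exact ⟨D.hxA, mem_normalizer_of_cj_eq hxK⟩
  have hX : zpowers x ≤ actKer A K := by
    intro y hy
    rw [mem_actKer]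
    refine ⟨hXnn hy, ?_⟩
    intro a ha
    have h1 : ⁅y, a⁆ ∈ ⁅A, zpowers x⁆ := by
      rw [Subgroup.commutator_comm]
      exact Subgroup.commutator_mem_commutator hy ha
    rw [commutatorElement_def] at h1
    exact hle h1
  have hPnn : P ≤ nn A K := by
    intro g hg
    rw [mem_nn]
    exact ⟨PD.hPA hg, mem_normalizer_of_cj_eq (hPK g hg)⟩
  have := commutator_le_actKer hX hPnn
  rwa [PD.hcomm] at this

/-- `C_A(x) ≤ K` for an `x`-invariant hyperplane `K` not containing `[A, x]` -/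
theorem Setup.centralizer_le_of_bad (S : Setup p q A W) (D : XData p r A W x)
    {K : Subgroup G} (hK : IsHyp q A K) (hfx : cj x K = K) (hbad : ¬ ⁅A, zpowers x⁆ ≤ K) :
    A ⊓ centralizer ((zpowers x : Subgroup G) : Set G) ≤ K := by
  intro a ha
  by_contra haK
  apply hbad
  have haA : a ∈ A := ha.1
  have hax : ∀ y ∈ zpowers x, y * a = a * y := Subgroup.mem_centralizer_iff.mp ha.2
  have hKX : ∀ y ∈ zpowers x, ∀ k ∈ K, y * k * y⁻¹ ∈ K := by
    intro y hy k hk
    have hyK : y ∈ normalizer (K : Set G) :=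
      Subgroup.zpowers_le.mpr (mem_normalizer_of_cj_eq hfx) hy
    exact (Subgroup.mem_normalizer_iff.mp hyK k).mp hk
  -- `A = K ⊔ ⟨a⟩`
  have hsup : K ⊔ zpowers a = A := by
    rcases hK.eq_of_le hq.out (le_sup_left : K ≤ K ⊔ zpowers a)
      (sup_le hK.1 (Subgroup.zpowers_le.mpr haA)) with h | h
    · exfalso
      apply haK
      rw [← h]
      exact Subgroup.mem_sup_right (Subgroup.mem_zpowers a)
    · exact h
  -- the subgroup of elements `b` with `[y, b] ∈ K`
  have key : ∀ b ∈ K ⊔ zpowers a, b ∈ A ∧ ∀ y ∈ zpowers x, y * b * y⁻¹ * b⁻¹ ∈ K := by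
    intro b hb
    rw [sup_eq_iSup] at hb
    refine Subgroup.iSup_induction (fun i : Bool => cond i K (zpowers a))
      (C := fun b => b ∈ A ∧ ∀ y ∈ zpowers x, y * b * y⁻¹ * b⁻¹ ∈ K) hb ?_ ?_ ?_
    · intro i
      cases i with
      | true =>
        intro k hk
        exact ⟨hK.1 hk, fun y hy => K.mul_mem (hKX y hy k hk) (K.inv_mem hk)⟩
      | false =>
        intro z hz
        obtain ⟨j, rfl⟩ := Subgroup.mem_zpowers_iff.mp hz
        refine ⟨A.zpow_mem haA j, ?_⟩
        intro y hy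
        have hc : Commute y a := hax y hy
        have h1 : y * a ^ j = a ^ j * y := (hc.zpow_right j).eq
        have : y * a ^ j * y⁻¹ * (a ^ j)⁻¹ = 1 := by
          rw [h1]; group
        rw [this]; exact K.one_mem
    · refine ⟨A.one_mem, fun y _ => ?_⟩
      have : y * 1 * y⁻¹ * (1 : G)⁻¹ = 1 := by group
      rw [this]; exact K.one_mem
    · rintro b b' ⟨hb, hb1⟩ ⟨hb', hb1'⟩
      refine ⟨A.mul_mem hb hb', ?_⟩
      intro y hy
      have hyA : y ∈ normalizer (A : Set G) := D.zpowers_le_A hy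
      have hc' : y * b' * y⁻¹ * b'⁻¹ ∈ A :=
        A.mul_mem ((Subgroup.mem_normalizer_iff.mp hyA b').mp hb') (A.inv_mem hb')
      have hcomm := S.comm (A.inv_mem hb) hc'
      have e : y * (b * b') * y⁻¹ * (b * b')⁻¹ =
          (y * b * y⁻¹) * ((y * b' * y⁻¹ * b'⁻¹) * b⁻¹) := by group
      rw [e, ← hcomm]
      have e2 : y * b * y⁻¹ * (b⁻¹ * (y * b' * y⁻¹ * b'⁻¹)) =
          (y * b * y⁻¹ * b⁻¹) * (y * b' * y⁻¹ * b'⁻¹) := by group
      rw [e2]
      exact K.mul_mem (hb1 y hy) (hb1' y hy)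
  rw [Subgroup.commutator_le]
  intro b hb y hy
  rw [← hsup] at hb
  have h1 := (key b hb).2 y hy
  have h2 := K.inv_mem h1
  rw [commutatorElement_def]
  have e : (y * b * y⁻¹ * b⁻¹)⁻¹ = b * y * b⁻¹ * y⁻¹ := by group
  rwa [e] at h2

/-- bad hyperplanes fixed by `x` -/
theorem Setup.le_actKer_of_bad_fixed (S : Setup p q A W) (hpq : p ≠ q) (hpr : p ≠ r)
    (hqr : q ≠ r) (hp2 : p ≠ 2) (D : XData p r A W x) (PD : PData p A W P x)
    {K : Subgroup G} (hK : IsHyp q A K) (hPK : ∀ g ∈ P, cj g K = K) (hfx : cj x K = K)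
    (hbad : ¬ ⁅A, zpowers x⁆ ≤ K) : P ≤ actKer A K := by
  have hXnn : zpowers x ≤ nn A K := by
    rw [Subgroup.zpowers_le, mem_nn]
    exact ⟨D.hxA, mem_normalizer_of_cj_eq hfx⟩
  have hPnn : P ≤ nn A K := by
    intro g hg
    rw [mem_nn]
    exact ⟨PD.hPA hg, mem_normalizer_of_cj_eq (hPK g hg)⟩
  have hcop : (Nat.card ↥(zpowers x)).Coprime (Nat.card ↥K) := by
    rw [D.card_zpowers]
    obtain ⟨n, hn⟩ := (S.isPGroupA.to_le hK.1).exists_card_eq
    rw [hn]
    exact Nat.Coprime.pow_right n ((Nat.coprime_primes hr.out hq.out).mpr hqr.symm)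
  have key := sec_lin_hh' q hp.out hr.out hpq.symm hqr hpr (zpowers x) P A K (S.isSec hK.1)
    D.card_zpowers PD.hP (Subgroup.zpowers_le.mpr PD.hxP) hXnn hPnn hcop
    (S.centralizer_le_of_bad D hK hfx hbad) (Or.inl (fun h => hp2 h.1))
  rw [Subgroup.commutator_comm, PD.hcomm] at key
  exact key

/-- bad hyperplanes moved by `x` -/
theorem Setup.le_actKer_of_bad_moved (S : Setup p q A W) (hpq : p ≠ q)
    (D : XData p r A W x) (PD : PData p A W P x)
    {K : Subgroup G} (hK : IsHyp q A K) (hne : cw W K ≠ ⊥) (hPK : ∀ g ∈ P, cj g K = K)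
    (hmv : cj x K ≠ K) : P ≤ actKer A K := by
  have hPnn : P ≤ nn A K := by
    intro g hg
    rw [mem_nn]
    exact ⟨PD.hPA hg, mem_normalizer_of_cj_eq (hPK g hg)⟩
  have hPY : P ≤ normalizer ((cw W K : Subgroup G) : Set G) := by
    intro g hg
    apply mem_normalizer_of_cj_eq
    rw [← cw_cj (PD.hPW hg), hPK g hg]
  have hcent := le_centralizer_of_card_le PD.hP (S.isPGroupW.to_le (cw_le W K))
    (S.card_cw_le_of_moved hpq D hK hmv) hPY
  intro g hg
  rw [mem_actKer]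
  refine ⟨hPnn hg, ?_⟩
  intro a ha
  have hgA := PD.hPA hg
  have hmemA : g * a * g⁻¹ * a⁻¹ ∈ A :=
    A.mul_mem ((Subgroup.mem_normalizer_iff.mp hgA a).mp ha) (A.inv_mem ha)
  rw [← S.centralizer_cw hK hne]
  refine Subgroup.mem_inf.mpr ⟨hmemA, ?_⟩
  rw [Subgroup.mem_centralizer_iff]
  intro y hy
  -- `a⁻¹ y a ∈ C_W(K)`, centralized by `g`
  have haN := S.le_normalizer_cw hK.1 (A.inv_mem ha)
  have hy1 : a⁻¹ * y * a ∈ cw W K := by
    have := (Subgroup.mem_normalizer_iff.mp haN y).mp hy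
    rwa [inv_inv] at this
  have hg1 := Subgroup.mem_centralizer_iff.mp (hcent hg) _ hy1
  have hg2 := Subgroup.mem_centralizer_iff.mp (hcent hg) _ hy
  -- hg1 : (a⁻¹ y a) * g = g * (a⁻¹ y a) ; hg2 : y * g = g * y
  have hg1' : g⁻¹ * (a⁻¹ * y * a) = (a⁻¹ * y * a) * g⁻¹ := by
    calc g⁻¹ * (a⁻¹ * y * a) = g⁻¹ * ((a⁻¹ * y * a) * g) * g⁻¹ := by group
      _ = g⁻¹ * (g * (a⁻¹ * y * a)) * g⁻¹ := by rw [hg1]
      _ = (a⁻¹ * y * a) * g⁻¹ := by group
  calc y * (g * a * g⁻¹ * a⁻¹) = (y * g) * a * g⁻¹ * a⁻¹ := by group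
    _ = (g * y) * a * g⁻¹ * a⁻¹ := by rw [hg2]
    _ = g * a * ((a⁻¹ * y * a) * g⁻¹) * a⁻¹ := by group
    _ = g * a * (g⁻¹ * (a⁻¹ * y * a)) * a⁻¹ := by rw [hg1']
    _ = g * a * g⁻¹ * a⁻¹ * y := by group

/-- **the abelian case**: `P = [P, x]` centralizes `A` -/
theorem Setup.P_le_centralizer (S : Setup p q A W) (hpq : p ≠ q) (hpr : p ≠ r) (hqr : q ≠ r)
    (hq2 : q ≠ 2) (hp2 : Odd p) (hr2 : Odd r) (D : XData p r A W x) (PD : PData p A W P x)
    (hfaith : A ⊓ centralizer (W : Set G) = ⊥) : P ≤ centralizer (A : Set G) := by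
  have hp2' : p ≠ 2 := by
    intro h
    rw [h] at hp2
    exact (by decide : ¬ Odd 2) hp2
  -- `P ≤ actKer A K` for every active hyperplane
  have hact : ∀ K : Subgroup G, Act q A W K → P ≤ actKer A K := by
    intro K hK
    have hPK := S.P_fixes hpq hpr hqr hq2 hp2 hr2 D PD hK
    by_cases hle : ⁅A, zpowers x⁆ ≤ K
    · exact S.le_actKer_of_nonbad D PD hK.1 hPK hle
    · by_cases hfx : cj x K = K
      · exact S.le_actKer_of_bad_fixed hpq hpr hqr hp2' D PD hK.1 hPK hfx hle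
      · exact S.le_actKer_of_bad_moved hpq D PD hK.1 hK.2 hPK hfx
  intro g hg
  rw [Subgroup.mem_centralizer_iff]
  intro a ha
  have hgA := PD.hPA hg
  have hmemA : g * a * g⁻¹ * a⁻¹ ∈ A :=
    A.mul_mem ((Subgroup.mem_normalizer_iff.mp hgA a).mp ha) (A.inv_mem ha)
  have hcW : g * a * g⁻¹ * a⁻¹ ∈ centralizer (W : Set G) := by
    have hle : W ≤ centralizer ({g * a * g⁻¹ * a⁻¹} : Set G) := by
      refine (S.le_iSup hpq).trans (iSup_le ?_)
      rintro ⟨K, hK⟩
      by_cases hne : cw W K = ⊥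
      · rw [hne]; exact bot_le
      · intro w hw
        rw [Subgroup.mem_centralizer_singleton_iff]
        have h1 := (mem_actKer.mp (hact K ⟨hK, hne⟩ hg)).2 a ha
        exact ((mem_cw.mp hw).2 _ h1).symm
    rw [Subgroup.mem_centralizer_iff]
    intro w hw
    have := hle hw
    rw [Subgroup.mem_centralizer_singleton_iff] at this
    exact this
  have h1 : g * a * g⁻¹ * a⁻¹ ∈ A ⊓ centralizer (W : Set G) := ⟨hmemA, hcW⟩
  rw [hfaith, Subgroup.mem_bot] at h1
  calc a * g = (g * a * g⁻¹ * a⁻¹)⁻¹ * (g * a) := by group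
    _ = g * a := by rw [h1, inv_one, one_mul]

end Abelian

end Cfsg.Agent.Helper25.BG36
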