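import Mathlib
import Cfsg.Agent.Lib.Helper25.BG36F
import Cfsg.Agent.Lib.Helper1.CoprimeAbelian
import Cfsg.Agent.Lib.Helper10.BG36S4
import Cfsg.Agent.Lib.Helper20.MinInv

/-!
# Lemma A for BG Theorem 3.6 (S1444) (helper25)

`lemmaA`: `P₁ = [P₁, X]` centralizes the `q`-group `Q` acting faithfully on the elementary abelian
`p`-group `V`, when `|C_V(X)| ≤ p`, `C_Q(X)` is cyclic and `C_{P₁}(X) ≤ C(Q)`.
The special case is helper10's `lemmaA_special`, the structure of a minimal counterexample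
helper20's `minimal_structure`.
-/

set_option autoImplicit false
set_option linter.unusedSectionVars false

namespace Cfsg.Agent.Helper25.BG36

open Subgroup
open scoped IsMulCommutative commutatorElement

variable {G : Type*} [Group G] [Finite G]

/-- a subgroup of prime order is generated by an element -/
theorem exists_zpowers_eq_of_card_prime {r : ℕ} [hr : Fact r.Prime] (X : Subgroup G)
    (hX : Nat.card ↥X = r) : ∃ x : G, X = zpowers x := by
  haveI : Fact (Nat.card ↥X).Prime := ⟨by rw [hX]; exact hr.out⟩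
  haveI : IsCyclic ↥X := isCyclic_of_prime_card rfl
  obtain ⟨g, hg⟩ := IsCyclic.exists_generator (α := ↥X)
  refine ⟨(g : G), le_antisymm ?_ (Subgroup.zpowers_le.mpr g.2)⟩
  intro y hy
  obtain ⟨k, hk⟩ := Subgroup.mem_zpowers_iff.mp (hg ⟨y, hy⟩)
  rw [Subgroup.mem_zpowers_iff]
  refine ⟨k, ?_⟩
  have := congrArg (fun w : ↥X => (w : G)) hk
  simpa using this

/-- **the abelian case of Lemma A** -/
theorem lemmaA_abelian (hodd : Odd (Nat.card G)) {p q r : ℕ} [hp : Fact p.Prime]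
    [hq : Fact q.Prime] [hr : Fact r.Prime] (hpq : p ≠ q) (hpr : p ≠ r) (hqr : q ≠ r)
    (V Q₁ P₁ X : Subgroup G) (hV : Cfsg.IsElementaryAbelian p V)
    (hQ₁ : Cfsg.IsElementaryAbelian q Q₁) (hP₁ : IsPGroup p ↥P₁) (hX : Nat.card ↥X = r)
    (hQV : Q₁ ≤ normalizer (V : Set G)) (hPV : P₁ ≤ normalizer (V : Set G))
    (hXV : X ≤ normalizer (V : Set G)) (hPQ : P₁ ≤ normalizer (Q₁ : Set G))
    (hXQ : X ≤ normalizer (Q₁ : Set G)) (hXP : X ≤ normalizer (P₁ : Set G))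
    (hfaith : Q₁ ⊓ centralizer (V : Set G) = ⊥) (hcomm : ⁅P₁, X⁆ = P₁)
    (hCP : P₁ ⊓ centralizer (X : Set G) ≤ centralizer (Q₁ : Set G))
    (hCV : Nat.card ↥(V ⊓ centralizer (X : Set G)) ≤ p) :
    P₁ ≤ centralizer (Q₁ : Set G) := by
  by_cases hP1 : P₁ = ⊥
  · rw [hP1]; exact bot_le
  by_cases hQ1 : Q₁ = ⊥
  · rw [hQ1]
    intro g _
    rw [Subgroup.mem_centralizer_iff]
    intro y hy
    rw [Subgroup.coe_bot, Set.mem_singleton_iff] at hy
    rw [hy, one_mul, mul_one]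
  have hVp : IsPGroup p ↥V := by
    intro a
    refine ⟨1, ?_⟩
    apply Subtype.ext
    rw [pow_one, Subgroup.coe_pow, Subgroup.coe_one]
    exact hV.2 a a.2
  have hQp : IsPGroup q ↥Q₁ := by
    intro a
    refine ⟨1, ?_⟩
    apply Subtype.ext
    rw [pow_one, Subgroup.coe_pow, Subgroup.coe_one]
    exact hQ₁.2 a a.2
  -- parities
  have hdvd_of_ne_bot : ∀ {ℓ : ℕ} [Fact ℓ.Prime] (H : Subgroup G), IsPGroup ℓ ↥H → H ≠ ⊥ →
      ℓ ∣ Nat.card G := by
    intro ℓ _ H hH hne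
    obtain ⟨n, hn⟩ := hH.exists_card_eq
    have hn0 : n ≠ 0 := by
      intro h0
      rw [h0, pow_zero] at hn
      exact hne (Subgroup.eq_bot_of_card_eq _ hn)
    exact (dvd_pow_self ℓ hn0).trans (hn ▸ Subgroup.card_subgroup_dvd_card H)
  have hp2 : Odd p := hodd.of_dvd_nat (hdvd_of_ne_bot P₁ hP₁ hP1)
  have hq2' : Odd q := hodd.of_dvd_nat (hdvd_of_ne_bot Q₁ hQp hQ1)
  have hr2 : Odd r := hodd.of_dvd_nat (hX ▸ Subgroup.card_subgroup_dvd_card X)
  have hq2 : q ≠ 2 := by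
    intro h
    rw [h] at hq2'
    exact (by decide : ¬ Odd 2) hq2'
  obtain ⟨x, rfl⟩ := exists_zpowers_eq_of_card_prime X hX
  have hxr : orderOf x = r := by rw [← Nat.card_zpowers]; exact hX
  haveI : IsMulCommutative ↥V := hV.1
  set W : Subgroup G := ⁅V, Q₁⁆ with hW
  have hWV : W ≤ V := Cfsg.Agent.Helper1.commutator_le_of_le_normalizer hQV
  have hcop : (Nat.card ↥Q₁).Coprime (Nat.card ↥V) :=
    IsPGroup.coprime_card_of_ne q p hpq.symm Q₁ V hQp hVp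
  have hWfix : W ⊓ centralizer (Q₁ : Set G) = ⊥ :=
    Cfsg.Agent.Helper1.commutator_inf_centralizer_eq_bot Q₁ V hQV hcop
  have hWel : Cfsg.IsElementaryAbelian p W := by
    refine ⟨⟨⟨fun a b => ?_⟩⟩, fun a ha => hV.2 a (hWV ha)⟩
    apply Subtype.ext
    have := mul_comm' (⟨(a : G), hWV a.2⟩ : ↥V) ⟨(b : G), hWV b.2⟩
    exact congrArg (fun w : ↥V => (w : G)) this
  have hN : ∀ g : G, g ∈ normalizer (V : Set G) → g ∈ normalizer (Q₁ : Set G) →
      g ∈ normalizer (W : Set G) := fun g h1 h2 =>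
    Cfsg.Agent.Helper1.normalizer_inf_normalizer_le_normalizer_commutator V Q₁ ⟨h1, h2⟩
  have S : Setup p q Q₁ W :=
    ⟨hQ₁, hWel, fun a ha => hN a (hQV ha) (Subgroup.le_normalizer ha), hWfix⟩
  have hxX : x ∈ zpowers x := Subgroup.mem_zpowers x
  have D : XData p r Q₁ W x := by
    refine ⟨hXQ hxX, hN x (hXV hxX) (hXQ hxX), hxr, le_trans ?_ hCV⟩
    exact Subgroup.card_le_of_le (inf_le_inf_right _ hWV)
  have PD : PData p Q₁ W P₁ x :=
    ⟨hP₁, hPQ, fun g hg => hN g (hPV hg) (hPQ hg), hXP hxX, hcomm, hCP⟩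
  have hfaithW : Q₁ ⊓ centralizer (W : Set G) = ⊥ := by
    rw [eq_bot_iff, ← hfaith]
    intro a ha
    refine Subgroup.mem_inf.mpr ⟨ha.1, ?_⟩
    have hsup := Cfsg.Agent.Helper10.BG36S.comm_sup_cent V Q₁ hVp hQV (by
      obtain ⟨n, hn⟩ := hQp.exists_card_eq
      rw [hn]
      exact Nat.Coprime.pow_left n ((Nat.coprime_primes hq.out hp.out).mpr hpq.symm))
    have hle : V ≤ centralizer ({a} : Set G) := by
      rw [← hsup]
      apply sup_le
      · intro w hw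
        rw [Subgroup.mem_centralizer_singleton_iff]
        exact (Subgroup.mem_centralizer_iff.mp ha.2 w hw)
      · intro w hw
        rw [Subgroup.mem_centralizer_singleton_iff]
        exact (Subgroup.mem_centralizer_iff.mp hw.2 a ha.1).symm
    rw [Subgroup.mem_centralizer_iff]
    intro v hv
    have := hle hv
    rw [Subgroup.mem_centralizer_singleton_iff] at this
    exact this
  exact S.P_le_centralizer hpq hpr hqr hq2 hp2 hr2 D PD hfaithW


/-- **Lemma A** for BG Theorem 3.6 -/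
theorem lemmaA (hodd : Odd (Nat.card G)) {p q r : ℕ} [Fact p.Prime] [Fact q.Prime]
    [Fact r.Prime] (hpq : p ≠ q) (hpr : p ≠ r) (hqr : q ≠ r) (V Q P₁ X : Subgroup G)
    (hV : Cfsg.IsElementaryAbelian p V) (hQ : IsPGroup q ↥Q) (hP₁ : IsPGroup p ↥P₁)
    (hX : Nat.card ↥X = r)
    (hQV : Q ≤ Subgroup.normalizer (V : Set G)) (hPV : P₁ ≤ Subgroup.normalizer (V : Set G))
    (hXV : X ≤ Subgroup.normalizer (V : Set G)) (hPQ : P₁ ≤ Subgroup.normalizer (Q : Set G))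
    (hXQ : X ≤ Subgroup.normalizer (Q : Set G)) (hXP : X ≤ Subgroup.normalizer (P₁ : Set G))
    (hfaith : Q ⊓ Subgroup.centralizer (V : Set G) = ⊥) (hcomm : ⁅P₁, X⁆ = P₁)
    (hCP : P₁ ⊓ Subgroup.centralizer (X : Set G) ≤ Subgroup.centralizer (Q : Set G))
    (hCV : Nat.card ↥(V ⊓ Subgroup.centralizer (X : Set G)) ≤ p)
    (hCQ : IsCyclic ↥(Q ⊓ Subgroup.centralizer (X : Set G))) :
    P₁ ≤ Subgroup.centralizer (Q : Set G) := by
  by_contra hnc
  set Γ : Subgroup G := P₁ ⊔ X with hΓ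
  have hPΓ : P₁ ≤ Γ := le_sup_left
  have hXΓ : X ≤ Γ := le_sup_right
  have hΓP : Γ ≤ normalizer (P₁ : Set G) := sup_le Subgroup.le_normalizer hXP
  have hΓQ : Γ ≤ normalizer (Q : Set G) := sup_le hPQ hXQ
  -- a minimal `Γ`-invariant subgroup of `Q` not centralized by `P₁`
  let 𝒮 : Set (Subgroup G) := {N | N ≤ Q ∧ Γ ≤ normalizer (N : Set G) ∧
    ¬ P₁ ≤ centralizer (N : Set G)}
  obtain ⟨Q₁, ⟨hQ₁Q, hΓQ₁, hnc₁⟩, hmin⟩ :=
    WellFounded.has_min (wellFounded_lt (α := Subgroup G)) 𝒮 ⟨Q, le_rfl, hΓQ, hnc⟩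
  have hmin' : ∀ N : Subgroup G, N < Q₁ → Γ ≤ normalizer (N : Set G) →
      P₁ ≤ centralizer (N : Set G) := by
    intro N hN hΓN
    by_contra hc
    exact hmin N ⟨hN.le.trans hQ₁Q, hΓN, hc⟩ hN
  have hQ₁p : IsPGroup q ↥Q₁ := hQ.to_le hQ₁Q
  obtain ⟨hQP, hcase⟩ := Cfsg.Agent.Helper20.MinInv.minimal_structure hpq Q₁ P₁ Γ hQ₁p hP₁
    hPΓ hΓP hΓQ₁ hnc₁ hmin'
  have hQ₁V : Q₁ ≤ normalizer (V : Set G) := hQ₁Q.trans hQV
  have hPQ₁ : P₁ ≤ normalizer (Q₁ : Set G) := hPΓ.trans hΓQ₁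
  have hXQ₁ : X ≤ normalizer (Q₁ : Set G) := hXΓ.trans hΓQ₁
  have hfaith₁ : Q₁ ⊓ centralizer (V : Set G) = ⊥ := by
    rw [eq_bot_iff, ← hfaith]
    exact inf_le_inf_right _ hQ₁Q
  rcases hcase with ⟨hab, hexp⟩ | ⟨hna, -, hZ, -, hpow⟩
  · -- the abelian case
    apply hnc₁
    exact lemmaA_abelian hodd hpq hpr hqr V Q₁ P₁ X hV ⟨hab, hexp⟩ hP₁ hX hQ₁V hPV hXV hPQ₁
      hXQ₁ hXP hfaith₁ hcomm (hCP.trans (Subgroup.centralizer_le hQ₁Q)) hCV
  · -- the special case (helper10)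
    have hCQ₁ : IsCyclic ↥(Q₁ ⊓ centralizer (X : Set G)) := by
      haveI := hCQ
      exact isCyclic_of_injective
        (Subgroup.inclusion (inf_le_inf_right (centralizer (X : Set G)) hQ₁Q))
        (Subgroup.inclusion_injective _)
    exact Cfsg.Agent.Helper10.BG36S.lemmaA_special hodd hpq hpr hqr V Q₁ P₁ X hV hQ₁p hP₁ hX
      hQ₁V hXV hPQ₁ hXQ₁ hXP hfaith₁ hcomm hCV hCQ₁ hZ hpow hQP hna

end Cfsg.Agent.Helper25.BG36
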