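import Mathlib
import Cfsg.Agent.Lib.Helper26.MHDefs

/-!
# S4221 (M. Hall) piece INV1: basic facts on involutions ((I1)-(I3) of the notes)
-/

set_option autoImplicit false
set_option linter.unusedSectionVars false

namespace Cfsg.Agent.Helper26.MH

open MulAction Cfsg.Agent.Helper22.SharpFour

namespace INV1

/-- an involution does not lie in a subgroup of odd order -/
theorem not_mem_of_odd {G : Type*} [Group G] [Finite G] {K : Subgroup G} (hK : Odd (Nat.card K))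
    {t : G} (ht : IsInv t) : t ∉ K := by
  intro htK
  have h2 : orderOf t = 2 := orderOf_eq_prime (by rw [pow_two]; exact ht.1) ht.2
  have hdvd : orderOf t ∣ Nat.card K := Subgroup.orderOf_dvd_natCard K htK
  rw [h2] at hdvd
  exact (Nat.not_even_iff_odd.mpr hK) (even_iff_two_dvd.mpr hdvd)

theorem pow_smul_eq {G : Type*} [Group G] {α : Type*} [MulAction G α] {g : G} {x : α}
    (h : g • x = x) (n : ℕ) : g ^ n • x = x := by
  induction n with
  | zero => simp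
  | succ n ih => rw [pow_succ, mul_smul, h, ih]

theorem odd_pow_swap {G : Type*} [Group G] {α : Type*} [MulAction G α] {g : G} {p q : α}
    (h1 : g • p = q) (h2 : g • q = p) {m : ℕ} (hm : Odd m) : g ^ m • p = q ∧ g ^ m • q = p := by
  obtain ⟨k, rfl⟩ := hm
  have hp : (g ^ 2) • p = p := by rw [pow_two, mul_smul, h1, h2]
  have hq : (g ^ 2) • q = q := by rw [pow_two, mul_smul, h2, h1]
  constructor
  · rw [pow_succ, pow_mul, mul_smul, h1, pow_smul_eq hq]
  · rw [pow_succ, pow_mul, mul_smul, h2, pow_smul_eq hp]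

/-- the odd power `g ^ |K|` of an element whose square lies in the odd-order subgroup `K` squares to `1` -/
theorem exists_inv_of_sq_mem {G : Type*} [Group G] [Finite G] {K : Subgroup G}
    (hK : Odd (Nat.card K)) {g : G} (hg : g ^ 2 ∈ K) : ∃ m : ℕ, Odd m ∧ (g ^ m) * (g ^ m) = 1 := by
  refine ⟨Nat.card K, hK, ?_⟩
  rw [← pow_add, ← two_mul, pow_mul]
  exact orderOf_dvd_iff_pow_eq_one.mp (Subgroup.orderOf_dvd_natCard K hg)

/-- the odd dihedral trick: two involutions whose product lies in a subgroup of odd order are conjugate under it -/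
theorem conj_of_mul_mem {G : Type*} [Group G] [Finite G] {K : Subgroup G} (hK : Odd (Nat.card K))
    {t t' : G} (ht : t * t = 1) (ht' : t' * t' = 1) (hu : t * t' ∈ K) :
    ∃ y ∈ K, y * t' * y⁻¹ = t := by
  obtain ⟨j, hj⟩ := hK
  have hun : (t * t') ^ (2 * j + 1) = 1 := by
    rw [← hj]
    exact orderOf_dvd_iff_pow_eq_one.mp (Subgroup.orderOf_dvd_natCard K hu)
  have ht'inv : t'⁻¹ = t' := inv_eq_of_mul_eq_one_right ht'
  have htinv : t⁻¹ = t := inv_eq_of_mul_eq_one_right ht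
  have hconj : t' * (t * t') * t'⁻¹ = (t * t')⁻¹ := by
    rw [mul_inv_rev, ht'inv, htinv, mul_assoc, mul_assoc, ht', mul_one]
  have hy_conj : t' * (t * t') ^ (j + 1) * t'⁻¹ = ((t * t') ^ (j + 1))⁻¹ := by
    rw [← conj_pow, hconj, inv_pow]
  have hyy : (t * t') ^ (j + 1) * (t * t') ^ (j + 1) = (t * t') ^ (2 * j + 1) * (t * t') := by
    rw [← pow_add, ← pow_succ]
    congr 1
    ring
  refine ⟨(t * t') ^ (j + 1), K.pow_mem hu _, ?_⟩
  rw [← hy_conj, ht'inv]
  calc (t * t') ^ (j + 1) * t' * (t' * (t * t') ^ (j + 1) * t')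
      = (t * t') ^ (j + 1) * (t' * t') * (t * t') ^ (j + 1) * t' := by group
    _ = (t * t') ^ (j + 1) * (t * t') ^ (j + 1) * t' := by rw [ht', mul_one]
    _ = t := by rw [hyy, hun, one_mul, mul_assoc, ht', mul_one]

/-- four distinct elements of a finset with at least four elements -/
theorem exists_four {β : Type*} [DecidableEq β] {S : Finset β} (h : 4 ≤ S.card) :
    ∃ a b c d : β, a ∈ S ∧ b ∈ S ∧ c ∈ S ∧ d ∈ S ∧ D4 a b c d := by
  have h1 : 0 < S.card := by omega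
  obtain ⟨a, ha⟩ := Finset.card_pos.mp h1
  have h2 : 0 < (S.erase a).card := by
    rw [Finset.card_erase_of_mem ha]; omega
  obtain ⟨b, hb⟩ := Finset.card_pos.mp h2
  obtain ⟨hba, hbS⟩ := Finset.mem_erase.mp hb
  have h3 : 0 < ((S.erase a).erase b).card := by
    rw [Finset.card_erase_of_mem hb, Finset.card_erase_of_mem ha]; omega
  obtain ⟨c, hc⟩ := Finset.card_pos.mp h3
  obtain ⟨hcb, hc1⟩ := Finset.mem_erase.mp hc
  obtain ⟨hca, hcS⟩ := Finset.mem_erase.mp hc1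
  have h4 : 0 < (((S.erase a).erase b).erase c).card := by
    rw [Finset.card_erase_of_mem hc, Finset.card_erase_of_mem hb, Finset.card_erase_of_mem ha]; omega
  obtain ⟨d, hd⟩ := Finset.card_pos.mp h4
  obtain ⟨hdc, hd1⟩ := Finset.mem_erase.mp hd
  obtain ⟨hdb, hd2⟩ := Finset.mem_erase.mp hd1
  obtain ⟨hda, hdS⟩ := Finset.mem_erase.mp hd2
  exact ⟨a, b, c, d, ha, hbS, hcS, hdS,
    ⟨fun e => hba e.symm, fun e => hca e.symm, fun e => hda e.symm, fun e => hcb e.symm,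
      fun e => hdb e.symm, fun e => hdc e.symm⟩⟩

end INV1

variable {G : Type*} [Group G] [Finite G] {α : Type*} [Fintype α] [DecidableEq α] [MulAction G α]

/-! ## PIECE INV1 (id S4221-INV1): basic facts on involutions  ((I1)-(I3) of the notes) -/

theorem card_fixF_le_three (h : Hall G α) {t : G} (ht : IsInv t) : (fixF α t).card ≤ 3 := by
  by_contra hcon
  have h4 : 4 ≤ (fixF α t).card := by omega
  obtain ⟨a, b, c, d, ha, hb, hc, hd, hD⟩ := INV1.exists_four h4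
  have hmem : t ∈ St4 G a b c d :=
    mem_St4.mpr ⟨mem_fixF.mp ha, mem_fixF.mp hb, mem_fixF.mp hc, mem_fixF.mp hd⟩
  exact INV1.not_mem_of_odd (h.odd a b c d hD) ht hmem

theorem exists_tyA (h : Hall G α) {p q r s : α} (hd : D4 p q r s) : ∃ t : G, IsInv t ∧ TyA t p q r s := by
  have hd' : D4 q p r s := ⟨hd.ab.symm, hd.bc, hd.bd, hd.ac, hd.ad, hd.cd⟩
  obtain ⟨g, hgp, hgq, hgr, hgs⟩ := h.tr p q r s q p r s hd hd'
  have hg2 : g ^ 2 ∈ St4 G p q r s := by
    rw [mem_St4, pow_two]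
    refine ⟨?_, ?_, ?_, ?_⟩
    · rw [mul_smul, hgp, hgq]
    · rw [mul_smul, hgq, hgp]
    · rw [mul_smul, hgr, hgr]
    · rw [mul_smul, hgs, hgs]
  obtain ⟨m, hm, hmm⟩ := INV1.exists_inv_of_sq_mem (h.odd p q r s hd) hg2
  obtain ⟨h1, h2⟩ := INV1.odd_pow_swap hgp hgq hm
  refine ⟨g ^ m, ⟨hmm, ?_⟩, h1, h2, INV1.pow_smul_eq hgr m, INV1.pow_smul_eq hgs m⟩
  intro h1'
  rw [h1', one_smul] at h1
  exact hd.ab h1

theorem exists_tyC (h : Hall G α) {p q r s : α} (hd : D4 p q r s) : ∃ t : G, IsInv t ∧ TyC t p q r s := by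
  have hd' : D4 q p s r := ⟨hd.ab.symm, hd.bd, hd.bc, hd.ad, hd.ac, hd.cd.symm⟩
  obtain ⟨g, hgp, hgq, hgr, hgs⟩ := h.tr p q r s q p s r hd hd'
  have hg2 : g ^ 2 ∈ St4 G p q r s := by
    rw [mem_St4, pow_two]
    refine ⟨?_, ?_, ?_, ?_⟩
    · rw [mul_smul, hgp, hgq]
    · rw [mul_smul, hgq, hgp]
    · rw [mul_smul, hgr, hgs]
    · rw [mul_smul, hgs, hgr]
  obtain ⟨m, hm, hmm⟩ := INV1.exists_inv_of_sq_mem (h.odd p q r s hd) hg2
  obtain ⟨h1, h2⟩ := INV1.odd_pow_swap hgp hgq hm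
  obtain ⟨h3, h4⟩ := INV1.odd_pow_swap hgr hgs hm
  refine ⟨g ^ m, ⟨hmm, ?_⟩, h1, h2, h3, h4⟩
  intro h1'
  rw [h1', one_smul] at h1
  exact hd.ab h1

/-- (I3) two involutions with the same action on an invariant 4-set are conjugate under its pointwise stabilizer -/
theorem conj_tyA (h : Hall G α) {p q r s : α} (hd : D4 p q r s) {t t' : G} (ht : IsInv t) (ht' : IsInv t')
    (hA : TyA t p q r s) (hA' : TyA t' p q r s) : ∃ y ∈ St4 G p q r s, y * t' * y⁻¹ = t := by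
  apply INV1.conj_of_mul_mem (h.odd p q r s hd) ht.1 ht'.1
  rw [mem_St4]
  obtain ⟨a1, a2, a3, a4⟩ := hA
  obtain ⟨b1, b2, b3, b4⟩ := hA'
  refine ⟨?_, ?_, ?_, ?_⟩
  · rw [mul_smul, b1, a2]
  · rw [mul_smul, b2, a1]
  · rw [mul_smul, b3, a3]
  · rw [mul_smul, b4, a4]

theorem conj_tyC (h : Hall G α) {p q r s : α} (hd : D4 p q r s) {t t' : G} (ht : IsInv t) (ht' : IsInv t')
    (hC : TyC t p q r s) (hC' : TyC t' p q r s) : ∃ y ∈ St4 G p q r s, y * t' * y⁻¹ = t := by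
  apply INV1.conj_of_mul_mem (h.odd p q r s hd) ht.1 ht'.1
  rw [mem_St4]
  obtain ⟨a1, a2, a3, a4⟩ := hC
  obtain ⟨b1, b2, b3, b4⟩ := hC'
  refine ⟨?_, ?_, ?_, ?_⟩
  · rw [mul_smul, b1, a2]
  · rw [mul_smul, b2, a1]
  · rw [mul_smul, b3, a4]
  · rw [mul_smul, b4, a3]

end Cfsg.Agent.Helper26.MH
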