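import Mathlib
import Cfsg.Prelude.Def_LocalStructure
import Cfsg.Agent.Lib.Helper15.NPCDefs

/-!
# S3875 piece SUP: `G = P N`
-/

set_option autoImplicit false
set_option linter.style.haveILetI false
open Cfsg

namespace Cfsg.Agent.Helper15.NPC

/-- `G = P N` when `G` is not `p`-closed, all proper subgroups are, and `G ⧸ N` is. -/
theorem sup_eq_top {G : Type*} [Group G] [Finite G] {p : ℕ} [Fact p.Prime]
    (hnc : ¬ IsPClosed p G) (hsub : ∀ H : Subgroup G, H ≠ ⊤ → IsPClosed p ↥H)
    (N : Subgroup G) [N.Normal] (hq : IsPClosed p (G ⧸ N)) (P : Sylow p G) :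
    (P : Subgroup G) ⊔ N = ⊤ := by
  by_contra hne
  apply hnc
  -- `H = P N` is normal in `G`
  have hsurj : Function.Surjective (QuotientGroup.mk' N) := QuotientGroup.mk'_surjective N
  have hHn : ((P : Subgroup G) ⊔ N).Normal := by
    have h1 : ((P : Subgroup G).map (QuotientGroup.mk' N)).Normal := by
      rw [← Sylow.coe_mapSurjective hsurj P]
      exact hq _
    have h2 := h1.comap (QuotientGroup.mk' N)
    rwa [Subgroup.comap_map_eq, QuotientGroup.ker_mk'] at h2
  have hPH : (P : Subgroup G) ≤ (P : Subgroup G) ⊔ N := le_sup_left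
  have hclosed : IsPClosed p ↥((P : Subgroup G) ⊔ N) := hsub _ hne
  -- every conjugate of `P` is `P`
  have hconj : ∀ g : G, g • P = P := by
    intro g
    have hgH : ((g • P : Sylow p G) : Subgroup G) ≤ (P : Subgroup G) ⊔ N := by
      intro x hx
      rw [Sylow.coe_subgroup_smul, Subgroup.mem_pointwise_smul_iff_inv_smul_mem] at hx
      have h1 : (MulAut.conj g)⁻¹ • x ∈ (P : Subgroup G) ⊔ N := hPH hx
      have h2 : g * ((MulAut.conj g)⁻¹ • x) * g⁻¹ ∈ (P : Subgroup G) ⊔ N :=
        hHn.conj_mem _ h1 g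
      have h3 : g * ((MulAut.conj g)⁻¹ • x) * g⁻¹ = x := by
        rw [MulAut.smul_def, ← map_inv, MulAut.conj_apply]
        group
      rwa [h3] at h2
    -- the two Sylow subgroups of `H`
    haveI hn1 : ((P.subtype hPH : Sylow p ↥((P : Subgroup G) ⊔ N)) :
        Subgroup ↥((P : Subgroup G) ⊔ N)).Normal := hclosed _
    obtain ⟨h, hh⟩ := MulAction.exists_smul_eq ↥((P : Subgroup G) ⊔ N) (P.subtype hPH)
      ((g • P).subtype hgH)
    rw [Sylow.smul_eq_of_normal] at hh
    have h4 := congrArg (fun Q : Sylow p ↥((P : Subgroup G) ⊔ N) =>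
      (Q : Subgroup ↥((P : Subgroup G) ⊔ N))) hh
    simp only [Sylow.coe_subtype] at h4
    rw [Subgroup.subgroupOf_inj, inf_of_le_left hPH, inf_of_le_left hgH] at h4
    exact Sylow.ext h4.symm
  have hPn : (P : Subgroup G).Normal := by
    rw [← Subgroup.normalizer_eq_top_iff, eq_top_iff]
    intro g _
    exact Sylow.smul_eq_iff_mem_normalizer.mp (hconj g)
  intro Q
  obtain ⟨g, hg⟩ := MulAction.exists_smul_eq G P Q
  rw [hconj g] at hg
  rw [← hg]
  exact hPn

end Cfsg.Agent.Helper15.NPC
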