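import Mathlib
import Cfsg.Agent.Lib.Helper17.GLkDefs

/-!
# S2478, piece GLK-ISO (helper25): two decompositions matched by a bijection give isomorphic modules
-/

set_option autoImplicit false

open Polynomial

namespace Cfsg.Agent.Helper17.GLk

universe u

section pieces
variable {F : Type u} [Field F]
variable {V : Type u} [AddCommGroup V] [Module F V]

theorem decomp_iso_of_bij (a b : Module.End F V) {ι ι' : Type u} [Fintype ι] [Fintype ι']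
    {p : ι → F[X]} {e : ι → ℕ} {p' : ι' → F[X]} {e' : ι' → ℕ}
    (h : IsDecomp a ι p e) (h' : IsDecomp b ι' p' e')
    (σ : ι ≃ ι') (hσ : ∀ i, e' (σ i) = e i ∧ Associated (p i) (p' (σ i))) :
    Nonempty (Module.AEval' a ≃ₗ[F[X]] Module.AEval' b) := by
  obtain ⟨-, -, ⟨φ⟩⟩ := h
  obtain ⟨-, -, ⟨φ'⟩⟩ := h'
  have hI : ∀ i, (Ideal.span {p i ^ e i} : Ideal F[X]) =
      Ideal.span {p' (σ i) ^ e' (σ i)} := by
    intro i
    rw [Ideal.span_singleton_eq_span_singleton, (hσ i).1]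
    exact (hσ i).2.pow_pow
  let ψ1 : ((i : ι) → F[X] ⧸ Ideal.span {p i ^ e i}) ≃ₗ[F[X]]
      ((i : ι) → F[X] ⧸ Ideal.span {p' (σ i) ^ e' (σ i)}) :=
    LinearEquiv.piCongrRight (fun i => Submodule.quotEquivOfEq _ _ (hI i))
  let ψ2 : ((i : ι) → F[X] ⧸ Ideal.span {p' (σ i) ^ e' (σ i)}) ≃ₗ[F[X]]
      ((i' : ι') → F[X] ⧸ Ideal.span {p' i' ^ e' i'}) :=
    LinearEquiv.piCongrLeft F[X] (fun i' : ι' => F[X] ⧸ Ideal.span {p' i' ^ e' i'}) σ
  exact ⟨φ ≪≫ₗ ψ1 ≪≫ₗ ψ2 ≪≫ₗ φ'.symm⟩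

end pieces

end Cfsg.Agent.Helper17.GLk
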