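import Mathlib
import Cfsg.Agent.Lib.Helper17.BG11T

/-!
# Bender–Glauberman Lemma 11.7, Step 1 (the reduction), part A   (helper25)

General lemmas, `N_G(P) ≤ N_G(A)` for an abelian Sylow `p`-subgroup `P ≥ A` of an exceptional
maximal subgroup `M`, and the two regular points `A₀^g`, `A₀^(g⁻¹)`.
-/

set_option autoImplicit false
set_option linter.style.haveILetI false
set_option linter.unusedSectionVars false

namespace Cfsg.Agent.Helper25.BG117

open Cfsg Subgroup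
open scoped commutatorElement
open Cfsg.Agent.Helper17.BG11
open Cfsg.Agent.Helper15 (mem_map_conj_iff conj_mem_map_conj map_conj_map_conj map_conj_one
  map_conj_inv_map_conj map_conj_map_conj_inv map_conj_mono card_map_conj
  map_conj_eq_of_mem_normalizer map_conj_le_of_mem mem_normalizer_of_map_conj_eq)

universe u

variable {G : Type u} [Group G]

/-! ### centralising modulo a subgroup -/

/-- the elements of `N_G(T)` that centralise `Q` modulo `T` -/
def cmod (Q T : Subgroup G) : Subgroup G where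
  carrier := {g | g ∈ normalizer (T : Set G) ∧ ∀ x ∈ Q, g * x * g⁻¹ * x⁻¹ ∈ T}
  one_mem' := ⟨one_mem _, fun x _ => by
    have e : (1 : G) * x * (1 : G)⁻¹ * x⁻¹ = 1 := by group
    rw [e]; exact T.one_mem⟩
  mul_mem' := by
    rintro g h ⟨hg, hg'⟩ ⟨hh, hh'⟩
    refine ⟨mul_mem hg hh, fun x hx => ?_⟩
    have e : g * h * x * (g * h)⁻¹ * x⁻¹ =
        g * (h * x * h⁻¹ * x⁻¹) * g⁻¹ * (g * x * g⁻¹ * x⁻¹) := by group
    rw [e]
    exact T.mul_mem ((mem_normalizer_iff.mp hg _).mp (hh' x hx)) (hg' x hx)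
  inv_mem' := by
    rintro g ⟨hg, hg'⟩
    refine ⟨inv_mem hg, fun x hx => ?_⟩
    have e : g⁻¹ * x * g⁻¹⁻¹ * x⁻¹ = g⁻¹ * (g * x * g⁻¹ * x⁻¹)⁻¹ * g⁻¹⁻¹ := by group
    rw [e]
    exact (mem_normalizer_iff.mp (inv_mem hg) _).mp (T.inv_mem (hg' x hx))

theorem mem_cmod {Q T : Subgroup G} {g : G} :
    g ∈ cmod Q T ↔ g ∈ normalizer (T : Set G) ∧ ∀ x ∈ Q, g * x * g⁻¹ * x⁻¹ ∈ T := Iff.rfl

theorem le_cmod {X Q T : Subgroup G} (hXT : X ≤ normalizer (T : Set G)) (h : ⁅X, Q⁆ ≤ T) :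
    X ≤ cmod Q T := by
  intro g hg
  refine ⟨hXT hg, fun x hx => ?_⟩
  have e : g * x * g⁻¹ * x⁻¹ = ⁅g, x⁆ := by rw [commutatorElement_def]
  rw [e]
  exact h (commutator_mem_commutator hg hx)

theorem commutator_le_of_le_cmod {X Q T : Subgroup G} (h : X ≤ cmod Q T) : ⁅X, Q⁆ ≤ T := by
  rw [commutator_le]
  intro g hg x hx
  rw [commutatorElement_def]
  exact (h hg).2 x hx

/-! ### two points of a group of order `p²` -/

theorem le_sup_of_two_points [Finite G] {p : ℕ} [Fact p.Prime] {A X₁ X₂ : Subgroup G}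
    (hA : Nat.card A = p ^ 2) (h1 : X₁ ≤ A) (h2 : X₂ ≤ A) (hc1 : Nat.card X₁ = p)
    (hc2 : Nat.card X₂ = p) (hne : X₁ ≠ X₂) : A ≤ X₁ ⊔ X₂ := by
  have hp : p.Prime := Fact.out
  have hBA : X₁ ⊔ X₂ ≤ A := sup_le h1 h2
  have hdvd : Nat.card ↥(X₁ ⊔ X₂) ∣ p ^ 2 := hA ▸ card_dvd_of_le hBA
  obtain ⟨k, hk, hkc⟩ := (Nat.dvd_prime_pow hp).mp hdvd
  have hd1 : p ∣ Nat.card ↥(X₁ ⊔ X₂) := hc1 ▸ card_dvd_of_le (le_sup_left : X₁ ≤ X₁ ⊔ X₂)
  have hk0 : k ≠ 0 := by
    intro h0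
    rw [hkc, h0, pow_zero] at hd1
    exact hp.one_lt.ne' (Nat.dvd_one.mp hd1)
  have hk2 : k = 2 := by
    by_contra hk2
    have hk1 : k = 1 := by omega
    rw [hk1, pow_one] at hkc
    have e1 : X₁ = X₁ ⊔ X₂ := eq_of_le_of_card_ge le_sup_left (by rw [hkc, hc1])
    have e2 : X₂ = X₁ ⊔ X₂ := eq_of_le_of_card_ge le_sup_right (by rw [hkc, hc2])
    exact hne (e1.trans e2.symm)
  rw [hk2] at hkc
  have e : X₁ ⊔ X₂ = A := eq_of_le_of_card_ge hBA (by rw [hkc, hA])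
  rw [e]

/-! ### a subgroup containing a Sylow subgroup for each prime -/

theorem eq_of_forall_sylow_le [Finite G] {K H : Subgroup G} (hHK : H ≤ K)
    (h : ∀ r : ℕ, r.Prime → r ∣ Nat.card K → ∃ S : Subgroup G, S ≤ H ∧
      Nat.card S = r ^ (Nat.card K).factorization r) : H = K := by
  apply eq_of_le_of_card_ge hHK
  apply Nat.le_of_dvd Nat.card_pos
  rw [Nat.dvd_iff_prime_pow_dvd_dvd]
  intro r k hr hrk
  by_cases hk : k = 0
  · rw [hk, pow_zero]; exact one_dvd _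
  have hrK : r ∣ Nat.card K := (dvd_pow_self r hk).trans hrk
  obtain ⟨S, hSH, hSc⟩ := h r hr hrK
  have h1 : k ≤ (Nat.card K).factorization r :=
    (hr.pow_dvd_iff_le_factorization Nat.card_pos.ne').mp hrk
  exact (pow_dvd_pow r h1).trans (hSc ▸ card_dvd_of_le hSH)

/-! ### normalisers -/

theorem normalizer_inf_le_normalizer_sup (K A : Subgroup G) :
    normalizer (K : Set G) ⊓ normalizer (A : Set G) ≤
      normalizer ((K ⊔ A : Subgroup G) : Set G) := by
  intro g hg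
  obtain ⟨hK, hA⟩ := Subgroup.mem_inf.mp hg
  apply mem_normalizer_of_map_conj_eq
  rw [Subgroup.map_sup, map_conj_eq_of_mem_normalizer hK, map_conj_eq_of_mem_normalizer hA]

section Main

variable [Finite G] {M : Subgroup G} {p : ℕ} [Fact p.Prime] {A A0 : Subgroup G}

/-- `N_G(P) ≤ N_G(A)` for an abelian Sylow `p`-subgroup `P ≥ A` of `M` -/
theorem normalizer_sylow_le (hG : IsMinSimpleOddOrder G) (hE : Exc M p A A0) (P : Sylow p M)
    (hAP : A ≤ (P : Subgroup M).map M.subtype)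
    (hPab : ∀ x ∈ (P : Subgroup M), ∀ y ∈ (P : Subgroup M), x * y = y * x) :
    normalizer (((P : Subgroup M).map M.subtype : Subgroup G) : Set G) ≤
      normalizer (A : Set G) := by
  apply le_normalizer_of_conj_mem
  intro n hn a ha
  have h1 : n * a * n⁻¹ ∈ (P : Subgroup M).map M.subtype :=
    (mem_normalizer_iff.mp hn a).mp (hAP ha)
  have h2 : n * a * n⁻¹ ∈ centralizer (A : Set G) := by
    rw [mem_centralizer_iff]
    intro b hb
    obtain ⟨y, hy, hyb⟩ := hAP hb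
    obtain ⟨x, hx, hxn⟩ := h1
    have h3 := congrArg (fun z : ↥M => (z : G)) (hPab y hy x hx)
    rw [← hyb, ← hxn]
    exact h3
  have h3 : (n * a * n⁻¹) ^ p = 1 := by
    rw [conj_pow, hE.hA.2 a ha]
    group
  exact hE.mem_of_cent hG h2 h3

/-- two distinct regular points `A₀^g`, `A₀^(g⁻¹)` generating `A` -/
theorem exists_two_regular (hG : IsMinSimpleOddOrder G) (h10 : H1410 G) (hE : Exc M p A A0)
    (P : Sylow p M) (hAP : A ≤ (P : Subgroup M).map M.subtype)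
    (hPab : ∀ x ∈ (P : Subgroup M), ∀ y ∈ (P : Subgroup M), x * y = y * x) :
    ∃ X₁ X₂ : Subgroup G, X₁ ≤ A ∧ X₂ ≤ A ∧ Nat.card X₁ = p ∧ Nat.card X₂ = p ∧
      sigmaCore M ⊓ centralizer (X₁ : Set G) = ⊥ ∧ sigmaCore M ⊓ centralizer (X₂ : Set G) = ⊥ ∧
      A ≤ X₁ ⊔ X₂ := by
  have hnot : ¬ normalizer (((P : Subgroup M).map M.subtype : Subgroup G) : Set G) ≤ M := by
    intro h
    exact hE.hp ⟨Fact.out, hE.p_dvd_card, P, h⟩
  obtain ⟨g, hgN, hgM⟩ := SetLike.not_le_iff_exists.mp hnot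
  have hgA : g ∈ normalizer (A : Set G) := normalizer_sylow_le hG hE P hAP hPab hgN
  have hgN' : g⁻¹ ∈ normalizer (((P : Subgroup M).map M.subtype : Subgroup G) : Set G) :=
    inv_mem hgN
  have hgA' : g⁻¹ ∈ normalizer (A : Set G) := inv_mem hgA
  have hgM' : g⁻¹ ∉ M := fun h => hgM (by simpa using M.inv_mem h)
  have hAg : A ≤ M.map (MulAut.conj g).toMonoidHom := by
    have h1 := map_conj_mono hE.hAM g
    rwa [map_conj_eq_of_mem_normalizer hgA] at h1
  have hAg' : A ≤ M.map (MulAut.conj g⁻¹).toMonoidHom := by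
    have h1 := map_conj_mono hE.hAM g⁻¹
    rwa [map_conj_eq_of_mem_normalizer hgA'] at h1
  have hX1 : A0.map (MulAut.conj g).toMonoidHom ≤ A := by
    have h1 := map_conj_mono hE.hA0 g
    rwa [map_conj_eq_of_mem_normalizer hgA] at h1
  have hX2 : A0.map (MulAut.conj g⁻¹).toMonoidHom ≤ A := by
    have h1 := map_conj_mono hE.hA0 g⁻¹
    rwa [map_conj_eq_of_mem_normalizer hgA'] at h1
  have hc1 : Nat.card ↥(A0.map (MulAut.conj g).toMonoidHom) = p := by
    rw [card_map_conj, hE.hcard0]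
  have hc2 : Nat.card ↥(A0.map (MulAut.conj g⁻¹).toMonoidHom) = p := by
    rw [card_map_conj, hE.hcard0]
  have hne : A0.map (MulAut.conj g).toMonoidHom ≠ A0.map (MulAut.conj g⁻¹).toMonoidHom := by
    intro h
    have h1 := congrArg (fun H : Subgroup G => H.map (MulAut.conj g).toMonoidHom) h
    simp only [map_conj_map_conj, mul_inv_cancel, map_conj_one] at h1
    have h2 : g * g ∈ M := hE.hN (mem_normalizer_of_map_conj_eq h1)
    have hodd : Odd (orderOf g) := Odd.of_dvd_nat hG.1 (orderOf_dvd_natCard g)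
    obtain ⟨k, hk⟩ := hodd
    have h3 : (g * g) ^ (k + 1) = g := by
      rw [← pow_two, ← pow_mul]
      have : 2 * (k + 1) = orderOf g + 1 := by omega
      rw [this, pow_succ, pow_orderOf_eq_one, one_mul]
    exact hgM (h3 ▸ M.pow_mem h2 _)
  refine ⟨_, _, hX1, hX2, hc1, hc2, lemma_11_2b hG h10 hE hgM hAg,
    lemma_11_2b hG h10 hE hgM' hAg', ?_⟩
  exact le_sup_of_two_points hE.hcard hX1 hX2 hc1 hc2 hne

end Main

end Cfsg.Agent.Helper25.BG117
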