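import Mathlib
import Cfsg.Agent.Lib.Helper25.BG117A
import Cfsg.Agent.Lib.Helper8.HHGlue3
import Cfsg.Agent.Lib.Helper14.BGUniqE
import Cfsg.Agent.Lib.Helper1.BG152
import Cfsg.Agent.Lib.Helper10.BG36K2
import Cfsg.Agent.Lib.Helper5.PLenOneA

/-!
# Bender–Glauberman Lemma 11.7, Step 1 (the reduction), part B   (helper25)

`M` exceptional for `(p, A₀, A)`, `P ≥ A` an abelian Sylow `p`-subgroup of `M`.  If `A`
centralises every normal `q`-subgroup of `M` for the primes `q ∉ σ(M) ∪ {p}`, then `M_σ A` is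
normal in `M`.
-/

set_option autoImplicit false
set_option linter.style.haveILetI false
set_option linter.unusedSectionVars false

namespace Cfsg.Agent.Helper25.BG117

open Cfsg Subgroup
open scoped commutatorElement
open Cfsg.Agent.Helper17.BG11
open Cfsg.Agent.Helper8.FitPrime (pCoreOf_le pCoreOf_isPGroup fittingOf_eq_iSup)
open Cfsg.Agent.Helper8 (FitPrime.pCoreOf)

universe u

variable {G : Type u} [Group G] [Finite G] {M : Subgroup G} {p : ℕ} [Fact p.Prime]
  {A A0 : Subgroup G}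

/-- `N_G(D)` normalises `O_q(D)` -/
theorem normalizer_le_normalizer_pCoreOf' (q : ℕ) (D : Subgroup G) :
    normalizer (D : Set G) ≤ normalizer ((FitPrime.pCoreOf q D : Subgroup G) : Set G) := by
  have h := Cfsg.Agent.Helper14.normalizer_le_normalizer_pCoreOf q D
  unfold Cfsg.pCoreOf at h
  unfold Cfsg.Agent.Helper8.FitPrime.pCoreOf
  exact h

/-- an `ℓ`-subgroup of `M_σ` with `ℓ ∉ σ(M)` is trivial -/
theorem eq_bot_of_le_sigmaCore {ℓ : ℕ} [Fact ℓ.Prime] (hℓ : ℓ ∉ sigma M) {Y : Subgroup G}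
    (hY : IsPGroup ℓ Y) (hYK : Y ≤ sigmaCore M) : Y = ⊥ := by
  rcases hY.card_eq_or_dvd with h | h
  · exact card_eq_one.mp h
  · exact absurd (prime_mem_sigma_of_dvd_card M hYK Fact.out h) hℓ

/-- a subgroup centralising every `O_ℓ(K)` centralises the nilpotent subgroup `K` -/
theorem le_centralizer_of_forall_pCoreOf {K T : Subgroup G} (hnil : Group.IsNilpotent K)
    (h : ∀ ℓ : ℕ, ℓ.Prime → T ≤ centralizer ((FitPrime.pCoreOf ℓ K : Subgroup G) : Set G)) :
    T ≤ centralizer (K : Set G) := by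
  have h1 : K ≤ fittingOf K := Cfsg.Agent.Helper1.BG152.le_fittingOf le_rfl le_normalizer hnil
  have h2 : T ≤ centralizer ((fittingOf K : Subgroup G) : Set G) := by
    rw [le_centralizer_iff, fittingOf_eq_iSup]
    apply iSup_le
    intro ℓ
    rw [← le_centralizer_iff]
    exact h ℓ ℓ.2
  exact h2.trans (centralizer_le (SetLike.coe_subset_coe.mpr h1))

/-- a `2`-subgroup of a group of odd order is trivial -/
theorem eq_bot_of_two_group (hodd : Odd (Nat.card G)) {Q : Subgroup G} (hQ : IsPGroup 2 Q) :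
    Q = ⊥ := by
  haveI : Fact (Nat.Prime 2) := ⟨Nat.prime_two⟩
  rcases hQ.card_eq_or_dvd with h | h
  · exact card_eq_one.mp h
  · have h2 : 2 ∣ Nat.card G := h.trans (card_subgroup_dvd_card Q)
    exact absurd (even_iff_two_dvd.mpr h2) (Nat.not_even_iff_odd.mpr hodd)

/-- the Hall–Higman step for one regular point -/
theorem commutator_point_le (hG : IsMinSimpleOddOrder G) (h10 : H1410 G) (hE : Exc M p A A0)
    {X : Subgroup G} (hXA : X ≤ A) (hXc : Nat.card X = p)
    (hXr : sigmaCore M ⊓ centralizer (X : Set G) = ⊥)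
    {r : ℕ} (hr : r.Prime) (hr2 : r ≠ 2) (hrσ : r ∉ sigma M) (hrp : r ≠ p) (Q : Subgroup G)
    (hQM : Q ≤ M) (hQ : IsPGroup r Q) (hAQ : A ≤ normalizer (Q : Set G)) :
    ⁅X, Q⁆ ≤ centralizer (sigmaCore M : Set G) := by
  have hnil : Group.IsNilpotent (sigmaCore M) := theorem_11_3 hG h10 hE
  apply le_centralizer_of_forall_pCoreOf hnil
  intro ℓ hℓ
  haveI := Fact.mk hℓ
  by_cases hℓσ : ℓ ∈ sigma M
  · have hℓr : ℓ ≠ r := fun h => hrσ (h ▸ hℓσ)
    have hℓp : ℓ ≠ p := fun h => hE.hp (h ▸ hℓσ)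
    have hMn : M ≤ normalizer ((FitPrime.pCoreOf ℓ (sigmaCore M) : Subgroup G) : Set G) :=
      Cfsg.Agent.Helper1.BG152.le_normalizer_pCoreOf_sigmaCore M ℓ
    have hCP : FitPrime.pCoreOf ℓ (sigmaCore M) ⊓ centralizer (X : Set G) = ⊥ := by
      rw [eq_bot_iff, ← hXr]
      exact inf_le_inf_right _ (pCoreOf_le ℓ (sigmaCore M))
    exact Cfsg.Agent.Helper8.HHLin.commutator_le_centralizer_pgroup ℓ hr (Fact.out : p.Prime)
      hℓr hℓp hrp (fun h => hr2 h.1) X Q (FitPrime.pCoreOf ℓ (sigmaCore M))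
      (pCoreOf_isPGroup ℓ (sigmaCore M)) hXc hQ (hXA.trans hAQ) ((hXA.trans hE.hAM).trans hMn)
      (hQM.trans hMn) hCP
  · have hb : FitPrime.pCoreOf ℓ (sigmaCore M) = ⊥ :=
      eq_bot_of_le_sigmaCore hℓσ (pCoreOf_isPGroup ℓ (sigmaCore M)) (pCoreOf_le ℓ (sigmaCore M))
    rw [hb]
    intro x _
    rw [mem_centralizer_iff]
    intro y hy
    rw [SetLike.mem_coe, mem_bot] at hy
    rw [hy, one_mul, mul_one]

section WithP

variable (P : Sylow p M)

/-- [F2]: `[A, Q] ≤ C(M_σ)` for every `A`-invariant `r`-subgroup `Q` of `M`, `r ∉ σ(M) ∪ {p}` -/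
theorem commutator_le_centralizer_sigmaCore (hG : IsMinSimpleOddOrder G) (h10 : H1410 G)
    (hE : Exc M p A A0) (hAP : A ≤ (P : Subgroup M).map M.subtype)
    (hPab : ∀ x ∈ (P : Subgroup M), ∀ y ∈ (P : Subgroup M), x * y = y * x)
    {r : ℕ} (hr : r.Prime) (hrσ : r ∉ sigma M) (hrp : r ≠ p) (Q : Subgroup G)
    (hQM : Q ≤ M) (hQ : IsPGroup r Q) (hAQ : A ≤ normalizer (Q : Set G)) :
    ⁅A, Q⁆ ≤ centralizer (sigmaCore M : Set G) := by
  by_cases hr2 : r = 2
  · have hb : Q = ⊥ := eq_bot_of_two_group hG.1 (hr2 ▸ hQ)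
    rw [hb, commutator_bot_right]
    exact bot_le
  obtain ⟨X₁, X₂, h1, h2, hc1, hc2, hr1, hr2', hsup⟩ := exists_two_regular hG h10 hE P hAP hPab
  have hMT : M ≤ normalizer ((centralizer (sigmaCore M : Set G) : Subgroup G) : Set G) :=
    (le_normalizer_sigmaCore M).trans
      (Cfsg.Agent.Helper14.BGTrans.normalizer_le_normalizer_centralizer _)
  have k1 : X₁ ≤ cmod Q (centralizer (sigmaCore M : Set G)) :=
    le_cmod ((h1.trans hE.hAM).trans hMT)
      (commutator_point_le hG h10 hE h1 hc1 hr1 hr hr2 hrσ hrp Q hQM hQ hAQ)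
  have k2 : X₂ ≤ cmod Q (centralizer (sigmaCore M : Set G)) :=
    le_cmod ((h2.trans hE.hAM).trans hMT)
      (commutator_point_le hG h10 hE h2 hc2 hr2' hr hr2 hrσ hrp Q hQM hQ hAQ)
  exact commutator_le_of_le_cmod (hsup.trans (sup_le k1 k2))

end WithP

/-- the hypothesis "`A` centralises every normal `q`-subgroup of `M`, `q ∉ σ(M) ∪ {p}`" -/
def CentNormal (M : Subgroup G) (p : ℕ) (A : Subgroup G) : Prop :=
  ∀ q : ℕ, q.Prime → q ∉ sigma M → q ≠ p → ∀ Y : Subgroup G, Y ≤ M → IsPGroup q Y →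
    M ≤ normalizer (Y : Set G) → A ≤ centralizer (Y : Set G)

/-- the Fitting subgroup step -/
theorem eq_bot_of_commutator_eq (hG : IsMinSimpleOddOrder G) (hE : Exc M p A A0)
    (hcent : CentNormal M p A) {L : Subgroup G} (hLM : L ≤ M)
    (hML : M ≤ normalizer (L : Set G)) (hLp : (Nat.card L).Coprime p)
    {r : ℕ} (hr : r.Prime) (hrσ : r ∉ sigma M) (hrp : r ≠ p) (R : Subgroup G) (hRL : R ≤ L)
    (hRC : R ≤ centralizer (sigmaCore M : Set G)) (hR : IsPGroup r R)
    (hRA : ⁅R, A⁆ = R) : R = ⊥ := by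
  obtain ⟨hσ, -⟩ := sigmaHall hG hE.hM
  obtain ⟨D, hDdef⟩ : ∃ D : Subgroup G, D = L ⊓ centralizer (sigmaCore M : Set G) := ⟨_, rfl⟩
  have hDL : D ≤ L := hDdef ▸ inf_le_left
  have hDC : D ≤ centralizer (sigmaCore M : Set G) := hDdef ▸ inf_le_right
  have hDM : D ≤ M := hDL.trans hLM
  have hRD : R ≤ D := hDdef ▸ le_inf hRL hRC
  have hMD : M ≤ normalizer (D : Set G) := by
    rw [hDdef]
    have h2 : M ≤ normalizer ((centralizer (sigmaCore M : Set G) : Subgroup G) : Set G) :=
      (le_normalizer_sigmaCore M).trans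
        (Cfsg.Agent.Helper14.BGTrans.normalizer_le_normalizer_centralizer _)
    exact (le_inf hML h2).trans inf_normalizer_le_normalizer_inf
  have hDsolv : Group.IsSolvable D := by
    apply hG.2.2.2 D
    intro h
    rw [h, top_le_iff] at hDM
    exact hE.hM.1 hDM
  have hMY : ∀ q : ℕ, M ≤ normalizer ((FitPrime.pCoreOf q D : Subgroup G) : Set G) := fun q =>
    hMD.trans (normalizer_le_normalizer_pCoreOf' q D)
  -- `R` centralises every `O_q(D)`
  have hcentq : ∀ q : ℕ, q.Prime → R ≤ centralizer ((FitPrime.pCoreOf q D : Subgroup G) : Set G) := by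
    intro q hq
    haveI := Fact.mk hq
    have hY : IsPGroup q (FitPrime.pCoreOf q D) := pCoreOf_isPGroup q D
    have hYM : FitPrime.pCoreOf q D ≤ M := (pCoreOf_le q D).trans hDM
    by_cases hqσ : q ∈ sigma M
    · have h1 : FitPrime.pCoreOf q D ≤ sigmaCore M := le_sigmaCore_of_isPGroup hσ hqσ hY hYM
      exact hRC.trans (centralizer_le (SetLike.coe_subset_coe.mpr h1))
    · by_cases hqp : q = p
      · have hb : FitPrime.pCoreOf q D = ⊥ := by
          rcases hY.card_eq_or_dvd with h | h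
          · exact card_eq_one.mp h
          · exfalso
            have h2 : p ∣ Nat.card L := hqp ▸ h.trans (card_dvd_of_le ((pCoreOf_le q D).trans hDL))
            have h3 := Nat.Coprime.eq_one_of_dvd hLp.symm h2
            exact (Fact.out : p.Prime).one_lt.ne' h3
        rw [hb]
        intro x _
        rw [mem_centralizer_iff]
        intro y hy
        rw [SetLike.mem_coe, mem_bot] at hy
        rw [hy, one_mul, mul_one]
      · have hAY : A ≤ centralizer ((FitPrime.pCoreOf q D : Subgroup G) : Set G) :=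
          hcent q hq hqσ hqp _ hYM hY (hMY q)
        have e1 : ⁅⁅A, FitPrime.pCoreOf q D⁆, R⁆ = ⊥ := by
          rw [commutator_eq_bot_iff_le_centralizer.mpr hAY, commutator_bot_left]
        have e2 : ⁅⁅FitPrime.pCoreOf q D, R⁆, A⁆ = ⊥ := by
          rw [eq_bot_iff]
          have h1 : ⁅FitPrime.pCoreOf q D, R⁆ ≤ FitPrime.pCoreOf q D :=
            Cfsg.Agent.Helper1.commutator_le_of_le_normalizer ((hRD.trans hDM).trans (hMY q))
          have h2 : ⁅FitPrime.pCoreOf q D, A⁆ = ⊥ := by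
            rw [commutator_comm]
            exact commutator_eq_bot_iff_le_centralizer.mpr hAY
          rw [← h2]
          exact commutator_mono h1 le_rfl
        have e3 := commutator_commutator_eq_bot_of_rotate e1 e2
        rw [hRA] at e3
        exact commutator_eq_bot_iff_le_centralizer.mp e3
  -- hence `R ≤ F(D)`
  have hRF : R ≤ fittingOf D := by
    have h1 : R ≤ centralizer ((fittingOf D : Subgroup G) : Set G) := by
      rw [le_centralizer_iff, fittingOf_eq_iSup]
      apply iSup_le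
      intro ℓ
      rw [← le_centralizer_iff]
      exact hcentq ℓ ℓ.2
    exact (le_inf hRD h1).trans (Cfsg.Agent.Helper14.BGUniq.inf_centralizer_fittingOf_le_self hDsolv)
  haveI := Fact.mk hr
  have hRr : R ≤ FitPrime.pCoreOf r D := by
    intro x hx
    apply Cfsg.Agent.Helper14.BGUniq.mem_pCoreOf_of_mem_fittingOf r (hRF hx)
    obtain ⟨k, hk⟩ := hR ⟨x, hx⟩
    refine ⟨k, ?_⟩
    have := congrArg (fun z : ↥R => (z : G)) hk
    simpa using this
  have hAr : A ≤ centralizer ((FitPrime.pCoreOf r D : Subgroup G) : Set G) :=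
    hcent r hr hrσ hrp _ ((pCoreOf_le r D).trans hDM) (pCoreOf_isPGroup r D) (hMY r)
  have h3 : ⁅R, A⁆ = ⊥ := by
    rw [eq_bot_iff]
    have h2 : ⁅FitPrime.pCoreOf r D, A⁆ = ⊥ := by
      rw [commutator_comm]
      exact commutator_eq_bot_iff_le_centralizer.mpr hAr
    rw [← h2]
    exact commutator_mono hRr le_rfl
  rw [← hRA, h3]

section WithP2

variable (P : Sylow p M)

/-- `A` centralises every `A`-invariant `r`-subgroup of `L`, `r ∉ σ(M) ∪ {p}` -/
theorem le_centralizer_of_invariant (hG : IsMinSimpleOddOrder G) (h10 : H1410 G)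
    (hE : Exc M p A A0) (hAP : A ≤ (P : Subgroup M).map M.subtype)
    (hPab : ∀ x ∈ (P : Subgroup M), ∀ y ∈ (P : Subgroup M), x * y = y * x)
    (hcent : CentNormal M p A) {L : Subgroup G} (hLM : L ≤ M)
    (hML : M ≤ normalizer (L : Set G)) (hLp : (Nat.card L).Coprime p)
    {r : ℕ} (hr : r.Prime) (hrσ : r ∉ sigma M) (hrp : r ≠ p) (Q : Subgroup G) (hQL : Q ≤ L)
    (hQ : IsPGroup r Q) (hAQ : A ≤ normalizer (Q : Set G)) :
    A ≤ centralizer (Q : Set G) := by
  haveI := Fact.mk hr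
  have hRQ : ⁅Q, A⁆ ≤ Q := Cfsg.Agent.Helper1.commutator_le_of_le_normalizer hAQ
  have hRC : ⁅Q, A⁆ ≤ centralizer (sigmaCore M : Set G) := by
    rw [commutator_comm]
    exact commutator_le_centralizer_sigmaCore P hG h10 hE hAP hPab hr hrσ hrp Q (hQL.trans hLM)
      hQ hAQ
  have hcop : (Nat.card A).Coprime r := by
    rw [hE.hcard]
    apply Nat.Coprime.pow_left
    exact (Nat.coprime_primes Fact.out hr).mpr (Ne.symm hrp)
  have hRA : ⁅⁅Q, A⁆, A⁆ = ⁅Q, A⁆ := Cfsg.Agent.Helper10.BG36K.comm_comm_eq Q A hQ hAQ hcop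
  have hb := eq_bot_of_commutator_eq hG hE hcent hLM hML hLp hr hrσ hrp ⁅Q, A⁆ (hRQ.trans hQL)
    hRC (hQ.to_le hRQ) hRA
  rw [le_centralizer_iff]
  exact commutator_eq_bot_iff_le_centralizer.mp hb

/-- a normal `p'`-subgroup `L` of `M` normalises `M_σ A` -/
theorem le_normalizer_sup_of_pprime (hG : IsMinSimpleOddOrder G) (h10 : H1410 G)
    (hE : Exc M p A A0) (hAP : A ≤ (P : Subgroup M).map M.subtype)
    (hPab : ∀ x ∈ (P : Subgroup M), ∀ y ∈ (P : Subgroup M), x * y = y * x)
    (hcent : CentNormal M p A) {L : Subgroup G} (hLM : L ≤ M)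
    (hML : M ≤ normalizer (L : Set G)) (hLp : (Nat.card L).Coprime p) :
    L ≤ normalizer ((sigmaCore M ⊔ A : Subgroup G) : Set G) := by
  obtain ⟨hσ, -⟩ := sigmaHall hG hE.hM
  have key : L ⊓ normalizer ((sigmaCore M ⊔ A : Subgroup G) : Set G) = L := by
    apply eq_of_forall_sylow_le inf_le_left
    intro r hr hrL
    haveI := Fact.mk hr
    have hcop : (Nat.card A).Coprime (Nat.card L) := by
      rw [hE.hcard]
      exact Nat.Coprime.pow_left 2 hLp.symm
    obtain ⟨S, hS⟩ := Cfsg.Agent.Helper1.exists_invariant_sylow (p := r) (K := L) A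
      (hE.hAM.trans hML) hcop (Or.inl hE.isSolvable)
    obtain ⟨Q, hQdef⟩ : ∃ Q : Subgroup G, Q = (S : Subgroup L).map L.subtype := ⟨_, rfl⟩
    rw [← hQdef] at hS
    have hQL : Q ≤ L := hQdef ▸ map_subtype_le _
    have hQr : IsPGroup r Q := hQdef ▸ S.isPGroup'.map _
    have hQc : Nat.card Q = r ^ (Nat.card L).factorization r := by
      rw [hQdef, card_map_of_injective L.subtype_injective, S.card_eq_multiplicity]
    refine ⟨Q, le_inf hQL ?_, hQc⟩
    by_cases hrσ : r ∈ sigma M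
    · have h1 : Q ≤ sigmaCore M := le_sigmaCore_of_isPGroup hσ hrσ hQr (hQL.trans hLM)
      exact (h1.trans le_sup_left).trans le_normalizer
    · have hrp : r ≠ p := by
        intro h
        have h3 := Nat.Coprime.eq_one_of_dvd hLp.symm (h ▸ hrL)
        exact (Fact.out : p.Prime).one_lt.ne' h3
      have h1 : A ≤ centralizer (Q : Set G) :=
        le_centralizer_of_invariant P hG h10 hE hAP hPab hcent hLM hML hLp hr hrσ hrp Q hQL hQr hS
      have h2 : Q ≤ normalizer (A : Set G) :=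
        (le_centralizer_iff.mp h1).trans (centralizer_le_normalizer _)
      have h3 : Q ≤ normalizer (sigmaCore M : Set G) :=
        (hQL.trans hLM).trans (le_normalizer_sigmaCore M)
      exact (le_inf h3 h2).trans (normalizer_inf_le_normalizer_sup _ _)
  rw [← key]
  exact inf_le_right

/-- **Step 1 of BG Lemma 11.7** -/
theorem step1 (hG : IsMinSimpleOddOrder G) (h10 : H1410 G) (hE : Exc M p A A0)
    (hAP : A ≤ (P : Subgroup M).map M.subtype)
    (hPab : ∀ x ∈ (P : Subgroup M), ∀ y ∈ (P : Subgroup M), x * y = y * x)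
    (hcent : ∀ q : ℕ, q.Prime → q ∉ sigma M → q ≠ p → ∀ Y : Subgroup G, Y ≤ M → IsPGroup q Y →
      M ≤ normalizer (Y : Set G) → A ≤ centralizer (Y : Set G)) :
    M ≤ normalizer ((sigmaCore M ⊔ A : Subgroup G) : Set G) := by
  obtain ⟨L, hLdef⟩ : ∃ L : Subgroup G, L = (upperPSeries p ↥M 1).1.map M.subtype := ⟨_, rfl⟩
  have hLM : L ≤ M := hLdef ▸ map_subtype_le _
  have hML : M ≤ normalizer (L : Set G) := by
    rw [hLdef]
    exact Cfsg.Agent.Helper14.BGUniq.le_normalizer_map_subtype M _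
  have hLp : (Nat.card L).Coprime p := by
    rw [hLdef, card_map_of_injective M.subtype_injective]
    exact Cfsg.Agent.Helper19.PLen.card_upperPSeries_one_coprime p
  have hL := le_normalizer_sup_of_pprime P hG h10 hE hAP hPab hcent hLM hML hLp
  have hfr := Cfsg.Agent.Helper5.PLenOne.normalizer_sup_eq_top_of_plengthLE P (h10 p M hE.hM.1)
  have hNP : normalizer ((P : Subgroup M) : Set M) ≤
      (normalizer ((sigmaCore M ⊔ A : Subgroup G) : Set G)).comap M.subtype := by
    intro n hn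
    rw [mem_comap]
    have h1 : (n : G) ∈ normalizer (((P : Subgroup M).map M.subtype : Subgroup G) : Set G) := by
      have h2 : (normalizer ((P : Subgroup M) : Set M)).map M.subtype ≤
          normalizer (((P : Subgroup M).map M.subtype : Subgroup G) : Set G) := by
        apply le_normalizer_of_conj_mem
        rintro _ ⟨a, ha, rfl⟩ _ ⟨x, hx, rfl⟩
        exact ⟨a * x * a⁻¹, (mem_normalizer_iff.mp ha x).mp hx, by simp⟩
      exact h2 ⟨n, hn, rfl⟩
    have h3 : (n : G) ∈ normalizer (A : Set G) := normalizer_sylow_le hG hE P hAP hPab h1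
    have h4 : (n : G) ∈ normalizer (sigmaCore M : Set G) := le_normalizer_sigmaCore M n.2
    exact normalizer_inf_le_normalizer_sup _ _ (Subgroup.mem_inf.mpr ⟨h4, h3⟩)
  have hU : (upperPSeries p ↥M 1).1 ≤
      (normalizer ((sigmaCore M ⊔ A : Subgroup G) : Set G)).comap M.subtype := by
    intro n hn
    rw [mem_comap]
    apply hL
    rw [hLdef]
    exact ⟨n, hn, rfl⟩
  intro m hm
  have h1 : (⟨m, hm⟩ : ↥M) ∈ (normalizer ((sigmaCore M ⊔ A : Subgroup G) : Set G)).comap
      M.subtype := by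
    apply sup_le hNP hU
    rw [hfr]
    exact mem_top _
  exact h1

end WithP2

end Cfsg.Agent.Helper25.BG117
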