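import Mathlib
import Cfsg.Agent.Lib.Helper25.BG117B

/-!
# Bender–Glauberman Lemma 11.7, Step 1: interface wrappers   (helper25)

`comm_le_centralizer_sigmaCore` ((F2)) and `normal_of_centralizes` (Step 1 with `O_q(M)` written
as `piCoreOf {q} M`), in the shapes asked for by helper17.
-/

set_option autoImplicit false
set_option linter.style.haveILetI false
set_option linter.unusedSectionVars false

namespace Cfsg.Agent.Helper25.BG117

open Cfsg Subgroup
open scoped commutatorElement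
open Cfsg.Agent.Helper17.BG11

universe u

variable {G : Type u} [Group G] [Finite G] {M : Subgroup G} {p : ℕ} [Fact p.Prime]
  {A A0 : Subgroup G} (P : Sylow p M)

/-- (F2): `[Q, A] ≤ C(M_σ)` for every `A`-invariant `q`-subgroup `Q` of `M`, `q ∉ σ(M) ∪ {p}` -/
theorem comm_le_centralizer_sigmaCore (hG : IsMinSimpleOddOrder G) (h10 : H1410 G)
    (hE : Exc M p A A0) (hAP : A ≤ (P : Subgroup M).map M.subtype)
    (hPab : ∀ x ∈ (P : Subgroup M), ∀ y ∈ (P : Subgroup M), x * y = y * x)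
    {q : ℕ} [Fact q.Prime] (hqp : q ≠ p) (hqs : q ∉ sigma M) (Q : Subgroup G) (hQM : Q ≤ M)
    (hQ : IsPGroup q Q) (hAQ : A ≤ normalizer (Q : Set G)) :
    ⁅Q, A⁆ ≤ centralizer (sigmaCore M : Set G) := by
  rw [commutator_comm]
  exact commutator_le_centralizer_sigmaCore P hG h10 hE hAP hPab Fact.out hqs hqp Q hQM hQ hAQ

/-- Step 1 of BG 11.7 with `O_q(M)` written as `piCoreOf {q} M` -/
theorem normal_of_centralizes (hG : IsMinSimpleOddOrder G) (h10 : H1410 G)
    (hE : Exc M p A A0) (hAP : A ≤ (P : Subgroup M).map M.subtype)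
    (hPab : ∀ x ∈ (P : Subgroup M), ∀ y ∈ (P : Subgroup M), x * y = y * x)
    (h : ∀ (q : ℕ) [Fact q.Prime], q ≠ p → q ∉ sigma M →
      A ≤ centralizer ((piCoreOf {q} M : Subgroup G) : Set G)) :
    M ≤ normalizer ((sigmaCore M ⊔ A : Subgroup G) : Set G) := by
  apply step1 P hG h10 hE hAP hPab
  intro q hq hqσ hqp Y hYM hY hMY
  haveI := Fact.mk hq
  have h1 : Y ≤ piCoreOf {q} M := by
    apply Cfsg.Agent.Helper14.BGTrans.le_piCoreOf {q} hYM hMY
    intro r hr hrd
    obtain ⟨k, hk⟩ := hY.exists_card_eq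
    rw [hk] at hrd
    exact (Nat.prime_dvd_prime_iff_eq hr hq).mp (hr.dvd_of_dvd_pow hrd)
  exact (h q hqp hqσ).trans (centralizer_le (SetLike.coe_subset_coe.mpr h1))

end Cfsg.Agent.Helper25.BG117
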