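import Mathlib
import Cfsg.Agent.Lib.Helper10.EODefs

/-!
# S2264 piece EO-CASE2 (helper25): the case `μ = (X-1)^a (X+1)^b`, `q` odd.
-/

set_option autoImplicit false

open Polynomial

namespace Cfsg.Agent.Helper10.EO

section poly
variable {F : Type*} [Field F]

theorem eo_case2_exists_ab (s : Multiset F[X]) (hs : ∀ f ∈ s, f = X - 1 ∨ f = X + 1) :
    ∃ a b : ℕ, s.prod = (X - 1) ^ a * (X + 1) ^ b := by
  induction s using Multiset.induction_on with
  | empty => exact ⟨0, 0, by simp⟩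
  | cons f s ih =>
    obtain ⟨a, b, hab⟩ := ih (fun g hg => hs g (Multiset.mem_cons_of_mem hg))
    rcases hs f (Multiset.mem_cons_self f s) with rfl | rfl
    · exact ⟨a + 1, b, by rw [Multiset.prod_cons, hab]; ring⟩
    · exact ⟨a, b + 1, by rw [Multiset.prod_cons, hab]; ring⟩

theorem eo_case2_natDegree (a b : ℕ) :
    ((X - 1 : F[X]) ^ a * (X + 1) ^ b).natDegree = a + b := by
  have h1 : (X - 1 : F[X]) = X - C 1 := by simp
  have h2 : (X + 1 : F[X]) = X + C 1 := by simp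
  have m1 : (X - 1 : F[X]).Monic := by rw [h1]; exact monic_X_sub_C 1
  have m2 : (X + 1 : F[X]).Monic := by rw [h2]; exact monic_X_add_C 1
  rw [(m1.pow a).natDegree_mul (m2.pow b), m1.natDegree_pow, m2.natDegree_pow, h1,
    natDegree_X_sub_C, h2, natDegree_X_add_C]
  simp

theorem eo_case2_three_pow (m : ℕ) : 2 * m + 1 ≤ 3 ^ m := by
  induction m with
  | zero => simp
  | succ k ih => rw [pow_succ]; omega

theorem eo_case2_three_pow' (j : ℕ) (hj : 2 ≤ j) : 2 * j + 2 ≤ 3 ^ j := by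
  induction j, hj using Nat.le_induction with
  | base => norm_num
  | succ k _ ih => rw [pow_succ]; omega

/-- Frobenius on `X - 1` and `X + 1` for a power of the cardinality. -/
theorem eo_case2_frob [Fintype F] (j : ℕ) :
    ((X - 1 : F[X]) ^ (Fintype.card F ^ j) = X ^ (Fintype.card F ^ j) - 1) ∧
      ((X + 1 : F[X]) ^ (Fintype.card F ^ j) = X ^ (Fintype.card F ^ j) + 1) := by
  set p := ringChar F with hp
  haveI : Fact p.Prime := ⟨CharP.char_is_prime F p⟩
  obtain ⟨k, _, hk⟩ := FiniteField.card F p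
  rw [hk, ← pow_mul]
  constructor
  · rw [sub_pow_char_pow, one_pow]
  · rw [add_pow_char_pow, one_pow]

/-- PIECE EO-CASE2. -/
theorem case_two [Fintype F] (hodd : Odd (Fintype.card F)) (s : Multiset F[X])
    (hs : ∀ f ∈ s, f = X - 1 ∨ f = X + 1) (d m : ℕ) (hdeg : s.prod.natDegree ≤ d)
    (hd : (d = 2 * m ∧ 2 ≤ m) ∨ (d = 2 * m + 1 ∧ 3 ≤ m)) :
    ∃ N : ℕ, 0 < N ∧ (Fintype.card F - 1) * N ≤ Fintype.card F ^ (m + 1) ∧
      (s.prod ∣ X ^ N - 1 ∨ s.prod ∣ X ^ N + 1) := by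
  obtain ⟨a, b, hab⟩ := eo_case2_exists_ab s hs
  rw [hab, eo_case2_natDegree] at hdeg
  rw [hab]
  set q := Fintype.card F with hq
  have hq2 : 2 ≤ q := Fintype.one_lt_card
  have hq3 : 3 ≤ q := by
    obtain ⟨r, hr⟩ := hodd
    omega
  have hqpos : 0 < q := by omega
  have hm2 : 2 ≤ m := by rcases hd with ⟨_, h⟩ | ⟨_, h⟩ <;> omega
  have hdm : d ≤ 2 * m + 1 := by rcases hd with ⟨h, _⟩ | ⟨h, _⟩ <;> omega
  have hpow_le : ∀ j : ℕ, 3 ^ j ≤ q ^ j := fun j => Nat.pow_le_pow_left hq3 j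
  have hbound1 : (q - 1) * q ^ m ≤ q ^ (m + 1) := by
    rw [pow_succ, mul_comm]
    exact Nat.mul_le_mul_left _ (Nat.sub_le q 1)
  by_cases hb : b = 0
  · -- only `X - 1`
    subst hb
    refine ⟨q ^ m, pow_pos hqpos m, hbound1, Or.inl ?_⟩
    rw [pow_zero, mul_one, ← (eo_case2_frob (F := F) m).1]
    apply pow_dvd_pow
    show _ ≤ q ^ m
    have := eo_case2_three_pow m
    have := hpow_le m
    omega
  by_cases ha : a = 0
  · -- only `X + 1`
    subst ha
    refine ⟨q ^ m, pow_pos hqpos m, hbound1, Or.inr ?_⟩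
    rw [pow_zero, one_mul, ← (eo_case2_frob (F := F) m).2]
    apply pow_dvd_pow
    show _ ≤ q ^ m
    have := eo_case2_three_pow m
    have := hpow_le m
    omega
  · -- both
    obtain ⟨j, rfl⟩ : ∃ j, m = j + 1 := ⟨m - 1, by omega⟩
    have hab_le : a ≤ q ^ j ∧ b ≤ q ^ j := by
      have h3 : d - 1 ≤ 3 ^ j := by
        rcases hd with ⟨h, h2⟩ | ⟨h, h2⟩
        · have := eo_case2_three_pow j
          omega
        · have := eo_case2_three_pow' j (by omega)
          omega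
      have := hpow_le j
      have ha' : 0 < a := Nat.pos_of_ne_zero ha
      have hb' : 0 < b := Nat.pos_of_ne_zero hb
      constructor <;> omega
    refine ⟨2 * q ^ j, by positivity, ?_, Or.inl ?_⟩
    · have h2q : 2 * (q - 1) ≤ q * q := by
        have : 2 * (q - 1) ≤ 3 * q := by omega
        exact le_trans this (Nat.mul_le_mul_right q hq3)
      calc (q - 1) * (2 * q ^ j) = (2 * (q - 1)) * q ^ j := by ring
        _ ≤ (q * q) * q ^ j := Nat.mul_le_mul_right _ h2q
        _ = q ^ (j + 1 + 1) := by ring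
    · have hX : (X : F[X]) ^ (2 * q ^ j) - 1 = (X - 1) ^ (q ^ j) * (X + 1) ^ (q ^ j) := by
        rw [(eo_case2_frob (F := F) j).1, (eo_case2_frob (F := F) j).2]
        ring
      rw [hX]
      exact mul_dvd_mul (pow_dvd_pow _ hab_le.1) (pow_dvd_pow _ hab_le.2)

end poly

end Cfsg.Agent.Helper10.EO
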