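import Mathlib
import Cfsg.Prelude.Def_Classical
import Cfsg.Agent.Lib.Helper10.EODefs

/-!
# S2264 piece EO-WRAPSP (helper25): from the matrix bound to element orders in `PSp`.
-/

set_option autoImplicit false

open Polynomial Matrix

namespace Cfsg.Agent.Helper10.EO

section mat
variable {F : Type*} [Field F]

/-- PIECE EO-WRAPSP. -/
theorem psp_bound_of_core [Fintype F] (m : ℕ)
    (hcore : ∀ A : Matrix (Fin m ⊕ Fin m) (Fin m ⊕ Fin m) F,
      Aᵀ * (Matrix.J (Fin m) F) * A = Matrix.J (Fin m) F →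
      ∃ N : ℕ, 0 < N ∧ (Fintype.card F - 1) * N ≤ Fintype.card F ^ (m + 1) ∧
        (A ^ N = 1 ∨ A ^ N = -1))
    (g : Cfsg.PSp m F) : (Fintype.card F - 1) * orderOf g ≤ Fintype.card F ^ (m + 1) := by
  obtain ⟨A, rfl⟩ := QuotientGroup.mk_surjective g
  have hA : (A : Matrix (Fin m ⊕ Fin m) (Fin m ⊕ Fin m) F)ᵀ * (Matrix.J (Fin m) F) *
      (A : Matrix (Fin m ⊕ Fin m) (Fin m ⊕ Fin m) F) = Matrix.J (Fin m) F := by
    exact SymplecticGroup.mem_iff'.1 A.2
  obtain ⟨N, hN0, hNle, hN⟩ := hcore _ hA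
  have hcen : A ^ N ∈ Subgroup.center (Matrix.symplecticGroup (Fin m) F) := by
    rw [Subgroup.mem_center_iff]
    intro B
    apply Subtype.ext
    rw [Submonoid.coe_mul, Submonoid.coe_mul, SubmonoidClass.coe_pow]
    rcases hN with h | h
    · rw [h, mul_one, one_mul]
    · rw [h, mul_neg, neg_mul, mul_one, one_mul]
  have hpow : (QuotientGroup.mk A : Cfsg.PSp m F) ^ N = 1 := by
    rw [← QuotientGroup.mk_pow]
    exact (QuotientGroup.eq_one_iff _).2 hcen
  have hle : orderOf (QuotientGroup.mk A : Cfsg.PSp m F) ≤ N :=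
    Nat.le_of_dvd hN0 (orderOf_dvd_of_pow_eq_one hpow)
  exact le_trans (Nat.mul_le_mul_left _ hle) hNle

end mat

end Cfsg.Agent.Helper10.EO
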