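import Mathlib
import Cfsg.Prelude.Def_FusionSystem
import Cfsg.Agent.Lib.Helper25.FusionSylow3

/-!
# Group-theoretic input for "a normal subgroup induces a normal subsystem"
-/

set_option autoImplicit false

namespace Cfsg.Agent.Helper25

open Cfsg Cfsg.FusionSystem
open scoped Pointwise

variable {G : Type*} [Group G]

theorem conjBy_sup (A B : Subgroup G) (g : G) :
    Cfsg.conjBy (A ⊔ B) g = Cfsg.conjBy A g ⊔ Cfsg.conjBy B g :=
  Subgroup.map_sup A B _

theorem conjBy_normal (H : Subgroup G) [hH : H.Normal] (g : G) : Cfsg.conjBy H g = H := by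
  ext x
  rw [mem_conjBy]
  constructor
  · intro h
    have := hH.conj_mem _ h g
    simpa [mul_assoc] using this
  · intro h
    have := hH.conj_mem _ h g⁻¹
    simpa [mul_assoc] using this

/-- If `g A g⁻¹ ≤ A` for a finite subgroup `A`, then `g` normalizes `A`. -/
theorem mem_normalizer_of_conjBy_le [Finite G] {A : Subgroup G} {g : G} (h : Cfsg.conjBy A g ≤ A) :
    g ∈ Subgroup.normalizer (A : Set G) := by
  rw [mem_normalizer_iff_conjBy]
  exact Subgroup.eq_of_le_of_card_ge h (card_conjBy A g).ge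

/-- The extension element: for `h ∈ N_H(T)` (`T = S ∩ H`, `H ⊴ G`), some `k ∈ H` acts on `T` as `h` and
normalizes `T C_S(T)`. -/
theorem exists_extension_elt [Finite G] {p : ℕ} [Fact p.Prime] (S : Sylow p G) (H : Subgroup G)
    [hHn : H.Normal] {h : G} (hH : h ∈ H)
    (hN : h ∈ Subgroup.normalizer (((S : Subgroup G) ⊓ H : Subgroup G) : Set G)) :
    ∃ k ∈ H, k ∈ Subgroup.normalizer ((((S : Subgroup G) ⊓ H) ⊔
        centralizerIn (S : Subgroup G) ((S : Subgroup G) ⊓ H) : Subgroup G) : Set G) ∧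
      k ∈ Subgroup.normalizer (((S : Subgroup G) ⊓ H : Subgroup G) : Set G) ∧
      ∀ x ∈ (S : Subgroup G) ⊓ H, k * x * k⁻¹ = h * x * h⁻¹ := by
  obtain ⟨T, hTdef⟩ : ∃ T : Subgroup G, T = (S : Subgroup G) ⊓ H := ⟨_, rfl⟩
  rw [← hTdef] at hN ⊢
  obtain ⟨Z, hZdef⟩ : ∃ Z : Subgroup G, Z = Subgroup.centralizer (T : Set G) := ⟨_, rfl⟩
  have hCeq : centralizerIn (S : Subgroup G) T = (S : Subgroup G) ⊓ Z := by rw [hZdef]; rfl
  rw [hCeq]
  have hTS : T ≤ (S : Subgroup G) := hTdef ▸ inf_le_left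
  have hTH : T ≤ H := hTdef ▸ inf_le_right
  -- normalizer facts
  have hSN : (S : Subgroup G) ≤ Subgroup.normalizer (T : Set G) := by
    intro s hs
    rw [mem_normalizer_iff_conjBy, hTdef, conjBy_inf, conjBy_of_mem hs, conjBy_normal]
  have hZconj : ∀ n ∈ Subgroup.normalizer (T : Set G), Cfsg.conjBy Z n = Z := by
    intro n hn
    rw [hZdef, ← centralizer_conjBy, mem_normalizer_iff_conjBy.mp hn]
  have hTZ : T ≤ Subgroup.normalizer (Z : Set G) := by
    intro t ht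
    rw [mem_normalizer_iff_conjBy]
    exact hZconj t (Subgroup.le_normalizer ht)
  have hZN : Z ≤ Subgroup.normalizer (T : Set G) := hZdef ▸ Subgroup.centralizer_le_normalizer _
  -- M = T Z, normal in N(T); S ∩ M is Sylow in M
  have hMN : T ⊔ Z ≤ Subgroup.normalizer (T : Set G) := sup_le Subgroup.le_normalizer hZN
  have hMconj : ∀ n ∈ Subgroup.normalizer (T : Set G), Cfsg.conjBy (T ⊔ Z) n = T ⊔ Z := by
    intro n hn
    rw [conjBy_sup, hZconj n hn, mem_normalizer_iff_conjBy.mp hn]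
  have hsylN : IsSylowIn p (S : Subgroup G) (Subgroup.normalizer (T : Set G)) :=
    (isSylowIn_top_of_sylow S).of_le hSN le_top
  have hsylM : IsSylowIn p ((S : Subgroup G) ⊓ (T ⊔ Z)) (T ⊔ Z) := hsylN.inf_of_normal hMN hMconj
  -- S ∩ TZ = T (S ∩ Z)
  have hReq : (S : Subgroup G) ⊓ (T ⊔ Z) = T ⊔ (S : Subgroup G) ⊓ Z := by
    apply le_antisymm
    · intro s hs
      have hs2 : s ∈ ((T ⊔ Z : Subgroup G) : Set G) := hs.2
      rw [Subgroup.coe_mul_of_left_le_normalizer_right T Z hTZ] at hs2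
      obtain ⟨t, ht, c, hc, rfl⟩ := hs2
      have hcS : c ∈ (S : Subgroup G) := by
        have := Subgroup.mul_mem _ (Subgroup.inv_mem _ (hTS ht)) hs.1
        simpa using this
      exact Subgroup.mul_mem _ (Subgroup.mem_sup_left ht) (Subgroup.mem_sup_right ⟨hcS, hc⟩)
    · exact le_inf (sup_le hTS inf_le_left) (sup_le_sup_left inf_le_right T)
  rw [hReq] at hsylM
  obtain ⟨R, hRdef⟩ : ∃ R : Subgroup G, R = T ⊔ (S : Subgroup G) ⊓ Z := ⟨_, rfl⟩
  rw [← hRdef] at hsylM ⊢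
  have hRS : R ≤ (S : Subgroup G) := hRdef ▸ sup_le hTS inf_le_left
  have hRN : R ≤ Subgroup.normalizer (T : Set G) := hRS.trans hSN
  -- C_H(T), normalized by N(T)
  obtain ⟨CH, hCHdef⟩ : ∃ CH : Subgroup G, CH = H ⊓ Z := ⟨_, rfl⟩
  have hCHconj : ∀ n ∈ Subgroup.normalizer (T : Set G), Cfsg.conjBy CH n = CH := by
    intro n hn
    rw [hCHdef, conjBy_inf, conjBy_normal, hZconj n hn]
  have hRnCH : R ≤ Subgroup.normalizer (CH : Set G) := by
    intro r hr
    rw [mem_normalizer_iff_conjBy]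
    exact hCHconj r (hRN hr)
  have hCHM : CH ≤ T ⊔ Z := hCHdef ▸ (inf_le_right.trans le_sup_right)
  have hRM : R ≤ T ⊔ Z := hRdef ▸ sup_le_sup_left inf_le_right T
  have hYM : R ⊔ CH ≤ T ⊔ Z := sup_le hRM hCHM
  have hsylY : IsSylowIn p R (R ⊔ CH) := hsylM.of_le le_sup_left hYM
  -- h R h⁻¹ ≤ Y
  have hTR : T ≤ R := hRdef ▸ le_sup_left
  have hXY : Cfsg.conjBy R h ≤ R ⊔ CH := by
    have hsplit : Cfsg.conjBy R h = Cfsg.conjBy T h ⊔ Cfsg.conjBy ((S : Subgroup G) ⊓ Z) h := by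
      rw [hRdef, conjBy_sup]
    rw [hsplit]
    apply sup_le
    · rw [mem_normalizer_iff_conjBy.mp hN]
      exact hTR.trans le_sup_left
    · rintro _ ⟨x, hx, rfl⟩
      change h * x * h⁻¹ ∈ R ⊔ CH
      have hxS : x ∈ (S : Subgroup G) := hx.1
      have hxZ : x ∈ Z := hx.2
      -- h x h⁻¹ = (h x h⁻¹ x⁻¹) x
      have h1 : h * x * h⁻¹ * x⁻¹ ∈ CH := by
        rw [hCHdef]
        refine ⟨?_, ?_⟩
        · have h2 : x * h⁻¹ * x⁻¹ ∈ H := hHn.conj_mem _ (H.inv_mem hH) x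
          have : h * x * h⁻¹ * x⁻¹ = h * (x * h⁻¹ * x⁻¹) := by group
          rw [this]
          exact H.mul_mem hH h2
        · have h3 : h * x * h⁻¹ ∈ Cfsg.conjBy Z h := by
            rw [mem_conjBy]; simpa [mul_assoc] using hxZ
          rw [hZconj h hN] at h3
          exact Z.mul_mem h3 (Z.inv_mem hxZ)
      have hxR : x ∈ R := by rw [hRdef]; exact Subgroup.mem_sup_right hx
      have : h * x * h⁻¹ = (h * x * h⁻¹ * x⁻¹) * x := by group
      rw [this]
      exact Subgroup.mul_mem _ (Subgroup.mem_sup_right h1) (Subgroup.mem_sup_left hxR)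
  have hRp : IsPGroup p R := S.isPGroup'.to_le hRS
  obtain ⟨y, hy, hyle⟩ := hsylY.exists_conj_le hXY (isPGroup_conjBy hRp h)
  have hy' : y ∈ ((R ⊔ CH : Subgroup G) : Set G) := hy
  rw [Subgroup.coe_mul_of_left_le_normalizer_right R CH hRnCH] at hy'
  obtain ⟨r, hr, c, hc, hrc⟩ := hy'
  have hrc' : r * c = y := hrc
  subst hrc'
  rw [conjBy_conjBy, mul_assoc, ← conjBy_conjBy _ (c * h) r] at hyle
  have hle2 : Cfsg.conjBy R (c * h) ≤ R := by
    have := conjBy_le_iff.mp hyle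
    rwa [conjBy_of_mem (R.inv_mem hr)] at this
  have hcH : c ∈ H := (hCHdef ▸ hc : c ∈ H ⊓ Z).1
  have hcZ : c ∈ Z := (hCHdef ▸ hc : c ∈ H ⊓ Z).2
  refine ⟨c * h, H.mul_mem hcH hH, mem_normalizer_of_conjBy_le hle2,
    Subgroup.mul_mem _ (hZN hcZ) hN, fun x hx => ?_⟩
  have hxT : h * x * h⁻¹ ∈ T := (Subgroup.mem_normalizer_iff.mp hN x).mp hx
  have hcomm : (h * x * h⁻¹) * c = c * (h * x * h⁻¹) := by
    rw [hZdef] at hcZ
    exact (Subgroup.mem_centralizer_iff.mp hcZ) _ hxT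
  calc c * h * x * (c * h)⁻¹ = c * (h * x * h⁻¹) * c⁻¹ := by group
    _ = (h * x * h⁻¹) * c * c⁻¹ := by rw [hcomm]
    _ = h * x * h⁻¹ := by group

end Cfsg.Agent.Helper25
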