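import Mathlib
import Cfsg.Agent.Lib.Helper3.SmallOrd
import Cfsg.Agent.Lib.Lead.PermTools

set_option autoImplicit false
set_option linter.unusedSectionVars false
open Cfsg
open scoped Pointwise

/-!
Piece 720-B2 of the S0496 farm-out (simple groups of order `≤ 1092`), abstract version: the
conclusion of piece B1 is taken as a pair of explicit hypotheses.
-/

namespace Cfsg.Agent.Helper25.Ord720

variable {G : Type*} [Group G] [Finite G]

/-- `g • P = P` for a Sylow subgroup means conjugation by `g` maps `P` into itself. -/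
theorem conj_mem_of_smul_eq {p : ℕ} [Fact p.Prime] (P : Sylow p G) {g x : G} (hg : g • P = P)
    (hx : x ∈ (P : Subgroup G)) : g * x * g⁻¹ ∈ (P : Subgroup G) := by
  have hn : g ∈ Subgroup.normalizer ((P : Subgroup G) : Set G) :=
    Sylow.smul_eq_iff_mem_normalizer.1 hg
  exact (Subgroup.mem_normalizer_iff.1 hn x).1 hx

/-- `x • P = P` for `x ∈ P`. -/
theorem smul_self_of_mem {p : ℕ} [Fact p.Prime] (P : Sylow p G) {x : G}
    (hx : x ∈ (P : Subgroup G)) : x • P = P :=
  Sylow.smul_eq_iff_mem_normalizer.2 (Subgroup.le_normalizer hx)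

/-- If `x ∈ P` and `R ≠ P` then `x • R ≠ P`. -/
theorem smul_ne_of_mem {p : ℕ} [Fact p.Prime] (P R : Sylow p G) (hRP : R ≠ P) {x : G}
    (hx : x ∈ (P : Subgroup G)) : x • R ≠ P := by
  intro h
  apply hRP
  have h1 : x⁻¹ • (x • R) = x⁻¹ • P := by rw [h]
  rw [inv_smul_smul, smul_self_of_mem P (inv_mem hx)] at h1
  exact h1

/-- The centralizer of `q` in `P`. -/
def cent (P : Subgroup G) (q : G) : Subgroup G where
  carrier := {x | x ∈ P ∧ Commute q x}
  one_mem' := ⟨one_mem _, Commute.one_right q⟩
  mul_mem' := fun ha hb => ⟨mul_mem ha.1 hb.1, ha.2.mul_right hb.2⟩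
  inv_mem' := fun ha => ⟨inv_mem ha.1, ha.2.inv_right⟩

theorem mem_cent {P : Subgroup G} {q x : G} : x ∈ cent P q ↔ x ∈ P ∧ Commute q x := Iff.rfl

theorem cent_le (P : Subgroup G) (q : G) : cent P q ≤ P := fun _ hx => hx.1

section
variable (P R : Sylow 3 G) (hPR : P ≠ R) (q : G) (hqP : q • P = P) (hqR : q • R = R)
  (hreg : ∀ R' : Sylow 3 G, R' ≠ P → ∃! x : G, x ∈ (P : Subgroup G) ∧ x • R = R')

/-- The parametrisation of the fixed points of `q`. -/
def fixMap : Option ↥(cent (P : Subgroup G) q) → Sylow 3 G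
  | none => P
  | some x => (x : G) • R

include hPR hqP hqR hreg in
theorem fixMap_injective : Function.Injective (fixMap P R q) := by
  have hRP : R ≠ P := fun h => hPR h.symm
  intro a b hab
  cases a with
  | none =>
    cases b with
    | none => rfl
    | some y =>
      exfalso
      exact smul_ne_of_mem P R hRP (y.2.1) hab.symm
  | some x =>
    cases b with
    | none =>
      exfalso
      exact smul_ne_of_mem P R hRP (x.2.1) hab
    | some y =>
      have hne : (y : G) • R ≠ P := smul_ne_of_mem P R hRP y.2.1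
      obtain ⟨z, -, hz⟩ := hreg ((y : G) • R) hne
      have h1 : (x : G) = z := hz _ ⟨x.2.1, hab⟩
      have h2 : (y : G) = z := hz _ ⟨y.2.1, rfl⟩
      congr 1
      exact Subtype.ext (h1.trans h2.symm)

include hPR hqP hqR hreg in
theorem range_fixMap : Set.range (fixMap P R q) = MulAction.fixedBy (Sylow 3 G) q := by
  have hRP : R ≠ P := fun h => hPR h.symm
  ext S
  constructor
  · rintro ⟨a, rfl⟩
    cases a with
    | none => exact hqP
    | some x =>
      change q • ((x : G) • R) = (x : G) • R
      rw [smul_smul, x.2.2.eq, ← smul_smul, hqR]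
  · intro hS
    have hS' : q • S = S := hS
    by_cases hSP : S = P
    · exact ⟨none, hSP.symm⟩
    · obtain ⟨x, ⟨hxP, hxS⟩, hux⟩ := hreg S hSP
      have hqinvR : q⁻¹ • R = R := by
        have : q⁻¹ • (q • R) = q⁻¹ • R := by rw [hqR]
        rw [inv_smul_smul] at this
        exact this.symm
      have h1 : (q * x * q⁻¹) • R = S := by
        rw [mul_smul, mul_smul, hqinvR, hxS, hS']
      have h2 : q * x * q⁻¹ = x := hux _ ⟨conj_mem_of_smul_eq P hqP hxP, h1⟩
      have hc : Commute q x := by
        have : q * x = x * q := by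
          calc q * x = q * x * q⁻¹ * q := by group
            _ = x * q := by rw [h2]
        exact this
      exact ⟨some ⟨x, hxP, hc⟩, hxS⟩

include hPR hqP hqR hreg in
theorem card_fixedBy : Nat.card (MulAction.fixedBy (Sylow 3 G) q) =
    Nat.card (cent (P : Subgroup G) q) + 1 := by
  rw [← range_fixMap P R hPR q hqP hqR hreg]
  rw [Nat.card_range_of_injective (fixMap_injective P R hPR q hqP hqR hreg)]
  exact Finite.card_option

end

/-- Piece B2 with the conclusion of B1 as hypotheses. -/
theorem B2_aux [IsSimpleGroup G] (h : Nat.card G = 720)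
    (h10 : Nat.card (Sylow 3 G) = 10)
    (hreg : ∀ P R R' : Sylow 3 G, R ≠ P → R' ≠ P →
      ∃! x : G, x ∈ (P : Subgroup G) ∧ x • R = R')
    (P R : Sylow 3 G) (hPR : P ≠ R) (q : G) (hq : orderOf q = 2) (hqP : q • P = P)
    (hqR : q • R = R) (x : G) (hxP : x ∈ (P : Subgroup G)) (hx : Commute q x) : x = 1 := by
  classical
  have hRP : R ≠ P := fun h => hPR h.symm
  have hG : ∃ x y : G, x * y ≠ y * x :=
    Cfsg.Agent.Lead.nonabelian_of_not_prime (by rw [h]; norm_num)
  have hcard' : Nat.card G = 3 ^ 2 * 80 := by rw [h]; norm_num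
  obtain ⟨-, -, -, -, h5⟩ := Cfsg.Agent.Helper3.SmallOrd.basic hG (by norm_num) hcard'
    (by norm_num)
  have hP9 : Nat.card (P : Subgroup G) = 9 := by
    rw [(h5 P).1]; norm_num
  have hfix := card_fixedBy P R hPR q hqP hqR (fun R' hR' => hreg P R R' hRP hR')
  have hdvd : Nat.card (cent (P : Subgroup G) q) ∣ 9 := by
    rw [← hP9]
    exact Subgroup.card_dvd_of_le (cent_le _ _)
  have hq2 : q ^ 2 = 1 := by rw [← hq]; exact pow_orderOf_eq_one q
  have hq1 : q ≠ 1 := by
    intro h1
    rw [h1, orderOf_one] at hq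
    omega
  have heven := Cfsg.Agent.Lead.involution_even_of_simple (G := G) (by rw [h]; norm_num)
    (X := Sylow 3 G) q hq2
  rw [h10, hfix] at heven
  have hdiv : Nat.card (cent (P : Subgroup G) q) ∈ Nat.divisors 9 :=
    Nat.mem_divisors.2 ⟨hdvd, by norm_num⟩
  have hdivs : Nat.divisors 9 = {1, 3, 9} := by decide
  rw [hdivs] at hdiv
  simp only [Finset.mem_insert, Finset.mem_singleton] at hdiv
  rcases hdiv with h1 | h3 | h9
  · -- trivial centralizer
    have hbot : cent (P : Subgroup G) q = ⊥ := Subgroup.card_eq_one.1 h1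
    have hxc : x ∈ cent (P : Subgroup G) q := ⟨hxP, hx⟩
    rw [hbot] at hxc
    exact Subgroup.mem_bot.1 hxc
  · exfalso
    rw [h3] at heven
    revert heven
    decide
  · exfalso
    -- `q` fixes every Sylow 3-subgroup
    have hcentP : cent (P : Subgroup G) q = (P : Subgroup G) := by
      apply Subgroup.eq_of_le_of_card_ge (cent_le _ _)
      rw [h9, hP9]
    have hall : ∀ S : Sylow 3 G, q • S = S := by
      intro S
      by_cases hSP : S = P
      · rw [hSP]; exact hqP
      · obtain ⟨y, ⟨hyP, hyS⟩, -⟩ := hreg P R S hRP hSP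
        have hyc : y ∈ cent (P : Subgroup G) q := by rw [hcentP]; exact hyP
        rw [← hyS, smul_smul, hyc.2.eq, ← smul_smul, hqR]
    have hker : q ∈ (MulAction.toPermHom G (Sylow 3 G)).ker := by
      rw [MonoidHom.mem_ker]
      ext S
      simp only [MulAction.toPermHom_apply, MulAction.toPerm_apply, Equiv.Perm.coe_one, id_eq]
      rw [hall S]
    have htop : (MulAction.toPermHom G (Sylow 3 G)).ker = ⊤ := by
      rcases ((MulAction.toPermHom G (Sylow 3 G)).normal_ker).eq_bot_or_eq_top with hb | ht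
      · rw [hb] at hker
        exact (hq1 (Subgroup.mem_bot.1 hker)).elim
      · exact ht
    apply Cfsg.Agent.Lead.sylow_normalizer_ne_top hG (p := 3) (by rw [h]; norm_num) P
    rw [eq_top_iff]
    intro g _
    apply Sylow.smul_eq_iff_mem_normalizer.1
    have hg : g ∈ (MulAction.toPermHom G (Sylow 3 G)).ker := by rw [htop]; trivial
    rw [MonoidHom.mem_ker] at hg
    have := congrArg (fun σ : Equiv.Perm (Sylow 3 G) => σ P) hg
    simpa using this

end Cfsg.Agent.Helper25.Ord720
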