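import Mathlib
import Cfsg.Agent.Lib.Helper25.Ord720B2
import Cfsg.Prelude.Def_LieExceptional

set_option autoImplicit false
set_option linter.unusedSectionVars false
open Cfsg
open scoped Pointwise

/-!
Piece 720-B3 of the S0496 farm-out, abstract version: the conclusion of piece B1 is taken as a pair
of explicit hypotheses.
-/

namespace Cfsg.Agent.Helper25.Ord720

variable {G : Type*} [Group G] [Finite G]

/-- If `q` fixes `P`, `R` and `x • R` (with `x ∈ P`, and `P` regular on the other Sylows), then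
`q` commutes with `x`. -/
theorem commute_of_fix (P R : Sylow 3 G) (q : G) (hqP : q • P = P) (hqR : q • R = R)
    {x : G} (hxP : x ∈ (P : Subgroup G)) (hfix : q • (x • R) = x • R)
    (huniq : ∀ y z : G, y ∈ (P : Subgroup G) → z ∈ (P : Subgroup G) → y • R = z • R → y = z) :
    Commute q x := by
  have hqinvR : q⁻¹ • R = R := by
    have : q⁻¹ • (q • R) = q⁻¹ • R := by rw [hqR]
    rw [inv_smul_smul] at this
    exact this.symm
  have h1 : (q * x * q⁻¹) • R = x • R := by
    rw [mul_smul, mul_smul, hqinvR, hfix]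
  have h2 : q * x * q⁻¹ = x := huniq _ _ (conj_mem_of_smul_eq P hqP hxP) hxP h1
  have : q * x = x * q := by
    calc q * x = q * x * q⁻¹ * q := by group
      _ = x * q := by rw [h2]
  exact this

section
variable [IsSimpleGroup G] (h : Nat.card G = 720)

include h in
theorem nonab720 : ∃ x y : G, x * y ≠ y * x :=
  Cfsg.Agent.Lead.nonabelian_of_not_prime (by rw [h]; norm_num)

include h in
theorem card_sylow3_720 (P : Sylow 3 G) : Nat.card (P : Subgroup G) = 9 := by
  have hcard' : Nat.card G = 3 ^ 2 * 80 := by rw [h]; norm_num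
  obtain ⟨-, -, -, -, h5⟩ := Cfsg.Agent.Helper3.SmallOrd.basic (nonab720 h) (by norm_num) hcard'
    (by norm_num)
  rw [(h5 P).1]; norm_num

include h in
theorem card_mul_normalizer_720 (P : Sylow 3 G) :
    Nat.card (Sylow 3 G) * Nat.card (Subgroup.normalizer ((P : Subgroup G) : Set G)) = 720 := by
  rw [Cfsg.Agent.Lead.card_sylow_mul_card_normalizer P, h]

include h in
/-- The action on the Sylow 3-subgroups is faithful. -/
theorem ker_eq_bot_720 : (MulAction.toPermHom G (Sylow 3 G)).ker = ⊥ := by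
  rcases ((MulAction.toPermHom G (Sylow 3 G)).normal_ker).eq_bot_or_eq_top with hb | htop
  · exact hb
  · exfalso
    obtain ⟨P⟩ : Nonempty (Sylow 3 G) := inferInstance
    apply Cfsg.Agent.Lead.sylow_normalizer_ne_top (nonab720 h) (p := 3) (by rw [h]; norm_num) P
    rw [eq_top_iff]
    intro g _
    apply Sylow.smul_eq_iff_mem_normalizer.1
    have hg : g ∈ (MulAction.toPermHom G (Sylow 3 G)).ker := by rw [htop]; trivial
    rw [MonoidHom.mem_ker] at hg
    have := congrArg (fun σ : Equiv.Perm (Sylow 3 G) => σ P) hg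
    simpa using this

variable (h10 : Nat.card (Sylow 3 G) = 10)
  (hreg : ∀ P R R' : Sylow 3 G, R ≠ P → R' ≠ P →
      ∃! x : G, x ∈ (P : Subgroup G) ∧ x • R = R')

include hreg in
theorem uniq_of_reg (P R : Sylow 3 G) (hRP : R ≠ P) (y z : G) (hy : y ∈ (P : Subgroup G))
    (hz : z ∈ (P : Subgroup G)) (hyz : y • R = z • R) : y = z := by
  obtain ⟨w, -, hw⟩ := hreg P R (z • R) hRP (smul_ne_of_mem P R hRP hz)
  rw [hw y ⟨hy, hyz⟩, hw z ⟨hz, rfl⟩]

include h h10 hreg in
/-- The two point stabilizers have order `8`. -/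
theorem card_two_point_720 (P R : Sylow 3 G) (hPR : P ≠ R) :
    Nat.card ↥(MulAction.stabilizer G P ⊓ MulAction.stabilizer G R) = 8 := by
  classical
  have hRP : R ≠ P := fun h => hPR h.symm
  have hN : Nat.card ↥(MulAction.stabilizer G P) = 72 := by
    have h720 : 10 * Nat.card ↥(MulAction.stabilizer G P) = 720 := by
      rw [Sylow.stabilizer_eq_normalizer, ← h10]
      exact card_mul_normalizer_720 h P
    omega
  have hP9 := card_sylow3_720 h P
  -- the bijection `P × Q → N`
  let Q : Subgroup G := MulAction.stabilizer G P ⊓ MulAction.stabilizer G R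
  have hPN : ∀ x : G, x ∈ (P : Subgroup G) → x ∈ MulAction.stabilizer G P := fun x hx =>
    MulAction.mem_stabilizer_iff.2 (smul_self_of_mem P hx)
  let f : ↥(P : Subgroup G) × ↥Q → ↥(MulAction.stabilizer G P) := fun xy =>
    ⟨(xy.1 : G) * (xy.2 : G), mul_mem (hPN _ xy.1.2) (Subgroup.mem_inf.1 xy.2.2).1⟩
  have hf : Function.Bijective f := by
    constructor
    · rintro ⟨x, y⟩ ⟨x', y'⟩ hxy
      have hxy' : (x : G) * (y : G) = (x' : G) * (y' : G) := congrArg Subtype.val hxy
      have hyR : (y : G) • R = R := MulAction.mem_stabilizer_iff.1 (Subgroup.mem_inf.1 y.2).2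
      have hy'R : (y' : G) • R = R := MulAction.mem_stabilizer_iff.1 (Subgroup.mem_inf.1 y'.2).2
      have h1 : (x : G) • R = (x' : G) • R := by
        calc (x : G) • R = (x : G) • ((y : G) • R) := by rw [hyR]
          _ = ((x : G) * (y : G)) • R := by rw [mul_smul]
          _ = ((x' : G) * (y' : G)) • R := by rw [hxy']
          _ = (x' : G) • R := by rw [mul_smul, hy'R]
      have h2 : (x : G) = (x' : G) := uniq_of_reg hreg P R hRP _ _ x.2 x'.2 h1
      have h3 : (y : G) = (y' : G) := by
        rw [h2] at hxy'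
        exact mul_left_cancel hxy'
      exact Prod.ext (Subtype.ext h2) (Subtype.ext h3)
    · rintro ⟨n, hn⟩
      have hnP : n • P = P := MulAction.mem_stabilizer_iff.1 hn
      have hne : n • R ≠ P := by
        intro hc
        apply hRP
        have : n • R = n • P := by rw [hc, hnP]
        exact smul_left_cancel n this
      obtain ⟨x, ⟨hxP, hxR⟩, -⟩ := hreg P R (n • R) hRP hne
      have hyQ : x⁻¹ * n ∈ Q := by
        refine Subgroup.mem_inf.2 ⟨mul_mem (inv_mem (hPN x hxP)) hn, ?_⟩
        rw [MulAction.mem_stabilizer_iff, mul_smul, ← hxR, inv_smul_smul]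
      refine ⟨(⟨x, hxP⟩, ⟨x⁻¹ * n, hyQ⟩), ?_⟩
      apply Subtype.ext
      change x * (x⁻¹ * n) = n
      group
  have hcard := Nat.card_congr (Equiv.ofBijective f hf)
  rw [Nat.card_prod, hP9, hN] at hcard
  change Nat.card ↥Q = 8
  omega

include h h10 hreg in
/-- Piece B3 with the conclusion of B1 as hypotheses. -/
theorem B3_aux :
    Cfsg.IsZassenhausGroup G (Sylow 3 G) ∧
    ∀ P R : Sylow 3 G, P ≠ R →
      Nat.card ↥(MulAction.stabilizer G P ⊓ MulAction.stabilizer G R) = 8 := by
  classical
  refine ⟨?_, card_two_point_720 h h10 hreg⟩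
  have hker := ker_eq_bot_720 (G := G) h
  have hnt : ∃ P R : Sylow 3 G, P ≠ R := by
    by_contra hcon
    push Not at hcon
    haveI : Subsingleton (Sylow 3 G) := ⟨fun a b => hcon a b⟩
    have : Nat.card (Sylow 3 G) ≤ 1 := Finite.card_le_one_iff_subsingleton.2 inferInstance
    omega
  refine ⟨?_, ?_, ?_, ?_, ?_⟩
  · -- faithful
    refine ⟨fun {g₁ g₂} hg => ?_⟩
    have hinj : Function.Injective (MulAction.toPermHom G (Sylow 3 G)) :=
      (MonoidHom.ker_eq_bot_iff _).1 hker
    apply hinj
    ext S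
    simp only [MulAction.toPermHom_apply, MulAction.toPerm_apply]
    rw [hg S]
  · -- 2-transitive
    rw [MulAction.is_two_pretransitive_iff]
    intro a b c d hab hcd
    obtain ⟨g₁, hg₁⟩ := MulAction.exists_smul_eq G a c
    have hne : g₁ • b ≠ c := by
      intro hc
      apply hab
      have : g₁ • b = g₁ • a := by rw [hc, hg₁]
      exact (smul_left_cancel g₁ this).symm
    obtain ⟨x, ⟨hxc, hxd⟩, -⟩ := hreg c (g₁ • b) d hne (fun hdc => hcd hdc.symm)
    refine ⟨x * g₁, ?_, ?_⟩
    · rw [mul_smul, hg₁, smul_self_of_mem c hxc]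
    · rw [mul_smul, hxd]
  · -- three fixed points
    intro g a b c hab hbc hac hga hgb hgc
    by_contra hg1
    have hgQ : g ∈ MulAction.stabilizer G a ⊓ MulAction.stabilizer G b :=
      Subgroup.mem_inf.2 ⟨hga, hgb⟩
    have hdvd : orderOf g ∣ 8 := by
      have := Subgroup.orderOf_dvd_natCard _ hgQ
      rwa [card_two_point_720 h h10 hreg a b hab] at this
    have hord1 : orderOf g ≠ 1 := fun h1 => hg1 (orderOf_eq_one_iff.1 h1)
    have hmem : orderOf g ∈ Nat.divisors 8 := Nat.mem_divisors.2 ⟨hdvd, by norm_num⟩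
    have hdivs : Nat.divisors 8 = {1, 2, 4, 8} := by decide
    rw [hdivs] at hmem
    simp only [Finset.mem_insert, Finset.mem_singleton] at hmem
    -- an involution `q` among the powers of `g`
    obtain ⟨k, hk⟩ : ∃ k : ℕ, orderOf (g ^ k) = 2 := by
      rcases hmem with h1 | h2 | h4 | h8
      · exact (hord1 h1).elim
      · exact ⟨1, by rw [pow_one, h2]⟩
      · refine ⟨2, ?_⟩
        rw [orderOf_pow_of_dvd (by norm_num) (by rw [h4]; norm_num), h4]
      · refine ⟨4, ?_⟩
        rw [orderOf_pow_of_dvd (by norm_num) (by rw [h8]; norm_num), h8]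
    have hfixpow' : ∀ (m : ℕ) (S : Sylow 3 G), g • S = S → (g ^ m) • S = S := by
      intro m S hS
      induction m with
      | zero => rw [pow_zero, one_smul]
      | succ n ih => rw [pow_succ, mul_smul, hS, ih]
    have hfixpow : ∀ S : Sylow 3 G, g • S = S → (g ^ k) • S = S := hfixpow' k
    have hba : b ≠ a := fun h => hab h.symm
    have hca : c ≠ a := fun h => hac h.symm
    obtain ⟨x, ⟨hxa, hxc⟩, -⟩ := hreg a b c hba hca
    have hx1 : x ≠ 1 := by
      intro hx
      rw [hx, one_smul] at hxc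
      exact hbc hxc
    have hcomm : Commute (g ^ k) x := by
      apply commute_of_fix a b (g ^ k) (hfixpow a hga) (hfixpow b hgb) hxa
      · rw [hxc]; exact hfixpow c hgc
      · exact uniq_of_reg hreg a b hba
    exact hx1 (B2_aux h h10 hreg a b hab (g ^ k) hk (hfixpow a hga) (hfixpow b hgb) x hxa hcomm)
  · -- a nontrivial two point stabilizer
    obtain ⟨P, R, hPR⟩ := hnt
    have h8 := card_two_point_720 h h10 hreg P R hPR
    have hne : (MulAction.stabilizer G P ⊓ MulAction.stabilizer G R) ≠ ⊥ := by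
      intro hb
      rw [hb, Subgroup.card_bot] at h8
      omega
    obtain ⟨⟨g, hg⟩, hg1⟩ := (Subgroup.ne_bot_iff_exists_ne_one).1 hne
    have hg1' : g ≠ 1 := fun hc => hg1 (Subtype.ext hc)
    exact ⟨g, hg1', P, R, hPR, MulAction.mem_stabilizer_iff.1 (Subgroup.mem_inf.1 hg).1,
      MulAction.mem_stabilizer_iff.1 (Subgroup.mem_inf.1 hg).2⟩
  · -- no regular normal subgroup
    intro N hN hNt
    obtain ⟨P, R, hPR⟩ := hnt
    rcases hN.eq_bot_or_eq_top with hb | htop
    · exfalso
      obtain ⟨⟨n, hn⟩, hnPR⟩ := MulAction.exists_smul_eq (↥N) P R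
      rw [hb, Subgroup.mem_bot] at hn
      subst hn
      apply hPR
      rw [← hnPR]
      change P = (1 : G) • P
      rw [one_smul]
    · refine ⟨P, ?_⟩
      have hP9 := card_sylow3_720 h P
      have hPne : (P : Subgroup G) ≠ ⊥ := by
        intro hb
        rw [hb, Subgroup.card_bot] at hP9
        omega
      obtain ⟨⟨x, hx⟩, hx1⟩ := (Subgroup.ne_bot_iff_exists_ne_one).1 hPne
      have hx1' : x ≠ 1 := fun hc => hx1 (Subtype.ext hc)
      have hxN : x ∈ N := by rw [htop]; trivial
      intro hbot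
      have hmem : (⟨x, hxN⟩ : ↥N) ∈ MulAction.stabilizer (↥N) P := by
        rw [MulAction.mem_stabilizer_iff]
        change x • P = P
        exact smul_self_of_mem P hx
      rw [hbot, Subgroup.mem_bot] at hmem
      exact hx1' (congrArg Subtype.val hmem)

end

end Cfsg.Agent.Helper25.Ord720
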