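import Mathlib
import Cfsg.Agent.Lib.Helper10.MannDefs
import Cfsg.Agent.Lib.Helper13.MANNITER
import Cfsg.Agent.Lib.Helper24.MANNCL2
import Cfsg.Agent.Lib.Helper16.MANNA012

/-!
# S4009 (Mann's bound), piece MANN-A4 (helper25): core of `cyc_of_minimal` (the four MANN-CHAIN
statements used are hypotheses)
-/

set_option autoImplicit false
set_option linter.unusedSectionVars false
set_option linter.unusedVariables false

namespace Cfsg.Agent.Helper10.Mann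

open scoped commutatorElement

variable {G : Type*} [Group G]

theorem manna4_arith2 {m a b : ℕ} (hm : 0 < m) (h : a * b = m) (hd : m ∣ b) : a = 1 ∧ b = m := by
  obtain ⟨k, rfl⟩ := hd
  have h' : m * (a * k) = m * 1 := by
    rw [mul_one]
    calc m * (a * k) = a * (m * k) := by ring
      _ = m := h
  have h1 : a * k = 1 := Nat.eq_of_mul_eq_mul_left hm h'
  have ha : a = 1 := Nat.dvd_one.mp ⟨k, h1.symm⟩
  have hk : k = 1 := Nat.dvd_one.mp ⟨a, by rw [mul_comm]; exact h1.symm⟩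
  exact ⟨ha, by rw [hk, mul_one]⟩

theorem manna4_arith3 {p e a b c : ℕ} (hp : 0 < p) (h : a * b * c = p ^ (e + 2)) (ha : p ^ e ∣ a)
    (hb : p ∣ b) (hc : p ∣ c) : b = p := by
  obtain ⟨a', rfl⟩ := ha
  obtain ⟨b', rfl⟩ := hb
  obtain ⟨c', rfl⟩ := hc
  have hpos : 0 < p ^ (e + 2) := pow_pos hp _
  have h' : p ^ (e + 2) * (a' * b' * c') = p ^ (e + 2) * 1 := by
    rw [mul_one]
    calc p ^ (e + 2) * (a' * b' * c') = p ^ e * a' * (p * b') * (p * c') := by ring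
      _ = p ^ (e + 2) := h
  have h1 : a' * b' * c' = 1 := Nat.eq_of_mul_eq_mul_left hpos h'
  have hb' : b' = 1 := Nat.dvd_one.mp ⟨a' * c', by rw [← h1]; ring⟩
  rw [hb', mul_one]

theorem manna4_closure_pair (x y : G) :
    Subgroup.closure {x, y} = Subgroup.zpowers x ⊔ Subgroup.zpowers y := by
  rw [Subgroup.zpowers_eq_closure, Subgroup.zpowers_eq_closure, ← Subgroup.closure_union]
  rfl

section level

variable [Finite G] {p : ℕ} [Fact p.Prime]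

theorem cyc_of_minimal_core (hG : IsPGroup p G)
    (chain_dvd : ∀ (H N : Subgroup G) [H.Normal] [N.Normal] (i j : ℕ), i ≤ j + 1 →
      ¬ mIter H j ≤ N → p ^ (j + 1 - i) ∣ (mIter H (j + 1) ⊔ N).relIndex (mIter H i ⊔ N))
    (top_dvd_of_not_cycTop : ∀ (H : Subgroup G) [H.Normal], ¬ CycTop H →
      p ^ 2 ∣ (⁅H, (⊤ : Subgroup G)⁆ ⊔ ⁅H, H⁆).relIndex H)
    (exists_gen_of_relIndex_prime : ∀ {A B : Subgroup G}, A ≤ B → A.relIndex B = p →
      ∃ y ∈ B, B = Subgroup.zpowers y ⊔ A)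
    (exists_two_gen_of_relIndex_sq : ∀ {A B : Subgroup G}, A ≤ B → A.relIndex B = p ^ 2 →
      ∃ x ∈ B, ∃ y ∈ B, B = Subgroup.closure {x, y} ⊔ A)
    (H : Subgroup G) [H.Normal] (e : ℕ)
    (hH : H ≤ (⊤ : Subgroup G).lowerCentralSeries e) (hne : ⁅H, H⁆ ≠ ⊥)
    (hcard : (⁅H, H⁆).relIndex H = p ^ (e + 2)) :
    ∃ w ∈ ⁅H, H⁆, ⁅H, H⁆ = Subgroup.zpowers w ⊔ ⁅⁅H, H⁆, (⊤ : Subgroup G)⁆ := by
  have : Group.IsNilpotent G := hG.isNilpotent
  have hp : 0 < p := (Fact.out : p.Prime).pos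
  have hNH : ⁅H, H⁆ ≤ H := Subgroup.commutator_le_left H H
  have hHc0 : mIter H 0 ⊔ ⁅H, H⁆ = H := by
    rw [mIter_zero]; exact sup_eq_left.mpr hNH
  have hanti : ∀ i j : ℕ, i ≤ j → mIter H j ⊔ ⁅H, H⁆ ≤ mIter H i ⊔ ⁅H, H⁆ :=
    fun i j hij => sup_le_sup_right (mIter_antitone H hij) _
  have hcH : ∀ j : ℕ, mIter H j ⊔ ⁅H, H⁆ ≤ H := by
    intro j
    have := hanti 0 j (Nat.zero_le j)
    rwa [hHc0] at this
  have hNT : ⁅⁅H, H⁆, (⊤ : Subgroup G)⁆ ≤ ⁅H, H⁆ := Subgroup.commutator_le_left _ _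
  -- the final step, common to both cases
  have final : ∀ (x y : G) (k : ℕ), x ∈ H → y ∈ H →
      H = Subgroup.closure {x, y} ⊔ (mIter H (k + 1) ⊔ ⁅H, H⁆) →
      ⁅H, H⁆ = mIter H (e + k + 1) →
      ∃ w ∈ ⁅H, H⁆, ⁅H, H⁆ = Subgroup.zpowers w ⊔ ⁅⁅H, H⁆, (⊤ : Subgroup G)⁆ := by
    intro x y k hx hy hgen hNeq
    have hR : ⁅⁅H, H⁆, (⊤ : Subgroup G)⁆ = mIter H (e + k + 2) := by
      rw [hNeq]; rfl
    have h1 : ⁅H, mIter H (k + 1)⁆ ≤ ⁅⁅H, H⁆, (⊤ : Subgroup G)⁆ := by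
      rw [hR, Subgroup.commutator_comm]
      refine le_trans (Subgroup.commutator_mono le_rfl hH) ?_
      refine le_trans (comm_lcs_le (mIter H (k + 1)) e) ?_
      rw [mIter_add]
      apply le_of_eq
      congr 1
      omega
    have h2 : ⁅H, ⁅H, H⁆⁆ ≤ ⁅⁅H, H⁆, (⊤ : Subgroup G)⁆ := by
      rw [Subgroup.commutator_comm]
      exact Subgroup.commutator_mono le_rfl le_top
    have h3 : ⁅H, mIter H (k + 1) ⊔ ⁅H, H⁆⁆ ≤ ⁅⁅H, H⁆, (⊤ : Subgroup G)⁆ :=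
      le_trans (comm_sup_le H _ _) (sup_le h1 h2)
    have h4 := comm_le_zpowers_sup H (mIter H (k + 1) ⊔ ⁅H, H⁆) ⁅⁅H, H⁆, (⊤ : Subgroup G)⁆ x y hx hy
      hgen le_sup_right h3
    have hw : ⁅x, y⁆ ∈ ⁅H, H⁆ := Subgroup.commutator_mem_commutator hx hy
    refine ⟨⁅x, y⁆, hw, le_antisymm h4 (sup_le ?_ hNT)⟩
    rw [Subgroup.zpowers_le]
    exact hw
  by_cases hc : CycTop H
  · obtain ⟨f1, -, f3⟩ := cycTop_facts H e hH hc hne
    obtain ⟨x, hxH, hxgen⟩ := hc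
    have hK1 : ¬ mIter H 1 ≤ ⁅H, H⁆ :=
      fun h => f3 (le_trans (mIter_antitone H (by omega : 1 ≤ e + 1)) h)
    have hK0 : ¬ mIter H 0 ≤ ⁅H, H⁆ :=
      fun h => f3 (le_trans (mIter_antitone H (by omega : 0 ≤ e + 1)) h)
    have d1 : p ^ (e + 2) ∣ (mIter H (e + 2) ⊔ ⁅H, H⁆).relIndex (mIter H 0 ⊔ ⁅H, H⁆) :=
      chain_dvd H ⁅H, H⁆ 0 (e + 1) (by omega) f3
    rw [hHc0] at d1
    have m1 := Subgroup.relIndex_mul_relIndex ⁅H, H⁆ (mIter H (e + 2) ⊔ ⁅H, H⁆) H le_sup_right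
      (hcH _)
    rw [hcard] at m1
    obtain ⟨a1, a2⟩ := manna4_arith2 (pow_pos hp _) m1 d1
    rw [Subgroup.relIndex_eq_one] at a1
    have hNeq : ⁅H, H⁆ = mIter H (e + 2) := le_antisymm f1 (le_trans le_sup_left a1)
    -- the three steps
    have d2 : p ^ e ∣ (mIter H (e + 2) ⊔ ⁅H, H⁆).relIndex (mIter H 2 ⊔ ⁅H, H⁆) := by
      have := chain_dvd H ⁅H, H⁆ 2 (e + 1) (by omega) f3
      have he : e + 1 + 1 - 2 = e := by omega
      rw [he] at this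
      exact this
    have d3 : p ∣ (mIter H 2 ⊔ ⁅H, H⁆).relIndex (mIter H 1 ⊔ ⁅H, H⁆) := by
      have := chain_dvd H ⁅H, H⁆ 1 1 (by omega) hK1
      have he : 1 + 1 - 1 = 1 := by omega
      rw [he, pow_one] at this
      exact this
    have d4 : p ∣ (mIter H 1 ⊔ ⁅H, H⁆).relIndex (mIter H 0 ⊔ ⁅H, H⁆) := by
      have := chain_dvd H ⁅H, H⁆ 0 0 (by omega) hK0
      have he : 0 + 1 - 0 = 1 := by omega
      rw [he, pow_one] at this
      exact this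
    rw [hHc0] at d4
    have m2 := Subgroup.relIndex_mul_relIndex (mIter H (e + 2) ⊔ ⁅H, H⁆) (mIter H 2 ⊔ ⁅H, H⁆)
      (mIter H 1 ⊔ ⁅H, H⁆) (hanti 2 (e + 2) (by omega)) (hanti 1 2 (by omega))
    have m3 := Subgroup.relIndex_mul_relIndex (mIter H (e + 2) ⊔ ⁅H, H⁆) (mIter H 1 ⊔ ⁅H, H⁆)
      H (hanti 1 (e + 2) (by omega)) (hcH _)
    rw [← m2, a2] at m3
    have hidx : (mIter H 2 ⊔ ⁅H, H⁆).relIndex (mIter H 1 ⊔ ⁅H, H⁆) = p :=
      manna4_arith3 hp m3 d2 d3 d4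
    obtain ⟨y, hy, hygen⟩ := exists_gen_of_relIndex_prime (hanti 1 2 (by omega)) hidx
    have hyH : y ∈ H := hcH 1 hy
    have hgen : H = Subgroup.closure {x, y} ⊔ (mIter H (1 + 1) ⊔ ⁅H, H⁆) := by
      have e1 : H = Subgroup.zpowers x ⊔ (mIter H 1 ⊔ ⁅H, H⁆) := by
        rw [← sup_assoc]; exact hxgen
      rw [manna4_closure_pair, sup_assoc, ← hygen]
      exact e1
    exact final x y 1 hxH hyH hgen hNeq
  · have f1 := comm_self_le_mIter H e hH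
    have f3 := not_mIter_le H e hH hne
    have d1 : p ^ 2 ∣ (mIter H 1 ⊔ ⁅H, H⁆).relIndex H := top_dvd_of_not_cycTop H hc
    have d2 : p ^ e ∣ (mIter H (e + 1) ⊔ ⁅H, H⁆).relIndex (mIter H 1 ⊔ ⁅H, H⁆) := by
      have := chain_dvd H ⁅H, H⁆ 1 e (by omega) f3
      have he : e + 1 - 1 = e := by omega
      rw [he] at this
      exact this
    have m1 := Subgroup.relIndex_mul_relIndex ⁅H, H⁆ (mIter H (e + 1) ⊔ ⁅H, H⁆) H le_sup_right
      (hcH _)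
    have m2 := Subgroup.relIndex_mul_relIndex (mIter H (e + 1) ⊔ ⁅H, H⁆) (mIter H 1 ⊔ ⁅H, H⁆)
      H (hanti 1 (e + 1) (by omega)) (hcH _)
    rw [hcard, ← m2] at m1
    have hdvd : p ^ (e + 2) ∣ (mIter H (e + 1) ⊔ ⁅H, H⁆).relIndex (mIter H 1 ⊔ ⁅H, H⁆) *
        (mIter H 1 ⊔ ⁅H, H⁆).relIndex H := by
      rw [pow_add]
      exact Nat.mul_dvd_mul d2 d1
    obtain ⟨a1, a2⟩ := manna4_arith2 (pow_pos hp _) m1 hdvd
    rw [Subgroup.relIndex_eq_one] at a1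
    have hNeq : ⁅H, H⁆ = mIter H (e + 0 + 1) := le_antisymm f1 (le_trans le_sup_left a1)
    -- the top index is exactly p^2
    have hidx : (mIter H 1 ⊔ ⁅H, H⁆).relIndex H = p ^ 2 := by
      obtain ⟨u, hu⟩ := d2
      obtain ⟨v, hv⟩ := d1
      rw [hu, hv] at a2
      have h' : p ^ (e + 2) * (u * v) = p ^ (e + 2) * 1 := by
        rw [mul_one]
        calc p ^ (e + 2) * (u * v) = p ^ e * u * (p ^ 2 * v) := by ring
          _ = p ^ (e + 2) := a2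
      have h1 : u * v = 1 := Nat.eq_of_mul_eq_mul_left (pow_pos hp _) h'
      have hv1 : v = 1 := Nat.dvd_one.mp ⟨u, by rw [mul_comm]; exact h1.symm⟩
      rw [hv, hv1, mul_one]
    obtain ⟨x, hx, y, hy, hgen⟩ := exists_two_gen_of_relIndex_sq (hcH 1) hidx
    exact final x y 0 hx hy hgen hNeq

end level

end Cfsg.Agent.Helper10.Mann
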