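import Mathlib
import Cfsg.Agent.Lib.Helper10.PUDefs

/-! # S2263 piece PU-NUMLCM: `lcm_{n ∈ N} E(n) ≤ E(Σ N + 1 - |N|)`. -/

set_option autoImplicit false

namespace Cfsg.Agent.Helper10.PU

theorem pu_numlcm_Efun_pos (q : ℕ) (hq : 2 ≤ q) (a : ℕ) (ha : 1 ≤ a) : 0 < Efun q a := by
  unfold Efun
  split_ifs
  · have : q ^ 1 ≤ q ^ a := Nat.pow_le_pow_right (by omega) ha
    simp only [pow_one] at this
    omega
  · positivity

theorem pu_numlcm_card_le_sum (N : Finset ℕ) (hpos : ∀ n ∈ N, 1 ≤ n) : N.card ≤ ∑ n ∈ N, n := by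
  calc N.card = ∑ _n ∈ N, 1 := by simp
    _ ≤ ∑ n ∈ N, n := Finset.sum_le_sum hpos

theorem lcm_Efun_le (q : ℕ) (hq : 2 ≤ q)
    (hdvd : ∀ n, 1 ≤ n → (q + 1) ∣ Efun q n)
    (hw : ∀ a b, 1 ≤ a → 1 ≤ b → wfun q a * wfun q b ≤ wfun q (a + b - 1))
    (N : Finset ℕ) (hN : N.Nonempty) (hpos : ∀ n ∈ N, 1 ≤ n) :
    N.lcm (Efun q) ≤ Efun q ((∑ n ∈ N, n) + 1 - N.card) := by
  have hEw : ∀ n, 1 ≤ n → Efun q n = (q + 1) * wfun q n := by
    intro n hn
    unfold wfun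
    rw [Nat.mul_div_cancel' (hdvd n hn)]
  revert hpos
  refine Finset.Nonempty.cons_induction (motive := fun N _ => (∀ n ∈ N, 1 ≤ n) →
    N.lcm (Efun q) ≤ Efun q ((∑ n ∈ N, n) + 1 - N.card)) ?_ ?_ hN
  · intro a _
    simp
  · intro a s has hs ih hpos
    have hpos' : ∀ n ∈ s, 1 ≤ n := fun n hn => hpos n (Finset.mem_cons_of_mem hn)
    have ha : 1 ≤ a := hpos a (Finset.mem_cons_self a s)
    have ih' := ih hpos'
    have hcs := pu_numlcm_card_le_sum s hpos'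
    set S := ∑ n ∈ s, n with hS
    set L := s.lcm (Efun q) with hL
    have hM' : 1 ≤ S + 1 - s.card := by omega
    rw [Finset.sum_cons, Finset.card_cons, Finset.cons_eq_insert, Finset.lcm_insert]
    have hidx : a + S + 1 - (s.card + 1) = a + (S + 1 - s.card) - 1 := by omega
    rw [hidx]
    -- (q+1) ∣ L
    obtain ⟨n₀, hn₀⟩ := hs
    have hqL : (q + 1) ∣ L := (hdvd n₀ (hpos' n₀ hn₀)).trans (Finset.dvd_lcm hn₀)
    have hqa : (q + 1) ∣ Efun q a := hdvd a ha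
    have hg : (q + 1) ∣ Nat.gcd (Efun q a) L := Nat.dvd_gcd hqa hqL
    have hgpos : 0 < Nat.gcd (Efun q a) L := Nat.gcd_pos_of_pos_left _ (pu_numlcm_Efun_pos q hq a ha)
    have hgle : q + 1 ≤ Nat.gcd (Efun q a) L := Nat.le_of_dvd hgpos hg
    have hgl : Nat.gcd (Efun q a) L * Nat.lcm (Efun q a) L = Efun q a * L := Nat.gcd_mul_lcm _ _
    have h1 : (q + 1) * Nat.lcm (Efun q a) L ≤ (q + 1) * (wfun q a * L) := by
      calc (q + 1) * Nat.lcm (Efun q a) L ≤ Nat.gcd (Efun q a) L * Nat.lcm (Efun q a) L :=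
            Nat.mul_le_mul_right _ hgle
        _ = Efun q a * L := hgl
        _ = (q + 1) * (wfun q a * L) := by rw [hEw a ha, mul_assoc]
    have h2 : Nat.lcm (Efun q a) L ≤ wfun q a * L := Nat.le_of_mul_le_mul_left h1 (by omega)
    have hlcm : GCDMonoid.lcm (Efun q a) L = Nat.lcm (Efun q a) L := rfl
    rw [hlcm]
    calc Nat.lcm (Efun q a) L ≤ wfun q a * L := h2
      _ ≤ wfun q a * Efun q (S + 1 - s.card) := Nat.mul_le_mul_left _ ih'
      _ = (q + 1) * (wfun q a * wfun q (S + 1 - s.card)) := by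
          rw [hEw _ hM']; ring
      _ ≤ (q + 1) * wfun q (a + (S + 1 - s.card) - 1) :=
          Nat.mul_le_mul_left _ (hw a _ ha hM')
      _ = Efun q (a + (S + 1 - s.card) - 1) := by
          rw [← hEw _ (by omega)]

end Cfsg.Agent.Helper10.PU
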