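import Mathlib
import Cfsg.Agent.Lib.Helper11.OGDefs
import Cfsg.Agent.Lib.Helper12.SLGen

/-!
# S2413-15 (PΩ 2-generation), PIECE LEVI (helper25 for helper11): the Levi subgroup `SL_r` of a
Witt frame inside the isometry group.
-/

set_option autoImplicit false
set_option linter.unusedSectionVars false
set_option linter.unusedVariables false
set_option linter.unusedSimpArgs false

namespace Cfsg.Agent.Helper11.OG

open QuadraticMap Matrix Cfsg.Agent.Helper2.Orth Cfsg.Agent.Helper28.WittQuad

variable {F : Type*} [Field F] {ι : Type} [Fintype ι] [DecidableEq ι]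
variable {Q : QuadraticForm F (ι → F)}

section frame
variable {r : ℕ} {e f : Fin r → (ι → F)}

/-! ### polar form and sums -/

theorem levi_polar_sum_right {α : Type*} (x : ι → F) (s : Finset α) (v : α → (ι → F)) :
    polar Q x (∑ i ∈ s, v i) = ∑ i ∈ s, polar Q x (v i) := by
  have h := map_sum (polarBilin Q x) v s
  simp only [polarBilin_apply_apply] at h
  exact h

theorem levi_polar_sum_left {α : Type*} (x : ι → F) (s : Finset α) (v : α → (ι → F)) :
    polar Q (∑ i ∈ s, v i) x = ∑ i ∈ s, polar Q (v i) x := by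
  rw [polar_comm, levi_polar_sum_right]
  apply Finset.sum_congr rfl
  intro i _
  rw [polar_comm]

theorem levi_polar_e_sum_e (fr : HypFrame Q e f) (k : Fin r) (a : Fin r → F) :
    polar Q (e k) (∑ i, a i • e i) = 0 := by
  rw [levi_polar_sum_right]
  apply Finset.sum_eq_zero
  intro i _
  rw [polar_smul_right, fr.ee, smul_zero]

theorem levi_polar_f_sum_f (fr : HypFrame Q e f) (k : Fin r) (a : Fin r → F) :
    polar Q (f k) (∑ i, a i • f i) = 0 := by
  rw [levi_polar_sum_right]
  apply Finset.sum_eq_zero
  intro i _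
  rw [polar_smul_right, fr.ff, smul_zero]

theorem levi_polar_e_sum_f (fr : HypFrame Q e f) (k : Fin r) (a : Fin r → F) :
    polar Q (e k) (∑ i, a i • f i) = a k := by
  rw [levi_polar_sum_right]
  simp [polar_smul_right, fr.ef]

theorem levi_polar_f_sum_e (fr : HypFrame Q e f) (k : Fin r) (a : Fin r → F) :
    polar Q (f k) (∑ i, a i • e i) = a k := by
  rw [levi_polar_sum_right]
  simp [polar_smul_right, fr.fe]

theorem levi_perp_wpart (fr : HypFrame Q e f) (x : ι → F) : Perp Q e f (wpart Q e f x) := by
  intro k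
  unfold wpart
  constructor
  · rw [polar_sub_right, polar_sub_right, levi_polar_e_sum_e fr, levi_polar_e_sum_f fr]
    ring
  · rw [polar_sub_right, polar_sub_right, levi_polar_f_sum_e fr, levi_polar_f_sum_f fr]
    ring

/-! ### the Levi endomorphisms on the frame -/

theorem leviEnd_e (fr : HypFrame Q e f) (A A' : Matrix (Fin r) (Fin r) F) (j : Fin r) :
    leviEnd Q e f A A' (e j) = ∑ i, A i j • e i := by
  rw [leviEnd_apply]
  simp [fr.fe, fr.ee]

theorem leviEnd_f (fr : HypFrame Q e f) (A A' : Matrix (Fin r) (Fin r) F) (j : Fin r) :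
    leviEnd Q e f A A' (f j) = ∑ i, A' j i • f i := by
  rw [leviEnd_apply]
  simp [fr.ff, fr.ef]

theorem leviEnd_perp (A A' : Matrix (Fin r) (Fin r) F) {x : ι → F} (hx : Perp Q e f x) :
    leviEnd Q e f A A' x = x := by
  rw [leviEnd_apply]
  simp [(hx _).1, (hx _).2]

/-- two endomorphisms agreeing on the frame and on its complement are equal -/
theorem levi_end_ext (fr : HypFrame Q e f) {φ ψ : Module.End F (ι → F)}
    (he : ∀ j, φ (e j) = ψ (e j)) (hf : ∀ j, φ (f j) = ψ (f j))
    (hw : ∀ x, Perp Q e f x → φ x = ψ x) : φ = ψ := by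
  apply LinearMap.ext
  intro x
  rw [decomp Q e f x]
  simp only [map_add, map_sum, map_smul, he, hf, hw _ (levi_perp_wpart fr x)]

theorem leviEnd_comp (fr : HypFrame Q e f) (A A' B B' : Matrix (Fin r) (Fin r) F) :
    leviEnd Q e f A A' * leviEnd Q e f B B' = leviEnd Q e f (A * B) (B' * A') := by
  apply levi_end_ext fr
  · intro j
    rw [Module.End.mul_apply, leviEnd_e fr, leviEnd_e fr, map_sum]
    simp only [map_smul, leviEnd_e fr, Matrix.mul_apply, Finset.smul_sum, Finset.sum_smul, smul_smul]
    rw [Finset.sum_comm]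
    apply Finset.sum_congr rfl
    intro k _
    apply Finset.sum_congr rfl
    intro i _
    rw [mul_comm]
  · intro j
    rw [Module.End.mul_apply, leviEnd_f fr, leviEnd_f fr, map_sum]
    simp only [map_smul, leviEnd_f fr, Matrix.mul_apply, Finset.smul_sum, Finset.sum_smul, smul_smul]
    rw [Finset.sum_comm]
  · intro x hx
    rw [Module.End.mul_apply, leviEnd_perp _ _ hx, leviEnd_perp _ _ hx, leviEnd_perp _ _ hx]

theorem leviEnd_one (fr : HypFrame Q e f) : leviEnd Q e f (1 : Matrix (Fin r) (Fin r) F) 1 = 1 := by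
  apply levi_end_ext fr
  · intro j
    rw [leviEnd_e fr, Module.End.one_apply]
    simp [Matrix.one_apply]
  · intro j
    rw [leviEnd_f fr, Module.End.one_apply]
    simp [Matrix.one_apply]
  · intro x hx
    rw [leviEnd_perp _ _ hx, Module.End.one_apply]

/-! ### the quadratic form in frame coordinates -/

theorem levi_Q_sum_e (fr : HypFrame Q e f) (a : Fin r → F) (s : Finset (Fin r)) :
    Q (∑ i ∈ s, a i • e i) = 0 := by
  classical
  induction s using Finset.induction_on with
  | empty => simp
  | insert k s hk ih =>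
    rw [Finset.sum_insert hk, Q_add', ih, QuadraticMap.map_smul, fr.qe, polar_smul_left,
      levi_polar_sum_right]
    have : ∑ i ∈ s, polar Q (e k) (a i • e i) = 0 := by
      apply Finset.sum_eq_zero
      intro i _
      rw [polar_smul_right, fr.ee, smul_zero]
    rw [this]
    simp

theorem levi_Q_sum_f (fr : HypFrame Q e f) (a : Fin r → F) (s : Finset (Fin r)) :
    Q (∑ i ∈ s, a i • f i) = 0 := by
  classical
  induction s using Finset.induction_on with
  | empty => simp
  | insert k s hk ih =>
    rw [Finset.sum_insert hk, Q_add', ih, QuadraticMap.map_smul, fr.qf, polar_smul_left,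
      levi_polar_sum_right]
    have : ∑ i ∈ s, polar Q (f k) (a i • f i) = 0 := by
      apply Finset.sum_eq_zero
      intro i _
      rw [polar_smul_right, fr.ff, smul_zero]
    rw [this]
    simp

theorem levi_Q_form (fr : HypFrame Q e f) (a b : Fin r → F) {w : ι → F} (hw : Perp Q e f w) :
    Q (∑ i, a i • e i + ∑ i, b i • f i + w) = ∑ i, a i * b i + Q w := by
  rw [Q_add', Q_add', levi_Q_sum_e fr, levi_Q_sum_f fr, polar_add_left, levi_polar_sum_left,
    levi_polar_sum_left, levi_polar_sum_left]
  have h1 : ∑ i, polar Q (a i • e i) w = 0 := by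
    apply Finset.sum_eq_zero
    intro i _
    rw [polar_smul_left, (hw i).1, smul_zero]
  have h2 : ∑ i, polar Q (b i • f i) w = 0 := by
    apply Finset.sum_eq_zero
    intro i _
    rw [polar_smul_left, (hw i).2, smul_zero]
  have h3 : ∑ i, polar Q (a i • e i) (∑ i, b i • f i) = ∑ i, a i * b i := by
    apply Finset.sum_congr rfl
    intro i _
    rw [polar_smul_left, levi_polar_e_sum_f fr, smul_eq_mul]
  rw [h1, h2, h3]
  ring

/-- the value of `Q` in frame coordinates -/
theorem levi_Q_decomp (fr : HypFrame Q e f) (x : ι → F) :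
    Q x = ∑ i, polar Q (f i) x * polar Q (e i) x + Q (wpart Q e f x) := by
  conv_lhs => rw [decomp Q e f x]
  rw [levi_Q_form fr _ _ (levi_perp_wpart fr x)]

theorem leviEnd_decomp (fr : HypFrame Q e f) (A A' : Matrix (Fin r) (Fin r) F) (x : ι → F) :
    leviEnd Q e f A A' x = ∑ i, (∑ j, A i j * polar Q (f j) x) • e i
      + ∑ i, (∑ j, A' j i * polar Q (e j) x) • f i + wpart Q e f x := by
  conv_lhs => rw [decomp Q e f x]
  simp only [map_add, map_sum, map_smul, leviEnd_e fr, leviEnd_f fr,
    leviEnd_perp _ _ (levi_perp_wpart fr x), Finset.smul_sum, Finset.sum_smul, smul_smul]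
  congr 1
  congr 1
  · rw [Finset.sum_comm]
    apply Finset.sum_congr rfl
    intro i _
    apply Finset.sum_congr rfl
    intro j _
    rw [mul_comm]
  · rw [Finset.sum_comm]
    apply Finset.sum_congr rfl
    intro i _
    apply Finset.sum_congr rfl
    intro j _
    rw [mul_comm]

theorem leviEnd_isom (fr : HypFrame Q e f) (A A' : Matrix (Fin r) (Fin r) F) (h : A' * A = 1)
    (x : ι → F) : Q (leviEnd Q e f A A' x) = Q x := by
  rw [leviEnd_decomp fr, levi_Q_form fr _ _ (levi_perp_wpart fr x), levi_Q_decomp fr x]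
  congr 1
  have key : ∀ j k : Fin r, ∑ i, A' k i * A i j = if k = j then 1 else 0 := by
    intro j k
    have := congrFun (congrFun h k) j
    rw [Matrix.mul_apply, Matrix.one_apply] at this
    exact this
  calc ∑ i, (∑ j, A i j * polar Q (f j) x) * (∑ k, A' k i * polar Q (e k) x)
      = ∑ i, ∑ j, ∑ k, (A' k i * A i j) * (polar Q (f j) x * polar Q (e k) x) := by
        apply Finset.sum_congr rfl
        intro i _
        rw [Finset.sum_mul_sum]
        apply Finset.sum_congr rfl
        intro j _
        apply Finset.sum_congr rfl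
        intro k _
        ring
    _ = ∑ j, ∑ k, (∑ i, A' k i * A i j) * (polar Q (f j) x * polar Q (e k) x) := by
        rw [Finset.sum_comm]
        apply Finset.sum_congr rfl
        intro j _
        rw [Finset.sum_comm]
        apply Finset.sum_congr rfl
        intro k _
        rw [Finset.sum_mul]
    _ = ∑ j, polar Q (f j) x * polar Q (e j) x := by
        apply Finset.sum_congr rfl
        intro j _
        simp [key]

/-! ### the Levi elements -/

theorem levi_coe_mul_inv (A : Matrix.SpecialLinearGroup (Fin r) F) :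
    (A : Matrix (Fin r) (Fin r) F) *
      ((A⁻¹ : Matrix.SpecialLinearGroup (Fin r) F) : Matrix (Fin r) (Fin r) F) = 1 := by
  rw [← Matrix.SpecialLinearGroup.coe_mul, mul_inv_cancel, Matrix.SpecialLinearGroup.coe_one]

theorem levi_coe_inv_mul (A : Matrix.SpecialLinearGroup (Fin r) F) :
    ((A⁻¹ : Matrix.SpecialLinearGroup (Fin r) F) : Matrix (Fin r) (Fin r) F) *
      (A : Matrix (Fin r) (Fin r) F) = 1 := by
  rw [← Matrix.SpecialLinearGroup.coe_mul, inv_mul_cancel, Matrix.SpecialLinearGroup.coe_one]

/-- the Levi element of an `A ∈ SL_r` -/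
noncomputable def leviG (fr : HypFrame Q e f) (A : Matrix.SpecialLinearGroup (Fin r) F) :
    ↥(Cfsg.isometryGroup F (⇑Q)) :=
  Cfsg.Agent.Helper28.Siegel.ofEnd Q
    (leviEnd Q e f (A : Matrix (Fin r) (Fin r) F) ((A⁻¹ : Matrix.SpecialLinearGroup (Fin r) F) : Matrix (Fin r) (Fin r) F))
    (leviEnd Q e f ((A⁻¹ : Matrix.SpecialLinearGroup (Fin r) F) : Matrix (Fin r) (Fin r) F) (A : Matrix (Fin r) (Fin r) F))
    (by rw [leviEnd_comp fr, levi_coe_mul_inv, leviEnd_one fr])
    (by rw [leviEnd_comp fr, levi_coe_inv_mul, leviEnd_one fr])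
    (leviEnd_isom fr _ _ (levi_coe_inv_mul A))

theorem leviG_smul (fr : HypFrame Q e f) (A : Matrix.SpecialLinearGroup (Fin r) F) (x : ι → F) :
    leviG fr A • x = leviEnd Q e f (A : Matrix (Fin r) (Fin r) F)
      ((A⁻¹ : Matrix.SpecialLinearGroup (Fin r) F) : Matrix (Fin r) (Fin r) F) x := by
  unfold leviG
  rw [← toEnd_eq_smul, Cfsg.Agent.Helper28.Siegel.toEnd_ofEnd]

theorem leviG_smul_e (fr : HypFrame Q e f) (A : Matrix.SpecialLinearGroup (Fin r) F) (j : Fin r) :
    leviG fr A • e j = ∑ i, (A : Matrix (Fin r) (Fin r) F) i j • e i := by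
  rw [leviG_smul, leviEnd_e fr]

theorem leviG_smul_f (fr : HypFrame Q e f) (A : Matrix.SpecialLinearGroup (Fin r) F) (j : Fin r) :
    leviG fr A • f j
      = ∑ i, ((A⁻¹ : Matrix.SpecialLinearGroup (Fin r) F) : Matrix (Fin r) (Fin r) F) j i • f i := by
  rw [leviG_smul, leviEnd_f fr]

theorem leviG_smul_perp (fr : HypFrame Q e f) (A : Matrix.SpecialLinearGroup (Fin r) F)
    {x : ι → F} (hx : Perp Q e f x) : leviG fr A • x = x := by
  rw [leviG_smul, leviEnd_perp _ _ hx]

theorem leviG_one (fr : HypFrame Q e f) : leviG fr (1 : Matrix.SpecialLinearGroup (Fin r) F) = 1 := by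
  apply ext_smul
  intro x
  rw [leviG_smul, inv_one, Matrix.SpecialLinearGroup.coe_one, leviEnd_one fr, Module.End.one_apply,
    one_smul]

theorem leviG_mul (fr : HypFrame Q e f) (A B : Matrix.SpecialLinearGroup (Fin r) F) :
    leviG fr (A * B) = leviG fr A * leviG fr B := by
  apply ext_smul
  intro x
  rw [mul_smul, leviG_smul, leviG_smul, leviG_smul, ← Module.End.mul_apply, leviEnd_comp fr,
    _root_.mul_inv_rev, Matrix.SpecialLinearGroup.coe_mul, Matrix.SpecialLinearGroup.coe_mul]

/-- the Levi homomorphism -/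
noncomputable def leviHom (fr : HypFrame Q e f) :
    Matrix.SpecialLinearGroup (Fin r) F →* ↥(Cfsg.isometryGroup F (⇑Q)) where
  toFun := leviG fr
  map_one' := leviG_one fr
  map_mul' := leviG_mul fr

theorem leviHom_apply (fr : HypFrame Q e f) (A : Matrix.SpecialLinearGroup (Fin r) F) :
    leviHom fr A = leviG fr A := rfl

/-- two isometries agreeing on the frame and on its orthogonal complement are equal -/
theorem levi_ext_frame (fr : HypFrame Q e f) {g h : Cfsg.isometryGroup F (⇑Q)}
    (he : ∀ i, g • e i = h • e i) (hf : ∀ i, g • f i = h • f i)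
    (hw : ∀ x, Perp Q e f x → g • x = h • x) : g = h := by
  apply ext_smul
  intro x
  have := levi_end_ext fr (φ := Cfsg.Agent.Helper17.Spinor.toEnd Q g)
    (ψ := Cfsg.Agent.Helper17.Spinor.toEnd Q h) he hf hw
  have h2 := congrArg (fun φ : Module.End F (ι → F) => φ x) this
  exact h2

theorem levi_transvection_inv {i j : Fin r} (hij : i ≠ j) (c : F) :
    (Matrix.SpecialLinearGroup.transvection hij c)⁻¹ =
      Matrix.SpecialLinearGroup.transvection hij (-c) := by
  apply inv_eq_of_mul_eq_one_right
  apply Subtype.ext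
  simp only [Matrix.SpecialLinearGroup.coe_mul, Matrix.SpecialLinearGroup.transvection_coe,
    Matrix.SpecialLinearGroup.coe_one]
  simp [mul_add, add_mul, Matrix.single_mul_single_of_ne _ _ _ _ hij.symm, ← Matrix.single_neg]

/-- transvections go to the root elements `X_{ε_i - ε_j}(c)` -/
theorem leviG_transvection (fr : HypFrame Q e f) {i j : Fin r} (hij : i ≠ j) (c : F) :
    leviG fr (Matrix.SpecialLinearGroup.transvection hij c) = eichG Q (e i) (c • f j) := by
  have hzb : polar Q (e i) (c • f j) = 0 := by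
    rw [polar_smul_right, fr.ef, if_neg hij, smul_zero]
  apply levi_ext_frame fr
  · intro k
    rw [leviG_smul_e, eichG_apply (fr.qe i) hzb, Matrix.SpecialLinearGroup.transvection_coe]
    simp only [Matrix.add_apply, Matrix.one_apply, Matrix.single_apply, add_smul, Finset.sum_add_distrib,
      polar_smul_left, fr.fe, fr.ee, QuadraticMap.map_smul, fr.qf]
    simp [ite_smul, Finset.sum_ite_eq, Finset.sum_ite_eq']
    by_cases hjk : j = k
    · subst hjk
      simp
    · simp [hjk]
  · intro k
    rw [leviG_smul_f, eichG_apply (fr.qe i) hzb, levi_transvection_inv,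
      Matrix.SpecialLinearGroup.transvection_coe]
    simp only [Matrix.add_apply, Matrix.one_apply, Matrix.single_apply, add_smul, Finset.sum_add_distrib,
      polar_smul_left, fr.ff, fr.ef, QuadraticMap.map_smul, fr.qf]
    simp [ite_smul, Finset.sum_ite_eq, Finset.sum_ite_eq']
    by_cases hik : i = k
    · subst hik
      simp
    · have : ¬ k = i := fun h => hik h.symm
      simp [hik, this]
  · intro x hx
    rw [leviG_smul_perp fr _ hx, eichG_fix (fr.qe i) hzb (hx i).1
      (by rw [polar_smul_left, (hx j).2, smul_zero])]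

/-- diagonal matrices -/
theorem leviG_diag (fr : HypFrame Q e f) (A : Matrix.SpecialLinearGroup (Fin r) F) (d : Fin r → F)
    (hA : (A : Matrix (Fin r) (Fin r) F) = Matrix.diagonal d) (j : Fin r) :
    leviG fr A • e j = d j • e j ∧ leviG fr A • f j = (d j)⁻¹ • f j := by
  have hdet : ∏ i, d i = 1 := by
    have := A.2
    rw [hA, Matrix.det_diagonal] at this
    exact this
  have hd : ∀ i, d i ≠ 0 := by
    intro i h0
    have : ∏ i, d i = 0 := Finset.prod_eq_zero (Finset.mem_univ i) h0
    rw [hdet] at this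
    exact one_ne_zero this
  have hinv : ((A⁻¹ : Matrix.SpecialLinearGroup (Fin r) F) : Matrix (Fin r) (Fin r) F) =
      Matrix.diagonal (fun i => (d i)⁻¹) := by
    have h1 : (A : Matrix (Fin r) (Fin r) F) * Matrix.diagonal (fun i => (d i)⁻¹) = 1 := by
      rw [hA, Matrix.diagonal_mul_diagonal]
      have : (fun i => d i * (d i)⁻¹) = fun _ => (1 : F) := by
        funext i
        exact mul_inv_cancel₀ (hd i)
      rw [this, Matrix.diagonal_one]
    calc ((A⁻¹ : Matrix.SpecialLinearGroup (Fin r) F) : Matrix (Fin r) (Fin r) F)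
        = ((A⁻¹ : Matrix.SpecialLinearGroup (Fin r) F) : Matrix (Fin r) (Fin r) F) *
          ((A : Matrix (Fin r) (Fin r) F) * Matrix.diagonal (fun i => (d i)⁻¹)) := by
          rw [h1, mul_one]
      _ = Matrix.diagonal (fun i => (d i)⁻¹) := by
          rw [← mul_assoc, levi_coe_inv_mul, one_mul]
  constructor
  · rw [leviG_smul_e, hA]
    simp [Matrix.diagonal_apply, ite_smul]
  · rw [leviG_smul_f, hinv]
    simp [Matrix.diagonal_apply, ite_smul]

/-- the Levi subgroup lies in the group generated by the Eichler transformations -/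
theorem leviG_mem_eichGroup (fr : HypFrame Q e f) (hr : 2 ≤ r)
    (A : Matrix.SpecialLinearGroup (Fin r) F) : leviG fr A ∈ eichGroup Q := by
  have : Nontrivial (Fin r) := Fin.nontrivial_iff_two_le.2 hr
  have htop : (eichGroup Q).comap (leviHom fr) = ⊤ := by
    apply Cfsg.Agent.Helper12.eq_top_of_forall_transvection
    intro i j hij c
    rw [Subgroup.mem_comap, leviHom_apply, leviG_transvection fr hij c]
    exact eichG_mem (fr.qe i) (by rw [polar_smul_right, fr.ef, if_neg hij, smul_zero])
  have : A ∈ (eichGroup Q).comap (leviHom fr) := by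
    rw [htop]
    exact Subgroup.mem_top A
  exact this

end frame

end Cfsg.Agent.Helper11.OG
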