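import Mathlib
import Cfsg.Agent.Lib.Helper11.F4IE7

/-!
# S2184 piece FUSE (helper25 for helper11): fusion of the root-group involutions of `²F₄(q)`

`fuse_Z`, `fuse_U`: the Weyl elements `na`, `nb` permute the twisted root groups.
`scale_Z`: `Z6(b) ~ Z6(f s * b)` (`step_1`, `na_Z`, `step_1`), `f` onto.
`scale_U`: `U7(t) ~ U7((f s)^2 * t)` (`step_1`, `na_Z`, `red_E7`), `s ↦ (f s)^2` onto.
-/

set_option autoImplicit false
set_option linter.unusedSectionVars false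
set_option linter.unusedSimpArgs false
set_option linter.unusedVariables false
set_option maxHeartbeats 1000000

namespace Cfsg.Agent.Helper11.F4I

open Cfsg Cfsg.Lie Cfsg.Agent.Lead.Chev Cfsg.Agent.Lead.Tw

variable {K : Type*} [Field K] [Fintype K] [CharP K 2] {m : ℕ} (hK : Fintype.card K = 2 ^ (2 * m + 1))
  (hperf : ∀ x : K, ∃ y : K, y ^ 2 = x) (f : K ≃+* K) (hf : ∀ t, f t = t ^ (2 ^ m))
include hK hperf hf

theorem fuse_Z (c : K) : CJ (2 ^ m) (U2 f 0 c) (U8 f 0 c) ∧ CJ (2 ^ m) (U4 f 0 c) (U8 f 0 c) ∧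
    CJ (2 ^ m) (U6 f 0 c) (U8 f 0 c) := by
  have h28 : CJ (2 ^ m) (U2 f 0 c) (U8 f 0 c) := by
    have k := CJ_na hK hperf f hf (U2 f 0 c)
    rwa [na_U2] at k
  have h62 : CJ (2 ^ m) (U6 f 0 c) (U2 f 0 c) := by
    have k := CJ_nb hK hperf f hf (U6 f 0 c)
    rwa [nb_U6] at k
  have h46 : CJ (2 ^ m) (U4 f 0 c) (U6 f 0 c) := by
    have k := CJ_na hK hperf f hf (U4 f 0 c)
    rwa [na_U4] at k
  exact ⟨h28, h46.trans (h62.trans h28), h62.trans h28⟩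

theorem fuse_U (t : K) : CJ (2 ^ m) (U3 f t) (U1 f t) ∧ CJ (2 ^ m) (U5 f t) (U1 f t) ∧
    CJ (2 ^ m) (U7 f t) (U1 f t) := by
  have h71 : CJ (2 ^ m) (U7 f t) (U1 f t) := by
    have k := CJ_nb hK hperf f hf (U7 f t)
    rwa [nb_U7] at k
  have h37 : CJ (2 ^ m) (U3 f t) (U7 f t) := by
    have k := CJ_na hK hperf f hf (U3 f t)
    rwa [na_U3] at k
  have h53 : CJ (2 ^ m) (U5 f t) (U3 f t) := by
    have k := CJ_nb hK hperf f hf (U5 f t)
    rwa [nb_U5] at k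
  exact ⟨h37.trans h71, h53.trans (h37.trans h71), h71⟩

/-- `Z6(b) ~ Z6(f s * b)` for `s ≠ 0` -/
theorem fuse_scale6 (b s : K) (hs : s ≠ 0) : CJ (2 ^ m) (U6 f 0 b) (U6 f 0 (f s * b)) := by
  have hff := hff hK f hf
  have hff' := hff' hK f hf
  have hfs : f s ≠ 0 := (map_ne_zero f).2 hs
  -- step_1 with `s`
  have k1 : CJ (2 ^ m) (NF f 0 0 0 0 0 0 0 0 b 0 0 0) (NF f 0 0 0 0 0 (f s * b) 0 0 b 0 0 0) := by
    refine (step_1 hK hperf f hf 0 0 0 0 0 0 0 0 b 0 0 0 s).trans (CJ.of_eq ?_)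
    apply NF_congr f
    all_goals simp only [map_zero, mul_zero, zero_mul, add_zero, zero_add, ne_eq, OfNat.ofNat_ne_zero,
      not_false_eq_true, zero_pow]
  -- `na`
  have k2 : CJ (2 ^ m) (NF f 0 0 0 0 0 (f s * b) 0 0 b 0 0 0) (NF f 0 0 0 0 0 b 0 0 (f s * b) 0 0 0) := by
    refine (na_Z hK hperf f hf 0 0 (f s * b) 0 b 0 0).trans (CJ.of_eq ?_)
    apply NF_congr f
    all_goals simp only [map_zero, mul_zero, zero_mul, add_zero, zero_add, ne_eq, OfNat.ofNat_ne_zero,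
      not_false_eq_true, zero_pow]
  -- step_1 with `1 / s`
  have k3 : CJ (2 ^ m) (NF f 0 0 0 0 0 b 0 0 (f s * b) 0 0 0) (NF f 0 0 0 0 0 0 0 0 (f s * b) 0 0 0) := by
    refine (step_1 hK hperf f hf 0 0 0 0 0 b 0 0 (f s * b) 0 0 0 (1 / s)).trans (CJ.of_eq ?_)
    apply NF_congr f
    all_goals simp only [map_zero, mul_zero, zero_mul, add_zero, zero_add, ne_eq, OfNat.ofNat_ne_zero,
      not_false_eq_true, zero_pow, map_div₀, map_one]
    · field_simp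
      grind
  have k := k1.trans (k2.trans k3)
  rwa [NF_U6, NF_U6] at k

theorem scale_Z (c c' : K) (hc : c ≠ 0) (hc' : c' ≠ 0) : CJ (2 ^ m) (U8 f 0 c) (U8 f 0 c') := by
  have hff' := hff' hK f hf
  have hne : (f (c' / c)) ^ 2 ≠ 0 := pow_ne_zero _ ((map_ne_zero f).2 (div_ne_zero hc' hc))
  have k := fuse_scale6 hK hperf f hf c ((f (c' / c)) ^ 2) hne
  have e : f ((f (c' / c)) ^ 2) * c = c' := by
    rw [hff']; field_simp
  rw [e] at k
  exact ((fuse_Z hK hperf f hf c).2.2.symm.trans k).trans (fuse_Z hK hperf f hf c').2.2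

/-- `U7(t) ~ U7((f s)^2 * t)` for `s ≠ 0`, `t ≠ 0` -/
theorem fuse_scale7 (t s : K) (ht : t ≠ 0) (hs : s ≠ 0) : CJ (2 ^ m) (U7 f t) (U7 f ((f s) ^ 2 * t)) := by
  have hfs : f s ≠ 0 := (map_ne_zero f).2 hs
  have k1 : CJ (2 ^ m) (NF f 0 0 0 0 0 0 0 0 0 t 0 0)
      (NF f 0 0 0 ((f s) ^ 2 * t) 0 0 (s * (f t) ^ 2) 0 0 t 0 0) := by
    refine (step_1 hK hperf f hf 0 0 0 0 0 0 0 0 0 t 0 0 s).trans (CJ.of_eq ?_)
    apply NF_congr f
    all_goals simp only [map_zero, mul_zero, zero_mul, add_zero, zero_add, ne_eq, OfNat.ofNat_ne_zero,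
      not_false_eq_true, zero_pow]
  have k2 : CJ (2 ^ m) (NF f 0 0 0 ((f s) ^ 2 * t) 0 0 (s * (f t) ^ 2) 0 0 t 0 0)
      (NF f 0 0 0 t 0 0 (s * (f t) ^ 2) 0 0 ((f s) ^ 2 * t) 0 0) := by
    refine (na_Z hK hperf f hf 0 ((f s) ^ 2 * t) 0 (s * (f t) ^ 2) 0 t 0).trans (CJ.of_eq ?_)
    apply NF_congr f
    all_goals simp only [map_zero, mul_zero, zero_mul, add_zero, zero_add, ne_eq, OfNat.ofNat_ne_zero,
      not_false_eq_true, zero_pow]
  have h7 : (f s) ^ 2 * t ≠ 0 := mul_ne_zero (pow_ne_zero _ hfs) ht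
  have k3 := red_E7 hK hperf f hf t 0 (s * (f t) ^ 2) 0 ((f s) ^ 2 * t) h7
  have k := k1.trans (k2.trans k3)
  rwa [NF_U7] at k

theorem scale_U (t t' : K) (ht : t ≠ 0) (ht' : t' ≠ 0) : CJ (2 ^ m) (U1 f t) (U1 f t') := by
  have hff := hff hK f hf
  have hne : f (t' / t) ≠ 0 := (map_ne_zero f).2 (div_ne_zero ht' ht)
  have k := fuse_scale7 hK hperf f hf t (f (t' / t)) ht hne
  have e : (f (f (t' / t))) ^ 2 * t = t' := by
    rw [hff]; field_simp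
  rw [e] at k
  exact ((fuse_U hK hperf f hf t).2.2.symm.trans k).trans (fuse_U hK hperf f hf t').2.2

end Cfsg.Agent.Helper11.F4I
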