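import Mathlib
import Cfsg.Prelude.Def_FusionSystem
import Cfsg.Agent.Lib.Helper25.FusionCentric
import Cfsg.Agent.Lib.Helper25.FusionSat2
import Cfsg.Agent.Lib.Helper25.FusionProduct3
import Cfsg.Agent.Lib.Helper25.FusionInvariant
import Cfsg.Agent.Lib.Helper25.FusionInner

/-!
# A criterion for normal subsystems over the full Sylow group to be everything
-/

set_option autoImplicit false
set_option linter.style.haveILetI false
set_option linter.unusedSectionVars false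

namespace Cfsg.Agent.Helper25.SimpCrit

open Cfsg Cfsg.FusionSystem Cfsg.Agent.Helper25

variable {Ω : Type*} [Group Ω] {S : Subgroup Ω}

/-- Centric subgroups are fully centralized. -/
theorem isFullyCentralized_of_centric [Finite S] (F : FusionSystem S) {Q : Subgroup Ω}
    (hQ : F.IsCentric Q) : F.IsFullyCentralized Q := by
  refine ⟨hQ.1, ?_⟩
  rintro Q' ⟨φ, hφ, rfl⟩
  have hcen := hQ.2 _ ⟨φ, hφ, rfl⟩
  have hinj := F.injective_of_mem hφ
  haveI : Finite (centralizerIn S Q) := finite_of_le_finite centralizerIn_le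
  have hex : ∀ c : centralizerIn S φ.range, ∃ y : Q, φ y = c := fun c => hcen c.2
  choose f hf using hex
  have hfmem : ∀ c : centralizerIn S φ.range, ((f c : Q) : Ω) ∈ centralizerIn S Q := by
    intro c
    rw [mem_centralizerIn]
    refine ⟨hQ.1 (f c).2, fun x hx => ?_⟩
    have hc := (mem_centralizerIn.mp c.2).2 (φ ⟨x, hx⟩) ⟨_, rfl⟩
    rw [← hf c, ← map_mul, ← map_mul] at hc
    exact congrArg Subtype.val (hinj hc)
  refine Nat.card_le_card_of_injective (fun c => ⟨_, hfmem c⟩) ?_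
  intro c d hcd
  have h1 : ((f c : Q) : Ω) = ((f d : Q) : Ω) := by
    have h0 := Subtype.ext_iff.mp hcd
    exact h0
  have h2 : f c = f d := Subtype.ext h1
  apply Subtype.ext
  rw [← hf c, ← hf d, h2]

/-- In an invariant subsystem over the same group `S`, `Aut_E(R)` contains all `p`-elements of
`Aut_F(R)`. -/
theorem mem_autGroup_of_pow [Finite S] (p : ℕ) [Fact p.Prime] (hS : IsPGroup p S)
    (F : FusionSystem S) (hF : F.IsSaturated p) {E : FusionSystem S} (hinv : E.IsInvariantIn F)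
    {R : Subgroup Ω} (hR : R ≤ S) {γ : MulAut R} (hγ : γ ∈ F.autGroup R)
    (hγp : ∃ k : ℕ, γ ^ p ^ k = 1) : γ ∈ E.autGroup R := by
  obtain ⟨P', e, heF, s, hsS, hs⟩ := exists_equiv_conj_into_autS p hS F hF hR hγ hγp
  obtain ⟨hsub, hTsc, hconj, hfrat⟩ := hinv
  obtain ⟨α, hα, e₀, he₀, hv⟩ := hfrat R hR _ heF
  have he₀S := (E.le_of_mem he₀).2
  obtain ⟨s', hs'⟩ : ∃ s' : S, s' = α⁻¹ ⟨s, hsS⟩ := ⟨_, rfl⟩
  have hαs' : α s' = ⟨s, hsS⟩ := by rw [hs']; simp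
  have hve : ∀ x : R, ((e x : P') : Ω) = ((α ⟨e₀ x, he₀S x⟩ : S) : Ω) := fun x => hv x (he₀S x)
  have key : ∀ x : R, e₀ (γ x) = (s' : Ω) * e₀ x * (s' : Ω)⁻¹ := by
    intro x
    have h1 : ((α ⟨e₀ (γ x), he₀S _⟩ : S) : Ω) = s * ((α ⟨e₀ x, he₀S x⟩ : S) : Ω) * s⁻¹ := by
      rw [← hve (γ x), ← hve x]; exact hs x
    have h3 : α ⟨e₀ (γ x), he₀S _⟩ = α (s' * ⟨e₀ x, he₀S x⟩ * s'⁻¹) := by
      apply Subtype.ext
      rw [h1, map_mul, map_mul, map_inv, hαs']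
      rfl
    have h4 := α.injective h3
    exact congrArg Subtype.val h4
  obtain ⟨θ, hθ, hθv⟩ := E.inv_mem he₀
  have hc : conjHom e₀.range (s' : Ω) ∈ E.Hom e₀.range := E.conj_mem (range_le E he₀) s'.2
  have hχ₁ : (conjHom e₀.range (s' : Ω)).comp (e₀.codRestrict e₀.range fun x => ⟨x, rfl⟩)
      ∈ E.Hom R := E.comp_mem he₀ hc _
  have hχ₁r : ∀ x : R, ((conjHom e₀.range (s' : Ω)).comp
      (e₀.codRestrict e₀.range fun x => ⟨x, rfl⟩)) x ∈ e₀.range := by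
    intro x
    show (s' : Ω) * e₀ x * (s' : Ω)⁻¹ ∈ e₀.range
    rw [← key]; exact ⟨_, rfl⟩
  rw [mem_autGroup_iff E hR]
  refine comp_mem' E hχ₁ hθ hχ₁r (fun x => ?_)
  have e' := hom_congr_val θ (hχ₁r x) (⟨γ x, rfl⟩ : e₀ (γ x) ∈ e₀.range) (key x).symm
  rw [e', hθv]
  rfl

/-- The restriction of an automorphism of `S` to a subgroup. -/
def resAut (β : MulAut S) (Q : Subgroup Ω) (hQ : Q ≤ S) : Q →* Ω :=
  (S.subtype.comp β.toMonoidHom).comp (Subgroup.inclusion hQ)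

theorem resAut_apply (β : MulAut S) (Q : Subgroup Ω) (hQ : Q ≤ S) (x : Q) :
    resAut β Q hQ x = ((β ⟨x, hQ x.2⟩ : S) : Ω) := rfl

theorem resAut_mem (F : FusionSystem S) {β : MulAut S} (hβ : β ∈ F.autGroup S) (Q : Subgroup Ω)
    (hQ : Q ≤ S) : resAut β Q hQ ∈ F.Hom Q :=
  restrict_mem F hQ ((mem_autGroup_iff F le_rfl β).mp hβ)

/-- A map on `N ≤ N_S(Q)` with values in `S` that carries `Q` onto `Q` carries `N` into `N_S(Q)`. -/
theorem map_mem_normalizerIn {Q N : Subgroup Ω} (hN : N ≤ normalizerIn S Q) (χ : N →* Ω)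
    (hχS : ∀ x, χ x ∈ S) (hχQ : ∀ x : N, (x : Ω) ∈ Q → χ x ∈ Q)
    (hsurj : ∀ q ∈ Q, ∃ x : N, (x : Ω) ∈ Q ∧ χ x = q) (g : N) : χ g ∈ normalizerIn S Q := by
  rw [mem_normalizerIn]
  have hconj : ∀ (g : N) (x : N), (x : Ω) ∈ Q → ((g * x * g⁻¹ : N) : Ω) ∈ Q := by
    intro g x hx
    have hg := (mem_normalizerIn.mp (hN g.2)).2
    exact (Subgroup.mem_normalizer_iff.mp hg x).mp hx
  refine ⟨hχS g, mem_normalizer_of_forall (fun q hq => ?_) (fun q hq => ?_)⟩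
  · obtain ⟨x, hxQ, rfl⟩ := hsurj q hq
    have := hχQ (g * x * g⁻¹) (hconj g x hxQ)
    rwa [map_mul, map_mul, map_inv] at this
  · obtain ⟨x, hxQ, rfl⟩ := hsurj q hq
    have := hχQ (g⁻¹ * x * g⁻¹⁻¹) (hconj g⁻¹ x hxQ)
    rwa [inv_inv, map_mul, map_mul, map_inv] at this

/-- **Extension step.**  Let `E ≤ F` be saturated systems over `S`, `β ∈ Aut_F(S)` and `Q` an
`F`-centric subgroup with `β(Q) = Q` and `β|_Q` in `E`.  Then `β(N_S(Q)) = N_S(Q)` and
`β|_{N_S(Q)}` is in `E`. -/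
theorem step [Finite S] (p : ℕ) [Fact p.Prime] (hS : IsPGroup p S) (F : FusionSystem S)
    (hF : F.IsSaturated p) {E : FusionSystem S} (hE : E.IsSaturated p)
    (hsub : E.IsSubsystemOf F) {β : MulAut S} (hβ : β ∈ F.autGroup S) {Q : Subgroup Ω}
    (hQ : F.IsCentric Q) (hβQ : ∀ x : S, (x : Ω) ∈ Q → ((β x : S) : Ω) ∈ Q)
    (hmem : resAut β Q hQ.1 ∈ E.Hom Q) :
    (∀ x : S, (x : Ω) ∈ normalizerIn S Q → ((β x : S) : Ω) ∈ normalizerIn S Q) ∧
      resAut β (normalizerIn S Q) normalizerIn_le ∈ E.Hom (normalizerIn S Q) := by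
  have hQS := hQ.1
  haveI : Finite Q := finite_of_le_finite hQS
  have hNS : normalizerIn S Q ≤ S := normalizerIn_le
  have hQN : Q ≤ normalizerIn S Q := le_normalizerIn hQS
  haveI : Finite (normalizerIn S Q) := finite_of_le_finite hNS
  have hφinj : Function.Injective (resAut β Q hQS) := E.injective_of_mem hmem
  have hrange : (resAut β Q hQS).range = Q := range_eq_of_le hφinj (by
    rintro _ ⟨x, rfl⟩
    exact hβQ _ x.2)
  have hsurjQ : ∀ q ∈ Q, ∃ x : Q, ((β ⟨x, hQS x.2⟩ : S) : Ω) = q := fun q hq => by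
    rw [← hrange] at hq
    exact hq
  -- `Q` is receptive in `E`
  have hQE : E.IsCentric Q :=
    ⟨hQS, fun Q' hc => hQ.2 Q' (by obtain ⟨χ, hχ, hr⟩ := hc; exact ⟨χ, hsub _ hχ, hr⟩)⟩
  have hrec : E.IsReceptive Q :=
    isReceptive_of_fullyCentralized p hS E hE (isFullyCentralized_of_centric E hQE)
  obtain ⟨ψ, hψ, hext⟩ := hrec.2 Q (resAut β Q hQS) hmem hrange
  have hNle : normalizerIn S Q ≤ extender S Q (resAut β Q hQS) := by
    apply normalizerIn_le_extender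
    intro g hg
    refine ⟨((β ⟨g, hNS hg⟩ : S) : Ω), (β _).2, fun x hx => ?_⟩
    rw [resAut_apply, resAut_apply]
    have e : (⟨g * (x : Ω) * g⁻¹, hQS hx⟩ : S) = ⟨g, hNS hg⟩ * ⟨x, hQS x.2⟩ * ⟨g, hNS hg⟩⁻¹ :=
      Subtype.ext rfl
    rw [e, map_mul, map_mul, map_inv]
    rfl
  have hψ' : ψ.comp (Subgroup.inclusion hNle) ∈ E.Hom (normalizerIn S Q) :=
    restrict_mem E hNle hψ
  have hψ'Q : ∀ (x : normalizerIn S Q) (hx : (x : Ω) ∈ Q),
      (ψ.comp (Subgroup.inclusion hNle)) x = ((β ⟨x, hNS x.2⟩ : S) : Ω) := fun x hx =>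
    hext x hx (hNle x.2)
  have hψ'S := (E.le_of_mem hψ').2
  -- both maps carry `N_S(Q)` into itself
  have hψ'N : ∀ x, (ψ.comp (Subgroup.inclusion hNle)) x ∈ normalizerIn S Q := by
    intro g
    apply map_mem_normalizerIn le_rfl _ hψ'S
    · intro x hx
      rw [hψ'Q x hx]
      exact hβQ _ hx
    · intro q hq
      obtain ⟨x, hx⟩ := hsurjQ q hq
      refine ⟨⟨x, hQN x.2⟩, x.2, ?_⟩
      rw [hψ'Q _ x.2]
      exact hx
  have hβN' : resAut β (normalizerIn S Q) hNS ∈ F.Hom (normalizerIn S Q) := resAut_mem F hβ _ hNS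
  have hβN : ∀ x, (resAut β (normalizerIn S Q) hNS) x ∈ normalizerIn S Q := by
    intro g
    apply map_mem_normalizerIn le_rfl _ (F.le_of_mem hβN').2
    · intro x hx
      exact hβQ _ hx
    · intro q hq
      obtain ⟨x, hx⟩ := hsurjQ q hq
      exact ⟨⟨x, hQN x.2⟩, x.2, hx⟩
  refine ⟨fun x hx => hβN ⟨x, hx⟩, ?_⟩
  -- the two automorphisms of `N_S(Q)`
  obtain ⟨ψN, hψNE, hψNx⟩ := exists_aut_of_hom E hψ' hψ'N
  obtain ⟨βN, hβNF, hβNx⟩ := exists_aut_of_hom F hβN' hβN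
  have hψNF : ψN ∈ F.autGroup (normalizerIn S Q) := by
    rw [mem_autGroup_iff F hNS]
    exact hsub _ ((mem_autGroup_iff E hNS ψN).mp hψNE)
  have hθF : ψN⁻¹ * βN ∈ F.autGroup (normalizerIn S Q) :=
    Subgroup.mul_mem _ (Subgroup.inv_mem _ hψNF) hβNF
  have hagree : ∀ x : normalizerIn S Q, (x : Ω) ∈ Q → ψN x = βN x := by
    intro x hx
    apply Subtype.ext
    rw [hψNx, hβNx, hψ'Q x hx]
    rfl
  have hfix : ∀ x : normalizerIn S Q, (x : Ω) ∈ Q → (ψN⁻¹ * βN) x = x := by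
    intro x hx
    rw [MulAut.mul_apply, ← hagree x hx, MulAut.inv_apply_self]
  have hmod : ∀ x : normalizerIn S Q, ((x⁻¹ * (ψN⁻¹ * βN) x : normalizerIn S Q) : Ω) ∈ Q := by
    intro g
    apply hQ.2 Q (isConj_refl F hQS)
    rw [mem_centralizerIn]
    refine ⟨hNS (Subtype.property _), fun q hq => ?_⟩
    have hgq : ((g * ⟨q, hQN hq⟩ * g⁻¹ : normalizerIn S Q) : Ω) ∈ Q := by
      have hg := (mem_normalizerIn.mp g.2).2
      exact (Subgroup.mem_normalizer_iff.mp hg q).mp hq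
    have h1 := hfix _ hgq
    rw [map_mul, map_mul, map_inv, hfix ⟨q, hQN hq⟩ hq] at h1
    have h2 : (⟨q, hQN hq⟩ : normalizerIn S Q) * (g⁻¹ * (ψN⁻¹ * βN) g) =
        (g⁻¹ * (ψN⁻¹ * βN) g) * ⟨q, hQN hq⟩ := by
      calc (⟨q, hQN hq⟩ : normalizerIn S Q) * (g⁻¹ * (ψN⁻¹ * βN) g)
          = g⁻¹ * (g * ⟨q, hQN hq⟩ * g⁻¹) * (ψN⁻¹ * βN) g := by group
        _ = g⁻¹ * ((ψN⁻¹ * βN) g * ⟨q, hQN hq⟩ * ((ψN⁻¹ * βN) g)⁻¹) * (ψN⁻¹ * βN) g := by
            rw [h1]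
        _ = (g⁻¹ * (ψN⁻¹ * βN) g) * ⟨q, hQN hq⟩ := by group
    exact congrArg Subtype.val h2
  obtain ⟨z, hzQ, -, hz⟩ := exists_conj_of_fixes_centric p hS F hF hNS hQN hQ hθF hfix hmod
  -- assemble: `β|_N = ψ' ∘ c_z`
  have hc : conjHom (normalizerIn S Q) (z : Ω) ∈ E.Hom (normalizerIn S Q) :=
    E.conj_mem hNS (hNS z.2)
  have hcN : ∀ x : normalizerIn S Q, conjHom (normalizerIn S Q) (z : Ω) x ∈ normalizerIn S Q := by
    intro x
    rw [conjHom_apply]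
    exact (z * x * z⁻¹).2
  refine comp_mem' E hc hψ' hcN (fun x => ?_)
  have h1 : βN x = ψN (z * x * z⁻¹) := by
    rw [← hz x, MulAut.mul_apply, MulAut.apply_inv_self]
  have h2 : ((βN x : normalizerIn S Q) : Ω) = ((ψN (z * x * z⁻¹) : normalizerIn S Q) : Ω) := by
    rw [h1]
  rw [hβNx, hψNx] at h2
  rw [h2]
  rfl

/-- Iterating the extension step: an automorphism `β ∈ Aut_F(S)` whose restriction to a `β`-invariant
centric subgroup is in `E` lies in `Aut_E(S)`. -/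
theorem mem_autGroup_of_centric [Finite S] (p : ℕ) [Fact p.Prime] (hS : IsPGroup p S)
    (F : FusionSystem S) (hF : F.IsSaturated p) {E : FusionSystem S} (hE : E.IsSaturated p)
    (hsub : E.IsSubsystemOf F) {β : MulAut S} (hβ : β ∈ F.autGroup S) :
    ∀ (k : ℕ) (Q : Subgroup Ω) (hQ : F.IsCentric Q), Nat.card S - Nat.card Q = k →
      (∀ x : S, (x : Ω) ∈ Q → ((β x : S) : Ω) ∈ Q) → resAut β Q hQ.1 ∈ E.Hom Q →
      β ∈ E.autGroup S := by
  intro k
  induction k using Nat.strong_induction_on with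
  | _ k ih =>
  intro Q hQ hk hβQ hmem
  by_cases hQS : Q = S
  · subst hQS
    rw [mem_autGroup_iff E le_rfl]
    have e : Q.subtype.comp β.toMonoidHom = resAut β Q le_rfl := by
      ext x; rfl
    rw [e]; exact hmem
  · obtain ⟨hN1, hN2⟩ := step p hS F hF hE hsub hβ hQ hβQ hmem
    have hNS : normalizerIn S Q ≤ S := normalizerIn_le
    have hQN : Q ≤ normalizerIn S Q := le_normalizerIn hQ.1
    have hNc : F.IsCentric (normalizerIn S Q) := isCentric_of_le F hQ hQN hNS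
    haveI : Finite Q := finite_of_le_finite hQ.1
    haveI : Finite (normalizerIn S Q) := finite_of_le_finite hNS
    obtain ⟨g, hgN, hgQ⟩ := exists_mem_normalizerIn_not_mem hS hQ.1 hQS
    have hlt : Nat.card Q < Nat.card (normalizerIn S Q) := by
      by_contra hcon
      have := Subgroup.eq_of_le_of_card_ge hQN (not_lt.mp hcon)
      exact hgQ (this ▸ hgN)
    have hle : Nat.card (normalizerIn S Q) ≤ Nat.card S := Subgroup.card_le_of_le hNS
    exact ih (Nat.card S - Nat.card (normalizerIn S Q)) (by omega) _ hNc rfl hN1 hN2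

/-- **Criterion.**  Let `E` be a weakly normal subsystem of `F` over the same group `S`, and
`β ∈ Aut_F(S)` an automorphism normalizing a centric subgroup `R` on which it induces a product of
`p`-elements of `Aut_F(R)`.  Then `β ∈ Aut_E(S)`. -/
theorem mem_autGroup_of_restrict_mem_closure [Finite S] (p : ℕ) [Fact p.Prime]
    (hS : IsPGroup p S) (F : FusionSystem S) (hF : F.IsSaturated p) {E : FusionSystem S}
    (hE : E.IsSaturated p) (hinv : E.IsInvariantIn F) {β : MulAut S} (hβ : β ∈ F.autGroup S)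
    {R : Subgroup Ω} (hR : F.IsCentric R) (γ : MulAut R)
    (hγ : γ ∈ Subgroup.closure {δ : MulAut R | δ ∈ F.autGroup R ∧ ∃ k : ℕ, δ ^ p ^ k = 1})
    (hγβ : ∀ x : R, ((γ x : R) : Ω) = ((β ⟨x, hR.1 x.2⟩ : S) : Ω)) : β ∈ E.autGroup S := by
  have hγE : γ ∈ E.autGroup R := by
    refine (Subgroup.closure_le (E.autGroup R)).mpr ?_ hγ
    rintro δ ⟨hδ, hδp⟩
    exact mem_autGroup_of_pow p hS F hF hinv hR.1 hδ hδp
  have hmem : resAut β R hR.1 ∈ E.Hom R := by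
    have h1 := (mem_autGroup_iff E hR.1 γ).mp hγE
    have e : R.subtype.comp γ.toMonoidHom = resAut β R hR.1 := by
      ext x
      exact hγβ x
    rw [← e]; exact h1
  refine mem_autGroup_of_centric p hS F hF hE hinv.1 hβ _ R hR rfl (fun x hx => ?_) hmem
  have := hγβ ⟨x, hx⟩
  have e : (⟨((⟨(x : Ω), hx⟩ : R) : Ω), hR.1 hx⟩ : S) = x := Subtype.ext rfl
  rw [e] at this
  rw [← this]
  exact (γ ⟨x, hx⟩).2

/-- A weakly normal subsystem over the same group `S` containing `Aut_F(S)` is everything. -/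
theorem hom_eq_of_autGroup_le {F E : FusionSystem S} (hinv : E.IsInvariantIn F)
    (hle : F.autGroup S ≤ E.autGroup S) (P : Subgroup Ω) : E.Hom P = F.Hom P := by
  apply Set.Subset.antisymm (hinv.1 P)
  intro φ hφ
  have hP : P ≤ S := (F.le_of_mem hφ).1
  obtain ⟨α, hα, φ₀, hφ₀, hv⟩ := hinv.2.2.2 P hP φ hφ
  have hφ₀S := (E.le_of_mem hφ₀).2
  have hαE := (mem_autGroup_iff E le_rfl α).mp (hle hα)
  refine comp_mem' E hφ₀ hαE hφ₀S (fun x => ?_)
  rw [hv x (hφ₀S x)]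
  rfl

end Cfsg.Agent.Helper25.SimpCrit
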