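import Mathlib
import Cfsg.Agent.Lib.Helper15.S62Defs

/-!
# S2362 piece S62-PARITY (helper25): a sum over a finite module, invariant under `x ↦ -x`, is odd
when the term at `0` is odd.
-/

set_option autoImplicit false

open Polynomial

namespace Cfsg.Agent.Helper15.S62

universe u

section linalg

variable {F : Type u} [Field F] {V : Type u} [AddCommGroup V] [Module F V]

theorem s62parity_neg_ne {C : Type u} [AddCommGroup C] [Module F C] (h2 : (2 : F) ≠ 0) (x : C)
    (hx : x ≠ 0) : -x ≠ x := by
  intro h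
  apply hx
  have h1 : (2 : F) • x = 0 := by
    rw [two_smul]
    nth_rewrite 1 [← h]
    exact neg_add_cancel x
  rcases smul_eq_zero.1 h1 with h | h
  · exact absurd h h2
  · exact h

/-- PIECE S62-PARITY -/
theorem odd_sum_of_neg_invariant {C : Type u} [AddCommGroup C] [Module F C] [Fintype C]
    (h2 : (2 : F) ≠ 0) (b : C → F) (hb0 : b 0 = 0) (hneg : ∀ x, b (-x) = b x) (n : F → ℕ) (c : F)
    (hodd : Odd (n c)) : Odd (∑ x : C, n (c - b x)) := by
  classical
  rw [← ZMod.natCast_eq_one_iff_odd] at hodd ⊢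
  rw [Nat.cast_sum, ← Finset.add_sum_erase _ _ (Finset.mem_univ (0 : C)), hb0, sub_zero, hodd]
  have hz : ∑ x ∈ (Finset.univ : Finset C).erase 0, ((n (c - b x) : ℕ) : ZMod 2) = 0 := by
    refine Finset.sum_involution (fun x _ => -x) ?_ ?_ ?_ ?_
    · intro a _
      rw [hneg a]
      have : ((n (c - b a) : ℕ) : ZMod 2) + (n (c - b a) : ℕ) = 2 * (n (c - b a) : ℕ) := by ring
      rw [this]
      have h20 : (2 : ZMod 2) = 0 := rfl
      rw [h20, zero_mul]
    · intro a ha _
      exact s62parity_neg_ne h2 a (Finset.ne_of_mem_erase ha)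
    · intro a ha
      rw [Finset.mem_erase]
      refine ⟨?_, Finset.mem_univ _⟩
      rw [neg_ne_zero]
      exact Finset.ne_of_mem_erase ha
    · intro a _
      exact neg_neg a
  rw [hz, add_zero]

end linalg

end Cfsg.Agent.Helper15.S62
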