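import Mathlib
import Cfsg.Agent.Lib.Helper11.TGBase
import Cfsg.Agent.Lib.Helper11.TGDefsE6
import Cfsg.Agent.Lib.Lead.TwE6Grp
import Cfsg.Agent.Lib.Lead.TwTorus
import Cfsg.Agent.Lib.Lead.TwFrob
import Cfsg.Agent.Lib.Helper6.RootCent

/-!
# S2406 piece E6ACT: the action of `hE6 k`; additivity of the class element of root 56
-/

set_option autoImplicit false

namespace Cfsg.Agent.Helper11.TG

open Cfsg Cfsg.Lie Cfsg.Agent.Lead.Chev Cfsg.Agent.Lead.Tw Cfsg.Agent.Helper11.CG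

/-- regrouping a conjugation by a product of four elements -/
theorem tge6act_conj4 {G : Type*} [Group G] (a b c d x : G) :
    ((a * b) * (c * d)) * x * ((a * b) * (c * d))⁻¹ =
      a * (b * (c * (d * x * d⁻¹) * c⁻¹) * b⁻¹) * a⁻¹ := by
  group

/-- swapping two commuting middle factors -/
theorem tge6act_swap {G : Type*} [Group G] (a b c d : G) (h : Commute c b) :
    a * b * (c * d) = a * c * (b * d) := by
  rw [mul_assoc, ← mul_assoc b c d, ← h.eq, mul_assoc, ← mul_assoc]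

section E6

variable {K : Type*} [Field K] [Fintype K] {q : ℕ} (hq : 1 < q) (hK : Fintype.card K = q ^ 2)
  (f : K ≃+* K) (hf : ∀ t, f t = t ^ q)

theorem e6_h_diag (k : K) (hk : k ≠ 0) : hE6 f k ∈ chevE6.diagonalSubgroup K := by
  have hfk : f k ≠ 0 := (map_ne_zero_iff f f.injective).mpr hk
  unfold hE6
  exact mul_mem
    (mul_mem (hGLt_mem_diagonal chevE6 (E6.hF (K := K)).xadd (chevE6.simple 0) (by decide +kernel) k hk)
      (hGLt_mem_diagonal chevE6 (E6.hF (K := K)).xadd (chevE6.simple 5) (by decide +kernel) (f k) hfk))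
    (mul_mem (hGLt_mem_diagonal chevE6 (E6.hF (K := K)).xadd (chevE6.simple 2) (by decide +kernel) k hk)
      (hGLt_mem_diagonal chevE6 (E6.hF (K := K)).xadd (chevE6.simple 4) (by decide +kernel) (f k) hfk))

theorem e6_h_act56 (k : K) (hk : k ≠ 0) (t : K) :
    hE6 f k * xGL chevE6 (E6.hF (K := K)).xadd 56 t * (hE6 f k)⁻¹ =
      xGL chevE6 (E6.hF (K := K)).xadd 56 (k * t) := by
  have hfk : f k ≠ 0 := (map_ne_zero_iff f f.injective).mpr hk
  unfold hE6
  rw [tge6act_conj4,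
    hGLt_conj chevE6 (E6.hF (K := K)) 4 (by decide +kernel) 56 (by decide +kernel) (f k) hfk,
    hGLt_conj chevE6 (E6.hF (K := K)) 2 (by decide +kernel) 56 (by decide +kernel) k hk,
    hGLt_conj chevE6 (E6.hF (K := K)) 5 (by decide +kernel) 56 (by decide +kernel) (f k) hfk,
    hGLt_conj chevE6 (E6.hF (K := K)) 0 (by decide +kernel) 56 (by decide +kernel) k hk]
  have c0 : chevE6.cartan 0 56 = 2 := by decide +kernel
  have c2 : chevE6.cartan 2 56 = -1 := by decide +kernel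
  have c4 : chevE6.cartan 4 56 = 0 := by decide +kernel
  have c5 : chevE6.cartan 5 56 = 0 := by decide +kernel
  rw [c0, c2, c4, c5]
  congr 1
  rw [zpow_zero, one_mul, one_mul, zpow_neg, zpow_one, zpow_ofNat, pow_two, mul_assoc,
    mul_inv_cancel_left₀ hk]

theorem e6_h_act42 (k : K) (hk : k ≠ 0) (t : K) :
    hE6 f k * xGL chevE6 (E6.hF (K := K)).xadd 42 t * (hE6 f k)⁻¹ =
      xGL chevE6 (E6.hF (K := K)).xadd 42 (k * t) := by
  have hfk : f k ≠ 0 := (map_ne_zero_iff f f.injective).mpr hk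
  unfold hE6
  rw [tge6act_conj4,
    hGLt_conj chevE6 (E6.hF (K := K)) 4 (by decide +kernel) 42 (by decide +kernel) (f k) hfk,
    hGLt_conj chevE6 (E6.hF (K := K)) 2 (by decide +kernel) 42 (by decide +kernel) k hk,
    hGLt_conj chevE6 (E6.hF (K := K)) 5 (by decide +kernel) 42 (by decide +kernel) (f k) hfk,
    hGLt_conj chevE6 (E6.hF (K := K)) 0 (by decide +kernel) 42 (by decide +kernel) k hk]
  have c0 : chevE6.cartan 0 42 = -1 := by decide +kernel
  have c2 : chevE6.cartan 2 42 = 2 := by decide +kernel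
  have c4 : chevE6.cartan 4 42 = 0 := by decide +kernel
  have c5 : chevE6.cartan 5 42 = 0 := by decide +kernel
  rw [c0, c2, c4, c5]
  congr 1
  rw [zpow_zero, one_mul, one_mul, zpow_neg, zpow_one, zpow_ofNat, pow_two, mul_assoc,
    inv_mul_cancel_left₀ hk]

theorem e6_add56 (t u : K) :
    yC E6.hF (E6.tw f) 2 (xGL chevE6 (E6.hF (K := K)).xadd 56 (t + u)) =
      yC E6.hF (E6.tw f) 2 (xGL chevE6 (E6.hF (K := K)).xadd 56 t) *
        yC E6.hF (E6.tw f) 2 (xGL chevE6 (E6.hF (K := K)).xadd 56 u) := by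
  have e1 : (E6.tw f).ρ 56 = 36 := by
    show Cfsg.Agent.Helper6.ChevC.GE6.gp.π 56 = 36
    decide +kernel
  have e2 : ∀ v : K, (E6.tw f).c 56 v = f v := by
    intro v
    show ((Cfsg.Agent.Helper6.ChevC.GE6.gp.ε 56 : ℤ) : K) * f v = f v
    have : Cfsg.Agent.Helper6.ChevC.GE6.gp.ε 56 = 1 := by decide +kernel
    rw [this]
    simp
  have hσ : ∀ v : K, (E6.tw f).σ (xGL chevE6 (E6.hF (K := K)).xadd 56 v) =
      xGL chevE6 (E6.hF (K := K)).xadd 36 (f v) := by
    intro v
    rw [(E6.tw f).map_x 56 (by decide +kernel), e1, e2]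
  have hc : Commute (xGL chevE6 (E6.hF (K := K)).xadd 36 (f t))
      (xGL chevE6 (E6.hF (K := K)).xadd 56 u) :=
    Cfsg.Agent.Lead.Tw.xGL_commute (E6.hF (K := K)) 36 56 (by decide +kernel) (by decide +kernel)
      (by decide +kernel) (f t) u
  rw [yC_two, yC_two, yC_two, hσ, hσ, hσ, map_add, ← xGL_mul, ← xGL_mul]
  exact tge6act_swap _ _ _ _ hc

end E6

end Cfsg.Agent.Helper11.TG
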