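import Mathlib
import Cfsg.Agent.S0253
import Cfsg.Agent.S2119
import Cfsg.Agent.Lib.Helper12.BinIco3

set_option autoImplicit false
set_option linter.unusedSectionVars false
set_option linter.unusedVariables false
set_option linter.style.haveILetI false

/-! PIECE OUT of S0690 for helper4: a perfect group with a normal subgroup `N ≃ SL(2,5)` is
`N · C(N)`. -/

namespace Cfsg.Agent.Helper25.ZassOut

open Cfsg.Agent.Helper12.BinIco
open scoped IsMulCommutative

/-! ### `SL(2,5)` is perfect -/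

theorem hom_comm_trivial {C : Type*} [CommGroup C] (f : Gam →* C) : ∀ g, f g = 1 := by
  have hr := gam_rel
  have hX3 : f gx ^ 3 = 1 := by rw [← map_pow, hr.hx, map_one]
  have hY5 : f gy ^ 5 = 1 := by rw [← map_pow, hr.hy, map_one]
  have hXY4 : (f gx * f gy) ^ 4 = 1 := by
    have h1 : ((gx * gy) ^ 2) ^ 2 = 1 := by rw [hr.hxy, hr.hz]
    have h2 := congrArg f h1
    rw [map_pow, map_pow, map_mul, map_one, ← pow_mul] at h2
    exact h2
  rw [mul_pow] at hXY4
  have hX4 : f gx ^ 4 = f gx := by rw [pow_succ, hX3, one_mul]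
  have hY4 : f gy ^ 4 = (f gy)⁻¹ := by
    apply eq_inv_of_mul_eq_one_left
    rw [← pow_succ]; exact hY5
  rw [hX4, hY4, mul_inv_eq_one] at hXY4
  have hX1 : f gx = 1 := by
    have h5 : f gx ^ 5 = 1 := by rw [hXY4]; exact hY5
    have h6 : f gx ^ 6 = 1 := by
      rw [show (6 : ℕ) = 3 * 2 from rfl, pow_mul, hX3, one_pow]
    calc f gx = f gx ^ 6 * (f gx ^ 5)⁻¹ := by group
      _ = 1 := by rw [h5, h6]; simp
  have hY1 : f gy = 1 := by rw [← hXY4]; exact hX1
  intro g
  have hg : g ∈ Subgroup.closure ({gx, gy} : Set Gam) := by rw [gam_gen]; trivial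
  have hle : Subgroup.closure ({gx, gy} : Set Gam) ≤ f.ker := by
    rw [Subgroup.closure_le]
    intro w hw
    simp only [Set.mem_insert_iff, Set.mem_singleton_iff] at hw
    rcases hw with rfl | rfl
    · exact MonoidHom.mem_ker.mpr hX1
    · exact MonoidHom.mem_ker.mpr hY1
  exact MonoidHom.mem_ker.mp (hle hg)

theorem perfect_of_equiv {N : Type*} [Group N] (e : N ≃* S25) : commutator N = ⊤ := by
  rw [eq_top_iff]
  intro n _
  have h := hom_comm_trivial
    ((Abelianization.of (G := N)).comp (gamEquiv.trans e.symm).toMonoidHom)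
    ((gamEquiv.trans e.symm).symm n)
  have h2 : Abelianization.of n = 1 := by simpa using h
  rw [← Abelianization.ker_of]
  exact MonoidHom.mem_ker.mpr h2

/-! ### The automorphism induced on a characteristic quotient -/

section bar

variable {N A : Type*} [Group N] [Group A] (π : N →* A) (hπ : Function.Surjective π)
  (hker : ∀ ψ : MulAut N, ∀ m : N, π m = 1 → π (ψ m) = 1)

/-- the endomorphism induced by an automorphism -/
noncomputable def barHom (ψ : MulAut N) : A →* A :=
  π.liftOfRightInverse (Function.surjInv hπ) (Function.rightInverse_surjInv hπ)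
    ⟨π.comp ψ.toMonoidHom, fun m hm => by
      rw [MonoidHom.mem_ker] at hm ⊢
      exact hker ψ m hm⟩

theorem barHom_apply (ψ : MulAut N) (m : N) : barHom π hπ hker ψ (π m) = π (ψ m) := by
  unfold barHom
  rw [MonoidHom.liftOfRightInverse_comp_apply]
  rfl

/-- the automorphism induced by an automorphism -/
noncomputable def bar (ψ : MulAut N) : MulAut A where
  toFun := barHom π hπ hker ψ
  invFun := barHom π hπ hker ψ⁻¹
  left_inv := by
    intro x
    obtain ⟨m, rfl⟩ := hπ x
    rw [barHom_apply, barHom_apply]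
    simp
  right_inv := by
    intro x
    obtain ⟨m, rfl⟩ := hπ x
    rw [barHom_apply, barHom_apply]
    simp
  map_mul' := map_mul _

theorem bar_apply (ψ : MulAut N) (m : N) : bar π hπ hker ψ (π m) = π (ψ m) :=
  barHom_apply π hπ hker ψ m

/-- the induced homomorphism of automorphism groups -/
noncomputable def barMap : MulAut N →* MulAut A where
  toFun := bar π hπ hker
  map_one' := by
    apply MulEquiv.ext
    intro x
    obtain ⟨m, rfl⟩ := hπ x
    rw [bar_apply]
    rfl
  map_mul' ψ₁ ψ₂ := by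
    apply MulEquiv.ext
    intro x
    obtain ⟨m, rfl⟩ := hπ x
    rw [MulAut.mul_apply, bar_apply, bar_apply, bar_apply]
    rfl

theorem barMap_apply (ψ : MulAut N) (m : N) : barMap π hπ hker ψ (π m) = π (ψ m) :=
  bar_apply π hπ hker ψ m

end bar

/-! ### Perfect groups act on `A₅` by inner automorphisms -/

theorem exists_conj_of_perfect {K A : Type*} [Group K] [Group A] (hK : commutator K = ⊤)
    (a : A ≃* alternatingGroup (Fin 5)) (φ : K →* MulAut A) (k : K) :
    ∃ x : A, φ k = MulAut.conj x := by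
  have hbij := Cfsg.Agent.S2119.result 5 (by norm_num) (by norm_num)
  let E : Equiv.Perm (Fin 5) ≃* MulAut ↥(alternatingGroup (Fin 5)) :=
    MulEquiv.ofBijective _ hbij
  let θ : K →* Equiv.Perm (Fin 5) :=
    E.symm.toMonoidHom.comp ((MulAut.congr a).toMonoidHom.comp φ)
  have hsign : Equiv.Perm.sign (θ k) = 1 := by
    have hle := Abelianization.commutator_subset_ker (Equiv.Perm.sign.comp θ)
    rw [hK] at hle
    exact MonoidHom.mem_ker.mp (hle (Subgroup.mem_top k))
  have hmem : θ k ∈ alternatingGroup (Fin 5) := Equiv.Perm.mem_alternatingGroup.mpr hsign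
  have hE : E (θ k) = MulAut.congr a (φ k) := by
    show E (E.symm (MulAut.congr a (φ k))) = _
    exact E.apply_symm_apply _
  refine ⟨a.symm ⟨θ k, hmem⟩, ?_⟩
  apply MulEquiv.ext
  intro w
  have h1 : (E (θ k)) (a w) = MulAut.congr a (φ k) (a w) := by rw [hE]
  have h2 : (E (θ k)) (a w)
      = ⟨θ k, hmem⟩ * a w * (⟨θ k, hmem⟩ : alternatingGroup (Fin 5))⁻¹ := by
    apply Subtype.ext
    show ((MulAut.conjNormal (θ k)) (a w) : Equiv.Perm (Fin 5)) = _
    rw [MulAut.conjNormal_apply]
    rfl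
  have h3 : MulAut.congr a (φ k) (a w) = a (φ k w) := by
    simp [MulAut.congr]
  rw [h2, h3] at h1
  rw [MulAut.conj_apply]
  apply a.injective
  rw [← h1, map_mul, map_mul, map_inv, a.apply_symm_apply]

/-! ### The piece -/

/-- PIECE OUT for helper4 (S0690). -/
theorem eq_sup_centralizer {H : Type*} [Group H] [Finite H] (hperf : commutator H = ⊤)
    (N : Subgroup H) [N.Normal]
    (e : Nonempty (N ≃* Matrix.SpecialLinearGroup (Fin 2) (ZMod 5))) :
    N ⊔ Subgroup.centralizer (N : Set H) = ⊤ := by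
  obtain ⟨e⟩ := e
  haveI : Fact (Nat.Prime 5) := ⟨by norm_num⟩
  obtain ⟨a₀⟩ := Cfsg.Agent.S0253.result (F := ZMod 5) (ZMod.card 5)
  -- the projection onto `A₅`
  let π : N →* alternatingGroup (Fin 5) :=
    a₀.toMonoidHom.comp ((QuotientGroup.mk' (Subgroup.center S25)).comp e.toMonoidHom)
  have hπdef : ∀ m : N, π m = a₀ (QuotientGroup.mk' (Subgroup.center S25) (e m)) := fun m => rfl
  have hπ : Function.Surjective π := by
    intro x
    obtain ⟨q, rfl⟩ := a₀.surjective x
    obtain ⟨s, rfl⟩ := QuotientGroup.mk'_surjective (Subgroup.center S25) q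
    refine ⟨e.symm s, ?_⟩
    rw [hπdef, e.apply_symm_apply]
  have hker_iff : ∀ m : N, π m = 1 ↔ m ∈ Subgroup.center N := by
    intro m
    have h1 : π m = 1 ↔ e m ∈ Subgroup.center S25 := by
      rw [hπdef, map_eq_one_iff a₀ a₀.injective, QuotientGroup.mk'_apply,
        QuotientGroup.eq_one_iff]
    rw [h1, Subgroup.mem_center_iff, Subgroup.mem_center_iff]
    constructor
    · intro h n
      apply e.injective
      rw [map_mul, map_mul]
      exact h (e n)
    · intro h s
      obtain ⟨n, rfl⟩ := e.surjective s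
      rw [← map_mul, ← map_mul, h n]
  have hker : ∀ ψ : MulAut N, ∀ m : N, π m = 1 → π (ψ m) = 1 := by
    intro ψ m hm
    rw [hker_iff] at hm ⊢
    rw [Subgroup.mem_center_iff] at hm ⊢
    intro n
    have h1 := hm (ψ⁻¹ n)
    have h2 := congrArg ψ h1
    simpa using h2
  have hNperf : commutator N = ⊤ := perfect_of_equiv e
  -- the action of `H` on `A₅`
  let φ : H →* MulAut (alternatingGroup (Fin 5)) :=
    (barMap π hπ hker).comp (MulAut.conjNormal (H := N))
  have hφ : ∀ (h : H) (m : N), φ h (π m) = π (MulAut.conjNormal h m) :=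
    fun h m => barMap_apply π hπ hker _ m
  rw [eq_top_iff]
  intro h _
  obtain ⟨x, hx⟩ := exists_conj_of_perfect hperf (MulEquiv.refl _) φ h
  obtain ⟨n, rfl⟩ := hπ x
  have key : ∀ m : N, π (MulAut.conjNormal h m) = π n * π m * (π n)⁻¹ := by
    intro m
    rw [← hφ, hx, MulAut.conj_apply]
  -- `g := n⁻¹ * h` acts trivially on `A₅`
  have hc : ∀ m : N, π (MulAut.conjNormal ((n : H)⁻¹ * h) m) = π m := by
    intro m
    have h1 : MulAut.conjNormal ((n : H)⁻¹ * h) m = n⁻¹ * (MulAut.conjNormal h m) * n := by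
      apply Subtype.ext
      simp only [MulAut.conjNormal_apply, Subgroup.coe_mul, Subgroup.coe_inv, mul_inv_rev,
        inv_inv]
      group
    rw [h1, map_mul, map_mul, key, map_inv]
    group
  -- the difference map is a homomorphism into the centre
  have hmemc : ∀ m : N, MulAut.conjNormal ((n : H)⁻¹ * h) m * m⁻¹ ∈ Subgroup.center N := by
    intro m
    rw [← hker_iff, map_mul, hc, map_inv, mul_inv_cancel]
  let δ : N →* Subgroup.center N := MonoidHom.mk'
    (fun m => ⟨MulAut.conjNormal ((n : H)⁻¹ * h) m * m⁻¹, hmemc m⟩) (by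
      intro m m'
      apply Subtype.ext
      have hcen : (MulAut.conjNormal ((n : H)⁻¹ * h) m' * m'⁻¹) * m⁻¹
          = m⁻¹ * (MulAut.conjNormal ((n : H)⁻¹ * h) m' * m'⁻¹) :=
        ((Subgroup.mem_center_iff.mp (hmemc m')) m⁻¹).symm
      show MulAut.conjNormal ((n : H)⁻¹ * h) (m * m') * (m * m')⁻¹
        = (MulAut.conjNormal ((n : H)⁻¹ * h) m * m⁻¹)
          * (MulAut.conjNormal ((n : H)⁻¹ * h) m' * m'⁻¹)
      rw [map_mul, mul_assoc (MulAut.conjNormal ((n : H)⁻¹ * h) m) m⁻¹, ← hcen]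
      group)
  have hδ : ∀ m : N, δ m = 1 := by
    intro m
    have hle := Abelianization.commutator_subset_ker δ
    rw [hNperf] at hle
    exact MonoidHom.mem_ker.mp (hle (Subgroup.mem_top m))
  have hfix : ∀ m : N, MulAut.conjNormal ((n : H)⁻¹ * h) m = m := by
    intro m
    have h1 := congrArg Subtype.val (hδ m)
    have h2 : MulAut.conjNormal ((n : H)⁻¹ * h) m * m⁻¹ = 1 := h1
    exact mul_inv_eq_one.mp h2
  have hgcen : (n : H)⁻¹ * h ∈ Subgroup.centralizer (N : Set H) := by
    rw [Subgroup.mem_centralizer_iff]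
    intro m hm
    have h1 := congrArg Subtype.val (hfix ⟨m, hm⟩)
    rw [MulAut.conjNormal_apply] at h1
    have h2 : (n : H)⁻¹ * h * m * ((n : H)⁻¹ * h)⁻¹ = m := h1
    calc m * ((n : H)⁻¹ * h)
        = ((n : H)⁻¹ * h * m * ((n : H)⁻¹ * h)⁻¹) * ((n : H)⁻¹ * h) := by rw [h2]
      _ = (n : H)⁻¹ * h * m := by group
  have hh : h = (n : H) * ((n : H)⁻¹ * h) := by group
  rw [hh]
  exact Subgroup.mul_mem_sup n.2 hgcen

/-! ### The non-perfect version -/

/-- There is a homomorphism `H →* ℤˣ` whose kernel is contained in `N · C(N)`. -/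
theorem exists_sign_hom {H : Type*} [Group H] (N : Subgroup H) [N.Normal]
    (e : N ≃* Matrix.SpecialLinearGroup (Fin 2) (ZMod 5)) :
    ∃ s : H →* ℤˣ, s.ker ≤ N ⊔ Subgroup.centralizer (N : Set H) := by
  haveI : Fact (Nat.Prime 5) := ⟨by norm_num⟩
  obtain ⟨a₀⟩ := Cfsg.Agent.S0253.result (F := ZMod 5) (ZMod.card 5)
  -- the projection onto `A₅`
  let π : N →* alternatingGroup (Fin 5) :=
    a₀.toMonoidHom.comp ((QuotientGroup.mk' (Subgroup.center S25)).comp e.toMonoidHom)
  have hπdef : ∀ m : N, π m = a₀ (QuotientGroup.mk' (Subgroup.center S25) (e m)) := fun m => rfl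
  have hπ : Function.Surjective π := by
    intro x
    obtain ⟨q, rfl⟩ := a₀.surjective x
    obtain ⟨s, rfl⟩ := QuotientGroup.mk'_surjective (Subgroup.center S25) q
    refine ⟨e.symm s, ?_⟩
    rw [hπdef, e.apply_symm_apply]
  have hker_iff : ∀ m : N, π m = 1 ↔ m ∈ Subgroup.center N := by
    intro m
    have h1 : π m = 1 ↔ e m ∈ Subgroup.center S25 := by
      rw [hπdef, map_eq_one_iff a₀ a₀.injective, QuotientGroup.mk'_apply,
        QuotientGroup.eq_one_iff]
    rw [h1, Subgroup.mem_center_iff, Subgroup.mem_center_iff]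
    constructor
    · intro h n
      apply e.injective
      rw [map_mul, map_mul]
      exact h (e n)
    · intro h s
      obtain ⟨n, rfl⟩ := e.surjective s
      rw [← map_mul, ← map_mul, h n]
  have hker : ∀ ψ : MulAut N, ∀ m : N, π m = 1 → π (ψ m) = 1 := by
    intro ψ m hm
    rw [hker_iff] at hm ⊢
    rw [Subgroup.mem_center_iff] at hm ⊢
    intro n
    have h1 := hm (ψ⁻¹ n)
    have h2 := congrArg ψ h1
    simpa using h2
  have hNperf : commutator N = ⊤ := perfect_of_equiv e
  -- the action of `H` on `A₅`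
  let φ : H →* MulAut (alternatingGroup (Fin 5)) :=
    (barMap π hπ hker).comp (MulAut.conjNormal (H := N))
  have hφ : ∀ (h : H) (m : N), φ h (π m) = π (MulAut.conjNormal h m) :=
    fun h m => barMap_apply π hπ hker _ m
  have hbij := Cfsg.Agent.S2119.result 5 (by norm_num) (by norm_num)
  let E : Equiv.Perm (Fin 5) ≃* MulAut ↥(alternatingGroup (Fin 5)) :=
    MulEquiv.ofBijective _ hbij
  let θ : H →* Equiv.Perm (Fin 5) := E.symm.toMonoidHom.comp φ
  refine ⟨Equiv.Perm.sign.comp θ, ?_⟩
  intro h hh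
  have hsign : Equiv.Perm.sign (θ h) = 1 := MonoidHom.mem_ker.mp hh
  have hmem : θ h ∈ alternatingGroup (Fin 5) := Equiv.Perm.mem_alternatingGroup.mpr hsign
  have hE : E (θ h) = φ h := by
    show E (E.symm (φ h)) = _
    exact E.apply_symm_apply _
  have hx : φ h = MulAut.conj (⟨θ h, hmem⟩ : alternatingGroup (Fin 5)) := by
    rw [← hE]
    show MulAut.conjNormal (θ h) = _
    exact MulAut.conjNormal_val (h := (⟨θ h, hmem⟩ : alternatingGroup (Fin 5)))
  obtain ⟨n, hn⟩ := hπ ⟨θ h, hmem⟩
  rw [← hn] at hx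
  have key : ∀ m : N, π (MulAut.conjNormal h m) = π n * π m * (π n)⁻¹ := by
    intro m
    rw [← hφ, hx, MulAut.conj_apply]
  -- `g := n⁻¹ * h` acts trivially on `A₅`
  have hc : ∀ m : N, π (MulAut.conjNormal ((n : H)⁻¹ * h) m) = π m := by
    intro m
    have h1 : MulAut.conjNormal ((n : H)⁻¹ * h) m = n⁻¹ * (MulAut.conjNormal h m) * n := by
      apply Subtype.ext
      simp only [MulAut.conjNormal_apply, Subgroup.coe_mul, Subgroup.coe_inv, mul_inv_rev,
        inv_inv]
      group
    rw [h1, map_mul, map_mul, key, map_inv]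
    group
  -- the difference map is a homomorphism into the centre
  have hmemc : ∀ m : N, MulAut.conjNormal ((n : H)⁻¹ * h) m * m⁻¹ ∈ Subgroup.center N := by
    intro m
    rw [← hker_iff, map_mul, hc, map_inv, mul_inv_cancel]
  let δ : N →* Subgroup.center N := MonoidHom.mk'
    (fun m => ⟨MulAut.conjNormal ((n : H)⁻¹ * h) m * m⁻¹, hmemc m⟩) (by
      intro m m'
      apply Subtype.ext
      have hcen : (MulAut.conjNormal ((n : H)⁻¹ * h) m' * m'⁻¹) * m⁻¹
          = m⁻¹ * (MulAut.conjNormal ((n : H)⁻¹ * h) m' * m'⁻¹) :=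
        ((Subgroup.mem_center_iff.mp (hmemc m')) m⁻¹).symm
      show MulAut.conjNormal ((n : H)⁻¹ * h) (m * m') * (m * m')⁻¹
        = (MulAut.conjNormal ((n : H)⁻¹ * h) m * m⁻¹)
          * (MulAut.conjNormal ((n : H)⁻¹ * h) m' * m'⁻¹)
      rw [map_mul, mul_assoc (MulAut.conjNormal ((n : H)⁻¹ * h) m) m⁻¹, ← hcen]
      group)
  have hδ : ∀ m : N, δ m = 1 := by
    intro m
    have hle := Abelianization.commutator_subset_ker δ
    rw [hNperf] at hle
    exact MonoidHom.mem_ker.mp (hle (Subgroup.mem_top m))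
  have hfix : ∀ m : N, MulAut.conjNormal ((n : H)⁻¹ * h) m = m := by
    intro m
    have h1 := congrArg Subtype.val (hδ m)
    have h2 : MulAut.conjNormal ((n : H)⁻¹ * h) m * m⁻¹ = 1 := h1
    exact mul_inv_eq_one.mp h2
  have hgcen : (n : H)⁻¹ * h ∈ Subgroup.centralizer (N : Set H) := by
    rw [Subgroup.mem_centralizer_iff]
    intro m hm
    have h1 := congrArg Subtype.val (hfix ⟨m, hm⟩)
    rw [MulAut.conjNormal_apply] at h1
    have h2 : (n : H)⁻¹ * h * m * ((n : H)⁻¹ * h)⁻¹ = m := h1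
    calc m * ((n : H)⁻¹ * h)
        = ((n : H)⁻¹ * h * m * ((n : H)⁻¹ * h)⁻¹) * ((n : H)⁻¹ * h) := by rw [h2]
      _ = (n : H)⁻¹ * h * m := by group
  have hh' : h = (n : H) * ((n : H)⁻¹ * h) := by group
  rw [hh']
  exact Subgroup.mul_mem_sup n.2 hgcen

/-- the non-perfect version (for helper20, S3359): `N · C(N)` has index at most two. -/
theorem index_sup_centralizer_le_two {H : Type*} [Group H] [Finite H] (N : Subgroup H)
    [N.Normal] (e : Nonempty (N ≃* Matrix.SpecialLinearGroup (Fin 2) (ZMod 5))) :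
    (N ⊔ Subgroup.centralizer (N : Set H)).index = 1 ∨
      (N ⊔ Subgroup.centralizer (N : Set H)).index = 2 := by
  obtain ⟨e⟩ := e
  obtain ⟨s, hs⟩ := exists_sign_hom N e
  have h1 : (N ⊔ Subgroup.centralizer (N : Set H)).index ∣ s.ker.index :=
    Subgroup.index_dvd_of_le hs
  have h2 : s.ker.index = Nat.card s.range := Subgroup.index_ker s
  have h3 : Nat.card s.range ∣ Nat.card ℤˣ := Subgroup.card_subgroup_dvd_card s.range
  have h4 : Nat.card ℤˣ = 2 := by
    rw [Nat.card_eq_fintype_card]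
    rfl
  rw [h2] at h1
  rw [h4] at h3
  exact (Nat.dvd_prime Nat.prime_two).mp (h1.trans h3)

end Cfsg.Agent.Helper25.ZassOut
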