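import Mathlib
import Cfsg.Agent.Lib.Helper3.BSWDefs

/-!
# S3282 piece HYPCONJ (helper3's skeleton; proof by helper25)

The hypotheses of the abstract Brauer--Suzuki--Wall theorem are invariant under conjugation.
-/

set_option autoImplicit false
set_option linter.unusedSectionVars false

namespace Cfsg.Agent.Helper3.BSW

universe u

variable {G : Type u} [Group G] [Finite G] {t s : G} {K : Subgroup G}

namespace HYPCONJ

theorem mem_Kc_iff (K : Subgroup G) (g x : G) : x ∈ Kc K g ↔ g⁻¹ * x * g ∈ K := by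
  unfold Kc
  rw [Subgroup.mem_map_equiv]
  simp [MulAut.conj_symm_apply]

theorem conj_mem_Kc (K : Subgroup G) (g : G) {x : G} (hx : x ∈ K) : g * x * g⁻¹ ∈ Kc K g := by
  rw [mem_Kc_iff]
  have : g⁻¹ * (g * x * g⁻¹) * g = x := by group
  rw [this]; exact hx

theorem exists_of_mem_Kc (K : Subgroup G) (g : G) {x : G} (hx : x ∈ Kc K g) :
    ∃ a ∈ K, x = g * a * g⁻¹ := by
  refine ⟨g⁻¹ * x * g, (mem_Kc_iff K g x).mp hx, ?_⟩
  group

theorem orderOf_conj (g x : G) : orderOf (g * x * g⁻¹) = orderOf x := by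
  have := orderOf_injective (MulAut.conj g).toMonoidHom (MulAut.conj g).injective x
  simpa [MulAut.conj_apply] using this

theorem mem_cent_conj (g a x : G) :
    x ∈ Subgroup.centralizer ({g * a * g⁻¹} : Set G) ↔
      g⁻¹ * x * g ∈ Subgroup.centralizer ({a} : Set G) := by
  rw [Subgroup.mem_centralizer_singleton_iff, Subgroup.mem_centralizer_singleton_iff]
  constructor
  · intro h
    have e : g⁻¹ * x * g * a = g⁻¹ * (x * (g * a * g⁻¹)) * g := by group
    rw [e, h]; group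
  · intro h
    have e : x * (g * a * g⁻¹) = g * (g⁻¹ * x * g * a) * g⁻¹ := by group
    rw [e, h]; group

theorem conj_mem_cent (g a : G) {x : G} (hx : x ∈ Subgroup.centralizer ({a} : Set G)) :
    g * x * g⁻¹ ∈ Subgroup.centralizer ({g * a * g⁻¹} : Set G) := by
  rw [mem_cent_conj]
  have : g⁻¹ * (g * x * g⁻¹) * g = x := by group
  rw [this]; exact hx

theorem mem_zpowers_conj (g a x : G) :
    x ∈ Subgroup.zpowers (g * a * g⁻¹) ↔ g⁻¹ * x * g ∈ Subgroup.zpowers a := by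
  constructor
  · rintro ⟨n, rfl⟩
    refine ⟨n, ?_⟩
    simp only
    rw [conj_zpow]
    group
  · rintro ⟨n, hn⟩
    refine ⟨n, ?_⟩
    simp only at hn ⊢
    rw [conj_zpow, hn]
    group

end HYPCONJ

open HYPCONJ in
/-- PIECE HYPCONJ (G5): the hypotheses are invariant under conjugation. -/
theorem hyp_conj (h : Hyp t s K) (g : G) : Hyp (g * t * g⁻¹) (g * s * g⁻¹) (Kc K g) := by
  refine ⟨?_, ?_, ?_, ?_, ?_, ?_, ?_, ?_, ?_, ?_, ?_, h.hconj⟩
  · rw [orderOf_conj]; exact h.ht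
  · intro x hx y hy
    obtain ⟨a, ha, rfl⟩ := exists_of_mem_Kc K g hx
    obtain ⟨b, hb, rfl⟩ := exists_of_mem_Kc K g hy
    have := h.hKab a ha b hb
    calc g * a * g⁻¹ * (g * b * g⁻¹) = g * (a * b) * g⁻¹ := by group
      _ = g * (b * a) * g⁻¹ := by rw [this]
      _ = g * b * g⁻¹ * (g * a * g⁻¹) := by group
  · intro x hx
    obtain ⟨a, ha, rfl⟩ := exists_of_mem_Kc K g hx
    exact conj_mem_cent g t (h.hKH ha)
  · exact conj_mem_Kc K g h.htK
  · rw [orderOf_conj]; exact h.hs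
  · exact conj_mem_cent g t h.hsH
  · intro hx
    rw [mem_Kc_iff] at hx
    have : g⁻¹ * (g * s * g⁻¹) * g = s := by group
    rw [this] at hx
    exact h.hsK hx
  · have e1 : Kc K g ⊔ Subgroup.zpowers (g * s * g⁻¹) =
        (K ⊔ Subgroup.zpowers s).map (MulAut.conj g).toMonoidHom := by
      rw [Subgroup.map_sup, MonoidHom.map_zpowers]
      rfl
    rw [e1, h.hH]
    ext x
    rw [Subgroup.mem_map_equiv, mem_cent_conj]
    simp [MulAut.conj_symm_apply]
  · ext x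
    rw [Subgroup.mem_inf, mem_Kc_iff, mem_cent_conj, mem_zpowers_conj, ← h.hCK, Subgroup.mem_inf]
  · intro x hx
    obtain ⟨a, ha, rfl⟩ := exists_of_mem_Kc K g hx
    have := h.hinv a ha
    calc g * s * g⁻¹ * (g * a * g⁻¹) * (g * s * g⁻¹)⁻¹ = g * (s * a * s⁻¹) * g⁻¹ := by group
      _ = (g * a * g⁻¹)⁻¹ := by rw [this]; group
  · intro g' hg'
    rw [eq_bot_iff]
    intro x hx
    rw [Subgroup.mem_inf] at hx
    obtain ⟨hx1, hx2⟩ := hx
    rw [Subgroup.mem_bot]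
    -- g'' = g⁻¹ g' g is not in C(t)
    have hg'' : g⁻¹ * g' * g ∉ Subgroup.centralizer ({t} : Set G) := by
      intro hc
      exact hg' ((mem_cent_conj g t g').mpr hc)
    have hTI := h.hTI _ hg''
    -- a = g⁻¹ x g lies in K and in K^{g''}
    have ha1 : g⁻¹ * x * g ∈ K := (mem_Kc_iff K g x).mp hx1
    have ha2 : g⁻¹ * x * g ∈ K.map (MulAut.conj (g⁻¹ * g' * g)).toMonoidHom := by
      have hx2' : x ∈ Kc (Kc K g) g' := hx2
      rw [mem_Kc_iff, mem_Kc_iff] at hx2'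
      have : g⁻¹ * x * g ∈ Kc K (g⁻¹ * g' * g) := by
        rw [mem_Kc_iff]
        have e : (g⁻¹ * g' * g)⁻¹ * (g⁻¹ * x * g) * (g⁻¹ * g' * g) =
            g⁻¹ * (g'⁻¹ * x * g') * g := by group
        rw [e]; exact hx2'
      exact this
    have : g⁻¹ * x * g ∈ K ⊓ K.map (MulAut.conj (g⁻¹ * g' * g)).toMonoidHom :=
      Subgroup.mem_inf.mpr ⟨ha1, ha2⟩
    rw [hTI, Subgroup.mem_bot] at this
    calc x = g * (g⁻¹ * x * g) * g⁻¹ := by group
      _ = 1 := by rw [this]; group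

/-- PIECE HYPCONJ. -/
theorem inR_conj (K : Subgroup G) (g y : G) : InR K (g * y * g⁻¹) ↔ InR K y := by
  unfold InR
  constructor
  · rintro ⟨h1, h2⟩
    refine ⟨?_, ?_⟩
    · rintro rfl; apply h1; group
    · intro g' hg'
      apply h2 (g' * g⁻¹)
      have : g' * g⁻¹ * (g * y * g⁻¹) * (g' * g⁻¹)⁻¹ = g' * y * g'⁻¹ := by group
      rw [this]; exact hg'
  · rintro ⟨h1, h2⟩
    refine ⟨?_, ?_⟩
    · intro h; apply h1
      calc y = g⁻¹ * (g * y * g⁻¹) * g := by group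
        _ = 1 := by rw [h]; group
    · intro g' hg'
      apply h2 (g' * g)
      have : g' * g * y * (g' * g)⁻¹ = g' * (g * y * g⁻¹) * g'⁻¹ := by group
      rw [this]; exact hg'

/-- PIECE HYPCONJ. -/
theorem inR_Kc (K : Subgroup G) (g y : G) : InR (Kc K g) y ↔ InR K y := by
  unfold InR
  constructor
  · rintro ⟨h1, h2⟩
    refine ⟨h1, ?_⟩
    intro g' hg'
    apply h2 (g * g')
    rw [HYPCONJ.mem_Kc_iff]
    have : g⁻¹ * (g * g' * y * (g * g')⁻¹) * g = g' * y * g'⁻¹ := by group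
    rw [this]; exact hg'
  · rintro ⟨h1, h2⟩
    refine ⟨h1, ?_⟩
    intro g' hg'
    rw [HYPCONJ.mem_Kc_iff] at hg'
    apply h2 (g⁻¹ * g')
    have : g⁻¹ * g' * y * (g⁻¹ * g')⁻¹ = g⁻¹ * (g' * y * g'⁻¹) * g := by group
    rw [this]; exact hg'

/-- PIECE HYPCONJ. -/
theorem rc_conj (g y : G) : rc (g * y * g⁻¹) = rc y := by
  unfold rc
  refine Nat.card_congr
    { toFun := fun u => ⟨g⁻¹ * u.1 * g, ?_, ?_⟩
      invFun := fun u => ⟨g * u.1 * g⁻¹, ?_, ?_⟩
      left_inv := ?_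
      right_inv := ?_ }
  · have := HYPCONJ.orderOf_conj g⁻¹ u.1
    rw [inv_inv] at this
    rw [this]; exact u.2.1
  · have h2 := u.2.2
    calc g⁻¹ * u.1 * g * y * (g⁻¹ * u.1 * g)⁻¹ = g⁻¹ * (u.1 * (g * y * g⁻¹) * u.1⁻¹) * g := by group
      _ = y⁻¹ := by rw [h2]; group
  · rw [HYPCONJ.orderOf_conj]; exact u.2.1
  · have h2 := u.2.2
    calc g * u.1 * g⁻¹ * (g * y * g⁻¹) * (g * u.1 * g⁻¹)⁻¹ = g * (u.1 * y * u.1⁻¹) * g⁻¹ := by group
      _ = (g * y * g⁻¹)⁻¹ := by rw [h2]; group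
  · intro u
    apply Subtype.ext
    show g * (g⁻¹ * u.1 * g) * g⁻¹ = u.1
    group
  · intro u
    apply Subtype.ext
    show g⁻¹ * (g * u.1 * g⁻¹) * g = u.1
    group

end Cfsg.Agent.Helper3.BSW
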