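import Mathlib
import Cfsg.Agent.Lib.Helper3.BSWDefs
import Cfsg.Agent.Lib.Helper19.BSWCARDKKCore
import Cfsg.Agent.Lib.Helper4.BSWHSTRUCT

/-!
# S3282 piece VALSA (helper3's skeleton; proof by helper25)

Case A: `St ∈ {0,-1}` on `R'` and `|R0| = (2k+1)² - 1`.
-/

set_option autoImplicit false
set_option linter.unusedSectionVars false
set_option linter.unusedVariables false

namespace Cfsg.Agent.Helper3.BSW

universe u

variable {G : Type u} [Group G] [Fintype G] {t s : G} {K : Subgroup G} {St : G → ℤ}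

namespace VALSA

/-- trichotomy `1`, `KK`, `R'` -/
theorem tri (K : Subgroup G) (g : G) :
    (g = 1 ∧ ¬ InKK K g ∧ ¬ InR K g) ∨ (g ≠ 1 ∧ InKK K g ∧ ¬ InR K g) ∨
      (g ≠ 1 ∧ ¬ InKK K g ∧ InR K g) := by
  unfold InKK InR
  by_cases h1 : g = 1
  · left
    exact ⟨h1, fun h => h.1 h1, fun h => h.1 h1⟩
  · right
    by_cases h2 : ∃ x : G, x * g * x⁻¹ ∈ K
    · left
      refine ⟨h1, ⟨h1, h2⟩, ?_⟩
      rintro ⟨-, h3⟩
      obtain ⟨x, hx⟩ := h2
      exact h3 x hx
    · right
      push Not at h2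
      exact ⟨h1, fun h => by obtain ⟨x, hx⟩ := h.2; exact h2 x hx, ⟨h1, h2⟩⟩

open Classical in
/-- the decomposition of a sum over `G` along `1`, `KK`, `R'` -/
theorem sum_decomp (K : Subgroup G) (f : G → ℤ) :
    ∑ g : G, f g = f 1 + ∑ g : G, (if InKK K g then f g else 0) +
      ∑ g : G, (if InR K g then f g else 0) := by
  have hpt : ∀ g : G, f g = (if g = 1 then f g else 0) + (if InKK K g then f g else 0) +
      (if InR K g then f g else 0) := by
    intro g
    rcases tri K g with ⟨h1, h2, h3⟩ | ⟨h1, h2, h3⟩ | ⟨h1, h2, h3⟩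
    · rw [if_pos h1, if_neg h2, if_neg h3]; ring
    · rw [if_neg h1, if_pos h2, if_neg h3]; ring
    · rw [if_neg h1, if_neg h2, if_pos h3]; ring
  have h1 : ∑ g : G, (if g = 1 then f g else 0) = f 1 := by
    rw [Finset.sum_ite_eq' Finset.univ (1 : G) f]
    simp
  calc ∑ g : G, f g = ∑ g : G, ((if g = 1 then f g else 0) + (if InKK K g then f g else 0) +
        (if InR K g then f g else 0)) := Finset.sum_congr rfl (fun g _ => hpt g)
    _ = _ := by rw [Finset.sum_add_distrib, Finset.sum_add_distrib, h1]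

/-- counting a predicate by an indicator sum -/
theorem card_eq_sum (P : G → Prop) [DecidablePred P] :
    (Nat.card {y : G // P y} : ℤ) = ∑ g : G, (if P g then (1 : ℤ) else 0) := by
  rw [Nat.card_eq_fintype_card, Fintype.card_subtype, Finset.sum_boole]

open Classical in
/-- a class function constant `= c` on `K#` is `= c` on `KK` -/
theorem sum_KK (K : Subgroup G) (f : G → ℤ) (c : ℤ)
    (hconj : ∀ g x : G, f (g * x * g⁻¹) = f x) (hK : ∀ x ∈ K, x ≠ 1 → f x = c) (e : ℤ → ℤ) :
    ∑ g : G, (if InKK K g then e (f g) else 0) = e c * (Nat.card {y : G // InKK K y} : ℤ) := by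
  rw [card_eq_sum, Finset.mul_sum]
  refine Finset.sum_congr rfl fun g _ => ?_
  by_cases hg : InKK K g
  · rw [if_pos hg, if_pos hg, mul_one]
    obtain ⟨h1, x, hx⟩ := hg
    have hne : x * g * x⁻¹ ≠ 1 := by
      intro h
      apply h1
      calc g = x⁻¹ * (x * g * x⁻¹) * x := by group
        _ = 1 := by rw [h]; group
    rw [← hconj x g, hK _ hx hne]
  · rw [if_neg hg, if_neg hg, mul_zero]

end VALSA

open Classical in
/-- the three basic identities of case A -/
theorem VALSA.basicA (h : Hyp t s K) (hA : StA K St) :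
    ∃ kk : ℤ, kk = (Nat.card {y : G // InKK K y} : ℤ) ∧
      kk = (2 * (Nat.card K : ℤ) + 1) * ((Nat.card K : ℤ) + 1) * ((Nat.card K : ℤ) - 1) ∧
      (2 * (Nat.card K : ℤ) + 1) + kk + ∑ g : G, (if InR K g then St g else 0) = 0 ∧
      (2 * (Nat.card K : ℤ) + 1) ^ 2 + kk + ∑ g : G, (if InR K g then St g ^ 2 else 0) =
        (Nat.card G : ℤ) ∧
      1 + kk + ∑ g : G, (if InR K g then (1 : ℤ) else 0) = (Nat.card G : ℤ) := by
  refine ⟨(Nat.card {y : G // InKK K y} : ℤ), rfl, ?_, ?_, ?_, ?_⟩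
  · have hk := (even_card_K h).2
    have hkk := CARDKK.card_KK_core h (card_H h)
    have hkk' : 2 * (Nat.card K : ℤ) * (Nat.card {y : G // InKK K y} : ℤ) =
        (Nat.card G : ℤ) * ((Nat.card K : ℤ) - 1) := by
      have : ((2 * Nat.card K * Nat.card {y : G // InKK K y} : ℕ) : ℤ) =
          ((Nat.card G * (Nat.card K - 1) : ℕ) : ℤ) := by rw [hkk]
      rw [Nat.cast_mul, Nat.cast_mul, Nat.cast_mul, Nat.cast_sub (by omega)] at this
      simpa using this
    rw [hA.card] at hkk'
    have hk0 : (2 * (Nat.card K : ℤ)) ≠ 0 := by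
      have : (0 : ℤ) < Nat.card K := by exact_mod_cast (by omega : 0 < Nat.card K)
      linarith
    apply mul_left_cancel₀ hk0
    rw [hkk']
    ring
  · have h1 := VALSA.sum_decomp K St
    rw [hA.sum, hA.one, VALSA.sum_KK K St 1 hA.conj hA.onK (fun z => z)] at h1
    linarith
  · have h1 := VALSA.sum_decomp K (fun g => St g ^ 2)
    rw [hA.sq, hA.one, VALSA.sum_KK K St 1 hA.conj hA.onK (fun z => z ^ 2)] at h1
    linarith
  · have h1 := VALSA.sum_decomp K (fun _ => (1 : ℤ))
    have h2 : ∑ g : G, (1 : ℤ) = (Nat.card G : ℤ) := by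
      rw [Finset.sum_const, Finset.card_univ, Nat.card_eq_fintype_card]
      simp
    rw [h2, VALSA.sum_KK K (fun _ => (1 : ℤ)) 1 (fun _ _ => rfl) (fun _ _ _ => rfl)
      (fun z => z)] at h1
    linarith

/-- PIECE VALSA (IIA1).  `G = {1} ⊔ KK ⊔ R'`, `St = 1` on `KK` (`hA.onK`, `hA.conj`), `|KK| = (2k+1)(k+1)(k-1)` (`card_KK`, `hA.card`):
`∑_{R'} St (St + 1) = 0`, every term is `≥ 0`. -/
theorem stA_vals (h : Hyp t s K) (hA : StA K St) {y : G} (hy : InR K y) : St y = 0 ∨ St y = -1 := by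
  classical
  obtain ⟨kk, -, hkk, e1, e2, -⟩ := VALSA.basicA h hA
  have hsum : ∑ g : G, (if InR K g then St g ^ 2 + St g else 0) = 0 := by
    have : ∀ g : G, (if InR K g then St g ^ 2 + St g else 0) =
        (if InR K g then St g ^ 2 else 0) + (if InR K g then St g else 0) := by
      intro g; split_ifs <;> ring
    rw [Finset.sum_congr rfl (fun g _ => this g), Finset.sum_add_distrib]
    have hc := hA.card
    nlinarith [hc, hkk, e1, e2]
  have hnn : ∀ g ∈ (Finset.univ : Finset G), 0 ≤ (if InR K g then St g ^ 2 + St g else 0) := by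
    intro g _
    split_ifs
    · have : St g ≤ -1 ∨ 0 ≤ St g := by omega
      rcases this with h1 | h1 <;> nlinarith
    · exact le_refl 0
  have := (Finset.sum_eq_zero_iff_of_nonneg hnn).mp hsum y (Finset.mem_univ y)
  rw [if_pos hy] at this
  have h2 : St y * (St y + 1) = 0 := by linarith [this]
  rcases mul_eq_zero.mp h2 with h3 | h3
  · left; exact h3
  · right; linarith

/-- PIECE VALSA (IIA1). `|R'| = (2k+1)(k+1)² - 1`, `#{St = -1} = -∑_{R'} St = (2k+1)k²`. -/
theorem card_R0A (h : Hyp t s K) (hA : StA K St) :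
    Nat.card {y : G // InR K y ∧ St y = 0} = (2 * Nat.card K + 1) ^ 2 - 1 := by
  classical
  obtain ⟨kk, -, hkk, e1, e2, e3⟩ := VALSA.basicA h hA
  have hpt : ∀ g : G, (if InR K g ∧ St g = 0 then (1 : ℤ) else 0) =
      (if InR K g then (1 : ℤ) else 0) + (if InR K g then St g else 0) := by
    intro g
    by_cases hg : InR K g
    · rcases stA_vals h hA hg with h0 | h0
      · rw [if_pos ⟨hg, h0⟩, if_pos hg, if_pos hg, h0]; ring
      · rw [if_neg (by rintro ⟨-, h1⟩; rw [h0] at h1; norm_num at h1), if_pos hg, if_pos hg, h0]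
        ring
    · rw [if_neg (fun hh => hg hh.1), if_neg hg, if_neg hg]; ring
  have hcard : (Nat.card {y : G // InR K y ∧ St y = 0} : ℤ) =
      (2 * (Nat.card K : ℤ) + 1) ^ 2 - 1 := by
    rw [VALSA.card_eq_sum, Finset.sum_congr rfl (fun g _ => hpt g), Finset.sum_add_distrib]
    have hc := hA.card
    nlinarith [hc, hkk, e1, e3]
  have h2 : Nat.card {y : G // InR K y ∧ St y = 0} + 1 = (2 * Nat.card K + 1) ^ 2 := by
    have : ((Nat.card {y : G // InR K y ∧ St y = 0} + 1 : ℕ) : ℤ) =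
        (((2 * Nat.card K + 1) ^ 2 : ℕ) : ℤ) := by
      push_cast
      linarith
    exact_mod_cast this
  omega

end Cfsg.Agent.Helper3.BSW
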