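import Mathlib
import Cfsg.Agent.Lib.Helper3.BSWDefs
import Cfsg.Agent.Lib.Helper19.BSWCARDKKCore
import Cfsg.Agent.Lib.Helper4.BSWHSTRUCT
import Cfsg.Agent.Lib.Helper25.BSWVALSA

/-!
# S3282 piece VALSB (helper3's skeleton; proof by helper25)

Case B: `St ∈ {0,1}` on `R'`, `|R0| = (2k-1)² - 1`, `|R1| = (2k-1)k(k-2)`.
-/

set_option autoImplicit false
set_option linter.unusedSectionVars false
set_option linter.unusedVariables false

namespace Cfsg.Agent.Helper3.BSW

universe u

variable {G : Type u} [Group G] [Fintype G] {t s : G} {K : Subgroup G} {St : G → ℤ}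

open Classical in
/-- the three basic identities of case B -/
theorem VALSB.basicB (h : Hyp t s K) (hB : StB K St) :
    ∃ kk : ℤ, kk = (Nat.card {y : G // InKK K y} : ℤ) ∧
      kk = (2 * (Nat.card K : ℤ) - 1) * ((Nat.card K : ℤ) - 1) * ((Nat.card K : ℤ) - 1) ∧
      (2 * (Nat.card K : ℤ) - 1) - kk + ∑ g : G, (if InR K g then St g else 0) = 0 ∧
      (2 * (Nat.card K : ℤ) - 1) ^ 2 + kk + ∑ g : G, (if InR K g then St g ^ 2 else 0) =
        (Nat.card G : ℤ) ∧
      1 + kk + ∑ g : G, (if InR K g then (1 : ℤ) else 0) = (Nat.card G : ℤ) := by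
  refine ⟨(Nat.card {y : G // InKK K y} : ℤ), rfl, ?_, ?_, ?_, ?_⟩
  · have hk := (even_card_K h).2
    have hkk := CARDKK.card_KK_core h (card_H h)
    have hkk' : 2 * (Nat.card K : ℤ) * (Nat.card {y : G // InKK K y} : ℤ) =
        (Nat.card G : ℤ) * ((Nat.card K : ℤ) - 1) := by
      have : ((2 * Nat.card K * Nat.card {y : G // InKK K y} : ℕ) : ℤ) =
          ((Nat.card G * (Nat.card K - 1) : ℕ) : ℤ) := by rw [hkk]
      rw [Nat.cast_mul, Nat.cast_mul, Nat.cast_mul, Nat.cast_sub (by omega)] at this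
      simpa using this
    rw [hB.card] at hkk'
    have hk0 : (2 * (Nat.card K : ℤ)) ≠ 0 := by
      have : (0 : ℤ) < Nat.card K := by exact_mod_cast (by omega : 0 < Nat.card K)
      linarith
    apply mul_left_cancel₀ hk0
    rw [hkk']
    ring
  · have h1 := VALSA.sum_decomp K St
    rw [hB.sum, hB.one, VALSA.sum_KK K St (-1) hB.conj hB.onK (fun z => z)] at h1
    linarith
  · have h1 := VALSA.sum_decomp K (fun g => St g ^ 2)
    rw [hB.sq, hB.one, VALSA.sum_KK K St (-1) hB.conj hB.onK (fun z => z ^ 2)] at h1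
    linarith
  · have h1 := VALSA.sum_decomp K (fun _ => (1 : ℤ))
    have h2 : ∑ g : G, (1 : ℤ) = (Nat.card G : ℤ) := by
      rw [Finset.sum_const, Finset.card_univ, Nat.card_eq_fintype_card]
      simp
    rw [h2, VALSA.sum_KK K (fun _ => (1 : ℤ)) 1 (fun _ _ => rfl) (fun _ _ _ => rfl)
      (fun z => z)] at h1
    linarith

/-- PIECE VALSB (IIB1). As VALSA with `St = -1` on `KK`, `|KK| = (2k-1)(k-1)²`: `∑_{R'} St (St - 1) = 0`. -/
theorem stB_vals (h : Hyp t s K) (hB : StB K St) {y : G} (hy : InR K y) : St y = 0 ∨ St y = 1 := by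
  classical
  obtain ⟨kk, -, hkk, e1, e2, -⟩ := VALSB.basicB h hB
  have hsum : ∑ g : G, (if InR K g then St g ^ 2 - St g else 0) = 0 := by
    have : ∀ g : G, (if InR K g then St g ^ 2 - St g else 0) =
        (if InR K g then St g ^ 2 else 0) - (if InR K g then St g else 0) := by
      intro g; split_ifs <;> ring
    rw [Finset.sum_congr rfl (fun g _ => this g), Finset.sum_sub_distrib]
    have hc := hB.card
    nlinarith [hc, hkk, e1, e2]
  have hnn : ∀ g ∈ (Finset.univ : Finset G), 0 ≤ (if InR K g then St g ^ 2 - St g else 0) := by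
    intro g _
    split_ifs
    · have : St g ≤ 0 ∨ 1 ≤ St g := by omega
      rcases this with h1 | h1 <;> nlinarith
    · exact le_refl 0
  have := (Finset.sum_eq_zero_iff_of_nonneg hnn).mp hsum y (Finset.mem_univ y)
  rw [if_pos hy] at this
  have h2 : St y * (St y - 1) = 0 := by linarith [this]
  rcases mul_eq_zero.mp h2 with h3 | h3
  · left; exact h3
  · right; linarith

/-- PIECE VALSB (IIB1). -/
theorem card_R1B (h : Hyp t s K) (hB : StB K St) :
    Nat.card {y : G // InR K y ∧ St y = 1} = (2 * Nat.card K - 1) * Nat.card K * (Nat.card K - 2) := by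
  classical
  obtain ⟨kk, -, hkk, e1, e2, e3⟩ := VALSB.basicB h hB
  have hk := (even_card_K h).2
  have hpt : ∀ g : G, (if InR K g ∧ St g = 1 then (1 : ℤ) else 0) =
      (if InR K g then St g else 0) := by
    intro g
    by_cases hg : InR K g
    · rcases stB_vals h hB hg with h0 | h0
      · rw [if_neg (by rintro ⟨-, h1⟩; rw [h0] at h1; norm_num at h1), if_pos hg, h0]
      · rw [if_pos ⟨hg, h0⟩, if_pos hg, h0]
    · rw [if_neg (fun hh => hg hh.1), if_neg hg]
  have hcard : (Nat.card {y : G // InR K y ∧ St y = 1} : ℤ) =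
      (2 * (Nat.card K : ℤ) - 1) * (Nat.card K : ℤ) * ((Nat.card K : ℤ) - 2) := by
    rw [VALSA.card_eq_sum, Finset.sum_congr rfl (fun g _ => hpt g)]
    nlinarith [hkk, e1]
  have : ((Nat.card {y : G // InR K y ∧ St y = 1} : ℕ) : ℤ) =
      (((2 * Nat.card K - 1) * Nat.card K * (Nat.card K - 2) : ℕ) : ℤ) := by
    rw [hcard, Nat.cast_mul, Nat.cast_mul, Nat.cast_sub (by omega), Nat.cast_sub (by omega)]
    push_cast
    ring
  exact_mod_cast this

/-- PIECE VALSB (IIB1). -/
theorem card_R0B (h : Hyp t s K) (hB : StB K St) :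
    Nat.card {y : G // InR K y ∧ St y = 0} = (2 * Nat.card K - 1) ^ 2 - 1 := by
  classical
  obtain ⟨kk, -, hkk, e1, e2, e3⟩ := VALSB.basicB h hB
  have hk := (even_card_K h).2
  have hpt : ∀ g : G, (if InR K g ∧ St g = 0 then (1 : ℤ) else 0) =
      (if InR K g then (1 : ℤ) else 0) - (if InR K g then St g else 0) := by
    intro g
    by_cases hg : InR K g
    · rcases stB_vals h hB hg with h0 | h0
      · rw [if_pos ⟨hg, h0⟩, if_pos hg, if_pos hg, h0]; ring
      · rw [if_neg (by rintro ⟨-, h1⟩; rw [h0] at h1; norm_num at h1), if_pos hg, if_pos hg, h0]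
        ring
    · rw [if_neg (fun hh => hg hh.1), if_neg hg, if_neg hg]; ring
  have hcard : (Nat.card {y : G // InR K y ∧ St y = 0} : ℤ) =
      (2 * (Nat.card K : ℤ) - 1) ^ 2 - 1 := by
    rw [VALSA.card_eq_sum, Finset.sum_congr rfl (fun g _ => hpt g), Finset.sum_sub_distrib]
    have hc := hB.card
    nlinarith [hc, hkk, e1, e3]
  have h2 : Nat.card {y : G // InR K y ∧ St y = 0} + 1 = (2 * Nat.card K - 1) ^ 2 := by
    have : ((Nat.card {y : G // InR K y ∧ St y = 0} + 1 : ℕ) : ℤ) =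
        (((2 * Nat.card K - 1) ^ 2 : ℕ) : ℤ) := by
      rw [Nat.cast_pow, Nat.cast_sub (by omega)]
      push_cast
      linarith
    exact_mod_cast this
  omega

end Cfsg.Agent.Helper3.BSW
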