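import Mathlib

/-!
# S2140, PIECE COUNT (helper25 for helper12): fixed points of a subgroup `E` on whose non-identity
elements a normalising group `Γ` is transitive.
-/

set_option autoImplicit false
set_option linter.unusedSectionVars false
set_option linter.unusedVariables false

namespace Cfsg.Agent.Helper12.MinIdx

section count

variable {G Ω : Type*} [Group G] [MulAction G Ω]

/-- conjugating the point conjugates the stabiliser in `E` -/
theorem count_stabOrd_smul (E : Subgroup G) (γ : G) (h1 : ∀ a ∈ E, γ * a * γ⁻¹ ∈ E)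
    (h2 : ∀ a ∈ E, γ⁻¹ * a * γ ∈ E) (ω : Ω) :
    Nat.card (E ⊓ MulAction.stabilizer G (γ • ω) : Subgroup G) =
      Nat.card (E ⊓ MulAction.stabilizer G ω : Subgroup G) := by
  apply Nat.card_congr
  refine
    { toFun := fun x => ⟨γ⁻¹ * x.1 * γ, Subgroup.mem_inf.2 ⟨h2 _ (Subgroup.mem_inf.1 x.2).1, ?_⟩⟩
      invFun := fun y => ⟨γ * y.1 * γ⁻¹, Subgroup.mem_inf.2 ⟨h1 _ (Subgroup.mem_inf.1 y.2).1, ?_⟩⟩
      left_inv := ?_
      right_inv := ?_ }
  · have hx := MulAction.mem_stabilizer_iff.1 (Subgroup.mem_inf.1 x.2).2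
    rw [MulAction.mem_stabilizer_iff]
    rw [mul_smul, mul_smul, hx, inv_smul_smul]
  · have hy := MulAction.mem_stabilizer_iff.1 (Subgroup.mem_inf.1 y.2).2
    rw [MulAction.mem_stabilizer_iff]
    rw [mul_smul, mul_smul, inv_smul_smul, hy]
  · intro x
    apply Subtype.ext
    simp [mul_assoc]
  · intro y
    apply Subtype.ext
    simp [mul_assoc]

end count

theorem count_fix {G Ω : Type*} [Group G] [MulAction G Ω] [Fintype Ω] (E Γ : Subgroup G) [Finite E]
    (hΓ : ∀ γ ∈ Γ, ∀ a ∈ E, γ * a * γ⁻¹ ∈ E)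
    (htr : ∀ a ∈ E, a ≠ 1 → ∀ b ∈ E, b ≠ 1 → ∃ γ ∈ Γ, γ * a * γ⁻¹ = b) (d : ℕ) :
    ∃ Fd : ℕ,
      (∀ a ∈ E, a ≠ 1 → Nat.card {ω : Ω // a • ω = ω ∧
        Nat.card (E ⊓ MulAction.stabilizer G ω : Subgroup G) = d} = Fd) ∧
      (Nat.card E - 1) * Fd = (d - 1) *
        Nat.card {ω : Ω // Nat.card (E ⊓ MulAction.stabilizer G ω : Subgroup G) = d} := by
  classical
  have : Fintype E := Fintype.ofFinite E
  -- independence of `a`
  have hindep : ∀ a ∈ E, a ≠ 1 → ∀ b ∈ E, b ≠ 1 →
      Nat.card {ω : Ω // a • ω = ω ∧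
        Nat.card (E ⊓ MulAction.stabilizer G ω : Subgroup G) = d} =
      Nat.card {ω : Ω // b • ω = ω ∧
        Nat.card (E ⊓ MulAction.stabilizer G ω : Subgroup G) = d} := by
    intro a ha ha1 b hb hb1
    obtain ⟨γ, hγ, hab⟩ := htr a ha ha1 b hb hb1
    have h1 : ∀ x ∈ E, γ * x * γ⁻¹ ∈ E := hΓ γ hγ
    have h2 : ∀ x ∈ E, γ⁻¹ * x * γ ∈ E := by
      intro x hx
      have := hΓ γ⁻¹ (Γ.inv_mem hγ) x hx
      simpa using this
    have h1' : ∀ x ∈ E, γ⁻¹ * x * γ⁻¹⁻¹ ∈ E := by
      intro x hx
      simpa using h2 x hx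
    have h2' : ∀ x ∈ E, γ⁻¹⁻¹ * x * γ⁻¹ ∈ E := by
      intro x hx
      simpa using h1 x hx
    apply Nat.card_congr
    refine
      { toFun := fun ω => ⟨γ • ω.1, ?_, ?_⟩
        invFun := fun ω => ⟨γ⁻¹ • ω.1, ?_, ?_⟩
        left_inv := ?_
        right_inv := ?_ }
    · rw [← hab, mul_smul, mul_smul, inv_smul_smul, ω.2.1]
    · rw [count_stabOrd_smul E γ h1 h2, ω.2.2]
    · have hb' : a = γ⁻¹ * b * γ := by rw [← hab]; group
      rw [hb', mul_smul, mul_smul, smul_inv_smul, ω.2.1]
    · rw [count_stabOrd_smul E γ⁻¹ h1' h2', ω.2.2]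
    · intro ω
      apply Subtype.ext
      simp
    · intro ω
      apply Subtype.ext
      simp
  -- the number of non-identity elements of `E` fixing `ω`
  have hfixcount : ∀ ω : Ω, ((Finset.univ : Finset E).filter
      (fun a : E => a ≠ 1 ∧ (a : G) • ω = ω)).card =
      Nat.card (E ⊓ MulAction.stabilizer G ω : Subgroup G) - 1 := by
    intro ω
    have hbij : Nat.card (E ⊓ MulAction.stabilizer G ω : Subgroup G) =
        ((Finset.univ : Finset E).filter (fun a : E => (a : G) • ω = ω)).card := by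
      rw [← Fintype.card_subtype, ← Nat.card_eq_fintype_card]
      apply Nat.card_congr
      refine
        { toFun := fun x => ⟨⟨x.1, x.2.1⟩, MulAction.mem_stabilizer_iff.1 x.2.2⟩
          invFun := fun y => ⟨y.1.1, y.1.2, MulAction.mem_stabilizer_iff.2 y.2⟩
          left_inv := fun x => rfl
          right_inv := fun y => rfl }
    have hsplit : ((Finset.univ : Finset E).filter (fun a : E => (a : G) • ω = ω)) =
        insert (1 : E) ((Finset.univ : Finset E).filter
          (fun a : E => a ≠ 1 ∧ (a : G) • ω = ω)) := by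
      ext a
      simp only [Finset.mem_filter, Finset.mem_univ, true_and, Finset.mem_insert]
      constructor
      · intro h
        by_cases ha : a = 1
        · left; exact ha
        · right; exact ⟨ha, h⟩
      · rintro (h | h)
        · rw [h]; simp
        · exact h.2
    rw [hbij, hsplit, Finset.card_insert_of_notMem (by simp)]
    simp
  -- double counting
  have hdc := Finset.sum_card_bipartiteAbove_eq_sum_card_bipartiteBelow
    (s := (Finset.univ : Finset E).filter (fun a : E => a ≠ 1))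
    (t := (Finset.univ : Finset Ω).filter
      (fun ω => Nat.card (E ⊓ MulAction.stabilizer G ω : Subgroup G) = d))
    (fun (a : E) (ω : Ω) => (a : G) • ω = ω)
  by_cases hE1 : ∃ a₀ ∈ E, a₀ ≠ 1
  · obtain ⟨a₀, ha₀, ha₀1⟩ := hE1
    refine ⟨Nat.card {ω : Ω // a₀ • ω = ω ∧
        Nat.card (E ⊓ MulAction.stabilizer G ω : Subgroup G) = d},
      fun a ha ha1 => hindep a ha ha1 a₀ ha₀ ha₀1, ?_⟩
    have hL : ∑ a ∈ (Finset.univ : Finset E).filter (fun a : E => a ≠ 1),
        (Finset.bipartiteAbove (fun (a : E) (ω : Ω) => (a : G) • ω = ω)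
          ((Finset.univ : Finset Ω).filter
            (fun ω => Nat.card (E ⊓ MulAction.stabilizer G ω : Subgroup G) = d)) a).card =
        (Nat.card E - 1) * Nat.card {ω : Ω // a₀ • ω = ω ∧
          Nat.card (E ⊓ MulAction.stabilizer G ω : Subgroup G) = d} := by
      rw [Finset.sum_const_nat (m := Nat.card {ω : Ω // a₀ • ω = ω ∧
          Nat.card (E ⊓ MulAction.stabilizer G ω : Subgroup G) = d})]
      · congr 1
        rw [Finset.filter_ne' Finset.univ (1 : E), Finset.card_erase_of_mem (Finset.mem_univ _),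
          Finset.card_univ, Nat.card_eq_fintype_card]
      · intro a ha
        rw [Finset.mem_filter] at ha
        have ha1 : (a : G) ≠ 1 := fun h => ha.2 (Subtype.ext h)
        rw [← hindep a.1 a.2 ha1 a₀ ha₀ ha₀1, Nat.card_eq_fintype_card, Fintype.card_subtype]
        congr 1
        ext ω
        simp only [Finset.bipartiteAbove, Finset.mem_filter, Finset.mem_univ, true_and]
        tauto
    have hR : ∑ ω ∈ (Finset.univ : Finset Ω).filter
          (fun ω => Nat.card (E ⊓ MulAction.stabilizer G ω : Subgroup G) = d),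
        (Finset.bipartiteBelow (fun (a : E) (ω : Ω) => (a : G) • ω = ω)
          ((Finset.univ : Finset E).filter (fun a : E => a ≠ 1)) ω).card =
        (d - 1) * Nat.card {ω : Ω //
          Nat.card (E ⊓ MulAction.stabilizer G ω : Subgroup G) = d} := by
      rw [Finset.sum_const_nat (m := d - 1), Nat.card_eq_fintype_card, Fintype.card_subtype, mul_comm]
      intro ω hω
      rw [Finset.mem_filter] at hω
      rw [← hω.2, ← hfixcount ω]
      congr 1
      ext a
      simp only [Finset.bipartiteBelow, Finset.mem_filter, Finset.mem_univ, true_and]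
    rw [← hL, ← hR]
    exact hdc
  · push Not at hE1
    refine ⟨0, fun a ha ha1 => absurd (hE1 a ha) ha1, ?_⟩
    rw [mul_zero]
    symm
    rw [Nat.mul_eq_zero]
    by_cases hd : d = 1
    · left; omega
    · right
      rw [Nat.card_eq_fintype_card, Fintype.card_eq_zero_iff]
      constructor
      rintro ⟨ω, hω⟩
      apply hd
      rw [← hω]
      have : (E ⊓ MulAction.stabilizer G ω : Subgroup G) = ⊥ := by
        rw [eq_bot_iff]
        intro x hx
        rw [Subgroup.mem_bot]
        exact hE1 x hx.1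
      rw [this]
      simp

theorem count_dvd {G Ω : Type*} [Group G] [MulAction G Ω] [Fintype Ω] (E : Subgroup G) [Finite E]
    (d : ℕ) :
    (Nat.card E / d) ∣
      Nat.card {ω : Ω // Nat.card (E ⊓ MulAction.stabilizer G ω : Subgroup G) = d} := by
  classical
  have hinv : ∀ e : E, ∀ ω : Ω, Nat.card (E ⊓ MulAction.stabilizer G ((e : G) • ω) : Subgroup G) =
      Nat.card (E ⊓ MulAction.stabilizer G ω : Subgroup G) := by
    intro e ω
    apply count_stabOrd_smul E (e : G)
    · intro a ha
      exact E.mul_mem (E.mul_mem e.2 ha) (E.inv_mem e.2)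
    · intro a ha
      exact E.mul_mem (E.mul_mem (E.inv_mem e.2) ha) e.2
  let act : MulAction E {ω : Ω // Nat.card (E ⊓ MulAction.stabilizer G ω : Subgroup G) = d} :=
    { smul := fun e ω => ⟨(e : G) • ω.1, by rw [hinv e ω.1]; exact ω.2⟩
      one_smul := fun ω => Subtype.ext (by
        show ((1 : E) : G) • ω.1 = ω.1
        simp)
      mul_smul := fun e e' ω => Subtype.ext (by
        show ((e * e' : E) : G) • ω.1 = (e : G) • ((e' : G) • ω.1)
        rw [Subgroup.coe_mul, mul_smul]) }
  have hsm : ∀ (e : E) (ω : {ω : Ω // Nat.card (E ⊓ MulAction.stabilizer G ω : Subgroup G) = d}),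
      ((e • ω : {ω : Ω // Nat.card (E ⊓ MulAction.stabilizer G ω : Subgroup G) = d}) : Ω) =
        (e : G) • ω.1 := fun e ω => rfl
  -- every orbit has `|E| / d` elements
  have horb : ∀ ω : {ω : Ω // Nat.card (E ⊓ MulAction.stabilizer G ω : Subgroup G) = d},
      Nat.card (MulAction.orbit E ω) = Nat.card E / d := by
    intro ω
    have h1' : Nat.card (MulAction.stabilizer E ω) =
        Nat.card (E ⊓ MulAction.stabilizer G ω.1 : Subgroup G) := by
      apply Nat.card_congr
      refine
        { toFun := fun x => ⟨x.1.1, Subgroup.mem_inf.2 ⟨x.1.2, ?_⟩⟩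
          invFun := fun y => ⟨⟨y.1, (Subgroup.mem_inf.1 y.2).1⟩, ?_⟩
          left_inv := fun x => rfl
          right_inv := fun y => rfl }
      · have hx := MulAction.mem_stabilizer_iff.1 x.2
        rw [MulAction.mem_stabilizer_iff]
        have := congrArg Subtype.val hx
        rw [hsm] at this
        exact this
      · have hy := MulAction.mem_stabilizer_iff.1 (Subgroup.mem_inf.1 y.2).2
        rw [MulAction.mem_stabilizer_iff]
        apply Subtype.ext
        rw [hsm]
        exact hy
    have h1 : Nat.card (MulAction.stabilizer E ω) = d := h1'.trans ω.2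
    have h2 := Subgroup.card_mul_index (MulAction.stabilizer E ω)
    rw [MulAction.index_stabilizer, h1] at h2
    have h3 : Nat.card (MulAction.orbit E ω) = (MulAction.orbit E ω).ncard :=
      Nat.card_coe_set_eq _
    rw [h3]
    by_cases hd : d = 0
    · exfalso
      have : 0 < Nat.card (MulAction.stabilizer E ω) := Nat.card_pos
      omega
    · rw [← h2, Nat.mul_div_cancel_left _ (Nat.pos_of_ne_zero hd)]
  have hsig := Nat.card_congr (MulAction.selfEquivSigmaOrbits E
    {ω : Ω // Nat.card (E ⊓ MulAction.stabilizer G ω : Subgroup G) = d})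
  rw [hsig, Nat.card_sigma]
  apply Finset.dvd_sum
  intro q _
  rw [horb]

end Cfsg.Agent.Helper12.MinIdx
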