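import Mathlib
import Cfsg.Agent.Lib.Helper25.MICOUNT

/-!
# S2140, PIECE DICH (helper25 for helper12): the dichotomy for the orbits of `E` on `Ω`.
-/

set_option autoImplicit false
set_option linter.unusedSectionVars false
set_option linter.unusedVariables false

namespace Cfsg.Agent.Helper12.MinIdx

section dich

variable {G Ω : Type*} [Group G] [MulAction G Ω] [Fintype Ω]

theorem dich_card_le (E : Subgroup G) (d : ℕ) :
    Nat.card {ω : Ω // Nat.card (E ⊓ MulAction.stabilizer G ω : Subgroup G) = d} ≤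
      Fintype.card Ω := by
  classical
  rw [Nat.card_eq_fintype_card]
  exact Fintype.card_subtype_le _

theorem dich_card_pos (E : Subgroup G) (ω : Ω) (d : ℕ)
    (h : Nat.card (E ⊓ MulAction.stabilizer G ω : Subgroup G) = d) :
    0 < Nat.card {ω : Ω // Nat.card (E ⊓ MulAction.stabilizer G ω : Subgroup G) = d} := by
  have : Nonempty {ω : Ω // Nat.card (E ⊓ MulAction.stabilizer G ω : Subgroup G) = d} :=
    ⟨⟨ω, h⟩⟩
  exact Nat.card_pos

theorem dich_first (E : Subgroup G) [Finite E]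
    (h : ∀ ω : Ω, Nat.card (E ⊓ MulAction.stabilizer G ω : Subgroup G) = 1 ∨
      Nat.card (E ⊓ MulAction.stabilizer G ω : Subgroup G) = Nat.card E) :
    ∀ ω : Ω, E ⊓ MulAction.stabilizer G ω = ⊥ ∨ E ≤ MulAction.stabilizer G ω := by
  intro ω
  rcases h ω with h1 | h1
  · left
    exact Subgroup.card_eq_one.1 h1
  · right
    have : E ⊓ MulAction.stabilizer G ω = E :=
      Subgroup.eq_of_le_of_card_ge inf_le_left h1.ge
    exact inf_eq_left.1 this

theorem dich_second (E : Subgroup G) (d0 mmax F : ℕ)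
    (hn : Nat.card {ω : Ω // Nat.card (E ⊓ MulAction.stabilizer G ω : Subgroup G) = d0} = mmax)
    (hm : Fintype.card Ω ≤ mmax)
    (hF : ∀ a ∈ E, a ≠ 1 → Nat.card {ω : Ω // a • ω = ω ∧
        Nat.card (E ⊓ MulAction.stabilizer G ω : Subgroup G) = d0} = F) :
    (∀ ω : Ω, Nat.card (E ⊓ MulAction.stabilizer G ω : Subgroup G) = d0) ∧
    Fintype.card Ω = mmax ∧
    ∀ a ∈ E, a ≠ 1 → Nat.card (MulAction.fixedBy Ω a) = F := by
  classical
  have hle := dich_card_le (Ω := Ω) E d0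
  have hcard : Fintype.card Ω = mmax := by omega
  have hall : ∀ ω : Ω, Nat.card (E ⊓ MulAction.stabilizer G ω : Subgroup G) = d0 := by
    intro ω
    by_contra hω
    have := Fintype.card_subtype_lt
      (p := fun ω : Ω => Nat.card (E ⊓ MulAction.stabilizer G ω : Subgroup G) = d0) hω
    rw [← Nat.card_eq_fintype_card] at this
    omega
  refine ⟨hall, hcard, ?_⟩
  intro a ha ha1
  rw [← hF a ha ha1]
  apply Nat.card_congr
  exact
    { toFun := fun ω => ⟨ω.1, ω.2, hall ω.1⟩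
      invFun := fun ω => ⟨ω.1, ω.2.1⟩
      left_inv := fun ω => rfl
      right_inv := fun ω => rfl }

theorem dich_divisors_4 {s : ℕ} (h : s ∣ 4) : s = 1 ∨ s = 2 ∨ s = 4 := by
  have := Nat.le_of_dvd (by norm_num) h
  interval_cases s <;> omega

theorem dich_divisors_16 {s : ℕ} (h : s ∣ 16) : s = 1 ∨ s = 2 ∨ s = 4 ∨ s = 8 ∨ s = 16 := by
  have := Nat.le_of_dvd (by norm_num) h
  interval_cases s <;> omega

theorem dich_divisors_27 {s : ℕ} (h : s ∣ 27) : s = 1 ∨ s = 3 ∨ s = 9 ∨ s = 27 := by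
  have := Nat.le_of_dvd (by norm_num) h
  interval_cases s <;> omega

end dich

theorem dich {G Ω : Type*} [Group G] [MulAction G Ω] [Fintype Ω] (E Γ : Subgroup G) [Finite E]
    (hΓ : ∀ γ ∈ Γ, ∀ a ∈ E, γ * a * γ⁻¹ ∈ E)
    (htr : ∀ a ∈ E, a ≠ 1 → ∀ b ∈ E, b ≠ 1 → ∃ γ ∈ Γ, γ * a * γ⁻¹ = b)
    (Q q mmax : ℕ)
    (hpar : (Q, q, mmax) = (4, 2, 6) ∨ (Q, q, mmax) = (16, 4, 20) ∨ (Q, q, mmax) = (27, 3, 39))
    (hE : Nat.card E = Q) (hm : Fintype.card Ω ≤ mmax) :
    (∀ ω : Ω, E ⊓ MulAction.stabilizer G ω = ⊥ ∨ E ≤ MulAction.stabilizer G ω) ∨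
    ((∀ ω : Ω, Nat.card (E ⊓ MulAction.stabilizer G ω : Subgroup G) * q = Q) ∧
      Fintype.card Ω = mmax ∧
      ∀ a ∈ E, a ≠ 1 → Nat.card (MulAction.fixedBy Ω a) * (Q - 1) = (Q / q - 1) * mmax) := by
  classical
  have hA := count_fix (Ω := Ω) E Γ hΓ htr
  have hB := count_dvd (Ω := Ω) E
  have hC := dich_card_le (Ω := Ω) E
  have hdiv : ∀ ω : Ω, Nat.card (E ⊓ MulAction.stabilizer G ω : Subgroup G) ∣ Q := by
    intro ω
    rw [← hE]
    exact Subgroup.card_dvd_of_le inf_le_left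
  have hpos := dich_card_pos (Ω := Ω) E
  rcases hpar with h | h | h
  · simp only [Prod.mk.injEq] at h
    obtain ⟨rfl, rfl, rfl⟩ := h
    rw [hE] at hA hB
    obtain ⟨F2, hF2, hF2'⟩ := hA 2
    obtain ⟨k2, hk2⟩ := hB 2
    have hC2 := hC 2
    have hn2 : Nat.card {ω : Ω // Nat.card (E ⊓ MulAction.stabilizer G ω : Subgroup G) = 2} = 0 ∨
        Nat.card {ω : Ω // Nat.card (E ⊓ MulAction.stabilizer G ω : Subgroup G) = 2} = 6 := by
      omega
    rcases hn2 with hn2 | hn2
    · left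
      apply dich_first
      intro ω
      rw [hE]
      rcases dich_divisors_4 (hdiv ω) with h | h | h
      · exact Or.inl h
      · have := hpos ω 2 h
        omega
      · exact Or.inr h
    · right
      obtain ⟨hall, hcard, hfix⟩ := dich_second E 2 6 F2 hn2 hm hF2
      refine ⟨fun ω => by rw [hall ω], hcard, fun a ha ha1 => ?_⟩
      rw [hfix a ha ha1]
      omega
  · simp only [Prod.mk.injEq] at h
    obtain ⟨rfl, rfl, rfl⟩ := h
    rw [hE] at hA hB
    obtain ⟨F2, hF2, hF2'⟩ := hA 2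
    obtain ⟨k2, hk2⟩ := hB 2
    have hC2 := hC 2
    obtain ⟨F4, hF4, hF4'⟩ := hA 4
    obtain ⟨k4, hk4⟩ := hB 4
    have hC4 := hC 4
    obtain ⟨F8, hF8, hF8'⟩ := hA 8
    obtain ⟨k8, hk8⟩ := hB 8
    have hC8 := hC 8
    have hn2 : Nat.card {ω : Ω // Nat.card (E ⊓ MulAction.stabilizer G ω : Subgroup G) = 2} = 0 := by
      omega
    have hn8 : Nat.card {ω : Ω // Nat.card (E ⊓ MulAction.stabilizer G ω : Subgroup G) = 8} = 0 := by
      omega
    have hn4 : Nat.card {ω : Ω // Nat.card (E ⊓ MulAction.stabilizer G ω : Subgroup G) = 4} = 0 ∨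
        Nat.card {ω : Ω // Nat.card (E ⊓ MulAction.stabilizer G ω : Subgroup G) = 4} = 20 := by
      omega
    rcases hn4 with hn4 | hn4
    · left
      apply dich_first
      intro ω
      rw [hE]
      rcases dich_divisors_16 (hdiv ω) with h | h | h | h | h
      · exact Or.inl h
      · have := hpos ω 2 h
        omega
      · have := hpos ω 4 h
        omega
      · have := hpos ω 8 h
        omega
      · exact Or.inr h
    · right
      obtain ⟨hall, hcard, hfix⟩ := dich_second E 4 20 F4 hn4 hm hF4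
      refine ⟨fun ω => by rw [hall ω], hcard, fun a ha ha1 => ?_⟩
      rw [hfix a ha ha1]
      omega
  · simp only [Prod.mk.injEq] at h
    obtain ⟨rfl, rfl, rfl⟩ := h
    rw [hE] at hA hB
    obtain ⟨F3, hF3, hF3'⟩ := hA 3
    obtain ⟨k3, hk3⟩ := hB 3
    have hC3 := hC 3
    obtain ⟨F9, hF9, hF9'⟩ := hA 9
    obtain ⟨k9, hk9⟩ := hB 9
    have hC9 := hC 9
    have hn3 : Nat.card {ω : Ω // Nat.card (E ⊓ MulAction.stabilizer G ω : Subgroup G) = 3} = 0 := by
      omega
    have hn9 : Nat.card {ω : Ω // Nat.card (E ⊓ MulAction.stabilizer G ω : Subgroup G) = 9} = 0 ∨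
        Nat.card {ω : Ω // Nat.card (E ⊓ MulAction.stabilizer G ω : Subgroup G) = 9} = 39 := by
      omega
    rcases hn9 with hn9 | hn9
    · left
      apply dich_first
      intro ω
      rw [hE]
      rcases dich_divisors_27 (hdiv ω) with h | h | h | h
      · exact Or.inl h
      · have := hpos ω 3 h
        omega
      · have := hpos ω 9 h
        omega
      · exact Or.inr h
    · right
      obtain ⟨hall, hcard, hfix⟩ := dich_second E 9 39 F9 hn9 hm hF9
      refine ⟨fun ω => by rw [hall ω], hcard, fun a ha ha1 => ?_⟩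
      rw [hfix a ha ha1]
      omega

end Cfsg.Agent.Helper12.MinIdx
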