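import Mathlib
import Cfsg.Prelude.Def_Classical
import Cfsg.Agent.Lib.Helper15.S74Defs
import Cfsg.Agent.Lib.Helper19.S62COMPL
import Cfsg.Agent.Lib.Helper28.S62ORTH

/-!
# S2474 piece S74-RESTR (helper25): utilities on restrictions to invariant subspaces.
-/

set_option autoImplicit false

open Cfsg.Agent.Helper15.S62

namespace Cfsg.Agent.Helper15.S74

universe u

variable {F : Type u} [Field F]

/-- S74-RESTR: utilities on restrictions to invariant subspaces. -/
theorem isom_restrict {V : Type u} [AddCommGroup V] [Module F V] (B : LinearMap.BilinForm F V)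
    (a : Module.End F V) (U : Submodule F V) (hU : Invar a U) (ha : Isom B a) :
    Isom (B.restrict U) (a.restrict hU) := by
  intro x y
  exact ha x y

theorem invar_pow {V : Type u} [AddCommGroup V] [Module F V] (a : Module.End F V)
    (U : Submodule F V) (hU : Invar a U) (j : ℕ) : Invar (a ^ j) U := by
  induction j with
  | zero =>
    intro v hv
    simpa using hv
  | succ j ih =>
    intro v hv
    rw [pow_succ, Module.End.mul_apply]
    exact ih _ (hU v hv)

theorem restrict_pow {V : Type u} [AddCommGroup V] [Module F V] (a : Module.End F V)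
    (U : Submodule F V) (hU : Invar a U) (j : ℕ) :
    (a.restrict hU) ^ j = (a ^ j).restrict (invar_pow a U hU j) :=
  Module.End.pow_restrict j hU (invar_pow a U hU j)

theorem restrict_commute {V : Type u} [AddCommGroup V] [Module F V] (a b : Module.End F V)
    (U : Submodule F V) (ha : Invar a U) (hb : Invar b U) (h : Commute a b) :
    Commute (a.restrict ha) (b.restrict hb) := by
  apply LinearMap.ext
  intro x
  apply Subtype.ext
  have := congrArg (fun f : Module.End F V => f (x : V)) h.eq
  simpa [Module.End.mul_apply] using this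

theorem restrict_geom_sum {V : Type u} [AddCommGroup V] [Module F V] (y : Module.End F V)
    (U : Submodule F V) (hU : Invar y U) (t : ℕ) (hUW : U ≤ Wpart y t) :
    ∑ i ∈ Finset.range t, (y.restrict hU) ^ i = 0 := by
  apply LinearMap.ext
  intro x
  apply Subtype.ext
  have hx := hUW x.2
  rw [mem_Wpart] at hx
  rw [LinearMap.sum_apply, LinearMap.zero_apply, Submodule.coe_zero, Submodule.coe_sum, ← hx]
  apply Finset.sum_congr rfl
  intro i _
  rw [restrict_pow y U hU i]
  rfl

theorem invar_wpart {V : Type u} [AddCommGroup V] [Module F V] (y a : Module.End F V) (t : ℕ)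
    (h : Commute a y) : Invar a (Wpart y t) :=
  fun _ hv => Wpart_invariant h hv

theorem invar_cpart {V : Type u} [AddCommGroup V] [Module F V] (y a : Module.End F V)
    (h : Commute a y) : Invar a (Cpart y) :=
  fun _ hv => Cpart_invariant h hv

/-- `B` restricted to `Wpart y t` stays left-nondegenerate
(`S62.isCompl_Cpart_Wpart`, `S62.orth_Wpart_Cpart`). -/
theorem lnd_restrict_wpart {V : Type u} [AddCommGroup V] [Module F V]
    (B : LinearMap.BilinForm F V) (hnd : LND B) (y : Module.End F V) (hy : Isom B y) (t : ℕ)
    (ht0 : 0 < t) (htF : (t : F) ≠ 0) (hyt : y ^ t = 1) : LND (B.restrict (Wpart y t)) := by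
  intro w hw
  apply Subtype.ext
  rw [Submodule.coe_zero]
  apply hnd
  intro v
  have hcompl := isCompl_Cpart_Wpart y t ht0 htF hyt
  obtain ⟨c, hc, w', hw', rfl⟩ : ∃ c ∈ Cpart y, ∃ w' ∈ Wpart y t, c + w' = v := by
    have := hcompl.sup_eq_top
    have hv : v ∈ Cpart y ⊔ Wpart y t := by rw [this]; exact Submodule.mem_top
    exact Submodule.mem_sup.1 hv
  rw [map_add, orth_Wpart_Cpart B y hy t htF w.2 hc, zero_add]
  exact hw ⟨w', hw'⟩

end Cfsg.Agent.Helper15.S74
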