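import Mathlib
import Cfsg.Prelude.Def_Classical
import Cfsg.Agent.Lib.Helper15.S74Defs
import Cfsg.Agent.Lib.Helper25.S74RESTR
import Cfsg.Agent.Lib.Helper19.S74MINSUB
import Cfsg.Agent.Lib.Helper27.S74ORDUTIL
import Cfsg.Agent.Lib.Helper27.S74PERPDIM
import Cfsg.Agent.Lib.Helper9.S74INVFORM
import Cfsg.Agent.Lib.Helper6.S74CNT

/-!
# S2474 piece S74-EVENGEN (helper25): a fixed-point-free isometry of odd prime order `t` of a
left-nondegenerate form lives in dimension `2d` with `t ∣ q^(2d) - 1`.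
-/

set_option autoImplicit false

open Cfsg.Agent.Helper15.S62

namespace Cfsg.Agent.Helper15.S74

universe u

variable {F : Type u} [Field F]

theorem s74_evengen_dvd_sq (q m t : ℕ) (h : t ∣ q ^ m - 1 ∨ t ∣ q ^ m + 1) :
    t ∣ q ^ (2 * m) - 1 := by
  have h1 : q ^ (2 * m) - 1 = (q ^ m - 1) * (q ^ m + 1) := by
    have : q ^ (2 * m) = q ^ m * q ^ m := by rw [two_mul, pow_add]
    rw [this]
    have hle : 1 ≤ q ^ m * q ^ m ∨ q ^ m = 0 := by
      rcases Nat.eq_zero_or_pos (q ^ m) with h0 | h0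
      · exact Or.inr h0
      · exact Or.inl (Nat.mul_pos h0 h0)
    rcases hle with hle | h0
    · zify [hle, Nat.one_le_iff_ne_zero.2 (Nat.pos_iff_ne_zero.1 (Nat.pos_of_mul_pos_left hle))]
      ring
    · rw [h0]
  rw [h1]
  rcases h with h | h
  · exact Dvd.dvd.mul_right h _
  · exact Dvd.dvd.mul_left h _

theorem s74_evengen_pow_eq_one {U : Type u} [AddCommGroup U] [Module F U] (y : Module.End F U)
    (t : ℕ) (hsum : ∑ i ∈ Finset.range t, y ^ i = 0) : y ^ t = 1 := by
  have := mul_geom_sum y t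
  rw [hsum, mul_zero] at this
  exact (sub_eq_zero.1 this.symm)

/-- S74-EVENGEN -/
theorem exists_small_of_form [Fintype F] {U : Type u} [AddCommGroup U] [Module F U]
    [FiniteDimensional F U] [Nontrivial U] (y : Module.End F U) (t : ℕ) (ht : t.Prime)
    (ht2 : t ≠ 2) (htF : (t : F) ≠ 0) (hsum : ∑ i ∈ Finset.range t, y ^ i = 0)
    (β : LinearMap.BilinForm F U) (hnd : LND β) (hinv : Isom β y) :
    ∃ d : ℕ, 1 ≤ d ∧ 2 * d ≤ Module.finrank F U ∧ t ∣ Fintype.card F ^ (2 * d) - 1 := by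
  have htop : (⊤ : Submodule F U) ≠ ⊥ := top_ne_bot
  obtain ⟨M, hM, -, hMne, hirr⟩ := exists_irred_le y ⊤ htop (fun v _ => Submodule.mem_top)
  haveI : Nontrivial M := hirr.1
  have hMW : M ≤ Wpart y t := by
    intro v _
    rw [mem_Wpart, ← LinearMap.sum_apply, hsum, LinearMap.zero_apply]
  have hsumM : ∑ i ∈ Finset.range t, (y.restrict hM) ^ i = 0 := restrict_geom_sum y M hM t hMW
  have hcnt := dvd_card_pow_sub_one (y.restrict hM) t ht htF hsumM
  have hmpos : 1 ≤ Module.finrank F M := Module.finrank_pos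
  by_cases hβM : β.restrict M = 0
  · -- totally isotropic
    refine ⟨Module.finrank F M, hmpos, ?_, s74_evengen_dvd_sq _ _ _ (Or.inl hcnt)⟩
    have hle : M ≤ β.orthogonal M := by
      intro x hx
      rw [LinearMap.BilinForm.mem_orthogonal_iff]
      intro a ha
      have := congrArg (fun b : LinearMap.BilinForm F M => b ⟨a, ha⟩ ⟨x, hx⟩) hβM
      exact this
    have h1 := finrank_add_finrank_orthogonal' β hnd M
    have h2 := Submodule.finrank_mono hle
    omega
  · -- nonzero form on `M`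
    have hpowM : (y.restrict hM) ^ t = 1 := s74_evengen_pow_eq_one _ t hsumM
    have hg2 : (y.restrict hM) ^ 2 ≠ 1 := by
      intro h2
      have := dvd_of_geom_sum_eq_zero (y.restrict hM) t ht htF hsumM 2 h2
      rcases (Nat.dvd_prime Nat.prime_two).1 this with h | h
      · exact ht.one_lt.ne' h
      · exact ht2 h
    obtain ⟨k, hk1, hk2, hz⟩ := invform (y.restrict hM) hirr t ht.pos hpowM hg2 (β.restrict M) hβM
      (isom_restrict β y M hM hinv)
    have hz1 := hz (y.restrict hM) (Commute.refl _) (isom_restrict β y M hM hinv)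
    have hdvd := dvd_of_geom_sum_eq_zero (y.restrict hM) t ht htF hsumM _ hz1
    refine ⟨k, hk1, ?_, s74_evengen_dvd_sq _ _ _ (Or.inr hdvd)⟩
    rw [← hk2]
    exact Submodule.finrank_le M

end Cfsg.Agent.Helper15.S74
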