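import Mathlib
import Cfsg.Agent.Lib.Helper13.F4TTab

/-!
# S2372 (helper13's farm-out), PIECE ARITH8 (helper25)

An odd prime `r` dividing `q⁴ + 1`, and the valuation identities.
-/

set_option autoImplicit false

namespace Cfsg.Agent.Helper13.F4T

/-- `4` does not divide `q⁴ + 1` -/
theorem f4tarith_four (q : ℕ) : ¬ 4 ∣ q ^ 4 + 1 := by
  intro hdvd
  have h0 : (q ^ 4 + 1) % 4 = 0 := Nat.mod_eq_zero_of_dvd hdvd
  have h : (q ^ 4 + 1) % 4 = ((q % 4) ^ 4 + 1) % 4 := by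
    simp [Nat.pow_mod, Nat.add_mod]
  rw [h] at h0
  have hk : q % 4 < 4 := Nat.mod_lt _ (by norm_num)
  interval_cases (q % 4) <;> simp at h0

/-- `3` does not divide `q⁴ + 1` -/
theorem f4tarith_three (q : ℕ) : ¬ 3 ∣ q ^ 4 + 1 := by
  intro hdvd
  have h0 : (q ^ 4 + 1) % 3 = 0 := Nat.mod_eq_zero_of_dvd hdvd
  have h : (q ^ 4 + 1) % 3 = ((q % 3) ^ 4 + 1) % 3 := by
    simp [Nat.pow_mod, Nat.add_mod]
  rw [h] at h0
  have hk : q % 3 < 3 := Nat.mod_lt _ (by norm_num)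
  interval_cases (q % 3) <;> simp at h0

theorem arith8_exists (q : ℕ) (hq : 2 ≤ q) : ∃ r : ℕ, GoodPrime8 q r := by
  have hm17 : 17 ≤ q ^ 4 + 1 := by
    have : 2 ^ 4 ≤ q ^ 4 := Nat.pow_le_pow_left hq 4
    omega
  have h4 := f4tarith_four q
  by_cases h2 : 2 ∣ q ^ 4 + 1
  · obtain ⟨k, hk⟩ := h2
    have hk1 : k ≠ 1 := by
      rintro rfl
      omega
    obtain ⟨r, hr, hrk⟩ := Nat.exists_prime_and_dvd hk1
    refine ⟨r, hr, ?_, ?_⟩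
    · rw [hk]
      exact Dvd.dvd.mul_left hrk 2
    · rintro rfl
      obtain ⟨j, hj⟩ := hrk
      apply h4
      rw [hk, hj]
      exact ⟨j, by ring⟩
  · have hm1 : q ^ 4 + 1 ≠ 1 := by omega
    obtain ⟨r, hr, hrm⟩ := Nat.exists_prime_and_dvd hm1
    refine ⟨r, hr, hrm, ?_⟩
    rintro rfl
    exact h2 hrm

/-- `q ≠ 0` for a good prime -/
theorem f4tarith_pos (q r : ℕ) (h : GoodPrime8 q r) : 1 ≤ q := by
  rcases Nat.eq_zero_or_pos q with rfl | hq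
  · exfalso
    have := h.dvd
    norm_num at this
    exact h.prime.one_lt.ne' this
  · exact hq

/-- `r ≠ 3` -/
theorem f4tarith_ne3 (q r : ℕ) (h : GoodPrime8 q r) : r ≠ 3 := by
  rintro rfl
  exact f4tarith_three q h.dvd

/-- `r` divides `q⁸ - 1` -/
theorem f4tarith_dvd_eight (q r : ℕ) (h : GoodPrime8 q r) : r ∣ q ^ 8 - 1 := by
  have hq := f4tarith_pos q r h
  have h1 : 1 ≤ q ^ 4 := Nat.one_le_pow _ _ hq
  have e : q ^ 8 - 1 = (q ^ 4 - 1) * (q ^ 4 + 1) := by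
    obtain ⟨s, hs⟩ : ∃ s, q ^ 4 = s + 1 := ⟨q ^ 4 - 1, by omega⟩
    have e8 : q ^ 8 = (q ^ 4) ^ 2 := by rw [← pow_mul]
    rw [e8, hs, Nat.add_sub_cancel]
    have : (s + 1) ^ 2 = s * (s + 1 + 1) + 1 := by ring
    rw [this, Nat.add_sub_cancel]
  rw [e]
  exact Dvd.dvd.mul_left h.dvd _

theorem arith8_coprime (q r : ℕ) (h : GoodPrime8 q r) : Nat.Coprime (q ^ 12 - 1) r ∧ r ≠ 3 := by
  refine ⟨?_, f4tarith_ne3 q r h⟩
  have hr := h.prime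
  have hq := f4tarith_pos q r h
  have h12 : 1 ≤ q ^ 12 := Nat.one_le_pow _ _ hq
  -- `r ∣ q¹² + 1`
  have hp : r ∣ q ^ 12 + 1 := by
    have h1 : q ^ 4 + 1 ∣ (q ^ 4) ^ 3 + 1 ^ 3 := Odd.nat_add_dvd_pow_add_pow _ _ (by decide)
    have e : (q ^ 4) ^ 3 + 1 ^ 3 = q ^ 12 + 1 := by rw [← pow_mul, one_pow]
    rw [e] at h1
    exact h.dvd.trans h1
  have hnd : ¬ r ∣ q ^ 12 - 1 := by
    intro hd
    have h2 : r ∣ (q ^ 12 + 1) - (q ^ 12 - 1) := Nat.dvd_sub hp hd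
    have e : (q ^ 12 + 1) - (q ^ 12 - 1) = 2 := by omega
    rw [e] at h2
    rcases (Nat.dvd_prime Nat.prime_two).1 h2 with h6 | h6
    · exact hr.one_lt.ne' h6
    · exact h.ne2 h6
  exact Nat.Coprime.symm ((Nat.Prime.coprime_iff_not_dvd hr).2 hnd)

theorem arith8_dvd (q r : ℕ) (h : GoodPrime8 q r) :
    r ∣ q ^ 24 * (q ^ 2 - 1) * (q ^ 6 - 1) * (q ^ 8 - 1) * (q ^ 12 - 1) := by
  apply Dvd.dvd.mul_right
  apply Dvd.dvd.mul_left
  exact f4tarith_dvd_eight q r h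

/-- `(P+1)ⁿ - 1 = P (1 + (P+1) + … + (P+1)ⁿ⁻¹)` -/
theorem f4tarith_geom (P n : ℕ) :
    (P + 1) ^ n - 1 = P * ∑ i ∈ Finset.range n, (P + 1) ^ i := by
  have h := geom_sum_mul_add P n
  rw [← h, Nat.add_sub_cancel, mul_comm]

/-- if `r ∣ P` and `r ∤ n` then `r` does not divide `1 + (P+1) + … + (P+1)ⁿ⁻¹` -/
theorem f4tarith_not_dvd_geom (r P n : ℕ) (hP : r ∣ P) (hn : ¬ r ∣ n) :
    ¬ r ∣ ∑ i ∈ Finset.range n, (P + 1) ^ i := by
  intro hd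
  apply hn
  rw [← ZMod.natCast_eq_zero_iff] at hd hP ⊢
  push_cast at hd
  rw [hP] at hd
  simpa using hd

theorem arith8_fact (q r : ℕ) (hq : 2 ≤ q) (h : GoodPrime8 q r) :
    ((q ^ 8) ^ 24 * ((q ^ 8) ^ 2 - 1) * ((q ^ 8) ^ 6 - 1) * ((q ^ 8) ^ 8 - 1) * ((q ^ 8) ^ 12 - 1)).factorization r =
      ((q ^ 8 - 1) ^ 4).factorization r := by
  have hrP := f4tarith_dvd_eight q r h
  have hQ1 : 1 ≤ q ^ 8 := Nat.one_le_pow _ _ (by omega)
  obtain ⟨P, hP⟩ : ∃ P, q ^ 8 = P + 1 := ⟨q ^ 8 - 1, by omega⟩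
  have hP0 : P ≠ 0 := by
    rintro rfl
    have : 2 ^ 8 ≤ q ^ 8 := Nat.pow_le_pow_left hq 8
    omega
  rw [hP] at hrP ⊢
  rw [Nat.add_sub_cancel] at hrP ⊢
  have hr := h.prime
  have h1 : ¬ r ∣ 1 := fun hd => hr.one_lt.ne' (Nat.dvd_one.1 hd)
  have hr2 : ¬ r ∣ 2 := by
    intro h2
    rcases (Nat.dvd_prime Nat.prime_two).1 h2 with h6 | h6
    · exact hr.one_lt.ne' h6
    · exact h.ne2 h6
  have hr3 : ¬ r ∣ 3 := by
    intro h2
    rcases (Nat.dvd_prime Nat.prime_three).1 h2 with h6 | h6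
    · exact hr.one_lt.ne' h6
    · exact f4tarith_ne3 q r h h6
  have hr6 : ¬ r ∣ 6 := by
    intro h2
    have : r ∣ 2 * 3 := h2
    rcases (Nat.Prime.dvd_mul hr).1 this with h5 | h5
    · exact hr2 h5
    · exact hr3 h5
  have hr8 : ¬ r ∣ 8 := by
    intro h2
    have : r ∣ 2 ^ 3 := h2
    exact hr2 (hr.dvd_of_dvd_pow this)
  have hr12 : ¬ r ∣ 12 := by
    intro h2
    have : r ∣ 2 ^ 2 * 3 := h2
    rcases (Nat.Prime.dvd_mul hr).1 this with h5 | h5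
    · exact hr2 (hr.dvd_of_dvd_pow h5)
    · exact hr3 h5
  have hn1 : ¬ r ∣ P + 1 := fun hd => h1 ((Nat.dvd_add_right hrP).1 hd)
  have hS2 := f4tarith_not_dvd_geom r P 2 hrP hr2
  have hS6 := f4tarith_not_dvd_geom r P 6 hrP hr6
  have hS8 := f4tarith_not_dvd_geom r P 8 hrP hr8
  have hS12 := f4tarith_not_dvd_geom r P 12 hrP hr12
  rw [f4tarith_geom P 2, f4tarith_geom P 6, f4tarith_geom P 8, f4tarith_geom P 12]
  generalize (∑ i ∈ Finset.range 2, (P + 1) ^ i) = S2 at hS2 ⊢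
  generalize (∑ i ∈ Finset.range 6, (P + 1) ^ i) = S6 at hS6 ⊢
  generalize (∑ i ∈ Finset.range 8, (P + 1) ^ i) = S8 at hS8 ⊢
  generalize (∑ i ∈ Finset.range 12, (P + 1) ^ i) = S12 at hS12 ⊢
  have e3 : (P + 1) ^ 24 * (P * S2) * (P * S6) * (P * S8) * (P * S12) =
      P ^ 4 * ((P + 1) ^ 24 * S2 * S6 * S8 * S12) := by ring
  rw [e3]
  have hnB : ¬ r ∣ (P + 1) ^ 24 * S2 * S6 * S8 * S12 := by
    intro hd
    rcases (Nat.Prime.dvd_mul hr).1 hd with hd | hd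
    · rcases (Nat.Prime.dvd_mul hr).1 hd with hd | hd
      · rcases (Nat.Prime.dvd_mul hr).1 hd with hd | hd
        · rcases (Nat.Prime.dvd_mul hr).1 hd with hd | hd
          · exact hn1 (hr.dvd_of_dvd_pow hd)
          · exact hS2 hd
        · exact hS6 hd
      · exact hS8 hd
    · exact hS12 hd
  have hB0 : (P + 1) ^ 24 * S2 * S6 * S8 * S12 ≠ 0 := fun h0 => hnB (h0 ▸ dvd_zero r)
  rw [Nat.factorization_mul (pow_ne_zero 4 hP0) hB0, Finsupp.add_apply,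
    Nat.factorization_eq_zero_of_not_dvd hnB, add_zero]

end Cfsg.Agent.Helper13.F4T
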