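import Mathlib
import Cfsg.Agent.Lib.Helper13.G2I_BASE1A
import Cfsg.Agent.Lib.Helper18.G2I_BASE2A
import Cfsg.Agent.Lib.Helper22.G2I_SL2A

/-!
# S4278 / S4279 piece MT (helper25 for helper13): if `-1` is a square, `m = n_{11} n_7` is `K`-conjugate into `T`

`-1 = i²`: `D = diag(i, -i) ∈ SL₂(F)` has `D² = -1`, so `P D P⁻¹ = nS` (`sl2_conj_nS`);
`(φ_L P φ_S P)⁻¹ m (φ_L P φ_S P) = φ_L D φ_S D = h_{11}(i) h_7(i) ∈ T`.
-/

set_option autoImplicit false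

namespace Cfsg.Agent.Helper13.G2I

open Cfsg Cfsg.Lie Cfsg.Agent.Lead.Chev Cfsg.Agent.Helper11.G2T Cfsg.Agent.Helper6.SL2Hom
  Cfsg.Agent.Helper6.ChevL Matrix

variable {F : Type*} [Field F]

/-- the product map `(A, B) ↦ φ_L A φ_S B` is multiplicative -/
theorem mt_psi_mul (A B A' B' : SpecialLinearGroup (Fin 2) F) :
    phiL F A * phiS F B * (phiL F A' * phiS F B') = phiL F (A * A') * phiS F (B * B') := by
  rw [map_mul, map_mul]
  exact (phi_comm A' B).symm.mul_mul_mul_comm _ _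

theorem mt_psi_one : phiL F 1 * phiS F 1 = 1 := by
  rw [map_one, map_one, mul_one]

theorem mt_psi_inv (A B : SpecialLinearGroup (Fin 2) F) :
    (phiL F A * phiS F B)⁻¹ = phiL F A⁻¹ * phiS F B⁻¹ := by
  apply inv_eq_of_mul_eq_one_right
  rw [mt_psi_mul, mul_inv_cancel, mul_inv_cancel, mt_psi_one]

theorem mI_toral [Fintype F] (h2 : (2 : F) ≠ 0) (hi : IsSquare (-1 : F)) :
    ∃ k ∈ KK F, k * mI F * k⁻¹ ∈ TT F := by
  obtain ⟨i, hi⟩ := hi
  have hi0 : i ≠ 0 := by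
    rintro rfl
    simp at hi
  obtain ⟨D, hD00, hD01, hD10, hD11⟩ : ∃ D : SpecialLinearGroup (Fin 2) F,
      D 0 0 = i ∧ D 0 1 = 0 ∧ D 1 0 = 0 ∧ D 1 1 = -i :=
    ⟨⟨!![i, 0; 0, -i], by rw [Matrix.det_fin_two_of]; linear_combination hi⟩, rfl, rfl, rfl, rfl⟩
  have hDD : D * D = -1 := by
    ext a b
    fin_cases a <;> fin_cases b <;>
      simp [Matrix.mul_apply, Fin.sum_univ_two, hD00, hD01, hD10, hD11] <;>
      linear_combination (-1 : F) * hi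
  obtain ⟨P, hP⟩ := sl2_conj_nS h2 D hDD
  refine ⟨(phiL F P * phiS F P)⁻¹, ?_, ?_⟩
  · exact (KK F).inv_mem ((mem_KK_iff _).mpr ⟨P, P, rfl⟩)
  · have e : (phiL F P * phiS F P)⁻¹ * mI F * ((phiL F P * phiS F P)⁻¹)⁻¹ = phiL F D * phiS F D := by
      rw [inv_inv, mt_psi_inv, mI, mt_psi_mul, mt_psi_mul, ← hP]
      congr 2 <;> group
    rw [e, phiL_diag i hi0 D hD00 hD01 hD10, phiS_diag i hi0 D hD00 hD01 hD10]
    exact (TT F).mul_mem (hGLt_mem_diagonal chevG2 (g2F F).xadd 11 (by decide) i hi0)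
      (hGLt_mem_diagonal chevG2 (g2F F).xadd 7 (by decide) i hi0)

end Cfsg.Agent.Helper13.G2I
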