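import Mathlib
import Cfsg.Agent.Lib.Helper13.G2I_BASE1B
import Cfsg.Agent.Lib.Helper18.G2I_BASE2A
import Cfsg.Agent.Lib.Helper19.G2I_BASE2C
import Cfsg.Agent.Lib.Helper22.G2I_SL2B
import Cfsg.Agent.Lib.Helper2.G2I_TNORM
import Cfsg.Agent.Lib.Helper2.G2I_TK
import Cfsg.Agent.Lib.Helper2.G2I_IDX2
import Cfsg.Agent.Lib.Helper25.G2I_MT

/-!
# S4278 / S4279 piece OUT3 (helper25 for helper13): if `-1` is a nonsquare, every involution of `C`
outside `K` is `K`-conjugate to `z' = h_b(-1)`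

`z' ∈ T`, `ev z' 11 = -1` is a nonsquare, so `z' ∈ C \ K`; `x = t z' ∈ K` (index `2`), `x = φ_L A φ_S B`;
`t² = 1` reads `φ_L (A σA) φ_S (B σB) = 1` (`σ = sconj`, `zP_phiL`, `zP_phiS`); the kernel of the product map
gives `A σA = B σB = ±1`; `-1` is impossible (`sconj_cocycle_neg`), `+1` gives `A = P⁻¹ σP`, `B = Q⁻¹ σQ`
and `k = φ_L P φ_S Q` conjugates `t` to `z'`.
-/

set_option autoImplicit false

namespace Cfsg.Agent.Helper13.G2I

open Cfsg Cfsg.Lie Cfsg.Agent.Lead.Chev Cfsg.Agent.Helper11.G2T Cfsg.Agent.Helper6.SL2Hom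
  Cfsg.Agent.Helper6.ChevL Matrix

variable {F : Type*} [Field F]

/-- the values of `z' = h_b(-1)` at `7`, `6`, `11` -/
theorem out3_ev_zP : ev (zP F) 7 = -1 ∧ ev (zP F) 6 = 1 ∧ ev (zP F) 11 = -1 := by
  have hm1 : (-1 : F) ≠ 0 := by norm_num
  obtain ⟨e7, e6⟩ := ev_h6 (F := F) (-1) hm1
  have e7' : ev (zP F) 7 = -1 := by
    rw [zP, e7]; norm_num
  have e6' : ev (zP F) 6 = 1 := by
    rw [zP, e6]; norm_num
  refine ⟨e7', e6', ?_⟩
  rw [ev_11 _ zP_mem, e7', e6']; norm_num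

theorem out3_zP_sq : zP F * zP F = 1 := by
  obtain ⟨e7, e6, _⟩ := out3_ev_zP (F := F)
  have hzT : zP F ∈ TT F := zP_mem
  apply eq_one_of_ev _ (mul_mem hzT hzT)
  · rw [ev_mul _ _ hzT hzT, e7]; norm_num
  · rw [ev_mul _ _ hzT hzT, e6]; norm_num

/-- conjugation by `z'` on `K` -/
theorem out3_zP_conj (A B : SpecialLinearGroup (Fin 2) F) :
    zP F * (phiL F A * phiS F B) * (zP F)⁻¹ = phiL F (sconj F A) * phiS F (sconj F B) := by
  rw [← zP_phiL, ← zP_phiS]; group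

theorem out3 [Fintype F] (h2 : (2 : F) ≠ 0) (hi : ¬ IsSquare (-1 : F)) (t : GL chevG2.Idx F)
    (htC : t ∈ CC F) (htK : t ∉ KK F) (h : t * t = 1) : ∃ k ∈ KK F, k * t * k⁻¹ = zP F := by
  obtain ⟨_, _, e11⟩ := out3_ev_zP (F := F)
  have hzT : zP F ∈ TT F := zP_mem
  have hzz : zP F * zP F = 1 := out3_zP_sq
  have hzinv : (zP F)⁻¹ = zP F := inv_eq_of_mul_eq_one_right hzz
  have hzK : zP F ∉ KK F := by
    rw [TT_mem_KK_iff h2 _ hzT, e11]; exact hi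
  have hzC : zP F ∈ CC F := (le_sup_right : TT F ≤ CC F) hzT
  have hx : t * zP F ∈ KK F := mul_mem_KK_of_not_mem h2 t (zP F) htC hzC htK hzK
  obtain ⟨A, B, hAB⟩ := (mem_KK_iff _).mp hx
  have ht : t = phiL F A * phiS F B * zP F := by
    rw [← hAB, mul_assoc, hzz, mul_one]
  have h1 : phiL F (A * sconj F A) * phiS F (B * sconj F B) = 1 := by
    rw [← mt_psi_mul, ← out3_zP_conj, hzinv]
    have h' : t * t = 1 := h
    rw [ht] at h'
    rw [← h']; group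
  rcases phi_prod_eq_one _ _ h1 with ⟨hA, hB⟩ | ⟨hA, _⟩
  · obtain ⟨P, hP⟩ := sconj_cocycle_one h2 A hA
    obtain ⟨Q, hQ⟩ := sconj_cocycle_one h2 B hB
    refine ⟨phiL F P * phiS F Q, (mem_KK_iff _).mpr ⟨P, Q, rfl⟩, ?_⟩
    have h3 : phiL F P * phiS F Q * (phiL F A * phiS F B) *
        (phiL F (sconj F P) * phiS F (sconj F Q))⁻¹ = 1 := by
      rw [mt_psi_inv, mt_psi_mul, mt_psi_mul, hP, hQ]
      have e1 : P * (P⁻¹ * sconj F P) * (sconj F P)⁻¹ = 1 := by group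
      have e2 : Q * (Q⁻¹ * sconj F Q) * (sconj F Q)⁻¹ = 1 := by group
      rw [e1, e2, mt_psi_one]
    rw [ht]
    calc phiL F P * phiS F Q * (phiL F A * phiS F B * zP F) * (phiL F P * phiS F Q)⁻¹
        = phiL F P * phiS F Q * (phiL F A * phiS F B) *
            (zP F * (phiL F P * phiS F Q) * (zP F)⁻¹)⁻¹ * zP F := by group
      _ = zP F := by rw [out3_zP_conj, h3, one_mul]
  · exact absurd (sconj_cocycle_neg h2 A hA) hi

end Cfsg.Agent.Helper13.G2I
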