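import Mathlib
import Cfsg.Agent.Lib.Helper13.InvNDefsC

/-!
# INVN PART B, PIECE SL2 (helper25): in characteristic 2, `n_r = x_{-r}(1) x_r(1) x_{-r}(1)⁻¹` and `n_r² = 1`.
-/

set_option autoImplicit false
set_option linter.unusedSectionVars false
set_option linter.unusedVariables false

namespace Cfsg.Agent.Helper13.InvN

open Cfsg Cfsg.Lie Cfsg.Agent.Lead.Chev Cfsg.Agent.Helper6.ChevL Cfsg.Agent.Helper6.SL2Hom

section abstract

variable {F : Type*} [Field F] [CharP F 2] {G : Type*} [Group G]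

/-- rank one, characteristic 2: `n = y(1) x(1) y(1)⁻¹` -/
theorem sl2_nn_eq_conj {X Y : F → G} (h : RankOne X Y) : nn X Y = Y 1 * X 1 * (Y 1)⁻¹ := by
  have hneg : (-1 : F) = 1 := CharTwo.neg_eq 1
  have hx2 : X 1 * X 1 = 1 := by
    rw [h.xadd, CharTwo.add_self_eq_zero, h.x_zero]
  have hyinv : (Y 1)⁻¹ = Y 1 := by
    rw [h.y_inv, hneg]
  have hxinv : (X 1)⁻¹ = X 1 := by
    rw [h.x_inv, hneg]
  have hnn : nn X Y = X 1 * Y 1 * X 1 := by
    unfold nn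
    rw [hneg]
  have hc := h.nconj 1
  rw [hneg] at hc
  -- hc : nn * X 1 * nn⁻¹ = Y 1
  have h1 : nn X Y * X 1 = Y 1 * nn X Y := by
    rw [← hc, inv_mul_cancel_right]
  rw [hnn] at h1
  -- h1 : X 1 * Y 1 * X 1 * X 1 = Y 1 * (X 1 * Y 1 * X 1)
  have h2 : X 1 * Y 1 = Y 1 * (X 1 * Y 1 * X 1) := by
    rw [← h1, mul_assoc (X 1 * Y 1), hx2, mul_one]
  rw [hnn, hyinv]
  -- goal : X 1 * Y 1 * X 1 = Y 1 * X 1 * Y 1
  calc X 1 * Y 1 * X 1 = Y 1 * (X 1 * Y 1 * X 1) * X 1 := by rw [← h2]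
    _ = Y 1 * X 1 * Y 1 * (X 1 * X 1) := by group
    _ = Y 1 * X 1 * Y 1 := by rw [hx2, mul_one]

/-- rank one, characteristic 2: `n² = 1` -/
theorem sl2_nn_sq {X Y : F → G} (h : RankOne X Y) : nn X Y * nn X Y = 1 := by
  rw [h.nn_sq, CharTwo.neg_eq, h.hh_one]

end abstract

variable {F : Type*} [Field F] {D : ChevalleyDatum} (hF : ChevFacts D F) (hS : CorSize D) (hI : CorInj D)
include hF hS hI

section char2

variable [CharP F 2]

/-- PIECE SL2 (1): in characteristic 2, `n_r = x_{-r}(1) x_r(1) x_{-r}(1)⁻¹` -/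
theorem nGL_eq_conj (hd : ∀ j < D.rank, D.cartan j (D.simple j) = 2) (r : ℕ) (hr : r < D.nroots) :
    nGL D hF.xadd r = xGL D hF.xadd (D.neg r) 1 * xGL D hF.xadd r 1 * (xGL D hF.xadd (D.neg r) 1)⁻¹ := by
  rw [← nn_eq hF r]
  exact sl2_nn_eq_conj (rankOne_root hF hd r hr)

/-- PIECE SL2 (2) -/
theorem nGL_sq (hd : ∀ j < D.rank, D.cartan j (D.simple j) = 2) (r : ℕ) (hr : r < D.nroots) :
    nGL D hF.xadd r * nGL D hF.xadd r = 1 := by
  rw [← nn_eq hF r]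
  exact sl2_nn_sq (rankOne_root hF hd r hr)

end char2

end Cfsg.Agent.Helper13.InvN
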