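import Mathlib
import Cfsg.Prelude.Def_JComponents
import Cfsg.Agent.Lib.Helper4.ZJElementary
import Cfsg.Agent.Lib.Helper14.Ambient

/-!
# KS12 toolkit T0.5 (helper25): invariance of the `J(T)`-component set-up under automorphisms of
the ambient group (in particular under conjugation), and dependence on `T` only through `J(T)`.
-/

set_option autoImplicit false
set_option linter.unusedSectionVars false
set_option linter.unusedVariables false
set_option linter.style.haveILetI false

namespace Cfsg.Agent.Helper25.JC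

open Cfsg
open scoped commutatorElement

universe u

variable {G : Type u} [Group G]

/-! ### generalities on `Subgroup.map` along an automorphism -/

theorem map_symm_map (φ : G ≃* G) (H : Subgroup G) :
    (H.map φ.toMonoidHom).map φ.symm.toMonoidHom = H := by
  rw [Subgroup.map_map, show φ.symm.toMonoidHom.comp φ.toMonoidHom = MonoidHom.id G from by
    ext x; simp, Subgroup.map_id]

theorem map_map_symm (φ : G ≃* G) (H : Subgroup G) :
    (H.map φ.symm.toMonoidHom).map φ.toMonoidHom = H := by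
  rw [Subgroup.map_map, show φ.toMonoidHom.comp φ.symm.toMonoidHom = MonoidHom.id G from by
    ext x; simp, Subgroup.map_id]

theorem map_le_map_iff' (φ : G ≃* G) {H K : Subgroup G} :
    H.map φ.toMonoidHom ≤ K.map φ.toMonoidHom ↔ H ≤ K :=
  Subgroup.map_le_map_iff_of_injective φ.injective

theorem map_eq_map_iff (φ : G ≃* G) {H K : Subgroup G} :
    H.map φ.toMonoidHom = K.map φ.toMonoidHom ↔ H = K :=
  (Subgroup.map_injective φ.injective).eq_iff

theorem mem_map_equiv' (φ : G ≃* G) {H : Subgroup G} {x : G} :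
    φ x ∈ H.map φ.toMonoidHom ↔ x ∈ H := by
  constructor
  · rintro ⟨y, hy, hyx⟩
    have : y = x := φ.injective hyx
    rwa [← this]
  · intro hx
    exact ⟨x, hx, rfl⟩

theorem centralizer_map (φ : G ≃* G) (X : Subgroup G) :
    Subgroup.centralizer ((X.map φ.toMonoidHom : Subgroup G) : Set G) =
      (Subgroup.centralizer (X : Set G)).map φ.toMonoidHom := by
  ext y
  constructor
  · intro hy
    refine ⟨φ.symm y, ?_, by simp⟩
    rw [Subgroup.mem_centralizer_iff] at hy
    show φ.symm y ∈ Subgroup.centralizer (X : Set G)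
    rw [Subgroup.mem_centralizer_iff]
    intro x hx
    have := hy (φ x) ⟨x, hx, rfl⟩
    apply φ.injective
    simpa using this
  · rintro ⟨z, hz, rfl⟩
    have hz : z ∈ Subgroup.centralizer (X : Set G) := hz
    rw [Subgroup.mem_centralizer_iff] at hz ⊢
    rintro _ ⟨x, hx, rfl⟩
    have := hz x hx
    show φ x * φ z = φ z * φ x
    rw [← map_mul, ← map_mul, this]

theorem normalizer_map (φ : G ≃* G) (H : Subgroup G) :
    Subgroup.normalizer ((H.map φ.toMonoidHom : Subgroup G) : Set G) =
      (Subgroup.normalizer (H : Set G)).map φ.toMonoidHom :=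
  (Subgroup.map_equiv_normalizer_eq H φ).symm

theorem isPGroup_map_iff (φ : G ≃* G) (p : ℕ) {H : Subgroup G} :
    IsPGroup p ↥(H.map φ.toMonoidHom) ↔ IsPGroup p ↥H := by
  constructor
  · intro h
    intro x
    obtain ⟨k, hk⟩ := h ⟨φ x, ⟨x, x.2, rfl⟩⟩
    refine ⟨k, ?_⟩
    have h1 := congrArg Subtype.val hk
    simp only [Subgroup.coe_pow, Subgroup.coe_one] at h1
    apply Subtype.ext
    apply φ.injective
    simp only [Subgroup.coe_pow, Subgroup.coe_one, map_pow, map_one]
    exact h1
  · intro h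
    rintro ⟨_, ⟨x, hx, rfl⟩⟩
    obtain ⟨k, hk⟩ := h ⟨x, hx⟩
    refine ⟨k, ?_⟩
    have h1 := congrArg Subtype.val hk
    simp only [Subgroup.coe_pow, Subgroup.coe_one] at h1
    apply Subtype.ext
    simp only [Subgroup.coe_pow, Subgroup.coe_one]
    show (φ x) ^ (p ^ k) = 1
    rw [← map_pow, h1, map_one]

theorem map_eq_bot_iff' (φ : G ≃* G) {H : Subgroup G} : H.map φ.toMonoidHom = ⊥ ↔ H = ⊥ :=
  Subgroup.map_eq_bot_iff_of_injective H φ.injective

/-! ### the constructions of `Def_JComponents` -/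

theorem omegaOne_map (φ : G ≃* G) (p : ℕ) (H : Subgroup G) :
    omegaOne p (H.map φ.toMonoidHom) = (omegaOne p H).map φ.toMonoidHom := by
  unfold omegaOne
  rw [MonoidHom.map_closure]
  congr 1
  ext y
  constructor
  · rintro ⟨⟨x, hx, rfl⟩, hy⟩
    refine ⟨x, ⟨hx, ?_⟩, rfl⟩
    apply φ.injective
    have : (φ.toMonoidHom x) ^ p = 1 := hy
    simpa using this
  · rintro ⟨x, ⟨hx, hxp⟩, rfl⟩
    refine ⟨⟨x, hx, rfl⟩, ?_⟩
    show (φ x) ^ p = 1
    rw [← map_pow, hxp, map_one]

theorem omegaCenterOf_map (φ : G ≃* G) (X : Subgroup G) :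
    omegaCenterOf (X.map φ.toMonoidHom) = (omegaCenterOf X).map φ.toMonoidHom := by
  unfold omegaCenterOf
  rw [centralizer_map, ← Subgroup.map_inf_eq _ _ _ φ.injective, omegaOne_map]

theorem pCoreOf_map (φ : G ≃* G) (p : ℕ) (K : Subgroup G) :
    pCoreOf p (K.map φ.toMonoidHom) = (pCoreOf p K).map φ.toMonoidHom :=
  Cfsg.Agent.Helper14.pCoreOf_map_equiv p φ K

theorem wOf_map (φ : G ≃* G) (K : Subgroup G) :
    wOf (K.map φ.toMonoidHom) = (wOf K).map φ.toMonoidHom := by
  unfold wOf
  rw [pCoreOf_map, omegaCenterOf_map, Subgroup.map_commutator]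

theorem thompson_map [Finite G] (φ : G ≃* G) (T : Subgroup G) :
    thompsonSubgroupOf 2 (T.map φ.toMonoidHom) = (thompsonSubgroupOf 2 T).map φ.toMonoidHom :=
  Cfsg.Agent.Helper4.ZJ.thompsonSubgroupOf_map φ T

theorem isSylowTwoIn_map (φ : G ≃* G) {S L : Subgroup G} :
    IsSylowTwoIn (S.map φ.toMonoidHom) (L.map φ.toMonoidHom) ↔ IsSylowTwoIn S L := by
  unfold IsSylowTwoIn
  rw [map_le_map_iff', isPGroup_map_iff, Subgroup.relIndex_map_map_of_injective _ _ φ.injective]

/-- `IsSylowTwoIn` for an arbitrary first argument inside a mapped second argument -/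
theorem isSylowTwoIn_map' (φ : G ≃* G) {S' L : Subgroup G} :
    IsSylowTwoIn S' (L.map φ.toMonoidHom) ↔ IsSylowTwoIn (S'.map φ.symm.toMonoidHom) L := by
  conv_lhs => rw [← map_map_symm φ S']
  exact isSylowTwoIn_map φ

theorem closure_odd_map (φ : G ≃* G) (K : Subgroup G) :
    Subgroup.closure {g : G | g ∈ K.map φ.toMonoidHom ∧ Odd (orderOf g)} =
      (Subgroup.closure {g : G | g ∈ K ∧ Odd (orderOf g)}).map φ.toMonoidHom := by
  rw [MonoidHom.map_closure]
  congr 1
  ext y
  constructor
  · rintro ⟨⟨x, hx, rfl⟩, hy⟩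
    refine ⟨x, ⟨hx, ?_⟩, rfl⟩
    have : orderOf (φ x) = orderOf x := orderOf_injective φ.toMonoidHom φ.injective x
    have hy' : Odd (orderOf (φ x)) := hy
    rwa [this] at hy'
  · rintro ⟨x, ⟨hx, hxo⟩, rfl⟩
    refine ⟨⟨x, hx, rfl⟩, ?_⟩
    have : orderOf (φ x) = orderOf x := orderOf_injective φ.toMonoidHom φ.injective x
    show Odd (orderOf (φ x))
    rwa [this]

/-- `IsJComponent` depends on `T` only through `J(T)`. -/
theorem isJComponent_congr {T T' K : Subgroup G}
    (h : thompsonSubgroupOf 2 T = thompsonSubgroupOf 2 T') :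
    IsJComponent T K ↔ IsJComponent T' K := by
  unfold IsJComponent
  rw [h]

theorem jComponentsZero_congr {T T' K : Subgroup G}
    (h : thompsonSubgroupOf 2 T = thompsonSubgroupOf 2 T') :
    K ∈ jComponentsZero T ↔ K ∈ jComponentsZero T' := by
  unfold jComponentsZero
  show (IsJComponent T K ∧ _) ↔ (IsJComponent T' K ∧ _)
  rw [isJComponent_congr h, h]

theorem isJComponent_map_of [Finite G] (φ : G ≃* G) {T K : Subgroup G} (h : IsJComponent T K) :
    IsJComponent (T.map φ.toMonoidHom) (K.map φ.toMonoidHom) := by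
  obtain ⟨h1, h2, h3, h4, h5, h6⟩ := h
  refine ⟨?_, ?_, ?_, ?_, ?_, ?_⟩
  · rw [closure_odd_map, h1]
  · rw [thompson_map, ← Subgroup.map_commutator, h2]
  · rw [pCoreOf_map, Subgroup.relIndex_map_map_of_injective _ _ φ.injective, h3]
  · intro S' hS' hJS'
    rw [thompson_map, ← Subgroup.map_sup, isSylowTwoIn_map'] at hS'
    have hJ : thompsonSubgroupOf 2 T ≤ S'.map φ.symm.toMonoidHom := by
      rw [thompson_map] at hJS'
      have := Subgroup.map_mono (f := φ.symm.toMonoidHom) hJS'
      rwa [map_symm_map] at this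
    have := h4 _ hS' hJ
    have h7 := congrArg (Subgroup.map φ.toMonoidHom) this
    rw [← thompson_map, map_map_symm, ← thompson_map] at h7
    exact h7
  · rw [wOf_map, Subgroup.card_map_of_injective φ.injective, h5]
  · rw [wOf_map]
    rintro _ ⟨w, hw, rfl⟩
    show φ w * φ w = 1
    rw [← map_mul, h6 w hw, map_one]

theorem isJComponent_map [Finite G] (φ : G ≃* G) {T K : Subgroup G} :
    IsJComponent (T.map φ.toMonoidHom) (K.map φ.toMonoidHom) ↔ IsJComponent T K := by
  constructor
  · intro h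
    have := isJComponent_map_of φ.symm h
    rwa [map_symm_map, map_symm_map] at this
  · exact isJComponent_map_of φ

theorem jOvergroups_map_of [Finite G] (φ : G ≃* G) {T L : Subgroup G} (h : L ∈ jOvergroups T) :
    L.map φ.toMonoidHom ∈ jOvergroups (T.map φ.toMonoidHom) := by
  obtain ⟨h1, h2, h3⟩ := h
  refine ⟨(isSylowTwoIn_map φ).2 h1, ?_, ?_⟩
  · rw [thompson_map, pCoreOf_map, map_le_map_iff']
    exact h2
  · rw [pCoreOf_map, centralizer_map, map_le_map_iff']
    exact h3

theorem jOvergroups_map [Finite G] (φ : G ≃* G) {T L : Subgroup G} :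
    L.map φ.toMonoidHom ∈ jOvergroups (T.map φ.toMonoidHom) ↔ L ∈ jOvergroups T := by
  constructor
  · intro h
    have := jOvergroups_map_of φ.symm h
    rwa [map_symm_map, map_symm_map] at this
  · exact jOvergroups_map_of φ

theorem jComponentsZero_map_of [Finite G] (φ : G ≃* G) {T K : Subgroup G}
    (h : K ∈ jComponentsZero T) :
    K.map φ.toMonoidHom ∈ jComponentsZero (T.map φ.toMonoidHom) := by
  obtain ⟨h1, h2⟩ := h
  refine ⟨isJComponent_map_of φ h1, ?_⟩
  intro S' hJS' hS'
  rw [wOf_map, normalizer_map, isSylowTwoIn_map'] at hS'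
  have hJ : thompsonSubgroupOf 2 T ≤ S'.map φ.symm.toMonoidHom := by
    rw [thompson_map] at hJS'
    have := Subgroup.map_mono (f := φ.symm.toMonoidHom) hJS'
    rwa [map_symm_map] at this
  have := h2 _ hJ hS'
  have h7 := congrArg (Subgroup.map φ.toMonoidHom) this
  rw [← thompson_map, map_map_symm, ← thompson_map] at h7
  exact h7

theorem jComponentsZero_map [Finite G] (φ : G ≃* G) {T K : Subgroup G} :
    K.map φ.toMonoidHom ∈ jComponentsZero (T.map φ.toMonoidHom) ↔ K ∈ jComponentsZero T := by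
  constructor
  · intro h
    have := jComponentsZero_map_of φ.symm h
    rwa [map_symm_map, map_symm_map] at this
  · exact jComponentsZero_map_of φ

theorem isTwoLocal_map_of (φ : G ≃* G) {N : Subgroup G} (h : IsTwoLocal N) :
    IsTwoLocal (N.map φ.toMonoidHom) := by
  obtain ⟨T, hT, hT1, rfl⟩ := h
  refine ⟨T.map φ.toMonoidHom, (isPGroup_map_iff φ 2).2 hT, ?_, ?_⟩
  · rw [Ne, map_eq_bot_iff']
    exact hT1
  · rw [normalizer_map]

theorem isTwoLocal_map (φ : G ≃* G) {N : Subgroup G} :
    IsTwoLocal (N.map φ.toMonoidHom) ↔ IsTwoLocal N := by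
  constructor
  · intro h
    have := isTwoLocal_map_of φ.symm h
    rwa [map_symm_map] at this
  · exact isTwoLocal_map_of φ

/-- `N_G(K)` normalizes `W_K`. -/
theorem normalizer_le_normalizer_wOf (K : Subgroup G) :
    Subgroup.normalizer (K : Set G) ≤ Subgroup.normalizer (wOf K : Set G) := by
  intro n hn
  have hK : K.map (MulAut.conj n).toMonoidHom = K := by
    ext x
    rw [Subgroup.mem_map_equiv]
    have := (Subgroup.mem_normalizer_iff.1 (Subgroup.inv_mem _ hn)) x
    simp only [MulAut.conj_symm_apply]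
    rw [this]
    simp
  have hW : (wOf K).map (MulAut.conj n).toMonoidHom = wOf K := by
    rw [← wOf_map, hK]
  rw [Subgroup.mem_normalizer_iff]
  intro x
  constructor
  · intro hx
    rw [← hW]
    exact ⟨x, hx, rfl⟩
  · intro hx
    rw [← hW] at hx
    obtain ⟨y, hy, hyx⟩ := hx
    have : y = x := by
      have h1 : n * y * n⁻¹ = n * x * n⁻¹ := hyx
      calc y = n⁻¹ * (n * y * n⁻¹) * n := by group
        _ = n⁻¹ * (n * x * n⁻¹) * n := by rw [h1]
        _ = x := by group
    rwa [← this]

/-- conjugation as `Subgroup.map`: membership -/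
theorem mem_map_conj {g x : G} {H : Subgroup G} :
    x ∈ H.map (MulAut.conj g).toMonoidHom ↔ g⁻¹ * x * g ∈ H := by
  rw [Subgroup.mem_map_equiv]
  simp [MulAut.conj_symm_apply]

/-- an element of the normalizer fixes the subgroup under conjugation -/
theorem map_conj_eq_of_mem_normalizer {n : G} {H : Subgroup G}
    (hn : n ∈ Subgroup.normalizer (H : Set G)) : H.map (MulAut.conj n).toMonoidHom = H := by
  ext x
  rw [mem_map_conj]
  have := (Subgroup.mem_normalizer_iff.1 (Subgroup.inv_mem _ hn)) x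
  rw [inv_inv] at this
  exact this.symm

theorem mem_normalizer_of_map_conj_eq {n : G} {H : Subgroup G}
    (h : H.map (MulAut.conj n).toMonoidHom = H) : n ∈ Subgroup.normalizer (H : Set G) := by
  rw [Subgroup.mem_normalizer_iff]
  intro x
  constructor
  · intro hx
    rw [← h]
    exact ⟨x, hx, rfl⟩
  · intro hx
    rw [← h, mem_map_conj] at hx
    have e : n⁻¹ * (n * x * n⁻¹) * n = x := by group
    rwa [e] at hx

end Cfsg.Agent.Helper25.JC
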