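import Mathlib
import Cfsg.Prelude.Def_JComponents
import Cfsg.Agent.Lib.Helper25.JCConj

/-!
# KS12 toolkit (helper25): `IsSylowTwoIn S L` versus Sylow 2-subgroups of the group `↥L`;
existence over a given 2-subgroup and conjugacy inside `L`.
-/

set_option autoImplicit false
set_option linter.unusedSectionVars false
set_option linter.unusedVariables false
set_option linter.style.haveILetI false

namespace Cfsg.Agent.Helper25.JC

open Cfsg

universe u

variable {G : Type u} [Group G] [Finite G]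

/-- a Sylow 2-subgroup of the group `↥L`, pushed to `G`, is Sylow in `L` -/
theorem isSylowTwoIn_of_sylow (L : Subgroup G) (P : Sylow 2 ↥L) :
    IsSylowTwoIn ((P : Subgroup ↥L).map L.subtype) L := by
  haveI : Fact (Nat.Prime 2) := ⟨Nat.prime_two⟩
  refine ⟨Subgroup.map_subtype_le _, ?_, ?_⟩
  · exact P.2.map L.subtype
  · have h1 : ((P : Subgroup ↥L).map L.subtype).relIndex L = (P : Subgroup ↥L).index := by
      unfold Subgroup.relIndex
      congr 1
      ext x
      rw [Subgroup.mem_subgroupOf]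
      constructor
      · rintro ⟨y, hy, hyx⟩
        have : y = x := Subtype.ext hyx
        rwa [← this]
      · intro hx
        exact ⟨x, hx, rfl⟩
    rw [h1, ← Nat.not_even_iff_odd, even_iff_two_dvd]
    exact P.not_dvd_index

/-- conversely -/
theorem exists_sylow_of_isSylowTwoIn {S L : Subgroup G} (h : IsSylowTwoIn S L) :
    ∃ P : Sylow 2 ↥L, (P : Subgroup ↥L) = S.subgroupOf L := by
  haveI : Fact (Nat.Prime 2) := ⟨Nat.prime_two⟩
  obtain ⟨h1, h2, h3⟩ := h
  have hp : IsPGroup 2 ↥(S.subgroupOf L) :=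
    h2.comap_of_injective L.subtype L.subtype_injective
  have hidx : ¬ 2 ∣ (S.subgroupOf L).index := by
    have : (S.subgroupOf L).index = S.relIndex L := rfl
    rw [this, ← even_iff_two_dvd, Nat.not_even_iff_odd]
    exact h3
  exact ⟨hp.toSylow hidx, rfl⟩

theorem map_subtype_subgroupOf {S L : Subgroup G} (h : S ≤ L) :
    (S.subgroupOf L).map L.subtype = S := by
  rw [Subgroup.map_subgroupOf_eq_of_le h]

/-- every 2-subgroup of `L` lies in a Sylow 2-subgroup of `L` -/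
theorem exists_isSylowTwoIn_of_le {P L : Subgroup G} (hPL : P ≤ L) (hP : IsPGroup 2 ↥P) :
    ∃ S : Subgroup G, P ≤ S ∧ IsSylowTwoIn S L := by
  haveI : Fact (Nat.Prime 2) := ⟨Nat.prime_two⟩
  have hp : IsPGroup 2 ↥(P.subgroupOf L) :=
    hP.comap_of_injective L.subtype L.subtype_injective
  obtain ⟨Q, hQ⟩ := hp.exists_le_sylow
  refine ⟨(Q : Subgroup ↥L).map L.subtype, ?_, isSylowTwoIn_of_sylow L Q⟩
  intro x hx
  exact ⟨⟨x, hPL hx⟩, hQ (by rw [Subgroup.mem_subgroupOf]; exact hx), rfl⟩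

/-- two Sylow 2-subgroups of `L` are conjugate by an element of `L` -/
theorem isSylowTwoIn_conj {S₁ S₂ L : Subgroup G} (h₁ : IsSylowTwoIn S₁ L)
    (h₂ : IsSylowTwoIn S₂ L) : ∃ n ∈ L, S₂ = S₁.map (MulAut.conj n).toMonoidHom := by
  haveI : Fact (Nat.Prime 2) := ⟨Nat.prime_two⟩
  obtain ⟨P₁, hP₁⟩ := exists_sylow_of_isSylowTwoIn h₁
  obtain ⟨P₂, hP₂⟩ := exists_sylow_of_isSylowTwoIn h₂
  obtain ⟨n, hn⟩ := MulAction.exists_smul_eq ↥L P₁ P₂
  refine ⟨n.1, n.2, ?_⟩
  have h3 : ∀ x : ↥L, x ∈ (P₂ : Subgroup ↥L) ↔ n⁻¹ * x * n ∈ (P₁ : Subgroup ↥L) := by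
    intro x
    rw [← hn, Sylow.coe_subgroup_smul, Subgroup.mem_pointwise_smul_iff_inv_smul_mem]
    simp [MulAut.smul_def]
  ext x
  rw [mem_map_conj]
  constructor
  · intro hx
    have hxL : x ∈ L := h₂.1 hx
    have h4 : (⟨x, hxL⟩ : ↥L) ∈ (P₂ : Subgroup ↥L) := by
      rw [hP₂, Subgroup.mem_subgroupOf]
      exact hx
    have h5 := (h3 _).1 h4
    rw [hP₁, Subgroup.mem_subgroupOf] at h5
    exact h5
  · intro hx
    have hxL : x ∈ L := by
      have h6 : n.1⁻¹ * x * n.1 ∈ L := h₁.1 hx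
      have e : x = n.1 * (n.1⁻¹ * x * n.1) * n.1⁻¹ := by group
      rw [e]
      exact L.mul_mem (L.mul_mem n.2 h6) (L.inv_mem n.2)
    have h4 : n⁻¹ * (⟨x, hxL⟩ : ↥L) * n ∈ (P₁ : Subgroup ↥L) := by
      rw [hP₁, Subgroup.mem_subgroupOf]
      exact hx
    have h5 := (h3 _).2 h4
    rw [hP₂, Subgroup.mem_subgroupOf] at h5
    exact h5

/-- conjugating by an element of `L` keeps subgroups of `L` inside `L` -/
theorem map_conj_le_of_mem {n : G} {H L : Subgroup G} (hn : n ∈ L) (hH : H ≤ L) :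
    H.map (MulAut.conj n).toMonoidHom ≤ L := by
  rintro _ ⟨x, hx, rfl⟩
  show n * x * n⁻¹ ∈ L
  exact L.mul_mem (L.mul_mem hn (hH hx)) (L.inv_mem hn)

theorem map_conj_eq_self_of_mem {n : G} {L : Subgroup G} (hn : n ∈ L) :
    L.map (MulAut.conj n).toMonoidHom = L :=
  map_conj_eq_of_mem_normalizer (Subgroup.le_normalizer hn)

/-- a conjugate by an element of `L` of a Sylow 2-subgroup of `L` is one -/
theorem isSylowTwoIn_map_conj {n : G} {S L : Subgroup G} (hn : n ∈ L) (h : IsSylowTwoIn S L) :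
    IsSylowTwoIn (S.map (MulAut.conj n).toMonoidHom) L := by
  have := (isSylowTwoIn_map (MulAut.conj n) (S := S) (L := L)).2 h
  rwa [map_conj_eq_self_of_mem hn] at this

end Cfsg.Agent.Helper25.JC
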