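import Mathlib
import Cfsg.Prelude.Def_JComponents
import Cfsg.Agent.Lib.Helper13.JCFFDefs
import Cfsg.Agent.Lib.Helper19.JCDefs
import Cfsg.Agent.Lib.Helper1.JCW1
import Cfsg.Agent.Lib.Helper1.JCW2
import Cfsg.Agent.Lib.Helper7.JCIDX
import Cfsg.Agent.Lib.Helper3.Thompson
import Cfsg.Agent.Lib.Helper25.JCConj
import Cfsg.Agent.Lib.Helper13.JCF1
import Cfsg.Agent.Lib.Helper13.JCF2
import Cfsg.Agent.Lib.Helper24.JCOTWO

/-!
# KS12, PIECE F5 (helper25 for helper13): every `J(T)`-component is one of the `K_i = Kc F i`.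

Core file: the two facts of pieces F4 (`J ⊓ C ≤ Q`) and F4B (`V ≤ J(T)`) are explicit hypotheses
`hF4`, `hF4B`; the exact-signature `KS.comp_eq_Kc` is in `JCF5.lean`.
-/

set_option autoImplicit false
set_option linter.unusedSectionVars false
set_option linter.unusedVariables false
set_option linter.style.haveILetI false
set_option linter.unusedSimpArgs false

namespace Cfsg.Agent.Helper13.JCFF

open Cfsg
open scoped commutatorElement

/-! ## generic: a group generated by subgroups that commute modulo `N` -/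

section generic

variable {X : Type*} [Group X] {ι : Type*}

theorem f5_comm_mem (A : ι → Subgroup X) (N : Subgroup X)
    (hN : ∀ x ∈ ⨆ i, A i, ∀ m ∈ N, x * m * x⁻¹ ∈ N)
    (hc : ∀ i j, ∀ a ∈ A i, ∀ b ∈ A j, ⁅a, b⁆ ∈ N) :
    ∀ x ∈ ⨆ i, A i, ∀ y ∈ ⨆ i, A i, ⁅x, y⁆ ∈ N := by
  have step1 : ∀ i, ∀ a ∈ A i, ∀ y ∈ ⨆ i, A i, ⁅a, y⁆ ∈ N := by
    intro i a ha y hy
    have : y ∈ (⨆ i, A i) ∧ ⁅a, y⁆ ∈ N := by
      refine Subgroup.iSup_induction A (C := fun y => y ∈ (⨆ i, A i) ∧ ⁅a, y⁆ ∈ N) hy ?_ ?_ ?_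
      · intro j b hb
        exact ⟨Subgroup.mem_iSup_of_mem j hb, hc i j a ha b hb⟩
      · refine ⟨Subgroup.one_mem _, ?_⟩
        rw [commutatorElement_def]
        simp
      · rintro y₁ y₂ ⟨h1, h1'⟩ ⟨h2, h2'⟩
        refine ⟨Subgroup.mul_mem _ h1 h2, ?_⟩
        have e : ⁅a, y₁ * y₂⁆ = ⁅a, y₁⁆ * (y₁ * ⁅a, y₂⁆ * y₁⁻¹) := by
          simp only [commutatorElement_def]; group
        rw [e]
        exact N.mul_mem h1' (hN y₁ h1 _ h2')
    exact this.2
  intro x hx y hy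
  have : x ∈ (⨆ i, A i) ∧ ⁅x, y⁆ ∈ N := by
    refine Subgroup.iSup_induction A (C := fun x => x ∈ (⨆ i, A i) ∧ ⁅x, y⁆ ∈ N) hx ?_ ?_ ?_
    · intro i a ha
      exact ⟨Subgroup.mem_iSup_of_mem i ha, step1 i a ha y hy⟩
    · refine ⟨Subgroup.one_mem _, ?_⟩
      rw [commutatorElement_def]
      simp
    · rintro x₁ x₂ ⟨h1, h1'⟩ ⟨h2, h2'⟩
      refine ⟨Subgroup.mul_mem _ h1 h2, ?_⟩
      have e : ⁅x₁ * x₂, y⁆ = (x₁ * ⁅x₂, y⁆ * x₁⁻¹) * ⁅x₁, y⁆ := by
        simp only [commutatorElement_def]; group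
      rw [e]
      exact N.mul_mem (hN x₁ h1 _ h2') h1'
  exact this.2

theorem f5_sq_mem (A : ι → Subgroup X) (N : Subgroup X)
    (hN : ∀ x ∈ ⨆ i, A i, ∀ m ∈ N, x * m * x⁻¹ ∈ N)
    (hc : ∀ i j, ∀ a ∈ A i, ∀ b ∈ A j, ⁅a, b⁆ ∈ N)
    (hs : ∀ i, ∀ a ∈ A i, a * a ∈ N) :
    ∀ x ∈ ⨆ i, A i, x * x ∈ N := by
  have hcomm := f5_comm_mem A N hN hc
  intro x hx
  have : x ∈ (⨆ i, A i) ∧ x * x ∈ N := by
    refine Subgroup.iSup_induction A (C := fun x => x ∈ (⨆ i, A i) ∧ x * x ∈ N) hx ?_ ?_ ?_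
    · intro i a ha
      exact ⟨Subgroup.mem_iSup_of_mem i ha, hs i a ha⟩
    · exact ⟨Subgroup.one_mem _, by simp⟩
    · rintro x₁ x₂ ⟨h1, h1'⟩ ⟨h2, h2'⟩
      refine ⟨Subgroup.mul_mem _ h1 h2, ?_⟩
      have e : x₁ * x₂ * (x₁ * x₂) = (x₁ * x₁) * ⁅x₁⁻¹, x₂⁆ * (x₂ * x₂) := by
        simp only [commutatorElement_def]; group
      rw [e]
      exact N.mul_mem (N.mul_mem h1' (hcomm _ (Subgroup.inv_mem _ h1) _ h2)) h2'
  exact this.2

theorem f5_cube_mem (A : ι → Subgroup X) (N : Subgroup X)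
    (hN : ∀ x ∈ ⨆ i, A i, ∀ m ∈ N, x * m * x⁻¹ ∈ N)
    (hc : ∀ i j, ∀ a ∈ A i, ∀ b ∈ A j, ⁅a, b⁆ ∈ N)
    (hs : ∀ i, ∀ a ∈ A i, a ^ 3 ∈ N) :
    ∀ x ∈ ⨆ i, A i, x ^ 3 ∈ N := by
  have hcomm := f5_comm_mem A N hN hc
  intro x hx
  have : x ∈ (⨆ i, A i) ∧ x ^ 3 ∈ N := by
    refine Subgroup.iSup_induction A (C := fun x => x ∈ (⨆ i, A i) ∧ x ^ 3 ∈ N) hx ?_ ?_ ?_
    · intro i a ha
      exact ⟨Subgroup.mem_iSup_of_mem i ha, hs i a ha⟩
    · exact ⟨Subgroup.one_mem _, by simp⟩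
    · rintro x₁ x₂ ⟨h1, h1'⟩ ⟨h2, h2'⟩
      refine ⟨Subgroup.mul_mem _ h1 h2, ?_⟩
      have e : (x₁ * x₂) ^ 3 = (x₁ * ⁅x₂, x₁⁆ * x₁⁻¹) *
          ((x₁ * x₁) * ⁅x₂ * x₂, x₁⁆ * (x₁ * x₁)⁻¹) * x₁ ^ 3 * x₂ ^ 3 := by
        simp only [commutatorElement_def, pow_succ, pow_zero, one_mul]; group
      rw [e]
      refine N.mul_mem (N.mul_mem (N.mul_mem ?_ ?_) h1') h2'
      · exact hN _ h1 _ (hcomm _ h2 _ h1)
      · exact hN _ (Subgroup.mul_mem _ h1 h1) _ (hcomm _ (Subgroup.mul_mem _ h2 h2) _ h1)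
  exact this.2

/-- index 2: commutators and squares -/
theorem f5_index_two {H D : Subgroup X} (hHD : H.relIndex D = 2) :
    (∀ a ∈ D, ∀ b ∈ D, ⁅a, b⁆ ∈ H) ∧ ∀ a ∈ D, a * a ∈ H := by
  have hi : (H.subgroupOf D).index = 2 := hHD
  constructor
  · intro a ha b hb
    have e : (⁅(⟨a, ha⟩ : D), ⟨b, hb⟩⁆ : D) = (⟨a, ha⟩ * ⟨b, hb⟩) * ((⟨a, ha⟩ : D)⁻¹ * (⟨b, hb⟩ : D)⁻¹) := by
      simp only [commutatorElement_def]; group
    have h1 : (⁅(⟨a, ha⟩ : D), ⟨b, hb⟩⁆ : D) ∈ H.subgroupOf D := by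
      rw [e, Subgroup.mul_mem_iff_of_index_two hi, Subgroup.mul_mem_iff_of_index_two hi,
        Subgroup.mul_mem_iff_of_index_two hi, inv_mem_iff, inv_mem_iff]
    rw [Subgroup.mem_subgroupOf] at h1
    have e2 : ((⁅(⟨a, ha⟩ : D), ⟨b, hb⟩⁆ : D) : X) = ⁅a, b⁆ := by simp [commutatorElement_def]
    rwa [e2] at h1
  · intro a ha
    have h1 := Subgroup.mul_self_mem_of_index_two hi (⟨a, ha⟩ : D)
    rw [Subgroup.mem_subgroupOf] at h1
    simpa using h1

/-- index 3, normal: commutators and cubes -/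
theorem f5_index_three {C O : Subgroup X} [C.Normal] (hCO : C.relIndex O = 3) :
    (∀ a ∈ O, ∀ b ∈ O, ⁅a, b⁆ ∈ C) ∧ ∀ a ∈ O, a ^ 3 ∈ C := by
  have hi : (C.subgroupOf O).index = 3 := hCO
  have hn : (C.subgroupOf O).Normal := inferInstance
  constructor
  · intro a ha b hb
    have hcard : Nat.card (O ⧸ C.subgroupOf O) = 3 := by
      rw [← Subgroup.index_eq_card]; exact hi
    have : Fact (Nat.Prime 3) := ⟨Nat.prime_three⟩
    have hcyc : IsCyclic (O ⧸ C.subgroupOf O) := isCyclic_of_prime_card hcard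
    have hcomm : ∀ x y : O ⧸ C.subgroupOf O, x * y = y * x := by
      intro x y
      letI := IsCyclic.commGroup (α := O ⧸ C.subgroupOf O)
      exact mul_comm x y
    have h1 : ((⁅(⟨a, ha⟩ : O), ⟨b, hb⟩⁆ : O) : O ⧸ C.subgroupOf O) = 1 := by
      rw [commutatorElement_def, QuotientGroup.mk_mul, QuotientGroup.mk_mul, QuotientGroup.mk_mul,
        QuotientGroup.mk_inv, QuotientGroup.mk_inv, hcomm (↑(⟨a, ha⟩ : O)) (↑(⟨b, hb⟩ : O))]
      group
    rw [QuotientGroup.eq_one_iff, Subgroup.mem_subgroupOf] at h1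
    have e2 : ((⁅(⟨a, ha⟩ : O), ⟨b, hb⟩⁆ : O) : X) = ⁅a, b⁆ := by simp [commutatorElement_def]
    rwa [e2] at h1
  · intro a ha
    have h1 := Subgroup.pow_index_mem (C.subgroupOf O) (⟨a, ha⟩ : O)
    rw [hi, Subgroup.mem_subgroupOf] at h1
    simpa using h1

/-- an element of odd order is a power of its square -/
theorem f5_mem_of_sq_mem {N : Subgroup X} {y : X} (hy : Odd (orderOf y)) (h : y * y ∈ N) : y ∈ N := by
  obtain ⟨k, hk⟩ := hy
  have e : y = (y * y) ^ (k + 1) := by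
    rw [← pow_two, ← pow_mul]
    have : 2 * (k + 1) = orderOf y + 1 := by omega
    rw [this, pow_succ, pow_orderOf_eq_one, one_mul]
  rw [e]
  exact N.pow_mem h _

/-- a `2`-element is a power of its cube -/
theorem f5_mem_of_cube_mem {N : Subgroup X} {y : X} {k : ℕ} (hy : y ^ (2 ^ k) = 1) (h : y ^ 3 ∈ N) :
    y ∈ N := by
  have hco : Nat.Coprime 3 (2 ^ k) := by
    apply Nat.Coprime.pow_right
    norm_num
  have hbez := Nat.gcd_eq_gcd_ab 3 (2 ^ k)
  have hg : ((Nat.gcd 3 (2 ^ k) : ℕ) : ℤ) = 1 := by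
    rw [Nat.Coprime] at hco
    rw [hco]; rfl
  rw [hg] at hbez
  have e : y = (y ^ 3) ^ (Nat.gcdA 3 (2 ^ k)) * (y ^ (2 ^ k)) ^ (Nat.gcdB 3 (2 ^ k)) := by
    rw [← zpow_natCast y 3, ← zpow_natCast y (2 ^ k), ← zpow_mul, ← zpow_mul, ← zpow_add]
    push_cast at hbez ⊢
    rw [← hbez, zpow_one]
  rw [e, hy, one_zpow, mul_one]
  exact N.zpow_mem h _

end generic

/-! ## the factors of an `FFData` -/

section ff

variable {X : Type*} [Group X] [Finite X]

theorem f5_conj_mem_of_map_eq {H : Subgroup X} {x : X}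
    (h : H.map (MulAut.conj x).toMonoidHom = H) {m : X} (hm : m ∈ H) : x * m * x⁻¹ ∈ H := by
  have : (MulAut.conj x).toMonoidHom m ∈ H.map (MulAut.conj x).toMonoidHom :=
    Subgroup.mem_map_of_mem _ hm
  rw [h] at this
  simpa using this

theorem f5_conj_iSupO (F : FFData X (VX X)) :
    ∀ x ∈ thompsonSubgroup 2 X ⊔ Subgroup.centralizer (VX X : Set X), ∀ m ∈ ⨆ i, F.O i,
      x * m * x⁻¹ ∈ ⨆ i, F.O i := by
  intro x hx m hm
  refine Subgroup.iSup_induction F.O (C := fun m => x * m * x⁻¹ ∈ ⨆ i, F.O i) hm ?_ ?_ ?_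
  · intro i a ha
    exact Subgroup.mem_iSup_of_mem i (f5_conj_mem_of_map_eq (F.conj_J x hx i).2 ha)
  · simp
  · intro a b ha hb
    have e : x * (a * b) * x⁻¹ = (x * a * x⁻¹) * (x * b * x⁻¹) := by group
    rw [e]
    exact Subgroup.mul_mem _ ha hb

theorem f5_C_le_iSupO (F : FFData X (VX X)) :
    Subgroup.centralizer (VX X : Set X) ≤ ⨆ i, F.O i :=
  (F.C_le_O ⟨0, F.pos⟩).trans (le_iSup F.O _)

/-- odd order elements of `JC` lie in `⨆ O_i` -/
theorem f5_odd_mem_iSupO (F : FFData X (VX X)) {y : X}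
    (hy : y ∈ thompsonSubgroup 2 X ⊔ Subgroup.centralizer (VX X : Set X)) (hodd : Odd (orderOf y)) :
    y ∈ ⨆ i, F.O i := by
  apply f5_mem_of_sq_mem hodd
  rw [← F.sup_D] at hy
  refine f5_sq_mem F.D (⨆ i, F.O i) ?_ ?_ ?_ y hy
  · intro x hx m hm
    rw [F.sup_D] at hx
    exact f5_conj_iSupO F x hx m hm
  · intro i j a ha b hb
    by_cases hij : i = j
    · subst hij
      exact Subgroup.mem_iSup_of_mem i ((f5_index_two (F.relIndex_D i)).1 a ha b hb)
    · exact f5_C_le_iSupO F (F.comm_DD i j hij (Subgroup.commutator_mem_commutator ha hb))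
  · intro i a ha
    exact Subgroup.mem_iSup_of_mem i ((f5_index_two (F.relIndex_D i)).2 a ha)

/-- `(⨆ O_i) / C` has exponent 3 -/
theorem f5_cube_mem_C (F : FFData X (VX X)) [(VX X).Normal] {x : X} (hx : x ∈ ⨆ i, F.O i) :
    x ^ 3 ∈ Subgroup.centralizer (VX X : Set X) := by
  have hCn : (Subgroup.centralizer (VX X : Set X)).Normal := inferInstance
  refine f5_cube_mem F.O (Subgroup.centralizer (VX X : Set X)) ?_ ?_ ?_ x hx
  · intro x _ m hm
    exact hCn.conj_mem m hm x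
  · intro i j a ha b hb
    by_cases hij : i = j
    · subst hij
      exact (f5_index_three (F.relIndex_O i)).1 a ha b hb
    · exact F.comm_DD i j hij
        (Subgroup.commutator_mem_commutator (F.O_le_D i ha) (F.O_le_D j hb))
  · intro i a ha
    exact (f5_index_three (F.relIndex_O i)).2 a ha

/-- `JC` normalises `W_i = [V, D_i]` -/
theorem f5_conj_W (F : FFData X (VX X)) [hVn : (VX X).Normal] {x : X}
    (hx : x ∈ thompsonSubgroup 2 X ⊔ Subgroup.centralizer (VX X : Set X)) (i : Fin F.r) {w : X}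
    (hw : w ∈ ⁅VX X, F.D i⁆) : x * w * x⁻¹ ∈ ⁅VX X, F.D i⁆ := by
  apply f5_conj_mem_of_map_eq _ hw
  rw [Subgroup.map_commutator, (F.conj_J x hx i).1]
  congr 1
  apply Cfsg.Agent.Helper25.JC.map_conj_eq_of_mem_normalizer
  rw [Subgroup.normalizer_eq_top]
  exact Subgroup.mem_top x

theorem f5_W_le_V (F : FFData X (VX X)) [hVn : (VX X).Normal] (i : Fin F.r) :
    ⁅VX X, F.D i⁆ ≤ VX X := Subgroup.commutator_le_left _ _

/-- `Z_0 = C_V(J)` is centralised by `JC` -/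
theorem f5_Z0_comm {x : X}
    (hx : x ∈ thompsonSubgroup 2 X ⊔ Subgroup.centralizer (VX X : Set X)) {z : X}
    (hz : z ∈ VX X ⊓ Subgroup.centralizer (thompsonSubgroup 2 X : Set X)) : z * x = x * z := by
  have hle : thompsonSubgroup 2 X ⊔ Subgroup.centralizer (VX X : Set X) ≤
      Subgroup.centralizer ({z} : Set X) := by
    apply sup_le
    · intro j hj
      rw [Subgroup.mem_centralizer_iff]
      intro h hh
      rw [Set.mem_singleton_iff] at hh
      subst hh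
      have := (Subgroup.mem_centralizer_iff.1 hz.2) j hj
      exact this.symm
    · intro j hj
      rw [Subgroup.mem_centralizer_iff]
      intro h hh
      rw [Set.mem_singleton_iff] at hh
      subst hh
      exact (Subgroup.mem_centralizer_iff.1 hj) h hz.1
  have := (Subgroup.mem_centralizer_iff.1 (hle hx)) z rfl
  exact this

/-- an element of `JC` centralising every `W_i` centralises `V` -/
theorem f5_mem_C_of (F : FFData X (VX X)) {y : X}
    (hy : y ∈ thompsonSubgroup 2 X ⊔ Subgroup.centralizer (VX X : Set X))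
    (h : ∀ i, ∀ w ∈ ⁅VX X, F.D i⁆, w * y = y * w) :
    y ∈ Subgroup.centralizer (VX X : Set X) := by
  have hle : VX X ≤ Subgroup.centralizer ({y} : Set X) := by
    conv_lhs => rw [← F.W_sup]
    apply sup_le
    · intro z hz
      rw [Subgroup.mem_centralizer_iff]
      intro h' hh
      rw [Set.mem_singleton_iff] at hh
      subst hh
      exact (f5_Z0_comm hy hz).symm
    · apply iSup_le
      intro i w hw
      rw [Subgroup.mem_centralizer_iff]
      intro h' hh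
      rw [Set.mem_singleton_iff] at hh
      subst hh
      exact (h i w hw).symm
  rw [Subgroup.mem_centralizer_iff]
  intro v hv
  have := (Subgroup.mem_centralizer_iff.1 (hle hv)) y rfl
  exact this.symm

/-- the `W_i` are pairwise different -/
theorem f5_W_inj (F : FFData X (VX X)) {i j : Fin F.r} (h : ⁅VX X, F.D i⁆ = ⁅VX X, F.D j⁆) :
    i = j := by
  by_contra hij
  have hd := F.W_indep.pairwiseDisjoint (i := some i) (j := some j) (by simpa using hij)
  have hd' : ⁅VX X, F.D i⁆ ⊓ ⁅VX X, F.D j⁆ = ⊥ := disjoint_iff.1 hd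
  rw [← h, inf_idem] at hd'
  have := F.card_W i
  rw [hd'] at this
  simp at this

end ff

/-! ## a `J(T)`-component in the abstract setting -/

section comp

variable {X : Type*} [Group X] [Finite X] {T K : Subgroup X}

theorem f5_pCore_normal : (pCore 2 X).Normal := by
  unfold pCore
  exact Subgroup.sSup_normal _ (fun K hK => hK.1)

theorem f5_J_normal : (thompsonSubgroup 2 X).Normal := by
  have := Cfsg.Agent.Helper3.thompsonSubgroup_characteristic (G := X) 2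
  infer_instance

theorem f5_comp (h : KS X T) (hK : IsJComponent T K) :
    Cfsg.Agent.Helper19.JC.Comp K (thompsonSubgroupOf 2 T) :=
  Cfsg.Agent.Helper19.JC.comp_of_isJComponent h.syl.2.1 hK

theorem f5_K_le_J (h : KS X T) (hK : IsJComponent T K) : K ≤ thompsonSubgroup 2 X := by
  have hJn := f5_J_normal (X := X)
  have c := f5_comp h hK
  calc K = ⁅K, thompsonSubgroupOf 2 T⁆ := c.hcomm.symm
    _ ≤ ⁅K, thompsonSubgroup 2 X⁆ := Subgroup.commutator_mono le_rfl h.JT_le_J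
    _ ≤ thompsonSubgroup 2 X := Subgroup.commutator_le_right _ _

theorem f5_K_le_M (h : KS X T) (F : FFData X (VX X)) (hK : IsJComponent T K) :
    K ≤ ⨆ i, F.O i := by
  have c := f5_comp h hK
  have hKJ := f5_K_le_J h hK
  conv_lhs => rw [← c.hodd]
  rw [Subgroup.closure_le]
  rintro y ⟨hyK, hyodd⟩
  exact f5_odd_mem_iSupO F (Subgroup.mem_sup_left (hKJ hyK)) hyodd

theorem f5_P0_le_C (h : KS X T) (F : FFData X (VX X)) (hK : IsJComponent T K) :
    pCoreOf 2 K ≤ Subgroup.centralizer (VX X : Set X) := by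
  have hVn : (VX X).Normal := VX_normal h.hQ
  intro x hx
  have hxK : x ∈ K := Cfsg.Agent.Helper14.pCoreOf_le 2 K hx
  have h3 := f5_cube_mem_C F (f5_K_le_M h F hK hxK)
  obtain ⟨k, hk⟩ := (Cfsg.Agent.Helper14.pCoreOf_isPGroup 2 K) ⟨x, hx⟩
  have hk' : x ^ (2 ^ k) = 1 := by
    have := congrArg Subtype.val hk
    simpa using this
  exact f5_mem_of_cube_mem hk' h3

theorem f5_P0_le_Q (h : KS X T) (F : FFData X (VX X)) (hK : IsJComponent T K)
    (hF4 : thompsonSubgroup 2 X ⊓ Subgroup.centralizer (VX X : Set X) ≤ pCore 2 X) :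
    pCoreOf 2 K ≤ pCore 2 X := fun x hx =>
  hF4 ⟨f5_K_le_J h hK (Cfsg.Agent.Helper14.pCoreOf_le 2 K hx), f5_P0_le_C h F hK hx⟩

theorem f5_not_K_le_C (h : KS X T) (hK : IsJComponent T K) :
    ¬ K ≤ Subgroup.centralizer (VX X : Set X) := by
  intro hle
  have c := f5_comp h hK
  have hKQ : K ≤ pCore 2 X := by
    calc K = ⁅K, thompsonSubgroupOf 2 T⁆ := c.hcomm.symm
      _ ≤ ⁅Subgroup.centralizer (VX X : Set X), thompsonSubgroup 2 X⁆ :=
          Subgroup.commutator_mono hle h.JT_le_J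
      _ ≤ pCore 2 X := h.comm_C_J
  have hbot := Cfsg.Agent.Helper19.JC.idx_eq_bot_of_isPGroup c.hodd
    ((Cfsg.Agent.Helper14.pCore_isPGroup 2 X).to_le hKQ)
  apply c.K_ne_P0
  rw [hbot]
  exact bot_le

theorem f5_V_inf_K_le_U (h : KS X T) (F : FFData X (VX X)) (hK : IsJComponent T K) :
    VX X ⊓ K ≤ omegaCenterOf (pCoreOf 2 K) := by
  have hVn : (VX X).Normal := VX_normal h.hQ
  have hVe := VX_elem (X := X) h.hQ
  have hVQ := VX_le_pCore (X := X) h.hQ
  have hP : VX X ⊓ K ≤ pCoreOf 2 K := by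
    apply Cfsg.Agent.Helper14.le_pCoreOf inf_le_right
    · apply Cfsg.Agent.Helper19.JC.le_normalizer_of_conj_mem
      intro k hk n hn
      exact ⟨hVn.conj_mem n hn.1 k, K.mul_mem (K.mul_mem hk hn.2) (K.inv_mem hk)⟩
    · exact (Cfsg.Agent.Helper14.pCore_isPGroup 2 X).to_le (inf_le_left.trans hVQ)
  intro x hx
  rw [Cfsg.Agent.Helper19.JC.mem_omegaCenterOf_iff]
  refine ⟨hP hx, ?_, hVe.2 x hx.1⟩
  intro y hy
  have hyC := f5_P0_le_C h F hK hy
  exact ((Subgroup.mem_centralizer_iff.1 hyC) x hx.1).symm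

theorem f5_cube_eq_one (h : KS X T) (hK : IsJComponent T K) {y : X} (hy : y ∈ K)
    (hodd : Odd (orderOf y)) : y ^ 3 = 1 := by
  have c := f5_comp h hK
  have h3 := c.w1_cube_mem hy
  obtain ⟨k, hk⟩ := (Cfsg.Agent.Helper14.pCoreOf_isPGroup 2 K) ⟨y ^ 3, h3⟩
  have hk' : (y ^ 3) ^ (2 ^ k) = 1 := by
    have := congrArg Subtype.val hk
    simpa using this
  have h2 : (y ^ 3) ^ (orderOf y) = 1 := by
    rw [← pow_mul, mul_comm, pow_mul, pow_orderOf_eq_one, one_pow]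
  apply Cfsg.Agent.Helper14.eq_one_of_pow_eq_one_of_coprime hk' h2
  exact Nat.Coprime.pow_left k (Nat.coprime_two_left.2 hodd)

/-- `[V, y] ≤ W_K` for `y ∈ K` of order 3 -/
theorem f5_comm_mem_W (h : KS X T) (F : FFData X (VX X)) (hK : IsJComponent T K)
    (hF4B : VX X ≤ thompsonSubgroupOf 2 T) {y : X}
    (hy : y ∈ K) (hy3 : y ^ 3 = 1) {v : X} (hv : v ∈ VX X) : ⁅v, y⁆ ∈ wOf K := by
  have hVn : (VX X).Normal := VX_normal h.hQ
  have hVe := VX_elem (X := X) h.hQ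
  have c := f5_comp h hK
  obtain ⟨b, hbdef⟩ : ∃ b, y * v * y⁻¹ = b := ⟨_, rfl⟩
  obtain ⟨c', hcdef⟩ : ∃ c', y * b * y⁻¹ = c' := ⟨_, rfl⟩
  have hb : b ∈ VX X := by rw [← hbdef]; exact hVn.conj_mem v hv y
  have hc : c' ∈ VX X := by rw [← hcdef]; exact hVn.conj_mem b hb y
  have hd : y * c' * y⁻¹ = v := by
    rw [← hcdef, ← hbdef]
    have hy3' : y * y * y = 1 := by rw [← hy3]; simp [pow_succ]
    have e : y * (y * (y * v * y⁻¹) * y⁻¹) * y⁻¹ = (y * y * y) * v * (y * y * y)⁻¹ := by group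
    rw [e, hy3']
    simp
  have hinv : ∀ z ∈ VX X, z⁻¹ = z := by
    intro z hz
    rw [inv_eq_iff_mul_eq_one, ← pow_two]
    exact hVe.2 z hz
  have hu : ⁅v, y⁆ = v * b := by
    rw [commutatorElement_def]
    have : v * y * v⁻¹ * y⁻¹ = v * (y * v * y⁻¹)⁻¹ := by group
    rw [this, hbdef, hinv b hb]
  have huV : ⁅v, y⁆ ∈ VX X := by rw [hu]; exact Subgroup.mul_mem _ hv hb
  have huK : ⁅v, y⁆ ∈ K := by
    have hvN : v ∈ Subgroup.normalizer (K : Set X) := c.J_le_normalizer_K (hF4B hv)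
    rw [commutatorElement_def]
    have : v * y * v⁻¹ ∈ K := (Subgroup.mem_normalizer_iff.1 hvN y).1 hy
    exact K.mul_mem this (K.inv_mem hy)
  have huU : ⁅v, y⁆ ∈ omegaCenterOf (pCoreOf 2 K) := f5_V_inf_K_le_U h F hK ⟨huV, huK⟩
  have hcomm : ⁅⁅v, y⁆, y⁆ ∈ wOf K := Subgroup.commutator_mem_commutator huU hy
  have hconj : y * ⁅⁅v, y⁆, y⁆ * y⁻¹ ∈ wOf K :=
    Cfsg.Agent.Helper19.JC.conj_mem_of_le_normalizer c.le_normalizer_W
      (Subgroup.mem_sup_left hy) hcomm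
  have e : y * ⁅⁅v, y⁆, y⁆ * y⁻¹ = ⁅v, y⁆ := by
    rw [hu]
    have e1 : y * ⁅v * b, y⁆ * y⁻¹ = ((y * v * y⁻¹) * (y * b * y⁻¹)) *
        ((y * (y * v * y⁻¹) * y⁻¹) * (y * (y * b * y⁻¹) * y⁻¹))⁻¹ := by
      rw [commutatorElement_def]; group
    rw [e1, hbdef, hcdef, hd, mul_inv_rev, hinv v hv, hinv c' hc]
    have hvc : v * c' = c' * v := Cfsg.Agent.Helper3.IsElementaryAbelian.commute hVe hv hc
    have hvb : v * b = b * v := Cfsg.Agent.Helper3.IsElementaryAbelian.commute hVe hv hb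
    have hcc : c' * c' = 1 := by rw [← pow_two]; exact hVe.2 c' hc
    calc b * c' * (v * c') = b * c' * (c' * v) := by rw [hvc]
      _ = b * (c' * c') * v := by group
      _ = b * v := by rw [hcc, mul_one]
      _ = v * b := hvb.symm
  rw [← e]
  exact hconj

theorem f5_exists_l (h : KS X T) (F : FFData X (VX X)) (hK : IsJComponent T K) {y : X}
    (hy : y ∈ K) (hyC : y ∉ Subgroup.centralizer (VX X : Set X)) :
    ∃ l, ∃ w ∈ ⁅VX X, F.D l⁆, w * y ≠ y * w := by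
  by_contra hcon
  push Not at hcon
  exact hyC (f5_mem_C_of F (Subgroup.mem_sup_left (f5_K_le_J h hK hy)) hcon)

theorem f5_W_eq (h : KS X T) (F : FFData X (VX X)) (hK : IsJComponent T K)
    (hF4B : VX X ≤ thompsonSubgroupOf 2 T) {y : X}
    (hy : y ∈ K) (hy3 : y ^ 3 = 1) {l : Fin F.r} {w : X} (hw : w ∈ ⁅VX X, F.D l⁆)
    (hwy : w * y ≠ y * w) : ⁅VX X, F.D l⁆ = wOf K := by
  have hVn : (VX X).Normal := VX_normal h.hQ
  have c := f5_comp h hK
  have hKJ := f5_K_le_J h hK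
  have hnorm : K ≤ Subgroup.normalizer ((⁅VX X, F.D l⁆ ⊓ wOf K : Subgroup X) : Set X) := by
    apply Cfsg.Agent.Helper19.JC.le_normalizer_of_conj_mem
    intro k hk n hn
    exact ⟨f5_conj_W F (Subgroup.mem_sup_left (hKJ hk)) l hn.1,
      Cfsg.Agent.Helper19.JC.conj_mem_of_le_normalizer c.le_normalizer_W
        (Subgroup.mem_sup_left hk) hn.2⟩
  rcases c.W_irred (⁅VX X, F.D l⁆ ⊓ wOf K) inf_le_right hnorm with hI | hI
  · exfalso
    have hmem : ⁅w, y⁆ ∈ ⁅VX X, F.D l⁆ ⊓ wOf K := by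
      refine ⟨?_, f5_comm_mem_W h F hK hF4B hy hy3 (f5_W_le_V F l hw)⟩
      rw [commutatorElement_def]
      have : w * y * w⁻¹ * y⁻¹ = w * (y * w⁻¹ * y⁻¹) := by group
      rw [this]
      exact Subgroup.mul_mem _ hw
        (f5_conj_W F (Subgroup.mem_sup_left (hKJ hy)) l (Subgroup.inv_mem _ hw))
    rw [hI, Subgroup.mem_bot, commutatorElement_eq_one_iff_mul_comm] at hmem
    exact hwy hmem
  · have hle : wOf K ≤ ⁅VX X, F.D l⁆ := by
      calc wOf K = ⁅VX X, F.D l⁆ ⊓ wOf K := hI.symm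
        _ ≤ _ := inf_le_left
    exact (Subgroup.eq_of_le_of_card_ge hle (by rw [F.card_W l, c.hW4])).symm

/-- an odd order element of `K` lies in `O_l`, where `W_l = W_K` -/
theorem f5_mem_O (h : KS X T) (F : FFData X (VX X)) (hK : IsJComponent T K)
    (hF4B : VX X ≤ thompsonSubgroupOf 2 T) {y : X}
    (hy : y ∈ K) (hodd : Odd (orderOf y)) {l : Fin F.r} (hl : ⁅VX X, F.D l⁆ = wOf K) :
    y ∈ F.O l := by
  by_cases hyC : y ∈ Subgroup.centralizer (VX X : Set X)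
  · exact F.C_le_O l hyC
  have hVn : (VX X).Normal := VX_normal h.hQ
  have hy3 := f5_cube_eq_one h hK hy hodd
  have hyJ : y ∈ thompsonSubgroup 2 X ⊔ Subgroup.centralizer (VX X : Set X) :=
    Subgroup.mem_sup_left (f5_K_le_J h hK hy)
  have ha : ∀ j, j ≠ l → ∀ w ∈ ⁅VX X, F.D j⁆, w * y = y * w := by
    intro j hj w hw
    by_contra hne
    have := f5_W_eq h F hK hF4B hy hy3 hw hne
    exact hj (f5_W_inj F (this.trans hl.symm))
  have hN'le : (Subgroup.centralizer (VX X : Set X) ⊔ ⨆ j : {j : Fin F.r // j ≠ l}, F.D j) ≤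
      thompsonSubgroup 2 X ⊔ Subgroup.centralizer (VX X : Set X) :=
    sup_le le_sup_right (iSup_le fun j => F.D_le j)
  have hnorm : thompsonSubgroup 2 X ⊔ Subgroup.centralizer (VX X : Set X) ≤
      Subgroup.normalizer (F.D l : Set X) := fun x hx =>
    Cfsg.Agent.Helper25.JC.mem_normalizer_of_map_conj_eq (F.conj_J x hx l).1
  have hdec : y ∈ ((F.D l ⊔ (Subgroup.centralizer (VX X : Set X) ⊔
      ⨆ j : {j : Fin F.r // j ≠ l}, F.D j) : Subgroup X) : Set X) := by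
    have hle : (⨆ i, F.D i) ≤ F.D l ⊔ (Subgroup.centralizer (VX X : Set X) ⊔
        ⨆ j : {j : Fin F.r // j ≠ l}, F.D j) := by
      apply iSup_le
      intro i
      by_cases hil : i = l
      · subst hil
        exact le_sup_left
      · exact (le_iSup (fun j : {j : Fin F.r // j ≠ l} => F.D j) ⟨i, hil⟩).trans
          (le_sup_right.trans le_sup_right)
    apply hle
    rw [F.sup_D]
    exact hyJ
  rw [Subgroup.coe_mul_of_right_le_normalizer_left _ _ (hN'le.trans hnorm)] at hdec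
  obtain ⟨a, haD, b, hbN, rfl⟩ := Set.mem_mul.1 hdec
  have hbC : b ∈ Subgroup.centralizer (VX X : Set X) := by
    apply f5_mem_C_of F (hN'le hbN)
    intro i w hw
    by_cases hil : i = l
    · subst hil
      have hcent : (Subgroup.centralizer (VX X : Set X) ⊔ ⨆ j : {j : Fin F.r // j ≠ i}, F.D j) ≤
          Subgroup.centralizer ((⁅VX X, F.D i⁆ : Subgroup X) : Set X) := by
        apply sup_le
        · exact Subgroup.centralizer_le (SetLike.coe_subset_coe.2 (f5_W_le_V F i))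
        · apply iSup_le
          intro j
          have := F.comm_WD i j (Ne.symm j.2)
          rw [Subgroup.commutator_comm, Subgroup.commutator_eq_bot_iff_le_centralizer] at this
          exact this
      exact (Subgroup.mem_centralizer_iff.1 (hcent hbN)) w hw
    · have h1 := ha i hil w hw
      have h2 : w * a = a * w := by
        have := F.comm_WD i l hil
        rw [Subgroup.commutator_eq_bot_iff_le_centralizer] at this
        exact ((Subgroup.mem_centralizer_iff.1 (this hw)) a haD).symm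
      calc w * b = a⁻¹ * (w * a * b) := by rw [h2]; group
        _ = a⁻¹ * (w * (a * b)) := by rw [mul_assoc w a b]
        _ = a⁻¹ * ((a * b) * w) := by rw [h1]
        _ = b * w := by group
  have hyD : a * b ∈ F.D l := (F.D l).mul_mem haD (F.O_le_D l (F.C_le_O l hbC))
  exact f5_mem_of_sq_mem hodd ((f5_index_two (F.relIndex_D l)).2 _ hyD)

theorem f5_O_le (F : FFData X (VX X)) {l : Fin F.r} {y₀ : X} (hO : y₀ ∈ F.O l)
    (hC : y₀ ∉ Subgroup.centralizer (VX X : Set X)) :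
    F.O l ≤ Subgroup.centralizer (VX X : Set X) ⊔ Subgroup.zpowers y₀ := by
  have hle1 : Subgroup.centralizer (VX X : Set X) ≤
      Subgroup.centralizer (VX X : Set X) ⊔ Subgroup.zpowers y₀ := le_sup_left
  have hle2 : Subgroup.centralizer (VX X : Set X) ⊔ Subgroup.zpowers y₀ ≤ F.O l :=
    sup_le (F.C_le_O l) (Subgroup.zpowers_le.2 hO)
  have hmul := Subgroup.relIndex_mul_relIndex _ _ _ hle1 hle2
  rw [F.relIndex_O l] at hmul
  have hne : (Subgroup.centralizer (VX X : Set X)).relIndex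
      (Subgroup.centralizer (VX X : Set X) ⊔ Subgroup.zpowers y₀) ≠ 1 := by
    intro h1
    rw [Subgroup.relIndex_eq_one] at h1
    exact hC (h1 (Subgroup.mem_sup_right (Subgroup.mem_zpowers y₀)))
  have hp : Nat.Prime 3 := Nat.prime_three
  rcases (Nat.dvd_prime hp).1 (Dvd.intro _ hmul) with h1 | h1
  · exact absurd h1 hne
  · rw [h1] at hmul
    have : (Subgroup.centralizer (VX X : Set X) ⊔ Subgroup.zpowers y₀).relIndex (F.O l) = 1 := by
      omega
    exact Subgroup.relIndex_eq_one.1 this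

theorem f5_JQ_inf_C (h : KS X T)
    (hF4 : thompsonSubgroup 2 X ⊓ Subgroup.centralizer (VX X : Set X) ≤ pCore 2 X) {x : X}
    (hx : x ∈ thompsonSubgroup 2 X ⊔ pCore 2 X)
    (hxC : x ∈ Subgroup.centralizer (VX X : Set X)) : x ∈ pCore 2 X := by
  have hJn := f5_J_normal (X := X)
  have hQC := pCore_le_centralizer_VX (X := X) h.hQ
  have hx' : x ∈ ((thompsonSubgroup 2 X ⊔ pCore 2 X : Subgroup X) : Set X) := hx
  rw [Subgroup.normal_mul] at hx'
  obtain ⟨j, hj, q, hq, rfl⟩ := Set.mem_mul.1 hx'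
  have hjC : j ∈ Subgroup.centralizer (VX X : Set X) := by
    have : j = (j * q) * q⁻¹ := by group
    rw [this]
    exact Subgroup.mul_mem _ hxC (Subgroup.inv_mem _ (hQC hq))
  exact Subgroup.mul_mem _ (hF4 ⟨hj, hjC⟩) hq

/-- `K ⊴ KR`, `R` a `2`-group: the odd order elements of `RK` lie in `K` -/
theorem f5_mem_of_odd {K R : Subgroup X} (hR : IsPGroup 2 R)
    (hRK : R ≤ Subgroup.normalizer (K : Set X)) {r k : X} (hr : r ∈ R) (hk : k ∈ K)
    (hodd : Odd (orderOf (r * k))) : r * k ∈ K := by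
  have hKN : K ≤ Subgroup.normalizer (K : Set X) := Subgroup.le_normalizer
  have hn : (K.subgroupOf (Subgroup.normalizer (K : Set X))).Normal :=
    Subgroup.normal_in_normalizer
  obtain ⟨r', hr'⟩ : ∃ r' : Subgroup.normalizer (K : Set X), (r' : X) = r := ⟨⟨r, hRK hr⟩, rfl⟩
  obtain ⟨k', hk'⟩ : ∃ k' : Subgroup.normalizer (K : Set X), (k' : X) = k := ⟨⟨k, hKN hk⟩, rfl⟩
  have hk1 : ((k' : Subgroup.normalizer (K : Set X)) :
      Subgroup.normalizer (K : Set X) ⧸ K.subgroupOf (Subgroup.normalizer (K : Set X))) = 1 := by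
    rw [QuotientGroup.eq_one_iff, Subgroup.mem_subgroupOf, hk']
    exact hk
  have e : ((r' * k' : Subgroup.normalizer (K : Set X)) :
      Subgroup.normalizer (K : Set X) ⧸ K.subgroupOf (Subgroup.normalizer (K : Set X))) =
      (r' : Subgroup.normalizer (K : Set X) ⧸ K.subgroupOf (Subgroup.normalizer (K : Set X))) := by
    rw [QuotientGroup.mk_mul, hk1, mul_one]
  obtain ⟨m, hm⟩ := hR ⟨r, hr⟩
  have hm' : r ^ (2 ^ m) = 1 := by
    have := congrArg Subtype.val hm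
    simpa using this
  have h1 : (r' : Subgroup.normalizer (K : Set X) ⧸
      K.subgroupOf (Subgroup.normalizer (K : Set X))) ^ (2 ^ m) = 1 := by
    rw [← QuotientGroup.mk_pow]
    have : r' ^ (2 ^ m) = 1 := Subtype.ext (by rw [Subgroup.coe_pow, hr', hm']; rfl)
    rw [this]
    rfl
  have h2 : (r' : Subgroup.normalizer (K : Set X) ⧸
      K.subgroupOf (Subgroup.normalizer (K : Set X))) ^ (orderOf (r * k)) = 1 := by
    rw [← e, ← QuotientGroup.mk_pow]
    have : (r' * k') ^ (orderOf (r * k)) = 1 :=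
      Subtype.ext (by rw [Subgroup.coe_pow, Subgroup.coe_mul, hr', hk', pow_orderOf_eq_one]; rfl)
    rw [this]
    rfl
  have h3 := Cfsg.Agent.Helper14.eq_one_of_pow_eq_one_of_coprime h1 h2
    (Nat.Coprime.pow_left m (Nat.coprime_two_left.2 hodd))
  rw [QuotientGroup.eq_one_iff, Subgroup.mem_subgroupOf, hr'] at h3
  exact K.mul_mem h3 hk

/-- PIECE F5, with the facts of F4 and F4B as hypotheses -/
theorem f5_comp_eq_Kc {T : Subgroup X} (h : KS X T) (F : FFData X (VX X)) {K : Subgroup X}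
    (hK : IsJComponent T K)
    (hF4 : thompsonSubgroup 2 X ⊓ Subgroup.centralizer (VX X : Set X) ≤ pCore 2 X)
    (hF4B : VX X ≤ thompsonSubgroupOf 2 T) : ∃ i : Fin F.r, K = Kc F i ∧ wOf K = ⁅VX X, F.D i⁆ := by
  have c := f5_comp h hK
  have hKJ := f5_K_le_J h hK
  have hVn : (VX X).Normal := VX_normal h.hQ
  have hQn := f5_pCore_normal (X := X)
  have hQT : pCore 2 X ≤ T := by
    rw [← h.T_inf_C]
    exact inf_le_left
  obtain ⟨y₀, hy₀K, hy₀odd, hy₀C⟩ :
      ∃ y ∈ K, Odd (orderOf y) ∧ y ∉ Subgroup.centralizer (VX X : Set X) := by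
    by_contra hcon
    push Not at hcon
    apply f5_not_K_le_C h hK
    conv_lhs => rw [← c.hodd]
    rw [Subgroup.closure_le]
    rintro y ⟨hyK, hyodd⟩
    exact hcon y hyK hyodd
  have hy₀3 := f5_cube_eq_one h hK hy₀K hy₀odd
  obtain ⟨l, w, hw, hwy⟩ := f5_exists_l h F hK hy₀K hy₀C
  have hl := f5_W_eq h F hK hF4B hy₀K hy₀3 hw hwy
  refine ⟨l, le_antisymm ?_ ?_, hl.symm⟩
  · conv_lhs => rw [← c.hodd]
    unfold Kc
    rw [Subgroup.closure_le]
    rintro y ⟨hyK, hyodd⟩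
    exact Subgroup.subset_closure
      ⟨f5_mem_O h F hK hF4B hyK hyodd hl, Subgroup.mem_sup_left (hKJ hyK), hyodd⟩
  · unfold Kc
    rw [Subgroup.closure_le]
    rintro x ⟨hxO, hxJQ, hxodd⟩
    have hy₀O := f5_mem_O h F hK hF4B hy₀K hy₀odd hl
    have hx' : x ∈ ((Subgroup.centralizer (VX X : Set X) ⊔ Subgroup.zpowers y₀ : Subgroup X) :
        Set X) := f5_O_le F hy₀O hy₀C hxO
    rw [Subgroup.normal_mul] at hx'
    obtain ⟨c', hc', z, hz, rfl⟩ := Set.mem_mul.1 hx'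
    have hzK : z ∈ K := (Subgroup.zpowers_le.2 hy₀K) hz
    have hc'JQ : c' ∈ thompsonSubgroup 2 X ⊔ pCore 2 X := by
      have : c' = (c' * z) * z⁻¹ := by group
      rw [this]
      exact Subgroup.mul_mem _ hxJQ (Subgroup.inv_mem _ (Subgroup.mem_sup_left (hKJ hzK)))
    have hc'Q : c' ∈ pCore 2 X := f5_JQ_inf_C h hF4 hc'JQ hc'
    exact f5_mem_of_odd (Cfsg.Agent.Helper14.pCore_isPGroup 2 X)
      (comp_normalized_by hK hQn (Cfsg.Agent.Helper14.pCore_isPGroup 2 X) hQT) hc'Q hzK hxodd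

end comp

end Cfsg.Agent.Helper13.JCFF
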