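import Mathlib
import Cfsg.Prelude.Def_RootSubgroups
import Cfsg.Agent.Lib.Helper25.ConjBy

set_option autoImplicit false

namespace Cfsg.Agent.Helper25
namespace RootSL

open Matrix

variable {ι : Type*} [Fintype ι] [DecidableEq ι] {k : Type*} [Field k]

theorem val_mul (g h : SpecialLinearGroup ι k) :
    ((g * h : SpecialLinearGroup ι k) : Matrix ι ι k) = (g : Matrix ι ι k) * (h : Matrix ι ι k) := rfl

theorem val_one : ((1 : SpecialLinearGroup ι k) : Matrix ι ι k) = 1 := rfl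

theorem val_mul_inv (g : SpecialLinearGroup ι k) :
    (g : Matrix ι ι k) * ((g⁻¹ : SpecialLinearGroup ι k) : Matrix ι ι k) = 1 := by
  rw [← val_mul, mul_inv_cancel, val_one]

theorem val_inv_mul (g : SpecialLinearGroup ι k) :
    ((g⁻¹ : SpecialLinearGroup ι k) : Matrix ι ι k) * (g : Matrix ι ι k) = 1 := by
  rw [← val_mul, inv_mul_cancel, val_one]

/-- the matrix `1 + c • v fᵀ`. -/
def tmat (v f : ι → k) (c : k) : Matrix ι ι k := 1 + c • vecMulVec v f

theorem tmat_zero (v f : ι → k) : tmat v f 0 = 1 := by simp [tmat]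

theorem tmat_mulVec (v f : ι → k) (c : k) (x : ι → k) :
    tmat v f c *ᵥ x = x + (c * (f ⬝ᵥ x)) • v := by
  unfold tmat
  rw [add_mulVec, one_mulVec, smul_mulVec, vecMulVec_mulVec, op_smul_eq_smul,
    smul_smul]

theorem vecMul_tmat (v f : ι → k) (c : k) (x : ι → k) :
    x ᵥ* tmat v f c = x + (c * (x ⬝ᵥ v)) • f := by
  unfold tmat
  rw [vecMul_add, vecMul_one, vecMul_smul, vecMul_vecMulVec, smul_smul]

theorem tmat_mul (v f w h : ι → k) (c d : k) :
    tmat v f c * tmat w h d =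
      1 + c • vecMulVec v f + d • vecMulVec w h + (c * d * (f ⬝ᵥ w)) • vecMulVec v h := by
  unfold tmat
  rw [mul_add, add_mul, add_mul, one_mul, mul_one, one_mul, smul_mul_smul_comm,
    vecMulVec_mul_vecMulVec, vecMulVec_smul, smul_smul]
  abel

theorem tmat_mul_same (v f : ι → k) (hfv : f ⬝ᵥ v = 0) (c d : k) :
    tmat v f c * tmat v f d = tmat v f (c + d) := by
  rw [tmat_mul, hfv, mul_zero, zero_smul, add_zero]
  unfold tmat
  rw [add_smul, add_assoc]

theorem det_tmat (v f : ι → k) (hfv : f ⬝ᵥ v = 0) (c : k) : (tmat v f c).det = 1 := by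
  unfold tmat
  have h : c • vecMulVec v f = replicateCol Unit (c • v) * replicateRow Unit f := by
    rw [← vecMulVec_eq, smul_vecMulVec]
  rw [h, det_one_add_replicateCol_mul_replicateRow, dotProduct_smul, hfv, smul_zero, add_zero]

/-- the transvection `1 + c • v fᵀ` as an element of the special linear group. -/
def T (v f : ι → k) (hfv : f ⬝ᵥ v = 0) (c : k) : SpecialLinearGroup ι k :=
  ⟨tmat v f c, det_tmat v f hfv c⟩

@[simp] theorem T_val (v f : ι → k) (hfv : f ⬝ᵥ v = 0) (c : k) :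
    ((T v f hfv c : SpecialLinearGroup ι k) : Matrix ι ι k) = tmat v f c := rfl

theorem T_mul (v f : ι → k) (hfv : f ⬝ᵥ v = 0) (c d : k) :
    T v f hfv c * T v f hfv d = T v f hfv (c + d) := by
  apply Subtype.ext
  rw [val_mul]
  exact tmat_mul_same v f hfv c d

theorem T_zero (v f : ι → k) (hfv : f ⬝ᵥ v = 0) : T v f hfv 0 = 1 := by
  apply Subtype.ext
  exact tmat_zero v f

theorem T_inv (v f : ι → k) (hfv : f ⬝ᵥ v = 0) (c : k) : (T v f hfv c)⁻¹ = T v f hfv (-c) := by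
  apply inv_eq_of_mul_eq_one_left
  rw [T_mul, neg_add_cancel, T_zero]

/-- the root subgroup `{1 + c • v fᵀ}`, defined as a closure. -/
def R (v f : ι → k) : Subgroup (SpecialLinearGroup ι k) :=
  Subgroup.closure {g | ∃ c : k, (g : Matrix ι ι k) = tmat v f c}

/-- the same as an explicit subgroup. -/
def Rsub (v f : ι → k) (hfv : f ⬝ᵥ v = 0) : Subgroup (SpecialLinearGroup ι k) where
  carrier := {g | ∃ c : k, (g : Matrix ι ι k) = tmat v f c}
  mul_mem' := by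
    rintro a b ⟨c, hc⟩ ⟨d, hd⟩
    refine ⟨c + d, ?_⟩
    rw [val_mul, hc, hd, tmat_mul_same v f hfv]
  one_mem' := ⟨0, by rw [tmat_zero]; rfl⟩
  inv_mem' := by
    rintro a ⟨c, hc⟩
    refine ⟨-c, ?_⟩
    have : a = T v f hfv c := Subtype.ext hc
    rw [this, T_inv]
    rfl

theorem R_eq (v f : ι → k) (hfv : f ⬝ᵥ v = 0) : R v f = Rsub v f hfv :=
  Subgroup.closure_eq (Rsub v f hfv)

theorem mem_R {v f : ι → k} (hfv : f ⬝ᵥ v = 0) {g : SpecialLinearGroup ι k} :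
    g ∈ R v f ↔ ∃ c : k, (g : Matrix ι ι k) = tmat v f c := by
  rw [R_eq v f hfv]
  rfl

theorem mem_R' {v f : ι → k} (hfv : f ⬝ᵥ v = 0) {g : SpecialLinearGroup ι k} :
    g ∈ R v f ↔ ∃ c : k, g = T v f hfv c := by
  rw [mem_R hfv]
  constructor
  · rintro ⟨c, hc⟩; exact ⟨c, Subtype.ext hc⟩
  · rintro ⟨c, rfl⟩; exact ⟨c, rfl⟩

theorem T_mem (v f : ι → k) (hfv : f ⬝ᵥ v = 0) (c : k) : T v f hfv c ∈ R v f :=
  (mem_R' hfv).2 ⟨c, rfl⟩

theorem tmat_smul_left (v f : ι → k) (a c : k) : tmat (a • v) f c = tmat v f (c * a) := by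
  unfold tmat
  rw [smul_vecMulVec, smul_smul]

theorem tmat_smul_right (v f : ι → k) (a c : k) : tmat v (a • f) c = tmat v f (c * a) := by
  unfold tmat
  rw [vecMulVec_smul, smul_smul]

theorem R_smul_left (v f : ι → k) {a : k} (ha : a ≠ 0) : R (a • v) f = R v f := by
  unfold R
  congr 1
  ext g
  constructor
  · rintro ⟨c, hc⟩
    exact ⟨c * a, by rw [hc, tmat_smul_left]⟩
  · rintro ⟨c, hc⟩
    refine ⟨c * a⁻¹, ?_⟩
    rw [hc, tmat_smul_left, mul_assoc, inv_mul_cancel₀ ha, mul_one]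

theorem R_smul_right (v f : ι → k) {a : k} (ha : a ≠ 0) : R v (a • f) = R v f := by
  unfold R
  congr 1
  ext g
  constructor
  · rintro ⟨c, hc⟩
    exact ⟨c * a, by rw [hc, tmat_smul_right]⟩
  · rintro ⟨c, hc⟩
    refine ⟨c * a⁻¹, ?_⟩
    rw [hc, tmat_smul_right, mul_assoc, inv_mul_cancel₀ ha, mul_one]

/-- conjugation of the matrices. -/
theorem conj_tmat (g : SpecialLinearGroup ι k) (v f : ι → k) (c : k) :
    (g : Matrix ι ι k) * tmat v f c * ((g⁻¹ : SpecialLinearGroup ι k) : Matrix ι ι k) =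
      tmat ((g : Matrix ι ι k) *ᵥ v) (f ᵥ* ((g⁻¹ : SpecialLinearGroup ι k) : Matrix ι ι k)) c := by
  unfold tmat
  rw [mul_add, add_mul, mul_one, val_mul_inv, Matrix.mul_smul, Matrix.smul_mul, mul_vecMulVec, vecMulVec_mul]

theorem dot_conj (g : SpecialLinearGroup ι k) (v f : ι → k) :
    (f ᵥ* ((g⁻¹ : SpecialLinearGroup ι k) : Matrix ι ι k)) ⬝ᵥ ((g : Matrix ι ι k) *ᵥ v) = f ⬝ᵥ v := by
  rw [← dotProduct_mulVec, mulVec_mulVec, val_inv_mul, one_mulVec]

theorem conjBy_R (g : SpecialLinearGroup ι k) (v f : ι → k) (hfv : f ⬝ᵥ v = 0) :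
    Cfsg.conjBy (R v f) g =
      R ((g : Matrix ι ι k) *ᵥ v) (f ᵥ* ((g⁻¹ : SpecialLinearGroup ι k) : Matrix ι ι k)) := by
  have hfv' := (dot_conj g v f).trans hfv
  ext x
  rw [mem_conjBy, mem_R hfv, mem_R hfv']
  constructor
  · rintro ⟨c, hc⟩
    refine ⟨c, ?_⟩
    have hx : x = g * (g⁻¹ * x * g) * g⁻¹ := by group
    rw [hx, val_mul, val_mul, hc, conj_tmat]
  · rintro ⟨c, hc⟩
    refine ⟨c, ?_⟩
    rw [val_mul, val_mul, hc]
    have h := conj_tmat g⁻¹ ((g : Matrix ι ι k) *ᵥ v)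
      (f ᵥ* ((g⁻¹ : SpecialLinearGroup ι k) : Matrix ι ι k)) c
    rw [inv_inv] at h
    rw [h, mulVec_mulVec, vecMul_vecMul, val_inv_mul, one_mulVec, vecMul_one]

end RootSL
end Cfsg.Agent.Helper25
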