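import Mathlib
import Cfsg.Agent.Lib.Helper25.RootSL1

set_option autoImplicit false

namespace Cfsg.Agent.Helper25
namespace SpRoot

open Matrix

variable {l : Type*} [Fintype l] [DecidableEq l] {F : Type*} [Field F]

/-- the standard alternating form. -/
def Bf (x y : l ⊕ l → F) : F := x ⬝ᵥ (J l F *ᵥ y)

theorem J_mulVec_inl (y : l ⊕ l → F) (i : l) : (J l F *ᵥ y) (Sum.inl i) = - y (Sum.inr i) := by
  unfold J
  rw [fromBlocks_mulVec]
  simp [Matrix.neg_mulVec]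

theorem J_mulVec_inr (y : l ⊕ l → F) (i : l) : (J l F *ᵥ y) (Sum.inr i) = y (Sum.inl i) := by
  unfold J
  rw [fromBlocks_mulVec]
  simp

theorem Bf_eq (x y : l ⊕ l → F) :
    Bf x y = ∑ i : l, (x (Sum.inr i) * y (Sum.inl i) - x (Sum.inl i) * y (Sum.inr i)) := by
  unfold Bf dotProduct
  rw [Fintype.sum_sum_type]
  simp only [J_mulVec_inl, J_mulVec_inr]
  rw [← Finset.sum_add_distrib]
  apply Finset.sum_congr rfl
  intro i _
  ring

theorem Bf_self (x : l ⊕ l → F) : Bf x x = 0 := by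
  rw [Bf_eq]
  apply Finset.sum_eq_zero
  intro i _
  ring

theorem Bf_swap (x y : l ⊕ l → F) : Bf x y = - Bf y x := by
  rw [Bf_eq, Bf_eq, ← Finset.sum_neg_distrib]
  apply Finset.sum_congr rfl
  intro i _
  ring

theorem Bf_add_left (x x' y : l ⊕ l → F) : Bf (x + x') y = Bf x y + Bf x' y := by
  unfold Bf; rw [add_dotProduct]

theorem Bf_add_right (x y y' : l ⊕ l → F) : Bf x (y + y') = Bf x y + Bf x y' := by
  unfold Bf; rw [mulVec_add, dotProduct_add]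

theorem Bf_smul_left (a : F) (x y : l ⊕ l → F) : Bf (a • x) y = a * Bf x y := by
  unfold Bf; rw [smul_dotProduct, smul_eq_mul]

theorem Bf_smul_right (a : F) (x y : l ⊕ l → F) : Bf x (a • y) = a * Bf x y := by
  unfold Bf; rw [mulVec_smul, dotProduct_smul, smul_eq_mul]

theorem Bf_neg_left (x y : l ⊕ l → F) : Bf (-x) y = - Bf x y := by
  unfold Bf; rw [neg_dotProduct]

theorem Bf_neg_right (x y : l ⊕ l → F) : Bf x (-y) = - Bf x y := by
  unfold Bf; rw [mulVec_neg, dotProduct_neg]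

theorem Bf_sub_left (x x' y : l ⊕ l → F) : Bf (x - x') y = Bf x y - Bf x' y := by
  rw [sub_eq_add_neg, Bf_add_left, Bf_neg_left, sub_eq_add_neg]

theorem Bf_sub_right (x y y' : l ⊕ l → F) : Bf x (y - y') = Bf x y - Bf x y' := by
  rw [sub_eq_add_neg, Bf_add_right, Bf_neg_right, sub_eq_add_neg]

theorem Bf_zero_left (y : l ⊕ l → F) : Bf 0 y = 0 := by
  unfold Bf; rw [zero_dotProduct]

theorem Bf_zero_right (x : l ⊕ l → F) : Bf x 0 = 0 := by
  unfold Bf; rw [mulVec_zero, dotProduct_zero]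

theorem mulVec_dot (A : Matrix (l ⊕ l) (l ⊕ l) F) (x w : l ⊕ l → F) :
    (A *ᵥ x) ⬝ᵥ w = x ⬝ᵥ (Aᵀ *ᵥ w) := by
  rw [dotProduct_comm, dotProduct_mulVec, ← vecMul_transpose, transpose_transpose, dotProduct_comm]

theorem Bf_invariant {A : Matrix (l ⊕ l) (l ⊕ l) F} (hA : A ∈ symplecticGroup l F)
    (x y : l ⊕ l → F) : Bf (A *ᵥ x) (A *ᵥ y) = Bf x y := by
  unfold Bf
  rw [mulVec_dot, mulVec_mulVec, mulVec_mulVec, (SymplecticGroup.mem_iff').1 hA]

/-- nondegeneracy. -/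
theorem exists_Bf_ne {x : l ⊕ l → F} (hx : x ≠ 0) : ∃ w : l ⊕ l → F, Bf x w ≠ 0 := by
  obtain ⟨a, ha⟩ := Function.ne_iff.1 hx
  rw [Pi.zero_apply] at ha
  rcases a with i | i
  · refine ⟨Pi.single (Sum.inr i) 1, ?_⟩
    rw [Bf_eq, Finset.sum_eq_single i]
    · simp [ha]
    · intro j _ hj
      simp [hj]
    · intro h; exact absurd (Finset.mem_univ i) h
  · refine ⟨Pi.single (Sum.inl i) 1, ?_⟩
    rw [Bf_eq, Finset.sum_eq_single i]
    · simp [ha]
    · intro j _ hj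
      simp [hj]
    · intro h; exact absurd (Finset.mem_univ i) h

/-- avoiding two hyperplanes. -/
theorem exists_Bf_ne_two {a b : l ⊕ l → F} (ha : a ≠ 0) (hb : b ≠ 0) :
    ∃ w : l ⊕ l → F, Bf a w ≠ 0 ∧ Bf b w ≠ 0 := by
  obtain ⟨w₁, h₁⟩ := exists_Bf_ne ha
  obtain ⟨w₂, h₂⟩ := exists_Bf_ne hb
  by_cases h3 : Bf b w₁ = 0
  · by_cases h4 : Bf a w₂ = 0
    · refine ⟨w₁ + w₂, ?_, ?_⟩
      · rw [Bf_add_right, h4, add_zero]; exact h₁
      · rw [Bf_add_right, h3, zero_add]; exact h₂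
    · exact ⟨w₂, h4, h₂⟩
  · exact ⟨w₁, h₁, h3⟩

end SpRoot
end Cfsg.Agent.Helper25
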