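import Mathlib
import Cfsg.Agent.Lib.Helper25.SpRoot1

set_option autoImplicit false

namespace Cfsg.Agent.Helper25
namespace SpRoot

open Matrix

variable {l : Type*} [Fintype l] [DecidableEq l] {F : Type*} [Field F]

/-- the covector attached to `u`. -/
def om (u : l ⊕ l → F) : l ⊕ l → F := J l F *ᵥ u

theorem om_dot (u x : l ⊕ l → F) : om u ⬝ᵥ x = Bf x u := dotProduct_comm _ _

theorem om_self (u : l ⊕ l → F) : om u ⬝ᵥ u = 0 := by rw [om_dot, Bf_self]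

/-- the symplectic transvection matrix. -/
def tau (u : l ⊕ l → F) (c : F) : Matrix (l ⊕ l) (l ⊕ l) F := RootSL.tmat u (om u) c

theorem tau_mulVec (u : l ⊕ l → F) (c : F) (x : l ⊕ l → F) :
    tau u c *ᵥ x = x + (c * Bf x u) • u := by
  rw [tau, RootSL.tmat_mulVec, om_dot]

theorem Bf_mulVec (A : Matrix (l ⊕ l) (l ⊕ l) F) (x y : l ⊕ l → F) :
    Bf (A *ᵥ x) (A *ᵥ y) = x ⬝ᵥ ((Aᵀ * J l F * A) *ᵥ y) := by
  unfold Bf
  rw [mulVec_dot, mulVec_mulVec, mulVec_mulVec]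

theorem single_dot_mulVec_single (M : Matrix (l ⊕ l) (l ⊕ l) F) (i j : l ⊕ l) :
    (Pi.single i (1 : F) : l ⊕ l → F) ⬝ᵥ (M *ᵥ Pi.single j 1) = M i j := by
  rw [single_dotProduct, one_mul, mulVec_single_one]
  rfl

theorem mem_of_preserves {A : Matrix (l ⊕ l) (l ⊕ l) F}
    (h : ∀ x y : l ⊕ l → F, Bf (A *ᵥ x) (A *ᵥ y) = Bf x y) : A ∈ symplecticGroup l F := by
  rw [SymplecticGroup.mem_iff']
  ext i j
  have := h (Pi.single i 1) (Pi.single j 1)
  rw [Bf_mulVec, single_dot_mulVec_single] at this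
  rw [this]
  unfold Bf
  exact single_dot_mulVec_single _ i j

theorem tau_mem (u : l ⊕ l → F) (c : F) : tau u c ∈ symplecticGroup l F := by
  apply mem_of_preserves
  intro x y
  rw [tau_mulVec, tau_mulVec, Bf_add_left, Bf_add_right, Bf_add_right, Bf_smul_left, Bf_smul_right,
    Bf_smul_left, Bf_smul_right, Bf_self, Bf_swap u y]
  ring

/-- the transvection as an element of the symplectic group. -/
def Tp (u : l ⊕ l → F) (c : F) : symplecticGroup l F := ⟨tau u c, tau_mem u c⟩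

@[simp] theorem Tp_val (u : l ⊕ l → F) (c : F) :
    ((Tp u c : symplecticGroup l F) : Matrix (l ⊕ l) (l ⊕ l) F) = tau u c := rfl

theorem sp_val_mul (g h : symplecticGroup l F) :
    ((g * h : symplecticGroup l F) : Matrix (l ⊕ l) (l ⊕ l) F) =
      (g : Matrix (l ⊕ l) (l ⊕ l) F) * (h : Matrix (l ⊕ l) (l ⊕ l) F) := rfl

theorem sp_val_one : ((1 : symplecticGroup l F) : Matrix (l ⊕ l) (l ⊕ l) F) = 1 := rfl

theorem sp_inv_mulVec (g : symplecticGroup l F) (x : l ⊕ l → F) :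
    ((g⁻¹ : symplecticGroup l F) : Matrix (l ⊕ l) (l ⊕ l) F) *ᵥ
      ((g : Matrix (l ⊕ l) (l ⊕ l) F) *ᵥ x) = x := by
  rw [mulVec_mulVec, ← sp_val_mul, inv_mul_cancel, sp_val_one, one_mulVec]

theorem sp_mulVec_inv (g : symplecticGroup l F) (x : l ⊕ l → F) :
    (g : Matrix (l ⊕ l) (l ⊕ l) F) *ᵥ
      (((g⁻¹ : symplecticGroup l F) : Matrix (l ⊕ l) (l ⊕ l) F) *ᵥ x) = x := by
  rw [mulVec_mulVec, ← sp_val_mul, mul_inv_cancel, sp_val_one, one_mulVec]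

theorem sp_ext {g h : symplecticGroup l F}
    (H : ∀ x : l ⊕ l → F, (g : Matrix (l ⊕ l) (l ⊕ l) F) *ᵥ x =
      (h : Matrix (l ⊕ l) (l ⊕ l) F) *ᵥ x) : g = h := by
  apply Subtype.ext
  exact Matrix.ext_iff_mulVec.2 H

theorem Tp_mul (u : l ⊕ l → F) (c d : F) : Tp u c * Tp u d = Tp u (c + d) := by
  apply Subtype.ext
  rw [sp_val_mul, Tp_val, Tp_val, Tp_val]
  exact RootSL.tmat_mul_same u (om u) (om_self u) c d

theorem Tp_zero (u : l ⊕ l → F) : Tp u 0 = 1 := by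
  apply Subtype.ext
  exact RootSL.tmat_zero u (om u)

theorem Tp_inv (u : l ⊕ l → F) (c : F) : (Tp u c)⁻¹ = Tp u (-c) := by
  apply inv_eq_of_mul_eq_one_left
  rw [Tp_mul, neg_add_cancel, Tp_zero]

theorem Tp_mulVec (u : l ⊕ l → F) (c : F) (x : l ⊕ l → F) :
    ((Tp u c : symplecticGroup l F) : Matrix (l ⊕ l) (l ⊕ l) F) *ᵥ x = x + (c * Bf x u) • u :=
  tau_mulVec u c x

theorem conj_Tp (g : symplecticGroup l F) (u : l ⊕ l → F) (c : F) :
    g * Tp u c * g⁻¹ = Tp ((g : Matrix (l ⊕ l) (l ⊕ l) F) *ᵥ u) c := by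
  apply sp_ext
  intro x
  rw [sp_val_mul, sp_val_mul, ← mulVec_mulVec, ← mulVec_mulVec, Tp_mulVec, Tp_mulVec, mulVec_add,
    sp_mulVec_inv, mulVec_smul]
  congr 3
  rw [← Bf_invariant g.2, sp_mulVec_inv]

end SpRoot
end Cfsg.Agent.Helper25
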