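import Mathlib
import Cfsg.Agent.Lib.Helper25.SpRoot2

set_option autoImplicit false

namespace Cfsg.Agent.Helper25
namespace SpRoot

open Matrix

variable {l : Type*} [Fintype l] [DecidableEq l] {F : Type*} [Field F]

/-- the subgroup generated by all symplectic transvections. -/
def Hsub (l : Type*) [Fintype l] [DecidableEq l] (F : Type*) [Field F] :
    Subgroup ↥(symplecticGroup l F) :=
  Subgroup.closure {g | ∃ (u : l ⊕ l → F) (c : F), g = Tp u c}

theorem Tp_mem_Hsub (u : l ⊕ l → F) (c : F) : Tp u c ∈ Hsub l F :=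
  Subgroup.subset_closure ⟨u, c, rfl⟩

/-- the fixed space. -/
def fix (g : ↥(symplecticGroup l F)) : Submodule F (l ⊕ l → F) where
  carrier := {x | (g : Matrix (l ⊕ l) (l ⊕ l) F) *ᵥ x = x}
  add_mem' := by
    intro a b ha hb
    show (g : Matrix (l ⊕ l) (l ⊕ l) F) *ᵥ (a + b) = a + b
    rw [mulVec_add, ha, hb]
  zero_mem' := mulVec_zero _
  smul_mem' := by
    intro c x hx
    show (g : Matrix (l ⊕ l) (l ⊕ l) F) *ᵥ (c • x) = c • x
    rw [mulVec_smul, hx]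

theorem mem_fix {g : ↥(symplecticGroup l F)} {x : l ⊕ l → F} :
    x ∈ fix g ↔ (g : Matrix (l ⊕ l) (l ⊕ l) F) *ᵥ x = x := Iff.rfl

theorem Bf_fix_sub {g : ↥(symplecticGroup l F)} {x : l ⊕ l → F} (hx : x ∈ fix g)
    (w : l ⊕ l → F) : Bf x ((g : Matrix (l ⊕ l) (l ⊕ l) F) *ᵥ w - w) = 0 := by
  rw [Bf_sub_right]
  conv_lhs => rw [← mem_fix.1 hx]
  rw [Bf_invariant g.2, mem_fix.1 hx, sub_self]

/-- Case 1. -/
theorem step_one (g : ↥(symplecticGroup l F)) (v : l ⊕ l → F)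
    (hv : Bf v ((g : Matrix (l ⊕ l) (l ⊕ l) F) *ᵥ v) ≠ 0) :
    ∃ h ∈ Hsub l F, fix g ≤ fix (h * g) ∧ v ∈ fix (h * g) := by
  refine ⟨Tp ((g : Matrix (l ⊕ l) (l ⊕ l) F) *ᵥ v - v)
    (-(Bf v ((g : Matrix (l ⊕ l) (l ⊕ l) F) *ᵥ v))⁻¹), Tp_mem_Hsub _ _, ?_, ?_⟩
  · intro x hx
    rw [mem_fix, sp_val_mul, ← mulVec_mulVec, mem_fix.1 hx, Tp_mulVec, Bf_fix_sub hx, mul_zero,
      zero_smul, add_zero]
  · rw [mem_fix, sp_val_mul, ← mulVec_mulVec, Tp_mulVec]
    have h1 : Bf ((g : Matrix (l ⊕ l) (l ⊕ l) F) *ᵥ v)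
        ((g : Matrix (l ⊕ l) (l ⊕ l) F) *ᵥ v - v) =
        Bf v ((g : Matrix (l ⊕ l) (l ⊕ l) F) *ᵥ v) := by
      rw [Bf_sub_right, Bf_self, zero_sub, ← Bf_swap]
    rw [h1, neg_mul, inv_mul_cancel₀ hv, neg_smul, one_smul]
    abel

theorem exists_not_fixed {g : ↥(symplecticGroup l F)} (hg : g ≠ 1) :
    ∃ v : l ⊕ l → F, (g : Matrix (l ⊕ l) (l ⊕ l) F) *ᵥ v ≠ v := by
  by_contra hcon
  push Not at hcon
  apply hg
  apply sp_ext
  intro x
  rw [hcon x, sp_val_one, one_mulVec]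

/-- the basic step: enlarge the fixed space. -/
theorem step (g : ↥(symplecticGroup l F)) (hg : g ≠ 1) :
    ∃ h ∈ Hsub l F, fix g < fix (h * g) := by
  by_cases hall : ∀ v : l ⊕ l → F, Bf v ((g : Matrix (l ⊕ l) (l ⊕ l) F) *ᵥ v) = 0
  · obtain ⟨v, hv⟩ := exists_not_fixed hg
    have hN : (g : Matrix (l ⊕ l) (l ⊕ l) F) *ᵥ v - v ≠ 0 := sub_ne_zero.2 hv
    obtain ⟨w, hw⟩ := exists_Bf_ne hN
    -- polarization
    have hpol : ∀ a b : l ⊕ l → F, Bf a ((g : Matrix (l ⊕ l) (l ⊕ l) F) *ᵥ b) =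
        - Bf b ((g : Matrix (l ⊕ l) (l ⊕ l) F) *ᵥ a) := by
      intro a b
      have := hall (a + b)
      rw [mulVec_add, Bf_add_left, Bf_add_right, Bf_add_right, hall a, hall b, zero_add,
        add_zero] at this
      exact eq_neg_of_add_eq_zero_left this
    set u := (g : Matrix (l ⊕ l) (l ⊕ l) F) *ᵥ w - w with hu
    have h1 : Bf v u = Bf ((g : Matrix (l ⊕ l) (l ⊕ l) F) *ᵥ v - v) w := by
      rw [hu, Bf_sub_right, hpol v w, Bf_sub_left,
        Bf_swap ((g : Matrix (l ⊕ l) (l ⊕ l) F) *ᵥ v) w]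
    have h2 : Bf ((g : Matrix (l ⊕ l) (l ⊕ l) F) *ᵥ v) u =
        - Bf ((g : Matrix (l ⊕ l) (l ⊕ l) F) *ᵥ v - v) w := by
      rw [hu, Bf_sub_right, Bf_invariant g.2, Bf_sub_left]
      ring
    have hfix1 : fix g ≤ fix (Tp u 1 * g) := by
      intro x hx
      rw [mem_fix, sp_val_mul, ← mulVec_mulVec, mem_fix.1 hx, Tp_mulVec, hu, Bf_fix_sub hx,
        mul_zero, zero_smul, add_zero]
    have h3 : Bf v (((Tp u 1 * g : ↥(symplecticGroup l F)) : Matrix (l ⊕ l) (l ⊕ l) F) *ᵥ v) ≠ 0 := by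
      rw [sp_val_mul, ← mulVec_mulVec, Tp_mulVec, Bf_add_right, hall v, zero_add, Bf_smul_right,
        one_mul, h1, h2]
      exact mul_ne_zero (neg_ne_zero.2 hw) hw
    obtain ⟨h', hh', hle, hvfix⟩ := step_one (Tp u 1 * g) v h3
    refine ⟨h' * Tp u 1, (Hsub l F).mul_mem hh' (Tp_mem_Hsub _ _), ?_⟩
    rw [mul_assoc]
    refine lt_of_le_of_ne (hfix1.trans hle) ?_
    intro heq
    have : v ∈ fix g := by rw [heq]; exact hvfix
    exact hv (mem_fix.1 this)
  · push Not at hall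
    obtain ⟨v, hv⟩ := hall
    obtain ⟨h, hh, hle, hvfix⟩ := step_one g v hv
    refine ⟨h, hh, lt_of_le_of_ne hle ?_⟩
    intro heq
    have : v ∈ fix g := by rw [heq]; exact hvfix
    apply hv
    rw [mem_fix.1 this, Bf_self]

theorem mem_Hsub_aux : ∀ (k : ℕ) (g : ↥(symplecticGroup l F)),
    Module.finrank F (l ⊕ l → F) ≤ Module.finrank F (fix g) + k → g ∈ Hsub l F := by
  intro k
  induction k with
  | zero =>
    intro g hk
    rw [add_zero] at hk
    have htop : fix g = ⊤ :=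
      Submodule.eq_top_of_finrank_eq (le_antisymm (Submodule.finrank_le _) hk)
    have : g = 1 := by
      apply sp_ext
      intro x
      have hx : x ∈ fix g := by rw [htop]; exact Submodule.mem_top
      rw [mem_fix.1 hx, sp_val_one, one_mulVec]
    rw [this]
    exact one_mem _
  | succ k ih =>
    intro g hk
    by_cases hg : g = 1
    · rw [hg]; exact one_mem _
    · obtain ⟨h, hh, hlt⟩ := step g hg
      have hfr := Submodule.finrank_lt_finrank_of_lt hlt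
      have : h * g ∈ Hsub l F := ih (h * g) (by omega)
      have e : g = h⁻¹ * (h * g) := by group
      rw [e]
      exact (Hsub l F).mul_mem ((Hsub l F).inv_mem hh) this

/-- the symplectic group is generated by transvections. -/
theorem Hsub_eq_top : Hsub l F = ⊤ := by
  rw [eq_top_iff]
  intro g _
  exact mem_Hsub_aux (Module.finrank F (l ⊕ l → F)) g (Nat.le_add_left _ _)

end SpRoot
end Cfsg.Agent.Helper25
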