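import Mathlib
import Cfsg.Agent.Lib.Helper6.SpMat0
import Cfsg.Agent.Lib.Helper25.SpRoot3

set_option autoImplicit false
set_option linter.unusedSectionVars false
set_option linter.unusedVariables false

/-! PIECE M2 of S2092 for helper6: the elementary symplectic matrices generate `Sp_{2m}(K)`. -/

namespace Cfsg.Agent.Helper25.SpM2

open Matrix Cfsg.Agent.Helper6.SpN Cfsg.Agent.Helper25.SpRoot

variable {I : Type*} [Fintype I] [DecidableEq I] {K : Type*} [Field K]

/-- basis vector -/
def ev (a : I ⊕ I) : I ⊕ I → K := Pi.single a 1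

theorem ev_apply (a i : I ⊕ I) : (ev a : I ⊕ I → K) i = if i = a then 1 else 0 := by
  unfold ev
  rw [Pi.single_apply]

theorem Bf_ev (x : I ⊕ I → K) (a : I ⊕ I) : Bf x (ev a) = sg K a * x (ng a) := by
  rw [Bf_eq]
  cases a with
  | inl k =>
    simp only [ev_apply, sg, ng, Sum.elim_inl, Sum.swap_inl, one_mul]
    rw [Finset.sum_eq_single k]
    · simp
    · intro j _ hj
      simp [hj]
    · simp
  | inr k =>
    simp only [ev_apply, sg, ng, Sum.elim_inr, Sum.swap_inr]
    rw [Finset.sum_eq_single k]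
    · simp
    · intro j _ hj
      simp [hj]
    · simp

theorem Bf_ev_left (a : I ⊕ I) (y : I ⊕ I → K) : Bf (ev a) y = - (sg K a * y (ng a)) := by
  rw [Bf_swap, Bf_ev]

theorem Bf_ev_ev (a b : I ⊕ I) :
    Bf (ev a : I ⊕ I → K) (ev b) = if a = ng b then sg K b else 0 := by
  rw [Bf_ev, ev_apply]
  by_cases h : a = ng b
  · have h' : ng b = a := h.symm
    rw [if_pos h, if_pos h', mul_one]
  · have h' : ¬ ng b = a := fun e => h e.symm
    rw [if_neg h, if_neg h', mul_zero]

/-! ### the action on vectors -/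

theorem LmM_mulVec (a : I ⊕ I) (t : K) (x : I ⊕ I → K) :
    LmM a t *ᵥ x = x + (t * x (ng a)) • ev a := by
  unfold LmM ev
  rw [add_mulVec, one_mulVec, single_mulVec_eq]

theorem TmM_mulVec (a b : I ⊕ I) (t : K) (x : I ⊕ I → K) :
    TmM a b t *ᵥ x = x + (t * x b) • ev a - (sg K a * sg K b * t * x (ng a)) • ev (ng b) := by
  unfold TmM ev
  rw [sub_mulVec, add_mulVec, one_mulVec, single_mulVec_eq, single_mulVec_eq]

theorem LmM_mem' (a : I ⊕ I) (t : K) : LmM a t ∈ symplecticGroup I K := by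
  apply mem_of_preserves
  intro x y
  rw [LmM_mulVec, LmM_mulVec]
  simp only [Bf_add_left, Bf_add_right, Bf_smul_left, Bf_smul_right]
  simp only [Bf_self]
  simp only [Bf_ev, Bf_ev_left]
  ring

theorem TmM_mem' {a b : I ⊕ I} (hab : a ≠ b) (hab' : a ≠ ng b) (t : K) :
    TmM a b t ∈ symplecticGroup I K := by
  apply mem_of_preserves
  intro x y
  rw [TmM_mulVec, TmM_mulVec]
  have e1 : Bf (ev a : I ⊕ I → K) (ev (ng b)) = 0 := by
    rw [Bf_ev_ev, ng_ng, if_neg hab]
  have e2 : Bf (ev (ng b) : I ⊕ I → K) (ev a) = 0 := by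
    rw [Bf_swap, e1, neg_zero]
  simp only [Bf_add_left, Bf_add_right, Bf_sub_left, Bf_sub_right, Bf_smul_left, Bf_smul_right]
  simp only [Bf_self, e1, e2]
  simp only [Bf_ev, Bf_ev_left, ng_ng, sg_ng]
  have h := sg_mul_self (K := K) b
  have h' := sg_mul_self (K := K) a
  linear_combination (t * sg K a * x b * y (ng a) - t * sg K a * x (ng a) * y b) * h

theorem Lm_coe' (a : I ⊕ I) (t : K) :
    ((Lm a t : symplecticGroup I K) : Matrix (I ⊕ I) (I ⊕ I) K) = LmM a t := by
  unfold Lm
  rw [dif_pos (LmM_mem' a t)]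

theorem Tm_coe' {a b : I ⊕ I} (hab : a ≠ b) (hab' : a ≠ ng b) (t : K) :
    ((Tm a b t : symplecticGroup I K) : Matrix (I ⊕ I) (I ⊕ I) K) = TmM a b t := by
  unfold Tm
  rw [dif_pos (TmM_mem' hab hab' t)]

/-! ### generation -/

theorem Lm_mem_E (a : I ⊕ I) (t : K) : Lm a t ∈ Subgroup.closure (elemSet I K) :=
  Subgroup.subset_closure (Or.inr ⟨a, t, rfl⟩)

theorem Tm_mem_E {a b : I ⊕ I} (hab : a ≠ b) (hab' : a ≠ ng b) (t : K) :
    Tm a b t ∈ Subgroup.closure (elemSet I K) :=
  Subgroup.subset_closure (Or.inl ⟨a, b, t, hab, hab', rfl⟩)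

theorem Lm_mulVec (a : I ⊕ I) (t : K) (x : I ⊕ I → K) :
    ((Lm a t : symplecticGroup I K) : Matrix (I ⊕ I) (I ⊕ I) K) *ᵥ x
      = x + (t * x (ng a)) • ev a := by
  rw [Lm_coe', LmM_mulVec]

theorem Tm_mulVec {a b : I ⊕ I} (hab : a ≠ b) (hab' : a ≠ ng b) (t : K) (x : I ⊕ I → K) :
    ((Tm a b t : symplecticGroup I K) : Matrix (I ⊕ I) (I ⊕ I) K) *ᵥ x
      = x + (t * x b) • ev a - (sg K a * sg K b * t * x (ng a)) • ev (ng b) := by
  rw [Tm_coe' hab hab', TmM_mulVec]

theorem Tp_zero_vec (c : K) : Tp (0 : I ⊕ I → K) c = 1 := by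
  apply sp_ext
  intro x
  rw [Tp_mulVec, smul_zero, add_zero, sp_val_one, one_mulVec]

theorem Tp_smul_ev (a : I ⊕ I) (s c : K) : Tp (s • ev a) c = Lm a (c * s * s * sg K a) := by
  apply sp_ext
  intro x
  rw [Tp_mulVec, Lm_mulVec, Bf_smul_right, Bf_ev, smul_smul]
  have h : c * (s * (sg K a * x (ng a))) * s = c * s * s * sg K a * x (ng a) := by ring
  rw [h]

theorem Tp_mem_of_conj {E : Subgroup (symplecticGroup I K)} {g : symplecticGroup I K}
    (hg : g ∈ E) {u : I ⊕ I → K}
    (h : ∀ c, Tp ((g : Matrix (I ⊕ I) (I ⊕ I) K) *ᵥ u) c ∈ E) : ∀ c, Tp u c ∈ E := by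
  intro c
  have h1 := conj_Tp g u c
  have h2 : Tp u c = g⁻¹ * Tp ((g : Matrix (I ⊕ I) (I ⊕ I) K) *ᵥ u) c * g := by
    rw [← h1]; group
  rw [h2]
  exact E.mul_mem (E.mul_mem (E.inv_mem hg) (h c)) hg

theorem exists_reduce (u : I ⊕ I → K) {a b : I ⊕ I} (hab : a ≠ b) (ha : u a ≠ 0)
    (hb : u b ≠ 0) :
    ∃ g ∈ Subgroup.closure (elemSet I K), ∃ a' : I ⊕ I, u a' ≠ 0 ∧
      (g : Matrix (I ⊕ I) (I ⊕ I) K) *ᵥ u = Function.update u a' 0 := by
  by_cases h : ∃ d, u d ≠ 0 ∧ u (ng d) ≠ 0
  · obtain ⟨d, hd, hd'⟩ := h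
    refine ⟨Lm d (-u d / u (ng d)), Lm_mem_E _ _, d, hd, ?_⟩
    rw [Lm_mulVec]
    funext i
    by_cases hi : i = d
    · subst hi
      simp only [Pi.add_apply, Pi.smul_apply, ev_apply, if_true, smul_eq_mul,
        Function.update_self]
      field_simp
      ring
    · simp only [Pi.add_apply, Pi.smul_apply, ev_apply, if_neg hi, smul_eq_mul, mul_zero,
        add_zero, Function.update_of_ne hi]
  · push Not at h
    have hna : u (ng a) = 0 := h a ha
    have hbna : b ≠ ng a := by
      intro e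
      rw [e] at hb
      exact hb hna
    have hab' : a ≠ ng b := by
      intro e
      apply hbna
      rw [e, ng_ng]
    refine ⟨Tm a b (-u a / u b), Tm_mem_E hab hab' _, a, ha, ?_⟩
    rw [Tm_mulVec hab hab', hna, mul_zero, zero_smul, sub_zero]
    funext i
    by_cases hi : i = a
    · subst hi
      simp only [Pi.add_apply, Pi.smul_apply, ev_apply, if_true, smul_eq_mul,
        Function.update_self]
      field_simp
      ring
    · simp only [Pi.add_apply, Pi.smul_apply, ev_apply, if_neg hi, smul_eq_mul, mul_zero,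
        add_zero, Function.update_of_ne hi]

open Classical in
theorem Tp_mem_aux : ∀ (n : ℕ) (u : I ⊕ I → K),
    (Finset.univ.filter (fun i => u i ≠ 0)).card ≤ n →
    ∀ c, Tp u c ∈ Subgroup.closure (elemSet I K) := by
  intro n
  induction n with
  | zero =>
    intro u hu c
    have h0 : u = 0 := by
      funext i
      by_contra hi
      have hmem : i ∈ Finset.univ.filter (fun i => u i ≠ 0) :=
        Finset.mem_filter.mpr ⟨Finset.mem_univ i, hi⟩
      have := Finset.card_pos.mpr ⟨i, hmem⟩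
      omega
    rw [h0, Tp_zero_vec]
    exact Subgroup.one_mem _
  | succ n ih =>
    intro u hu
    by_cases h2 : ∃ a b, a ≠ b ∧ u a ≠ 0 ∧ u b ≠ 0
    · obtain ⟨a, b, hab, ha, hb⟩ := h2
      obtain ⟨g, hg, a', ha', hgu⟩ := exists_reduce u hab ha hb
      apply Tp_mem_of_conj hg
      rw [hgu]
      apply ih
      have hsub : Finset.univ.filter (fun i => Function.update u a' 0 i ≠ 0)
          ⊆ (Finset.univ.filter (fun i => u i ≠ 0)).erase a' := by
        intro i hi
        rw [Finset.mem_filter] at hi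
        have hia : i ≠ a' := by
          intro e
          rw [e, Function.update_self] at hi
          exact hi.2 rfl
        rw [Function.update_of_ne hia] at hi
        exact Finset.mem_erase.mpr ⟨hia, Finset.mem_filter.mpr ⟨Finset.mem_univ i, hi.2⟩⟩
      have hmem : a' ∈ Finset.univ.filter (fun i => u i ≠ 0) :=
        Finset.mem_filter.mpr ⟨Finset.mem_univ a', ha'⟩
      have h1 := Finset.card_le_card hsub
      rw [Finset.card_erase_of_mem hmem] at h1
      omega
    · push Not at h2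
      by_cases h0 : u = 0
      · intro c
        rw [h0, Tp_zero_vec]
        exact Subgroup.one_mem _
      · obtain ⟨a, ha⟩ : ∃ a, u a ≠ 0 := by
          by_contra h
          push Not at h
          exact h0 (funext h)
        have hu' : u = u a • ev a := by
          funext i
          by_cases hi : i = a
          · subst hi
            simp [ev_apply]
          · have hui : u i = 0 := by
              by_contra h
              exact ha (h2 i a hi h)
            simp [ev_apply, hi, hui]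
        intro c
        rw [hu', Tp_smul_ev]
        exact Lm_mem_E _ _

/-- PIECE M2 for helper6 (S2092): the elementary symplectic matrices generate. -/
theorem closure_elemSet : Subgroup.closure (elemSet I K) = ⊤ := by
  rw [eq_top_iff, ← Hsub_eq_top (l := I) (F := K)]
  unfold Hsub
  rw [Subgroup.closure_le]
  rintro g ⟨u, c, rfl⟩
  classical
  exact Tp_mem_aux _ u le_rfl c

end Cfsg.Agent.Helper25.SpM2
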