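import Mathlib
import Cfsg.Agent.Lib.Helper13.SuBN0
import Cfsg.Agent.Lib.Helper12.PGroup

/-!
# S2546, piece SYLOW (helper25)

The upper unitriangular subgroup `unip n φ` of the Witt-form special unitary group is a `p`-group
in characteristic `p`, an element normalising it is upper triangular (flag argument), and it is a
maximal `p`-subgroup.
-/

set_option autoImplicit false
set_option linter.style.haveILetI false

namespace Cfsg.Agent.Helper13.SuP

open Matrix Cfsg.Agent.Helper13.SuBN

/-- powers of a strictly upper triangular matrix -/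
theorem strictUpper_pow' {n : ℕ} {R : Type*} [CommRing R] (M : Matrix (Fin n) (Fin n) R)
    (hM : ∀ i j : Fin n, j ≤ i → M i j = 0) (k : ℕ) :
    ∀ i j : Fin n, j.val < i.val + k → (M ^ k) i j = 0 := by
  induction k with
  | zero =>
    intro i j h
    rw [pow_zero, Matrix.one_apply_ne]
    intro e
    subst e
    omega
  | succ k ih =>
    intro i j h
    rw [pow_succ, Matrix.mul_apply]
    apply Finset.sum_eq_zero
    intro l _
    by_cases hl : l.val < i.val + k
    · rw [ih i l hl, zero_mul]
    · rw [hM l j (by rw [Fin.le_def]; omega), mul_zero]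

theorem mt_pow {n : ℕ} {F : Type*} [Field F] {φ : F →+* F} (g : WSU n φ) (k : ℕ) :
    mt (g ^ k) = mt g ^ k := by
  induction k with
  | zero => rw [pow_zero, pow_zero, mt_one]
  | succ k ih => rw [pow_succ, pow_succ, mt_mul, ih]

theorem pow_apply_diag {n : ℕ} {F : Type*} [Field F] {φ : F →+* F} {g : WSU n φ}
    (hg : g ∈ bor n φ) (a : Fin n) (k : ℕ) : mt (g ^ k) a a = mt g a a ^ k := by
  induction k with
  | zero => rw [pow_zero, pow_zero, mt_one, Matrix.one_apply_eq]
  | succ k ih => rw [pow_succ, pow_succ, mul_apply_diag ((bor n φ).pow_mem hg k) hg, ih]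

/-! PIECE SYLOW -/
theorem unip_isPGroup {n : ℕ} {F : Type*} [Field F] {φ : F →+* F} (p : ℕ) [Fact p.Prime]
    [CharP F p] : IsPGroup p (unip n φ) := by
  rcases Nat.eq_zero_or_pos n with hn | hn
  · subst hn
    intro b
    refine ⟨0, ?_⟩
    apply Subtype.ext
    apply mt_injective
    ext i
    exact i.elim0
  haveI : Nonempty (Fin n) := ⟨⟨0, hn⟩⟩
  intro b
  refine ⟨n, ?_⟩
  apply Subtype.ext
  apply mt_injective
  rw [SubgroupClass.coe_pow, mt_pow, OneMemClass.coe_one, mt_one]
  set A : Matrix (Fin n) (Fin n) F := mt (b : WSU n φ) with hA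
  have hb := b.2
  have hM : ∀ i j : Fin n, j ≤ i → (A - 1) i j = 0 := by
    intro i j hji
    rcases lt_or_eq_of_le hji with h | h
    · rw [Matrix.sub_apply, hA, hb.1 i j h, Matrix.one_apply_ne (ne_of_gt h), sub_zero]
    · subst h
      rw [Matrix.sub_apply, hA, hb.2 j, Matrix.one_apply_eq, sub_self]
  have hpow : (A - 1) ^ (p ^ n) = 0 := by
    ext i j
    apply strictUpper_pow' _ hM
    have h1 := j.2
    have h2 : n < p ^ n := Nat.lt_pow_self (Fact.out : p.Prime).one_lt
    omega
  have h3 : A = (A - 1) + 1 := by abel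
  rw [h3, add_pow_char_pow_of_commute p n (Commute.one_right _), hpow, one_pow, zero_add]

theorem mem_bor_of_normalizes {n : ℕ} {F : Type*} [Field F] {φ : F →+* F}
    (hroot : ∀ a b : Fin n, a.val + 1 = b.val → ∃ u ∈ unip n φ, mt u a b ≠ 0)
    (g : WSU n φ) (hg : ∀ u ∈ unip n φ, g⁻¹ * u * g ∈ unip n φ) : g ∈ bor n φ := by
  classical
  have key : ∀ m : ℕ, ∀ j : Fin n, j.val = m → ∀ a : Fin n, j < a → mt g a j = 0 := by
    intro m
    induction m using Nat.strong_induction_on with
    | _ m ih =>
    intro j hj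
    have IH : ∀ c : Fin n, c < j → ∀ a : Fin n, c < a → mt g a c = 0 := by
      intro c hc
      exact ih c.val (by rw [← hj]; exact hc) c rfl
    have h1 : ∀ u ∈ unip n φ, ∀ a : Fin n, j ≤ a → (mt u * mt g) a j = mt g a j := by
      intro u hu a hja
      have hu' := hg u hu
      have e : mt u * mt g = mt g * mt (g⁻¹ * u * g) := by
        rw [← mt_mul, ← mt_mul]
        congr 1
        group
      rw [e, Matrix.mul_apply, Finset.sum_eq_single j]
      · rw [hu'.2 j, mul_one]
      · intro c _ hc
        rcases lt_or_gt_of_ne hc with h | h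
        · rw [IH c h a (lt_of_lt_of_le h hja), zero_mul]
        · rw [hu'.1 c j h, mul_zero]
      · intro h; exact absurd (Finset.mem_univ _) h
    by_contra hcon
    push Not at hcon
    obtain ⟨a, haj, ha0⟩ := hcon
    let S : Finset (Fin n) := Finset.univ.filter (fun b : Fin n => j < b ∧ mt g b j ≠ 0)
    have hS : S.Nonempty := ⟨a, by simp only [S, Finset.mem_filter, Finset.mem_univ, true_and]; exact ⟨haj, ha0⟩⟩
    obtain ⟨b, hbS, hbmax⟩ := Finset.exists_max_image S (fun b => b) hS
    simp only [S, Finset.mem_filter, Finset.mem_univ, true_and] at hbS hbmax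
    obtain ⟨hjb, hb0⟩ := hbS
    have hbpos : 0 < b.val := lt_of_le_of_lt (Nat.zero_le _) (Fin.lt_def.mp hjb)
    let a' : Fin n := ⟨b.val - 1, by have := b.2; omega⟩
    have ha'b : a'.val + 1 = b.val := by simp only [a']; omega
    have hja' : j ≤ a' := by
      rw [Fin.le_def]
      have := Fin.lt_def.mp hjb
      simp only [a']
      omega
    have ha'ltb : a' < b := by rw [Fin.lt_def]; omega
    obtain ⟨u, hu, hu0⟩ := hroot a' b ha'b
    have h2 := h1 u hu a' hja'
    rw [Matrix.mul_apply, Finset.sum_eq_add a' b (ne_of_lt ha'ltb)] at h2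
    · rw [hu.2 a', one_mul] at h2
      have h3 : mt u a' b * mt g b j = 0 := by
        have := h2
        rw [add_eq_left] at this
        exact this
      rcases mul_eq_zero.mp h3 with h | h
      · exact hu0 h
      · exact hb0 h
    · intro c _ hc
      obtain ⟨hca, hcb⟩ := hc
      by_cases hlt : c < a'
      · rw [hu.1 a' c hlt, zero_mul]
      · have hcgt : b < c := by
          have h4 : a' < c := lt_of_le_of_ne (not_lt.mp hlt) (Ne.symm hca)
          rw [Fin.lt_def] at h4 ⊢
          have h5 : c.val ≠ b.val := fun h => hcb (Fin.ext h)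
          omega
        have h6 : mt g c j = 0 := by
          by_contra h7
          have := hbmax c ⟨lt_trans hjb hcgt, h7⟩
          exact absurd hcgt (not_lt.mpr this)
        rw [h6, mul_zero]
    · intro h; exact absurd (Finset.mem_univ _) h
    · intro h; exact absurd (Finset.mem_univ _) h
  intro a b hab
  exact key b.val b rfl a hab

theorem unip_isMax {n : ℕ} {F : Type*} [Field F] [Finite F] {φ : F →+* F} (p : ℕ) [Fact p.Prime]
    [CharP F p] (hroot : ∀ a b : Fin n, a.val + 1 = b.val → ∃ u ∈ unip n φ, mt u a b ≠ 0)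
    {Q : Subgroup (WSU n φ)} (hQ : IsPGroup p Q) (hle : unip n φ ≤ Q) : Q = unip n φ := by
  by_contra hne
  have hlt : unip n φ < Q := lt_of_le_of_ne hle (Ne.symm hne)
  haveI : Finite (Matrix.SpecialLinearGroup (Fin n) F) := Subtype.finite
  haveI : Finite (WSU n φ) := Subtype.finite
  obtain ⟨g, hgQ, hgU, hgN⟩ := Cfsg.Agent.Helper12.exists_mem_normalizer_not_mem Q hQ _ hlt
  have hgN' : g⁻¹ ∈ Subgroup.normalizer (unip n φ : Set (WSU n φ)) := Subgroup.inv_mem _ hgN
  have hnorm : ∀ u ∈ unip n φ, g⁻¹ * u * g ∈ unip n φ := by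
    intro u hu
    have := (Subgroup.mem_normalizer_iff.mp hgN' u).mp hu
    rwa [inv_inv] at this
  have hgB : g ∈ bor n φ := mem_bor_of_normalizes hroot g hnorm
  apply hgU
  refine ⟨hgB, fun a => ?_⟩
  obtain ⟨k, hk⟩ := hQ ⟨g, hgQ⟩
  have hk' : g ^ p ^ k = 1 := by
    have := congrArg Subtype.val hk
    simpa using this
  have h1 : mt g a a ^ (p ^ k) = 1 := by
    rw [← pow_apply_diag hgB, hk', mt_one, Matrix.one_apply_eq]
  have h2 := (ExpChar.pow_prime_pow_mul_eq_one_iff p k 1 (mt g a a)).mp (by rw [mul_one]; exact h1)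
  rwa [pow_one] at h2

end Cfsg.Agent.Helper13.SuP
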