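import Mathlib
import Cfsg.Prelude
import Cfsg.Agent.Lib.Helper13.SdBN1
import Cfsg.Agent.Lib.Helper13.SdAbs
import Cfsg.Agent.Lib.Helper2.OrthGen
import Cfsg.Agent.Lib.Helper2.OrthOrders
import Cfsg.Agent.Lib.Helper2.OrthPOmega
import Cfsg.Agent.Lib.Helper2.OrthFrames3

/-!
# S2548, piece OMEGALE: `Ω ≤ j(⟨B, N⟩)` (helper25)
-/

set_option autoImplicit false
set_option linter.unusedSectionVars false
set_option linter.unusedVariables false
set_option linter.style.haveILetI false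

namespace Cfsg.Agent.Helper13.SdP

open Matrix QuadraticMap Cfsg.Agent.Helper13.SuBN Cfsg.Agent.Helper13.SdBN
  Cfsg.Agent.Helper13.BNAbs Cfsg.Agent.Helper2.Orth Cfsg.Agent.Helper13
  Cfsg.Agent.Helper28.WittQuad

section perm
variable {n : ℕ} {F : Type*} [Field F]

theorem ol_sign_piS {a b : Fin n} (hab : a ≠ b) : Equiv.Perm.sign (piS a b) = 1 := by
  unfold piS
  rw [map_mul, Equiv.Perm.sign_swap hab, Equiv.Perm.sign_swap (rev_ne_of_ne hab)]
  rfl

theorem ol_wS_mem_monE (hn : n % 2 = 0) {a b : Fin n} (hab : a ≠ b) (hab' : a ≠ Fin.rev b)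
    (ha : a ≠ Fin.rev a) (hb : b ≠ Fin.rev b) : wS (RingHom.id F) a b 1 ∈ monE n F :=
  ⟨wS_mem_soq hab hab' ha hb hn 1, piS a b,
    wS_isMon (fun x => rfl) hab hab' ha hb one_ne_zero, ol_sign_piS hab⟩

theorem ol_ne_rev (hn : n % 2 = 0) (p : Fin n) : p ≠ Fin.rev p := by
  intro e
  have h1 := congrArg Fin.val e
  rw [Fin.val_rev] at h1
  have := p.2
  omega

/-- every position can be moved to the last one by an even monomial element -/
theorem ol_exists_mon (hn : n % 2 = 0) (h4 : 4 ≤ n) (p : Fin n) :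
    ∃ w ∈ monE n F, ∃ π : Equiv.Perm (Fin n), IsMon (mt w) π ∧
      π p = Fin.rev (⟨0, by omega⟩ : Fin n) := by
  set T : Fin n := Fin.rev (⟨0, by omega⟩ : Fin n) with hT
  have hTv : T.val = n - 1 := by rw [hT, Fin.val_rev]
  by_cases h1 : p = T
  · exact ⟨1, (monE n F).one_mem, 1, isMon_one, by rw [Equiv.Perm.one_apply, h1]⟩
  by_cases h2 : p = ⟨0, by omega⟩
  · -- two steps
    set o : Fin n := ⟨1, by omega⟩ with ho
    have hov : o.val = 1 := rfl
    have hpv : p.val = 0 := by rw [h2]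
    have a1 : p ≠ o := by intro e; have := congrArg Fin.val e; omega
    have a2 : p ≠ Fin.rev o := by
      intro e; have := congrArg Fin.val e; rw [Fin.val_rev] at this; omega
    have b1 : o ≠ T := by intro e; have := congrArg Fin.val e; omega
    have b2 : o ≠ Fin.rev T := by
      intro e; have := congrArg Fin.val e; rw [Fin.val_rev] at this; omega
    refine ⟨wS (RingHom.id F) o T 1 * wS (RingHom.id F) p o 1,
      (monE n F).mul_mem (ol_wS_mem_monE hn b1 b2 (ol_ne_rev hn o) (ol_ne_rev hn T))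
        (ol_wS_mem_monE hn a1 a2 (ol_ne_rev hn p) (ol_ne_rev hn o)),
      piS o T * piS p o, ?_, ?_⟩
    · exact (wS_isMon (fun x => rfl) b1 b2 (ol_ne_rev hn o) (ol_ne_rev hn T) one_ne_zero).mul
        (wS_isMon (fun x => rfl) a1 a2 (ol_ne_rev hn p) (ol_ne_rev hn o) one_ne_zero)
    · rw [Equiv.Perm.mul_apply, piS_a a1 a2 (ol_ne_rev hn p) (ol_ne_rev hn o),
        piS_a b1 b2 (ol_ne_rev hn o) (ol_ne_rev hn T)]
  · have c2 : p ≠ Fin.rev T := by
      rw [hT, Fin.rev_rev]; exact h2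
    exact ⟨wS (RingHom.id F) p T 1,
      ol_wS_mem_monE hn h1 c2 (ol_ne_rev hn p) (ol_ne_rev hn T), piS p T,
      wS_isMon (fun x => rfl) h1 c2 (ol_ne_rev hn p) (ol_ne_rev hn T) one_ne_zero,
      piS_a h1 c2 (ol_ne_rev hn p) (ol_ne_rev hn T)⟩

end perm

section abstract
variable {F V : Type*} [Field F] [AddCommGroup V] [Module F V]

/-- the Eichler transformation moving `f` to a prescribed singular vector `z` with `f(e, z) = 1` -/
theorem ol_eich_hyp (Q : QuadraticForm F V) {e f z : V} (he : Q e = 0) (hf : Q f = 0)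
    (hef : polar Q e f = 1) (hz : Q z = 0) (hez : polar Q e z = 1) :
    polar Q e (f - z) = 0 ∧ eich Q e (f - z) f = z := by
  constructor
  · rw [polar_sub_right, hef, hez, sub_self]
  · have h1 : polar Q (f - z) f = - polar Q z f := by
      rw [polar_sub_left, polar_self, hf]; simp
    have h2 : Q (f - z) = - polar Q f z := by
      have := Q_add' Q f (-z)
      rw [← sub_eq_add_neg, QuadraticMap.map_neg, polar_neg_right, hf, hz] at this
      rw [this]; ring
    rw [eich_apply, h1, h2, hef, polar_comm Q z f]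
    module

end abstract

section concrete
variable {F : Type*} [Field F]

/-- elements of the commutator subgroup of an isometry group have determinant one -/
theorem ol_det_eq_one {ι : Type} [Fintype ι] [DecidableEq ι] (Q : (ι → F) → F)
    (g : Cfsg.isometryGroup F Q) (hg : g ∈ commutator (Cfsg.isometryGroup F Q)) :
    ((g : GL ι F) : Matrix ι ι F).det = 1 := by
  let d : ↥(Cfsg.isometryGroup F Q) →* Fˣ :=
    (Matrix.GeneralLinearGroup.det).comp (Cfsg.isometryGroup F Q).subtype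
  have hker : commutator (Cfsg.isometryGroup F Q) ≤ d.ker := Abelianization.commutator_subset_ker d
  have h1 := hker hg
  rw [MonoidHom.mem_ker] at h1
  have h2 := congrArg Units.val h1
  simpa [d] using h2

end concrete

section main
variable {F : Type*} [Field F]

theorem ol_main [Fintype F] (k : ℕ) (hex : Fintype.card F ≠ 2 ∨ k + 2 ≠ 2)
    (Q : QuadraticForm F (Fin (k + 2) ⊕ Fin (k + 2) → F))
    (hQ : (polarBilin Q).Nondegenerate)
    (th : TwoHyp Q (Sum.inl 0) (Sum.inr 0) (Sum.inl 1) (Sum.inr 1))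
    (fr : HypFrame Q (fun i : Fin 2 => Pi.single (Sum.inl (Fin.castLE (by omega) i)) 1)
      (fun i : Fin 2 => Pi.single (Sum.inr (Fin.castLE (by omega) i)) 1))
    (j : ↥(soq (2 * (k + 2)) F) →* Cfsg.isometryGroup F (⇑Q))
    (hj : ∀ (x : ↥(soq (2 * (k + 2)) F)) (a b : Fin (k + 2) ⊕ Fin (k + 2)),
        (((j x : Cfsg.isometryGroup F (⇑Q)) :
          GL (Fin (k + 2) ⊕ Fin (k + 2)) F) :
          Matrix (Fin (k + 2) ⊕ Fin (k + 2)) (Fin (k + 2) ⊕ Fin (k + 2)) F) a b =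
        mt (x : WSU (2 * (k + 2)) (RingHom.id F)) (eD (k + 2) a) (eD (k + 2) b))
    (hdet : ∀ g : Cfsg.isometryGroup F (⇑Q),
        ((g : GL (Fin (k + 2) ⊕ Fin (k + 2)) F) :
          Matrix (Fin (k + 2) ⊕ Fin (k + 2)) (Fin (k + 2) ⊕ Fin (k + 2)) F).det = 1 →
        g ∈ j.range) :
    commutator (Cfsg.isometryGroup F (⇑Q)) ≤
      ((borQ (2 * (k + 2)) F ⊔ monE (2 * (k + 2)) F).subgroupOf (soq (2 * (k + 2)) F)).map j := by
  classical
  set K := ((borQ (2 * (k + 2)) F ⊔ monE (2 * (k + 2)) F).subgroupOf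
    (soq (2 * (k + 2)) F)).map j with hKdef
  have hn : (2 * (k + 2)) % 2 = 0 := by omega
  have h4 : 4 ≤ 2 * (k + 2) := by omega
  set e0 : Fin (k + 2) ⊕ Fin (k + 2) → F := Pi.single (Sum.inl 0) 1 with he0
  set f0 : Fin (k + 2) ⊕ Fin (k + 2) → F := Pi.single (Sum.inr 0) 1 with hf0
  have qe0 : Q e0 = 0 := th.s1
  have qf0 : Q f0 = 0 := th.s2
  have pe0 : ∀ v, polar Q e0 v = v (Sum.inr 0) := th.p1
  have pf0 : ∀ v, polar Q f0 v = v (Sum.inl 0) := th.p2
  have hex' : Fintype.card F ≠ 2 ∨ Fintype.card (Fin (k + 2) ⊕ Fin (k + 2)) ≠ 4 := by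
    rcases hex with h | h
    · exact Or.inl h
    · right
      simp only [Fintype.card_sum, Fintype.card_fin]
      omega
  have hΩ : commutator (Cfsg.isometryGroup F (⇑Q)) = eichGroup Q := Omega_eq_eichGroup hQ hex' fr
  -- membership in `K`
  have hKb : ∀ x : ↥(soq (2 * (k + 2)) F), (x : WSU (2 * (k + 2)) (RingHom.id F)) ∈
      borQ (2 * (k + 2)) F → j x ∈ K := by
    intro x hx
    exact Subgroup.mem_map_of_mem j (by rw [Subgroup.mem_subgroupOf]; exact Subgroup.mem_sup_left hx)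
  have hKm : ∀ x : ↥(soq (2 * (k + 2)) F), (x : WSU (2 * (k + 2)) (RingHom.id F)) ∈
      monE (2 * (k + 2)) F → j x ∈ K := by
    intro x hx
    exact Subgroup.mem_map_of_mem j (by rw [Subgroup.mem_subgroupOf]; exact Subgroup.mem_sup_right hx)
  -- the action in coordinates
  have hact : ∀ (x : ↥(soq (2 * (k + 2)) F)) (z : Fin (k + 2) ⊕ Fin (k + 2) → F)
      (a : Fin (k + 2) ⊕ Fin (k + 2)),
      (j x • z) a = ∑ b, mt (x : WSU (2 * (k + 2)) (RingHom.id F)) (eD (k + 2) a) (eD (k + 2) b) * z b := by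
    intro x z a
    rw [smul_def, Matrix.mulVec, dotProduct]
    apply Finset.sum_congr rfl
    intro b _
    rw [hj]
  -- (3) the root group of `e0`
  have hA : ∀ b : Fin (k + 2) ⊕ Fin (k + 2) → F, polar Q e0 b = 0 → eichG Q e0 b ∈ K := by
    intro b hb
    have hmem : eichG Q e0 b ∈ commutator (Cfsg.isometryGroup F (⇑Q)) := by
      rw [hΩ]; exact eichG_mem qe0 hb
    obtain ⟨x, hx⟩ := hdet _ (ol_det_eq_one _ _ hmem)
    rw [← hx]
    apply hKb
    refine ⟨?_, x.2⟩
    intro p q hqp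
    obtain ⟨a', rfl⟩ := (eD (k + 2)).surjective p
    obtain ⟨b', rfl⟩ := (eD (k + 2)).surjective q
    rw [← hj, hx]
    have hb0 : b (Sum.inr 0) = 0 := by rw [← pe0 b]; exact hb
    have hab : a' ≠ b' := by
      intro e; rw [e] at hqp; exact lt_irrefl _ hqp
    have ha0 : a' ≠ Sum.inl 0 := by
      intro e
      rw [e, Fin.lt_def, eD_inl] at hqp
      simp at hqp
    have hb1 : b' ≠ Sum.inr 0 := by
      intro e
      rw [e, Fin.lt_def, eD_inr] at hqp
      have := (eD (k + 2) a').2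
      simp at hqp
      omega
    have hcol : ((eichG Q e0 b : Cfsg.isometryGroup F (⇑Q)) : GL _ F).1 a' b' =
        (eichG Q e0 b • (Pi.single b' 1 : Fin (k + 2) ⊕ Fin (k + 2) → F)) a' := by
      rw [smul_def, Matrix.mulVec_single_one]
      rfl
    rw [hcol, eichG_smul qe0 hb, eich_apply, pe0]
    simp only [Pi.add_apply, Pi.sub_apply, Pi.smul_apply, smul_eq_mul]
    rw [he0, Pi.single_apply, Pi.single_apply, Pi.single_apply, if_neg hab, if_neg ha0,
      if_neg (fun e => hb1 e.symm)]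
    ring
  -- linearity of the action
  have hsm : ∀ (g : Cfsg.isometryGroup F (⇑Q)) (c : F) (v : Fin (k + 2) ⊕ Fin (k + 2) → F),
      g • (c • v) = c • (g • v) := by
    intro g c v
    rw [smul_def, smul_def, Matrix.mulVec_smul]
  -- (4) monomial elements
  have hM : ∀ a : Fin (k + 2) ⊕ Fin (k + 2), ∃ kk ∈ K, ∃ c : F, c ≠ 0 ∧
      (∀ z : Fin (k + 2) ⊕ Fin (k + 2) → F, (kk • z) (Sum.inr 0) = c * z a) ∧
      (∀ a' : Fin (k + 2) ⊕ Fin (k + 2), a' ≠ Sum.inr 0 →
        (kk • (Pi.single a 1 : Fin (k + 2) ⊕ Fin (k + 2) → F)) a' = 0) := by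
    intro a
    obtain ⟨w, hw, π, hπ, hπa⟩ := ol_exists_mon (F := F) hn h4 (eD (k + 2) a)
    have hT : Fin.rev (⟨0, by omega⟩ : Fin (2 * (k + 2))) = eD (k + 2) (Sum.inr 0) := by
      apply Fin.ext
      rw [Fin.val_rev, eD_inr]
      simp
    rw [hT] at hπa
    refine ⟨j ⟨w, monE_le_soq hw⟩, hKm _ hw, mt w (π (eD (k + 2) a)) (eD (k + 2) a),
      hπ.apply_ne_zero _, ?_, ?_⟩
    · intro z
      rw [hact, Finset.sum_eq_single a]
      · rw [hπa]
      · intro b _ hba
        rw [hπ, zero_mul]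
        rw [← hπa]
        intro e
        exact hba ((eD (k + 2)).injective (π.injective e)).symm
      · intro h; exact absurd (Finset.mem_univ _) h
    · intro a' ha'
      rw [hact, Finset.sum_eq_single a]
      · rw [hπ, zero_mul]
        rw [hπa]
        intro e
        exact ha' ((eD (k + 2)).injective e)
      · intro b _ hba
        rw [Pi.single_apply, if_neg hba, mul_zero]
      · intro h; exact absurd (Finset.mem_univ _) h
  -- (4') moving `e0` to `f0`
  have hM0 : ∃ k0 ∈ K, ∃ c : F, c ≠ 0 ∧ k0 • e0 = c • f0 := by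
    obtain ⟨k0, hk0, c, hc, h1, h2⟩ := hM (Sum.inl 0)
    refine ⟨k0, hk0, c, hc, ?_⟩
    funext a'
    by_cases ha' : a' = Sum.inr 0
    · rw [ha', h1, Pi.smul_apply, he0, hf0, Pi.single_apply, Pi.single_apply, if_pos rfl, if_pos rfl,
        smul_eq_mul]
    · rw [he0, h2 a' ha', Pi.smul_apply, hf0, Pi.single_apply, if_neg ha', smul_zero]
  -- (5) transitivity on singular vectors
  have hT : ∀ z : Fin (k + 2) ⊕ Fin (k + 2) → F, Q z = 0 → z ≠ 0 →
      ∃ kk ∈ K, ∃ c : F, c ≠ 0 ∧ kk • e0 = c • z := by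
    intro z hz hz0
    obtain ⟨a, ha⟩ := Function.ne_iff.1 hz0
    rw [Pi.zero_apply] at ha
    obtain ⟨k1, hk1, c1, hc1, h1, -⟩ := hM a
    obtain ⟨k0, hk0, c0, hc0, h0⟩ := hM0
    set y := k1 • z with hy
    have hyQ : Q y = 0 := by rw [hy, Q_smul Q, hz]
    set t := y (Sum.inr 0) with ht
    have ht0 : t ≠ 0 := by rw [ht, hy, h1]; exact mul_ne_zero hc1 ha
    set z' := t⁻¹ • y with hz'
    have hz'Q : Q z' = 0 := by rw [hz', QuadraticMap.map_smul, hyQ, smul_zero]
    have hez' : polar Q e0 z' = 1 := by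
      rw [pe0, hz', Pi.smul_apply, ← ht, smul_eq_mul, inv_mul_cancel₀ ht0]
    have hef : polar Q e0 f0 = 1 := by
      rw [pe0, hf0, Pi.single_apply, if_pos rfl]
    obtain ⟨hb, heich⟩ := ol_eich_hyp Q qe0 qf0 hef hz'Q hez'
    have hg := hA _ hb
    refine ⟨k1⁻¹ * (eichG Q e0 (f0 - z') * k0), K.mul_mem (K.inv_mem hk1) (K.mul_mem hg hk0),
      c0 * t⁻¹, mul_ne_zero hc0 (inv_ne_zero ht0), ?_⟩
    rw [mul_smul, mul_smul, h0, hsm, eichG_smul qe0 hb, heich, hz', hsm, hsm, hy, inv_smul_smul,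
      smul_smul]
  -- (6) the generators
  rw [hΩ]
  unfold eichGroup
  rw [Subgroup.closure_le]
  rintro g ⟨z, b, hz, hzb, rfl⟩
  by_cases hz0 : z = 0
  · rw [hz0, eichG_zero_left]
    exact K.one_mem
  obtain ⟨kk, hkk, c, hc, hkc⟩ := hT z hz hz0
  have hz1 : z = kk • (c⁻¹ • e0) := by
    rw [hsm, hkc, smul_smul, inv_mul_cancel₀ hc, one_smul]
  have hb1 : b = kk • (kk⁻¹ • b) := by rw [smul_inv_smul]
  have hq1 : Q (c⁻¹ • e0) = 0 := by rw [QuadraticMap.map_smul, qe0, smul_zero]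
  have hp0 : polar Q e0 (kk⁻¹ • b) = 0 := by
    have h1 := polar_smul_smul Q kk e0 (kk⁻¹ • b)
    rw [smul_inv_smul, hkc, polar_smul_left, hzb, smul_zero] at h1
    exact h1.symm
  have hp1 : polar Q (c⁻¹ • e0) (kk⁻¹ • b) = 0 := by
    rw [polar_smul_left, hp0, smul_zero]
  have hconj := eichG_conj kk hq1 hp1
  rw [← hz1, ← hb1] at hconj
  rw [← hconj, eichG_smul_left qe0 hp0]
  refine K.mul_mem (K.mul_mem hkk (hA _ ?_)) (K.inv_mem hkk)
  rw [polar_smul_right, hp0, smul_zero]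

end main

/-- PIECE OMEGALE: `Ω ≤ j(⟨B, N⟩)`. -/
theorem Omega_le_map {F : Type*} [Field F] [Fintype F] (m : ℕ) (hm : 2 ≤ m)
    (hex : Fintype.card F ≠ 2 ∨ m ≠ 2)
    (j : ↥(soq (2 * m) F) →* Cfsg.isometryGroup F (Cfsg.quadFormPlus m F))
    (hj : ∀ (x : ↥(soq (2 * m) F)) (a b : Fin m ⊕ Fin m),
        (((j x : Cfsg.isometryGroup F (Cfsg.quadFormPlus m F)) : GL (Fin m ⊕ Fin m) F) :
          Matrix (Fin m ⊕ Fin m) (Fin m ⊕ Fin m) F) a b = mt (x : WSU (2 * m) (RingHom.id F)) (eD m a) (eD m b))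
    (hdet : ∀ g : Cfsg.isometryGroup F (Cfsg.quadFormPlus m F),
        ((g : GL (Fin m ⊕ Fin m) F) : Matrix (Fin m ⊕ Fin m) (Fin m ⊕ Fin m) F).det = 1 → g ∈ j.range) :
    commutator (Cfsg.isometryGroup F (Cfsg.quadFormPlus m F)) ≤
      ((borQ (2 * m) F ⊔ monE (2 * m) F).subgroupOf (soq (2 * m) F)).map j := by
  obtain ⟨k, rfl⟩ : ∃ k, m = k + 2 := ⟨m - 2, by omega⟩
  revert j
  rw [quadFormPlus_eq]
  intro j hj hdet
  have fr : HypFrame (matQ (plusMat (k + 2) F))
      (fun i : Fin 2 => Pi.single (Sum.inl (Fin.castLE (by omega) i)) 1)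
      (fun i : Fin 2 => Pi.single (Sum.inr (Fin.castLE (by omega) i)) 1) := by
    apply hypFrame_matQ (plusMat (k + 2) F) (fun i : Fin 2 => Sum.inl (Fin.castLE (by omega) i))
      (fun i : Fin 2 => Sum.inr (Fin.castLE (by omega) i))
    · intro i; simp [plusMat]
    · intro i; simp [plusMat]
    · intro i j; simp [plusMat]
    · intro i j; simp [plusMat]
    · intro i j
      simp [plusMat, Matrix.one_apply]
  exact ol_main k hex _ (nondeg_plus (k + 2)) (twoHyp_plus k) fr j hj hdet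

end Cfsg.Agent.Helper13.SdP
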