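import Mathlib
import Cfsg.Prelude
import Cfsg.Agent.Lib.Helper13.StBN1
import Cfsg.Agent.Lib.Helper13.StTr0
import Cfsg.Agent.Lib.Helper13.SdAbs
import Cfsg.Agent.Lib.Helper25.SdOmegaLe

/-!
# S2549, piece OMEGALEM: `Ω ≤ j(⟨B, N⟩)` for the twisted group (helper25)
-/

set_option autoImplicit false
set_option linter.unusedSectionVars false
set_option linter.unusedVariables false
set_option linter.style.haveILetI false

namespace Cfsg.Agent.Helper13.StP

open Matrix QuadraticMap Cfsg.Agent.Helper13.SuBN Cfsg.Agent.Helper13.SdBN Cfsg.Agent.Helper13.StBN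
  Cfsg.Agent.Helper13.BNAbs Cfsg.Agent.Helper13.SdP Cfsg.Agent.Helper2.Orth Cfsg.Agent.Helper13
  Cfsg.Agent.Helper28.WittQuad

section generic
variable {F : Type*} [Field F] {ι : Type} [Fintype ι] [DecidableEq ι]

/-- the generic generation argument: a subgroup containing the root group of `e0`, moving `e0` to `f0`
and moving every singular vector off `e0^⊥` contains all Eichler transformations -/
theorem st_generic (Q : QuadraticForm F (ι → F)) (K : Subgroup (Cfsg.isometryGroup F (⇑Q)))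
    (e0 f0 : ι → F) (qe0 : Q e0 = 0) (qf0 : Q f0 = 0) (hef : polar Q e0 f0 = 1)
    (hA : ∀ b : ι → F, polar Q e0 b = 0 → eichG Q e0 b ∈ K)
    (hM : ∀ z : ι → F, Q z = 0 → z ≠ 0 → ∃ k1 ∈ K, polar Q e0 (k1 • z) ≠ 0)
    (hM0 : ∃ k0 ∈ K, ∃ c : F, c ≠ 0 ∧ k0 • e0 = c • f0) :
    eichGroup Q ≤ K := by
  classical
  have hsm : ∀ (g : Cfsg.isometryGroup F (⇑Q)) (c : F) (v : ι → F),
      g • (c • v) = c • (g • v) := by
    intro g c v
    rw [smul_def, smul_def, Matrix.mulVec_smul]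
  have hT : ∀ z : ι → F, Q z = 0 → z ≠ 0 →
      ∃ kk ∈ K, ∃ c : F, c ≠ 0 ∧ kk • e0 = c • z := by
    intro z hz hz0
    obtain ⟨k1, hk1, h1⟩ := hM z hz hz0
    obtain ⟨k0, hk0, c0, hc0, h0⟩ := hM0
    set y := k1 • z with hy
    have hyQ : Q y = 0 := by rw [hy, Q_smul Q, hz]
    set t := polar Q e0 y with ht
    have ht0 : t ≠ 0 := h1
    set z' := t⁻¹ • y with hz'
    have hz'Q : Q z' = 0 := by rw [hz', QuadraticMap.map_smul, hyQ, smul_zero]
    have hez' : polar Q e0 z' = 1 := by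
      rw [hz', polar_smul_right, ← ht, smul_eq_mul, inv_mul_cancel₀ ht0]
    obtain ⟨hb, heich⟩ := ol_eich_hyp Q qe0 qf0 hef hz'Q hez'
    have hg := hA _ hb
    refine ⟨k1⁻¹ * (eichG Q e0 (f0 - z') * k0), K.mul_mem (K.inv_mem hk1) (K.mul_mem hg hk0),
      c0 * t⁻¹, mul_ne_zero hc0 (inv_ne_zero ht0), ?_⟩
    rw [mul_smul, mul_smul, h0, hsm, eichG_smul qe0 hb, heich, hz', hsm, hsm, hy, inv_smul_smul,
      smul_smul]
  unfold eichGroup
  rw [Subgroup.closure_le]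
  rintro g ⟨z, b, hz, hzb, rfl⟩
  by_cases hz0 : z = 0
  · rw [hz0, eichG_zero_left]
    exact K.one_mem
  obtain ⟨kk, hkk, c, hc, hkc⟩ := hT z hz hz0
  have hz1 : z = kk • (c⁻¹ • e0) := by
    rw [hsm, hkc, smul_smul, inv_mul_cancel₀ hc, one_smul]
  have hb1 : b = kk • (kk⁻¹ • b) := by rw [smul_inv_smul]
  have hq1 : Q (c⁻¹ • e0) = 0 := by rw [QuadraticMap.map_smul, qe0, smul_zero]
  have hp0 : polar Q e0 (kk⁻¹ • b) = 0 := by
    have h1 := polar_smul_smul Q kk e0 (kk⁻¹ • b)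
    rw [smul_inv_smul, hkc, polar_smul_left, hzb, smul_zero] at h1
    exact h1.symm
  have hp1 : polar Q (c⁻¹ • e0) (kk⁻¹ • b) = 0 := by
    rw [polar_smul_left, hp0, smul_zero]
  have hconj := eichG_conj kk hq1 hp1
  rw [← hz1, ← hb1] at hconj
  rw [← hconj, eichG_smul_left qe0 hp0]
  refine K.mul_mem (K.mul_mem hkk (hA _ ?_)) (K.inv_mem hkk)
  rw [polar_smul_right, hp0, smul_zero]

end generic

section perm
variable {n : ℕ} {K : Type*} [Field K]

theorem st_tauP_fix {x : Fin n} (h1 : x.val + 1 ≠ n / 2) (h2 : x.val ≠ n / 2) : tauP n x = x := by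
  apply Fin.ext
  rw [tauP_val, if_neg h1, if_neg (fun h => h2 h.1)]

theorem st_wS_mem_monT (hn : n % 2 = 0) (φ : K →+* K) {a b : Fin n} (hab : a ≠ b)
    (hab' : a ≠ Fin.rev b) (ha : a ≠ Fin.rev a) (hb : b ≠ Fin.rev b) (hτa : tauP n a = a)
    (hτb : tauP n b = b) : wS (RingHom.id K) a b 1 ∈ monT n φ := by
  refine ⟨ol_wS_mem_monE hn hab hab' ha hb, ?_⟩
  unfold wS
  refine (twG n φ).mul_mem ((twG n φ).mul_mem ?_ ?_) ?_
  · exact Tm_mem_twG hn φ hab ha hb hτa hτb (map_one φ)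
  · exact Tm_mem_twG hn φ hab.symm hb ha hτb hτa (by rw [map_neg, map_inv₀, map_one])
  · exact Tm_mem_twG hn φ hab ha hb hτa hτb (map_one φ)

/-- every position off the middle can be moved to the last one by an element of `monT` -/
theorem st_exists_mon (hn : n % 2 = 0) (h6 : 6 ≤ n) (φ : K →+* K) (p : Fin n)
    (hτp : tauP n p = p) :
    ∃ w ∈ monT n φ, ∃ π : Equiv.Perm (Fin n), IsMon (mt w) π ∧
      π p = Fin.rev (⟨0, by omega⟩ : Fin n) := by
  set T : Fin n := Fin.rev (⟨0, by omega⟩ : Fin n) with hT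
  have hTv : T.val = n - 1 := by rw [hT, Fin.val_rev]
  have hτT : tauP n T = T := st_tauP_fix (by omega) (by omega)
  by_cases h1 : p = T
  · exact ⟨1, (monT n φ).one_mem, 1, isMon_one, by rw [Equiv.Perm.one_apply, h1]⟩
  by_cases h2 : p = ⟨0, by omega⟩
  · -- two steps
    set o : Fin n := ⟨1, by omega⟩ with ho
    have hov : o.val = 1 := rfl
    have hτo : tauP n o = o := st_tauP_fix (by omega) (by omega)
    have hpv : p.val = 0 := by rw [h2]
    have a1 : p ≠ o := by intro e; have := congrArg Fin.val e; omega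
    have a2 : p ≠ Fin.rev o := by
      intro e; have := congrArg Fin.val e; rw [Fin.val_rev] at this; omega
    have b1 : o ≠ T := by intro e; have := congrArg Fin.val e; omega
    have b2 : o ≠ Fin.rev T := by
      intro e; have := congrArg Fin.val e; rw [Fin.val_rev] at this; omega
    refine ⟨wS (RingHom.id K) o T 1 * wS (RingHom.id K) p o 1,
      (monT n φ).mul_mem (st_wS_mem_monT hn φ b1 b2 (ol_ne_rev hn o) (ol_ne_rev hn T) hτo hτT)
        (st_wS_mem_monT hn φ a1 a2 (ol_ne_rev hn p) (ol_ne_rev hn o) hτp hτo),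
      piS o T * piS p o, ?_, ?_⟩
    · exact (wS_isMon (fun x => rfl) b1 b2 (ol_ne_rev hn o) (ol_ne_rev hn T) one_ne_zero).mul
        (wS_isMon (fun x => rfl) a1 a2 (ol_ne_rev hn p) (ol_ne_rev hn o) one_ne_zero)
    · rw [Equiv.Perm.mul_apply, piS_a a1 a2 (ol_ne_rev hn p) (ol_ne_rev hn o),
        piS_a b1 b2 (ol_ne_rev hn o) (ol_ne_rev hn T)]
  · have c2 : p ≠ Fin.rev T := by
      rw [hT, Fin.rev_rev]; exact h2
    exact ⟨wS (RingHom.id K) p T 1,
      st_wS_mem_monT hn φ h1 c2 (ol_ne_rev hn p) (ol_ne_rev hn T) hτp hτT, piS p T,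
      wS_isMon (fun x => rfl) h1 c2 (ol_ne_rev hn p) (ol_ne_rev hn T) one_ne_zero,
      piS_a h1 c2 (ol_ne_rev hn p) (ol_ne_rev hn T)⟩

end perm

section coords
variable {F K : Type*} [Field F] [Field K] (m : ℕ) (ι : F →+* K) (ω ω' : K)

theorem st_eI_inj {i i' : Fin m} : eI m i = eI m i' ↔ i = i' := by
  simp [eI, Fin.ext_iff]

theorem st_fI_inj {i i' : Fin m} : fI m i = fI m i' ↔ i = i' := by
  have := i.2
  have := i'.2
  simp only [fI, Fin.ext_iff]
  omega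

theorem st_eI_ne_fI (i i' : Fin m) : eI m i ≠ fI m i' := by
  have := i.2
  have := i'.2
  simp only [eI, fI, Ne, Fin.ext_iff]
  omega

theorem st_eI_ne_cI (i : Fin m) : eI m i ≠ cI m := by
  have := i.2
  simp only [eI, cI, Ne, Fin.ext_iff]
  omega

theorem st_eI_ne_dI (i : Fin m) : eI m i ≠ dI m := by
  have := i.2
  simp only [eI, dI, Ne, Fin.ext_iff]
  omega

theorem st_fI_ne_cI (i : Fin m) : fI m i ≠ cI m := by
  have := i.2
  simp only [fI, cI, Ne, Fin.ext_iff]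
  omega

theorem st_fI_ne_dI (i : Fin m) : fI m i ≠ dI m := by
  have := i.2
  simp only [fI, dI, Ne, Fin.ext_iff]
  omega

theorem st_cI_ne_dI : cI m ≠ dI m := by
  simp only [cI, dI, Ne, Fin.ext_iff]
  omega

theorem st_Lm_add (v w : (Fin m ⊕ Fin m) ⊕ Fin 2 → F) :
    Lm m ι ω ω' (v + w) = Lm m ι ω ω' v + Lm m ι ω ω' w := by
  funext x
  rw [Pi.add_apply]
  unfold StBN.Lm
  split_ifs <;> simp only [Pi.add_apply, map_add] <;> ring

theorem st_Lm_smul (c : F) (v : (Fin m ⊕ Fin m) ⊕ Fin 2 → F) :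
    Lm m ι ω ω' (c • v) = ι c • Lm m ι ω ω' v := by
  funext x
  rw [Pi.smul_apply]
  unfold StBN.Lm
  split_ifs <;> simp only [Pi.smul_apply, smul_eq_mul, map_mul] <;> ring

theorem st_Lm_single_e (i : Fin m) :
    Lm m ι ω ω' (Pi.single (Sum.inl (Sum.inl i)) 1) = Pi.single (eI m i) 1 := by
  funext x
  rcases index_cases m x with ⟨i', rfl⟩ | ⟨i', rfl⟩ | rfl | rfl
  · rw [Lm_eI, Pi.single_apply, Pi.single_apply]
    by_cases h : i' = i
    · rw [if_pos (by rw [h]), if_pos (by rw [h]), map_one]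
    · rw [if_neg (by simpa using h), if_neg (by rw [st_eI_inj]; exact h), map_zero]
  · rw [Lm_fI, Pi.single_apply, Pi.single_apply, if_neg (by simp),
      if_neg (st_eI_ne_fI m i i').symm, map_zero]
  · rw [Lm_cI, Pi.single_apply, Pi.single_apply, Pi.single_apply, if_neg (by simp),
      if_neg (by simp), if_neg (st_eI_ne_cI m i).symm, map_zero, mul_zero, sub_zero]
  · rw [Lm_dI, Pi.single_apply, Pi.single_apply, Pi.single_apply, if_neg (by simp),
      if_neg (by simp), if_neg (st_eI_ne_dI m i).symm, map_zero, mul_zero, sub_zero]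

theorem st_Lm_single_f (i : Fin m) :
    Lm m ι ω ω' (Pi.single (Sum.inl (Sum.inr i)) 1) = Pi.single (fI m i) 1 := by
  funext x
  rcases index_cases m x with ⟨i', rfl⟩ | ⟨i', rfl⟩ | rfl | rfl
  · rw [Lm_eI, Pi.single_apply, Pi.single_apply, if_neg (by simp),
      if_neg (st_eI_ne_fI m i' i), map_zero]
  · rw [Lm_fI, Pi.single_apply, Pi.single_apply]
    by_cases h : i' = i
    · rw [if_pos (by rw [h]), if_pos (by rw [h]), map_one]
    · rw [if_neg (by simpa using h), if_neg (by rw [st_fI_inj]; exact h), map_zero]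
  · rw [Lm_cI, Pi.single_apply, Pi.single_apply, Pi.single_apply, if_neg (by simp),
      if_neg (by simp), if_neg (st_fI_ne_cI m i).symm, map_zero, mul_zero, sub_zero]
  · rw [Lm_dI, Pi.single_apply, Pi.single_apply, Pi.single_apply, if_neg (by simp),
      if_neg (by simp), if_neg (st_fI_ne_dI m i).symm, map_zero, mul_zero, sub_zero]

theorem st_Lm_z1 :
    Lm m ι ω ω' (Pi.single (Sum.inr 0) 1) = Pi.single (cI m) 1 + Pi.single (dI m) 1 := by
  funext x
  rw [Pi.add_apply]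
  rcases index_cases m x with ⟨i', rfl⟩ | ⟨i', rfl⟩ | rfl | rfl
  · rw [Lm_eI, Pi.single_apply, Pi.single_apply, Pi.single_apply, if_neg (by simp),
      if_neg (st_eI_ne_cI m i'), if_neg (st_eI_ne_dI m i'), map_zero, add_zero]
  · rw [Lm_fI, Pi.single_apply, Pi.single_apply, Pi.single_apply, if_neg (by simp),
      if_neg (st_fI_ne_cI m i'), if_neg (st_fI_ne_dI m i'), map_zero, add_zero]
  · rw [Lm_cI, Pi.single_apply, Pi.single_apply, Pi.single_apply, Pi.single_apply, if_pos rfl,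
      if_neg (by simp), if_pos rfl, if_neg (st_cI_ne_dI m), map_one, map_zero, mul_zero, sub_zero,
      add_zero]
  · rw [Lm_dI, Pi.single_apply, Pi.single_apply, Pi.single_apply, Pi.single_apply, if_pos rfl,
      if_neg (by simp), if_neg (st_cI_ne_dI m).symm, if_pos rfl, map_one, map_zero, mul_zero,
      sub_zero, zero_add]

theorem st_Lm_z2 :
    Lm m ι ω ω' (Pi.single (Sum.inr 1) 1) =
      (-ω) • Pi.single (cI m) 1 + (-ω') • Pi.single (dI m) 1 := by
  funext x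
  rw [Pi.add_apply, Pi.smul_apply, Pi.smul_apply]
  rcases index_cases m x with ⟨i', rfl⟩ | ⟨i', rfl⟩ | rfl | rfl
  · rw [Lm_eI, Pi.single_apply, Pi.single_apply, Pi.single_apply, if_neg (by simp),
      if_neg (st_eI_ne_cI m i'), if_neg (st_eI_ne_dI m i'), map_zero, smul_zero, smul_zero,
      add_zero]
  · rw [Lm_fI, Pi.single_apply, Pi.single_apply, Pi.single_apply, if_neg (by simp),
      if_neg (st_fI_ne_cI m i'), if_neg (st_fI_ne_dI m i'), map_zero, smul_zero, smul_zero,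
      add_zero]
  · rw [Lm_cI, Pi.single_apply, Pi.single_apply, Pi.single_apply, Pi.single_apply,
      if_neg (by simp), if_pos rfl, if_pos rfl, if_neg (st_cI_ne_dI m), map_one, map_zero,
      smul_zero, add_zero, zero_sub, mul_one, smul_eq_mul, mul_one]
  · rw [Lm_dI, Pi.single_apply, Pi.single_apply, Pi.single_apply, Pi.single_apply,
      if_neg (by simp), if_pos rfl, if_neg (st_cI_ne_dI m).symm, if_pos rfl, map_one, map_zero,
      smul_zero, zero_add, zero_sub, mul_one, smul_eq_mul, mul_one]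

end coords

section main
variable {F K : Type*} [Field F] [Field K]

theorem st_main [Fintype F] (k : ℕ) (a b : F)
    (hab : ∀ z₁ z₂ : F, z₁ ^ 2 + a * z₁ * z₂ + b * z₂ ^ 2 = 0 → z₁ = 0 ∧ z₂ = 0)
    (Q : QuadraticForm F ((Fin (k + 2) ⊕ Fin (k + 2)) ⊕ Fin 2 → F))
    (hQ : (polarBilin Q).Nondegenerate)
    (th : TwoHyp Q (Sum.inl (Sum.inl 0)) (Sum.inl (Sum.inr 0)) (Sum.inl (Sum.inl 1))
      (Sum.inl (Sum.inr 1)))
    (fr : HypFrame Q
      (fun i : Fin 2 => Pi.single (Sum.inl (Sum.inl (Fin.castLE (by omega) i))) 1)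
      (fun i : Fin 2 => Pi.single (Sum.inl (Sum.inr (Fin.castLE (by omega) i))) 1))
    (hQf : ∀ v : (Fin (k + 2) ⊕ Fin (k + 2)) ⊕ Fin 2 → F, Q v =
      (∑ i : Fin (k + 2), v (Sum.inl (Sum.inl i)) * v (Sum.inl (Sum.inr i)))
      + (v (Sum.inr 0) ^ 2 + a * v (Sum.inr 0) * v (Sum.inr 1) + b * v (Sum.inr 1) ^ 2))
    (ι : F →+* K) (φ : K →+* K) (ω : K) (hω3 : φ ω ≠ ω)
    (j : ↥(gT (2 * (k + 2) + 2) φ) →* Cfsg.isometryGroup F (⇑Q))
    (hj : ∀ (x : ↥(gT (2 * (k + 2) + 2) φ)) (v : (Fin (k + 2) ⊕ Fin (k + 2)) ⊕ Fin 2 → F),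
        Lm (k + 2) ι ω (φ ω) ((((j x : Cfsg.isometryGroup F (⇑Q)) :
          GL ((Fin (k + 2) ⊕ Fin (k + 2)) ⊕ Fin 2) F) :
          Matrix ((Fin (k + 2) ⊕ Fin (k + 2)) ⊕ Fin 2) ((Fin (k + 2) ⊕ Fin (k + 2)) ⊕ Fin 2) F) *ᵥ v) =
        mt (x : WSU (2 * (k + 2) + 2) (RingHom.id K)) *ᵥ Lm (k + 2) ι ω (φ ω) v)
    (hdet : ∀ g : Cfsg.isometryGroup F (⇑Q),
        ((g : GL ((Fin (k + 2) ⊕ Fin (k + 2)) ⊕ Fin 2) F) :
          Matrix ((Fin (k + 2) ⊕ Fin (k + 2)) ⊕ Fin 2) ((Fin (k + 2) ⊕ Fin (k + 2)) ⊕ Fin 2) F).det = 1 →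
        g ∈ j.range) :
    commutator (Cfsg.isometryGroup F (⇑Q)) ≤
      ((borT (2 * (k + 2) + 2) φ ⊔ monT (2 * (k + 2) + 2) φ).subgroupOf
        (gT (2 * (k + 2) + 2) φ)).map j := by
  classical
  set KK := ((borT (2 * (k + 2) + 2) φ ⊔ monT (2 * (k + 2) + 2) φ).subgroupOf
    (gT (2 * (k + 2) + 2) φ)).map j with hKdef
  have hn : (2 * (k + 2) + 2) % 2 = 0 := by omega
  have h6 : 6 ≤ 2 * (k + 2) + 2 := by omega
  have hex' : Fintype.card F ≠ 2 ∨
      Fintype.card ((Fin (k + 2) ⊕ Fin (k + 2)) ⊕ Fin 2) ≠ 4 := by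
    right
    simp only [Fintype.card_sum, Fintype.card_fin]
    omega
  have hΩ : commutator (Cfsg.isometryGroup F (⇑Q)) = eichGroup Q := Omega_eq_eichGroup hQ hex' fr
  set e0 : (Fin (k + 2) ⊕ Fin (k + 2)) ⊕ Fin 2 → F := Pi.single (Sum.inl (Sum.inl 0)) 1 with he0
  set f0 : (Fin (k + 2) ⊕ Fin (k + 2)) ⊕ Fin 2 → F := Pi.single (Sum.inl (Sum.inr 0)) 1 with hf0
  have qe0 : Q e0 = 0 := th.s1
  have qf0 : Q f0 = 0 := th.s2
  have pe0 : ∀ v, polar Q e0 v = v (Sum.inl (Sum.inr 0)) := th.p1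
  have hef : polar Q e0 f0 = 1 := by
    rw [pe0, hf0, Pi.single_apply, if_pos rfl]
  have hιinj : Function.Injective ι := ι.injective
  have hωne : φ ω - ω ≠ 0 := sub_ne_zero.2 hω3
  have hωne' : ω - φ ω ≠ 0 := sub_ne_zero.2 hω3.symm
  -- the last index
  have hlast : Fin.rev (⟨0, by omega⟩ : Fin (2 * (k + 2) + 2)) = fI (k + 2) 0 := by
    apply Fin.ext
    rw [Fin.val_rev]
    simp only [fI, Fin.val_zero]
    omega
  have hfirst : eI (k + 2) 0 = (⟨0, by omega⟩ : Fin (2 * (k + 2) + 2)) := Fin.ext rfl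
  -- membership in `KK`
  have hKb : ∀ x : ↥(gT (2 * (k + 2) + 2) φ), (x : WSU (2 * (k + 2) + 2) (RingHom.id K)) ∈
      borT (2 * (k + 2) + 2) φ → j x ∈ KK := by
    intro x hx
    exact Subgroup.mem_map_of_mem j (by rw [Subgroup.mem_subgroupOf]; exact Subgroup.mem_sup_left hx)
  have hKm : ∀ x : ↥(gT (2 * (k + 2) + 2) φ), (x : WSU (2 * (k + 2) + 2) (RingHom.id K)) ∈
      monT (2 * (k + 2) + 2) φ → j x ∈ KK := by
    intro x hx
    exact Subgroup.mem_map_of_mem j (by rw [Subgroup.mem_subgroupOf]; exact Subgroup.mem_sup_right hx)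
  -- the action in coordinates
  have hact : ∀ (x : ↥(gT (2 * (k + 2) + 2) φ)) (z : (Fin (k + 2) ⊕ Fin (k + 2)) ⊕ Fin 2 → F),
      Lm (k + 2) ι ω (φ ω) (j x • z) =
        mt (x : WSU (2 * (k + 2) + 2) (RingHom.id K)) *ᵥ Lm (k + 2) ι ω (φ ω) z :=
    fun x z => hj x z
  -- monomial elements: the row of the last index
  have hmon : ∀ (w : WSU (2 * (k + 2) + 2) (RingHom.id K)) (π : Equiv.Perm (Fin (2 * (k + 2) + 2)))
      (p : Fin (2 * (k + 2) + 2)), IsMon (mt w) π → π p = fI (k + 2) 0 →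
      ∀ u : Fin (2 * (k + 2) + 2) → K, (mt w *ᵥ u) (fI (k + 2) 0) = mt w (π p) p * u p := by
    intro w π p hπ hπp u
    rw [Matrix.mulVec, dotProduct, Finset.sum_eq_single p]
    · rw [hπp]
    · intro q _ hqp
      rw [hπ, zero_mul]
      rw [← hπp]
      intro e
      exact hqp (π.injective e).symm
    · intro h; exact absurd (Finset.mem_univ _) h
  rw [hΩ]
  apply st_generic Q KK e0 f0 qe0 qf0 hef
  · -- (3) the root group of `e0`
    intro bb hb
    have hmem : eichG Q e0 bb ∈ commutator (Cfsg.isometryGroup F (⇑Q)) := by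
      rw [hΩ]; exact eichG_mem qe0 hb
    obtain ⟨x, hx⟩ := hdet _ (ol_det_eq_one _ _ hmem)
    rw [← hx]
    apply hKb
    refine ⟨⟨?_, x.2.1⟩, x.2.2⟩
    -- the key property
    have hP : ∀ v : (Fin (k + 2) ⊕ Fin (k + 2)) ⊕ Fin 2 → F, v (Sum.inl (Sum.inr 0)) = 0 →
        ∀ p' : Fin (2 * (k + 2) + 2), p' ≠ ⟨0, by omega⟩ →
        (mt (x : WSU (2 * (k + 2) + 2) (RingHom.id K)) *ᵥ Lm (k + 2) ι ω (φ ω) v) p' =
          Lm (k + 2) ι ω (φ ω) v p' := by
      intro v hv p' hp'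
      have hE : eich Q e0 bb v = v + polar Q bb v • e0 := by
        rw [eich_apply, pe0, hv, zero_smul, zero_smul, smul_zero, sub_zero, sub_zero]
      rw [← hact, hx, eichG_smul qe0 hb, hE, st_Lm_add, st_Lm_smul, he0, st_Lm_single_e,
        Pi.add_apply, Pi.smul_apply,
        Pi.single_apply, if_neg (by rw [hfirst]; exact hp'), smul_zero, add_zero]
    have hPadd : ∀ u u' : Fin (2 * (k + 2) + 2) → K,
        (∀ p' : Fin (2 * (k + 2) + 2), p' ≠ ⟨0, by omega⟩ →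
          (mt (x : WSU (2 * (k + 2) + 2) (RingHom.id K)) *ᵥ u) p' = u p') →
        (∀ p' : Fin (2 * (k + 2) + 2), p' ≠ ⟨0, by omega⟩ →
          (mt (x : WSU (2 * (k + 2) + 2) (RingHom.id K)) *ᵥ u') p' = u' p') →
        ∀ p' : Fin (2 * (k + 2) + 2), p' ≠ ⟨0, by omega⟩ →
          (mt (x : WSU (2 * (k + 2) + 2) (RingHom.id K)) *ᵥ (u + u')) p' = (u + u') p' := by
      intro u u' h1 h2 p' hp'
      rw [Matrix.mulVec_add, Pi.add_apply, Pi.add_apply, h1 p' hp', h2 p' hp']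
    have hPsmul : ∀ (c : K) (u : Fin (2 * (k + 2) + 2) → K),
        (∀ p' : Fin (2 * (k + 2) + 2), p' ≠ ⟨0, by omega⟩ →
          (mt (x : WSU (2 * (k + 2) + 2) (RingHom.id K)) *ᵥ u) p' = u p') →
        ∀ p' : Fin (2 * (k + 2) + 2), p' ≠ ⟨0, by omega⟩ →
          (mt (x : WSU (2 * (k + 2) + 2) (RingHom.id K)) *ᵥ (c • u)) p' = (c • u) p' := by
      intro c u h1 p' hp'
      rw [Matrix.mulVec_smul, Pi.smul_apply, Pi.smul_apply, h1 p' hp']
    have hz1 : ∀ p' : Fin (2 * (k + 2) + 2), p' ≠ ⟨0, by omega⟩ →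
        (mt (x : WSU (2 * (k + 2) + 2) (RingHom.id K)) *ᵥ
          Lm (k + 2) ι ω (φ ω) (Pi.single (Sum.inr 0) 1)) p' =
          Lm (k + 2) ι ω (φ ω) (Pi.single (Sum.inr 0) 1) p' :=
      hP _ (by rw [Pi.single_apply, if_neg (by simp)])
    have hz2 : ∀ p' : Fin (2 * (k + 2) + 2), p' ≠ ⟨0, by omega⟩ →
        (mt (x : WSU (2 * (k + 2) + 2) (RingHom.id K)) *ᵥ
          Lm (k + 2) ι ω (φ ω) (Pi.single (Sum.inr 1) 1)) p' =
          Lm (k + 2) ι ω (φ ω) (Pi.single (Sum.inr 1) 1) p' :=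
      hP _ (by rw [Pi.single_apply, if_neg (by simp)])
    have hcol : ∀ q : Fin (2 * (k + 2) + 2), q ≠ fI (k + 2) 0 →
        ∀ p' : Fin (2 * (k + 2) + 2), p' ≠ ⟨0, by omega⟩ →
          (mt (x : WSU (2 * (k + 2) + 2) (RingHom.id K)) *ᵥ (Pi.single q 1)) p' =
            (Pi.single q 1 : Fin (2 * (k + 2) + 2) → K) p' := by
      intro q hq
      rcases index_cases (k + 2) q with ⟨i, rfl⟩ | ⟨i, rfl⟩ | rfl | rfl
      · rw [← st_Lm_single_e (k + 2) ι ω (φ ω) i]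
        exact hP _ (by rw [Pi.single_apply, if_neg (by simp)])
      · rw [← st_Lm_single_f (k + 2) ι ω (φ ω) i]
        refine hP _ ?_
        rw [Pi.single_apply, if_neg]
        intro e
        apply hq
        have : (0 : Fin (k + 2)) = i := by simpa using e
        rw [this]
      · have h1 : (Pi.single (cI (k + 2)) 1 : Fin (2 * (k + 2) + 2) → K) =
            (φ ω - ω)⁻¹ • (φ ω • Lm (k + 2) ι ω (φ ω) (Pi.single (Sum.inr 0) 1) +
              Lm (k + 2) ι ω (φ ω) (Pi.single (Sum.inr 1) 1)) := by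
          have h2 : φ ω • Lm (k + 2) ι ω (φ ω) (Pi.single (Sum.inr 0) 1) +
              Lm (k + 2) ι ω (φ ω) (Pi.single (Sum.inr 1) 1) =
              (φ ω - ω) • (Pi.single (cI (k + 2)) 1 : Fin (2 * (k + 2) + 2) → K) := by
            rw [st_Lm_z1, st_Lm_z2]
            module
          rw [h2, smul_smul, inv_mul_cancel₀ hωne, one_smul]
        rw [h1]
        exact hPsmul _ _ (hPadd _ _ (hPsmul _ _ hz1) hz2)
      · have h1 : (Pi.single (dI (k + 2)) 1 : Fin (2 * (k + 2) + 2) → K) =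
            (ω - φ ω)⁻¹ • (ω • Lm (k + 2) ι ω (φ ω) (Pi.single (Sum.inr 0) 1) +
              Lm (k + 2) ι ω (φ ω) (Pi.single (Sum.inr 1) 1)) := by
          have h2 : ω • Lm (k + 2) ι ω (φ ω) (Pi.single (Sum.inr 0) 1) +
              Lm (k + 2) ι ω (φ ω) (Pi.single (Sum.inr 1) 1) =
              (ω - φ ω) • (Pi.single (dI (k + 2)) 1 : Fin (2 * (k + 2) + 2) → K) := by
            rw [st_Lm_z1, st_Lm_z2]
            module
          rw [h2, smul_smul, inv_mul_cancel₀ hωne', one_smul]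
        rw [h1]
        exact hPsmul _ _ (hPadd _ _ (hPsmul _ _ hz1) hz2)
    intro p q hqp
    have hq : q ≠ fI (k + 2) 0 := by
      intro e
      rw [e, Fin.lt_def] at hqp
      have := p.2
      simp only [fI, Fin.val_zero] at hqp
      omega
    have hp : p ≠ ⟨0, by omega⟩ := by
      intro e
      rw [e, Fin.lt_def] at hqp
      simp at hqp
    have h1 := hcol q hq p hp
    rw [Matrix.mulVec_single_one] at h1
    have h2 : mt (x : WSU (2 * (k + 2) + 2) (RingHom.id K)) p q =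
        (Pi.single q 1 : Fin (2 * (k + 2) + 2) → K) p := h1
    rw [h2, Pi.single_apply, if_neg (ne_of_gt hqp)]
  · -- (4) moving a singular vector off `e0^⊥`
    intro z hz hz0
    have hex : (∃ i, z (Sum.inl (Sum.inl i)) ≠ 0) ∨ (∃ i, z (Sum.inl (Sum.inr i)) ≠ 0) := by
      by_contra hcon
      push Not at hcon
      obtain ⟨h1, h2⟩ := hcon
      have hz' : Q z = 0 := hz
      rw [hQf] at hz'
      have hsum : ∑ i : Fin (k + 2), z (Sum.inl (Sum.inl i)) * z (Sum.inl (Sum.inr i)) = 0 :=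
        Finset.sum_eq_zero fun i _ => by rw [h1 i, zero_mul]
      rw [hsum, zero_add] at hz'
      obtain ⟨h3, h4⟩ := hab _ _ hz'
      apply hz0
      funext x
      rcases x with (i | i) | i
      · exact h1 i
      · exact h2 i
      · fin_cases i
        · exact h3
        · exact h4
    obtain ⟨p, hτp, a', hLp, hza'⟩ : ∃ (p : Fin (2 * (k + 2) + 2)) (_ : tauP (2 * (k + 2) + 2) p = p)
        (a' : (Fin (k + 2) ⊕ Fin (k + 2)) ⊕ Fin 2),
        (∀ v, Lm (k + 2) ι ω (φ ω) v p = ι (v a')) ∧ z a' ≠ 0 := by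
      rcases hex with ⟨i, hi⟩ | ⟨i, hi⟩
      · exact ⟨eI (k + 2) i, tauP_eI (k + 2) i, Sum.inl (Sum.inl i),
          fun v => Lm_eI (k + 2) ι ω (φ ω) v i, hi⟩
      · refine ⟨fI (k + 2) i, ?_, Sum.inl (Sum.inr i), fun v => Lm_fI (k + 2) ι ω (φ ω) v i, hi⟩
        rw [← rev_eI, tauP_rev hn, tauP_eI]
    obtain ⟨w, hw, π, hπ, hπp⟩ := st_exists_mon hn h6 φ p hτp
    rw [hlast] at hπp
    refine ⟨j ⟨w, monT_le_gT _ _ hw⟩, hKm _ hw, ?_⟩
    rw [pe0]
    intro h0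
    have h1 := congrFun (hact ⟨w, monT_le_gT _ _ hw⟩ z) (fI (k + 2) 0)
    rw [Lm_fI, h0, map_zero, hmon w π p hπ hπp, hLp] at h1
    rcases mul_eq_zero.1 h1.symm with h2 | h2
    · exact hπ.apply_ne_zero p h2
    · rw [← map_zero ι] at h2
      exact hza' (hιinj h2)
  · -- (4') moving `e0` to `f0`
    obtain ⟨w, hw, π, hπ, hπp⟩ := st_exists_mon hn h6 φ (eI (k + 2) 0) (tauP_eI (k + 2) 0)
    rw [hlast] at hπp
    set y := j ⟨w, monT_le_gT _ _ hw⟩ • e0 with hy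
    have hLy : ∀ x' : Fin (2 * (k + 2) + 2),
        Lm (k + 2) ι ω (φ ω) y x' = mt w x' (eI (k + 2) 0) := by
      intro x'
      rw [hy, hact, he0, st_Lm_single_e, Matrix.mulVec_single_one]
      rfl
    have hLy0 : ∀ x' : Fin (2 * (k + 2) + 2), x' ≠ fI (k + 2) 0 →
        Lm (k + 2) ι ω (φ ω) y x' = 0 := by
      intro x' hx'
      rw [hLy, hπ]
      rw [hπp]
      exact hx'
    have hy1 : y (Sum.inr 1) = 0 := by
      have h1 := hLy0 (cI (k + 2)) (st_fI_ne_cI (k + 2) 0).symm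
      have h2 := hLy0 (dI (k + 2)) (st_fI_ne_dI (k + 2) 0).symm
      rw [Lm_cI] at h1
      rw [Lm_dI] at h2
      have h3 : (φ ω - ω) * ι (y (Sum.inr 1)) = 0 := by linear_combination h1 - h2
      rcases mul_eq_zero.1 h3 with h4 | h4
      · exact absurd h4 hωne
      · rw [← map_zero ι] at h4
        exact hιinj h4
    have hy0 : y (Sum.inr 0) = 0 := by
      have h1 := hLy0 (cI (k + 2)) (st_fI_ne_cI (k + 2) 0).symm
      rw [Lm_cI, hy1, map_zero, mul_zero, sub_zero, ← map_zero ι] at h1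
      exact hιinj h1
    refine ⟨j ⟨w, monT_le_gT _ _ hw⟩, hKm _ hw, y (Sum.inl (Sum.inr 0)), ?_, ?_⟩
    · intro h0
      have h1 := hLy (fI (k + 2) 0)
      rw [Lm_fI, h0, map_zero, ← hπp] at h1
      exact hπ.apply_ne_zero _ h1.symm
    · rw [← hy]
      funext x
      rw [Pi.smul_apply, hf0, Pi.single_apply, smul_eq_mul]
      rcases x with (i | i) | i
      · rw [if_neg (by simp), mul_zero]
        have h1 := hLy0 (eI (k + 2) i) (st_eI_ne_fI (k + 2) i 0)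
        rw [Lm_eI, ← map_zero ι] at h1
        exact hιinj h1
      · by_cases hi : i = 0
        · rw [hi, if_pos rfl, mul_one]
        · rw [if_neg (by simpa using hi), mul_zero]
          have h1 := hLy0 (fI (k + 2) i) (by rw [Ne, st_fI_inj]; exact hi)
          rw [Lm_fI, ← map_zero ι] at h1
          exact hιinj h1
      · rw [if_neg (by simp), mul_zero]
        fin_cases i
        · exact hy0
        · exact hy1

end main

/-- PIECE OMEGALEM. -/
theorem Omega_le_map_minus {F K : Type*} [Field F] [Fintype F] [Field K] (m : ℕ) (hm : 2 ≤ m) (a b : F)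
    (hab : ∀ z₁ z₂ : F, z₁ ^ 2 + a * z₁ * z₂ + b * z₂ ^ 2 = 0 → z₁ = 0 ∧ z₂ = 0)
    (ι : F →+* K) (φ : K →+* K) (ω : K) (hφφ : ∀ x, φ (φ x) = x) (hfix : ∀ x, φ x = x ↔ x ∈ ι.range)
    (hω1 : ω + φ ω = - ι a) (hω2 : ω * φ ω = ι b) (hω3 : φ ω ≠ ω)
    (j : ↥(gT (2 * m + 2) φ) →* Cfsg.isometryGroup F (Cfsg.quadFormMinus m F a b))
    (hj : ∀ (x : ↥(gT (2 * m + 2) φ)) (v : (Fin m ⊕ Fin m) ⊕ Fin 2 → F),
        Lm m ι ω (φ ω) ((((j x : Cfsg.isometryGroup F (Cfsg.quadFormMinus m F a b)) :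
          GL ((Fin m ⊕ Fin m) ⊕ Fin 2) F) : Matrix ((Fin m ⊕ Fin m) ⊕ Fin 2) ((Fin m ⊕ Fin m) ⊕ Fin 2) F) *ᵥ v) =
        mt (x : WSU (2 * m + 2) (RingHom.id K)) *ᵥ Lm m ι ω (φ ω) v)
    (hdet : ∀ g : Cfsg.isometryGroup F (Cfsg.quadFormMinus m F a b),
        ((g : GL ((Fin m ⊕ Fin m) ⊕ Fin 2) F) :
          Matrix ((Fin m ⊕ Fin m) ⊕ Fin 2) ((Fin m ⊕ Fin m) ⊕ Fin 2) F).det = 1 → g ∈ j.range) :
    commutator (Cfsg.isometryGroup F (Cfsg.quadFormMinus m F a b)) ≤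
      ((borT (2 * m + 2) φ ⊔ monT (2 * m + 2) φ).subgroupOf (gT (2 * m + 2) φ)).map j := by
  obtain ⟨k, rfl⟩ : ∃ k, m = k + 2 := ⟨m - 2, by omega⟩
  revert j
  rw [quadFormMinus_eq]
  intro j hj hdet
  have fr : HypFrame (matQ (minusMat (k + 2) a b))
      (fun i : Fin 2 => Pi.single (Sum.inl (Sum.inl (Fin.castLE (by omega) i))) 1)
      (fun i : Fin 2 => Pi.single (Sum.inl (Sum.inr (Fin.castLE (by omega) i))) 1) := by
    apply hypFrame_matQ (minusMat (k + 2) a b)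
      (fun i : Fin 2 => Sum.inl (Sum.inl (Fin.castLE (by omega) i)))
      (fun i : Fin 2 => Sum.inl (Sum.inr (Fin.castLE (by omega) i)))
    · intro i; simp [minusMat, plusMat]
    · intro i; simp [minusMat, plusMat]
    · intro i j; simp [minusMat, plusMat]
    · intro i j; simp [minusMat, plusMat]
    · intro i j
      simp [minusMat, plusMat, Matrix.one_apply]
  exact st_main k a b hab _ (nondeg_minus (k + 2) a b hab) (twoHyp_minus k a b) fr
    (matQ_minusMat a b) ι φ ω hω3 j hj hdet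

end Cfsg.Agent.Helper13.StP
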