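import Mathlib
import Cfsg.Agent.Lib.Helper4.BGSigI

/-!
# BG 12.17 (`tau1_mmaxI_asymmetry`), part A: the argument inside `C_G(P)` without a common
Sylow subgroup (helper25)

Context-free versions of helper4's `Ctx.rank_centralizer`, `Ctx.cyclic_of_le`, `Ctx.key_aux`,
`Ctx.key`.
-/

set_option autoImplicit false
set_option linter.unusedVariables false
set_option linter.style.haveILetI false

namespace Cfsg.Agent.Helper25.BG1217

open Cfsg Subgroup
open scoped commutatorElement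
open Cfsg.Agent.Helper15 (IsSylowIn)
open Cfsg.Agent.Helper4.BG144
open Cfsg.Agent.Helper4.BGSig

universe u

variable {G : Type u} [Group G] [Finite G]

/-- `N_G(P) ≰ M` for `P` of order `p ∈ τ₁(M)` -/
theorem normalizer_not_le (h : Hyps G) {M : Subgroup G} (hM : IsCoatom M) {p : ℕ}
    (hp : p ∈ tau1 M) {P : Subgroup G} (hPc : Nat.card P = p) :
    ¬ normalizer (P : Set G) ≤ M := by
  intro hN
  haveI : Fact p.Prime := ⟨hp.1⟩
  exact (Cfsg.Agent.S1409.result h.hG M hM p hp.2.1 P hPc hN).1.2 hp.2.2.2.2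

/-- `C_{M_α}(P)` has rank at most one -/
theorem rank_centralizer (h : Hyps G) {M : Subgroup G} (hM : IsCoatom M) {p : ℕ}
    (hp : p ∈ tau1 M) {P : Subgroup G} (hPM : P ≤ M) (hPc : Nat.card P = p) :
    RankLE 1 ↥(alphaCore M ⊓ centralizer (P : Set G)) := by
  by_contra hr
  have hpp : p.Prime := hp.1
  have hP1 : P ≠ ⊥ := by
    intro hbot
    rw [hbot, Subgroup.card_bot] at hPc
    exact hpp.one_lt.ne hPc
  have hPtop : P ≠ ⊤ := fun hT => hM.1 (top_le_iff.mp (hT ▸ hPM))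
  have hU := Cfsg.Agent.S1406.result h.hG M hM P hPM (by
    intro r hr hrd hrα
    rw [hPc] at hrd
    rw [(Nat.prime_dvd_prime_iff_eq hr hpp).mp hrd] at hrα
    exact hp.2.1 (Cfsg.Agent.Helper23.BG10.alpha_subset_sigma h.hG (Ctx.uniq h.hG) hM hrα)) hr
  obtain ⟨H, hH, hNH⟩ := exists_coatom_ge (normalizer_ne_top' h.hG hP1 hPtop)
  obtain ⟨H', -, huniq⟩ := hU
  have h1 := huniq H ⟨hH, inf_le_right.trans ((centralizer_le_normalizer _).trans hNH)⟩
  have h2 := huniq M ⟨hM, inf_le_left⟩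
  apply normalizer_not_le h hM hp hPc
  rw [h2, ← h1]
  exact hNH

/-- `r`-subgroups of `C_{M_β}(P)` are cyclic -/
theorem cyclic_of_le (h : Hyps G) {M : Subgroup G} (hM : IsCoatom M) {p : ℕ} (hp : p ∈ tau1 M)
    {P : Subgroup G} (hPM : P ≤ M) (hPc : Nat.card P = p) {r : ℕ} [Fact r.Prime]
    (hrβ : r ∈ beta M) {R : Subgroup G} (hRβ : R ≤ betaCore M)
    (hRJ : R ≤ centralizer (P : Set G)) (hRp : IsPGroup r R) : IsCyclic R := by
  have hr : r.Prime := Fact.out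
  have hle : R ≤ alphaCore M ⊓ centralizer (P : Set G) :=
    le_inf (hRβ.trans (betaCore_le_alphaCore M)) hRJ
  have hrk := rank_centralizer h hM hp hPM hPc r hr
  have hrk' : PRankLE r 1 R :=
    Cfsg.Agent.Helper7.BG12.pRankLE_of_injective (Subgroup.inclusion hle)
      (Subgroup.inclusion_injective hle) hrk
  have hodd : Odd r := by
    have h1 : r ∣ Nat.card M :=
      Cfsg.Agent.Helper22.BG13.dvd_card_of_mem_sigma (beta_subset_sigma h hM hrβ)
    exact Odd.of_dvd_nat h.hG.1 (h1.trans (Subgroup.card_subgroup_dvd_card M))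
  exact Cfsg.Agent.Helper7.BG12.isCyclic_of_pRankLE_one hodd hRp hrk'

/-- a subgroup `H1` of `C_G(P)` with a nontrivial normal `r`-subgroup, `r` dividing
`|C_{M_β}(P)|`, is conjugate under `C_G(P)` into `M` -/
theorem key_aux (h : Hyps G) {M : Subgroup G} (hM : IsCoatom M) {p : ℕ} (hp : p ∈ tau1 M)
    {P : Subgroup G} (hPM : P ≤ M) (hPc : Nat.card P = p) {r : ℕ} [Fact r.Prime]
    (hrA : r ∣ Nat.card ↥(betaCore M ⊓ centralizer (P : Set G))) {H1 Q : Subgroup G}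
    (hH1J : H1 ≤ centralizer (P : Set G)) (hQH : Q ≤ H1) (hHQ : H1 ≤ normalizer (Q : Set G))
    (hQ1 : Q ≠ ⊥) (hQr : IsPGroup r Q) :
    ∃ j ∈ centralizer (P : Set G), H1.map (MulAut.conj j).toMonoidHom ≤ M := by
  have hr : r.Prime := Fact.out
  have hrβ : r ∈ beta M :=
    mem_beta_of_dvd_card_betaCore hr (hrA.trans (Subgroup.card_dvd_of_le inf_le_left))
  obtain ⟨R, hR, hRβ⟩ := exists_sylow_centralizer_le h hM hrA
  obtain ⟨j, hj, hjQ⟩ := exists_conj_le_of_sylowLike hR.le hR.isPGroup hR.not_dvd_relIndex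
    (hQH.trans hH1J) hQr
  refine ⟨j, hj, ?_⟩
  set Q' : Subgroup G := Q.map (MulAut.conj j).toMonoidHom with hQ'
  have hQ'β : Q' ≤ betaCore M := hjQ.trans hRβ
  have hQ'J : Q' ≤ centralizer (P : Set G) := hjQ.trans hR.le
  have hQ'r : IsPGroup r Q' := hQr.map _
  have hQ'1 : Q' ≠ ⊥ := by
    intro hbot
    apply hQ1
    have := (Subgroup.map_eq_bot_iff_of_injective Q (conj_injective j)).mp hbot
    exact this
  have hcyc : IsCyclic Q' := cyclic_of_le h hM hp hPM hPc hrβ hQ'β hQ'J hQ'r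
  have hcomm : ∀ a ∈ Q', ∀ b ∈ Q', a * b = b * a := by
    intro a ha b hb
    haveI := hcyc
    exact Cfsg.Agent.Helper7.MaxComp.comm_of_isMulCommutative
      (IsCyclic.commutative (α := Q')) a ha b hb
  have hΩc := card_omegaSub hcomm hcyc hQ'r hQ'1
  have hΩM : omegaSub Q' hcomm r ≤ M :=
    ((omegaSub_le Q' hcomm r).trans hQ'β).trans (betaCore_le M)
  have hN := (normalizer_le_of_card_beta h hM hrβ hΩM hΩc).1
  exact ((Cfsg.Agent.Helper14.BGTrans.map_conj_le_normalizer_map_conj hHQ j).trans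
    (normalizer_le_normalizer_omegaSub Q' hcomm r)).trans hN

/-- the key dichotomy inside `C_G(P)` -/
theorem key (h : Hyps G) {M L : Subgroup G} (hM : IsCoatom M) (hL : IsCoatom L) {p : ℕ}
    (hp : p ∈ tau1 M) (hp' : p ∈ tau1 L)
    {P : Subgroup G} (hPM : P ≤ M) (hPL : P ≤ L) (hPc : Nat.card P = p)
    (hAM : betaCore M ⊓ centralizer (P : Set G) ≠ ⊥)
    (hAL : betaCore L ⊓ centralizer (P : Set G) ≠ ⊥) :
    (∃ t ∈ beta L, t ∣ Nat.card ↥(M ⊓ centralizer (P : Set G))) ∨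
      (∃ r ∈ beta M, r ∣ Nat.card ↥(L ⊓ centralizer (P : Set G))) := by
  have hpp : p.Prime := hp.1
  have hP1 : P ≠ ⊥ := by
    intro hbot
    rw [hbot, Subgroup.card_bot] at hPc
    exact hpp.one_lt.ne hPc
  set J : Subgroup G := centralizer (P : Set G) with hJ
  have hJtop : J ≠ ⊤ := Cfsg.Agent.Helper23.BG10.centralizer_ne_top' h.hG hP1
  have hJsolv : Group.IsSolvable J := h.hG.2.2.2 J hJtop
  obtain ⟨r, hr, hrA⟩ := Nat.exists_prime_and_dvd
    (fun h1 => hAM (Subgroup.card_eq_one.mp h1))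
  obtain ⟨t, ht, htA⟩ := Nat.exists_prime_and_dvd
    (fun h1 => hAL (Subgroup.card_eq_one.mp h1))
  haveI : Fact r.Prime := ⟨hr⟩
  haveI : Fact t.Prime := ⟨ht⟩
  have hrβ : r ∈ beta M :=
    mem_beta_of_dvd_card_betaCore hr (hrA.trans (Subgroup.card_dvd_of_le inf_le_left))
  have htβ : t ∈ beta L :=
    mem_beta_of_dvd_card_betaCore ht (htA.trans (Subgroup.card_dvd_of_le inf_le_left))
  obtain ⟨H1, -, hH1⟩ := exists_isPiHallOf_ge hJsolv ({r, t} : Set ℕ)
    (bot_le : (⊥ : Subgroup G) ≤ J) (by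
      intro s hs hsd
      rw [Subgroup.card_bot] at hsd
      exact absurd (Nat.dvd_one.mp hsd) hs.one_lt.ne')
  have hdvd : ∀ s : ℕ, s.Prime → s ∈ ({r, t} : Set ℕ) → s ∣ Nat.card J → s ∣ Nat.card H1 := by
    intro s hs hsπ hsJ
    rw [← card_mul_relIndex' hH1.1] at hsJ
    rcases (Nat.Prime.dvd_mul hs).mp hsJ with h1 | h1
    · exact h1
    · exact absurd h1 (hH1.2.2 s hs hsπ)
  have hrH : r ∣ Nat.card H1 := hdvd r hr (by simp)
    (hrA.trans (Subgroup.card_dvd_of_le inf_le_right))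
  have htH : t ∣ Nat.card H1 := hdvd t ht (by simp)
    (htA.trans (Subgroup.card_dvd_of_le inf_le_right))
  have hH1ne : H1 ≠ ⊥ := by
    intro hbot
    rw [hbot, Subgroup.card_bot] at hrH
    exact hr.one_lt.ne' (Nat.dvd_one.mp hrH)
  haveI : Group.IsSolvable H1 := h.hG.2.2.2 H1 (fun hT => hJtop (top_le_iff.mp (hT ▸ hH1.1)))
  haveI : Nontrivial H1 := (Subgroup.nontrivial_iff_ne_bot H1).mpr hH1ne
  obtain ⟨u, hu, Q₀, hQ₀n, hQ₀1, hQ₀p⟩ := Cfsg.Agent.Helper1.exists_normal_pSubgroup_of_solvable H1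
  haveI := hQ₀n
  set Q : Subgroup G := Q₀.map H1.subtype with hQ
  have hQH : Q ≤ H1 := map_subtype_le _
  have hHQ : H1 ≤ normalizer (Q : Set G) :=
    Cfsg.Agent.Helper14.BGUniq.le_normalizer_map_subtype H1 Q₀
  have hQ1 : Q ≠ ⊥ := by
    intro hbot
    exact hQ₀1 ((Subgroup.map_eq_bot_iff_of_injective Q₀ H1.subtype_injective).mp hbot)
  have hQp : IsPGroup u Q := hQ₀p.map _
  have huπ : u ∈ ({r, t} : Set ℕ) := by
    apply hH1.2.1 u hu
    haveI : Fact u.Prime := ⟨hu⟩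
    have hQnt : Nontrivial Q := (Subgroup.nontrivial_iff_ne_bot Q).mpr hQ1
    obtain ⟨n, hn, hcard⟩ := hQp.nontrivial_iff_card.mp hQnt
    refine Dvd.dvd.trans ?_ (Subgroup.card_dvd_of_le hQH)
    rw [hcard]; exact dvd_pow_self u hn.ne'
  rcases huπ with rfl | hut
  · left
    obtain ⟨j, hj, hle⟩ := key_aux h hM hp hPM hPc hrA hH1.1 hQH hHQ hQ1 hQp
    exact ⟨t, htβ, htH.trans (Ctx.dvd_card_inf_of_conj hj hH1.1 hle)⟩
  · right
    rw [Set.mem_singleton_iff] at hut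
    subst hut
    obtain ⟨j, hj, hle⟩ := key_aux h hL hp' hPL hPc htA hH1.1 hQH hHQ hQ1 hQp
    exact ⟨r, hrβ, hrH.trans (Ctx.dvd_card_inf_of_conj hj hH1.1 hle)⟩

end Cfsg.Agent.Helper25.BG1217
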