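import Mathlib
import Cfsg.Agent.Lib.Helper25.BG1217A
import Cfsg.Agent.Lib.Helper18.BG13P3
import Cfsg.Agent.Lib.Helper22.BG13E
import Cfsg.Agent.S0026
import Cfsg.Agent.S1415

/-!
# BG 12.17 (`tau1_mmaxI_asymmetry`), part B: one half of the configuration (helper25)

`Half M L P Q p q`: `M`, `L` nonconjugate maximal subgroups, `P ≤ M ∩ L` of order
`p ∈ τ₁(M) ∩ τ₁(L)`, `Q` a `P`-invariant Sylow `q`-subgroup of `M ∩ L` on which `P` acts without
fixed points, `N_G(Q) ≤ L`, `q ∈ σ(L)`, and `M_σ ∩ L ≠ 1`.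
-/

set_option autoImplicit false
set_option linter.unusedVariables false
set_option linter.style.haveILetI false
set_option linter.unusedSectionVars false

namespace Cfsg.Agent.Helper25.BG1217

open Cfsg Subgroup
open scoped commutatorElement
open Cfsg.Agent.Helper15 (IsSylowIn)
open Cfsg.Agent.Helper4.BG144
open Cfsg.Agent.Helper4.BGSig

universe u

variable {G : Type u} [Group G] [Finite G]

/-- one half of the configuration of BG 12.17 -/
structure Half (M L P Q : Subgroup G) (p q : ℕ) : Prop where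
  hM : IsCoatom M
  hL : IsCoatom L
  hconj : ∀ g : G, L ≠ M.map (MulAut.conj g).toMonoidHom
  hpM : p ∈ tau1 M
  hpL : p ∈ tau1 L
  hPM : P ≤ M
  hPL : P ≤ L
  hPc : Nat.card P = p
  hQ : Helper15.IsSylowIn q Q (M ⊓ L)
  hPQ : P ≤ normalizer (Q : Set G)
  hfpf : Q ⊓ centralizer (P : Set G) = ⊥
  hNQ : normalizer (Q : Set G) ≤ L
  hqL : q ∈ sigma L
  hML : sigmaCore M ⊓ L ≠ ⊥

/-- `M_β ≠ 1` and `M_β ≤ L` force `L = M` -/
theorem eq_of_betaCore_le (h : Hyps G) {M L : Subgroup G} (hM : IsCoatom M) (hL : IsCoatom L)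
    (hβ : betaCore M ≠ ⊥) (hle : betaCore M ≤ L) : L = M := by
  obtain ⟨r, hr, hrd⟩ := Nat.exists_prime_and_dvd (fun h1 => hβ (Subgroup.card_eq_one.mp h1))
  haveI : Fact r.Prime := ⟨hr⟩
  have hrβ := mem_beta_of_dvd_card_betaCore hr hrd
  obtain ⟨B, hBM, hBe, hBc⟩ := Cfsg.Agent.Helper14.BGUniq.exists_elemAb_of_not_pRankLE hrβ.1.2
  have hBp : IsPGroup r B := Cfsg.Agent.Helper14.BGUniq.isPGroup_of_isElementaryAbelian hBe
  have hBβ : B ≤ betaCore M :=
    le_of_isPiHallOf_normal (betaCore_hall h hM) (le_normalizer_betaCore M) hBM (by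
      intro s hs hsd
      obtain ⟨k, hk⟩ := hBp.exists_card_eq
      rw [hk] at hsd
      rw [(Nat.prime_dvd_prime_iff_eq hs hr).mp (hs.dvd_of_dvd_pow hsd)]
      exact hrβ)
  have hU : InUniqueMaximal B := by
    apply Cfsg.Agent.S1403.result h.hG _
      (Cfsg.Agent.Helper14.BGTrans.ne_top_of_isPGroup h.hG hBp)
    · apply Cfsg.Agent.Helper14.BGUniq.not_rankLE_of_lt le_rfl hBe
      exact lt_trans (Nat.pow_lt_pow_right hr.one_lt (by norm_num)) hBc
    · left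
      exact Cfsg.Agent.Helper14.BGUniq.not_rankLE_of_lt le_rfl hBe hBc
  obtain ⟨H, -, huniq⟩ := hU
  exact (huniq L ⟨hL, hBβ.trans hle⟩).trans (huniq M ⟨hM, hBM⟩).symm

namespace Half

variable {M L P Q : Subgroup G} {p q : ℕ}

theorem hne (c : Half M L P Q p q) : L ≠ M := by
  intro h
  apply c.hconj 1
  rw [Cfsg.Agent.Helper15.map_conj_one]
  exact h

theorem hQM (c : Half M L P Q p q) : Q ≤ M := c.hQ.le.trans inf_le_left

theorem hQL (c : Half M L P Q p q) : Q ≤ L := c.hQ.le.trans inf_le_right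

theorem solvable_of_le (c : Half M L P Q p q) (h : Hyps G) {H : Subgroup G} (hH : H ≤ M) :
    Group.IsSolvable H :=
  h.hG.2.2.2 H (fun hT => c.hM.1 (top_le_iff.mp (hT ▸ hH)))

theorem Q_ne_bot (c : Half M L P Q p q) : Q ≠ ⊥ := by
  intro hbot
  have h1 := c.hNQ
  rw [hbot] at h1
  apply c.hL.1
  rw [eq_top_iff]
  intro x _
  apply h1
  rw [Subgroup.mem_normalizer_iff]
  intro y
  simp

variable [Fact q.Prime]

/-- `Q` is a Sylow subgroup of `M` -/
theorem sylow_M (c : Half M L P Q p q) : Helper15.IsSylowIn q Q M := by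
  obtain ⟨Q1, hQQ1, hQ1⟩ := Cfsg.Agent.Helper15.exists_isSylowIn_ge c.hQ.isPGroup c.hQM
  have h1 : Q = Q1 := Cfsg.Agent.Helper22.BG13.eq_of_inf_normalizer_le c.hQ hQQ1 hQ1.isPGroup
    hQ1.le (inf_le_right.trans c.hNQ)
  rw [h1]; exact hQ1

theorem q_ne_p (c : Half M L P Q p q) : p ≠ q := by
  intro hpq
  exact c.hpL.2.1 (hpq ▸ c.hqL)

theorem coprime_PQ (c : Half M L P Q p q) : (Nat.card P).Coprime (Nat.card Q) := by
  rw [c.hPc]
  obtain ⟨k, hk⟩ := c.hQ.isPGroup.exists_card_eq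
  rw [hk]
  apply Nat.Coprime.pow_right
  rw [Nat.coprime_primes c.hpM.1 Fact.out]
  exact c.q_ne_p

/-- `Q = [Q, P]` -/
theorem comm_eq (c : Half M L P Q p q) (h : Hyps G) : ⁅Q, P⁆ = Q := by
  have h1 := Cfsg.Agent.S0026.result P Q c.hPQ c.coprime_PQ (Or.inr (c.solvable_of_le h c.hQM))
  rw [c.hfpf, sup_bot_eq] at h1
  exact h1

theorem Q_le_comm (c : Half M L P Q p q) (h : Hyps G) : Q ≤ ⁅M, M⁆ := by
  rw [← c.comm_eq h]
  exact Subgroup.commutator_mono c.hQM c.hPM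

/-- `q ∉ σ(M)`, by the sigma-partition theorem -/
theorem not_mem_sigma (c : Half M L P Q p q) (h : Hyps G) : q ∉ sigma M := by
  intro hq
  obtain ⟨g, hg⟩ := sigma_partition h M L c.hM c.hL ⟨q, hq, c.hqL⟩
  exact c.hconj g hg

/-- `M` has `q`-rank one -/
theorem pRankLE_one (c : Half M L P Q p q) (h : Hyps G) : PRankLE q 1 M := by
  by_contra hr1
  have hq : q.Prime := Fact.out
  have hr2 : PRankLE q 2 M := by
    by_contra hr2
    exact c.not_mem_sigma h
      (Cfsg.Agent.Helper23.BG10.alpha_subset_sigma h.hG (Ctx.uniq h.hG) c.hM ⟨hq, hr2⟩)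
  obtain ⟨A, hAM, hAe, hAc⟩ := exists_elemAb_sq hr2 hr1
  have hAp : IsPGroup q A := Cfsg.Agent.Helper14.BGUniq.isPGroup_of_isElementaryAbelian hAe
  obtain ⟨m, hm, hmA⟩ := exists_conj_le_of_sylowLike c.sylow_M.le c.sylow_M.isPGroup
    c.sylow_M.not_dvd_relIndex hAM hAp
  obtain ⟨h3, h4⟩ := elemAb_map (MulAut.conj m).toMonoidHom (conj_injective m) hAe.1 hAe.2
  have h5 := Cfsg.Agent.Helper18.BG13P.sigmaCore_inf_eq_bot_of_elemAb h.hG (Ctx.uniq h.hG)
    h.h1417 c.hM c.hL c.hne (c.not_mem_sigma h) (hmA.trans c.hQM) (hmA.trans c.hQL) h3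
    (h4.trans hAc)
  exact c.hML h5

theorem mem_tau3 (c : Half M L P Q p q) (h : Hyps G) : q ∈ tau3 M := by
  refine ⟨Fact.out, c.not_mem_sigma h, ?_, c.pRankLE_one h⟩
  exact (Cfsg.Agent.Helper22.BG13.dvd_card_of_isPGroup_ne_bot c.hQ.isPGroup c.Q_ne_bot).trans
    (Subgroup.card_dvd_of_le (c.Q_le_comm h))

/-- a complement of `M_σ` in `M` containing `P` and contained in `L` -/
theorem exists_compl (c : Half M L P Q p q) (h : Hyps G) :
    ∃ E : Subgroup G, IsComplIn E (sigmaCore M) M ∧ P ≤ E ∧ E ≤ L := by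
  have hq : q.Prime := Fact.out
  have hhall := (h.h1350 M c.hM).1
  have hMsolv : Group.IsSolvable M := c.solvable_of_le h le_rfl
  have hcard : Nat.card ↥(Q ⊔ P : Subgroup G) ∣ Nat.card Q * Nat.card P :=
    Cfsg.Agent.Helper7.card_sup_dvd_mul_of_le_normalizer c.hPQ
  have hcop : (Nat.card ↥(Q ⊔ P : Subgroup G)).Coprime (Nat.card (sigmaCore M)) := by
    refine Nat.Coprime.coprime_dvd_left hcard ?_
    apply Nat.Coprime.mul_left
    · obtain ⟨k, hk⟩ := c.hQ.isPGroup.exists_card_eq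
      rw [hk]
      apply Nat.Coprime.pow_left
      rw [Nat.Prime.coprime_iff_not_dvd hq]
      exact not_dvd_card_sigmaCore hq (c.not_mem_sigma h)
    · rw [c.hPc, Nat.Prime.coprime_iff_not_dvd c.hpM.1]
      exact not_dvd_card_sigmaCore c.hpM.1 c.hpM.2.1
  obtain ⟨E, hE, hYE⟩ := Cfsg.Agent.Helper18.BG13P.exists_isComplIn_ge hMsolv (sigmaCore_le M)
    (Cfsg.Agent.Helper22.BG13.coprime_of_isPiHallOf hhall) (sup_le c.hQM c.hPM) hcop
  have hEsolv : Group.IsSolvable E := c.solvable_of_le h hE.1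
  have hQE : Q ≤ E := le_sup_left.trans hYE
  obtain ⟨E3, hQE3, hE3⟩ := exists_isPiHallOf_ge hEsolv (tau3 M) hQE (by
    intro r hr hrd
    obtain ⟨k, hk⟩ := c.hQ.isPGroup.exists_card_eq
    rw [hk] at hrd
    rw [(Nat.prime_dvd_prime_iff_eq hr hq).mp (hr.dvd_of_dvd_pow hrd)]
    exact c.mem_tau3 h)
  obtain ⟨hcyc, -, hnorm⟩ := (Cfsg.Agent.S1415.result h.hG M c.hM E hE).2.2 E3 hE3
  refine ⟨E, hE, le_sup_right.trans hYE, ?_⟩
  exact (hnorm.trans
    (Cfsg.Agent.Helper22.BG13.normalizer_le_normalizer_of_le_cyclic hcyc hQE3)).trans c.hNQ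

/-- `M_β ≠ 1` -/
theorem betaCore_ne_bot (c : Half M L P Q p q) (h : Hyps G) : betaCore M ≠ ⊥ := by
  intro hbot
  have hq : q.Prime := Fact.out
  obtain ⟨H, hH, hHnil⟩ := (h.h1414 M c.hM).2.2.1
  have hβhall := betaCore_hall h c.hM
  have hM'M : (⁅M, M⁆ : Subgroup G) ≤ M := Cfsg.Agent.Helper22.BG13.commutator_self_le M
  have hHeq : H = ⁅M, M⁆ := by
    apply le_antisymm hH.1
    rw [← Subgroup.relIndex_eq_one]
    by_contra hne
    obtain ⟨r, hr, hrd⟩ := Nat.exists_prime_and_dvd hne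
    have hrβ : r ∈ beta M := by
      by_contra hrβ
      exact hH.2.2 r hr ⟨hr, hrβ⟩ hrd
    have h1 : r ∣ Nat.card M :=
      (hrd.trans (Subgroup.relIndex_dvd_card _ _)).trans (Subgroup.card_dvd_of_le hM'M)
    have h2 := hβhall.2.2 r hr hrβ
    rw [hbot, Subgroup.relIndex_bot_left] at h2
    exact h2 h1
  subst hHeq
  have hsyl : Helper15.IsSylowIn q Q ⁅M, M⁆ := c.sylow_M.of_le (c.Q_le_comm h) hM'M
  have hM'N : (⁅M, M⁆ : Subgroup G) ≤ normalizer (Q : Set G) :=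
    Cfsg.Agent.Helper22.BG13.le_normalizer_of_isNilpotent hHnil hsyl
  have hMM' : M ≤ normalizer ((⁅M, M⁆ : Subgroup G) : Set G) :=
    Cfsg.Agent.Helper18.BG13P.le_normalizer_commutator_of_le le_normalizer le_normalizer
  have hMN : M ≤ normalizer (Q : Set G) := by
    intro m hm
    have h1 := hsyl.map_conj_of_mem_normalizer (hMM' hm)
    obtain ⟨x, hx, hxQ⟩ := h1.exists_conj hsyl
    rw [Cfsg.Agent.Helper15.map_conj_map_conj] at hxQ
    have h2 : x * m ∈ normalizer (Q : Set G) :=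
      Cfsg.Agent.Helper15.mem_normalizer_of_map_conj_eq hxQ
    have h3 : m = x⁻¹ * (x * m) := by group
    rw [h3]
    exact (normalizer (Q : Set G)).mul_mem ((normalizer (Q : Set G)).inv_mem (hM'N hx)) h2
  exact c.hne (Cfsg.Agent.Helper22.BG13.eq_of_isCoatom_le c.hM c.hL (hMN.trans c.hNQ)).symm

end Half

end Cfsg.Agent.Helper25.BG1217
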