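import Mathlib
import Cfsg.Agent.Lib.Helper25.BG1217B

/-!
# BG 12.17 (`tau1_mmaxI_asymmetry`), part C: Frobenius--Wielandt, the endgame and the theorem
(helper25)
-/

set_option autoImplicit false
set_option linter.unusedVariables false
set_option linter.style.haveILetI false
set_option linter.unusedSectionVars false

namespace Cfsg.Agent.Helper25.BG1217

open Cfsg Subgroup
open scoped commutatorElement
open Cfsg.Agent.Helper4.BG144
open Cfsg.Agent.Helper4.BGSig

universe u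

variable {G : Type u} [Group G] [Finite G]

namespace Half

variable {M L P Q : Subgroup G} {p q : ℕ} [Fact q.Prime]

theorem Q_le_sigmaCore (c : Half M L P Q p q) (h : Hyps G) : Q ≤ sigmaCore L :=
  Cfsg.Agent.Helper22.BG13.le_sigmaCore_of_isPiNum h.h1350 c.hL c.hQL
    (Cfsg.Agent.Helper22.BG13.isPiNum_of_isPGroup c.hqL c.hQ.isPGroup)

/-- `β(M) ∩ σ(L) = ∅` -/
theorem beta_not_sigma (c : Half M L P Q p q) (h : Hyps G) {r : ℕ} (hr : r ∈ beta M) :
    r ∉ sigma L := by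
  intro hrσ
  obtain ⟨g, hg⟩ := sigma_partition h M L c.hM c.hL ⟨r, beta_subset_sigma h c.hM hr, hrσ⟩
  exact c.hconj g hg

/-- `β(L) ∩ σ(M) = ∅` -/
theorem beta_not_sigma' (c : Half M L P Q p q) (h : Hyps G) {r : ℕ} (hr : r ∈ beta L) :
    r ∉ sigma M := by
  intro hrσ
  obtain ⟨g, hg⟩ := sigma_partition h M L c.hM c.hL ⟨r, hrσ, beta_subset_sigma h c.hL hr⟩
  exact c.hconj g hg

theorem coprime_betaCore_sigmaCore (c : Half M L P Q p q) (h : Hyps G) :
    (Nat.card (betaCore M)).Coprime (Nat.card (sigmaCore L)) := by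
  refine Nat.coprime_of_dvd ?_
  intro k hk hk1 hk2
  exact not_dvd_card_sigmaCore hk (c.beta_not_sigma h (mem_beta_of_dvd_card_betaCore hk hk1)) hk2

/-- `M_β ∩ L` centralises `Q` -/
theorem betaCore_inf_le_centralizer (c : Half M L P Q p q) (h : Hyps G) :
    betaCore M ⊓ L ≤ centralizer (Q : Set G) := by
  rintro x ⟨hxβ, hxL⟩
  rw [Subgroup.mem_centralizer_iff]
  intro s hs
  have hsσ : s ∈ sigmaCore L := c.Q_le_sigmaCore h hs
  have h1 : x * s * x⁻¹ ∈ sigmaCore L :=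
    (Subgroup.mem_normalizer_iff.mp (le_normalizer_sigmaCore L hxL) s).mp hsσ
  have h2 : s * x⁻¹ * s⁻¹ ∈ betaCore M :=
    (Subgroup.mem_normalizer_iff.mp (le_normalizer_betaCore M (c.hQM hs)) x⁻¹).mp
      ((betaCore M).inv_mem hxβ)
  have h3 : x * s * x⁻¹ * s⁻¹ ∈ betaCore M ⊓ sigmaCore L := by
    refine ⟨?_, (sigmaCore L).mul_mem h1 ((sigmaCore L).inv_mem hsσ)⟩
    have : x * s * x⁻¹ * s⁻¹ = x * (s * x⁻¹ * s⁻¹) := by group
    rw [this]
    exact (betaCore M).mul_mem hxβ h2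
  rw [(Subgroup.disjoint_of_coprime_natCard (c.coprime_betaCore_sigmaCore h)).eq_bot,
    Subgroup.mem_bot] at h3
  calc s * x = (x * s * x⁻¹ * s⁻¹)⁻¹ * (x * s) := by group
    _ = x * s := by rw [h3, inv_one, one_mul]

/-- Frobenius--Wielandt: `C_{M_β}(P) ≰ L` -/
theorem centralizer_betaCore_not_le (c : Half M L P Q p q) (h : Hyps G) :
    ¬ betaCore M ⊓ centralizer (P : Set G) ≤ L := by
  intro hle
  have hq : q.Prime := Fact.out
  have hpp : p.Prime := c.hpM.1
  haveI : Fact p.Prime := ⟨hpp⟩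
  have hPc := c.hPc
  have hUn : ∀ e ∈ P, ∀ u ∈ Q, e * u * e⁻¹ ∈ Q := fun e he u hu =>
    (Subgroup.mem_normalizer_iff.mp (c.hPQ he) u).mp hu
  have hfp : ∀ e ∈ P, e ≠ 1 → ∀ u ∈ Q, e * u = u * e → u = 1 := by
    intro e he he1 u hu heu
    have hgen : zpowers (⟨e, he⟩ : P) = ⊤ :=
      zpowers_eq_top_of_prime_card (by rw [hPc]) (by
        intro h1; exact he1 (congrArg Subtype.val h1))
    have huC : u ∈ centralizer (P : Set G) := by
      rw [Subgroup.mem_centralizer_iff]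
      intro y hy
      have hy' : (⟨y, hy⟩ : P) ∈ zpowers (⟨e, he⟩ : P) := by rw [hgen]; trivial
      obtain ⟨k, hk⟩ := hy'
      have hk' : e ^ k = y := by
        have := congrArg Subtype.val hk
        simpa using this
      rw [← hk']
      exact ((Commute.zpow_left (show Commute e u from heu) k)).eq
    have : u ∈ Q ⊓ centralizer (P : Set G) := ⟨hu, huC⟩
    rw [c.hfpf] at this
    exact Subgroup.mem_bot.mp this
  have hnil : Group.IsNilpotent Q := c.hQ.isPGroup.isNilpotent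
  have hsolv : Group.IsSolvable (betaCore M) := c.solvable_of_le h (betaCore_le M)
  have hnorm : Q ⊔ P ≤ normalizer (betaCore M : Set G) :=
    sup_le (c.hQM.trans (le_normalizer_betaCore M)) (c.hPM.trans (le_normalizer_betaCore M))
  have hqβ : ¬ q ∣ Nat.card (betaCore M) := fun hd =>
    c.not_mem_sigma h (beta_subset_sigma h c.hM (mem_beta_of_dvd_card_betaCore hq hd))
  have hpβ : ¬ p ∣ Nat.card (betaCore M) := fun hd =>
    c.hpM.2.1 (beta_subset_sigma h c.hM (mem_beta_of_dvd_card_betaCore hpp hd))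
  have hcop : (Nat.card (betaCore M)).Coprime (Nat.card ↥(Q ⊔ P : Subgroup G)) := by
    have h1 : Nat.card ↥(Q ⊔ P : Subgroup G) ∣ Nat.card Q * Nat.card P :=
      Cfsg.Agent.Helper7.card_sup_dvd_mul_of_le_normalizer c.hPQ
    refine Nat.Coprime.coprime_dvd_right h1 ?_
    apply Nat.Coprime.mul_right
    · obtain ⟨k, hk⟩ := c.hQ.isPGroup.exists_card_eq
      rw [hk]
      apply Nat.Coprime.pow_right
      apply Nat.Coprime.symm
      rw [Nat.Prime.coprime_iff_not_dvd hq]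
      exact hqβ
    · rw [hPc]
      apply Nat.Coprime.symm
      rw [Nat.Prime.coprime_iff_not_dvd hpp]
      exact hpβ
  have hfw := Cfsg.Agent.Helper8.SecRep.fw_group Q P hUn hfp hnil _ (betaCore M) rfl hsolv hnorm hcop
  have heq : betaCore M ⊓ centralizer ((Q ⊔ P : Subgroup G) : Set G) =
      betaCore M ⊓ centralizer (P : Set G) := by
    apply le_antisymm
    · exact inf_le_inf_left _ (Subgroup.centralizer_le (by
        intro x hx; exact (le_sup_right : P ≤ Q ⊔ P) hx))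
    · intro x hx
      refine ⟨hx.1, mem_centralizer_sup ?_ hx.2⟩
      exact c.betaCore_inf_le_centralizer h ⟨hx.1, hle hx⟩
  rw [heq] at hfw
  have hpos : 0 < Nat.card ↥(betaCore M ⊓ centralizer (P : Set G)) ^ Nat.card ↥P :=
    pow_pos Nat.card_pos _
  have hcard : Nat.card (betaCore M) = Nat.card ↥(betaCore M ⊓ centralizer (Q : Set G)) :=
    Nat.eq_of_mul_eq_mul_left hpos hfw
  have hβC : betaCore M ≤ centralizer (Q : Set G) := by
    have := Subgroup.eq_of_le_of_card_ge (inf_le_left : betaCore M ⊓ centralizer (Q : Set G) ≤ betaCore M)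
      hcard.le
    rw [← this]; exact inf_le_right
  exact c.hne (eq_of_betaCore_le h c.hM c.hL (c.betaCore_ne_bot h)
    ((hβC.trans (centralizer_le_normalizer _)).trans c.hNQ))

theorem centralizer_betaCore_ne_bot (c : Half M L P Q p q) (h : Hyps G) :
    betaCore M ⊓ centralizer (P : Set G) ≠ ⊥ := by
  intro hbot
  apply c.centralizer_betaCore_not_le h
  rw [hbot]; exact bot_le

/-- a prime of `β(L)` dividing `|C_M(P)|` leads to a contradiction -/
theorem endgame (c : Half M L P Q p q) (h : Hyps G) {E : Subgroup G}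
    (hE : IsComplIn E (sigmaCore M) M) (hPE : P ≤ E) (hEL : E ≤ L) {t : ℕ} (htβ : t ∈ beta L)
    (htd : t ∣ Nat.card ↥(M ⊓ centralizer (P : Set G))) : False := by
  have hpp : p.Prime := c.hpM.1
  have hPc := c.hPc
  have ht : t.Prime := htβ.1.1
  haveI : Fact t.Prime := ⟨ht⟩
  have htσ : t ∉ sigma M := c.beta_not_sigma' h htβ
  have hcompl := complIn_centralizer hE (le_normalizer_sigmaCore M) hPE hpp hPc
  have hmul := complIn_card_mul hcompl
  rw [← hmul] at htd
  have htA : t ∣ Nat.card ↥(E ⊓ centralizer (P : Set G)) := by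
    rcases (Nat.Prime.dvd_mul ht).mp htd with h1 | h1
    · exact h1
    · exact absurd (h1.trans (Subgroup.card_dvd_of_le inf_le_left))
        (not_dvd_card_sigmaCore ht htσ)
  obtain ⟨y, hy⟩ := exists_prime_orderOf_dvd_card' t htA
  have hRc : Nat.card (zpowers (y : G)) = t := by
    rw [Nat.card_zpowers, Subgroup.orderOf_coe, hy]
  have hRE : zpowers (y : G) ≤ E ⊓ centralizer (P : Set G) := by
    rw [zpowers_le]; exact y.2
  have hRL : zpowers (y : G) ≤ L := (hRE.trans inf_le_left).trans hEL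
  have h1428 := h.h1428 M c.hM E hE p c.hpM P hPE hPc (zpowers (y : G)) hRE (by rw [hRc]; exact ht)
  have hCR := (normalizer_le_of_card_beta h c.hL htβ hRL hRc).2
  apply c.centralizer_betaCore_not_le h
  exact ((inf_le_inf_right _ (betaCore_le_sigmaCore h c.hM)).trans h1428).trans
    (inf_le_right.trans hCR)

end Half

/-- **BG 12.17** (`tau1_mmaxI_asymmetry`), with the two memberships `q ∈ σ(L)`, `t ∈ σ(M)` (which
the book derives) as hypotheses: `M`, `L` nonconjugate maximal subgroups, `P ≤ M ∩ L` of order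
`p ∈ τ₁(M) ∩ τ₁(L)`; `Q` a Sylow `q`-subgroup and `T` a Sylow `t`-subgroup of `M ∩ L`, both
`P`-invariant, with `C_Q(P) = C_T(P) = 1`, `N_G(Q) ≤ L`, `N_G(T) ≤ M`.  Contradiction. -/
theorem asymmetry (h : Hyps G) {M L P Q T : Subgroup G} {p q t : ℕ} [Fact q.Prime]
    [Fact t.Prime] (hM : IsCoatom M) (hL : IsCoatom L)
    (hconj : ∀ g : G, L ≠ M.map (MulAut.conj g).toMonoidHom)
    (hpM : p ∈ tau1 M) (hpL : p ∈ tau1 L) (hPM : P ≤ M) (hPL : P ≤ L) (hPc : Nat.card P = p)
    (hQ : Helper15.IsSylowIn q Q (M ⊓ L)) (hT : Helper15.IsSylowIn t T (M ⊓ L))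
    (hPQ : P ≤ normalizer (Q : Set G)) (hPT : P ≤ normalizer (T : Set G))
    (hQP : Q ⊓ centralizer (P : Set G) = ⊥) (hTP : T ⊓ centralizer (P : Set G) = ⊥)
    (hNQ : normalizer (Q : Set G) ≤ L) (hNT : normalizer (T : Set G) ≤ M)
    (hqL : q ∈ sigma L) (htM : t ∈ sigma M) : False := by
  have hconj' : ∀ g : G, M ≠ L.map (MulAut.conj g).toMonoidHom := by
    intro g hg
    apply hconj g⁻¹
    rw [hg, Cfsg.Agent.Helper15.map_conj_inv_map_conj]
  have hT' : Helper15.IsSylowIn t T (L ⊓ M) := by rw [inf_comm]; exact hT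
  have hne_bot : ∀ {X Y : Subgroup G}, IsCoatom Y → normalizer (X : Set G) ≤ Y → X ≠ ⊥ := by
    intro X Y hY hN hbot
    rw [hbot] at hN
    apply hY.1
    rw [eq_top_iff]
    intro x _
    apply hN
    rw [Subgroup.mem_normalizer_iff]
    intro y
    simp
  have hQ1 : Q ≠ ⊥ := hne_bot hL hNQ
  have hT1 : T ≠ ⊥ := hne_bot hM hNT
  have hTσ : T ≤ sigmaCore M :=
    Cfsg.Agent.Helper22.BG13.le_sigmaCore_of_isPiNum h.h1350 hM (hT.le.trans inf_le_left)
      (Cfsg.Agent.Helper22.BG13.isPiNum_of_isPGroup htM hT.isPGroup)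
  have hQσ : Q ≤ sigmaCore L :=
    Cfsg.Agent.Helper22.BG13.le_sigmaCore_of_isPiNum h.h1350 hL (hQ.le.trans inf_le_right)
      (Cfsg.Agent.Helper22.BG13.isPiNum_of_isPGroup hqL hQ.isPGroup)
  have hML : sigmaCore M ⊓ L ≠ ⊥ := by
    intro hbot
    apply hT1
    rw [eq_bot_iff, ← hbot]
    exact le_inf hTσ (hT.le.trans inf_le_right)
  have hLM : sigmaCore L ⊓ M ≠ ⊥ := by
    intro hbot
    apply hQ1
    rw [eq_bot_iff, ← hbot]
    exact le_inf hQσ (hQ.le.trans inf_le_left)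
  have c1 : Half M L P Q p q :=
    ⟨hM, hL, hconj, hpM, hpL, hPM, hPL, hPc, hQ, hPQ, hQP, hNQ, hqL, hML⟩
  have c2 : Half L M P T p t :=
    ⟨hL, hM, hconj', hpL, hpM, hPL, hPM, hPc, hT', hPT, hTP, hNT, htM, hLM⟩
  obtain ⟨E, hE, hPE, hEL⟩ := c1.exists_compl h
  obtain ⟨F, hF, hPF, hFM⟩ := c2.exists_compl h
  rcases key h hM hL hpM hpL hPM hPL hPc (c1.centralizer_betaCore_ne_bot h)
    (c2.centralizer_betaCore_ne_bot h) with ⟨t', ht'β, ht'd⟩ | ⟨r', hr'β, hr'd⟩
  · exact c1.endgame h hE hPE hEL ht'β ht'd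
  · exact c2.endgame h hF hPF hFM hr'β hr'd

/-- the statement of BG 12.17 as a `Prop` on `G` (helper5's `Asym G` shape, plus the two memberships
`q ∈ σ(L)`, `t ∈ σ(M)`) -/
def AsymS (G : Type u) [Group G] : Prop :=
  ∀ (M L : Subgroup G), IsCoatom M → IsCoatom L →
    (∀ g : G, L ≠ M.map (MulAut.conj g).toMonoidHom) →
    ∀ (p : ℕ) [Fact p.Prime], p ∈ tau1 M → p ∈ tau1 L →
    ∀ P : Subgroup G, P ≤ M ⊓ L → Nat.card P = p →
    ∀ (q t : ℕ) [Fact q.Prime] [Fact t.Prime] (Q T : Subgroup G),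
      Helper15.IsSylowIn q Q (M ⊓ L) → Helper15.IsSylowIn t T (M ⊓ L) →
      P ≤ normalizer (Q : Set G) → P ≤ normalizer (T : Set G) →
      Q ⊓ centralizer (P : Set G) = ⊥ → T ⊓ centralizer (P : Set G) = ⊥ →
      normalizer (Q : Set G) ≤ L → normalizer (T : Set G) ≤ M →
      q ∈ sigma L → t ∈ sigma M → False

theorem asymS (h : Hyps G) : AsymS G := by
  intro M L hM hL hconj p _ hpM hpL P hP hPc q t _ _ Q T hQ hT hPQ hPT hQP hTP hNQ hNT hqL htM
  exact asymmetry h hM hL hconj hpM hpL (hP.trans inf_le_left) (hP.trans inf_le_right) hPc hQ hT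
    hPQ hPT hQP hTP hNQ hNT hqL htM

end Cfsg.Agent.Helper25.BG1217
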