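import Mathlib
import Cfsg.Agent.Lib.Helper25.BG1217C
import Cfsg.Agent.Lib.Helper4.BG144F

/-!
# Glue lemmas on `κ(M)` for BG 14.2 (helper25)

* `mem_tau13_of_mem_kappa` : `κ(M) ⊆ τ₁(M) ∪ τ₃(M)`;
* `centralizer_ne_bot_of_mem_kappa` : for `p ∈ κ(M)` every subgroup `X ≤ M` of order `p` centralises
  a non-identity element of `M_σ`;
* `mem_kappa_of_centralizer_ne_bot` : conversely, for `p ∉ σ(M)` with `M` of `p`-rank one;
* `exists_compl_ge_of_hall_kappa` : a Hall `κ(M)`-subgroup lies in a complement of `M_σ`;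
* `exists_prime_le_of_ne_bot`.
-/

set_option autoImplicit false
set_option linter.unusedVariables false
set_option linter.style.haveILetI false
set_option linter.unusedSectionVars false

namespace Cfsg.Agent.Helper25.BG14K

open Cfsg Subgroup
open scoped commutatorElement
open Cfsg.Agent.Helper4.BG144

universe u

variable {G : Type u} [Group G] [Finite G]

/-- `κ(M) ⊆ τ₁(M) ∪ τ₃(M)` -/
theorem mem_tau13_of_mem_kappa {M : Subgroup G} {p : ℕ} (h : p ∈ kappa M) :
    p ∈ tau1 M ∨ p ∈ tau3 M := by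
  have hr : PRankLE p 1 M := pRankLE_one_of_kappa h
  by_cases hd : p ∣ Nat.card ↥(⁅M, M⁆ : Subgroup G)
  · exact Or.inr ⟨h.1, h.2.2.1, hd, hr⟩
  · exact Or.inl ⟨h.1, h.2.2.1, h.2.1, hd, hr⟩

/-- an element commuting with a generator-power: `y` commutes with every element of `zpowers x` -/
private theorem commute_of_mem_zpowers {x y z : G} (hxy : x * y = y * x) (hz : z ∈ zpowers x) :
    z * y = y * z := by
  obtain ⟨k, rfl⟩ := hz
  exact ((Commute.zpow_left (show Commute x y from hxy) k)).eq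

/-- for `p ∈ κ(M)`, every subgroup of order `p` of `M` centralises a non-identity element of
`M_σ` -/
theorem centralizer_ne_bot_of_mem_kappa {M X : Subgroup G} {p : ℕ} (h : p ∈ kappa M)
    (hXM : X ≤ M) (hXc : Nat.card X = p) : sigmaCore M ⊓ centralizer (X : Set G) ≠ ⊥ := by
  have hp : p.Prime := h.1
  haveI : Fact p.Prime := ⟨hp⟩
  have hXp : IsPGroup p X := IsPGroup.of_card (n := 1) (by rw [hXc, pow_one])
  obtain ⟨T, hXT, hT⟩ := Cfsg.Agent.Helper15.exists_isSylowIn_ge hXp hXM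
  obtain ⟨hcyc, x, hxT, hx1, y, hyσ, hy1, hxy⟩ := h.2.2.2 hT.toSylow
  rw [hT.coe_toSylow] at hcyc
  have hxT' : (x : G) ∈ T := Subgroup.mem_subgroupOf.mp hxT
  have hTcyc : IsCyclic T := by
    haveI := hcyc
    exact isCyclic_of_surjective (Subgroup.subgroupOfEquivOfLe hT.le).toMonoidHom
      (Subgroup.subgroupOfEquivOfLe hT.le).surjective
  -- a subgroup of order `p` of `zpowers x`
  have hx1' : (x : G) ≠ 1 := fun h1 => hx1 (Subtype.ext h1)
  have hZT : zpowers (x : G) ≤ T := by rw [zpowers_le]; exact hxT'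
  have hZp : IsPGroup p (zpowers (x : G)) := hT.isPGroup.to_le hZT
  have hZ1 : zpowers (x : G) ≠ ⊥ := by
    intro hbot
    apply hx1'
    have : (x : G) ∈ zpowers (x : G) := Subgroup.mem_zpowers _
    rw [hbot, Subgroup.mem_bot] at this
    exact this
  have hd : p ∣ Nat.card (zpowers (x : G)) :=
    Cfsg.Agent.Helper22.BG13.dvd_card_of_isPGroup_ne_bot hZp hZ1
  obtain ⟨z, hz⟩ := exists_prime_orderOf_dvd_card' p hd
  have hzc : Nat.card (zpowers (z : G)) = p := by
    rw [Nat.card_zpowers, Subgroup.orderOf_coe, hz]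
  have hzZ : zpowers (z : G) ≤ zpowers (x : G) := by rw [zpowers_le]; exact z.2
  have heq : zpowers (z : G) = X :=
    Cfsg.Agent.Helper23.subgroup_eq_of_card_eq_of_le_cyclic T hTcyc (hzZ.trans hZT) hXT
      (hzc.trans hXc.symm)
  intro hbot
  apply hy1
  have hyC : y ∈ centralizer (X : Set G) := by
    rw [Subgroup.mem_centralizer_iff]
    intro w hw
    rw [← heq] at hw
    exact commute_of_mem_zpowers hxy (hzZ hw)
  have : y ∈ sigmaCore M ⊓ centralizer (X : Set G) := ⟨hyσ, hyC⟩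
  rw [hbot, Subgroup.mem_bot] at this
  exact this

/-- for `p ∉ σ(M)` with `M` of `p`-rank one, a subgroup of order `p` of `M` centralising a
non-identity element of `M_σ` puts `p` in `κ(M)` -/
theorem mem_kappa_of_centralizer_ne_bot (hG : IsMinSimpleOddOrder G) {M X : Subgroup G} {p : ℕ}
    (hp : p.Prime) (hpσ : p ∉ sigma M) (hr : PRankLE p 1 M) (hXM : X ≤ M)
    (hXc : Nat.card X = p) (hY : sigmaCore M ⊓ centralizer (X : Set G) ≠ ⊥) : p ∈ kappa M := by
  haveI : Fact p.Prime := ⟨hp⟩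
  have hpM : p ∣ Nat.card M := by rw [← hXc]; exact Subgroup.card_dvd_of_le hXM
  have hodd : Odd p := Odd.of_dvd_nat hG.1 (hpM.trans (Subgroup.card_subgroup_dvd_card M))
  have hXp : IsPGroup p X := IsPGroup.of_card (n := 1) (by rw [hXc, pow_one])
  refine ⟨hp, hpM, hpσ, ?_⟩
  intro P
  refine ⟨?_, ?_⟩
  · exact Cfsg.Agent.Helper7.BG12.isCyclic_of_pRankLE_one hodd P.isPGroup'
      (Cfsg.Agent.Helper7.BG12.pRankLE_of_injective (P : Subgroup M).subtype
        (Subgroup.subtype_injective _) hr)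
  · have hPs := Cfsg.Agent.Helper15.isSylowIn_map_subtype P
    obtain ⟨n, hn, hnX⟩ := exists_conj_le_of_sylowLike hPs.le hPs.isPGroup hPs.not_dvd_relIndex
      hXM hXp
    -- a non-identity element of `X`
    have hd : p ∣ Nat.card X := by rw [hXc]
    obtain ⟨x0, hx0⟩ := exists_prime_orderOf_dvd_card' p hd
    have hx01 : (x0 : G) ≠ 1 := by
      intro h1
      have : orderOf (x0 : G) = p := by rw [Subgroup.orderOf_coe, hx0]
      rw [h1, orderOf_one] at this
      exact hp.one_lt.ne this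
    -- a non-identity element of `C_{M_σ}(X)`
    obtain ⟨y, hy1⟩ := (Subgroup.ne_bot_iff_exists_ne_one).mp hY
    have hy1' : (y : G) ≠ 1 := fun h1 => hy1 (Subtype.ext h1)
    have hyσ : (y : G) ∈ sigmaCore M := y.2.1
    have hyC : (y : G) ∈ centralizer (X : Set G) := y.2.2
    have hxP : n * (x0 : G) * n⁻¹ ∈ (P : Subgroup M).map M.subtype := by
      apply hnX
      exact ⟨(x0 : G), x0.2, by simp [MulAut.conj_apply]⟩
    obtain ⟨x, hxP', hxeq⟩ := hxP
    refine ⟨x, hxP', ?_, n * (y : G) * n⁻¹, ?_, ?_, ?_⟩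
    · intro h1
      apply hx01
      have h2 : n * (x0 : G) * n⁻¹ = 1 := by rw [← hxeq, h1]; rfl
      have h3 : (x0 : G) = n⁻¹ * (n * (x0 : G) * n⁻¹) * n := by group
      rw [h3, h2]; group
    · exact (Subgroup.mem_normalizer_iff.mp (le_normalizer_sigmaCore M hn) (y : G)).mp hyσ
    · intro h1
      apply hy1'
      have h3 : (y : G) = n⁻¹ * (n * (y : G) * n⁻¹) * n := by group
      rw [h3, h1]; group
    · have hxe : (x : G) = n * (x0 : G) * n⁻¹ := hxeq
      rw [hxe]
      have hc : (y : G) * (x0 : G) = (x0 : G) * (y : G) :=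
        (Subgroup.mem_centralizer_iff.mp hyC (x0 : G) x0.2).symm
      calc n * (x0 : G) * n⁻¹ * (n * (y : G) * n⁻¹) = n * ((x0 : G) * (y : G)) * n⁻¹ := by group
        _ = n * ((y : G) * (x0 : G)) * n⁻¹ := by rw [hc]
        _ = n * (y : G) * n⁻¹ * (n * (x0 : G) * n⁻¹) := by group

/-- a Hall `κ(M)`-subgroup of `M` lies in a complement of `M_σ` -/
theorem exists_compl_ge_of_hall_kappa (hG : IsMinSimpleOddOrder G) (h1350 : H1350 G)
    {M K : Subgroup G} (hM : IsCoatom M) (hK : IsPiHallOf (kappa M) K M) :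
    ∃ E : Subgroup G, IsComplIn E (sigmaCore M) M ∧ K ≤ E := by
  have hhall := (h1350 M hM).1
  have hMsolv : Group.IsSolvable M := hG.2.2.2 M hM.1
  have hcop : (Nat.card K).Coprime (Nat.card (sigmaCore M)) := by
    refine Nat.coprime_of_dvd ?_
    intro k hk hk1 hk2
    exact not_dvd_card_sigmaCore hk (hK.2.1 k hk hk1).2.2.1 hk2
  exact Cfsg.Agent.Helper18.BG13P.exists_isComplIn_ge hMsolv (sigmaCore_le M)
    (Cfsg.Agent.Helper22.BG13.coprime_of_isPiHallOf hhall) hK.1 hcop

/-- a nontrivial subgroup has a subgroup of prime order -/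
theorem exists_prime_le_of_ne_bot {K : Subgroup G} (hK1 : K ≠ ⊥) :
    ∃ X : Subgroup G, X ≤ K ∧ (Nat.card X).Prime := by
  obtain ⟨p, hp, hd⟩ := Nat.exists_prime_and_dvd (fun h1 => hK1 (Subgroup.card_eq_one.mp h1))
  haveI : Fact p.Prime := ⟨hp⟩
  obtain ⟨x, hx⟩ := exists_prime_orderOf_dvd_card' p hd
  refine ⟨zpowers (x : G), by rw [zpowers_le]; exact x.2, ?_⟩
  rw [Nat.card_zpowers, Subgroup.orderOf_coe, hx]
  exact hp

end Cfsg.Agent.Helper25.BG14K
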