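import Mathlib
import Cfsg.Agent.Lib.Helper14.BhsDefs

/-! # S2999 piece BHS-FRAT: `core_P(M) ∩ T` is normal in `P` (Frattini argument + `p`-minimality). -/

set_option autoImplicit false

namespace Cfsg.Agent.Helper14.Bhs

open Pointwise

universe u v

section grp

variable {P : Type u} [Group P] [Finite P] {W : Type v} [AddCommGroup W] [Finite W]
  [DistribMulAction P W] {p : ℕ} [Fact p.Prime] {T : Sylow p P} {M A : Subgroup P}

omit [Finite P] in
/-- conjugating a normal subgroup gives it back (membership form). -/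
theorem bhs_frat_conj_mem {N : Subgroup P} (hN : N.Normal) (g x : P) :
    g * x * g⁻¹ ∈ N ↔ x ∈ N := by
  constructor
  · intro h
    have := hN.conj_mem _ h g⁻¹
    simpa [mul_assoc] using this
  · intro h
    exact hN.conj_mem _ h g

omit [Fact p.Prime] in
/-- For any Sylow `Q` whose unique coatom `M'` contains the normal subgroup `N`:
`Q ⊓ N` is normal in `P` as soon as Frattini holds for it. -/
theorem bhs_frat_normal (hmin : Cfsg.IsPMinimal p P) {Q : Sylow p P} {M' N : Subgroup P}
    (hM' : IsCoatom M') (hQM : (Q : Subgroup P) ≤ M') (hN : N.Normal) (hNM : N ≤ M')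
    (hfr : Subgroup.normalizer (((Q : Subgroup P) ⊓ N : Subgroup P) : Set P) ⊔ N = ⊤) :
    ((Q : Subgroup P) ⊓ N).Normal := by
  rw [← Subgroup.normalizer_eq_top_iff]
  by_contra hne
  obtain ⟨M'', hM''c, hM''⟩ := (eq_top_or_exists_le_coatom
    (Subgroup.normalizer (((Q : Subgroup P) ⊓ N : Subgroup P) : Set P))).resolve_left hne
  have hQn : (Q : Subgroup P) ≤ Subgroup.normalizer (((Q : Subgroup P) ⊓ N : Subgroup P) : Set P) := by
    refine le_trans (le_inf Subgroup.le_normalizer ?_) Subgroup.inf_normalizer_le_normalizer_inf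
    have := hN
    exact Subgroup.le_normalizer_of_normal
  obtain ⟨-, M₀, -, huniq⟩ := hmin Q
  have h1 : M'' = M₀ := huniq M'' ⟨hM''c, hQn.trans hM''⟩
  have h2 : M' = M₀ := huniq M' ⟨hM', hQM⟩
  have h3 : M'' = M' := h1.trans h2.symm
  have : (⊤ : Subgroup P) ≤ M' := by
    rw [← hfr]
    exact sup_le (h3 ▸ hM'') hNM
  exact hM'.1 (top_le_iff.mp this)

theorem frat (hmin : Cfsg.IsPMinimal p P) (hM : IsCoatom M) (hTM : (T : Subgroup P) ≤ M) :
    Frat T M := by
  classical
  have hNn : M.normalCore.Normal := Subgroup.normalCore_normal M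
  have hNM : M.normalCore ≤ M := Subgroup.normalCore_le M
  have := hNn
  -- a Sylow of `N`, extended to a Sylow `Q` of `P`
  obtain ⟨Q, hQ⟩ := Sylow.exists_comap_subtype_eq (default : Sylow p M.normalCore)
  have hfr := Sylow.normalizer_sup_eq_top (default : Sylow p M.normalCore)
  have hmap : ((default : Sylow p M.normalCore) : Subgroup M.normalCore).map M.normalCore.subtype
      = (Q : Subgroup P) ⊓ M.normalCore := by
    have : ((default : Sylow p M.normalCore) : Subgroup M.normalCore)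
        = (Q : Subgroup P).subgroupOf M.normalCore := by
      rw [← hQ]; rfl
    rw [this, Subgroup.subgroupOf_map_subtype]
  rw [hmap] at hfr
  -- `Q = g T g⁻¹`
  obtain ⟨g, hg⟩ := MulAction.exists_smul_eq P T Q
  have hQT : ∀ y : P, y ∈ (Q : Subgroup P) ↔ g⁻¹ * y * g ∈ (T : Subgroup P) := by
    intro y
    rw [← hg, Sylow.coe_subgroup_smul, Subgroup.mem_pointwise_smul_iff_inv_smul_mem]
    simp [MulAut.smul_def]
  -- the coatom `M' = g M g⁻¹`
  have hM'c : IsCoatom (M.map (MulAut.conj g).toMonoidHom) :=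
    ((MulAut.conj g).mapSubgroup.isCoatom_iff M).mpr hM
  have hmemM' : ∀ y : P, y ∈ M.map (MulAut.conj g).toMonoidHom ↔ g⁻¹ * y * g ∈ M := by
    intro y
    rw [Subgroup.mem_map_equiv]
    simp [MulAut.conj_symm_apply]
  have hQM' : (Q : Subgroup P) ≤ M.map (MulAut.conj g).toMonoidHom := by
    intro y hy
    rw [hmemM']
    exact hTM ((hQT y).mp hy)
  have hNM' : M.normalCore ≤ M.map (MulAut.conj g).toMonoidHom := by
    intro y hy
    rw [hmemM']
    apply hNM
    have := (bhs_frat_conj_mem hNn g⁻¹ y).mpr hy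
    simpa using this
  have hnorm : ((Q : Subgroup P) ⊓ M.normalCore).Normal :=
    bhs_frat_normal hmin hM'c hQM' hNn hNM' hfr
  -- conclusion
  intro g' x hx
  rw [Subgroup.mem_map_equiv]
  have hxN : x ∈ M.normalCore := (Subgroup.mem_inf.mp hx).1
  have hxT : x ∈ (T : Subgroup P) := (Subgroup.mem_inf.mp hx).2
  -- g x g⁻¹ ∈ Q ⊓ N
  have h1 : g * x * g⁻¹ ∈ (Q : Subgroup P) ⊓ M.normalCore := by
    refine Subgroup.mem_inf.mpr ⟨?_, (bhs_frat_conj_mem hNn g x).mpr hxN⟩
    rw [hQT]
    simpa [mul_assoc] using hxT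
  have h2 := hnorm.conj_mem _ h1 (g * g'⁻¹ * g⁻¹)
  have h3 := (hQT _).mp (Subgroup.mem_inf.mp h2).1
  simp only [MulAut.conj_symm_apply]
  convert h3 using 1
  group
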