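import Mathlib
import Cfsg.Agent.Lib.Helper7.HupDefs
import Cfsg.Agent.Lib.Helper16.HupACTABS

/-!
# Huppert's theorem (S3360), piece ACTGLUE (helper25)

An element `x` of prime order `s` centralizing `A`, not in `A`, acts on `B ⧸ A` preserving the
commutator pairing; the abstract lemma `act_abs` then gives the arithmetic conclusion.
-/

set_option autoImplicit false
set_option linter.style.haveILetI false
set_option linter.unusedSectionVars false

namespace Cfsg.Agent.Helper7.Hup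

section group

variable {G : Type*} [Group G]

theorem cm_mul_left' (u v w : G) :
    u * v * w * (u * v)⁻¹ * w⁻¹ = u * (v * w * v⁻¹ * w⁻¹) * u⁻¹ * (u * w * u⁻¹ * w⁻¹) := by
  group

theorem cm_mul_right' (u v w : G) :
    u * (v * w) * u⁻¹ * (v * w)⁻¹ = (u * v * u⁻¹ * v⁻¹) * (v * (u * w * u⁻¹ * w⁻¹) * v⁻¹) := by
  group

variable {A B : Subgroup G}

/-- `A` is central in `B`. -/
theorem Cfg.central (h : Cfg A B) {a b : G} (ha : a ∈ A) (hb : b ∈ B) : a * b = b * a :=
  Subgroup.mem_centralizer_iff.mp (h.cent hb) a ha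

/-- the commutator map `B → B → A` -/
def Cfg.gam (h : Cfg A B) (b c : B) : A :=
  ⟨(b : G) * c * (b : G)⁻¹ * (c : G)⁻¹, h.comm b b.2 c c.2⟩

theorem Cfg.gam_coe (h : Cfg A B) (b c : B) :
    ((h.gam b c : A) : G) = (b : G) * c * (b : G)⁻¹ * (c : G)⁻¹ := rfl

theorem Cfg.A_comm (h : Cfg A B) (a a' : A) : a * a' = a' * a :=
  Subtype.ext (h.central a.2 (h.le a'.2))

theorem Cfg.gam_mul_left (h : Cfg A B) (b b' c : B) :
    h.gam (b * b') c = h.gam b c * h.gam b' c := by
  apply Subtype.ext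
  rw [Subgroup.coe_mul, h.gam_coe, h.gam_coe, h.gam_coe, Subgroup.coe_mul, cm_mul_left']
  have h1 : (b : G) * ((b' : G) * c * (b' : G)⁻¹ * (c : G)⁻¹) * (b : G)⁻¹ =
      (b' : G) * c * (b' : G)⁻¹ * (c : G)⁻¹ := by
    rw [← h.central (h.comm b' b'.2 c c.2) b.2, mul_inv_cancel_right]
  rw [h1]
  exact h.central (h.comm b' b'.2 c c.2) (h.le (h.comm b b.2 c c.2))

theorem Cfg.gam_mul_right (h : Cfg A B) (b c c' : B) :
    h.gam b (c * c') = h.gam b c * h.gam b c' := by
  apply Subtype.ext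
  rw [Subgroup.coe_mul, h.gam_coe, h.gam_coe, h.gam_coe, Subgroup.coe_mul, cm_mul_right']
  have h1 : (c : G) * ((b : G) * c' * (b : G)⁻¹ * (c' : G)⁻¹) * (c : G)⁻¹ =
      (b : G) * c' * (b : G)⁻¹ * (c' : G)⁻¹ := by
    rw [← h.central (h.comm b b.2 c' c'.2) c.2, mul_inv_cancel_right]
  rw [h1]

theorem Cfg.gam_left_of_mem (h : Cfg A B) {b : B} (hb : (b : G) ∈ A) (c : B) : h.gam b c = 1 := by
  apply Subtype.ext
  rw [h.gam_coe, h.central hb c.2, mul_inv_cancel_right, mul_inv_cancel]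
  rfl

theorem Cfg.gam_right_of_mem (h : Cfg A B) (b : B) {c : B} (hc : (c : G) ∈ A) : h.gam b c = 1 := by
  apply Subtype.ext
  rw [h.gam_coe, ← h.central hc b.2, mul_inv_cancel_right, mul_inv_cancel]
  rfl

theorem Cfg.gam_self (h : Cfg A B) (b : B) : h.gam b b = 1 := by
  apply Subtype.ext
  rw [h.gam_coe, mul_inv_cancel_right, mul_inv_cancel]
  rfl

section quot

variable [hAn : A.Normal] [hBn : B.Normal]

/-- the commutator pairing on `B ⧸ A` -/
def Cfg.bet (h : Cfg A B) (e f : B ⧸ A.subgroupOf B) : A :=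
  Quotient.liftOn₂' e f (fun b c => h.gam b c) (by
    intro a₁ a₂ b₁ b₂ h1 h2
    rw [QuotientGroup.leftRel_apply, Subgroup.mem_subgroupOf] at h1 h2
    have e0 : h.gam b₁ b₂ = h.gam (a₁ * (a₁⁻¹ * b₁)) (a₂ * (a₂⁻¹ * b₂)) := by
      rw [mul_inv_cancel_left, mul_inv_cancel_left]
    have key : ∀ n₁ n₂ : B, (n₁ : G) ∈ A → (n₂ : G) ∈ A →
        h.gam (a₁ * n₁) (a₂ * n₂) = h.gam a₁ a₂ := by
      intro n₁ n₂ hn₁ hn₂
      rw [h.gam_mul_left, h.gam_mul_right, h.gam_right_of_mem _ hn₂, h.gam_left_of_mem hn₁,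
        mul_one, mul_one]
    change h.gam a₁ a₂ = h.gam b₁ b₂
    rw [e0, key _ _ h1 h2])

theorem Cfg.bet_mk (h : Cfg A B) (b c : B) :
    h.bet (QuotientGroup.mk b) (QuotientGroup.mk c) = h.gam b c := rfl

theorem Cfg.bet_mul_left (h : Cfg A B) (e f g : B ⧸ A.subgroupOf B) :
    h.bet (e * f) g = h.bet e g * h.bet f g := by
  induction e using QuotientGroup.induction_on with | H b => ?_
  induction f using QuotientGroup.induction_on with | H c => ?_
  induction g using QuotientGroup.induction_on with | H d => ?_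
  rw [← QuotientGroup.mk_mul, h.bet_mk, h.bet_mk, h.bet_mk, h.gam_mul_left]

theorem Cfg.bet_mul_right (h : Cfg A B) (e f g : B ⧸ A.subgroupOf B) :
    h.bet e (f * g) = h.bet e f * h.bet e g := by
  induction e using QuotientGroup.induction_on with | H b => ?_
  induction f using QuotientGroup.induction_on with | H c => ?_
  induction g using QuotientGroup.induction_on with | H d => ?_
  rw [← QuotientGroup.mk_mul, h.bet_mk, h.bet_mk, h.bet_mk, h.gam_mul_right]

theorem Cfg.bet_self (h : Cfg A B) (e : B ⧸ A.subgroupOf B) : h.bet e e = 1 := by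
  induction e using QuotientGroup.induction_on with | H b => ?_
  rw [h.bet_mk, h.gam_self]

theorem Cfg.bet_nondeg (h : Cfg A B) (e : B ⧸ A.subgroupOf B)
    (he : ∀ f, h.bet e f = 1) : e = 1 := by
  induction e using QuotientGroup.induction_on with | H b => ?_
  rw [QuotientGroup.eq_one_iff, Subgroup.mem_subgroupOf]
  apply h.center b b.2
  intro c hc
  have h1 := he (QuotientGroup.mk ⟨c, hc⟩)
  rw [h.bet_mk] at h1
  have h2 := congrArg (fun a : A => (a : G)) h1
  simp only [h.gam_coe, OneMemClass.coe_one] at h2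
  -- b c b⁻¹ c⁻¹ = 1
  have h3 := congrArg (fun t => t * c * (b : G)) h2
  simpa [mul_assoc] using h3

/-- the quotient is commutative -/
theorem Cfg.quot_comm (h : Cfg A B) (e f : B ⧸ A.subgroupOf B) : e * f = f * e := by
  induction e using QuotientGroup.induction_on with | H b => ?_
  induction f using QuotientGroup.induction_on with | H c => ?_
  rw [← QuotientGroup.mk_mul, ← QuotientGroup.mk_mul, QuotientGroup.eq, Subgroup.mem_subgroupOf]
  have h1 := h.comm _ (B.inv_mem c.2) _ (B.inv_mem b.2)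
  have e1 : (((b * c)⁻¹ * (c * b) : B) : G) = (c : G)⁻¹ * (b : G)⁻¹ * (c : G)⁻¹⁻¹ * (b : G)⁻¹⁻¹ := by
    push_cast
    group
  rw [e1]
  exact h1

/-- the commutative group structure on the quotient -/
@[reducible] def Cfg.commGroupQ (h : Cfg A B) : CommGroup (B ⧸ A.subgroupOf B) :=
  { (inferInstance : Group (B ⧸ A.subgroupOf B)) with mul_comm := h.quot_comm }

/-- conjugation by `x` on the quotient -/
noncomputable def phiQ (A B : Subgroup G) [hA : A.Normal] [B.Normal] (x : G) :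
    (B ⧸ A.subgroupOf B) ≃* (B ⧸ A.subgroupOf B) :=
  QuotientGroup.congr (A.subgroupOf B) (A.subgroupOf B) (MulAut.conjNormal x) (by
    ext b
    rw [Subgroup.mem_map]
    constructor
    · rintro ⟨y, hy, rfl⟩
      rw [Subgroup.mem_subgroupOf] at hy ⊢
      exact hA.conj_mem _ hy x
    · intro hb
      rw [Subgroup.mem_subgroupOf] at hb
      refine ⟨(MulAut.conjNormal x).symm b, ?_, ?_⟩
      · rw [Subgroup.mem_subgroupOf, MulAut.conjNormal_symm_apply]
        have := hA.conj_mem _ hb x⁻¹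
        rwa [inv_inv] at this
      · exact MulEquiv.apply_symm_apply _ _)

theorem phiQ_mk (x : G) (b : B) :
    phiQ A B x (QuotientGroup.mk b) = QuotientGroup.mk (MulAut.conjNormal x b) := rfl

theorem phiQ_pow (x : G) (n : ℕ) (b : B) :
    ((phiQ A B x) ^ n) (QuotientGroup.mk b) = QuotientGroup.mk (MulAut.conjNormal (x ^ n) b) := by
  induction n generalizing b with
  | zero =>
    rw [pow_zero, pow_zero, map_one]
    rfl
  | succ n ih =>
    rw [pow_succ, MulAut.mul_apply, phiQ_mk, ih, pow_succ, map_mul, MulAut.mul_apply]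

end quot

/-- PIECE ACTGLUE -/
theorem Cfg.prime_action [Finite G] {A B : Subgroup G} (h : Cfg A B) (hAcyc : IsCyclic A)
    {s : ℕ} (hs : s.Prime) (x : G) (hx : orderOf x = s)
    (hxC : x ∈ Subgroup.centralizer (A : Set G)) (hxA : x ∉ A) (hsB : ¬ s ∣ Nat.card B) :
    ∃ r k : ℕ, r.Prime ∧ 0 < k ∧ r ^ (2 * k) ∣ A.relIndex B ∧ s ∣ r ^ (2 * k) - 1 ∧
      (r ^ (2 * k) = A.relIndex B → ∀ b ∈ B, x * b * x⁻¹ * b⁻¹ ∈ A → b ∈ A) := by
  haveI hAn := h.nA
  haveI hBn := h.nB
  letI : CommGroup (B ⧸ A.subgroupOf B) := h.commGroupQ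
  have hxa : ∀ a ∈ A, x * a * x⁻¹ = a := by
    intro a ha
    rw [← Subgroup.mem_centralizer_iff.mp hxC a ha, mul_inv_cancel_right]
  have hxs : x ^ s = 1 := hx ▸ pow_orderOf_eq_one x
  -- fixed cosets
  have hfixiff : ∀ b : B, phiQ A B x (QuotientGroup.mk b) = QuotientGroup.mk b ↔
      x * (b : G) * x⁻¹ * (b : G)⁻¹ ∈ A := by
    intro b
    rw [phiQ_mk, eq_comm, QuotientGroup.eq, Subgroup.mem_subgroupOf]
    have e1 : ((b⁻¹ * (MulAut.conjNormal x b) : B) : G) =
        (b : G)⁻¹ * (x * (b : G) * x⁻¹ * (b : G)⁻¹) * (b : G)⁻¹⁻¹ := by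
      rw [Subgroup.coe_mul, MulAut.conjNormal_apply, Subgroup.coe_inv]
      group
    rw [e1]
    constructor
    · intro h1
      have := hAn.conj_mem _ h1 (b : G)
      simpa [mul_assoc] using this
    · intro h1
      exact hAn.conj_mem _ h1 _
  have hsq : ∀ e : B ⧸ A.subgroupOf B, ∃ n : ℕ, Squarefree n ∧ e ^ n = 1 := by
    intro e
    induction e using QuotientGroup.induction_on with | H b => ?_
    obtain ⟨n, hn, hbn⟩ := h.sqfree b b.2
    refine ⟨n, hn, ?_⟩
    rw [← QuotientGroup.mk_pow, QuotientGroup.eq_one_iff, Subgroup.mem_subgroupOf]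
    simpa using hbn
  have hsE : ¬ s ∣ Nat.card (B ⧸ A.subgroupOf B) := by
    intro hdvd
    apply hsB
    exact hdvd.trans (Subgroup.index_dvd_card (A.subgroupOf B))
  have hφs : ∀ e : B ⧸ A.subgroupOf B, ((phiQ A B x) ^ s) e = e := by
    intro e
    induction e using QuotientGroup.induction_on with | H b => ?_
    rw [phiQ_pow, hxs, map_one]
    rfl
  have hφβ : ∀ e f : B ⧸ A.subgroupOf B, h.bet (phiQ A B x e) (phiQ A B x f) = h.bet e f := by
    intro e f
    induction e using QuotientGroup.induction_on with | H b => ?_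
    induction f using QuotientGroup.induction_on with | H c => ?_
    rw [phiQ_mk, phiQ_mk, h.bet_mk, h.bet_mk]
    apply Subtype.ext
    rw [h.gam_coe, h.gam_coe, MulAut.conjNormal_apply, MulAut.conjNormal_apply]
    have e1 : x * (b : G) * x⁻¹ * (x * (c : G) * x⁻¹) * (x * (b : G) * x⁻¹)⁻¹ *
        (x * (c : G) * x⁻¹)⁻¹ = x * ((b : G) * c * (b : G)⁻¹ * (c : G)⁻¹) * x⁻¹ := by group
    rw [e1, hxa _ (h.comm b b.2 c c.2)]
  have hφ1 : ∃ e : B ⧸ A.subgroupOf B, phiQ A B x e ≠ e := by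
    by_contra hcon
    push Not at hcon
    apply hxA
    apply h.self x hxC
    intro b hb
    have hab0 : x * b * x⁻¹ * b⁻¹ ∈ A := (hfixiff ⟨b, hb⟩).mp (hcon _)
    obtain ⟨a, ha⟩ : ∃ a, a = x * b * x⁻¹ * b⁻¹ := ⟨_, rfl⟩
    have hab : a ∈ A := ha ▸ hab0
    have hxb : x * b * x⁻¹ = a * b := by rw [ha]; group
    have hpow : ∀ n : ℕ, x ^ n * b * (x ^ n)⁻¹ = a ^ n * b := by
      intro n
      induction n with
      | zero => simp
      | succ n ih =>
        have e2 : x ^ (n + 1) * b * (x ^ (n + 1))⁻¹ = x * (x ^ n * b * (x ^ n)⁻¹) * x⁻¹ := by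
          rw [pow_succ']; group
        rw [e2, ih]
        have e3 : x * (a ^ n * b) * x⁻¹ = (x * a ^ n * x⁻¹) * (x * b * x⁻¹) := by group
        rw [e3, hxa _ (A.pow_mem hab n), hxb, pow_succ, mul_assoc]
    have h1 := hpow s
    rw [hxs, one_mul, inv_one, mul_one] at h1
    have has : a ^ s = 1 := by
      have := congrArg (fun t => t * b⁻¹) h1
      simp only [mul_inv_cancel, mul_inv_cancel_right] at this
      exact this.symm
    have ha1 : a = 1 := by
      have hdvd : orderOf a ∣ s := orderOf_dvd_of_pow_eq_one has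
      rcases (Nat.dvd_prime hs).mp hdvd with h2 | h2
      · exact orderOf_eq_one_iff.mp h2
      · exfalso
        apply hsB
        have h3 : orderOf (⟨a, hab⟩ : A) ∣ Nat.card A := orderOf_dvd_natCard _
        rw [← Subgroup.orderOf_coe] at h3
        simp only at h3
        rw [h2] at h3
        exact h3.trans (Subgroup.card_dvd_of_le h.le)
    rw [ha1, one_mul] at hxb
    have := congrArg (fun t => t * x) hxb
    simpa [mul_assoc] using this
  obtain ⟨r, k, hr, hk, hdvd, hsdvd, hfix⟩ :=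
    act_abs (E := B ⧸ A.subgroupOf B) (Z := A) h.bet h.bet_mul_left h.bet_mul_right h.bet_self
      h.bet_nondeg hsq s hs hsE (phiQ A B x) hφs hφ1 hφβ
  refine ⟨r, k, hr, hk, hdvd, hsdvd, ?_⟩
  intro heq b hb hxb
  have h1 := hfix heq (QuotientGroup.mk ⟨b, hb⟩) ((hfixiff ⟨b, hb⟩).mpr hxb)
  rw [QuotientGroup.eq_one_iff, Subgroup.mem_subgroupOf] at h1
  exact h1

end group

end Cfsg.Agent.Helper7.Hup
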