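import Mathlib
import Cfsg.Agent.Lib.Helper13.BR996CC
import Cfsg.Agent.Lib.Helper24.CharComplete
import Cfsg.Agent.Lib.Helper24.CharInduced
import Cfsg.Agent.Lib.Helper14.TC27Defs

/-!
# S3701 piece CCGEN (helper14's skeleton; proof by helper25)

The class multiplication constants against an induced class function:
Frobenius reciprocity + `Cfsg.Agent.Helper10.BR996.class_const`, exchanging the sums.
-/

set_option autoImplicit false
set_option linter.unusedSectionVars false
set_option linter.unusedVariables false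

namespace Cfsg.Agent.Helper14.TC27

open Cfsg Cfsg.Agent.Helper24
open scoped ComplexConjugate

universe u v

section Chr

variable {G : Type u} [Group G] [Fintype G] {T : Sylow 3 G}

/-- PIECE CCGEN (generic): the class constants against an induced class function
(`frobenius_reciprocity`, `Cfsg.Agent.Helper10.BR996.class_const`, exchange the sums) -/
theorem sum_inner_indFun [Fintype (IrrCharacter G)] (H : Subgroup G) [Fintype ↥H] (δ : ↥H → ℂ) (x y : G) :
    ∑ X : IrrCharacter G, classInner (indFun H δ) (X : G → ℂ) *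
        ((X : G → ℂ) x * (X : G → ℂ) y / (X : G → ℂ) 1) =
      ((Nat.card ↥H : ℂ) * (Nat.card G : ℂ))⁻¹ * ∑ z : ↥H, δ z *
        (Nat.card {p : G × G // (p.1 * x * p.1⁻¹) * (p.2 * y * p.2⁻¹) = (z : G)} : ℂ) := by
  classical
  have hG : (Nat.card G : ℂ) ≠ 0 := by
    have : Nat.card G ≠ 0 := Nat.card_pos.ne'
    exact_mod_cast this
  -- Frobenius reciprocity for each irreducible character
  have h1 : ∀ X : IrrCharacter G, classInner (indFun H δ) (X : G → ℂ) =
      (Nat.card ↥H : ℂ)⁻¹ * ∑ z : ↥H, δ z * conj ((X : G → ℂ) z) := by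
    intro X
    rw [frobenius_reciprocity H δ (isClassFunction_of_isIrrCharacter X.2)]
    rfl
  -- the class constants
  have h2 : ∀ z : ↥H,
      (Nat.card {p : G × G // (p.1 * x * p.1⁻¹) * (p.2 * y * p.2⁻¹) = (z : G)} : ℂ) =
        (Nat.card G : ℂ) * ∑ X : IrrCharacter G,
          (X : G → ℂ) x * (X : G → ℂ) y * conj ((X : G → ℂ) z) / (X : G → ℂ) 1 :=
    fun z => Cfsg.Agent.Helper10.BR996.class_const x y (z : G)
  simp only [h1, h2]
  -- exchange the sums
  have h3 : ∀ X : IrrCharacter G,
      (Nat.card ↥H : ℂ)⁻¹ * (∑ z : ↥H, δ z * conj ((X : G → ℂ) z)) *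
        ((X : G → ℂ) x * (X : G → ℂ) y / (X : G → ℂ) 1) =
      ∑ z : ↥H, (Nat.card ↥H : ℂ)⁻¹ * (δ z *
        ((X : G → ℂ) x * (X : G → ℂ) y * conj ((X : G → ℂ) z) / (X : G → ℂ) 1)) := by
    intro X
    rw [mul_assoc, Finset.sum_mul, Finset.mul_sum]
    refine Finset.sum_congr rfl fun z _ => ?_
    ring
  rw [Finset.sum_congr rfl (fun X _ => h3 X), Finset.sum_comm, Finset.mul_sum]
  refine Finset.sum_congr rfl fun z _ => ?_
  rw [← Finset.mul_sum, ← Finset.mul_sum, mul_inv]
  field_simp

end Chr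

end Cfsg.Agent.Helper14.TC27
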