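import Mathlib
import Cfsg.Agent.Lib.Helper9.FrattiniElem
import Cfsg.Agent.Lib.Helper21.PGroupFrattini

/-!
# S3106 PIECE BR0 (helper25): for a finite `2`-group the Frattini subgroup is generated by squares.
-/

set_option autoImplicit false
set_option linter.unusedSectionVars false
set_option linter.unusedVariables false

namespace Cfsg.Agent.Helper20.A5Q

/-- the subgroup generated by the squares is normal -/
theorem br0_normal {C : Type*} [Group C] :
    (Subgroup.closure {y : C | ∃ x : C, y = x ^ 2}).Normal := by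
  constructor
  intro n hn g
  induction hn using Subgroup.closure_induction with
  | mem y hy =>
    obtain ⟨x, rfl⟩ := hy
    apply Subgroup.subset_closure
    refine ⟨g * x * g⁻¹, ?_⟩
    rw [conj_pow]
  | one => rw [mul_one, mul_inv_cancel]; exact Subgroup.one_mem _
  | mul a b _ _ iha ihb =>
    have : g * (a * b) * g⁻¹ = (g * a * g⁻¹) * (g * b * g⁻¹) := by group
    rw [this]
    exact Subgroup.mul_mem _ iha ihb
  | inv a _ iha =>
    have : g * a⁻¹ * g⁻¹ = (g * a * g⁻¹)⁻¹ := by group
    rw [this]
    exact Subgroup.inv_mem _ iha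

/-- **A5Q-BR0.** For a `2`-group the Frattini subgroup is generated by the squares. -/
theorem frattini_eq_closure_sq {C : Type*} [Group C] [Finite C] (hC : IsPGroup 2 C) :
    frattini C = Subgroup.closure {y : C | ∃ x : C, y = x ^ 2} := by
  have : Fact (Nat.Prime 2) := ⟨Nat.prime_two⟩
  apply le_antisymm
  · have hN : (Subgroup.closure {y : C | ∃ x : C, y = x ^ 2}).Normal := br0_normal
    have hsq : ∀ a : C ⧸ Subgroup.closure {y : C | ∃ x : C, y = x ^ 2}, a ^ 2 = 1 := by
      intro a
      obtain ⟨x, rfl⟩ := QuotientGroup.mk_surjective a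
      rw [← QuotientGroup.mk_pow, QuotientGroup.eq_one_iff]
      exact Subgroup.subset_closure ⟨x, rfl⟩
    have hcomm : ∀ a b : C ⧸ Subgroup.closure {y : C | ∃ x : C, y = x ^ 2}, a * b = b * a := by
      intro a b
      have h1 := hsq (a * b)
      have ha := hsq a
      have hb := hsq b
      -- (ab)^2 = 1, a^2 = 1, b^2 = 1 => ab = ba
      have : a * b = (a * b)⁻¹ := by
        rw [eq_inv_iff_mul_eq_one, ← pow_two]; exact h1
      rw [this, mul_inv_rev]
      have ha' : a⁻¹ = a := by rw [inv_eq_iff_mul_eq_one, ← pow_two]; exact ha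
      have hb' : b⁻¹ = b := by rw [inv_eq_iff_mul_eq_one, ← pow_two]; exact hb
      rw [ha', hb']
    have := Cfsg.Agent.Helper9.frattini_le_ker_of_elementary (p := 2)
      (QuotientGroup.mk' (Subgroup.closure {y : C | ∃ x : C, y = x ^ 2})) hcomm hsq
    rwa [QuotientGroup.ker_mk'] at this
  · rw [Subgroup.closure_le]
    rintro y ⟨x, rfl⟩
    exact Cfsg.Agent.Helper21.pow_mem_frattini_of_isPGroup hC x

end Cfsg.Agent.Helper20.A5Q
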