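import Mathlib

/-!
# Simple groups of order 7920, piece N1 (helper25): pure arithmetic `num_inv5_I`
-/

set_option autoImplicit false
set_option linter.unusedSectionVars false
set_option linter.unusedVariables false

namespace Cfsg.Agent.Helper17.M11

theorem num_inv5_I {a b1 b2 b3 c : ℤ} (hc : c = 1 + a - b1 - b2 - b3)
    (h : 720 + 16 * a ^ 2 - 72 * (b1 ^ 2 + b2 ^ 2 + b3 ^ 2) - 45 * c ^ 2 = 0)
    (ha : |a| ≤ 45) (hb1 : |b1| ≤ 10) (hb2 : |b2| ≤ 10) (hb3 : |b3| ≤ 10)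
    (ha5 : (10 : ℤ) ∣ 45 + a) (h1 : (10 : ℤ) ∣ 10 + b1) (h2 : (10 : ℤ) ∣ 10 + b2)
    (h3 : (10 : ℤ) ∣ 10 + b3) : a = 45 := by
  obtain ⟨k, hk⟩ := ha5
  obtain ⟨m1, hm1⟩ := h1
  obtain ⟨m2, hm2⟩ := h2
  obtain ⟨m3, hm3⟩ := h3
  rw [abs_le] at ha hb1 hb2 hb3
  have ha' : a = 10 * k - 45 := by linarith
  have hb1' : b1 = 10 * m1 - 10 := by linarith
  have hb2' : b2 = 10 * m2 - 10 := by linarith
  have hb3' : b3 = 10 * m3 - 10 := by linarith
  have hk0 : 0 ≤ k := by omega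
  have hk9 : k ≤ 9 := by omega
  have hm10 : 0 ≤ m1 := by omega
  have hm12 : m1 ≤ 2 := by omega
  have hm20 : 0 ≤ m2 := by omega
  have hm22 : m2 ≤ 2 := by omega
  have hm30 : 0 ≤ m3 := by omega
  have hm32 : m3 ≤ 2 := by omega
  subst hc ha' hb1' hb2' hb3'
  clear hk hm1 hm2 hm3 ha hb1 hb2 hb3
  interval_cases k <;> interval_cases m1 <;> interval_cases m2 <;> interval_cases m3 <;>
    first
      | rfl
      | (exfalso; norm_num at h)

end Cfsg.Agent.Helper17.M11
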