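import Mathlib

/-!
# Simple groups of order 7920, piece N2 (helper25): pure arithmetic `num_inv5_II`
-/

set_option autoImplicit false
set_option linter.unusedSectionVars false
set_option linter.unusedVariables false

namespace Cfsg.Agent.Helper17.M11

theorem num_inv5_II {a1 a2 b1 b2 c : ℤ} (hc : c = 1 + a1 + a2 - b1 - b2)
    (h : 60 + 5 * (a1 ^ 2 + a2 ^ 2) - 6 * (b1 ^ 2 + b2 ^ 2) - 12 * c ^ 2 = 0)
    (ha1 : |a1| ≤ 12) (ha2 : |a2| ≤ 12) (hb1 : |b1| ≤ 10) (hb2 : |b2| ≤ 10) (hc5 : |c| ≤ 5)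
    (h1 : (10 : ℤ) ∣ 10 + b1) (h2 : (10 : ℤ) ∣ 10 + b2) (h3 : (10 : ℤ) ∣ 5 + c) : b1 = 10 := by
  obtain ⟨m1, hm1⟩ := h1
  obtain ⟨m2, hm2⟩ := h2
  obtain ⟨m3, hm3⟩ := h3
  rw [abs_le] at ha1 ha2 hb1 hb2 hc5
  have hb1' : b1 = 10 * m1 - 10 := by linarith
  have hb2' : b2 = 10 * m2 - 10 := by linarith
  have hc' : c = 10 * m3 - 5 := by linarith
  have hm10 : 0 ≤ m1 := by omega
  have hm12 : m1 ≤ 2 := by omega
  have hm20 : 0 ≤ m2 := by omega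
  have hm22 : m2 ≤ 2 := by omega
  have hm30 : 0 ≤ m3 := by omega
  have hm32 : m3 ≤ 1 := by omega
  have ha2' : a2 = c - 1 - a1 + b1 + b2 := by linarith
  obtain ⟨ha1l, ha1u⟩ := ha1
  subst ha2' hb1' hb2'
  subst hc'
  clear hm1 hm2 hm3 hb1 hb2 hc5 hc
  interval_cases m1 <;> interval_cases m2 <;> interval_cases m3 <;> interval_cases a1 <;>
    first
      | rfl
      | (exfalso; omega)

end Cfsg.Agent.Helper17.M11
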