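import Mathlib
import Cfsg.Prelude.Def_Blocks
import Cfsg.Agent.Lib.Helper24.CharLinear
import Cfsg.Agent.Lib.Helper24.CharComplete
import Cfsg.Agent.Lib.Helper23.ClassConst

/-!
# Simple groups of order 7920, piece T7 (helper25): `mod_three`

Also the generic `T7.sum_zpowers_range` (a sum over `⟨a⟩` as a sum over `range (orderOf a)`).
-/

set_option autoImplicit false
set_option linter.unusedSectionVars false
set_option linter.unusedVariables false
set_option linter.style.haveILetI false

namespace Cfsg.Agent.Helper17.M11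

open scoped ComplexConjugate
open Cfsg Cfsg.Agent.Helper24

universe u

namespace T7

/-- a sum over the cyclic group `⟨a⟩` as a sum over exponents -/
theorem sum_zpowers_range {G : Type u} [Group G] [Finite G] (f : G → ℂ) (a : G)
    [Fintype (Subgroup.zpowers a)] :
    ∑ g : Subgroup.zpowers a, f g = ∑ i ∈ Finset.range (orderOf a), f (a ^ i) := by
  have hfin : IsOfFinOrder a := isOfFinOrder_of_finite a
  rw [← Equiv.sum_comp (finEquivZPowers hfin)]
  have h1 : ∀ i : Fin (orderOf a), f ((finEquivZPowers hfin i : Subgroup.zpowers a) : G) =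
      f (a ^ (i : ℕ)) := by
    intro i
    rw [finEquivZPowers_apply]
  rw [Finset.sum_congr rfl (fun i _ => h1 i), Fin.sum_univ_eq_sum_range (fun i => f (a ^ i))]

end T7

section Tools

variable {G : Type u} [Group G] [Fintype G]

/-- PIECE T7: a rational integer value at an element of order `3` is congruent to the degree modulo `3`. -/
theorem mod_three {χ : G → ℂ} (hχ : IsCharacter G χ) {y : G} (hy : orderOf y = 3) {n : ℤ}
    (hn : χ y = (n : ℂ)) : (3 : ℤ) ∣ n - (charDegree χ : ℤ) := by
  classical
  haveI : Fintype (Subgroup.zpowers y) := Fintype.ofFinite _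
  obtain ⟨m, hm⟩ := Cfsg.Agent.Helper23.sum_char_subgroup' χ hχ (Subgroup.zpowers y)
  rw [T7.sum_zpowers_range, hy, Nat.card_zpowers, hy, Finset.sum_range_succ, Finset.sum_range_succ,
    Finset.sum_range_one, pow_zero, pow_one] at hm
  have hy3 : y ^ 3 = 1 := by rw [← hy]; exact pow_orderOf_eq_one y
  have hy2 : y ^ 2 = y⁻¹ := by
    rw [eq_inv_iff_mul_eq_one, ← pow_succ]; exact hy3
  have h2 : χ (y ^ 2) = (n : ℂ) := by
    rw [hy2, irr_inv hχ, hn]
    simp
  rw [h2, hn, char_one_eq_charDegree hχ] at hm
  refine ⟨n - m, ?_⟩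
  have : ((n - (charDegree χ : ℤ) : ℤ) : ℂ) = ((3 * (n - m) : ℤ) : ℂ) := by
    push_cast
    linear_combination (-1 : ℂ) * hm
  exact_mod_cast this

end Tools

end Cfsg.Agent.Helper17.M11
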