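import Mathlib
import Cfsg.Prelude.Def_Blocks
import Cfsg.Agent.Lib.Helper24.CharLinear
import Cfsg.Agent.Lib.Helper24.CharComplete
import Cfsg.Agent.Lib.Helper23.ClassConst
import Cfsg.Agent.Lib.Helper25.M11T7

/-!
# Simple groups of order 7920, piece T4 (helper25): `dvd_add_of_commute`
-/

set_option autoImplicit false
set_option linter.unusedSectionVars false
set_option linter.unusedVariables false
set_option linter.style.haveILetI false

namespace Cfsg.Agent.Helper17.M11

open scoped ComplexConjugate
open Cfsg Cfsg.Agent.Helper24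

universe u

section Tools

variable {G : Type u} [Group G] [Fintype G]

/-- PIECE T4: if `χ` vanishes on the `p`-singular elements (`p` odd) and the involution `t` commutes with `u` of
order `p`, then `2p ∣ χ(1) + χ(t)`. -/
theorem dvd_add_of_commute {χ : G → ℂ} (hχ : IsCharacter G χ) (p : ℕ) [Fact p.Prime] (hp2 : p ≠ 2)
    (hv : ∀ y : G, p ∣ orderOf y → χ y = 0) {t u : G} (ht : orderOf t = 2) (hu : orderOf u = p)
    (hc : Commute t u) : ∃ m : ℕ, χ 1 + χ t = ((2 * p * m : ℕ) : ℂ) := by
  classical
  have hpp : p.Prime := Fact.out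
  have hpodd : Odd p := hpp.odd_of_ne_two hp2
  have hcop : Nat.Coprime 2 p := (Nat.coprime_primes Nat.prime_two hpp).mpr (Ne.symm hp2)
  have ho : orderOf (t * u) = 2 * p := by
    rw [hc.orderOf_mul_eq_mul_orderOf_of_coprime (by rw [ht, hu]; exact hcop), ht, hu]
  haveI : Fintype (Subgroup.zpowers (t * u)) := Fintype.ofFinite _
  obtain ⟨m, hm⟩ := Cfsg.Agent.Helper23.sum_char_subgroup' χ hχ (Subgroup.zpowers (t * u))
  rw [T7.sum_zpowers_range, ho, Nat.card_zpowers, ho] at hm
  have hp0 : 0 < p := hpp.pos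
  -- only the exponents `0` and `p` contribute
  have hsum : ∑ i ∈ Finset.range (2 * p), χ ((t * u) ^ i) = χ ((t * u) ^ 0) + χ ((t * u) ^ p) := by
    apply Finset.sum_eq_add_of_mem 0 p (Finset.mem_range.mpr (by omega))
      (Finset.mem_range.mpr (by omega)) (by omega)
    intro i hi hne
    have hi2 : i < 2 * p := Finset.mem_range.mp hi
    apply hv
    -- `p ∤ i`
    have hpi : ¬ p ∣ i := by
      rintro ⟨k, hk⟩
      have : k = 0 ∨ k = 1 := by
        have : k < 2 := by
          by_contra hcon
          have h2 : 2 ≤ k := by omega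
          have : p * 2 ≤ p * k := Nat.mul_le_mul_left p h2
          omega
        omega
      rcases this with rfl | rfl
      · exact hne.1 (by omega)
      · exact hne.2 (by omega)
    rw [orderOf_pow, ho]
    have hd2 : Nat.gcd (2 * p) i ∣ 2 := by
      have h1 : Nat.gcd (2 * p) i ∣ 2 * p := Nat.gcd_dvd_left _ _
      have h2 : Nat.Coprime (Nat.gcd (2 * p) i) p := by
        have h3 : Nat.Coprime i p := ((Nat.Prime.coprime_iff_not_dvd hpp).mpr hpi).symm
        exact Nat.Coprime.coprime_dvd_left (Nat.gcd_dvd_right _ _) h3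
      exact h2.dvd_of_dvd_mul_right h1
    have hdpos : 0 < Nat.gcd (2 * p) i := Nat.gcd_pos_of_pos_left _ (by omega)
    generalize Nat.gcd (2 * p) i = d at hd2 hdpos ⊢
    obtain ⟨k, hk⟩ := hd2
    have : 2 * p / d = k * p := by
      apply Nat.div_eq_of_eq_mul_right hdpos
      calc 2 * p = d * k * p := by rw [← hk]
        _ = d * (k * p) := by ring
    rw [this]
    exact Dvd.intro_left k rfl
  have htp : (t * u) ^ p = t := by
    rw [hc.mul_pow, ← hu, pow_orderOf_eq_one, mul_one]
    obtain ⟨k, hk⟩ := hpodd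
    rw [hu, hk, pow_succ, pow_mul]
    have : t ^ 2 = 1 := by rw [← ht]; exact pow_orderOf_eq_one t
    rw [this, one_pow, one_mul]
  rw [hsum, pow_zero, htp] at hm
  refine ⟨m, ?_⟩
  rw [hm]
  push_cast
  ring

end Tools

end Cfsg.Agent.Helper17.M11
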