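import Mathlib
import Cfsg.Prelude.Def_JComponents
import Cfsg.Agent.Lib.Helper4.ZJElementary
import Cfsg.Agent.Lib.Helper14.Ambient
import Cfsg.Agent.Lib.Helper16.Commutator
import Cfsg.Agent.Lib.Helper16.PGroup2
import Cfsg.Agent.Lib.Helper25.JCConj
import Cfsg.Agent.Lib.Helper25.JCSyl

/-!
# S2944 (KS12) modulo the uniqueness statement of the structure lemma JCFF (helper25)

`K ∈ jComponentsZero T` ⟹ `N_G(K) = N_G(W_K)` and `K` is a `J(T^g)`-component whenever
`J(T^g) ≤ N_G(W_K)`.  The only input from the failure-of-factorization structure lemma is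
`Uniq G`: two components (for `L`-conjugate Sylow subgroups) of a member `L` of `jOvergroups` whose
`W`'s meet nontrivially coincide.
-/

set_option autoImplicit false
set_option linter.unusedSectionVars false
set_option linter.unusedVariables false
set_option linter.style.haveILetI false

namespace Cfsg.Agent.Helper25.JC

open Cfsg Cfsg.Agent.Helper4.ZJ
open scoped commutatorElement

universe u

variable {G : Type u} [Group G] [Finite G]

/-- the uniqueness consequence of the structure lemma FF (F5) used by S2943/S2944 -/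
def Uniq (G : Type u) [Group G] : Prop :=
  ∀ (T₁ L K₁ K₂ : Subgroup G) (l : G), IsPGroup 2 ↥T₁ → T₁ ≠ ⊥ → L ∈ jOvergroups T₁ → l ∈ L →
    IsJComponent T₁ K₁ → K₁ ≤ L → IsJComponent (T₁.map (MulAut.conj l).toMonoidHom) K₂ → K₂ ≤ L →
    wOf K₁ ⊓ wOf K₂ ≠ ⊥ → K₁ = K₂

/-! ### small facts on components -/

theorem thompson_le_normalizer_of_comm {K J : Subgroup G} (h : ⁅K, J⁆ = K) :
    J ≤ Subgroup.normalizer (K : Set G) := by
  have := Cfsg.Agent.Helper16.le_normalizer_commutator_left J K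
  rwa [Subgroup.commutator_comm, h] at this

theorem comp_not_isPGroup {T K : Subgroup G} (hK : IsJComponent T K) : ¬ IsPGroup 2 ↥K := by
  intro hp
  have h3 := hK.2.2.1
  have h4 : (pCoreOf 2 K).relIndex K ∣ Nat.card ↥K := by
    unfold Subgroup.relIndex
    exact Subgroup.index_dvd_card _
  rw [h3] at h4
  obtain ⟨n, hn⟩ := (IsPGroup.iff_card (p := 2)).1 hp
  rw [hn] at h4
  have := (Nat.Prime.dvd_of_dvd_pow Nat.prime_three h4)
  omega

theorem comp_ne_bot {T K : Subgroup G} (hK : IsJComponent T K) : K ≠ ⊥ := by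
  intro h
  apply comp_not_isPGroup hK
  rw [h]
  exact IsPGroup.of_bot

theorem thompson_ne_bot_of_comp {T K : Subgroup G} (hK : IsJComponent T K) :
    thompsonSubgroupOf 2 T ≠ ⊥ := by
  intro h
  apply comp_ne_bot hK
  have := hK.2.1
  rw [h, Subgroup.commutator_bot_right] at this
  exact this.symm

theorem wOf_isPGroup {T K : Subgroup G} (hK : IsJComponent T K) : IsPGroup 2 ↥(wOf K) :=
  IsPGroup.of_card (n := 2) (by rw [hK.2.2.2.2.1]; norm_num)

theorem wOf_ne_bot {T K : Subgroup G} (hK : IsJComponent T K) : wOf K ≠ ⊥ := by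
  intro h
  have := hK.2.2.2.2.1
  rw [h, Subgroup.card_bot] at this
  omega

/-- members of `A(P)` and `A(Q)` have the same order if `J(P) = J(Q)` -/
theorem famE_card_eq_of_thompson_eq {P Q A B : Subgroup G}
    (h : thompsonSubgroupOf 2 P = thompsonSubgroupOf 2 Q) (hA : A ∈ famE 2 P)
    (hB : B ∈ famE 2 Q) : Nat.card ↥A = Nat.card ↥B := by
  have hAQ : A ≤ Q := (le_thompsonSubgroupOf hA).trans (h ▸ thompsonSubgroupOf_le_self Q)
  have hBP : B ≤ P := (le_thompsonSubgroupOf hB).trans (h.symm ▸ thompsonSubgroupOf_le_self P)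
  apply le_antisymm
  · exact (mem_famE.1 hB).2.2 A hAQ (mem_famE.1 hA).2.1
  · exact (mem_famE.1 hA).2.2 B hBP (mem_famE.1 hB).2.1

theorem famE_card_map (φ : G ≃* G) {P A B : Subgroup G} (hA : A ∈ famE 2 P)
    (hB : B ∈ famE 2 (P.map φ.toMonoidHom)) : Nat.card ↥A = Nat.card ↥B := by
  have h1 := famE_map φ hA
  have h2 : Nat.card ↥(A.map φ.toMonoidHom) = Nat.card ↥B := by
    apply le_antisymm
    · exact (mem_famE.1 hB).2.2 _ (mem_famE.1 h1).1 (mem_famE.1 h1).2.1
    · exact (mem_famE.1 h1).2.2 _ (mem_famE.1 hB).1 (mem_famE.1 hB).2.1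
  rw [← h2, Subgroup.card_map_of_injective φ.injective]

/-- if `J(P) ≤ Q` and the members of `A(P)`, `A(Q)` have the same order then `J(P) ≤ J(Q)` -/
theorem thompson_le_of_card {P Q : Subgroup G} (hPQ : thompsonSubgroupOf 2 P ≤ Q)
    (hcard : ∀ A ∈ famE 2 P, ∀ B ∈ famE 2 Q, Nat.card ↥A = Nat.card ↥B) :
    thompsonSubgroupOf 2 P ≤ thompsonSubgroupOf 2 Q := by
  apply thompsonSubgroupOf_le
  intro A hA
  apply le_thompsonSubgroupOf
  obtain ⟨B, hB⟩ := famE_nonempty (p := 2) Q
  refine mem_famE.2 ⟨(le_thompsonSubgroupOf hA).trans hPQ, (mem_famE.1 hA).2.1, ?_⟩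
  intro A' hA'Q hA'e
  rw [hcard A hA B hB]
  exact (mem_famE.1 hB).2.2 A' hA'Q hA'e

/-! ### the 2-local `N = N_G(W_K)` -/

section main

variable (hL : IsCharacteristicTwoType G) {T K : Subgroup G} (hK : K ∈ jComponentsZero T)

include hL hK

theorem n44_K_le : K ≤ Subgroup.normalizer (wOf K : Set G) :=
  Subgroup.le_normalizer.trans (normalizer_le_normalizer_wOf K)

theorem n44_J_le : thompsonSubgroupOf 2 T ≤ Subgroup.normalizer (wOf K : Set G) :=
  (thompson_le_normalizer_of_comm hK.1.2.1).trans (normalizer_le_normalizer_wOf K)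

theorem n44_J_isPGroup (hT : IsPGroup 2 ↥T) : IsPGroup 2 ↥(thompsonSubgroupOf 2 T) :=
  hT.to_le (thompsonSubgroupOf_le_self T)

theorem n44_wOf_le_pCoreOf :
    wOf K ≤ pCoreOf 2 (Subgroup.normalizer (wOf K : Set G)) :=
  Cfsg.Agent.Helper14.le_pCoreOf Subgroup.le_normalizer (le_refl _) (wOf_isPGroup hK.1)

theorem n44_cent_le :
    Subgroup.centralizer (pCoreOf 2 (Subgroup.normalizer (wOf K : Set G)) : Set G) ≤
      pCoreOf 2 (Subgroup.normalizer (wOf K : Set G)) := by
  have h1 := hL.2 (wOf K) (wOf_isPGroup hK.1) (wOf_ne_bot hK.1)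
  unfold IsOfCharacteristicTwo at h1
  rw [Cfsg.Agent.Helper14.charP_iff_ambient] at h1
  intro x hx
  apply h1
  refine ⟨?_, hx⟩
  have h2 : Subgroup.centralizer (pCoreOf 2 (Subgroup.normalizer (wOf K : Set G)) : Set G) ≤
      Subgroup.centralizer (wOf K : Set G) :=
    Subgroup.centralizer_le (n44_wOf_le_pCoreOf hL hK)
  exact Subgroup.centralizer_le_normalizer _ (h2 hx)

theorem n44_J_not_le :
    ¬ thompsonSubgroupOf 2 T ≤ pCoreOf 2 (Subgroup.normalizer (wOf K : Set G)) := by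
  intro h
  apply comp_not_isPGroup hK.1
  have h1 : ⁅K, thompsonSubgroupOf 2 T⁆ ≤ pCoreOf 2 (Subgroup.normalizer (wOf K : Set G)) := by
    refine (Subgroup.commutator_mono (n44_K_le hL hK) h).trans ?_
    exact Cfsg.Agent.Helper16.commutator_le_right_of_le_normalizer
      (Cfsg.Agent.Helper14.le_normalizer_pCoreOf 2 _)
  rw [hK.1.2.1] at h1
  exact (Cfsg.Agent.Helper14.pCoreOf_isPGroup 2 _).to_le h1

/-- a Sylow 2-subgroup `S'` of `N` over `J(T)`: `N ∈ jOvergroups S'`, `K` is a `J(S')`-component -/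
theorem n44_exists_sylow (hT : IsPGroup 2 ↥T) :
    ∃ S' : Subgroup G, thompsonSubgroupOf 2 T ≤ S' ∧
      IsSylowTwoIn S' (Subgroup.normalizer (wOf K : Set G)) ∧
      thompsonSubgroupOf 2 S' = thompsonSubgroupOf 2 T ∧
      Subgroup.normalizer (wOf K : Set G) ∈ jOvergroups S' ∧ IsJComponent S' K ∧ S' ≠ ⊥ := by
  obtain ⟨S', hJS', hS'⟩ := exists_isSylowTwoIn_of_le (n44_J_le hL hK) (n44_J_isPGroup hL hK hT)
  have hJ := hK.2 S' hJS' hS'
  refine ⟨S', hJS', hS', hJ, ⟨hS', ?_, n44_cent_le hL hK⟩, ?_, ?_⟩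
  · rw [hJ]
    exact n44_J_not_le hL hK
  · exact (isJComponent_congr hJ).2 hK.1
  · intro h
    apply thompson_ne_bot_of_comp hK.1
    rw [← le_bot_iff, ← h]
    exact hJS'

/-- **S2944, first claim** -/
theorem n44_normalizer_eq (huniq : Uniq G) (hT : IsPGroup 2 ↥T) :
    Subgroup.normalizer (K : Set G) = Subgroup.normalizer (wOf K : Set G) := by
  apply le_antisymm (normalizer_le_normalizer_wOf K)
  obtain ⟨S', hJS', hS', hJ, hov, hcomp, hne⟩ := n44_exists_sylow hL hK hT
  intro n hn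
  apply mem_normalizer_of_map_conj_eq
  have h1 : IsJComponent (S'.map (MulAut.conj n).toMonoidHom) (K.map (MulAut.conj n).toMonoidHom) :=
    isJComponent_map_of (MulAut.conj n) hcomp
  have h2 : K.map (MulAut.conj n).toMonoidHom ≤ Subgroup.normalizer (wOf K : Set G) :=
    map_conj_le_of_mem hn (n44_K_le hL hK)
  have h3 : wOf (K.map (MulAut.conj n).toMonoidHom) = wOf K := by
    rw [wOf_map, map_conj_eq_of_mem_normalizer hn]
  have h4 : wOf K ⊓ wOf (K.map (MulAut.conj n).toMonoidHom) ≠ ⊥ := by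
    rw [h3, inf_idem]
    exact wOf_ne_bot hK.1
  exact (huniq S' _ K _ n hS'.2.1 hne hov hn hcomp (n44_K_le hL hK) h1 h2 h4).symm

/-- **S2944, second claim** -/
theorem n44_comp_conj (huniq : Uniq G) (hT : IsPGroup 2 ↥T) (g : G)
    (hg : thompsonSubgroupOf 2 (T.map (MulAut.conj g).toMonoidHom) ≤
      Subgroup.normalizer (wOf K : Set G)) :
    IsJComponent (T.map (MulAut.conj g).toMonoidHom) K := by
  obtain ⟨S', hJS', hS', hJ, hov, hcomp, hne⟩ := n44_exists_sylow hL hK hT
  have hTg : IsPGroup 2 ↥(T.map (MulAut.conj g).toMonoidHom) :=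
    (isPGroup_map_iff (MulAut.conj g) 2).2 hT
  have hJg : IsPGroup 2 ↥(thompsonSubgroupOf 2 (T.map (MulAut.conj g).toMonoidHom)) :=
    hTg.to_le (thompsonSubgroupOf_le_self _)
  obtain ⟨S'', hJS'', hS''⟩ := exists_isSylowTwoIn_of_le hg hJg
  obtain ⟨n, hn, rfl⟩ := isSylowTwoIn_conj hS' hS''
  -- orders of the members of the `A`-families
  have hcard : ∀ A ∈ famE 2 (T.map (MulAut.conj g).toMonoidHom),
      ∀ B ∈ famE 2 (S'.map (MulAut.conj n).toMonoidHom), Nat.card ↥A = Nat.card ↥B := by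
    intro A hA B hB
    obtain ⟨A₀, hA₀⟩ := famE_nonempty (p := 2) T
    obtain ⟨B₀, hB₀⟩ := famE_nonempty (p := 2) S'
    rw [← famE_card_map (MulAut.conj g) hA₀ hA, ← famE_card_map (MulAut.conj n) hB₀ hB]
    exact (famE_card_eq_of_thompson_eq hJ hB₀ hA₀).symm
  have hle := thompson_le_of_card hJS'' hcard
  have heq : thompsonSubgroupOf 2 (T.map (MulAut.conj g).toMonoidHom) =
      thompsonSubgroupOf 2 (S'.map (MulAut.conj n).toMonoidHom) := by
    apply Subgroup.eq_of_le_of_card_ge hle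
    rw [thompson_map, thompson_map, Subgroup.card_map_of_injective (MulAut.conj n).injective,
      Subgroup.card_map_of_injective (MulAut.conj g).injective, hJ]
  rw [isJComponent_congr heq]
  have hnK : n ∈ Subgroup.normalizer (K : Set G) := by
    rw [n44_normalizer_eq hL hK huniq hT]
    exact hn
  have := isJComponent_map_of (MulAut.conj n) hcomp
  rwa [map_conj_eq_of_mem_normalizer hnK] at this

end main

/-- **S2944** modulo `Uniq G` -/
theorem s2944_of_uniq (huniq : Uniq G) (hL : IsCharacteristicTwoType G) (T : Subgroup G)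
    (hT : IsPGroup 2 ↥T) (K : Subgroup G) (hK : K ∈ jComponentsZero T) :
    Subgroup.normalizer (K : Set G) = Subgroup.normalizer (wOf K : Set G) ∧
      ∀ g : G, thompsonSubgroupOf 2 (T.map (MulAut.conj g).toMonoidHom) ≤
          Subgroup.normalizer (wOf K : Set G) →
        IsJComponent (T.map (MulAut.conj g).toMonoidHom) K :=
  ⟨n44_normalizer_eq hL hK huniq hT, fun g hg => n44_comp_conj hL hK huniq hT g hg⟩

end Cfsg.Agent.Helper25.JC

namespace Cfsg.Agent.Helper25.JC

open Cfsg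
open scoped commutatorElement

universe u

variable {G : Type u} [Group G] [Finite G]

/-- **S2943** modulo `Uniq G` -/
theorem s2943_of_uniq (huniq : Uniq G) (T : Subgroup G) (hT : IsPGroup 2 ↥T) (hT1 : T ≠ ⊥)
    (L : Subgroup G) (hLT : L ∈ jOvergroups T) (K : Subgroup G) (hK : IsJComponent T K)
    (hKL : K ≤ L)
    (hZW : T ⊓ Subgroup.centralizer (T : Set G) ⊓ wOf K ≠ ⊥) :
    T ≤ Subgroup.normalizer (K : Set G) := by
  intro t ht
  apply mem_normalizer_of_map_conj_eq
  have htL : t ∈ L := hLT.1.1 ht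
  have hTt : T.map (MulAut.conj t).toMonoidHom = T := map_conj_eq_self_of_mem ht
  have h1 : IsJComponent (T.map (MulAut.conj t).toMonoidHom) (K.map (MulAut.conj t).toMonoidHom) :=
    isJComponent_map_of (MulAut.conj t) hK
  have h2 : K.map (MulAut.conj t).toMonoidHom ≤ L := map_conj_le_of_mem htL hKL
  -- a nontrivial element of `Z(T) ∩ W_K`
  obtain ⟨w, hw1⟩ := (Subgroup.ne_bot_iff_exists_ne_one).1 hZW
  have hw' : (w : G) ∈ T ⊓ Subgroup.centralizer (T : Set G) ⊓ wOf K := w.2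
  have hwc : t * (w : G) = (w : G) * t := by
    have := Subgroup.mem_centralizer_iff.1 hw'.1.2 t ht
    exact this
  have hww : (w : G) ∈ wOf (K.map (MulAut.conj t).toMonoidHom) := by
    rw [wOf_map, mem_map_conj]
    have e : t⁻¹ * (w : G) * t = w := by
      rw [mul_assoc, ← hwc]; group
    rw [e]
    exact hw'.2
  have h4 : wOf K ⊓ wOf (K.map (MulAut.conj t).toMonoidHom) ≠ ⊥ := by
    intro h
    have : (w : G) ∈ wOf K ⊓ wOf (K.map (MulAut.conj t).toMonoidHom) := ⟨hw'.2, hww⟩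
    rw [h, Subgroup.mem_bot] at this
    exact hw1 (Subtype.ext this)
  exact (huniq T L K _ t hT hT1 hLT htL hK hKL h1 h2 h4).symm

end Cfsg.Agent.Helper25.JC
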