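import Mathlib
import Cfsg.Prelude.Def_JComponents
import Cfsg.Agent.Lib.Helper7.JC48A
import Cfsg.Agent.Lib.Helper14.Ambient
import Cfsg.Agent.Lib.Helper14.Kieler
import Cfsg.Agent.Lib.Helper15.SylowIn
import Cfsg.Agent.Lib.Helper15.StronglyEmbedded

/-!
# KS12b / S2950, PIECE LOC (helper25 for helper27): generalities on maximal 2-locals.
-/

set_option autoImplicit false
set_option linter.unusedVariables false
set_option linter.unusedSectionVars false

namespace Cfsg.Agent.Helper27.KU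

open Cfsg

universe u

variable {G : Type u} [Group G] [Finite G]

/-- a conjugate of a 2-local is a 2-local -/
theorem loc_isTwoLocal_map_conj (g : G) {N : Subgroup G} (hN : IsTwoLocal N) :
    IsTwoLocal (N.map (MulAut.conj g).toMonoidHom) := by
  obtain ⟨Q, hQ, hQ1, rfl⟩ := hN
  refine ⟨Q.map (MulAut.conj g).toMonoidHom, hQ.map _, ?_, ?_⟩
  · intro h
    exact hQ1 ((Subgroup.map_eq_bot_iff_of_injective _ (MulAut.conj g).injective).1 h)
  · rw [Cfsg.Agent.Helper15.normalizer_map_conj]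

/-- PIECE LOC (1). -/
theorem exists_maximalTwoLocal_ge {N : Subgroup G} (hN : IsTwoLocal N) :
    ∃ L : Subgroup G, IsMaximalTwoLocal L ∧ N ≤ L := by
  obtain ⟨M, hNM, hM⟩ := Finite.exists_le_maximal (p := fun M : Subgroup G => IsTwoLocal M) hN
  refine ⟨M, ⟨hM.prop, ?_⟩, hNM⟩
  intro N' hN' hle
  exact le_antisymm (hM.le_of_ge hN' hle) hle

/-- PIECE LOC (2). -/
theorem eq_of_J_eq {La Lb : Subgroup G} (ha : IsMaximalTwoLocal La) (hb : IsMaximalTwoLocal Lb)
    (hJ : thompsonSubgroupOf 2 La = thompsonSubgroupOf 2 Lb)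
    (hne : pCoreOf 2 (thompsonSubgroupOf 2 La) ≠ ⊥) : La = Lb := by
  have hloc : IsTwoLocal
      (Subgroup.normalizer ((pCoreOf 2 (thompsonSubgroupOf 2 La) : Subgroup G) : Set G)) :=
    ⟨_, Cfsg.Agent.Helper14.pCoreOf_isPGroup 2 _, hne, rfl⟩
  have h1 : La ≤ Subgroup.normalizer ((pCoreOf 2 (thompsonSubgroupOf 2 La) : Subgroup G) : Set G) :=
    (Cfsg.Agent.Helper7.JC48.le_normalizer_J La).trans
      (Cfsg.Agent.Helper14.normalizer_le_normalizer_pCoreOf 2 _)
  have h2 : Lb ≤ Subgroup.normalizer ((pCoreOf 2 (thompsonSubgroupOf 2 La) : Subgroup G) : Set G) := by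
    rw [hJ]
    exact (Cfsg.Agent.Helper7.JC48.le_normalizer_J Lb).trans
      (Cfsg.Agent.Helper14.normalizer_le_normalizer_pCoreOf 2 _)
  exact (ha.2 _ hloc h1).symm.trans (hb.2 _ hloc h2)

/-- `O₂` of a 2-local is nontrivial -/
theorem loc_pCoreOf_ne_bot {L : Subgroup G} (hL : IsTwoLocal L) : pCoreOf 2 L ≠ ⊥ := by
  obtain ⟨Q, hQ, hQ1, rfl⟩ := hL
  have hle : Q ≤ pCoreOf 2 (Subgroup.normalizer (Q : Set G)) :=
    Cfsg.Agent.Helper14.le_pCoreOf Subgroup.le_normalizer le_rfl hQ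
  intro h
  rw [h] at hle
  exact hQ1 (le_bot_iff.1 hle)

/-- PIECE LOC (3). -/
theorem normalizer_le_of_max {L : Subgroup G} (hL : IsMaximalTwoLocal L) :
    Subgroup.normalizer (L : Set G) ≤ L := by
  have hloc : IsTwoLocal (Subgroup.normalizer ((pCoreOf 2 L : Subgroup G) : Set G)) :=
    ⟨_, Cfsg.Agent.Helper14.pCoreOf_isPGroup 2 _, loc_pCoreOf_ne_bot hL.1, rfl⟩
  have h1 : Subgroup.normalizer (L : Set G) ≤
      Subgroup.normalizer ((pCoreOf 2 L : Subgroup G) : Set G) :=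
    Cfsg.Agent.Helper14.normalizer_le_normalizer_pCoreOf 2 L
  have h2 := hL.2 _ hloc (Subgroup.le_normalizer.trans h1)
  rw [h2] at h1
  exact h1

/-- PIECE LOC (4). -/
theorem isMaximalTwoLocal_map_conj (g : G) {L : Subgroup G} (hL : IsMaximalTwoLocal L) :
    IsMaximalTwoLocal (L.map (MulAut.conj g).toMonoidHom) := by
  refine ⟨loc_isTwoLocal_map_conj g hL.1, ?_⟩
  intro N hN hle
  have h1 : L ≤ N.map (MulAut.conj g⁻¹).toMonoidHom := by
    have := Cfsg.Agent.Helper15.map_conj_mono hle g⁻¹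
    rwa [Cfsg.Agent.Helper15.map_conj_inv_map_conj] at this
  have h2 := hL.2 _ (loc_isTwoLocal_map_conj g⁻¹ hN) h1
  rw [← h2, Cfsg.Agent.Helper15.map_conj_map_conj_inv]

end Cfsg.Agent.Helper27.KU
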