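import Mathlib
import Cfsg.Agent.Lib.Helper13.InvNDefsC
import Cfsg.Agent.Lib.Lead.ChevNXAll

/-!
# OINV-S1 (helper25): definitions for "every involution of a Chevalley group over a finite field of odd order is
conjugate into the diagonal subgroup `H`" (STEP 1 of S4280 / S4281, for helper13).

Plan: plans/OINV_S1_plan.md, skeleton: plans/OINV_S1_Skel.lean.txt.
-/

set_option autoImplicit false
set_option linter.unusedSectionVars false
set_option linter.unusedVariables false

namespace Cfsg.Agent.Helper25.OInv

open Cfsg Cfsg.Lie Cfsg.Agent.Lead.Chev Cfsg.Agent.Helper13.InvN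

variable {F : Type*} [Field F] {D : ChevalleyDatum}

/-- `t` swaps the root subgroups `X_β` and `X_{-β}`, with factor `γ` -/
def Swap (hF : ChevFacts D F) (t : GL D.Idx F) (β : ℕ) (γ : F) : Prop :=
  (∀ u : F, t * xGL D hF.xadd β u * t⁻¹ = xGL D hF.xadd (D.neg β) (γ * u)) ∧
  (∀ u : F, t * xGL D hF.xadd (D.neg β) u * t⁻¹ = xGL D hF.xadd β (γ⁻¹ * u))

/-- `t ∈ H n_w` -/
def InN (hF : ChevFacts D F) (t : GL D.Idx F) (w : List ℕ) : Prop :=
  ∃ h ∈ D.diagonalSubgroup F, t = h * nWordGL D hF.xadd w

/-- the root elements are injective in the parameter (S1024 for the seven types) -/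
def XInj (D : ChevalleyDatum) (F : Type*) [Field F] : Prop :=
  ∀ r < D.nroots, ∀ a : F, D.x F r a = 1 → a = 0

/-- a word for the reflection in the root `c α_i` -/
def refWord (c : List ℕ) (i : ℕ) : List ℕ := c ++ [i] ++ c.reverse

/-- the certificate of one frame `S` of the table: the root `β = c α_i` (made negative by `y = frameWord S`) at which
the rank-one reduction is made; `kindA = true`: `aux` is a root `r` made negative by `y` with `⟨β, r^∨⟩` odd (a move
`t ↦ h_r(v) t` makes the factor of `β` a square); `kindA = false`: `aux` is a root `s` whose involution constraint forces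
the factor of `β` to be a square; `v`: a word with `v s_β y v⁻¹ = frameWord` of the frame number `tgt` of the table. -/
structure OEntry where
  kindA : Bool
  c : List ℕ
  i : ℕ
  aux : ℕ
  v : List ℕ
  tgt : ℕ

/-- what the certificate `e` of the frame `S` has to satisfy (`Fr` = the list of the frames of the table) -/
structure EntryOK (D : ChevalleyDatum) (Fr : List Frame) (S : Frame) (e : OEntry) : Prop where
  hy : WOK D (frameWord S)
  hc : WOK D e.c
  hi : e.i < D.rank
  hv : WOK D e.v
  haux : e.aux < D.nroots
  htgt : e.tgt < Fr.length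
  hlen : (Fr.getD e.tgt []).length < S.length
  hy' : WOK D (frameWord (Fr.getD e.tgt []))
  hneg : reflWord D (frameWord S) (froot D (e.c, e.i)) = D.neg (froot D (e.c, e.i))
  hkind : (e.kindA = true ∧ reflWord D (frameWord S) e.aux = D.neg e.aux ∧
        corSum D e.aux (D.neg (froot D (e.c, e.i))) % 2 ≠ 0) ∨
      (e.kindA = false ∧ reflWord D (frameWord S) (reflWord D (frameWord S) e.aux) = e.aux ∧
        (∀ i < D.rank, (D.cartan i e.aux + D.cartan i (reflWord D (frameWord S) e.aux) -
          D.cartan i (D.neg (froot D (e.c, e.i)))) % 2 = 0) ∧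
        signWord D (etaOf D) (frameWord S) e.aux *
          signWord D (etaOf D) (frameWord S) (reflWord D (frameWord S) e.aux) *
          signWord D (etaOf D) (frameWord S) (froot D (e.c, e.i)) = 1)
  hcert : ∀ j < D.rank, reflWord D (e.v ++ refWord e.c e.i ++ frameWord S ++ e.v.reverse) (D.simple j) =
      reflWord D (frameWord (Fr.getD e.tgt [])) (D.simple j)

/-- the list `E` of certificates is valid for the list `Fr` of frames -/
def OddOK (D : ChevalleyDatum) (Fr : List Frame) (E : List OEntry) : Prop :=
  E.length = Fr.length ∧ ∀ p ∈ Fr.zip E, p.1 ≠ [] → EntryOK D Fr p.1 p.2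

end Cfsg.Agent.Helper25.OInv
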