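import Mathlib
import Cfsg.Agent.Lib.Helper15.PSLkDefs

/-!
# S2480 piece PSLK-SCISO (helper25): the module of `c • a` is the module of `a` twisted by `X ↦ c X`.
-/

set_option autoImplicit false

open Polynomial

namespace Cfsg.Agent.Helper15.PSLk

open Cfsg.Agent.Helper17.GLk Cfsg.Agent.Helper17.SLk

universe u

section pieces
variable {F : Type u} [Field F]

/-- the algebra automorphism `g(X) ↦ g(c⁻¹ X)` of `F[X]` -/
noncomputable def pslk_sciso_sig (c : F) (hc : c ≠ 0) : F[X] ≃ₐ[F] F[X] :=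
  algEquivOfCompEqX (C c⁻¹ * X) (C c * X)
    (by rw [mul_comp, C_comp, X_comp, ← mul_assoc, ← C_mul, inv_mul_cancel₀ hc, C_1, one_mul])
    (by rw [mul_comp, C_comp, X_comp, ← mul_assoc, ← C_mul, mul_inv_cancel₀ hc, C_1, one_mul])

theorem pslk_sciso_sig_apply (c : F) (hc : c ≠ 0) (g : F[X]) :
    pslk_sciso_sig c hc g = g.comp (C c⁻¹ * X) := by
  unfold pslk_sciso_sig
  rw [algEquivOfCompEqX_apply, comp_eq_aeval]

theorem pslk_sciso_sig_X (c : F) (hc : c ≠ 0) : pslk_sciso_sig c hc X = C c⁻¹ * X := by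
  rw [pslk_sciso_sig_apply, X_comp]

theorem pslk_sciso_sig_eq (c : F) (hc : c ≠ 0) (p : F[X]) :
    pslk_sciso_sig c hc p = C (c⁻¹ ^ p.natDegree) * scaleRoots p c := by
  rw [pslk_sciso_sig_apply]
  ext i
  rw [comp_C_mul_X_coeff, coeff_C_mul, coeff_scaleRoots]
  by_cases hi : i ≤ p.natDegree
  · have : c⁻¹ ^ p.natDegree * c ^ (p.natDegree - i) = c⁻¹ ^ i := by
      obtain ⟨k, hk⟩ := Nat.exists_eq_add_of_le hi
      rw [hk, Nat.add_sub_cancel_left, pow_add, mul_assoc, ← mul_pow, inv_mul_cancel₀ hc, one_pow,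
        mul_one]
    rw [mul_comm (p.coeff i), mul_left_comm, this, mul_comm]
  · rw [coeff_eq_zero_of_natDegree_lt (not_le.1 hi)]
    simp

theorem pslk_sciso_map (c : F) (hc : c ≠ 0) (p : F[X]) (e : ℕ) :
    (Ideal.span {scaleRoots p c ^ e} : Ideal F[X]) =
      (Ideal.span {p ^ e} : Ideal F[X]).map ((pslk_sciso_sig c hc : F[X] ≃ₐ[F] F[X]) : F[X] →+* F[X]) := by
  rw [Ideal.map_span, Set.image_singleton]
  have h1 : ((pslk_sciso_sig c hc : F[X] ≃ₐ[F] F[X]) : F[X] →+* F[X]) (p ^ e)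
      = (pslk_sciso_sig c hc p) ^ e := by
    rw [map_pow]
    rfl
  rw [h1, pslk_sciso_sig_eq, mul_pow, Ideal.span_singleton_eq_span_singleton]
  have hu : IsUnit (C (c⁻¹ ^ p.natDegree) ^ e : F[X]) := by
    apply IsUnit.pow
    rw [isUnit_C]
    exact (IsUnit.mk0 _ (inv_ne_zero hc)).pow _
  obtain ⟨u, hu'⟩ := hu
  refine ⟨u, ?_⟩
  rw [hu', mul_comm]

/-- PIECE PSLK-SCISO. -/
theorem exists_equiv_smul {V : Type u} [AddCommGroup V] [Module F V] (a : Module.End F V)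
    (c : F) (hc : c ≠ 0) {ι : Type u} [Fintype ι] {p : ι → F[X]} {e : ι → ℕ}
    (φ : Module.AEval' a ≃ₗ[F[X]] ((i : ι) → F[X] ⧸ Ideal.span {p i ^ e i})) :
    Nonempty (Module.AEval' (c • a) ≃ₗ[F[X]]
      ((i : ι) → F[X] ⧸ Ideal.span {scaleRoots (p i) c ^ e i})) := by
  let σ := pslk_sciso_sig c hc
  let θ : ∀ i, (F[X] ⧸ (Ideal.span {p i ^ e i} : Ideal F[X])) ≃ₐ[F]
      (F[X] ⧸ (Ideal.span {scaleRoots (p i) c ^ e i} : Ideal F[X])) := fun i =>
    Ideal.quotientEquivAlg _ _ σ (pslk_sciso_map c hc (p i) (e i))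
  have hθX : ∀ i (u : F[X] ⧸ (Ideal.span {p i ^ e i} : Ideal F[X])),
      θ i ((X : F[X]) • u) = c⁻¹ • ((X : F[X]) • θ i u) := by
    intro i u
    obtain ⟨g, rfl⟩ := Ideal.Quotient.mk_surjective u
    have h1 : (X : F[X]) • (Ideal.Quotient.mk (Ideal.span {p i ^ e i} : Ideal F[X]) g)
        = Ideal.Quotient.mk _ (X * g) := rfl
    rw [h1]
    show Ideal.Quotient.mk _ (σ (X * g)) = c⁻¹ • ((X : F[X]) • Ideal.Quotient.mk _ (σ g))
    have h2 : (X : F[X]) • (Ideal.Quotient.mk (Ideal.span {scaleRoots (p i) c ^ e i} : Ideal F[X])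
        (σ g)) = Ideal.Quotient.mk _ (X * σ g) := rfl
    rw [h2, map_mul, pslk_sciso_sig_X, mul_assoc]
    have h3 : c⁻¹ • (Ideal.Quotient.mk (Ideal.span {scaleRoots (p i) c ^ e i} : Ideal F[X])
        (X * σ g)) = Ideal.Quotient.mk _ (c⁻¹ • (X * σ g)) := rfl
    rw [h3, smul_eq_C_mul]
  let f : V ≃ₗ[F] ((i : ι) → F[X] ⧸ (Ideal.span {scaleRoots (p i) c ^ e i} : Ideal F[X])) :=
    (Module.AEval'.of a) ≪≫ₗ (φ.restrictScalars F) ≪≫ₗ
      LinearEquiv.piCongrRight (fun i => (θ i).toLinearEquiv)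
  have hfapp : ∀ v i, f v i = θ i (φ (Module.AEval'.of a v) i) := fun v i => rfl
  have hf : ∀ v : V, f ((c • a) • v) = (X : F[X]) • f v := by
    intro v
    ext i
    rw [hfapp]
    have h1 : (c • a) • v = c • a v := rfl
    rw [h1, map_smul, ← Module.AEval'.X_smul_of]
    have h2 : φ (c • ((X : F[X]) • Module.AEval'.of a v))
        = c • ((X : F[X]) • φ (Module.AEval'.of a v)) := by
      rw [← map_smul φ (X : F[X])]
      exact (φ.restrictScalars F).map_smul c _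
    rw [h2]
    show θ i (c • ((X : F[X]) • φ (Module.AEval'.of a v) i)) = (X : F[X]) • f v i
    rw [map_smul, hθX, hfapp, smul_smul, mul_inv_cancel₀ hc, one_smul]
  exact ⟨LinearEquiv.ofAEval (c • a) f hf⟩

end pieces

end Cfsg.Agent.Helper15.PSLk
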