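import Mathlib
import Cfsg.Agent.Lib.Helper17.SLkDefs
import Cfsg.Agent.Lib.Helper24.GLkLOWER

/-!
# S2479 piece SLK-LOW1 (helper25): `q^n - q^(n-1) + 1 ≤ k(GL_n(F))` for `n ≥ 2`.
-/

set_option autoImplicit false

open Polynomial

namespace Cfsg.Agent.Helper17.SLk

open Cfsg.Agent.Helper17.GLk

universe u

section pieces2
variable {F : Type u} [Field F]

/-- the transvection `1 + E_{01}` has characteristic polynomial `(X - 1)^n` -/
theorem slk_low1_charpoly_transvection (n : ℕ) (i j : Fin n) (hij : i < j) :
    (Matrix.transvection i j (1 : F)).charpoly = (X - 1) ^ n := by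
  have hut : (Matrix.transvection i j (1 : F)).IsUpperTriangular :=
    Matrix.blockTriangular_transvection (b := id) (le_of_lt hij) 1
  rw [Matrix.charpoly_of_isUpperTriangular _ hut]
  have : ∀ k : Fin n, (X - C (Matrix.transvection i j (1 : F) k k)) = (X - 1 : F[X]) := by
    intro k
    have hd : Matrix.transvection i j (1 : F) k k = 1 := by
      simp only [Matrix.transvection, Matrix.add_apply, Matrix.one_apply_eq]
      rw [Matrix.single_apply_of_ne]
      · simp
      · rintro ⟨rfl, rfl⟩
        exact lt_irrefl _ hij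
    rw [hd, C_1]
  rw [Finset.prod_congr rfl (fun k _ => this k)]
  simp

/-- PIECE SLK-LOW1: one more class than characteristic polynomials: `1` and a transvection have the
same characteristic polynomial `(X-1)^n` but are not conjugate (helper24's `GLkLOWER.lean`:
`glk_lower_exists`, `glk_lower_charpoly_conj`; `Mon_finite_ncard`). -/
theorem card_GL_ge [Fintype F] (n : ℕ) (hn : 2 ≤ n) :
    Fintype.card F ^ n - Fintype.card F ^ (n - 1) + 1 ≤
      Nat.card (ConjClasses (Matrix.GeneralLinearGroup (Fin n) F)) := by
  classical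
  obtain ⟨hfin, hcard⟩ := Mon_finite_ncard (F := F) n
  have hNw : Nw (Fintype.card F) n = Fintype.card F ^ n - Fintype.card F ^ (n - 1) := by
    obtain ⟨m, rfl⟩ : ∃ m, n = m + 1 := ⟨n - 1, by omega⟩
    simp [Nw]
  have : Finite (Mon F n) := hfin.to_subtype
  have hopt : Nat.card (Option (Mon F n)) =
      Fintype.card F ^ n - Fintype.card F ^ (n - 1) + 1 := by
    rw [Finite.card_option, Nat.card_coe_set_eq, hcard, hNw]
  rw [← hopt]
  have : Finite (Matrix.GeneralLinearGroup (Fin n) F) := inferInstance
  have : Finite (ConjClasses (Matrix.GeneralLinearGroup (Fin n) F)) := Quotient.finite _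
  -- the transvection
  let i0 : Fin n := ⟨0, by omega⟩
  let i1 : Fin n := ⟨1, by omega⟩
  have hi01 : i0 < i1 := by
    show (0 : ℕ) < 1
    omega
  have hdet : (Matrix.transvection i0 i1 (1 : F)).det ≠ 0 := by
    rw [Matrix.det_transvection_of_ne _ _ (ne_of_lt hi01)]
    exact one_ne_zero
  let t : Matrix.GeneralLinearGroup (Fin n) F :=
    Matrix.GeneralLinearGroup.mkOfDetNeZero (Matrix.transvection i0 i1 (1 : F)) hdet
  have htval : (t : Matrix (Fin n) (Fin n) F) = Matrix.transvection i0 i1 (1 : F) := rfl
  have htcp : (t : Matrix (Fin n) (Fin n) F).charpoly = (X - 1) ^ n := by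
    rw [htval]; exact slk_low1_charpoly_transvection n i0 i1 hi01
  have h1cp : ((1 : Matrix.GeneralLinearGroup (Fin n) F) : Matrix (Fin n) (Fin n) F).charpoly
      = (X - 1) ^ n := by
    rw [Units.val_one, Matrix.charpoly_one, Fintype.card_fin]
  have ht1 : t ≠ 1 := by
    intro h
    have h2 := congrArg (fun g : Matrix.GeneralLinearGroup (Fin n) F =>
      (g : Matrix (Fin n) (Fin n) F) i0 i1) h
    simp only [htval, Units.val_one] at h2
    rw [Matrix.transvection, Matrix.add_apply, Matrix.single_apply_same,
      Matrix.one_apply_ne (ne_of_lt hi01)] at h2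
    simp at h2
  have hnc : ¬ IsConj (1 : Matrix.GeneralLinearGroup (Fin n) F) t := by
    intro h
    rw [isConj_iff] at h
    obtain ⟨c, hc⟩ := h
    apply ht1
    rw [← hc]
    group
  -- the map
  let φ : Option (Mon F n) → ConjClasses (Matrix.GeneralLinearGroup (Fin n) F) := fun o =>
    match o with
    | none => ConjClasses.mk 1
    | some f => if f.1 = (X - 1) ^ n then ConjClasses.mk t
        else ConjClasses.mk (Classical.choose (glk_lower_exists n f.1 f.2))
  have hφs : ∀ f : Mon F n, ∃ A : Matrix.GeneralLinearGroup (Fin n) F,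
      φ (some f) = ConjClasses.mk A ∧ (A : Matrix (Fin n) (Fin n) F).charpoly = f.1 ∧
        (f.1 = (X - 1) ^ n → A = t) := by
    intro f
    by_cases hf : f.1 = (X - 1) ^ n
    · refine ⟨t, ?_, ?_, fun _ => rfl⟩
      · show (if f.1 = (X - 1) ^ n then ConjClasses.mk t
          else ConjClasses.mk (Classical.choose (glk_lower_exists n f.1 f.2))) = _
        rw [if_pos hf]
      · rw [htcp, hf]
    · refine ⟨Classical.choose (glk_lower_exists n f.1 f.2), ?_,
        Classical.choose_spec (glk_lower_exists n f.1 f.2), fun h => absurd h hf⟩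
      show (if f.1 = (X - 1) ^ n then ConjClasses.mk t
          else ConjClasses.mk (Classical.choose (glk_lower_exists n f.1 f.2))) = _
      rw [if_neg hf]
  refine Nat.card_le_card_of_injective φ ?_
  intro a b hab
  cases a with
  | none =>
    cases b with
    | none => rfl
    | some g =>
      exfalso
      obtain ⟨B, hB, hBcp, hBt⟩ := hφs g
      rw [hB] at hab
      have hconj : IsConj (1 : Matrix.GeneralLinearGroup (Fin n) F) B :=
        ConjClasses.mk_eq_mk_iff_isConj.1 hab
      have hcp := glk_lower_charpoly_conj _ _ hconj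
      rw [h1cp, hBcp] at hcp
      have := hBt hcp.symm
      rw [this] at hconj
      exact hnc hconj
  | some f =>
    cases b with
    | none =>
      exfalso
      obtain ⟨A, hA, hAcp, hAt⟩ := hφs f
      rw [hA] at hab
      have hconj : IsConj (1 : Matrix.GeneralLinearGroup (Fin n) F) A :=
        ConjClasses.mk_eq_mk_iff_isConj.1 hab.symm
      have hcp := glk_lower_charpoly_conj _ _ hconj
      rw [h1cp, hAcp] at hcp
      have := hAt hcp.symm
      rw [this] at hconj
      exact hnc hconj
    | some g =>
      obtain ⟨A, hA, hAcp, _⟩ := hφs f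
      obtain ⟨B, hB, hBcp, _⟩ := hφs g
      rw [hA, hB] at hab
      have hcp := glk_lower_charpoly_conj _ _ (ConjClasses.mk_eq_mk_iff_isConj.1 hab)
      rw [hAcp, hBcp] at hcp
      exact congrArg some (Subtype.ext hcp)

end pieces2

end Cfsg.Agent.Helper17.SLk
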