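import Mathlib
import Cfsg.Agent.Lib.Helper15.S52Defs

/-!
# S3452 piece S52-AFFORD: in `W ⋊ G` with `W` of exponent 2, `o(a) = o(g)` or `2 o(g)`.
-/

set_option autoImplicit false
set_option linter.unusedVariables false

namespace Cfsg.Agent.Helper15.S52

open Cfsg.Agent.Helper2

/-- PIECE S52-AFFORD -/
theorem aff_orderOf {G W : Type*} [Group G] [Finite G] [AddCommGroup W] [DistribMulAction G W]
    (hW : ∀ w : W, w + w = 0) (a : AffExt.Aff G W) :
    orderOf a = orderOf a.g ∨ orderOf a = 2 * orderOf a.g := by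
  have h1 := AffExt.orderOf_g_dvd a
  have h2 := AffExt.orderOf_dvd_two_mul hW a
  have hpos : 0 < orderOf a.g := orderOf_pos a.g
  obtain ⟨k, hk⟩ := h1
  rw [hk] at h2 ⊢
  have hk2 : k ∣ 2 := (Nat.mul_dvd_mul_iff_left hpos).mp h2
  have hk' : k = 1 ∨ k = 2 := by
    have := Nat.le_of_dvd (by norm_num) hk2
    interval_cases k
    · simp at hk2
    · left; rfl
    · right; rfl
  rcases hk' with rfl | rfl
  · left; rw [mul_one]
  · right; rw [mul_comm]

end Cfsg.Agent.Helper15.S52
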