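import Mathlib
import Cfsg.Agent.Lib.Helper15.S52Defs
import Cfsg.Agent.Lib.Helper12.SL2Pow

/-!
# S3452 piece S52-PSLORD: element orders of `PSL₂(p)` divide `(p-1)/2`, `(p+1)/2` or `p`.
-/

set_option autoImplicit false
set_option linter.unusedVariables false

namespace Cfsg.Agent.Helper15.S52

open Cfsg.Agent.Helper2

/-- a power of `A ∈ SL₂` which is a scalar matrix dies in `PSL₂`. -/
theorem s52_pslord_pow_eq_one {F : Type*} [Field F] (A : SL2 F) (k : ℕ) (c : F)
    (h : (A : Matrix (Fin 2) (Fin 2) F) ^ k = c • (1 : Matrix (Fin 2) (Fin 2) F)) :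
    (mk F A) ^ k = 1 := by
  rw [← map_pow, mk_eq_one_iff, Matrix.SpecialLinearGroup.mem_center_iff]
  refine ⟨c, ?_, ?_⟩
  · have hdet : ((A ^ k : SL2 F) : Matrix (Fin 2) (Fin 2) F).det = 1 := (A ^ k).2
    rw [Matrix.SpecialLinearGroup.coe_pow, h, Matrix.det_smul, Matrix.det_one, mul_one] at hdet
    simpa using hdet
  · rw [Matrix.SpecialLinearGroup.coe_pow, h]
    ext i j
    simp [Matrix.one_apply, Matrix.diagonal_apply]

/-- PIECE S52-PSLORD -/
theorem psl_orderOf {F : Type*} [Field F] [Fintype F] {p : ℕ} [Fact p.Prime]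
    (hF : Fintype.card F = p) (hp2 : p ≠ 2) (g : P2 F) :
    orderOf g ∣ (p - 1) / 2 ∨ orderOf g ∣ (p + 1) / 2 ∨ orderOf g ∣ p := by
  obtain ⟨A, rfl⟩ := mk_surjective F g
  have hpp : p.Prime := Fact.out
  have hodd : p % 2 = 1 := by
    rcases hpp.eq_two_or_odd with h | h
    · exact absurd h hp2
    · exact h
  haveI : CharP F p := charP_of_card_eq_prime hF
  have hdet : (A : Matrix (Fin 2) (Fin 2) F).det = 1 := A.2
  by_cases hroot : ∃ l : F, l ^ 2 - (A : Matrix (Fin 2) (Fin 2) F).trace * l + 1 = 0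
  · obtain ⟨l, hl⟩ := hroot
    by_cases hl1 : l ^ 2 = 1
    · right; right
      apply orderOf_dvd_of_pow_eq_one
      exact s52_pslord_pow_eq_one A p _
        (Cfsg.Agent.Helper12.pow_char_eq_smul_of_root _ hdet l hl hl1 p)
    · left
      have hl0 : l ≠ 0 := by
        rintro rfl
        simp at hl
      have h2k : 2 * ((p - 1) / 2) = p - 1 := by omega
      have hk : l ^ (2 * ((p - 1) / 2)) = 1 := by
        rw [h2k, ← hF]
        exact FiniteField.pow_card_sub_one_eq_one l hl0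
      apply orderOf_dvd_of_pow_eq_one
      exact s52_pslord_pow_eq_one A _ _
        (Cfsg.Agent.Helper12.pow_eq_smul_of_root _ hdet l hl hl1 _ hk)
  · right; left
    push_neg at hroot
    obtain ⟨c, -, hpow⟩ := Cfsg.Agent.Helper12.pow_eq_smul_of_no_root _ hdet hroot
    rw [Cfsg.Agent.Helper12.gcd_two_card_sub_one_of_odd (by rw [hF]; exact hodd), hF] at hpow
    apply orderOf_dvd_of_pow_eq_one
    exact s52_pslord_pow_eq_one A _ c hpow

end Cfsg.Agent.Helper15.S52
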