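import Mathlib
import Cfsg.Prelude.Def_Classical
import Cfsg.Agent.Lib.Helper15.S74Defs
import Cfsg.Agent.Lib.Helper5.S74XDefs

/-!
# S2474 piece S74X-ODDNEG (helper25): a model isometry of odd order has no power equal to `-1`.
-/

set_option autoImplicit false

namespace Cfsg.Agent.Helper15.S74

universe v v₁ v₂ u

/-- PIECE S74X-ODDNEG -/
theorem modN_of_odd {F : Type u} [Field F] (h2 : (2 : F) ≠ 0) (k N : ℕ) (hk : 1 ≤ k)
    (hN : Odd N) (h : Mod.{v, u} F k N) : ModN.{v, u} F k N := by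
  obtain ⟨U, i1, i2, ω, g, hM, hgN⟩ := h
  refine ⟨U, i1, i2, ω, g, hM, hgN, ?_⟩
  intro j
  by_contra hcon
  push_neg at hcon
  obtain ⟨hfin, hrank, -⟩ := hM
  -- `g ^ (2 * j) = 1`
  have h2j : g ^ (2 * j) = 1 := by
    apply LinearEquiv.ext
    intro x
    rw [two_mul, pow_add]
    show (g ^ j) ((g ^ j) x) = x
    rw [hcon x, hcon (-x), neg_neg]
  have hdvd : N ∣ 2 * j := by
    rw [← hgN]
    exact orderOf_dvd_of_pow_eq_one h2j
  have hcop : Nat.Coprime N 2 := Nat.Coprime.symm (Nat.coprime_two_left.2 hN)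
  have hdvd' : N ∣ j := hcop.dvd_of_dvd_mul_left hdvd
  have hj1 : g ^ j = 1 := by
    rw [← hgN] at hdvd'
    exact orderOf_dvd_iff_pow_eq_one.1 hdvd'
  have hzero : ∀ x : U, x = 0 := by
    intro x
    have h1 := hcon x
    rw [hj1] at h1
    have h3 : x = -x := h1
    have h4 : (2 : F) • x = 0 := by
      rw [two_smul]
      nth_rewrite 2 [h3]
      exact add_neg_cancel x
    rcases smul_eq_zero.1 h4 with h | h
    · exact absurd h h2
    · exact h
  have hpos : 0 < Module.finrank F U := by rw [hrank]; omega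
  haveI := hfin
  obtain ⟨x, hx⟩ := (Module.finrank_pos_iff_exists_ne_zero (R := F) (M := U)).1 hpos
  exact hx (hzero x)

end Cfsg.Agent.Helper15.S74
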