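import Mathlib
import Cfsg.Agent.Lib.Helper15.S64Defs
import Cfsg.Agent.Lib.Helper2.SzPart

/-!
# S3664 piece S64-NO7: no element of order 7 of `Sz(8)` is fixed by a field automorphism whose
fixed field is the prime field.
-/

set_option autoImplicit false
set_option linter.unusedSectionVars false
set_option linter.unusedVariables false

namespace Cfsg.Agent.Helper15.S64

open Matrix Cfsg.Agent.Helper2 Cfsg.Agent.Helper2.Sz

variable {F : Type*} [Field F] [Fintype F] (S : SzData F 1)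
  (hF : Fintype.card F = 2 ^ (2 * 1 + 1))

/-- the trace identity: `τ = x^5 + x + x^6 + x^2` is not in the prime field. -/
theorem s64_no7_trace {x : F} (h2 : (2 : F) = 0) (h7 : x ^ 7 = 1) (hx1 : x ≠ 1)
    (hτ : (x ^ 4 * x + x + x ^ 6 + x ^ 2) ^ 2 = x ^ 4 * x + x + x ^ 6 + x ^ 2) : False := by
  have hx0 : x ≠ 0 := by
    rintro rfl
    simp at h7
  have hneg : (-1 : F) = 1 := by
    have : (1 : F) + 1 = 0 := by rw [one_add_one_eq_two, h2]
    linear_combination -this
  have key : x * (1 + x) ^ 2 * (1 + x ^ 3) = 0 := by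
    linear_combination hτ - (4 + 2 * x + x ^ 3 + 2 * x ^ 4 + x ^ 5) * h7 -
      (2 - x ^ 2 + x ^ 3 + x ^ 4 - x ^ 5) * h2
  rcases mul_eq_zero.mp key with h | h
  · rcases mul_eq_zero.mp h with h | h
    · exact hx0 h
    · have h1 : 1 + x = 0 := pow_eq_zero_iff (two_ne_zero) |>.mp h
      apply hx1
      linear_combination h1 + hneg
  · have h3 : x ^ 3 = 1 := by linear_combination h + hneg
    apply hx1
    have h6 : x ^ 6 = 1 := by
      have : x ^ 6 = (x ^ 3) ^ 2 := by ring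
      rw [this, h3, one_pow]
    have : x ^ 7 = x ^ 6 * x := by ring
    rw [this, h6, one_mul] at h7
    exact h7

/-- PIECE S64-NO7 -/
theorem no7_fixed (n : Cfsg.Sz F 1) (hn : orderOf n = 7) (ψ : F ≃+* F)
    (hfix : ∀ x : F, ψ x = x → x ^ 2 = x) : S.fieldAut le_rfl hF ψ n ≠ n := by
  intro hfixn
  have : Fact (Nat.Prime 7) := ⟨by norm_num⟩
  obtain ⟨g, u₀, hu₀, hconj, -⟩ :=
    S.exists_conj_split le_rfl hF (p := 7) (by norm_num) (by norm_num) hn
  have hn' : n = g * S.DgSz u₀ * g⁻¹ := by rw [← hconj]; group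
  have hmat : mat n = mat g * Dm S.s (u₀ : F) * mat g⁻¹ := by
    rw [hn', mat_mul, mat_mul]
    rfl
  have hgg : mat g⁻¹ * mat g = 1 := by rw [← mat_mul, inv_mul_cancel, mat_one]
  have htr : (mat n).trace = (Dm S.s (u₀ : F)).trace := by
    rw [hmat, Matrix.trace_mul_comm, ← Matrix.mul_assoc, hgg, Matrix.one_mul]
  -- facts on `x = u₀`
  have hx0 : (u₀ : F) ≠ 0 := u₀.ne_zero
  have hx1 : (u₀ : F) ≠ 1 := fun h => hu₀ (Units.ext h)
  have h7 : (u₀ : F) ^ 7 = 1 := by
    have := FiniteField.pow_card_sub_one_eq_one (u₀ : F) hx0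
    rw [hF] at this
    norm_num at this
    exact this
  have hs : S.s (u₀ : F) = (u₀ : F) ^ 4 := by
    rw [S.hpow]
    norm_num
  have hinv1 : (u₀ : F)⁻¹ = (u₀ : F) ^ 6 := by
    apply inv_eq_of_mul_eq_one_right
    rw [← h7]; ring
  have hinv2 : ((u₀ : F) ^ 4 * (u₀ : F))⁻¹ = (u₀ : F) ^ 2 := by
    apply inv_eq_of_mul_eq_one_right
    rw [← h7]; ring
  have htrD : (Dm S.s (u₀ : F)).trace =
      (u₀ : F) ^ 4 * (u₀ : F) + (u₀ : F) + (u₀ : F) ^ 6 + (u₀ : F) ^ 2 := by
    simp only [Matrix.trace, Matrix.diag_apply, Fin.sum_univ_four, Dm]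
    simp [hs, hinv1, hinv2]
  -- the trace is fixed by `ψ`
  have hmap : (mat n).map ψ = mat n := by rw [← mat_fieldAut S hF, hfixn]
  have hψ : ψ (mat n).trace = (mat n).trace := by
    conv_rhs => rw [← hmap]
    simp only [Matrix.trace, Matrix.diag_apply, Matrix.map_apply, map_sum]
  have hsq := hfix _ hψ
  rw [htr, htrD] at hsq
  exact s64_no7_trace S.h2 h7 hx1 hsq

end Cfsg.Agent.Helper15.S64
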