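import Mathlib
import Cfsg.Agent.Lib.Helper2.AICDefs
import Cfsg.Agent.Lib.Helper2.AICGEN
import Cfsg.Agent.Lib.Helper2.AICBAS1
import Cfsg.Agent.Lib.Helper13.AICINV

/-!
# S2202, PIECE D2 (helper25 for helper2): the normalizer `X = N_G(K_P)` and the block of `P`
-/

set_option autoImplicit false
set_option linter.unusedSectionVars false
set_option linter.unusedVariables false

namespace Cfsg.Agent.Helper2.AIC

variable {G : Type*} [Group G] [Finite G]

theorem mem_normalizer_Kn_iff (c : Cfg G) {P : Sylow 2 G} {g : G} :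
    g ∈ Subgroup.normalizer ((Kn P : Subgroup G) : Set G) ↔ Kn (g • P) = Kn P := by
  rw [Subgroup.mem_normalizer_iff]
  constructor
  · intro h
    ext y
    have h1 : y ∈ Kn (g • P) ↔ g⁻¹ * y * g ∈ Kn P := by
      rw [← conj_mem_Kn P g (g⁻¹ * y * g)]
      have : g * (g⁻¹ * y * g) * g⁻¹ = y := by group
      rw [this]
    rw [h1, h (g⁻¹ * y * g)]
    have : g * (g⁻¹ * y * g) * g⁻¹ = y := by group
    rw [this]
  · intro h x
    rw [← conj_mem_Kn P g x, h]

theorem inv_normalizer_Kn (c : Cfg G) {P : Sylow 2 G} {v : G} (hv : orderOf v = 2)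
    (hvN : v ∈ Subgroup.normalizer ((Kn P : Subgroup G) : Set G)) {R : Sylow 2 G} (hvR : v ∈ R) :
    Kn R = Kn P ∧ ∀ k ∈ Kn P, v * k * v⁻¹ = k := by
  have hN : ∀ z ∈ Kn P, v * z * v⁻¹ ∈ Kn P := fun z hz =>
    ((Subgroup.mem_normalizer_iff).1 hvN z).1 hz
  have hcen := c.centralizes_of_normalizes (le_refl (Kn P)) hv hN
  have hle : Kn P ≤ Kn R := c.le_Kn_of_centralized (le_refl (Kn P)) hv hvR hcen
  refine ⟨?_, hcen⟩
  exact (Subgroup.eq_of_le_of_card_ge hle (le_of_eq (card_Kn R P))).symm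

theorem Mn_le_normalizer_Kn (c : Cfg G) {P R : Sylow 2 G} (hR : Kn R = Kn P) :
    Mn R ≤ Subgroup.normalizer ((Kn P : Subgroup G) : Set G) := by
  intro m hm
  rw [← hR, mem_normalizer_Kn_iff c, mem_Mn_iff.1 hm]

end Cfsg.Agent.Helper2.AIC
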