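import Mathlib
import Cfsg.Agent.Lib.Helper2.AICDefs
import Cfsg.Agent.Lib.Helper2.AICGEN
import Cfsg.Agent.Lib.Helper2.AICBAS1
import Cfsg.Agent.Lib.Helper2.StronglyEmbedded
import Cfsg.Agent.Lib.Helper4.AICBAS2
import Cfsg.Agent.Lib.Helper25.AICD2

/-!
# S2202, PIECE D3 (helper25 for helper2): `X = N_G(K_P)` is strongly embedded; its involutions
-/

set_option autoImplicit false
set_option linter.unusedSectionVars false
set_option linter.unusedVariables false
set_option linter.style.haveILetI false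

namespace Cfsg.Agent.Helper2.AIC

variable {G : Type*} [Group G] [Finite G]

theorem X_stronglyEmbedded (c : Cfg G) {P : Sylow 2 G} (hne : ∃ R : Sylow 2 G, Kn R ≠ Kn P) :
    Cfsg.IsStronglyEmbedded (Subgroup.normalizer ((Kn P : Subgroup G) : Set G)) := by
  rw [Cfsg.Agent.Helper2.stronglyEmbedded_iff]
  refine ⟨?_, ?_, ?_⟩
  · intro htop
    obtain ⟨R, hR⟩ := hne
    obtain ⟨g, rfl⟩ := MulAction.exists_smul_eq G P R
    apply hR
    rw [← mem_normalizer_Kn_iff c, htop]
    exact Subgroup.mem_top g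
  · obtain ⟨t, htP, hto⟩ := c.exists_inv P
    have hle : Mn P ≤ Subgroup.normalizer ((Kn P : Subgroup G) : Set G) :=
      Mn_le_normalizer_Kn c rfl
    have htX : t ∈ Subgroup.normalizer ((Kn P : Subgroup G) : Set G) :=
      hle (Subgroup.le_normalizer htP)
    have := Subgroup.orderOf_dvd_natCard _ htX
    rw [hto] at this
    exact even_iff_two_dvd.2 this
  · intro g hg s hs hsX hsg
    apply hg
    -- `w := g⁻¹ s g` is an involution of `X`
    have hwo : orderOf (g⁻¹ * s * g) = 2 := by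
      have := gen_orderOf_conj g⁻¹ s
      rw [inv_inv] at this
      rw [this, hs]
    obtain ⟨Rs, hRs⟩ := exists_sylow_of_orderOf_two hs
    obtain ⟨Rw, hRw⟩ := exists_sylow_of_orderOf_two hwo
    have h1 := (inv_normalizer_Kn c hs hsX hRs).1
    have h2 := (inv_normalizer_Kn c hwo hsg hRw).1
    -- `s ∈ g • Rw`
    have h3 : s ∈ (g • Rw : Sylow 2 G) := by
      have := (conj_mem_smul Rw g (g⁻¹ * s * g)).2 hRw
      have e : g * (g⁻¹ * s * g) * g⁻¹ = s := by group
      rwa [e] at this
    have h4 : g • Rw = Rs := c.sylow_unique hs h3 hRs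
    -- so `Kn (g • Rw) = Kn Rw`
    have h5 : Kn (g • Rw) = Kn Rw := by rw [h4, h1, h2]
    have h6 := (mem_normalizer_Kn_iff c).2 h5
    rwa [h2] at h6

/-- the involutions of `X` are those of the Sylow subgroups in the block -/
theorem card_inv_X (c : Cfg G) (P : Sylow 2 G) :
    Nat.card {t : G // orderOf t = 2 ∧ t ∈ Subgroup.normalizer ((Kn P : Subgroup G) : Set G)} =
      Nat.card {R : Sylow 2 G // Kn R = Kn P} * nInv P := by
  classical
  -- the Sylow subgroup of an involution of `X`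
  have hex : ∀ a : {t : G // orderOf t = 2 ∧
      t ∈ Subgroup.normalizer ((Kn P : Subgroup G) : Set G)}, ∃ R : Sylow 2 G, a.1 ∈ R :=
    fun a => exists_sylow_of_orderOf_two a.2.1
  let f : {t : G // orderOf t = 2 ∧ t ∈ Subgroup.normalizer ((Kn P : Subgroup G) : Set G)} →
      {R : Sylow 2 G // Kn R = Kn P} := fun a =>
    ⟨Classical.choose (hex a),
      (inv_normalizer_Kn c a.2.1 a.2.2 (Classical.choose_spec (hex a))).1⟩
  have hf : ∀ a, a.1 ∈ (f a).1 := fun a => Classical.choose_spec (hex a)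
  have e := Equiv.sigmaFiberEquiv f
  rw [← Nat.card_congr e]
  haveI : Fintype {R : Sylow 2 G // Kn R = Kn P} := Fintype.ofFinite _
  rw [Nat.card_sigma]
  have hfib : ∀ b : {R : Sylow 2 G // Kn R = Kn P},
      Nat.card {a // f a = b} = nInv P := by
    intro b
    rw [nInv_eq P b.1]
    unfold nInv
    apply Nat.card_congr
    refine ⟨fun a => ⟨a.1.1, ?_, a.1.2.1⟩, fun t => ⟨⟨t.1, t.2.2, ?_⟩, ?_⟩, ?_, ?_⟩
    · have := hf a.1
      rw [a.2] at this
      exact this
    · exact Mn_le_normalizer_Kn c b.2 (Subgroup.le_normalizer t.2.1)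
    · apply Subtype.ext
      exact c.sylow_unique t.2.2 (hf _) t.2.1
    · intro a
      rfl
    · intro t
      rfl
  rw [Finset.sum_congr rfl (fun b _ => hfib b), Finset.sum_const, Finset.card_univ,
    Nat.card_eq_fintype_card, smul_eq_mul]

/-- the block of `P` has odd size -/
theorem odd_card_block (c : Cfg G) (P : Sylow 2 G) :
    Odd (Nat.card {R : Sylow 2 G // Kn R = Kn P}) := by
  classical
  obtain ⟨X, hX⟩ : ∃ X : Subgroup G, X = Subgroup.normalizer ((Kn P : Subgroup G) : Set G) :=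
    ⟨_, rfl⟩
  have hset : {R : Sylow 2 G | Kn R = Kn P} = MulAction.orbit X P := by
    ext R
    constructor
    · intro hR
      obtain ⟨g, rfl⟩ := MulAction.exists_smul_eq G P R
      refine ⟨⟨g, ?_⟩, rfl⟩
      rw [hX]
      exact (mem_normalizer_Kn_iff c).2 hR
    · rintro ⟨x, rfl⟩
      have hx : (x : G) ∈ Subgroup.normalizer ((Kn P : Subgroup G) : Set G) := hX ▸ x.2
      exact (mem_normalizer_Kn_iff c).1 hx
  have h1 : Nat.card {R : Sylow 2 G // Kn R = Kn P} = Nat.card (MulAction.orbit X P) := by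
    rw [← hset]
    rfl
  have h2 : (MulAction.stabilizer X P).index = Nat.card (MulAction.orbit X P) :=
    MulAction.index_stabilizer X P
  have h3 : MulAction.stabilizer X P = (Mn P).subgroupOf X := by
    ext x
    rw [MulAction.mem_stabilizer_iff, Subgroup.mem_subgroupOf, mem_Mn_iff]
    rfl
  have hle : Mn P ≤ X := by
    rw [hX]
    exact Mn_le_normalizer_Kn c rfl
  have h4 : (Mn P).relIndex X * X.index = (Mn P).index := Subgroup.relIndex_mul_index hle
  have h5 : Nat.card (Sylow 2 G) = (Mn P).index := Sylow.card_eq_index_normalizer P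
  haveI : Fact (Nat.Prime 2) := ⟨Nat.prime_two⟩
  have h6 : Nat.card (Sylow 2 G) ≡ 1 [MOD 2] := card_sylow_modEq_one 2 G
  have h7 : Odd ((Mn P).relIndex X * X.index) := by
    rw [h4, ← h5, Nat.odd_iff]
    exact h6
  have h8 : Odd ((Mn P).relIndex X) := Nat.Odd.of_mul_left h7
  rw [h1, ← h2, h3]
  exact h8

end Cfsg.Agent.Helper2.AIC
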