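import Mathlib
import Cfsg.Agent.Lib.Helper2.AICDefs
import Cfsg.Agent.Lib.Helper2.AICGEN
import Cfsg.Agent.Lib.Helper2.AICBAS1
import Cfsg.Agent.Lib.Helper18.AICFACT
import Cfsg.Agent.Lib.Helper24.AICSE
import Cfsg.Agent.Lib.Helper24.AICORB
import Cfsg.Agent.Lib.Helper25.AICD2

/-!
# S2202, PIECE D4 (helper25 for helper2): `K_P` is central in `M_P` and in `X = N_G(K_P)`
-/

set_option autoImplicit false
set_option linter.unusedSectionVars false
set_option linter.unusedVariables false
set_option linter.style.haveILetI false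

namespace Cfsg.Agent.Helper2.AIC

variable {G : Type*} [Group G] [Finite G]

theorem Kn_central_Mn (c : Cfg G) {P Q : Sylow 2 G} (h : P ≠ Q) (hK : Kn P = Kn Q) {m : G}
    (hm : m ∈ Mn P) {k : G} (hk : k ∈ Kn P) : m * k = k * m := by
  -- an involution swapping `P` and `Q`
  obtain ⟨u, hu, huP⟩ := c.exists_swap h
  have huQ : u • Q = P := swap_symm hu huP
  have huX : u ∈ Subgroup.normalizer ((Kn P : Subgroup G) : Set G) := by
    rw [mem_normalizer_Kn_iff c, huP, hK]
  obtain ⟨Ru, hRu⟩ := exists_sylow_of_orderOf_two hu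
  obtain ⟨hKR, hucen⟩ := inv_normalizer_Kn c hu huX hRu
  have hodd := c.odd_card_Dn h
  -- `u` normalizes `D`
  have hN : ∀ d ∈ Dn P Q, u * d * u⁻¹ ∈ Dn P Q := by
    intro d hd
    refine ⟨?_, ?_⟩
    · have := (conj_mem_Mn Q u d).2 hd.2
      rwa [huQ] at this
    · have := (conj_mem_Mn P u d).2 hd.1
      rwa [huP] at this
  -- elements of `Kn P` commute with elements of `Cn P`
  have hcomm : ∀ x ∈ Cn P, x * k = k * x := fun x hx =>
    c.comm_Cn P x hx k (c.Kn_le_Cn P hk)
  -- `D` centralizes `k`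
  have hD : ∀ d ∈ Dn P Q, d * k = k * d := by
    intro d hd
    obtain ⟨c', hc', y, hy, hcu, hyu, rfl⟩ := fact_odd hodd hu hN hd
    -- `c'` lies in `Kn Ru = Kn P`
    have hc'K : c' ∈ Kn P := by
      rw [← hKR, c.mem_Kn_iff Ru]
      constructor
      · rw [← c.centralizer_eq hRu hu, Subgroup.mem_centralizer_iff]
        intro t ht
        rw [Set.mem_singleton_iff] at ht
        subst ht
        calc t * c' = (t * c' * t⁻¹) * t := by group
          _ = c' * t := by rw [hcu]
      · have h1 : orderOf c' ∣ Nat.card (Dn P Q) := Subgroup.orderOf_dvd_natCard _ hc'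
        exact Odd.of_dvd_nat hodd h1
    have hc'k : c' * k = k * c' := hcomm c' (c.Kn_le_Cn P hc'K)
    -- `y` centralizes `k`
    have hyk : y * k = k * y := by
      have hyodd : Odd (orderOf y) :=
        Odd.of_dvd_nat hodd (Subgroup.orderOf_dvd_natCard _ hy)
      apply commute_of_sq_commute hyodd
      have h1 : y * k * y⁻¹ ∈ Kn P := c.Kn_normal hy.1 hk
      have h2 : u * (y * k * y⁻¹) * u⁻¹ = y * k * y⁻¹ := hucen _ h1
      have h3 : u * (y * k * y⁻¹) * u⁻¹ = (u * y * u⁻¹) * (u * k * u⁻¹) * (u * y * u⁻¹)⁻¹ := by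
        group
      rw [h3, hyu, hucen k hk, inv_inv] at h2
      -- h2 : y⁻¹ * k * y = y * k * y⁻¹
      calc y ^ 2 * k = y * (y * k * y⁻¹) * y := by rw [pow_two]; group
        _ = y * (y⁻¹ * k * y) * y := by rw [h2]
        _ = k * y ^ 2 := by rw [pow_two]; group
    calc c' * y * k = c' * (y * k) := by group
      _ = c' * (k * y) := by rw [hyk]
      _ = (c' * k) * y := by group
      _ = (k * c') * y := by rw [hc'k]
      _ = k * (c' * y) := by group
  obtain ⟨x, hx, d, hd, rfl⟩ := c.Mn_eq_mul h hm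
  calc x * d * k = x * (d * k) := by group
    _ = x * (k * d) := by rw [hD d hd]
    _ = (x * k) * d := by group
    _ = (k * x) * d := by rw [hcomm x hx]
    _ = k * (x * d) := by group

theorem Kn_central_X (c : Cfg G) {P Q : Sylow 2 G} (h : P ≠ Q) (hK : Kn P = Kn Q) {g : G}
    (hg : g ∈ Subgroup.normalizer ((Kn P : Subgroup G) : Set G)) {k : G} (hk : k ∈ Kn P) :
    g * k = k * g := by
  by_cases hgP : g • P = P
  · exact Kn_central_Mn c h hK (mem_Mn_iff.2 hgP) hk
  · have hKR : Kn (g • P) = Kn P := (mem_normalizer_Kn_iff c).1 hg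
    obtain ⟨v, hv, hvP⟩ := c.exists_swap (Ne.symm hgP)
    have hvX : v ∈ Subgroup.normalizer ((Kn P : Subgroup G) : Set G) := by
      rw [mem_normalizer_Kn_iff c, hvP, hKR]
    obtain ⟨Rv, hRv⟩ := exists_sylow_of_orderOf_two hv
    obtain ⟨-, hvcen⟩ := inv_normalizer_Kn c hv hvX hRv
    have hm : v⁻¹ * g ∈ Mn P := by
      rw [mem_Mn_iff, mul_smul, ← hvP, inv_smul_smul]
    have h1 := Kn_central_Mn c h hK hm hk
    have h2 : v * k = k * v := by
      calc v * k = (v * k * v⁻¹) * v := by group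
        _ = k * v := by rw [hvcen k hk]
    calc g * k = v * ((v⁻¹ * g) * k) := by group
      _ = v * (k * (v⁻¹ * g)) := by rw [h1]
      _ = (v * k) * (v⁻¹ * g) := by group
      _ = (k * v) * (v⁻¹ * g) := by rw [h2]
      _ = k * g := by group

end Cfsg.Agent.Helper2.AIC
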