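import Mathlib
import Cfsg.Agent.Lib.Helper22.W2PDefs

/-!
# S0720 piece ARITH (helper25): the arithmetic at the end of Wielandt's `2p` theorem.
-/

set_option autoImplicit false

namespace Cfsg.Agent.Helper22.W2P

open scoped ComplexConjugate

namespace ARITH

/-- The integer core: `h = 2`. -/
theorem core_int (h A n : ℤ) (h1 : 1 ≤ h) (hE1 : A + 2 * n = 4 * h + 1) (hne : 2 * h ≠ A)
    (hE3 : (2 * h - A) ^ 2 * (4 * h + 1) = A ^ 2) (hdiv : h ∣ (4 * h + 2) * n) : h = 2 := by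
  have hg0 : 2 * h - A ≠ 0 := sub_ne_zero.mpr hne
  have hgd : (2 * h - A) ^ 2 ∣ A ^ 2 := ⟨4 * h + 1, hE3.symm⟩
  have hgA : (2 * h - A) ∣ A := (Int.pow_dvd_pow_iff two_ne_zero).mp hgd
  obtain ⟨w, hw⟩ := hgA
  have hw2 : w ^ 2 = 4 * h + 1 := by
    have h3 : (2 * h - A) ^ 2 * (4 * h + 1) = (2 * h - A) ^ 2 * w ^ 2 := by
      rw [hE3]
      conv_lhs => rw [hw]
      ring
    exact (mul_left_cancel₀ (pow_ne_zero 2 hg0) h3).symm
  -- `g (1 + w) = 2 h`
  have hgw : (2 * h - A) * (1 + w) = 2 * h := by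
    linear_combination -hw
  have hw1 : w + 1 ≠ 0 := by
    intro h0
    have : 1 + w = 0 := by linarith
    rw [this, mul_zero] at hgw
    omega
  have hprod : (w + 1) * (w - 1 - 2 * (2 * h - A)) = 0 := by
    linear_combination hw2 - 2 * hgw
  have h2g : w - 1 = 2 * (2 * h - A) := by
    rcases mul_eq_zero.mp hprod with h0 | h0
    · exact absurd h0 hw1
    · linarith
  -- `2 A = w (w - 1)`, `4 n = w (w + 1)`
  have h2A : 2 * A = w * (w - 1) := by
    rw [h2g]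
    linear_combination 2 * hw
  have h4n : 4 * n = w * (w + 1) := by
    linear_combination 2 * hE1 - h2A - 2 * hw2
  -- `4 h ∣ (4 h + 2) (4 n)`
  have hd1 : (w - 1) * (w + 1) ∣ ((w ^ 2 + 1) * w) * (w + 1) := by
    have h4 : h * 4 ∣ (4 * h + 2) * n * 4 := mul_dvd_mul_right hdiv 4
    have e1 : h * 4 = (w - 1) * (w + 1) := by linear_combination -hw2
    have e2 : (4 * h + 2) * n * 4 = ((w ^ 2 + 1) * w) * (w + 1) := by
      have : 4 * h + 2 = w ^ 2 + 1 := by linear_combination -hw2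
      rw [this]
      linear_combination (w ^ 2 + 1) * h4n
    rwa [e1, e2] at h4
  have hd2 : (w - 1) ∣ (w ^ 2 + 1) * w := (mul_dvd_mul_iff_right hw1).mp hd1
  have hd3 : (w - 1) ∣ 2 := by
    have e3 : (w ^ 2 + 1) * w = (w - 1) * (w ^ 2 + w + 2) + 2 := by ring
    rw [e3] at hd2
    exact (dvd_add_right (dvd_mul_right _ _)).mp hd2
  have hle : w - 1 ≤ 2 := Int.le_of_dvd (by norm_num) hd3
  have hge : -(w - 1) ≤ 2 := Int.le_of_dvd (by norm_num) ((neg_dvd).mpr hd3)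
  have hwl : -1 ≤ w := by linarith
  have hwu : w ≤ 3 := by linarith
  interval_cases w <;> omega

/-- A prime is not the square of an integer. -/
theorem prime_ne_sq (p : ℕ) (hp : p.Prime) (d : ℤ) (hd : d ^ 2 = (p : ℤ)) : False := by
  have h1 : IsSquare (p : ℤ) := ⟨d, by rw [← hd]; ring⟩
  have h2 : IsSquare p := Int.isSquare_natCast_iff.mp h1
  exact hp.prime.irreducible.not_isSquare h2

/-- The case `2 k_a = n_a`. -/
theorem case_eq (p h : ℕ) (hp : p.Prime) (hph : p = 2 * h + 1) (h1 : 1 ≤ h)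
    (x y : ℕ) (hx : 0 < x) (hy : 0 < y) (hxy : x + y = 2 * h + 1)
    (hnorm : ((h : ℚ) - x) ^ 2 / x + ((h : ℚ) - y) ^ 2 / y = 1) : False := by
  have hx0 : (x : ℚ) ≠ 0 := by exact_mod_cast hx.ne'
  have hy0 : (y : ℚ) ≠ 0 := by exact_mod_cast hy.ne'
  have hh0 : (h : ℚ) ≠ 0 := by
    have : 0 < h := h1
    exact_mod_cast this.ne'
  have e1 : ((h : ℚ) - x) ^ 2 / x * (x * y) = ((h : ℚ) - x) ^ 2 * y := by field_simp
  have e2 : ((h : ℚ) - y) ^ 2 / y * (x * y) = ((h : ℚ) - y) ^ 2 * x := by field_simp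
  have hn' : ((h : ℚ) - x) ^ 2 * y + ((h : ℚ) - y) ^ 2 * x = x * y := by
    linear_combination ((x : ℚ) * y) * hnorm - e1 - e2
  have hxyq : (x : ℚ) + y = 2 * h + 1 := by exact_mod_cast hxy
  have h3 : (h : ℚ) * (h * (2 * h + 1) - 2 * x * y) = 0 := by
    have hyq : (y : ℚ) = 2 * h + 1 - x := by linarith
    rw [hyq] at hn' ⊢
    linear_combination hn'
  have h4 : (h : ℚ) * (2 * h + 1) = 2 * x * y := by
    rcases mul_eq_zero.mp h3 with h0 | h0
    · exact absurd h0 hh0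
    · linarith
  have h5 : ((x : ℚ) - y) ^ 2 = 2 * h + 1 := by
    have : ((x : ℚ) - y) ^ 2 = (x + y) ^ 2 - 4 * x * y := by ring
    rw [this, hxyq]
    linear_combination 2 * h4
  have h6 : ((x : ℤ) - y) ^ 2 = (p : ℤ) := by
    have : (((x : ℤ) - y) ^ 2 : ℚ) = ((p : ℤ) : ℚ) := by
      push_cast
      rw [h5, hph]
      push_cast
      ring
    exact_mod_cast this
  exact prime_ne_sq p hp _ h6

/-- The case `2 k_a ≠ n_a`, integrality part: `h ∣ (4 h + 2) n`. -/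
theorem dvd_of_integral (p h n : ℕ) (hph : p = 2 * h + 1) (h1 : 1 ≤ h) (hn : 0 < n) (D : ℂ)
    (hD : 2 * (n : ℂ) * (D * conj D) = (h : ℂ) / p)
    (hint : IsIntegral ℤ ((2 * p : ℂ) / h * n * D)) : (h : ℤ) ∣ (4 * h + 2) * n := by
  have hp0 : (p : ℂ) ≠ 0 := by
    have : p ≠ 0 := by omega
    exact_mod_cast this
  have hh0 : (h : ℂ) ≠ 0 := by
    have : h ≠ 0 := by omega
    exact_mod_cast this
  have hhq : (h : ℚ) ≠ 0 := by
    have : h ≠ 0 := by omega
    exact_mod_cast this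
  have hc : IsIntegral ℤ (conj ((2 * p : ℂ) / h * n * D)) := map_isIntegral_int (starRingEnd ℂ) hint
  have hm := hint.mul hc
  have e : (2 * p : ℂ) / h * n * D * conj ((2 * p : ℂ) / h * n * D) =
      algebraMap ℚ ℂ ((2 * p : ℚ) * n / h) := by
    have e1 : conj ((2 * p : ℂ) / h * n * D) = (2 * p : ℂ) / h * n * conj D := by
      simp only [map_mul, map_div₀, map_natCast, map_ofNat]
    rw [e1]
    have e2 : (2 * p : ℂ) / h * n * D * ((2 * p : ℂ) / h * n * conj D) =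
        ((2 * p : ℂ) / h) ^ 2 * n / 2 * (2 * (n : ℂ) * (D * conj D)) := by ring
    rw [e2, hD]
    simp only [map_div₀, map_mul, map_natCast, map_ofNat]
    field_simp
  rw [e, isIntegral_algebraMap_iff (algebraMap ℚ ℂ).injective] at hm
  obtain ⟨m, hm⟩ := IsIntegrallyClosed.isIntegral_iff.mp hm
  have h3 : (m : ℚ) * h = 2 * p * n := by
    have : (algebraMap ℤ ℚ m) = (m : ℚ) := rfl
    rw [this] at hm
    rw [hm]
    field_simp
  have h4 : m * (h : ℤ) = 2 * p * n := by exact_mod_cast h3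
  refine ⟨m, ?_⟩
  rw [hph] at h4
  push_cast at h4
  linear_combination -h4

/-- The core with the three indices made explicit. -/
theorem core (p h : ℕ) (hp : p.Prime) (hph : p = 2 * h + 1) (h1 : 1 ≤ h)
    (nA nB nC kA kB kC : ℕ) (hn : nA + nB + nC = 4 * h + 1)
    (hkA : kA = h) (hkB : 2 * kB = h) (hkC : 2 * kC = h)
    (hnA : 0 < nA) (hnB : 0 < nB) (hnC : 0 < nC)
    (hnorm : (2 * (kA : ℚ) - nA) ^ 2 / nA + (2 * (kB : ℚ) - nB) ^ 2 / nB +
      (2 * (kC : ℚ) - nC) ^ 2 / nC = 1)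
    (hpair : 2 * kA ≠ nA →
      ((2 * (kB : ℚ) - nB) / nB = -((2 * (kA : ℚ) - nA) / nA) ∧
        (2 * (kC : ℚ) - nC) / nC = -((2 * (kA : ℚ) - nA) / nA)))
    (DA DB DC : ℂ) (hDa : (nA : ℂ) * DA + nB * DB + nC * DC = 0)
    (hDb : (2 * (kA : ℂ) - nA) * DA + (2 * (kB : ℂ) - nB) * DB + (2 * (kC : ℂ) - nC) * DC = 0)
    (hDc : (nA : ℂ) * (DA * conj DA) + nB * (DB * conj DB) + nC * (DC * conj DC) = (h : ℂ) / p)
    (hDint : IsIntegral ℤ ((2 * p : ℂ) / h * nB * DB)) : p = 5 := by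
  have hkBq : 2 * (kB : ℚ) = h := by exact_mod_cast hkB
  have hkCq : 2 * (kC : ℚ) = h := by exact_mod_cast hkC
  have hkBc : 2 * (kB : ℂ) = h := by exact_mod_cast hkB
  have hkCc : 2 * (kC : ℂ) = h := by exact_mod_cast hkC
  have hA0 : (nA : ℚ) ≠ 0 := by exact_mod_cast hnA.ne'
  have hB0 : (nB : ℚ) ≠ 0 := by exact_mod_cast hnB.ne'
  have hC0 : (nC : ℚ) ≠ 0 := by exact_mod_cast hnC.ne'
  have hh0 : (h : ℚ) ≠ 0 := by
    have : h ≠ 0 := by omega
    exact_mod_cast this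
  subst hkA
  rw [hkBq, hkCq] at hnorm
  by_cases hcase : 2 * kA = nA
  · -- `n_a = 2 h`
    exfalso
    have hcq : 2 * (kA : ℚ) = nA := by exact_mod_cast hcase
    rw [hcq, sub_self] at hnorm
    have hn2 : ((kA : ℚ) - nB) ^ 2 / nB + ((kA : ℚ) - nC) ^ 2 / nC = 1 := by
      rw [← hnorm]
      simp
    exact case_eq p kA hp hph h1 nB nC hnB hnC (by omega) hn2
  · obtain ⟨hvB, hvC⟩ := hpair hcase
    rw [hkBq] at hvB
    rw [hkCq] at hvC
    -- `n_b = n_c`
    have hBC : (nB : ℚ) = nC := by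
      have e1 : ((kA : ℚ) - nB) / nB = ((kA : ℚ) - nC) / nC := by rw [hvB, hvC]
      rw [div_eq_div_iff hB0 hC0] at e1
      have e2 : (kA : ℚ) * (nC - nB) = 0 := by linear_combination e1
      rcases mul_eq_zero.mp e2 with h0 | h0
      · exact absurd h0 hh0
      · linarith
    have hBCn : nB = nC := by exact_mod_cast hBC
    subst hBCn
    -- R1
    have hR1 : ((kA : ℚ) - nB) * nA = -((2 * (kA : ℚ) - nA) * nB) := by
      have e1 := hvB
      rw [neg_div' , div_eq_div_iff hB0 hA0] at e1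
      linear_combination e1
    have hE1 : (nA : ℚ) + 2 * nB = 4 * kA + 1 := by
      have : nA + 2 * nB = 4 * kA + 1 := by omega
      exact_mod_cast this
    have t1 : (2 * (kA : ℚ) - nA) ^ 2 / nA * (nA * nB) = (2 * (kA : ℚ) - nA) ^ 2 * nB := by
      field_simp
    have t2 : ((kA : ℚ) - nB) ^ 2 / nB * (nA * nB) = ((kA : ℚ) - nB) ^ 2 * nA := by
      field_simp
    have hn' : (2 * (kA : ℚ) - nA) ^ 2 * nB + 2 * (((kA : ℚ) - nB) ^ 2 * nA) = nA * nB := by
      linear_combination ((nA : ℚ) * nB) * hnorm - t1 - 2 * t2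
    have hE3q : (2 * (kA : ℚ) - nA) ^ 2 * (4 * kA + 1) = (nA : ℚ) ^ 2 := by
      have e3 : (nB : ℚ) * ((2 * (kA : ℚ) - nA) ^ 2 * (nA + 2 * nB) - (nA : ℚ) ^ 2) = 0 := by
        linear_combination (nA : ℚ) * hn' -
          (2 * (((kA : ℚ) - nB) * nA - (2 * (kA : ℚ) - nA) * nB)) * hR1
      rcases mul_eq_zero.mp e3 with h0 | h0
      · exact absurd h0 hB0
      · rw [hE1] at h0
        linarith
    -- the `D` part
    have hAc : (nA : ℂ) ≠ 0 := by exact_mod_cast hnA.ne'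
    have hBc : (nB : ℂ) ≠ 0 := by exact_mod_cast hnB.ne'
    have hgc : 2 * (kA : ℂ) - nA ≠ 0 := by
      intro h0
      apply hcase
      have : 2 * (kA : ℂ) = nA := by linear_combination h0
      exact_mod_cast this
    have hR1c : ((kA : ℂ) - nB) * nA = -((2 * (kA : ℂ) - nA) * nB) := by
      have : (((((kA : ℚ) - nB) * nA : ℚ)) : ℂ) = ((-((2 * (kA : ℚ) - nA) * nB) : ℚ) : ℂ) := by
        rw [hR1]
      push_cast at this
      exact this
    rw [hkBc, hkCc] at hDb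
    have hsum : DB + DC = 0 := by
      have e4 : (2 * (kA : ℂ) - nA) * nB * (DB + DC) = 0 := by
        linear_combination (-(1 : ℂ) / 2) * (nA : ℂ) * hDb + ((1 : ℂ) / 2) * (2 * (kA : ℂ) - nA) * hDa
          + ((1 : ℂ) / 2) * (DB + DC) * hR1c
      rcases mul_eq_zero.mp e4 with h0 | h0
      · rcases mul_eq_zero.mp h0 with h0 | h0
        · exact absurd h0 hgc
        · exact absurd h0 hBc
      · exact h0
    have hDC : DC = -DB := by linear_combination hsum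
    have hDA : DA = 0 := by
      have e5 : (nA : ℂ) * DA = 0 := by linear_combination hDa - (nB : ℂ) * hsum
      rcases mul_eq_zero.mp e5 with h0 | h0
      · exact absurd h0 hAc
      · exact h0
    have hD2 : 2 * (nB : ℂ) * (DB * conj DB) = (kA : ℂ) / p := by
      rw [hDA, hDC] at hDc
      rw [← hDc]
      simp only [map_neg, map_zero]
      ring
    have hdvd := dvd_of_integral p kA nB hph h1 hnB DB hD2 hDint
    -- integer core
    have hcore : (kA : ℤ) = 2 := by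
      refine core_int (kA : ℤ) (nA : ℤ) (nB : ℤ) (by exact_mod_cast h1) ?_ ?_ ?_ hdvd
      · exact_mod_cast hE1
      · intro h0
        apply hcase
        exact_mod_cast h0
      · exact_mod_cast hE3q
    have : kA = 2 := by exact_mod_cast hcore
    omega

end ARITH

/-- PIECE ARITH. -/
theorem arith (p h : ℕ) (hp : p.Prime) (hh : 2 * h = p - 1) (hp3 : 3 ≤ p)
    (n k : Fin 3 → ℕ) (hn : ∑ i, n i = 2 * p - 1) (hk : ∑ i, k i = p - 1)
    (hn0 : ∀ i, 0 < n i) (hk0 : ∀ i, 0 < k i) (hdvd : ∀ i, h ∣ 2 * k i)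
    (hnorm : ∑ i, ((2 * (k i : ℚ) - n i) ^ 2 / n i) = 1)
    (hpair : ∀ a b c : Fin 3, a ≠ b → a ≠ c → b ≠ c → k a = k b + k c → 2 * k a ≠ n a →
      ((2 * (k b : ℚ) - n b) / n b = -((2 * (k a : ℚ) - n a) / n a) ∧
        (2 * (k c : ℚ) - n c) / n c = -((2 * (k a : ℚ) - n a) / n a)))
    (D : Fin 3 → ℂ) (hDa : ∑ i, (n i : ℂ) * D i = 0)
    (hDb : ∑ i, (2 * (k i : ℂ) - n i) * D i = 0)
    (hDc : ∑ i, (n i : ℂ) * (D i * conj (D i)) = (h : ℂ) / p)
    (hDint : ∀ i, IsIntegral ℤ ((2 * p : ℂ) / h * n i * D i)) : p = 5 := by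
  have hph : p = 2 * h + 1 := by omega
  have h1 : 1 ≤ h := by omega
  rw [Fin.sum_univ_three] at hn hk hnorm hDa hDb hDc
  obtain ⟨m0, hm0⟩ := hdvd 0
  obtain ⟨m1, hm1⟩ := hdvd 1
  obtain ⟨m2, hm2⟩ := hdvd 2
  have hk0' := hk0 0
  have hk1' := hk0 1
  have hk2' := hk0 2
  have hm0p : 1 ≤ m0 := by
    rcases Nat.eq_zero_or_pos m0 with h0 | h0
    · rw [h0, mul_zero] at hm0
      omega
    · exact h0
  have hm1p : 1 ≤ m1 := by
    rcases Nat.eq_zero_or_pos m1 with h0 | h0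
    · rw [h0, mul_zero] at hm1
      omega
    · exact h0
  have hm2p : 1 ≤ m2 := by
    rcases Nat.eq_zero_or_pos m2 with h0 | h0
    · rw [h0, mul_zero] at hm2
      omega
    · exact h0
  have hsum : h * (m0 + m1 + m2) = h * 4 := by
    rw [mul_add, mul_add, ← hm0, ← hm1, ← hm2]
    omega
  have hm : m0 + m1 + m2 = 4 := Nat.eq_of_mul_eq_mul_left h1 hsum
  have hcases : (m0 = 2 ∧ m1 = 1 ∧ m2 = 1) ∨ (m0 = 1 ∧ m1 = 2 ∧ m2 = 1) ∨
      (m0 = 1 ∧ m1 = 1 ∧ m2 = 2) := by omega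
  rcases hcases with ⟨e0, e1, e2⟩ | ⟨e0, e1, e2⟩ | ⟨e0, e1, e2⟩
  · subst e0 e1 e2
    exact ARITH.core p h hp hph h1 (n 0) (n 1) (n 2) (k 0) (k 1) (k 2) (by omega) (by omega)
      (by omega) (by omega) (hn0 0) (hn0 1) (hn0 2) hnorm
      (fun hc => hpair 0 1 2 (by decide) (by decide) (by decide) (by omega) hc)
      (D 0) (D 1) (D 2) hDa hDb hDc (hDint 1)
  · subst e0 e1 e2
    exact ARITH.core p h hp hph h1 (n 1) (n 0) (n 2) (k 1) (k 0) (k 2) (by omega) (by omega)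
      (by omega) (by omega) (hn0 1) (hn0 0) (hn0 2) (by rw [← hnorm]; ring)
      (fun hc => hpair 1 0 2 (by decide) (by decide) (by decide) (by omega) hc)
      (D 1) (D 0) (D 2) (by linear_combination hDa) (by linear_combination hDb)
      (by linear_combination hDc) (hDint 0)
  · subst e0 e1 e2
    exact ARITH.core p h hp hph h1 (n 2) (n 0) (n 1) (k 2) (k 0) (k 1) (by omega) (by omega)
      (by omega) (by omega) (hn0 2) (hn0 0) (hn0 1) (by rw [← hnorm]; ring)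
      (fun hc => hpair 2 0 1 (by decide) (by decide) (by decide) (by omega) hc)
      (D 2) (D 0) (D 1) (by linear_combination hDa) (by linear_combination hDb)
      (by linear_combination hDc) (hDint 0)

end Cfsg.Agent.Helper22.W2P
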