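import Mathlib

/-!
# S4707 (helper16's farm-out), PIECE GRP1 (helper25): `|N_G(P)| = 2p`, `p > 3` ⟹ `|P| = p`.
-/

set_option autoImplicit false

namespace Cfsg.Agent.Helper16.ITO

universe u

variable {G : Type u} [Group G] [Finite G]

/-- PIECE GRP1. -/
theorem card_sylow_eq (p : ℕ) [Fact p.Prime] (hp : 3 < p) (P : Sylow p G)
    (hN : Nat.card (Subgroup.normalizer ((P : Subgroup G) : Set G)) = 2 * p) :
    Nat.card (P : Subgroup G) = p := by
  have hpp : p.Prime := Fact.out
  obtain ⟨k, hk⟩ := IsPGroup.exists_card_eq P.2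
  have hdvd : Nat.card (P : Subgroup G) ∣ 2 * p := by
    rw [← hN]
    exact Subgroup.card_dvd_of_le Subgroup.le_normalizer
  rw [hk] at hdvd ⊢
  have hk1 : k ≤ 1 := by
    by_contra hlt
    push Not at hlt
    have h2 : p ^ 2 ∣ 2 * p := (pow_dvd_pow p hlt).trans hdvd
    rw [pow_two, mul_comm 2 p] at h2
    have h3 : p ∣ 2 := Nat.dvd_of_mul_dvd_mul_left hpp.pos h2
    have := Nat.le_of_dvd (by norm_num) h3
    omega
  rcases Nat.eq_zero_or_pos k with h0 | h0
  · exfalso
    rw [h0, pow_zero] at hk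
    have hbot : (P : Subgroup G) = ⊥ := Subgroup.card_eq_one.mp hk
    have htop : Subgroup.normalizer ((P : Subgroup G) : Set G) = ⊤ := by
      rw [hbot]
      exact Subgroup.normalizer_eq_top_iff.mpr inferInstance
    rw [htop, Subgroup.card_top] at hN
    have hpd : p ∣ Nat.card G := ⟨2, by rw [hN]; ring⟩
    exact Sylow.ne_bot_of_dvd_card P hpd hbot
  · have : k = 1 := by omega
    rw [this, pow_one]

end Cfsg.Agent.Helper16.ITO
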