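import Mathlib
import Cfsg.Agent.Lib.Helper15.W2PNORM

/-!
# S4707 (helper16's farm-out), PIECE GRP6 (helper25): in a primitive group of degree `2p` with `|P| = p`, every
nontrivial normal subgroup contains `P`.
-/

set_option autoImplicit false
set_option linter.style.haveILetI false

namespace Cfsg.Agent.Helper16.ITO

universe u v

variable {G : Type u} [Group G] [Finite G]

namespace GRP6

/-- a normal subgroup containing an element of order `p` contains every Sylow `p`-subgroup of order `p` -/
theorem le_of_mem_orderOf (p : ℕ) [Fact p.Prime] (P : Sylow p G)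
    (hcard : Nat.card (P : Subgroup G) = p) (N : Subgroup G) (hN : N.Normal) (x : G) (hx : x ∈ N)
    (hox : orderOf x = p) : (P : Subgroup G) ≤ N := by
  have hpp : p.Prime := Fact.out
  -- `⟨x⟩` is a `p`-group, inside a Sylow `p`-subgroup `P'`
  have hpg : IsPGroup p (Subgroup.zpowers x) := by
    apply IsPGroup.of_card (n := 1)
    rw [Nat.card_zpowers, hox, pow_one]
  obtain ⟨P', hP'⟩ := hpg.exists_le_sylow
  obtain ⟨g, hg⟩ := MulAction.exists_smul_eq G P' P
  -- `g x g⁻¹ ∈ P`
  have hmem : g * x * g⁻¹ ∈ (P : Subgroup G) := by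
    rw [← hg, Sylow.coe_subgroup_smul]
    have h1 : x ∈ (P' : Subgroup G) := hP' (Subgroup.mem_zpowers x)
    have h2 := Subgroup.smul_mem_pointwise_smul x (MulAut.conj g) (P' : Subgroup G) h1
    rwa [MulAut.smul_def, MulAut.conj_apply] at h2
  have hord : orderOf (g * x * g⁻¹) = p := by
    have := orderOf_injective (MulAut.conj g).toMonoidHom (MulAut.conj g).injective x
    rw [← hox, ← this]
    rfl
  have hyN : g * x * g⁻¹ ∈ N := hN.conj_mem x hx g
  have hle : Subgroup.zpowers (g * x * g⁻¹) ≤ (P : Subgroup G) := by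
    rw [Subgroup.zpowers_le]
    exact hmem
  have heq : Subgroup.zpowers (g * x * g⁻¹) = (P : Subgroup G) := by
    apply Subgroup.eq_of_le_of_card_ge hle
    rw [Nat.card_zpowers, hord, hcard]
  rw [← heq, Subgroup.zpowers_le]
  exact hyN

end GRP6

variable {Ω : Type v} [Fintype Ω] [DecidableEq Ω] [MulAction G Ω]

/-- PIECE GRP6. -/
theorem le_of_normal [FaithfulSMul G Ω] (hprim : MulAction.IsPreprimitive G Ω) (p : ℕ) [Fact p.Prime]
    (hΩ : Fintype.card Ω = 2 * p) (P : Sylow p G) (hcard : Nat.card (P : Subgroup G) = p)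
    (N : Subgroup G) (hN : N.Normal) (hne : N ≠ ⊥) : (P : Subgroup G) ≤ N := by
  have hpp : p.Prime := Fact.out
  haveI : Fintype G := Fintype.ofFinite G
  haveI := hN
  haveI htr : MulAction.IsPretransitive N Ω := Cfsg.Agent.Helper22.W2P.normal_transitive hprim N hne
  -- `2p = |Ω|` divides `|N|`
  haveI : Nonempty Ω := by
    rw [← Fintype.card_pos_iff, hΩ]
    have := hpp.pos
    omega
  obtain ⟨a⟩ := ‹Nonempty Ω›
  have hdvd : Nat.card Ω ∣ Nat.card N := by
    have h1 := MulAction.index_stabilizer N a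
    have h2 : MulAction.orbit N a = Set.univ := MulAction.orbit_eq_univ N a
    rw [h2, Set.ncard_univ] at h1
    rw [← h1]
    exact Subgroup.index_dvd_card _
  have hpN : p ∣ Nat.card N := by
    refine Dvd.dvd.trans ?_ hdvd
    rw [Nat.card_eq_fintype_card, hΩ]
    exact Dvd.intro_left 2 rfl
  obtain ⟨y, hy⟩ := exists_prime_orderOf_dvd_card' p hpN
  refine GRP6.le_of_mem_orderOf p P hcard N hN (y : G) y.2 ?_
  rw [← hy]
  exact (Subgroup.orderOf_coe y)

end Cfsg.Agent.Helper16.ITO
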