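import Mathlib
import Cfsg.Agent.Lib.Helper25.ITOGRP6

/-!
# S4707 (helper16's farm-out), PIECE GRP2 (helper25): `C_G(P) = P`.
-/

set_option autoImplicit false
set_option linter.style.haveILetI false
set_option linter.unusedSectionVars false

namespace Cfsg.Agent.Helper16.ITO

universe u v

variable {G : Type u} [Group G] [Finite G]

variable {Ω : Type v} [Fintype Ω] [DecidableEq Ω] [MulAction G Ω]

namespace GRP2

/-- the degree divides the order of a transitive group -/
theorem card_dvd_of_prim (hprim : MulAction.IsPreprimitive G Ω) (a : Ω) :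
    Nat.card Ω ∣ Nat.card G := by
  haveI := hprim.toIsPretransitive
  have h1 := MulAction.index_stabilizer G a
  have h2 : MulAction.orbit G a = Set.univ := MulAction.orbit_eq_univ G a
  rw [h2, Set.ncard_univ] at h1
  rw [← h1]
  exact Subgroup.index_dvd_card _

/-- `2p ∣ |G|` -/
theorem two_mul_dvd (hprim : MulAction.IsPreprimitive G Ω) (p : ℕ) [Fact p.Prime]
    (hΩ : Fintype.card Ω = 2 * p) : 2 * p ∣ Nat.card G := by
  have hpp : p.Prime := Fact.out
  haveI : Nonempty Ω := by
    rw [← Fintype.card_pos_iff, hΩ]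
    have := hpp.pos
    omega
  obtain ⟨a⟩ := ‹Nonempty Ω›
  have h := card_dvd_of_prim hprim a
  rwa [Nat.card_eq_fintype_card, hΩ] at h

/-- a primitive group of degree `2p` with a Sylow `p`-subgroup of order `p` has no normal `p`-complement -/
theorem not_isComplement' [FaithfulSMul G Ω] (hprim : MulAction.IsPreprimitive G Ω) (p : ℕ)
    [Fact p.Prime] (hΩ : Fintype.card Ω = 2 * p) (P : Sylow p G)
    (hcard : Nat.card (P : Subgroup G) = p) (K : Subgroup G) (hK : K.Normal)
    (hc : K.IsComplement' (P : Subgroup G)) : False := by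
  have hpp : p.Prime := Fact.out
  by_cases hbot : K = ⊥
  · rw [hbot, Subgroup.isComplement'_bot_left] at hc
    have h2 := two_mul_dvd hprim p hΩ
    rw [← Subgroup.card_top (G := G), ← hc, hcard] at h2
    have := Nat.le_of_dvd hpp.pos h2
    have := hpp.pos
    omega
  · have hle := le_of_normal hprim p hΩ P hcard K hK hbot
    have hdisj := hc.disjoint
    have : (P : Subgroup G) = ⊥ := by
      rw [eq_bot_iff]
      exact hdisj hle le_rfl
    rw [this, Subgroup.card_bot] at hcard
    exact hpp.one_lt.ne hcard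

/-- Burnside: `N(P) ≤ C(P)` is impossible -/
theorem not_normalizer_le [FaithfulSMul G Ω] (hprim : MulAction.IsPreprimitive G Ω) (p : ℕ)
    [Fact p.Prime] (hΩ : Fintype.card Ω = 2 * p) (P : Sylow p G)
    (hcard : Nat.card (P : Subgroup G) = p)
    (hP : Subgroup.normalizer ((P : Subgroup G) : Set G) ≤ Subgroup.centralizer ((P : Subgroup G) : Set G)) :
    False :=
  not_isComplement' hprim p hΩ P hcard _ inferInstance
    (MonoidHom.ker_transferSylow_isComplement' P hP)

/-- a subgroup of prime order is contained in its centralizer -/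
theorem le_centralizer (p : ℕ) [Fact p.Prime] (P : Subgroup G) (hcard : Nat.card P = p) :
    P ≤ Subgroup.centralizer (P : Set G) := by
  haveI : IsCyclic P := isCyclic_of_prime_card hcard
  intro a ha b hb
  have := IsCyclic.commGroup.mul_comm (⟨b, hb⟩ : P) ⟨a, ha⟩
  exact congrArg Subtype.val this

end GRP2

/-- PIECE GRP2. -/
theorem centralizer_eq [FaithfulSMul G Ω] (hprim : MulAction.IsPreprimitive G Ω) (p : ℕ) [Fact p.Prime]
    (hp2 : p ≠ 2) (hΩ : Fintype.card Ω = 2 * p) (P : Sylow p G) (hcard : Nat.card (P : Subgroup G) = p)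
    (hN : Nat.card (Subgroup.normalizer ((P : Subgroup G) : Set G)) = 2 * p) :
    Subgroup.centralizer ((P : Subgroup G) : Set G) = (P : Subgroup G) := by
  have hpp : p.Prime := Fact.out
  have hPC := GRP2.le_centralizer p (P : Subgroup G) hcard
  have hCN : Subgroup.centralizer ((P : Subgroup G) : Set G) ≤
      Subgroup.normalizer ((P : Subgroup G) : Set G) := Subgroup.centralizer_le_normalizer _
  by_contra hne
  apply GRP2.not_normalizer_le hprim p hΩ P hcard
  -- `|C| = 2p`
  have h1 : p ∣ Nat.card (Subgroup.centralizer ((P : Subgroup G) : Set G)) := by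
    have := Subgroup.card_dvd_of_le hPC
    rwa [hcard] at this
  have h2 : Nat.card (Subgroup.centralizer ((P : Subgroup G) : Set G)) ∣ 2 * p := by
    rw [← hN]
    exact Subgroup.card_dvd_of_le hCN
  obtain ⟨k, hk⟩ := h1
  have hk2 : k ∣ 2 := by
    rw [hk, mul_comm 2 p] at h2
    exact Nat.dvd_of_mul_dvd_mul_left hpp.pos h2
  have hk12 : k = 1 ∨ k = 2 := (Nat.dvd_prime Nat.prime_two).mp hk2
  rcases hk12 with rfl | rfl
  · exfalso
    apply hne
    symm
    apply Subgroup.eq_of_le_of_card_ge hPC
    rw [hk, hcard, mul_one]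
  · have heq : Subgroup.centralizer ((P : Subgroup G) : Set G) =
        Subgroup.normalizer ((P : Subgroup G) : Set G) := by
      apply Subgroup.eq_of_le_of_card_ge hCN
      rw [hN, hk, mul_comm]
    rw [heq]

end Cfsg.Agent.Helper16.ITO
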