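import Mathlib
import Cfsg.Agent.Lib.Helper25.ITOGRP6
import Cfsg.Agent.Lib.Helper25.ITOGRP2

/-!
# S4707 (helper16's farm-out), PIECE GRP5 (helper25): `G` is simple.
-/

set_option autoImplicit false
set_option linter.style.haveILetI false
set_option linter.unusedSectionVars false

namespace Cfsg.Agent.Helper16.ITO

universe u v

namespace GRP5

section Burnside

variable {K : Type u} [Group K] [Finite K] {p : ℕ} [Fact p.Prime] (P : Sylow p K)
  (hP : Subgroup.normalizer ((P : Subgroup K) : Set K) ≤ Subgroup.centralizer ((P : Subgroup K) : Set K))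

/-- the kernel of the Burnside transfer consists of the `p'`-elements -/
theorem mem_ker_iff (x : K) : x ∈ (MonoidHom.transferSylow P hP).ker ↔ ¬ p ∣ orderOf x := by
  have hpp : p.Prime := Fact.out
  constructor
  · intro hx hd
    apply MonoidHom.not_dvd_card_ker_transferSylow P hP
    refine hd.trans ?_
    have h1 : orderOf (⟨x, hx⟩ : (MonoidHom.transferSylow P hP).ker) = orderOf x :=
      Subgroup.orderOf_mk x hx
    rw [← h1]
    exact orderOf_dvd_natCard _
  · intro hx
    rw [MonoidHom.mem_ker]
    by_contra hne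
    apply hx
    have h1 : orderOf (MonoidHom.transferSylow P hP x) ∣ orderOf x := orderOf_map_dvd _ x
    refine Dvd.dvd.trans ?_ h1
    obtain ⟨k, hk⟩ := (IsPGroup.iff_orderOf.mp P.2) (MonoidHom.transferSylow P hP x)
    rw [hk]
    rcases Nat.eq_zero_or_pos k with h0 | h0
    · exfalso
      rw [h0, pow_zero, orderOf_eq_one_iff] at hk
      exact hne hk
    · exact dvd_pow_self p h0.ne'

/-- the normal `p`-complement is characteristic -/
theorem ker_characteristic : (MonoidHom.transferSylow P hP).ker.Characteristic := by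
  rw [Subgroup.characteristic_iff_comap_le]
  intro φ x hx
  rw [Subgroup.mem_comap] at hx
  rw [mem_ker_iff P hP] at hx ⊢
  have : orderOf (φ.toMonoidHom x) = orderOf x := orderOf_injective φ.toMonoidHom φ.injective x
  rwa [this] at hx

end Burnside


variable {G : Type u} [Group G] [Finite G]

/-- `|N : P| = 2` -/
theorem relIndex_eq_two (p : ℕ) [Fact p.Prime] (P : Sylow p G)
    (hcard : Nat.card (P : Subgroup G) = p)
    (hN : Nat.card (Subgroup.normalizer ((P : Subgroup G) : Set G)) = 2 * p) :
    (P : Subgroup G).relIndex (Subgroup.normalizer ((P : Subgroup G) : Set G)) = 2 := by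
  have hpp : p.Prime := Fact.out
  have h1 := Subgroup.relIndex_mul_index (Subgroup.le_normalizer (H := (P : Subgroup G)))
  have h2 := Subgroup.card_mul_index (P : Subgroup G)
  have h3 := Subgroup.card_mul_index (Subgroup.normalizer ((P : Subgroup G) : Set G))
  rw [hcard] at h2
  rw [hN] at h3
  have h4 : (Subgroup.normalizer ((P : Subgroup G) : Set G)).index ≠ 0 :=
    Subgroup.index_ne_zero_of_finite
  have h5 : p * ((P : Subgroup G).relIndex (Subgroup.normalizer ((P : Subgroup G) : Set G)) *
      (Subgroup.normalizer ((P : Subgroup G) : Set G)).index) =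
      p * (2 * (Subgroup.normalizer ((P : Subgroup G) : Set G)).index) := by
    rw [h1, h2, ← h3]
    ring
  have h6 := Nat.eq_of_mul_eq_mul_left hpp.pos h5
  exact Nat.eq_of_mul_eq_mul_right (Nat.pos_of_ne_zero h4) h6

/-- the index of a normal subgroup containing `P` divides `2`, and in the case of index `2` it meets `N(P)` in `P` -/
theorem index_cases (p : ℕ) [Fact p.Prime] (P : Sylow p G)
    (hcard : Nat.card (P : Subgroup G) = p)
    (hN : Nat.card (Subgroup.normalizer ((P : Subgroup G) : Set G)) = 2 * p)
    (K : Subgroup G) [K.Normal] (hle : (P : Subgroup G) ≤ K) :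
    K = ⊤ ∨ K ⊓ Subgroup.normalizer ((P : Subgroup G) : Set G) ≤ (P : Subgroup G) := by
  have hF : Subgroup.normalizer ((P : Subgroup G) : Set G) ⊔ K = ⊤ :=
    Sylow.normalizer_sup_eq_top' P hle
  have h1 : K.index = K.relIndex (Subgroup.normalizer ((P : Subgroup G) : Set G)) := by
    rw [← Subgroup.relIndex_top_right, ← hF, Subgroup.relIndex_sup_right]
  have h2 : K.relIndex (Subgroup.normalizer ((P : Subgroup G) : Set G)) ∣
      (P : Subgroup G).relIndex (Subgroup.normalizer ((P : Subgroup G) : Set G)) :=
    Subgroup.relIndex_dvd_of_le_left _ hle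
  rw [relIndex_eq_two p P hcard hN] at h2
  rcases (Nat.dvd_prime Nat.prime_two).mp h2 with h3 | h3
  · left
    rw [← h1] at h3
    exact Subgroup.index_eq_one.mp h3
  · right
    have h4 : (K ⊓ Subgroup.normalizer ((P : Subgroup G) : Set G)).relIndex
        (Subgroup.normalizer ((P : Subgroup G) : Set G)) = 2 := by
      rw [Subgroup.inf_relIndex_right, h3]
    have h5 := Subgroup.relIndex_mul_relIndex (P : Subgroup G)
      (K ⊓ Subgroup.normalizer ((P : Subgroup G) : Set G))
      (Subgroup.normalizer ((P : Subgroup G) : Set G)) (le_inf hle Subgroup.le_normalizer) inf_le_right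
    rw [h4, relIndex_eq_two p P hcard hN] at h5
    have h6 : (P : Subgroup G).relIndex (K ⊓ Subgroup.normalizer ((P : Subgroup G) : Set G)) = 1 := by
      omega
    exact Subgroup.relIndex_eq_one.mp h6


variable {Ω : Type v} [Fintype Ω] [DecidableEq Ω] [MulAction G Ω]

/-- `2p` divides the order of a nontrivial normal subgroup -/
theorem two_mul_dvd_normal [FaithfulSMul G Ω] (hprim : MulAction.IsPreprimitive G Ω) (p : ℕ)
    [Fact p.Prime] (hΩ : Fintype.card Ω = 2 * p) (N : Subgroup G) (hN : N.Normal) (hne : N ≠ ⊥) :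
    2 * p ∣ Nat.card N := by
  have hpp : p.Prime := Fact.out
  haveI : Fintype G := Fintype.ofFinite G
  haveI := hN
  haveI htr : MulAction.IsPretransitive N Ω := Cfsg.Agent.Helper22.W2P.normal_transitive hprim N hne
  haveI : Nonempty Ω := by
    rw [← Fintype.card_pos_iff, hΩ]
    have := hpp.pos
    omega
  obtain ⟨a⟩ := ‹Nonempty Ω›
  have h1 := MulAction.index_stabilizer N a
  have h2 : MulAction.orbit N a = Set.univ := MulAction.orbit_eq_univ N a
  rw [h2, Set.ncard_univ, Nat.card_eq_fintype_card, hΩ] at h1
  rw [← h1]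
  exact Subgroup.index_dvd_card _

/-- the case of index `2` is impossible -/
theorem not_index_two [FaithfulSMul G Ω] (hprim : MulAction.IsPreprimitive G Ω) (p : ℕ)
    [Fact p.Prime] (hΩ : Fintype.card Ω = 2 * p) (P : Sylow p G)
    (hcard : Nat.card (P : Subgroup G) = p) (K : Subgroup G) [hKn : K.Normal] (hKne : K ≠ ⊥)
    (hle : (P : Subgroup G) ≤ K)
    (hKN : K ⊓ Subgroup.normalizer ((P : Subgroup G) : Set G) ≤ (P : Subgroup G)) : False := by
  have hpp : p.Prime := Fact.out
  -- the Sylow subgroup of `K`
  have hPKcard : Nat.card ((P.subtype hle : Sylow p K) : Subgroup K) = p := by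
    rw [Sylow.coe_subtype]
    exact (Nat.card_congr (Subgroup.subgroupOfEquivOfLe hle).toEquiv).trans hcard
  have hPK : Subgroup.normalizer (((P.subtype hle : Sylow p K) : Subgroup K) : Set K) ≤
      Subgroup.centralizer (((P.subtype hle : Sylow p K) : Subgroup K) : Set K) := by
    intro x hx
    have hx' : x ∈ (Subgroup.normalizer ((P : Subgroup G) : Set G)).subgroupOf K := by
      rw [Subgroup.subgroupOf_normalizer_eq hle]
      exact hx
    rw [Subgroup.mem_subgroupOf] at hx'
    have hxP : (x : G) ∈ (P : Subgroup G) := hKN ⟨x.2, hx'⟩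
    have hxPK : x ∈ ((P.subtype hle : Sylow p K) : Subgroup K) := by
      rw [Sylow.coe_subtype, Subgroup.mem_subgroupOf]
      exact hxP
    exact GRP2.le_centralizer p _ hPKcard hxPK
  have hchar := ker_characteristic (P.subtype hle) hPK
  have hcompl := MonoidHom.ker_transferSylow_isComplement' (P.subtype hle) hPK
  haveI := hchar
  have hnormal : ((MonoidHom.transferSylow (P.subtype hle) hPK).ker.map K.subtype).Normal :=
    ConjAct.normal_of_characteristic_of_normal
  by_cases hbot : (MonoidHom.transferSylow (P.subtype hle) hPK).ker.map K.subtype = ⊥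
  · -- `|K| = p`
    rw [Subgroup.map_eq_bot_iff_of_injective _ K.subtype_injective] at hbot
    have h1 := hcompl.card_mul_card
    rw [hbot, Subgroup.card_bot, one_mul, hPKcard] at h1
    have h2 := two_mul_dvd_normal hprim p hΩ K hKn hKne
    rw [← h1] at h2
    have := Nat.le_of_dvd hpp.pos h2
    have := hpp.pos
    omega
  · have hle2 := le_of_normal hprim p hΩ P hcard _ hnormal hbot
    have hdisj := hcompl.disjoint
    have hPbot : (P : Subgroup G) = ⊥ := by
      rw [eq_bot_iff]
      intro a ha
      obtain ⟨m, hm, hma⟩ := Subgroup.mem_map.mp (hle2 ha)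
      have hmP : m ∈ ((P.subtype hle : Sylow p K) : Subgroup K) := by
        rw [Sylow.coe_subtype, Subgroup.mem_subgroupOf]
        have : ((m : K) : G) = a := hma
        rw [this]
        exact ha
      have hm1 : m = 1 := by
        have := hdisj.le_bot (Subgroup.mem_inf.mpr ⟨hm, hmP⟩)
        exact (Subgroup.mem_bot).mp this
      rw [Subgroup.mem_bot, ← hma, hm1]
      rfl
    rw [hPbot, Subgroup.card_bot] at hcard
    exact hpp.one_lt.ne hcard

end GRP5

variable {G : Type u} [Group G] [Finite G]

variable {Ω : Type v} [Fintype Ω] [DecidableEq Ω] [MulAction G Ω]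

/-- PIECE GRP5. -/
theorem isSimpleGroup [FaithfulSMul G Ω] (hprim : MulAction.IsPreprimitive G Ω) (p : ℕ) [Fact p.Prime]
    (hp2 : p ≠ 2) (hΩ : Fintype.card Ω = 2 * p) (P : Sylow p G) (hcard : Nat.card (P : Subgroup G) = p)
    (hcent : Subgroup.centralizer ((P : Subgroup G) : Set G) = (P : Subgroup G))
    (hN : Nat.card (Subgroup.normalizer ((P : Subgroup G) : Set G)) = 2 * p) :
    IsSimpleGroup G := by
  have hpp : p.Prime := Fact.out
  haveI : Nontrivial G := by
    rw [← Finite.one_lt_card_iff_nontrivial]
    have h := GRP2.two_mul_dvd hprim p hΩ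
    have h2 : 0 < Nat.card G := Nat.card_pos
    have := Nat.le_of_dvd h2 h
    have := hpp.two_le
    omega
  refine ⟨fun K hK => ?_⟩
  by_cases hbot : K = ⊥
  · exact Or.inl hbot
  · right
    have hle := le_of_normal hprim p hΩ P hcard K hK hbot
    haveI := hK
    rcases GRP5.index_cases p P hcard hN K hle with h | h
    · exact h
    · exact absurd (GRP5.not_index_two hprim p hΩ P hcard K hbot hle h) id

end Cfsg.Agent.Helper16.ITO
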