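import Mathlib
import Cfsg.Agent.Lib.Helper16.SpUDefs
import Cfsg.Agent.Lib.Helper6.UniRESTR
import Cfsg.Agent.Lib.Helper18.SYLOBSPLIT
import Cfsg.Agent.Lib.Helper11.SylOSYL

/-!
# S2316 piece SPU-TOP (helper25): `par univ = ⊤`, `npe ⊤`, `p ∤ [G : U]`.
-/

set_option autoImplicit false
set_option linter.unusedSectionVars false
set_option linter.unusedVariables false

namespace Cfsg.Agent.Helper16.SpU

open Matrix Cfsg.Agent.Helper6.SpN Cfsg.Agent.Helper13.SpBN Cfsg.Agent.Helper13.SylO
  Cfsg.Agent.Helper6.Uni Cfsg.Agent.Helper2.WordLen Cfsg.Agent.Helper2.BN Cfsg.Agent.Helper17.BNCox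

section abstract
variable {G : Type*} [Group G] (P : Cfsg.BNPair G)

/-- PIECE SPU-TOP (1): the parabolic subgroup of all generators is the whole group
(`P.sup_eq_top`, `P.closure_sup`). -/
theorem par_univ_eq_top : par P (Set.univ : Set P.S) = ⊤ := by
  unfold par Cfsg.BNPair.parabolic
  have himg : (Subtype.val '' (Set.univ : Set P.S)) = P.S := by
    ext x; simp
  rw [himg, eq_top_iff, ← P.sup_eq_top]
  apply sup_le le_sup_left
  conv_lhs => rw [← P.closure_sup]
  apply sup_le le_sup_right
  exact le_trans inf_le_left le_sup_left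

/-- PIECE SPU-TOP (2): transport of the count along `⊤ ≃* G`. -/
theorem npe_top (p : ℕ) :
    npe p (⊤ : Subgroup G) = Nat.card {g : G // ∃ k : ℕ, orderOf g = p ^ k} := by
  unfold npe IsPE
  apply Nat.card_congr
  refine (Subgroup.topEquiv (G := G)).toEquiv.subtypeEquiv ?_
  intro g
  have : orderOf ((Subgroup.topEquiv (G := G)) g) = orderOf g :=
    MulEquiv.orderOf_eq _ g
  simp only [MulEquiv.toEquiv_eq_coe, EquivLike.coe_coe, this]

/-- PIECE SPU-TOP (3): `U` has index prime to `p` (`Data.sylow D` is a Sylow subgroup with carrier `D.U`;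
`Sylow.not_dvd_index` / `card_eq_multiplicity`). -/
theorem not_dvd_index_of_data [Finite G] {P : Cfsg.BNPair G} (p : ℕ) [Fact p.Prime] (D : Data P p) :
    ¬ p ∣ D.U.index := by
  have h := (Data.sylow D).not_dvd_index
  exact h

end abstract

end Cfsg.Agent.Helper16.SpU
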