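import Mathlib
import Cfsg.Agent.Lib.Helper16.TC648Defs
import Cfsg.Agent.Lib.Helper16.TC648Core
import Cfsg.Agent.Lib.Helper5.TC648INTJ

/-!
# S3702 piece INTF (helper25 for helper16): `(χ|_I, λ̃ εⁿ) - (χ|_I, εⁿ) ∈ ℤ` for `I = ⟨t1,t2,t3⟩⟨r⟩`

Model group `M = (ZMod 3)³ ⋊ ZMod 4` (Mathlib's `SemidirectProduct`; the generator of `ZMod 4` acts by
`(a, b, c) ↦ (a, c⁻¹, b)`), homomorphism `ι : M →* G` onto the words `t1^i t2^j t3^k r^l` (from `C.rel` only),
linear characters `λ̃ (a,b,c,l) = ω^a`, `εⁿ (a,b,c,l) = (Iⁿ)^l`; then `int_of_model` and a reindexing.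
-/

set_option autoImplicit false
set_option linter.unusedSectionVars false
set_option linter.unusedVariables false

namespace Cfsg.Agent.Helper16.TC648

open Cfsg Cfsg.Agent.Helper24
open scoped ComplexConjugate

universe u

section Pieces

variable {G : Type u} [Group G]

/-- the homomorphism `ZMod n → G`, `i ↦ t^i`, for `t^n = 1` (any `n ≠ 0`) -/
def intf_pow (n : ℕ) [NeZero n] (t : G) (ht : t ^ n = 1) : Multiplicative (ZMod n) →* G :=
  MonoidHom.mk' (fun x => t ^ (Multiplicative.toAdd x).val) (by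
    intro a b
    show t ^ (Multiplicative.toAdd a + Multiplicative.toAdd b).val = _
    rw [ZMod.val_add, ← pow_eq_pow_mod _ ht, pow_add])

theorem intf_pow_apply (n : ℕ) [NeZero n] (t : G) (ht : t ^ n = 1) (x : Multiplicative (ZMod n)) :
    intf_pow n t ht x = t ^ (Multiplicative.toAdd x).val := rfl

/-- the normal subgroup `(ZMod 3)³` of the model -/
abbrev intf_N : Type :=
  (Multiplicative (ZMod 3) × Multiplicative (ZMod 3)) × Multiplicative (ZMod 3)

/-- the action of `r` on the exponents: `(a, b, c) ↦ (a, c⁻¹, b)` -/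
def intf_alpha : MulAut intf_N where
  toFun x := ((x.1.1, x.2⁻¹), x.1.2)
  invFun x := ((x.1.1, x.2), x.1.2⁻¹)
  left_inv x := by simp
  right_inv x := by simp
  map_mul' x y := Prod.ext (Prod.ext rfl (mul_inv x.2 y.2)) rfl

theorem intf_alpha_apply (x : intf_N) : intf_alpha x = ((x.1.1, x.2⁻¹), x.1.2) := rfl

theorem intf_alpha_pow_four : intf_alpha ^ 4 = 1 := by
  ext x <;> simp [pow_succ, intf_alpha_apply]

/-- the action `ZMod 4 → Aut (ZMod 3)³` -/
def intf_phi : Multiplicative (ZMod 4) →* MulAut intf_N := intf_pow 4 intf_alpha intf_alpha_pow_four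

theorem intf_phi_apply (g : Multiplicative (ZMod 4)) :
    intf_phi g = intf_alpha ^ (Multiplicative.toAdd g).val := rfl

/-- the model group `3³ : 4` -/
abbrev intf_M : Type := intf_N ⋊[intf_phi] Multiplicative (ZMod 4)

instance intf_fintype : Fintype intf_M := Fintype.ofEquiv _ SemidirectProduct.equivProd.symm

theorem intf_card : Fintype.card intf_M = 108 := by
  rw [Fintype.card_congr SemidirectProduct.equivProd]
  simp [Fintype.card_prod, ZMod.card]

theorem intf_alpha_pow_fst (m : ℕ) (x : intf_N) : ((intf_alpha ^ m) x).1.1 = x.1.1 := by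
  induction m generalizing x with
  | zero => simp
  | succ m ih => rw [pow_succ, MulAut.mul_apply, ih, intf_alpha_apply]

theorem intf_conj_pow {a b : G} (m : ℕ) : a * b ^ m * a⁻¹ = (a * b * a⁻¹) ^ m := by
  rw [conj_pow]

/-- `ι` is compatible with the action of the generator -/
theorem intf_hom_alpha (C : Cfg G) (x : intf_N) :
    intj_hom C (intf_alpha x) = C.r * intj_hom C x * C.r⁻¹ := by
  obtain ⟨⟨a, b⟩, c⟩ := x
  unfold intj_hom
  rw [intf_alpha_apply, MonoidHom.noncommCoprod_apply, MonoidHom.noncommCoprod_apply,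
    MonoidHom.noncommCoprod_apply, MonoidHom.noncommCoprod_apply]
  simp only [intj_pow_apply, toAdd_inv]
  have h1 : C.r * C.t1 ^ (Multiplicative.toAdd a).val * C.r⁻¹ = C.t1 ^ (Multiplicative.toAdd a).val := by
    rw [intf_conj_pow, C.rel.r1]
  have h2 : C.r * C.t2 ^ (Multiplicative.toAdd b).val * C.r⁻¹ = C.t3 ^ (Multiplicative.toAdd b).val := by
    rw [intf_conj_pow, C.rel.r2]
  have h3 : C.r * C.t3 ^ (Multiplicative.toAdd c).val * C.r⁻¹ =
      C.t2 ^ (-Multiplicative.toAdd c).val := by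
    rw [intf_conj_pow, C.rel.r3]
    have e : (C.t2⁻¹) ^ (Multiplicative.toAdd c).val * C.t2 ^ (Multiplicative.toAdd c).val = 1 := by
      rw [inv_pow, inv_mul_cancel]
    have e' : C.t2 ^ (-Multiplicative.toAdd c).val * C.t2 ^ (Multiplicative.toAdd c).val = 1 := by
      rw [← pow_add, pow_eq_pow_mod _ C.rel.o2, ← ZMod.val_add, neg_add_cancel, ZMod.val_zero, pow_zero]
    exact mul_right_cancel (e.trans e'.symm)
  have hc : Commute (C.t3 ^ (Multiplicative.toAdd b).val) (C.t2 ^ (-Multiplicative.toAdd c).val) :=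
    ((show Commute C.t2 C.t3 from C.rel.c23).pow_pow _ _).symm
  calc C.t1 ^ (Multiplicative.toAdd a).val * C.t2 ^ (-Multiplicative.toAdd c).val *
        C.t3 ^ (Multiplicative.toAdd b).val
      = C.t1 ^ (Multiplicative.toAdd a).val * (C.t3 ^ (Multiplicative.toAdd b).val *
          C.t2 ^ (-Multiplicative.toAdd c).val) := by rw [mul_assoc, hc.eq]
    _ = (C.r * C.t1 ^ (Multiplicative.toAdd a).val * C.r⁻¹) *
          ((C.r * C.t2 ^ (Multiplicative.toAdd b).val * C.r⁻¹) *
          (C.r * C.t3 ^ (Multiplicative.toAdd c).val * C.r⁻¹)) := by rw [h1, h2, h3]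
    _ = C.r * (C.t1 ^ (Multiplicative.toAdd a).val * C.t2 ^ (Multiplicative.toAdd b).val *
          C.t3 ^ (Multiplicative.toAdd c).val) * C.r⁻¹ := by group

theorem intf_hom_alpha_pow (C : Cfg G) (m : ℕ) (x : intf_N) :
    intj_hom C ((intf_alpha ^ m) x) = C.r ^ m * intj_hom C x * (C.r ^ m)⁻¹ := by
  induction m generalizing x with
  | zero => simp
  | succ m ih =>
    rw [pow_succ, MulAut.mul_apply, ih, intf_hom_alpha, pow_succ]
    group

/-- the model homomorphism `M → G` onto the words `t1^i t2^j t3^k r^l` -/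
def intf_hom (C : Cfg G) : intf_M →* G :=
  SemidirectProduct.lift (intj_hom C) (intf_pow 4 C.r C.rel.r4) (by
    intro g
    ext x
    simp only [MonoidHom.comp_apply, MulEquiv.coe_toMonoidHom, MulAut.conj_apply]
    rw [intf_phi_apply, intf_pow_apply]
    exact intf_hom_alpha_pow C _ x)

theorem intf_hom_apply (C : Cfg G) (i j k : Fin 3) (l : Fin 4) :
    intf_hom C ⟨((Multiplicative.ofAdd (i : ZMod 3), Multiplicative.ofAdd (j : ZMod 3)),
      Multiplicative.ofAdd (k : ZMod 3)), Multiplicative.ofAdd (l : ZMod 4)⟩ =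
      C.wJ i j k * C.r ^ (l : ℕ) := by
  show intj_hom C _ * intf_pow 4 C.r C.rel.r4 _ = _
  rw [intj_hom_apply]
  rfl

/-- a hom of the model that only depends on the first exponent -/
def intf_lam (u : ℂˣ) (hu : u ^ 3 = 1) : intf_M →* ℂˣ where
  toFun x := intf_pow 3 u hu x.left.1.1
  map_one' := by simp
  map_mul' x y := by
    rw [SemidirectProduct.mul_left, Prod.fst_mul, Prod.fst_mul, intf_phi_apply, intf_alpha_pow_fst,
      map_mul]

/-- a hom of the model that only depends on the last exponent -/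
def intf_eps (v : ℂˣ) (hv : v ^ 4 = 1) : intf_M →* ℂˣ :=
  (intf_pow 4 v hv).comp SemidirectProduct.rightHom

/-- PIECE INTF -/
theorem int_F (C : Cfg G) {ω : ℂ} (hω : ω ^ 2 + ω + 1 = 0) {χ : G → ℂ} (hχ : IsCharacter G χ) (n : Fin 4) :
    ∃ a : ℤ, (a : ℂ) * 108 = ∑ i : Fin 3, ∑ j : Fin 3, ∑ k : Fin 3, ∑ l : Fin 4,
      χ (C.wJ i j k * C.r ^ (l : ℕ)) * (ω ^ (2 * (i : ℕ)) - 1) * Complex.I ^ (3 * (n : ℕ) * (l : ℕ)) := by
  classical
  have hu : (Units.mk0 ω (omega_ne_zero hω)) ^ 3 = 1 := by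
    apply Units.ext
    simp [omega_cube hω]
  have hv : ((Units.mk0 Complex.I Complex.I_ne_zero) ^ (n : ℕ)) ^ 4 = 1 := by
    apply Units.ext
    simp only [Units.val_pow_eq_pow_val, Units.val_mk0, Units.val_one]
    rw [← pow_mul, mul_comm, pow_mul, Complex.I_pow_four, one_pow]
  obtain ⟨a, ha⟩ := int_of_model (intf_hom C) (intf_lam _ hu * intf_eps _ hv) (intf_eps _ hv) hχ
  refine ⟨a, ?_⟩
  rw [intf_card] at ha
  rw [show ((108 : ℕ) : ℂ) = 108 by norm_num] at ha
  rw [ha]
  rw [← Fintype.sum_equiv SemidirectProduct.equivProd.symm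
    (fun p : intf_N × Multiplicative (ZMod 4) =>
      χ (intf_hom C ⟨p.1, p.2⟩) *
        (conj (((intf_lam _ hu * intf_eps _ hv) ⟨p.1, p.2⟩ : ℂˣ) : ℂ) -
          conj (((intf_eps _ hv) ⟨p.1, p.2⟩ : ℂˣ) : ℂ))) _ (fun p => rfl)]
  rw [Fintype.sum_prod_type, Fintype.sum_prod_type, Fintype.sum_prod_type]
  have key3 : ∀ f : Multiplicative (ZMod 3) → ℂ,
      ∑ a : Multiplicative (ZMod 3), f a = ∑ i : Fin 3, f (Multiplicative.ofAdd (i : ZMod 3)) := by
    intro f
    exact Fintype.sum_equiv (Multiplicative.toAdd) _ _ (fun a => rfl)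
  have key4 : ∀ f : Multiplicative (ZMod 4) → ℂ,
      ∑ a : Multiplicative (ZMod 4), f a = ∑ i : Fin 4, f (Multiplicative.ofAdd (i : ZMod 4)) := by
    intro f
    exact Fintype.sum_equiv (Multiplicative.toAdd) _ _ (fun a => rfl)
  rw [key3]
  refine Finset.sum_congr rfl fun i _ => ?_
  rw [key3]
  refine Finset.sum_congr rfl fun j _ => ?_
  rw [key3]
  refine Finset.sum_congr rfl fun k _ => ?_
  rw [key4]
  refine Finset.sum_congr rfl fun l _ => ?_
  rw [intf_hom_apply]
  have e1 : (((intf_lam _ hu * intf_eps _ hv)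
      ⟨((Multiplicative.ofAdd (i : ZMod 3), Multiplicative.ofAdd (j : ZMod 3)),
        Multiplicative.ofAdd (k : ZMod 3)), Multiplicative.ofAdd (l : ZMod 4)⟩ : ℂˣ) : ℂ) =
      ω ^ (i : ℕ) * (Complex.I ^ (n : ℕ)) ^ (l : ℕ) := by
    rw [MonoidHom.mul_apply, Units.val_mul]
    rfl
  have e0 : (((intf_eps _ hv)
      ⟨((Multiplicative.ofAdd (i : ZMod 3), Multiplicative.ofAdd (j : ZMod 3)),
        Multiplicative.ofAdd (k : ZMod 3)), Multiplicative.ofAdd (l : ZMod 4)⟩ : ℂˣ) : ℂ) =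
      (Complex.I ^ (n : ℕ)) ^ (l : ℕ) := rfl
  rw [e1, e0]
  simp only [map_mul, map_pow, conj_omega hω, Complex.conj_I]
  have hI : (-Complex.I) = Complex.I ^ 3 := by
    rw [pow_succ, Complex.I_sq]; ring
  rw [hI, ← pow_mul, ← pow_mul, ← pow_mul]
  ring

end Pieces

end Cfsg.Agent.Helper16.TC648
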