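import Mathlib
import Cfsg.Agent.Lib.Helper17.Sym4Defs

/-!
Piece Q2 of S6000 (for helper17): a hyperbolic quadruple `a1, a2, b1, b2` of involutions in `GL₄(F)`
(char ≠ 2) with `tr a1 = tr a2 = tr (a1 a2) = 0` is simultaneously conjugate to the standard
quadruple `A1, A2, B1, B2`.
-/

set_option autoImplicit false

namespace Cfsg.Agent.Helper25.Sym4Q2

open Matrix Cfsg.Agent.Helper17.Sym4

variable {F : Type*} [Field F]

/-- the matrix with the four given columns -/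
def colMat (v0 v1 v2 v3 : Fin 4 → F) : Matrix (Fin 4) (Fin 4) F :=
  Matrix.of (fun i j => ![v0, v1, v2, v3] j i)

theorem mul_colMat (M : Matrix (Fin 4) (Fin 4) F) (v0 v1 v2 v3 : Fin 4 → F) :
    M * colMat v0 v1 v2 v3 = colMat (M *ᵥ v0) (M *ᵥ v1) (M *ᵥ v2) (M *ᵥ v3) := by
  ext i j
  fin_cases j <;> simp [colMat, Matrix.mul_apply, Matrix.mulVec, dotProduct]

theorem colMat_mul_A1m (v0 v1 v2 v3 : Fin 4 → F) :
    colMat v0 v1 v2 v3 * (A1m : Matrix (Fin 4) (Fin 4) F) = colMat v0 v1 (-v2) (-v3) := by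
  ext i j
  fin_cases j <;> simp [colMat, Matrix.mul_apply, Fin.sum_univ_four, A1m]

theorem colMat_mul_A2m (v0 v1 v2 v3 : Fin 4 → F) :
    colMat v0 v1 v2 v3 * (A2m : Matrix (Fin 4) (Fin 4) F) = colMat v0 (-v1) v2 (-v3) := by
  ext i j
  fin_cases j <;> simp [colMat, Matrix.mul_apply, Fin.sum_univ_four, A2m]

theorem colMat_mul_B1m (v0 v1 v2 v3 : Fin 4 → F) :
    colMat v0 v1 v2 v3 * (B1m : Matrix (Fin 4) (Fin 4) F) = colMat v2 v3 v0 v1 := by
  ext i j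
  fin_cases j <;> simp [colMat, Matrix.mul_apply, Fin.sum_univ_four, B1m]

theorem colMat_mul_B2m (v0 v1 v2 v3 : Fin 4 → F) :
    colMat v0 v1 v2 v3 * (B2m : Matrix (Fin 4) (Fin 4) F) = colMat v1 v0 v3 v2 := by
  ext i j
  fin_cases j <;> simp [colMat, Matrix.mul_apply, Fin.sum_univ_four, B2m]

theorem colMat_mulVec (v0 v1 v2 v3 c : Fin 4 → F) :
    colMat v0 v1 v2 v3 *ᵥ c = c 0 • v0 + c 1 • v1 + c 2 • v2 + c 3 • v3 := by
  ext i
  simp [colMat, Matrix.mulVec, dotProduct, Fin.sum_univ_four, mul_comm]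

theorem exists_standard_basis (h2 : (2 : F) ≠ 0) (a1 a2 b1 b2 : GL (Fin 4) F)
    (ha1 : a1 * a1 = 1) (ha2 : a2 * a2 = 1) (hb1 : b1 * b1 = 1) (hb2 : b2 * b2 = 1)
    (h12 : a1 * a2 = a2 * a1) (hbb : b1 * b2 = b2 * b1) (h1b2 : a1 * b2 = b2 * a1)
    (h2b1 : a2 * b1 = b1 * a2)
    (h1b1 : (a1 : Matrix (Fin 4) (Fin 4) F) * (b1 : Matrix (Fin 4) (Fin 4) F) =
      -((b1 : Matrix (Fin 4) (Fin 4) F) * (a1 : Matrix (Fin 4) (Fin 4) F)))
    (h2b2 : (a2 : Matrix (Fin 4) (Fin 4) F) * (b2 : Matrix (Fin 4) (Fin 4) F) =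
      -((b2 : Matrix (Fin 4) (Fin 4) F) * (a2 : Matrix (Fin 4) (Fin 4) F)))
    (htr1 : (a1 : Matrix (Fin 4) (Fin 4) F).trace = 0)
    (htr2 : (a2 : Matrix (Fin 4) (Fin 4) F).trace = 0)
    (htr12 : ((a1 * a2 : GL (Fin 4) F) : Matrix (Fin 4) (Fin 4) F).trace = 0) :
    ∃ P : GL (Fin 4) F, a1 = P * A1 * P⁻¹ ∧ a2 = P * A2 * P⁻¹ ∧ b1 = P * B1 * P⁻¹ ∧
      b2 = P * B2 * P⁻¹ := by
  classical
  set M1 : Matrix (Fin 4) (Fin 4) F := (a1 : Matrix (Fin 4) (Fin 4) F) with hM1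
  set M2 : Matrix (Fin 4) (Fin 4) F := (a2 : Matrix (Fin 4) (Fin 4) F) with hM2
  set N1 : Matrix (Fin 4) (Fin 4) F := (b1 : Matrix (Fin 4) (Fin 4) F) with hN1
  set N2 : Matrix (Fin 4) (Fin 4) F := (b2 : Matrix (Fin 4) (Fin 4) F) with hN2
  have e11 : M1 * M1 = 1 := by
    have := congrArg (fun g : GL (Fin 4) F => (g : Matrix (Fin 4) (Fin 4) F)) ha1
    simpa using this
  have e22 : M2 * M2 = 1 := by
    have := congrArg (fun g : GL (Fin 4) F => (g : Matrix (Fin 4) (Fin 4) F)) ha2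
    simpa using this
  have f11 : N1 * N1 = 1 := by
    have := congrArg (fun g : GL (Fin 4) F => (g : Matrix (Fin 4) (Fin 4) F)) hb1
    simpa using this
  have f22 : N2 * N2 = 1 := by
    have := congrArg (fun g : GL (Fin 4) F => (g : Matrix (Fin 4) (Fin 4) F)) hb2
    simpa using this
  have e12 : M1 * M2 = M2 * M1 := by
    have := congrArg (fun g : GL (Fin 4) F => (g : Matrix (Fin 4) (Fin 4) F)) h12
    simpa using this
  have f12 : N1 * N2 = N2 * N1 := by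
    have := congrArg (fun g : GL (Fin 4) F => (g : Matrix (Fin 4) (Fin 4) F)) hbb
    simpa using this
  have g12 : M1 * N2 = N2 * M1 := by
    have := congrArg (fun g : GL (Fin 4) F => (g : Matrix (Fin 4) (Fin 4) F)) h1b2
    simpa using this
  have g21 : M2 * N1 = N1 * M2 := by
    have := congrArg (fun g : GL (Fin 4) F => (g : Matrix (Fin 4) (Fin 4) F)) h2b1
    simpa using this
  have g11 : M1 * N1 = -(N1 * M1) := h1b1
  have g22 : M2 * N2 = -(N2 * M2) := h2b2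
  have htr12' : (M1 * M2).trace = 0 := by
    have : ((a1 * a2 : GL (Fin 4) F) : Matrix (Fin 4) (Fin 4) F) = M1 * M2 := by simp [hM1, hM2]
    rw [← this]; exact htr12
  -- the projector
  set Pr : Matrix (Fin 4) (Fin 4) F := (1 + M1) * (1 + M2) with hPr
  have h4 : (4 : F) ≠ 0 := by
    have : (4 : F) = 2 * 2 := by norm_num
    rw [this]; exact mul_ne_zero h2 h2
  have hPrtr : Pr.trace = 4 := by
    have : Pr = 1 + M1 + M2 + M1 * M2 := by rw [hPr]; noncomm_ring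
    rw [this, Matrix.trace_add, Matrix.trace_add, Matrix.trace_add, htr1, htr2, htr12',
      Matrix.trace_one]
    simp
  have hPrne : Pr ≠ 0 := by
    intro h
    rw [h, Matrix.trace_zero] at hPrtr
    exact h4 hPrtr.symm
  -- a vector not killed by Pr
  obtain ⟨u, hu⟩ : ∃ u : Fin 4 → F, Pr *ᵥ u ≠ 0 := by
    by_contra hcon
    push Not at hcon
    apply hPrne
    ext i j
    have := congrFun (hcon (Pi.single j 1)) i
    simpa using this
  set e : Fin 4 → F := Pr *ᵥ u with he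
  have h1Pr : M1 * Pr = Pr := by
    rw [hPr, ← mul_assoc]
    have : M1 * (1 + M1) = 1 + M1 := by rw [mul_add, mul_one, e11, add_comm]
    rw [this]
  have h2Pr : M2 * Pr = Pr := by
    have : M2 * Pr = (1 + M1) * (M2 * (1 + M2)) := by
      rw [hPr, ← mul_assoc, ← mul_assoc]
      congr 1
      rw [mul_add, add_mul, mul_one, one_mul, e12]
    rw [this]
    have : M2 * (1 + M2) = 1 + M2 := by rw [mul_add, mul_one, e22, add_comm]
    rw [this]
  have h1e : M1 *ᵥ e = e := by rw [he, Matrix.mulVec_mulVec, h1Pr]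
  have h2e : M2 *ᵥ e = e := by rw [he, Matrix.mulVec_mulVec, h2Pr]
  set v0 := e with hv0
  set v1 := N2 *ᵥ e with hv1
  set v2 := N1 *ᵥ e with hv2
  set v3 := N1 *ᵥ (N2 *ᵥ e) with hv3
  -- actions on the columns
  have a1v0 : M1 *ᵥ v0 = v0 := h1e
  have a1v1 : M1 *ᵥ v1 = v1 := by
    rw [hv1, Matrix.mulVec_mulVec, g12, ← Matrix.mulVec_mulVec, h1e]
  have a1v2 : M1 *ᵥ v2 = -v2 := by
    rw [hv2, Matrix.mulVec_mulVec, g11, Matrix.neg_mulVec, ← Matrix.mulVec_mulVec, h1e]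
  have a1v3 : M1 *ᵥ v3 = -v3 := by
    calc M1 *ᵥ v3 = (M1 * N1) *ᵥ (N2 *ᵥ e) := by rw [hv3, Matrix.mulVec_mulVec]
      _ = -(N1 *ᵥ (M1 *ᵥ (N2 *ᵥ e))) := by
          rw [g11, Matrix.neg_mulVec, ← Matrix.mulVec_mulVec]
      _ = -(N1 *ᵥ (N2 *ᵥ (M1 *ᵥ e))) := by
          rw [Matrix.mulVec_mulVec _ M1 N2, g12, ← Matrix.mulVec_mulVec]
      _ = -v3 := by rw [h1e]
  have a2v0 : M2 *ᵥ v0 = v0 := h2e
  have a2v1 : M2 *ᵥ v1 = -v1 := by
    rw [hv1, Matrix.mulVec_mulVec, g22, Matrix.neg_mulVec, ← Matrix.mulVec_mulVec, h2e]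
  have a2v2 : M2 *ᵥ v2 = v2 := by
    rw [hv2, Matrix.mulVec_mulVec, g21, ← Matrix.mulVec_mulVec, h2e]
  have a2v3 : M2 *ᵥ v3 = -v3 := by
    calc M2 *ᵥ v3 = (M2 * N1) *ᵥ (N2 *ᵥ e) := by rw [hv3, Matrix.mulVec_mulVec]
      _ = N1 *ᵥ ((M2 * N2) *ᵥ e) := by
          rw [g21, ← Matrix.mulVec_mulVec, Matrix.mulVec_mulVec _ M2 N2]
      _ = N1 *ᵥ (-(N2 *ᵥ (M2 *ᵥ e))) := by
          rw [g22, Matrix.neg_mulVec, ← Matrix.mulVec_mulVec]
      _ = -v3 := by rw [h2e, Matrix.mulVec_neg]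
  have b1v0 : N1 *ᵥ v0 = v2 := rfl
  have b1v1 : N1 *ᵥ v1 = v3 := rfl
  have b1v2 : N1 *ᵥ v2 = v0 := by
    rw [hv2, Matrix.mulVec_mulVec, f11, Matrix.one_mulVec]
  have b1v3 : N1 *ᵥ v3 = v1 := by
    rw [hv3, Matrix.mulVec_mulVec, f11, Matrix.one_mulVec]
  have b2v0 : N2 *ᵥ v0 = v1 := rfl
  have b2v1 : N2 *ᵥ v1 = v0 := by
    rw [hv1, Matrix.mulVec_mulVec, f22, Matrix.one_mulVec]
  have b2v2 : N2 *ᵥ v2 = v3 := by
    rw [hv2, hv3, Matrix.mulVec_mulVec, ← f12, ← Matrix.mulVec_mulVec]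
  have b2v3 : N2 *ᵥ v3 = v2 := by
    calc N2 *ᵥ v3 = (N2 * N1) *ᵥ (N2 *ᵥ e) := by rw [hv3, Matrix.mulVec_mulVec]
      _ = N1 *ᵥ ((N2 * N2) *ᵥ e) := by
          rw [← f12, ← Matrix.mulVec_mulVec, Matrix.mulVec_mulVec _ N2 N2]
      _ = v2 := by rw [f22, Matrix.one_mulVec]
  set P : Matrix (Fin 4) (Fin 4) F := colMat v0 v1 v2 v3 with hP
  have r1 : M1 * P = P * A1m := by
    rw [hP, mul_colMat, colMat_mul_A1m, a1v0, a1v1, a1v2, a1v3]
  have r2 : M2 * P = P * A2m := by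
    rw [hP, mul_colMat, colMat_mul_A2m, a2v0, a2v1, a2v2, a2v3]
  have r3 : N1 * P = P * B1m := by
    rw [hP, mul_colMat, colMat_mul_B1m, b1v0, b1v1, b1v2, b1v3]
  have r4 : N2 * P = P * B2m := by
    rw [hP, mul_colMat, colMat_mul_B2m, b2v0, b2v1, b2v2, b2v3]
  -- nonvanishing of the columns
  have hv0ne : v0 ≠ 0 := hu
  have hinjN : ∀ (N : Matrix (Fin 4) (Fin 4) F), N * N = 1 → ∀ w : Fin 4 → F, N *ᵥ w = 0 → w = 0 := by
    intro N hN w hw
    have : N *ᵥ (N *ᵥ w) = w := by rw [Matrix.mulVec_mulVec, hN, Matrix.one_mulVec]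
    rw [← this, hw, Matrix.mulVec_zero]
  have hv1ne : v1 ≠ 0 := fun h => hv0ne (hinjN N2 f22 _ h)
  have hv2ne : v2 ≠ 0 := fun h => hv0ne (hinjN N1 f11 _ h)
  have hv3ne : v3 ≠ 0 := fun h => hv1ne (hinjN N1 f11 _ h)
  -- P is invertible
  have hPinj : Function.Injective P.mulVec := by
    suffices H : ∀ c : Fin 4 → F, P *ᵥ c = 0 → c = 0 by
      intro x y hxy
      have hxy' : P *ᵥ x = P *ᵥ y := hxy
      exact sub_eq_zero.mp (H (x - y) (by rw [Matrix.mulVec_sub, hxy', sub_self]))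
    intro c hc
    have E0 : c 0 • v0 + c 1 • v1 + c 2 • v2 + c 3 • v3 = 0 := by
      rw [← colMat_mulVec]; exact hc
    have E1 : c 0 • v0 + c 1 • v1 - c 2 • v2 - c 3 • v3 = 0 := by
      have := congrArg (fun w => M1 *ᵥ w) E0
      simp only [Matrix.mulVec_add, Matrix.mulVec_smul, a1v0, a1v1, a1v2, a1v3,
        Matrix.mulVec_zero] at this
      rw [← this]; simp [sub_eq_add_neg]
    have E2 : c 0 • v0 - c 1 • v1 + c 2 • v2 - c 3 • v3 = 0 := by
      have := congrArg (fun w => M2 *ᵥ w) E0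
      simp only [Matrix.mulVec_add, Matrix.mulVec_smul, a2v0, a2v1, a2v2, a2v3,
        Matrix.mulVec_zero] at this
      rw [← this]; simp [sub_eq_add_neg]
    have E3 : c 0 • v0 - c 1 • v1 - c 2 • v2 + c 3 • v3 = 0 := by
      have := congrArg (fun w => M1 *ᵥ w) E2
      simp only [Matrix.mulVec_add, Matrix.mulVec_sub, Matrix.mulVec_smul, a1v0, a1v1, a1v2, a1v3,
        Matrix.mulVec_zero] at this
      rw [← this]; simp [sub_eq_add_neg]
    have k0 : (4 : F) • (c 0 • v0) = 0 := by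
      have : (4 : F) • (c 0 • v0) =
          (c 0 • v0 + c 1 • v1 + c 2 • v2 + c 3 • v3) + (c 0 • v0 + c 1 • v1 - c 2 • v2 - c 3 • v3) +
          (c 0 • v0 - c 1 • v1 + c 2 • v2 - c 3 • v3) + (c 0 • v0 - c 1 • v1 - c 2 • v2 + c 3 • v3) := by
        ext i; simp; ring
      rw [this, E0, E1, E2, E3]; simp
    have k1 : (4 : F) • (c 1 • v1) = 0 := by
      have : (4 : F) • (c 1 • v1) =
          (c 0 • v0 + c 1 • v1 + c 2 • v2 + c 3 • v3) + (c 0 • v0 + c 1 • v1 - c 2 • v2 - c 3 • v3) -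
          (c 0 • v0 - c 1 • v1 + c 2 • v2 - c 3 • v3) - (c 0 • v0 - c 1 • v1 - c 2 • v2 + c 3 • v3) := by
        ext i; simp; ring
      rw [this, E0, E1, E2, E3]; simp
    have k2 : (4 : F) • (c 2 • v2) = 0 := by
      have : (4 : F) • (c 2 • v2) =
          (c 0 • v0 + c 1 • v1 + c 2 • v2 + c 3 • v3) - (c 0 • v0 + c 1 • v1 - c 2 • v2 - c 3 • v3) +
          (c 0 • v0 - c 1 • v1 + c 2 • v2 - c 3 • v3) - (c 0 • v0 - c 1 • v1 - c 2 • v2 + c 3 • v3) := by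
        ext i; simp; ring
      rw [this, E0, E1, E2, E3]; simp
    have k3 : (4 : F) • (c 3 • v3) = 0 := by
      have : (4 : F) • (c 3 • v3) =
          (c 0 • v0 + c 1 • v1 + c 2 • v2 + c 3 • v3) - (c 0 • v0 + c 1 • v1 - c 2 • v2 - c 3 • v3) -
          (c 0 • v0 - c 1 • v1 + c 2 • v2 - c 3 • v3) + (c 0 • v0 - c 1 • v1 - c 2 • v2 + c 3 • v3) := by
        ext i; simp; ring
      rw [this, E0, E1, E2, E3]; simp
    have fin : ∀ (x : F) (w : Fin 4 → F), w ≠ 0 → (4 : F) • (x • w) = 0 → x = 0 := by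
      intro x w hw h
      rw [smul_smul] at h
      rcases smul_eq_zero.mp h with h | h
      · rcases mul_eq_zero.mp h with h | h
        · exact absurd h h4
        · exact h
      · exact absurd h hw
    ext i
    fin_cases i
    · exact fin _ _ hv0ne k0
    · exact fin _ _ hv1ne k1
    · exact fin _ _ hv2ne k2
    · exact fin _ _ hv3ne k3
  have hPunit : IsUnit P := Matrix.mulVec_injective_iff_isUnit.mp hPinj
  set P' : GL (Fin 4) F := hPunit.unit with hP'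
  have hP'val : (P' : Matrix (Fin 4) (Fin 4) F) = P := hPunit.unit_spec
  refine ⟨P', ?_, ?_, ?_, ?_⟩
  · rw [eq_mul_inv_iff_mul_eq]
    apply Units.ext
    rw [Units.val_mul, Units.val_mul, hP'val, A1_val]
    exact r1
  · rw [eq_mul_inv_iff_mul_eq]
    apply Units.ext
    rw [Units.val_mul, Units.val_mul, hP'val, A2_val]
    exact r2
  · rw [eq_mul_inv_iff_mul_eq]
    apply Units.ext
    rw [Units.val_mul, Units.val_mul, hP'val, B1_val]
    exact r3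
  · rw [eq_mul_inv_iff_mul_eq]
    apply Units.ext
    rw [Units.val_mul, Units.val_mul, hP'val, B2_val]
    exact r4

end Cfsg.Agent.Helper25.Sym4Q2
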