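import Mathlib

/-!
# S2262 piece AO-NUM3 (helper25): the numeric inequality `num_real`.
-/

set_option autoImplicit false

namespace Cfsg.Agent.Helper17.AO

/-- AO-NUM3 -/
theorem num_real (q n m N : ℕ) (hq : 2 ≤ q) (hn : 4 ≤ n) (hm : n = 2 * m ∨ n + 1 = 2 * m)
    (hne : ¬(q = 2 ∧ n ≤ 5)) (hN : (q - 1) * N ≤ q ^ (m + 1)) :
    (q - 1) * (2 * N) ≤ q ^ n - 1 := by
  -- `n = (m + 1) + j` with `1 ≤ j`, and `2 ≤ j` when `q = 2`
  obtain ⟨j, hj, hj1, hj2⟩ : ∃ j, n = (m + 1) + j ∧ 1 ≤ j ∧ (q = 2 → 2 ≤ j) := by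
    refine ⟨n - (m + 1), by omega, by omega, ?_⟩
    intro h2
    have : ¬ n ≤ 5 := fun h => hne ⟨h2, h⟩
    omega
  have h3 : 3 ≤ q ^ j := by
    rcases Nat.lt_or_ge q 3 with hlt | hge
    · have hq2 : q = 2 := by omega
      have hj' := hj2 hq2
      subst hq2
      calc 3 ≤ 2 ^ 2 := by norm_num
        _ ≤ 2 ^ j := Nat.pow_le_pow_right (by norm_num) hj'
    · calc 3 ≤ q := hge
        _ = q ^ 1 := (pow_one q).symm
        _ ≤ q ^ j := Nat.pow_le_pow_right (by omega) hj1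
  have hpos : 1 ≤ q ^ (m + 1) := Nat.one_le_pow _ _ (by omega)
  have hqn : q ^ n = q ^ (m + 1) * q ^ j := by rw [hj, pow_add]
  have h1 : 3 * q ^ (m + 1) ≤ q ^ n := by
    rw [hqn, mul_comm]
    exact Nat.mul_le_mul_left _ h3
  have h2 : (q - 1) * (2 * N) = 2 * ((q - 1) * N) := by ring
  rw [h2]
  omega

end Cfsg.Agent.Helper17.AO
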