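import Mathlib
import Cfsg.Prelude.Def_Characters
import Cfsg.Prelude.Def_Blocks
import Cfsg.Agent.S0713

/-!
# S0679, piece J5 (helper25): a transitive group of degree `11` containing a `5`-cycle contains `A₁₁`
(Jordan's theorem S0713, `5 + 3 ≤ 11`).
-/

set_option autoImplicit false
set_option linter.unusedSectionVars false
set_option linter.unusedVariables false

namespace Cfsg.Agent.Helper27.D11

open Cfsg Equiv MulAction

universe u

variable {α : Type u} [Fintype α] [DecidableEq α]

namespace J5

/-- a permutation with cycle type `{p}` is a cycle with support of size `p` -/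
theorem isCycle_of_cycleType {g : Perm α} {p : ℕ} (hc : g.cycleType = {p}) :
    g.IsCycle ∧ g.support.card = p := by
  refine ⟨Equiv.Perm.card_cycleType_eq_one.1 (by rw [hc]; rfl), ?_⟩
  rw [← Equiv.Perm.sum_cycleType, hc]
  rfl

/-- Jordan: a transitive group of degree `11` containing a `p`-cycle, `p ≤ 8` prime, contains `A₁₁` -/
theorem alt_le_of_prime_cycle (hα : Fintype.card α = 11) (G : Subgroup (Perm α))
    [IsPretransitive G α] {g : Perm α} (hg : g ∈ G) {p : ℕ} (hp : p.Prime) (hp8 : p ≤ 8)
    (hc : g.cycleType = {p}) : alternatingGroup α ≤ G := by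
  have hprim : IsPreprimitive G α :=
    IsPreprimitive.of_prime_card (by rw [Nat.card_eq_fintype_card, hα]; norm_num)
  obtain ⟨hcyc, hsupp⟩ := isCycle_of_cycleType hc
  exact Cfsg.Agent.S0713.result G hprim hp (by omega) (by omega) hcyc hsupp hg

end J5

/-- PIECE J5. -/
theorem alt_le_of_five_cycle (hα : Fintype.card α = 11) (G : Subgroup (Perm α))
    [IsPretransitive G α] {g : Perm α} (hg : g ∈ G) (hc : g.cycleType = {5}) :
    alternatingGroup α ≤ G :=
  J5.alt_le_of_prime_cycle hα G hg (by norm_num) (by norm_num) hc

end Cfsg.Agent.Helper27.D11
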