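import Mathlib
import Cfsg.Agent.Lib.Helper18.LevDefs

/-!
# S2522 (Lev), piece LEV-CHILDA (helper25): `childX ≠ 0`, `childY ≠ 0`, uniqueness of the functional
with scalar child.
-/

set_option autoImplicit false
set_option linter.unusedSectionVars false
set_option linter.unusedVariables false

namespace Cfsg.Agent.Helper18.Lev

open Module

universe u v

section pieces
variable {K : Type u} [Field K] {V : Type v} [AddCommGroup V] [Module K V]

/-- PIECE LEV-CHILDA (1). -/
theorem childX_ne_zero (g : V →ₗ[K] V) (e : V) (φ : V →ₗ[K] K) (he : φ e = 1)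
    (hge : φ (g e) = 1) (hind : LinearIndependent K ![e, g e - e]) :
    childX g e φ ≠ 0 := by
  intro h
  have h1 : ((childX g e φ : ↥(LinearMap.ker φ)) : V) = g e - e := childX_coe' g e φ he hge
  rw [h] at h1
  have h2 := hind.ne_zero (1 : Fin 2)
  apply h2
  simp only [Matrix.cons_val_one, Matrix.cons_val_fin_one]
  rw [← h1]
  rfl

/-- PIECE LEV-CHILDA (2). -/
theorem childY_ne_zero (g : V →ₗ[K] V) (e : V) (φ : V →ₗ[K] K) (he : φ e = 1)
    (hge : φ (g e) = 1) (v : V) (hv : φ (g v - v) ≠ 0) :
    childY g φ ≠ 0 := by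
  intro h
  apply hv
  have h1 : childY g φ (prK e φ v) = 0 := by rw [h]; rfl
  rw [childY_apply, prK_coe, he, one_smul, map_sub, map_sub, map_smul, map_smul, hge, smul_eq_mul,
    mul_one] at h1
  rw [map_sub]
  exact h1

theorem childa_apply (g : V →ₗ[K] V) (e : V) (φ : V →ₗ[K] K) (hge : φ (g e) = 1) (c : K)
    (hc : child g e φ = c • LinearMap.id) (w : V) (hw : φ w = 0) :
    g w - φ (g w) • g e = c • w := by
  have h1 : child g e φ ⟨w, hw⟩ = c • (⟨w, hw⟩ : ↥(LinearMap.ker φ)) := by
    rw [hc]; rfl
  have h2 := congrArg Subtype.val h1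
  rw [child_coe' g e φ hge] at h2
  exact h2

/-- PIECE LEV-CHILDA (3): for `dim V ≥ 3` at most one `φ` (with `φ e = 1 = φ (g e)`) has a
scalar child. -/
theorem child_scalar_unique [FiniteDimensional K V] (h3 : 3 ≤ finrank K V) (g : V →ₗ[K] V)
    (hinj : Function.Injective g) (e : V) (hind : LinearIndependent K ![e, g e - e])
    (φ φ' : V →ₗ[K] K) (he : φ e = 1) (hge : φ (g e) = 1) (he' : φ' e = 1) (hge' : φ' (g e) = 1)
    (c c' : K) (hc : child g e φ = c • LinearMap.id) (hc' : child g e φ' = c' • LinearMap.id) :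
    φ = φ' := by
  rw [LinearIndependent.pair_iff] at hind
  have hu : φ (g e - e) = 0 := by rw [map_sub, he, hge, sub_self]
  have hu' : φ' (g e - e) = 0 := by rw [map_sub, he', hge', sub_self]
  have e1 := childa_apply g e φ hge c hc (g e - e) hu
  have e2 := childa_apply g e φ' hge' c' hc' (g e - e) hu'
  have hune : g e - e ≠ 0 := by
    intro h0
    have := hind 0 1 (by rw [h0]; simp)
    exact one_ne_zero this.2
  by_cases hcc : c = c'
  · by_contra hne
    have hx : ∃ x, φ x ≠ φ' x := by
      by_contra hall
      push_neg at hall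
      exact hne (LinearMap.ext hall)
    obtain ⟨x, hx⟩ := hx
    set x' : V := x - φ' x • e with hx'
    have hφ'x' : φ' x' = 0 := by
      rw [hx', map_sub, map_smul, he', smul_eq_mul, mul_one, sub_self]
    have hφx' : φ x' ≠ 0 := by
      rw [hx', map_sub, map_smul, he, smul_eq_mul, mul_one]
      exact sub_ne_zero.mpr hx
    set a : K := (φ x')⁻¹ with ha
    have hw : φ (e - a • x') = 0 := by
      rw [map_sub, map_smul, he, smul_eq_mul, ha, inv_mul_cancel₀ hφx', sub_self]
    have hw' : φ' (a • x') = 0 := by
      rw [map_smul, hφ'x', smul_zero]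
    have f1 := childa_apply g e φ hge c hc (e - a • x') hw
    have f2 := childa_apply g e φ' hge' c' hc' (a • x') hw'
    rw [← hcc] at f2
    -- add the two
    have f3 : g e - (φ (g (e - a • x')) + φ' (g (a • x'))) • g e = c • e := by
      have : g e = g (e - a • x') + g (a • x') := by rw [← map_add, sub_add_cancel]
      calc g e - (φ (g (e - a • x')) + φ' (g (a • x'))) • g e
          = (g (e - a • x') - φ (g (e - a • x')) • g e) + (g (a • x') - φ' (g (a • x')) • g e) := by
            rw [add_smul]
            nth_rewrite 1 [this]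
            abel
        _ = c • (e - a • x') + c • (a • x') := by rw [f1, f2]
        _ = c • e := by rw [← smul_add, sub_add_cancel]
    set t : K := φ (g (e - a • x')) + φ' (g (a • x')) with ht
    -- g e = e + u
    have f4 : (1 - t - c) • e + (1 - t) • (g e - e) = 0 := by
      have : (1 - t - c) • e + (1 - t) • (g e - e) = (g e - t • g e) - c • e := by
        simp only [sub_smul, one_smul, smul_sub]
        abel
      rw [this, f3, sub_self]
    obtain ⟨k1, k2⟩ := hind _ _ f4
    have hc0 : c = 0 := by
      have : 1 - t = 0 := k2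
      rw [this, zero_sub, neg_eq_zero] at k1
      exact k1
    rw [hc0, zero_smul] at e1
    have f5 : g (g e - e - φ (g (g e - e)) • e) = 0 := by
      rw [map_sub, map_smul]
      exact e1
    have f6 := hinj (f5.trans (map_zero g).symm)
    have f7 : (-φ (g (g e - e))) • e + (1 : K) • (g e - e) = 0 := by
      rw [one_smul, neg_smul, neg_add_eq_sub]
      exact f6
    exact one_ne_zero (hind _ _ f7).2
  · exfalso
    have f1 : (φ' (g (g e - e)) - φ (g (g e - e))) • g e = (c - c') • (g e - e) := by
      rw [sub_smul, sub_smul, ← e1, ← e2]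
      abel
    have hcc' : c - c' ≠ 0 := sub_ne_zero.mpr hcc
    have f2 : g e - e = ((c - c')⁻¹ * (φ' (g (g e - e)) - φ (g (g e - e)))) • g e := by
      rw [mul_smul, f1, smul_smul, inv_mul_cancel₀ hcc', one_smul]
    have f3 : (c - c')⁻¹ * (φ' (g (g e - e)) - φ (g (g e - e))) = 0 := by
      have := congrArg φ f2
      rw [hu, map_smul, hge, smul_eq_mul, mul_one] at this
      exact this.symm
    rw [f3, zero_smul] at f2
    exact hune f2

end pieces

end Cfsg.Agent.Helper18.Lev
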