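import Mathlib
import Cfsg.Agent.Lib.Helper18.LS3Defs

/-!
# S2333, PIECE ORBC1 (helper25 for helper18): hyperbolic pairs of a quadratic form in
characteristic 2; count of the pairs `(u, v)` with `qf u = 0 = qf v`, `pol u v = 1`.
-/

set_option autoImplicit false
set_option linter.unusedSectionVars false
set_option linter.unusedVariables false
set_option linter.style.haveILetI false

namespace Cfsg.Agent.Helper18.LS3

open Matrix

variable {n : ℕ} {F : Type*} [Field F] [Fintype F] [CharP F 2]

/-- expansion of the form along a hyperbolic pair -/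
theorem orbc1_expand (M : Matrix (Fin n) (Fin n) F) (u₀ v₀ w : Fin n → F) (hu₀ : qf M u₀ = 0)
    (hv₀ : qf M v₀ = 0) (hp : pol M u₀ v₀ = 1) (x y : F) :
    qf M (w + x • u₀ + y • v₀) = qf M w + x * pol M w u₀ + y * pol M w v₀ + x * y := by
  rw [qf_add, qf_add, qf_smul, qf_smul, hu₀, hv₀, pol_add_left, pol_smul_right, pol_smul_right,
    pol_smul_left, pol_smul_right, hp]
  ring

/-- the set `{(x, y) | x = 0 ∨ y = 0}` has `2 q - 1` elements -/
theorem orbc1_card_cross :
    Nat.card {p : F × F // p.1 = 0 ∨ p.2 = 0} = 2 * Fintype.card F - 1 := by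
  classical
  rw [Nat.card_eq_fintype_card, Fintype.card_subtype]
  have h1 : (Finset.univ.filter (fun p : F × F => p.1 = 0 ∨ p.2 = 0)) =
      (({0} : Finset F) ×ˢ (Finset.univ : Finset F)) ∪
        ((Finset.univ : Finset F) ×ˢ ({0} : Finset F)) := by
    ext p
    simp only [Finset.mem_filter, Finset.mem_union, Finset.mem_product, Finset.mem_singleton,
      Finset.mem_univ, true_and, and_true]
  have h2 : (({0} : Finset F) ×ˢ (Finset.univ : Finset F)) ∩
        ((Finset.univ : Finset F) ×ˢ ({0} : Finset F)) = {((0 : F), (0 : F))} := by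
    ext p
    simp only [Finset.mem_inter, Finset.mem_product, Finset.mem_singleton, Finset.mem_univ,
      and_true, true_and]
    constructor
    · rintro ⟨h, h'⟩
      exact Prod.ext h h'
    · rintro rfl
      exact ⟨rfl, rfl⟩
  have h3 := Finset.card_union_add_card_inter (({0} : Finset F) ×ˢ (Finset.univ : Finset F))
    ((Finset.univ : Finset F) ×ˢ ({0} : Finset F))
  rw [h2, Finset.card_singleton, Finset.card_product, Finset.card_product, Finset.card_singleton,
    Finset.card_univ] at h3
  rw [h1]
  omega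

/-- Claim A: the number of singular vectors -/
theorem orbc1_zeros (M : Matrix (Fin n) (Fin n) F) (u₀ v₀ : Fin n → F) (hu₀ : qf M u₀ = 0)
    (hv₀ : qf M v₀ = 0) (hp : pol M u₀ v₀ = 1) :
    Nat.card {u : Fin n → F // qf M u = 0} * Fintype.card F ^ 2 ≤
      (2 * Fintype.card F - 1) * Fintype.card F ^ n := by
  classical
  have hp' : pol M v₀ u₀ = 1 := by rw [pol_comm, hp]
  have huu : pol M u₀ u₀ = 0 := pol_self M u₀
  have hvv : pol M v₀ v₀ = 0 := pol_self M v₀
  -- the coding of the pairs `(x, y)`
  let code : F × F → {p : F × F // p.1 = 0 ∨ p.2 = 0} := fun p =>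
    if h : p.1 * p.2 = 0 then ⟨p, by
      rcases mul_eq_zero.1 h with h | h
      · exact Or.inl h
      · exact Or.inr h⟩ else ⟨(p.1, 0), Or.inr rfl⟩
  let Φ : {u : Fin n → F // qf M u = 0} × F × F →
      (Fin n → F) × {p : F × F // p.1 = 0 ∨ p.2 = 0} := fun t =>
    (t.1.1 + pol M t.1.1 v₀ • u₀ + pol M t.1.1 u₀ • v₀ + t.2.1 • u₀ + t.2.2 • v₀,
      code (pol M t.1.1 v₀, pol M t.1.1 u₀))
  have hinj : Function.Injective Φ := by
    rintro ⟨⟨u, hu⟩, c, d⟩ ⟨⟨u', hu'⟩, c', d'⟩ h
    have h1 : u + pol M u v₀ • u₀ + pol M u u₀ • v₀ + c • u₀ + d • v₀ =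
        u' + pol M u' v₀ • u₀ + pol M u' u₀ • v₀ + c' • u₀ + d' • v₀ := congrArg Prod.fst h
    have h2 : code (pol M u v₀, pol M u u₀) = code (pol M u' v₀, pol M u' u₀) :=
      congrArg Prod.snd h
    -- the component `w'` is orthogonal to `u₀`, `v₀`
    have hwu : ∀ z : Fin n → F,
        pol M (z + pol M z v₀ • u₀ + pol M z u₀ • v₀) u₀ = 0 := by
      intro z
      rw [pol_add_left, pol_add_left, pol_smul_left, pol_smul_left, huu, hp']
      have := CharTwo.add_self_eq_zero (pol M z u₀)
      linear_combination this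
    have hwv : ∀ z : Fin n → F,
        pol M (z + pol M z v₀ • u₀ + pol M z u₀ • v₀) v₀ = 0 := by
      intro z
      rw [pol_add_left, pol_add_left, pol_smul_left, pol_smul_left, hvv, hp]
      have := CharTwo.add_self_eq_zero (pol M z v₀)
      linear_combination this
    -- recover `c`, `d`
    have hc : c = c' := by
      have := congrArg (fun z => pol M z v₀) h1
      simp only [pol_add_left, pol_smul_left, hvv, hp] at this
      have e1 := hwv u
      have e2 := hwv u'
      simp only [pol_add_left, pol_smul_left, hvv, hp] at e1 e2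
      linear_combination this - e1 + e2
    have hd : d = d' := by
      have := congrArg (fun z => pol M z u₀) h1
      simp only [pol_add_left, pol_smul_left, huu, hp'] at this
      have e1 := hwu u
      have e2 := hwu u'
      simp only [pol_add_left, pol_smul_left, huu, hp'] at e1 e2
      linear_combination this - e1 + e2
    subst hc hd
    have hw : u + pol M u v₀ • u₀ + pol M u u₀ • v₀ = u' + pol M u' v₀ • u₀ + pol M u' u₀ • v₀ := by
      have e : ∀ z : Fin n → F, z + c • u₀ + d • v₀ - c • u₀ - d • v₀ = z := by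
        intro z; abel
      rw [← e (u + pol M u v₀ • u₀ + pol M u u₀ • v₀), h1, e]
    -- the value `a = qf w' = x * y`
    have hq : ∀ z : Fin n → F, qf M z = 0 →
        qf M (z + pol M z v₀ • u₀ + pol M z u₀ • v₀) = pol M z v₀ * pol M z u₀ := by
      intro z hz
      rw [orbc1_expand M u₀ v₀ z hu₀ hv₀ hp, hz]
      have := CharTwo.add_self_eq_zero (pol M z v₀ * pol M z u₀)
      linear_combination this
    have ha : pol M u v₀ * pol M u u₀ = pol M u' v₀ * pol M u' u₀ := by
      rw [← hq u hu, ← hq u' hu', hw]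
    -- decode
    have hxy : pol M u v₀ = pol M u' v₀ ∧ pol M u u₀ = pol M u' u₀ := by
      by_cases h0 : pol M u v₀ * pol M u u₀ = 0
      · have h0' : pol M u' v₀ * pol M u' u₀ = 0 := by rw [← ha]; exact h0
        have e1 : code (pol M u v₀, pol M u u₀) = ⟨(pol M u v₀, pol M u u₀), by
            rcases mul_eq_zero.1 h0 with h | h
            · exact Or.inl h
            · exact Or.inr h⟩ := by
          show (if h : (pol M u v₀, pol M u u₀).1 * (pol M u v₀, pol M u u₀).2 = 0 then _ else _) = _
          rw [dif_pos h0]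
        have e2 : code (pol M u' v₀, pol M u' u₀) = ⟨(pol M u' v₀, pol M u' u₀), by
            rcases mul_eq_zero.1 h0' with h | h
            · exact Or.inl h
            · exact Or.inr h⟩ := by
          show (if h : (pol M u' v₀, pol M u' u₀).1 * (pol M u' v₀, pol M u' u₀).2 = 0
            then _ else _) = _
          rw [dif_pos h0']
        rw [e1, e2] at h2
        have := congrArg Subtype.val h2
        exact ⟨congrArg Prod.fst this, congrArg Prod.snd this⟩
      · have h0' : ¬ pol M u' v₀ * pol M u' u₀ = 0 := by rw [← ha]; exact h0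
        have e1 : code (pol M u v₀, pol M u u₀) = ⟨(pol M u v₀, 0), Or.inr rfl⟩ := by
          show (if h : (pol M u v₀, pol M u u₀).1 * (pol M u v₀, pol M u u₀).2 = 0 then _ else _) = _
          rw [dif_neg h0]
        have e2 : code (pol M u' v₀, pol M u' u₀) = ⟨(pol M u' v₀, 0), Or.inr rfl⟩ := by
          show (if h : (pol M u' v₀, pol M u' u₀).1 * (pol M u' v₀, pol M u' u₀).2 = 0
            then _ else _) = _
          rw [dif_neg h0']
        rw [e1, e2] at h2
        have h3 := congrArg Subtype.val h2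
        have hx : pol M u v₀ = pol M u' v₀ := congrArg Prod.fst h3
        refine ⟨hx, ?_⟩
        have hx0 : pol M u' v₀ ≠ 0 := fun h => h0' (by rw [h, zero_mul])
        rw [hx] at ha
        exact mul_left_cancel₀ hx0 ha
    have huu' : u = u' := by
      rw [hxy.1, hxy.2] at hw
      have e : ∀ z : Fin n → F,
          z + pol M u' v₀ • u₀ + pol M u' u₀ • v₀ - pol M u' v₀ • u₀ - pol M u' u₀ • v₀ = z := by
        intro z; abel
      rw [← e u, hw, e]
    subst huu'
    rfl
  have hcard := Nat.card_le_card_of_injective Φ hinj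
  rw [Nat.card_prod, Nat.card_prod, Nat.card_prod, orbc1_card_cross, Nat.card_eq_fintype_card (α := F),
    Nat.card_eq_fintype_card (α := Fin n → F), Fintype.card_fun, Fintype.card_fin] at hcard
  calc Nat.card {u : Fin n → F // qf M u = 0} * Fintype.card F ^ 2
      = Nat.card {u : Fin n → F // qf M u = 0} * (Fintype.card F * Fintype.card F) := by ring
    _ ≤ Fintype.card F ^ n * (2 * Fintype.card F - 1) := hcard
    _ = (2 * Fintype.card F - 1) * Fintype.card F ^ n := by ring

/-- Claim B: the second members of the pairs with given first member -/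
theorem orbc1_fiber (M : Matrix (Fin n) (Fin n) F) (u : Fin n → F) (hu : qf M u = 0) :
    Nat.card {v : Fin n → F // qf M v = 0 ∧ pol M u v = 1} * Fintype.card F ^ 2 ≤
      Fintype.card F ^ n := by
  classical
  by_cases hne : Nonempty {v : Fin n → F // qf M v = 0 ∧ pol M u v = 1}
  · obtain ⟨⟨v₁, hv₁q, hv₁p⟩⟩ := hne
    have huu : pol M u u = 0 := pol_self M u
    let Ψ : {v : Fin n → F // qf M v = 0 ∧ pol M u v = 1} × F × F → (Fin n → F) := fun t =>
      t.1.1 + t.2.1 • u + t.2.2 • v₁
    have hinj : Function.Injective Ψ := by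
      rintro ⟨⟨v, hvq, hvp⟩, c, d⟩ ⟨⟨v', hvq', hvp'⟩, c', d'⟩ h
      have h1 : v + c • u + d • v₁ = v' + c' • u + d' • v₁ := h
      have hd : d = d' := by
        have := congrArg (fun z => pol M u z) h1
        simp only [pol_add_right, pol_smul_right, huu, hv₁p, hvp, hvp'] at this
        linear_combination this
      subst hd
      have h2 : v + c • u = v' + c' • u := by
        have e : ∀ z : Fin n → F, z + d • v₁ - d • v₁ = z := by intro z; abel
        rw [← e (v + c • u), h1, e]
      have hq : ∀ (z : Fin n → F) (a : F), qf M z = 0 → pol M u z = 1 →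
          qf M (z + a • u) = a := by
        intro z a hz hpz
        rw [qf_add, qf_smul, hu, hz, pol_smul_right, pol_comm, hpz]
        ring
      have hc : c = c' := by
        rw [← hq v c hvq hvp, ← hq v' c' hvq' hvp', h2]
      subst hc
      have hv : v = v' := by
        have e : ∀ z : Fin n → F, z + c • u - c • u = z := by intro z; abel
        rw [← e v, h2, e]
      subst hv
      rfl
    have hcard := Nat.card_le_card_of_injective Ψ hinj
    rw [Nat.card_prod, Nat.card_prod, Nat.card_eq_fintype_card (α := F),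
      Nat.card_eq_fintype_card (α := Fin n → F), Fintype.card_fun, Fintype.card_fin] at hcard
    calc Nat.card {v : Fin n → F // qf M v = 0 ∧ pol M u v = 1} * Fintype.card F ^ 2
        = Nat.card {v : Fin n → F // qf M v = 0 ∧ pol M u v = 1} *
            (Fintype.card F * Fintype.card F) := by ring
      _ ≤ Fintype.card F ^ n := hcard
  · rw [not_nonempty_iff] at hne
    rw [Nat.card_of_isEmpty, zero_mul]
    exact Nat.zero_le _

/-- PIECE ORBC1 (a singular vector outside the radical of the polar form): hyperbolic pairs. -/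
theorem good_card_le_of_singular (M : Matrix (Fin n) (Fin n) F) (u₀ : Fin n → F)
    (hu₀ : qf M u₀ = 0) (hb : ∃ v, pol M u₀ v ≠ 0) :
    ∃ v₀, qf M v₀ = 0 ∧ pol M u₀ v₀ = 1 ∧
      (good M 0 0 1).ncard ≤ (2 * Fintype.card F - 1) * Fintype.card F ^ (2 * (n - 2)) := by
  classical
  obtain ⟨v, hv⟩ := hb
  have huu : pol M u₀ u₀ = 0 := pol_self M u₀
  -- the hyperbolic partner
  obtain ⟨v', hv'⟩ : ∃ v', pol M u₀ v' = 1 := by
    refine ⟨(pol M u₀ v)⁻¹ • v, ?_⟩
    rw [pol_smul_right, inv_mul_cancel₀ hv]
  have hv₀q : qf M (v' + qf M v' • u₀) = 0 := by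
    rw [qf_add, qf_smul, hu₀, pol_smul_right, pol_comm, hv']
    have := CharTwo.add_self_eq_zero (qf M v')
    linear_combination this
  have hv₀p : pol M u₀ (v' + qf M v' • u₀) = 1 := by
    rw [pol_add_right, pol_smul_right, huu, hv']
    ring
  refine ⟨v' + qf M v' • u₀, hv₀q, hv₀p, ?_⟩
  obtain ⟨v₀, hv₀⟩ : ∃ v₀, v₀ = v' + qf M v' • u₀ := ⟨_, rfl⟩
  rw [← hv₀] at hv₀q hv₀p
  have hq2 : 2 ≤ Fintype.card F := Fintype.one_lt_card
  -- `2 ≤ n`
  have hn : 2 ≤ n := by
    have hinj : Function.Injective (fun p : F × F => p.1 • u₀ + p.2 • v₀) := by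
      rintro ⟨c, d⟩ ⟨c', d'⟩ h
      have h1 : c • u₀ + d • v₀ = c' • u₀ + d' • v₀ := h
      have hd : d = d' := by
        have := congrArg (fun z => pol M u₀ z) h1
        simp only [pol_add_right, pol_smul_right, huu, hv₀p] at this
        linear_combination this
      have hc : c = c' := by
        have := congrArg (fun z => pol M z v₀) h1
        simp only [pol_add_left, pol_smul_left, pol_self M v₀, hv₀p] at this
        linear_combination this
      rw [hc, hd]
    have := Fintype.card_le_of_injective _ hinj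
    rw [Fintype.card_prod, Fintype.card_fun, Fintype.card_fin, ← pow_two] at this
    exact (Nat.pow_le_pow_iff_right hq2).1 this
  -- the two counts
  have hA := orbc1_zeros M u₀ v₀ hu₀ hv₀q hv₀p
  have hpow : Fintype.card F ^ n = Fintype.card F ^ (n - 2) * Fintype.card F ^ 2 := by
    rw [← pow_add]
    congr 1
    omega
  have hq0 : 0 < Fintype.card F ^ 2 := by positivity
  have hA' : Nat.card {u : Fin n → F // qf M u = 0} ≤
      (2 * Fintype.card F - 1) * Fintype.card F ^ (n - 2) := by
    rw [hpow, ← mul_assoc] at hA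
    exact Nat.le_of_mul_le_mul_right hA hq0
  have hB' : ∀ u : {u : Fin n → F // qf M u = 0},
      Nat.card {v : Fin n → F // qf M v = 0 ∧ pol M u.1 v = 1} ≤ Fintype.card F ^ (n - 2) := by
    intro u
    have := orbc1_fiber M u.1 u.2
    rw [hpow] at this
    exact Nat.le_of_mul_le_mul_right this hq0
  -- the pairs as a sigma type
  let e : {p : (Fin n → F) × (Fin n → F) // p ∈ good M 0 0 1} ≃
      Σ u : {u : Fin n → F // qf M u = 0}, {v : Fin n → F // qf M v = 0 ∧ pol M u.1 v = 1} :=
    { toFun := fun p => ⟨⟨p.1.1, p.2.1⟩, ⟨p.1.2, p.2.2.1, p.2.2.2⟩⟩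
      invFun := fun s => ⟨(s.1.1, s.2.1), s.1.2, s.2.2.1, s.2.2.2⟩
      left_inv := fun p => rfl
      right_inv := fun s => rfl }
  have hcard : (good M 0 0 1).ncard =
      ∑ u : {u : Fin n → F // qf M u = 0},
        Nat.card {v : Fin n → F // qf M v = 0 ∧ pol M u.1 v = 1} := by
    rw [← Nat.card_coe_set_eq, ← Nat.card_sigma]
    exact Nat.card_congr e
  rw [hcard]
  calc ∑ u : {u : Fin n → F // qf M u = 0},
        Nat.card {v : Fin n → F // qf M v = 0 ∧ pol M u.1 v = 1}
      ≤ ∑ _u : {u : Fin n → F // qf M u = 0}, Fintype.card F ^ (n - 2) :=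
        Finset.sum_le_sum (fun u _ => hB' u)
    _ = Nat.card {u : Fin n → F // qf M u = 0} * Fintype.card F ^ (n - 2) := by
        rw [Finset.sum_const, Finset.card_univ, smul_eq_mul, Nat.card_eq_fintype_card]
    _ ≤ (2 * Fintype.card F - 1) * Fintype.card F ^ (n - 2) * Fintype.card F ^ (n - 2) :=
        Nat.mul_le_mul_right _ hA'
    _ = (2 * Fintype.card F - 1) * Fintype.card F ^ (2 * (n - 2)) := by
        rw [mul_assoc, ← pow_add]
        congr 2
        omega

end Cfsg.Agent.Helper18.LS3
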