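import Mathlib
import Cfsg.Agent.S0801
import Cfsg.Agent.Lib.Helper2.SL2Sylow

/-!
# S5060, piece FIN: the finite case via Dickson's generation theorem (S0801)
-/

set_option autoImplicit false
set_option linter.style.haveILetI false

namespace Cfsg.Agent.Helper18.SLA

open Matrix Matrix.SpecialLinearGroup
open scoped MatrixGroups
open Cfsg.Agent.Helper2.SL2S

section W

variable {F : Type*} [Field F]

/-- the Weyl element `!![0, 1; -1, 0]` -/
def slafinW (F : Type*) [Field F] : SL(2, F) :=
  ⟨!![0, 1; -1, 0], by simp [Matrix.det_fin_two]⟩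

/-- conjugation by the Weyl element -/
theorem slafin_conj_coe (M : SL(2, F)) :
    ((slafinW F * M * (slafinW F)⁻¹ : SL(2, F)) : Matrix (Fin 2) (Fin 2) F) =
      !![M.1 1 1, -M.1 1 0; -M.1 0 1, M.1 0 0] := by
  rw [coe_mul, coe_mul, coe_inv]
  have hw : ((slafinW F : SL(2, F)) : Matrix (Fin 2) (Fin 2) F) = !![0, 1; -1, 0] := rfl
  rw [hw, Matrix.adjugate_fin_two]
  ext i j
  fin_cases i <;> fin_cases j <;>
    simp [Matrix.mul_apply, Fin.sum_univ_two, Matrix.vecMul, dotProduct]

/-- the diagonal element `diag(μ, μ⁻¹)` -/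
def slafinD (μ : F) (hμ : μ ≠ 0) : SL(2, F) :=
  ⟨!![μ, 0; 0, μ⁻¹], by simp [Matrix.det_fin_two, hμ]⟩

end W

variable {k F : Type*} [Field k] [Field F] [Algebra k F]

/-- a field with `2 ≠ 0` and not of order `3` has an element `e ≠ 0` with `e ^ 2 ≠ 1` -/
theorem slafin_exists_e [Finite k] (h2 : (2 : k) ≠ 0) (hk3 : Nat.card k ≠ 3) :
    ∃ e : k, e ≠ 0 ∧ e ^ 2 ≠ 1 := by
  classical
  by_contra hcon
  push Not at hcon
  apply hk3
  haveI : Fintype k := Fintype.ofFinite k
  have hall : ∀ e : k, e = 0 ∨ e = 1 ∨ e = -1 := by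
    intro e
    by_cases he : e = 0
    · exact Or.inl he
    · right
      have h1 := hcon e he
      have : (e - 1) * (e + 1) = 0 := by ring_nf; rw [h1]; ring
      rcases mul_eq_zero.mp this with h | h
      · left; exact sub_eq_zero.mp h
      · right; exact eq_neg_of_add_eq_zero_left h
  have h01 : (0 : k) ≠ 1 := zero_ne_one
  have h0m : (0 : k) ≠ -1 := by
    intro h
    have : (1 : k) = 0 := by
      have := congrArg Neg.neg h
      simpa using this.symm
    exact one_ne_zero this
  have h1m : (1 : k) ≠ -1 := by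
    intro h
    apply h2
    have : (1 : k) + 1 = 0 := by
      nth_rewrite 2 [h]
      ring
    rw [← this]; norm_num
  have huniv : (Finset.univ : Finset k) = {0, 1, -1} := by
    ext e
    simp only [Finset.mem_univ, Finset.mem_insert, Finset.mem_singleton, true_iff]
    exact hall e
  rw [Nat.card_eq_fintype_card, ← Finset.card_univ, huniv]
  rw [Finset.card_insert_of_notMem, Finset.card_insert_of_notMem, Finset.card_singleton]
  · simpa using h1m
  · simp only [Finset.mem_insert, Finset.mem_singleton, not_or]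
    exact ⟨h01, h0m⟩

/-- PIECE FIN (finite case, via Dickson's generation theorem `Cfsg.Agent.S0801.result`). -/
theorem u_mem_of_finite [Finite F] (h2 : (2 : F) ≠ 0) (hk3 : Nat.card k ≠ 3) (α : F) (hα0 : α ≠ 0)
    (hgen : Algebra.adjoin k ({α} : Set F) = ⊤) (G : Subgroup SL(2, F))
    (hu : ∀ c : k, u (algebraMap k F c) ∈ G) (hv : ∀ c : k, v (algebraMap k F c * α) ∈ G) :
    ∀ t : F, u t ∈ G := by
  classical
  have hinj : Function.Injective (algebraMap k F) := (algebraMap k F).injective
  haveI : Finite k := Finite.of_injective _ hinj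
  have h2k : (2 : k) ≠ 0 := by
    intro h
    apply h2
    have := congrArg (algebraMap k F) h
    rw [map_ofNat, map_zero] at this
    exact this
  -- choose `e`
  obtain ⟨e, he0, hlam2⟩ : ∃ e : k, e ≠ 0 ∧ (algebraMap k F e * α) ^ 2 ≠ -1 := by
    by_cases hα2 : α ^ 2 = -1
    · obtain ⟨e, he0, he2⟩ := slafin_exists_e h2k hk3
      refine ⟨e, he0, ?_⟩
      rw [mul_pow, hα2, ← map_pow]
      intro h
      apply he2
      apply hinj
      rw [map_one]
      have := congrArg Neg.neg h
      simpa using this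
    · exact ⟨1, one_ne_zero, by simpa using hα2⟩
  obtain ⟨lam, hlam⟩ : ∃ lam : F, lam = algebraMap k F e * α := ⟨_, rfl⟩
  rw [← hlam] at hlam2
  have hae0 : algebraMap k F e ≠ 0 := fun h => he0 (hinj (by rw [h, map_zero]))
  have hlam0 : lam ≠ 0 := by rw [hlam]; exact mul_ne_zero hae0 hα0
  have hαlam : α = algebraMap k F e⁻¹ * lam := by
    rw [hlam, ← mul_assoc, ← map_mul, inv_mul_cancel₀ he0, map_one, one_mul]
  -- the subfield generated by `lam`
  obtain ⟨L, hL⟩ : ∃ L : Subfield F, L = Subfield.closure {lam} := ⟨_, rfl⟩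
  have hlamL : lam ∈ L := hL ▸ Subfield.subset_closure rfl
  obtain ⟨lam', hlam'⟩ : ∃ lam' : L, (lam' : F) = lam := ⟨⟨lam, hlamL⟩, rfl⟩
  have hgenL : Subfield.closure ({lam'} : Set L) = ⊤ := by
    rw [eq_top_iff]
    intro x _
    have hx : (x : F) ∈ Subfield.closure ({lam} : Set F) := hL ▸ x.2
    have him : Subfield.closure ({lam} : Set F) =
        (Subfield.closure ({lam'} : Set L)).map L.subtype := by
      rw [RingHom.map_field_closure, Set.image_singleton]
      congr 2
      exact hlam'.symm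
    rw [him] at hx
    obtain ⟨y, hy, hyx⟩ := Subfield.mem_map.mp hx
    have : y = x := Subtype.ext hyx
    rwa [← this]
  have h2L : (2 : L) ≠ 0 := by
    intro h
    apply h2
    have := congrArg L.subtype h
    rw [map_ofNat, map_zero] at this
    exact this
  have hlam'0 : lam' ≠ 0 := by
    intro h
    apply hlam0
    rw [← hlam', h]
    rfl
  have hlam'2 : lam' ^ 2 ≠ -1 := by
    intro h
    apply hlam2
    have := congrArg L.subtype h
    rw [map_pow, map_neg, map_one] at this
    rw [← hlam']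
    exact this
  haveI : Fintype L := Fintype.ofFinite L
  have hcl : Subgroup.closure {g : SL(2, L) |
      (g : Matrix (Fin 2) (Fin 2) L) = !![1, 0; 1, 1] ∨
      (g : Matrix (Fin 2) (Fin 2) L) = !![1, lam'; 0, 1]} = ⊤ := by
    rcases Cfsg.Agent.S0801.result h2L lam' hlam'0 hgenL with h | h
    · exact h.1
    · exact absurd h.2.1 hlam'2
  -- the homomorphism `ψ`
  obtain ⟨ψ, hψ⟩ : ∃ ψ : SL(2, L) →* SL(2, F), ∀ g, ψ g =
      slafinW F * Matrix.SpecialLinearGroup.map L.subtype g * (slafinW F)⁻¹ :=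
    ⟨(MulAut.conj (slafinW F)).toMonoidHom.comp (Matrix.SpecialLinearGroup.map L.subtype),
      fun g => rfl⟩
  have hψcoe : ∀ g : SL(2, L), ((ψ g : SL(2, F)) : Matrix (Fin 2) (Fin 2) F) =
      !![(g.1 1 1 : F), -(g.1 1 0 : F); -(g.1 0 1 : F), (g.1 0 0 : F)] := by
    intro g
    have hmap : ∀ i j, (Matrix.SpecialLinearGroup.map L.subtype g).1 i j = ((g.1 i j : L) : F) :=
      fun i j => rfl
    rw [hψ, slafin_conj_coe]
    simp only [hmap]
  have hψG : ∀ g : SL(2, L), ψ g ∈ G := by
    have hle : (⊤ : Subgroup SL(2, L)) ≤ G.comap ψ := by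
      rw [← hcl, Subgroup.closure_le]
      rintro g (hg | hg)
      · show ψ g ∈ G
        have : ψ g = u (algebraMap k F (-1)) := by
          apply Subtype.ext
          rw [hψcoe, u_coe, hg]
          simp
        rw [this]
        exact hu (-1)
      · show ψ g ∈ G
        have : ψ g = v (algebraMap k F (-e) * α) := by
          apply Subtype.ext
          rw [hψcoe, v_coe, hg]
          simp [hlam', hlam]
        rw [this]
        exact hv (-e)
    intro g
    exact hle (Subgroup.mem_top g)
  -- the torus action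
  have htor : ∀ t : F, u t ∈ G → ∀ μ : L, μ ≠ 0 → u (t * (μ : F)⁻¹ * (μ : F)⁻¹) ∈ G := by
    intro t ht μ hμ
    have hD := hψG (slafinD μ hμ)
    have hDc := hψcoe (slafinD μ hμ)
    have h10 : (ψ (slafinD μ hμ)).1 1 0 = 0 := by
      rw [hDc]
      simp [slafinD]
    have h00 : (ψ (slafinD μ hμ)).1 0 0 = (μ : F)⁻¹ := by
      rw [hDc]
      simp [slafinD]
    have hc := conj_u_of_lower_zero (ψ (slafinD μ hμ)) h10 t
    rw [h00] at hc
    rw [← hc]
    exact G.mul_mem (G.mul_mem hD ht) (G.inv_mem hD)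
  have hsq : ∀ t : F, u t ∈ G → ∀ μ : L, u (t * (μ : F) * (μ : F)) ∈ G := by
    intro t ht μ
    by_cases hμ : μ = 0
    · rw [hμ]
      simp only [ZeroMemClass.coe_zero, mul_zero]
      rw [u_zero]
      exact G.one_mem
    · have := htor t ht μ⁻¹ (inv_ne_zero hμ)
      simpa using this
  -- the additive group `T`
  let T : AddSubgroup F :=
    { carrier := {t | u t ∈ G}
      zero_mem' := by
        show u (0 : F) ∈ G
        rw [u_zero]
        exact G.one_mem
      add_mem' := by
        intro a b ha hb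
        show u (a + b) ∈ G
        rw [u_add]
        exact G.mul_mem ha hb
      neg_mem' := by
        intro a ha
        show u (-a) ∈ G
        rw [← u_inv]
        exact G.inv_mem ha }
  have hTmem : ∀ t : F, t ∈ T ↔ u t ∈ G := fun t => Iff.rfl
  have hTL : ∀ t ∈ T, ∀ x : L, t * (x : F) ∈ T := by
    intro t ht x
    have h2L' : ((1 : L) + 1) ≠ 0 := by
      intro h
      apply h2L
      rw [← h]; norm_num
    have ha := (hTmem _).mpr (hsq t ((hTmem t).mp ht) ((x + 1) / (1 + 1)))
    have hb := (hTmem _).mpr (hsq t ((hTmem t).mp ht) ((x - 1) / (1 + 1)))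
    have h2F : ((1 : F) + 1) ≠ 0 := by
      intro h
      apply h2
      rw [← h]; norm_num
    have heq : t * (x : F) =
        t * (((x + 1) / (1 + 1) : L) : F) * (((x + 1) / (1 + 1) : L) : F) -
        t * (((x - 1) / (1 + 1) : L) : F) * (((x - 1) / (1 + 1) : L) : F) := by
      push_cast
      field_simp
      ring
    rw [heq]
    exact T.sub_mem ha hb
  -- every element of `F` is a `k`-combination of powers of `lam`
  intro t
  have ht : t ∈ Algebra.adjoin k ({α} : Set F) := hgen ▸ Algebra.mem_top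
  rw [Algebra.adjoin_singleton_eq_range_aeval] at ht
  obtain ⟨q, rfl⟩ := ht
  rw [← hTmem]
  show Polynomial.aeval α q ∈ T
  rw [Polynomial.aeval_eq_sum_range]
  apply T.sum_mem
  intro i _
  have hterm : q.coeff i • α ^ i =
      algebraMap k F (q.coeff i * e⁻¹ ^ i) * ((lam' ^ i : L) : F) := by
    rw [Algebra.smul_def, hαlam, mul_pow, map_mul, map_pow, ← mul_assoc]
    congr 1
    push_cast
    rw [hlam']
  rw [hterm]
  exact hTL _ ((hTmem _).mpr (hu _)) _

end Cfsg.Agent.Helper18.SLA
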