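import Mathlib
import Cfsg.Agent.Lib.Helper20.A3Defs
import Cfsg.Agent.Lib.Helper12.Small60

/-!
# S3117 PIECE R0 (helper25): `solv_of_qStab`.
-/

set_option autoImplicit false
set_option linter.unusedSectionVars false
set_option linter.unusedVariables false

namespace Cfsg.Agent.Helper20.A3

section Abs

variable {W U : Type*} [Group W] [Group U] [Finite W] [Finite U]

omit [Finite W] in
/-- the automorphism group of a group of order `≤ 4` is solvable (inline copy of SMALL) -/
theorem r0_solv_mulAut (hU4 : Nat.card U ≤ 4) : Group.IsSolvable (MulAut U) := by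
  classical
  haveI : Fintype U := Fintype.ofFinite U
  have hinj : Function.Injective (fun f : MulAut U => (f : U ≃* U).toEquiv) := by
    intro a b hab
    apply MulEquiv.ext
    intro x
    exact congrArg (fun e : U ≃ U => e x) hab
  haveI : Finite (MulAut U) := Finite.of_injective _ hinj
  have hle : Nat.card (MulAut U) ≤ Nat.card (U ≃ U) := Nat.card_le_card_of_injective _ hinj
  have h2 : Nat.card (U ≃ U) = (Nat.card U).factorial := by
    rw [Nat.card_eq_fintype_card, Nat.card_eq_fintype_card, Fintype.card_equiv (Equiv.refl U)]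
  have h3 : (Nat.card U).factorial ≤ (4 : ℕ).factorial := Nat.factorial_le hU4
  have h4 : (4 : ℕ).factorial = 24 := by decide
  exact Cfsg.Agent.Helper12.Small60.isSolvable_of_card_lt _ _ rfl (by omega)

/-- the automorphism of `U` induced by `g ∈ R` -/
noncomputable def r0_h (q : W → U) (R : Subgroup (MulAut W))
    (hR : ∀ g ∈ R, ∃ h : MulAut U, ∀ w, q (g w) = h (q w)) (g : ↥R) : MulAut U :=
  Classical.choose (hR g.1 g.2)

omit [Finite W] [Finite U] in
theorem r0_h_spec (q : W → U) (R : Subgroup (MulAut W))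
    (hR : ∀ g ∈ R, ∃ h : MulAut U, ∀ w, q (g w) = h (q w)) (g : ↥R) (w : W) :
    q ((g : MulAut W) w) = r0_h q R hR g (q w) :=
  Classical.choose_spec (hR g.1 g.2) w

/-- `g ↦ h_g` as a homomorphism -/
noncomputable def r0_hom (q : W → U) (R : Subgroup (MulAut W))
    (hR : ∀ g ∈ R, ∃ h : MulAut U, ∀ w, q (g w) = h (q w))
    (hsurj : Function.Surjective q) : ↥R →* MulAut U where
  toFun := r0_h q R hR
  map_one' := by
    apply MulEquiv.ext
    intro v
    obtain ⟨w, rfl⟩ := hsurj v
    rw [← r0_h_spec]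
    rfl
  map_mul' := fun a b => by
    apply MulEquiv.ext
    intro v
    obtain ⟨w, rfl⟩ := hsurj v
    rw [← r0_h_spec]
    show q ((a : MulAut W) ((b : MulAut W) w)) = r0_h q R hR a (r0_h q R hR b (q w))
    rw [r0_h_spec q R hR a, r0_h_spec q R hR b]

omit [Finite W] [Finite U] in
theorem r0_hom_apply (q : W → U) (R : Subgroup (MulAut W))
    (hR : ∀ g ∈ R, ∃ h : MulAut U, ∀ w, q (g w) = h (q w))
    (hsurj : Function.Surjective q) (g : ↥R) : r0_hom q R hR hsurj g = r0_h q R hR g := rfl

/-- **A3-R0.** If `q` is onto and `#U ≤ 4`, solvability of `R ∩ Stab(q)` gives that of `R`. -/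
theorem solv_of_qStab (hU : ∀ u : U, u * u = 1) (q : W → U) (R : Subgroup (MulAut W))
    (hR : ∀ g ∈ R, ∃ h : MulAut U, ∀ w, q (g w) = h (q w))
    (hsurj : Function.Surjective q) (hU4 : Nat.card U ≤ 4)
    (h0 : Group.IsSolvable ↥(R ⊓ qStab q)) : Group.IsSolvable R := by
  haveI := h0
  haveI : Group.IsSolvable (MulAut U) := r0_solv_mulAut hU4
  refine Group.isSolvable_of_ker_le_range (Subgroup.inclusion (inf_le_left : R ⊓ qStab q ≤ R))
    (r0_hom q R hR hsurj) ?_
  intro g hg
  rw [MonoidHom.mem_ker, r0_hom_apply] at hg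
  have hmem : (g : MulAut W) ∈ qStab q := by
    intro w
    rw [r0_h_spec q R hR g w, hg]
    rfl
  exact ⟨⟨g.1, Subgroup.mem_inf.mpr ⟨g.2, hmem⟩⟩, rfl⟩

end Abs

end Cfsg.Agent.Helper20.A3
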