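import Mathlib
import Cfsg.Agent.Lib.Helper20.A3Defs
import Cfsg.Agent.Lib.Helper12.Small60
import Cfsg.Agent.Lib.Helper9.A3SYM5

/-!
# S3117 PIECE 555 (helper25): `solv_qStab_five`.
-/

set_option autoImplicit false
set_option linter.unusedSectionVars false
set_option linter.unusedVariables false

namespace Cfsg.Agent.Helper20.A3

section Abs

variable {W U : Type*} [Group W] [Group U] [Finite W] [Finite U]

/-- the action of `R ⊓ qStab q` on the fibre of `q` over `u` -/
noncomputable def p555_hom (q : W → U) (R : Subgroup (MulAut W)) (u : U) :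
    ↥(R ⊓ qStab q) →* Equiv.Perm {w : W // q w = u} where
  toFun g :=
    { toFun := fun w => ⟨(g : MulAut W) w.1, by
        have h := (Subgroup.mem_inf.mp g.2).2 w.1
        rw [h]; exact w.2⟩
      invFun := fun w => ⟨(g : MulAut W)⁻¹ w.1, by
        have h := (qStab q).inv_mem (Subgroup.mem_inf.mp g.2).2 w.1
        rw [h]; exact w.2⟩
      left_inv := fun w => Subtype.ext (by simp)
      right_inv := fun w => Subtype.ext (by simp) }
  map_one' := by ext w; rfl
  map_mul' := fun a b => by ext w; rfl

theorem p555_hom_apply (q : W → U) (R : Subgroup (MulAut W)) (u : U) (g : ↥(R ⊓ qStab q))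
    (w : {w : W // q w = u}) : ((p555_hom q R u g) w : W) = (g : MulAut W) w.1 := rfl

theorem p555_hom_injective (q : W → U) (R : Subgroup (MulAut W)) (u : U)
    (hspan : Subgroup.closure {w : W | q w = u} = ⊤) :
    Function.Injective (p555_hom q R u) := by
  rw [injective_iff_map_eq_one]
  intro g hg
  have h1 : ∀ w : W, q w = u → (g : MulAut W) w = w := by
    intro w hw
    have := congrArg (fun σ => ((σ ⟨w, hw⟩ : {w : W // q w = u}) : W)) hg
    simpa [p555_hom_apply] using this
  have h2 : ((g : MulAut W) : W ≃* W).toMonoidHom = MonoidHom.id W := by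
    apply MonoidHom.eq_of_eqOn_dense hspan
    intro w hw
    exact h1 w hw
  apply Subtype.ext
  ext w
  have := congrArg (fun f => f w) h2
  simpa using this

/-- **A3-555.** Order `16`, a fibre of `5` elements generating `W` with product `1`:
`R ∩ Stab(q)` is solvable. -/
theorem solv_qStab_five (hW : ∀ w : W, w * w = 1) (hU : ∀ u : U, u * u = 1) (q : W → U)
    (hq : IsQuadMap q) (R : Subgroup (MulAut W)) (u : U) (hu : u ≠ 1)
    (h5 : Nat.card {w : W // q w = u} = 5)
    (hspan : Subgroup.closure {w : W | q w = u} = ⊤)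
    (hprod : ∀ x y z s t : W, q x = u → q y = u → q z = u → q s = u → q t = u →
      [x, y, z, s, t].Nodup → x * y * z * s * t = 1) :
    Group.IsSolvable ↥(R ⊓ qStab q) := by
  classical
  by_cases hlt : Nat.card ↥(R ⊓ qStab q) < 60
  · exact Cfsg.Agent.Helper12.Small60.isSolvable_of_card_lt _ _ rfl hlt
  · exfalso
    push Not at hlt
    have hinj := p555_hom_injective q R u hspan
    haveI : Fintype {w : W // q w = u} := Fintype.ofFinite _
    have hα : Fintype.card {w : W // q w = u} = 5 := by
      rw [← Nat.card_eq_fintype_card]; exact h5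
    have hH : 60 ≤ Nat.card (p555_hom q R u).range := by
      rw [← Nat.card_congr (MonoidHom.ofInjective hinj).toEquiv]
      exact hlt
    have htr := two_trans_of_card_ge_sixty hα (p555_hom q R u).range hH
    -- the value of `q` on products of two distinct points of the fibre is constant
    have hconst : ∀ a b c d : {w : W // q w = u}, a ≠ b → c ≠ d →
        q (c.1 * d.1) = q (a.1 * b.1) := by
      intro a b c d hab hcd
      obtain ⟨σ, ⟨g, rfl⟩, hga, hgb⟩ := htr a b c d hab hcd
      have h1 : (g : MulAut W) a.1 = c.1 := by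
        rw [← p555_hom_apply, hga]
      have h2 : (g : MulAut W) b.1 = d.1 := by
        rw [← p555_hom_apply, hgb]
      rw [← h1, ← h2, ← map_mul]
      exact (Subgroup.mem_inf.mp g.2).2 _
    -- enumerate the fibre
    let e := (Finite.equivFinOfCardEq h5).symm
    have hne : ∀ i j : Fin 5, i ≠ j → e i ≠ e j := fun i j hij h => hij (e.injective h)
    have hne' : ∀ i j : Fin 5, i ≠ j → (e i).1 ≠ (e j).1 :=
      fun i j hij h => hne i j hij (Subtype.ext h)
    have hnd : [(e 0).1, (e 1).1, (e 2).1, (e 3).1, (e 4).1].Nodup := by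
      simp only [List.nodup_cons, List.mem_cons, List.not_mem_nil, or_false, not_or,
        List.nodup_nil, and_true, not_false_eq_true]
      refine ⟨⟨hne' 0 1 (by decide), hne' 0 2 (by decide), hne' 0 3 (by decide),
        hne' 0 4 (by decide)⟩, ⟨hne' 1 2 (by decide), hne' 1 3 (by decide),
        hne' 1 4 (by decide)⟩, ⟨hne' 2 3 (by decide), hne' 2 4 (by decide)⟩,
        hne' 3 4 (by decide)⟩
    have hp := hprod (e 0).1 (e 1).1 (e 2).1 (e 3).1 (e 4).1 (e 0).2 (e 1).2 (e 2).2 (e 3).2
      (e 4).2 hnd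
    have hxyz : (e 0).1 * (e 1).1 * (e 2).1 = (e 3).1 * (e 4).1 := by
      have h1 : (e 0).1 * (e 1).1 * (e 2).1 * ((e 3).1 * (e 4).1) = 1 := by
        rw [← mul_assoc]; exact hp
      have h2 := eq_inv_of_mul_eq_one_left h1
      rw [h2]
      exact inv_eq_of_mul_eq_one_left (hW _)
    set c₀ := q ((e 0).1 * (e 1).1) with hc₀
    have e02 : q ((e 0).1 * (e 2).1) = c₀ := hconst (e 0) (e 1) (e 0) (e 2) (hne 0 1 (by decide))
      (hne 0 2 (by decide))
    have e12 : q ((e 1).1 * (e 2).1) = c₀ := hconst (e 0) (e 1) (e 1) (e 2) (hne 0 1 (by decide))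
      (hne 1 2 (by decide))
    have e34 : q ((e 3).1 * (e 4).1) = c₀ := hconst (e 0) (e 1) (e 3) (e 4) (hne 0 1 (by decide))
      (hne 3 4 (by decide))
    have h7 := hq (e 0).1 (e 1).1 (e 2).1
    unfold bet at h7
    rw [hxyz, e34, e02, e12, ← hc₀, (e 0).2, (e 1).2, (e 2).2] at h7
    -- h7 : c₀ * c₀ * u = c₀ * u * u * (c₀ * u * u)
    have h8 : c₀ * u * u = c₀ := by rw [mul_assoc, hU u, mul_one]
    rw [h8, hU c₀, one_mul] at h7
    exact hu h7

end Abs

end Cfsg.Agent.Helper20.A3
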