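import Mathlib

/-!
# Bender–Glauberman, Appendix C (Theorem C): the group-theoretic configuration (helper25)

`Setup G F p` packages the configuration of BG Appendix C after the routine reductions:

* `x : F → G` an injective additive parametrisation of the subgroup `P`, `s = x 1`;
* `U` acting on `P` through `ψ` (`u x(γ) u⁻¹ = x(ψ u · γ)`);
* `t` of order dividing `p` normalising `U` (`t = y s y⁻¹`);
* `Y` an abelian `p'`-subgroup normalised by `s` on which `s` acts fixed-point-freely, with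
  `t s⁻¹ ∈ Y` (`Y = [Q, s]`);
* the arithmetic facts on `F` (polar decomposition `F^× = F_p^× × ψ(U)`, no arithmetic progression
  of length `p` in `ψ(U)`), and "Tool B": `H ∩ H^{t^j} = U` for `H = P U`.

The core development (`AppC1` …) derives from a `Setup` that the set
`{ψ a | a ∈ U, ∃ b ∈ U, ψ a + ψ b = 2}` is closed under inversion (BG Lemma C.3).
-/

set_option autoImplicit false

namespace Cfsg.Agent.Helper25.AppC

universe u v

/-- the configuration of BG Appendix C -/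
structure Setup (G : Type u) [Group G] (F : Type v) [Field F] (p : ℕ) where
  /-- parametrisation of `P` -/
  x : F → G
  /-- the complement `U` -/
  U : Subgroup G
  /-- the action of `U` on `P` -/
  ψ : G → F
  /-- the element `t = y s y⁻¹` -/
  t : G
  /-- the abelian `p'`-group `Y = [Q, s]` -/
  Y : Subgroup G
  hp : p.Prime
  hp2 : p ≠ 2
  x_add : ∀ a b : F, x (a + b) = x a * x b
  x_inj : Function.Injective x
  charP : CharP F p
  ψ_ne : ∀ u ∈ U, ψ u ≠ 0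
  ψ_mul : ∀ u ∈ U, ∀ w ∈ U, ψ (u * w) = ψ u * ψ w
  ψ_inj : ∀ u ∈ U, ∀ w ∈ U, ψ u = ψ w → u = w
  /-- `U` acts nontrivially -/
  U_ne : ∃ u ∈ U, ψ u ≠ 1
  conj : ∀ u ∈ U, ∀ a : F, u * x a * u⁻¹ = x (ψ u * a)
  /-- polar decomposition `F^× = F_p^× · ψ(U)` -/
  polar : ∀ γ : F, γ ≠ 0 → ∃ n : ℕ, ¬ p ∣ n ∧ ∃ u ∈ U, γ = (n : F) * ψ u
  /-- `F_p ∩ ψ(U) = 1` -/
  rat : ∀ u ∈ U, ∀ n : ℕ, ψ u = (n : F) → u = 1
  /-- no arithmetic progression of length `p` in `ψ(U)` (this is where `q < p` is used) -/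
  noAP : ∀ β δ : F, (∀ j : ℕ, ∃ u ∈ U, ψ u = β + (j : F) * δ) → δ = 0
  t_pow : t ^ p = 1
  t_norm : ∀ u ∈ U, t * u * t⁻¹ ∈ U
  Y_comm : ∀ v ∈ Y, ∀ w ∈ Y, v * w = w * v
  Y_conj : ∀ v ∈ Y, x 1 * v * (x 1)⁻¹ ∈ Y
  Y_cop : (Nat.card Y).Coprime p
  Y_fpf : ∀ v ∈ Y, x 1 * v * (x 1)⁻¹ = v → v = 1
  t_mem : t * (x 1)⁻¹ ∈ Y
  /-- Tool B: `H ∩ H^{t^j} = U` for `H = P U` -/
  toolB : ∀ j : ℤ, ¬ (p : ℤ) ∣ j → ∀ (a : F) (u : G), u ∈ U →
    (∃ (a' : F) (u' : G), u' ∈ U ∧ t ^ j * (x a * u) * (t ^ j)⁻¹ = x a' * u') → a = 0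

namespace Setup

variable {G : Type u} [Group G] {F : Type v} [Field F] {p : ℕ}

/-- the element `s = x 1` -/
def s (S : Setup G F p) : G := S.x 1

end Setup

end Cfsg.Agent.Helper25.AppC
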