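import Mathlib
import Cfsg.Agent.Lib.Helper25.AppC0

/-!
# BG Appendix C: basic consequences of a `Setup` (helper25)
-/

set_option autoImplicit false
set_option linter.unusedVariables false
set_option linter.unusedSectionVars false

namespace Cfsg.Agent.Helper25.AppC

universe u v

namespace Setup

variable {G : Type u} [Group G] {F : Type v} [Field F] {p : ℕ} (S : Setup G F p)

theorem x_zero : S.x 0 = 1 := by
  have h := S.x_add 0 0
  rw [add_zero] at h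
  exact (mul_eq_left.mp h.symm)

theorem x_neg (a : F) : S.x (-a) = (S.x a)⁻¹ := by
  have h := S.x_add (-a) a
  rw [neg_add_cancel, S.x_zero] at h
  exact eq_inv_of_mul_eq_one_left h.symm

theorem x_sub (a b : F) : S.x (a - b) = S.x a * (S.x b)⁻¹ := by
  rw [sub_eq_add_neg, S.x_add, S.x_neg]

theorem x_comm (a b : F) : S.x a * S.x b = S.x b * S.x a := by
  rw [← S.x_add, ← S.x_add, add_comm]

theorem x_eq_one_iff {a : F} : S.x a = 1 ↔ a = 0 := by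
  constructor
  · intro h
    rw [← S.x_zero] at h
    exact S.x_inj h
  · rintro rfl
    exact S.x_zero

theorem x_nsmul (n : ℕ) (a : F) : S.x ((n : F) * a) = S.x a ^ n := by
  induction n with
  | zero => simp [S.x_zero]
  | succ k ih =>
    rw [Nat.cast_succ, add_mul, one_mul, S.x_add, ih, pow_succ]

theorem x_zsmul (n : ℤ) (a : F) : S.x ((n : F) * a) = S.x a ^ n := by
  cases n with
  | ofNat k => simpa using S.x_nsmul k a
  | negSucc k =>
    rw [Int.cast_negSucc, neg_mul, S.x_neg, zpow_negSucc]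
    congr 1
    exact_mod_cast S.x_nsmul (k + 1) a

theorem x_natCast (n : ℕ) : S.x (n : F) = S.s ^ n := by
  have := S.x_nsmul n 1
  rwa [mul_one] at this

theorem x_intCast (n : ℤ) : S.x (n : F) = S.s ^ n := by
  have := S.x_zsmul n 1
  rwa [mul_one] at this

theorem s_pow_p : S.s ^ p = 1 := by
  haveI := S.charP
  rw [← S.x_natCast, CharP.cast_eq_zero, S.x_zero]

theorem x_pow_p (a : F) : S.x a ^ p = 1 := by
  haveI := S.charP
  rw [← S.x_nsmul, CharP.cast_eq_zero, zero_mul, S.x_zero]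

theorem s_ne_one : S.s ≠ 1 := by
  intro h
  have := S.x_eq_one_iff.mp h
  exact one_ne_zero this

theorem s_zpow_eq_one_iff {n : ℤ} : S.s ^ n = 1 ↔ (p : ℤ) ∣ n := by
  haveI := S.charP
  rw [← S.x_intCast, S.x_eq_one_iff]
  exact CharP.intCast_eq_zero_iff F p n

include S in
theorem intCast_eq_zero_iff {n : ℤ} : (n : F) = 0 ↔ (p : ℤ) ∣ n := by
  haveI := S.charP
  exact CharP.intCast_eq_zero_iff F p n

include S in
theorem natCast_eq_zero_iff {n : ℕ} : (n : F) = 0 ↔ p ∣ n := by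
  haveI := S.charP
  exact CharP.cast_eq_zero_iff F p n

/-! ### the action of `U` -/

theorem ψ_one : S.ψ 1 = 1 := by
  have h := S.ψ_mul 1 S.U.one_mem 1 S.U.one_mem
  rw [mul_one] at h
  have h0 := S.ψ_ne 1 S.U.one_mem
  exact (mul_eq_left₀ h0).mp h.symm

theorem ψ_inv {u : G} (hu : u ∈ S.U) : S.ψ u⁻¹ = (S.ψ u)⁻¹ := by
  have h := S.ψ_mul u hu u⁻¹ (S.U.inv_mem hu)
  rw [mul_inv_cancel, S.ψ_one] at h
  exact eq_inv_of_mul_eq_one_right h.symm

theorem U_comm {u w : G} (hu : u ∈ S.U) (hw : w ∈ S.U) : u * w = w * u := by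
  apply S.ψ_inj _ (S.U.mul_mem hu hw) _ (S.U.mul_mem hw hu)
  rw [S.ψ_mul u hu w hw, S.ψ_mul w hw u hu, mul_comm]

theorem conj_mul {u : G} (hu : u ∈ S.U) (a : F) : u * S.x a = S.x (S.ψ u * a) * u := by
  rw [← S.conj u hu a]; group

theorem mul_conj {u : G} (hu : u ∈ S.U) (a : F) : S.x a * u = u * S.x ((S.ψ u)⁻¹ * a) := by
  rw [S.conj_mul hu, ← mul_assoc, mul_inv_cancel₀ (S.ψ_ne u hu), one_mul]

theorem conj_inv {u : G} (hu : u ∈ S.U) (a : F) :
    u⁻¹ * S.x a * u = S.x ((S.ψ u)⁻¹ * a) := by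
  have h := S.conj u⁻¹ (S.U.inv_mem hu) a
  rw [inv_inv, S.ψ_inv hu] at h
  exact h

/-- `P ∩ U = 1` -/
theorem x_mem_U {a : F} (h : S.x a ∈ S.U) : a = 0 := by
  have h1 := S.conj (S.x a) h 1
  rw [S.x_comm a 1, mul_inv_cancel_right, mul_one] at h1
  have h2 : S.ψ (S.x a) = 1 := (S.x_inj h1).symm
  have h3 : S.x a = 1 := S.ψ_inj _ h _ S.U.one_mem (h2.trans S.ψ_one.symm)
  exact S.x_eq_one_iff.mp h3

theorem x_mul_mem_U {a : F} {u : G} (hu : u ∈ S.U) (h : S.x a * u ∈ S.U) : a = 0 := by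
  apply S.x_mem_U
  have := S.U.mul_mem h (S.U.inv_mem hu)
  rwa [mul_inv_cancel_right] at this

/-- uniqueness of the expression `x a * u` -/
theorem x_mul_eq {a a' : F} {u u' : G} (hu : u ∈ S.U) (hu' : u' ∈ S.U)
    (h : S.x a * u = S.x a' * u') : a = a' ∧ u = u' := by
  have h1 : S.x (a - a') = u' * u⁻¹ := by
    rw [sub_eq_neg_add, S.x_add, S.x_neg]
    have : S.x a = S.x a' * u' * u⁻¹ := by rw [← h, mul_inv_cancel_right]
    rw [this]; group
  have h2 : a - a' = 0 := S.x_mem_U (by rw [h1]; exact S.U.mul_mem hu' (S.U.inv_mem hu))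
  have h3 : a = a' := sub_eq_zero.mp h2
  refine ⟨h3, ?_⟩
  subst h3
  exact mul_left_cancel h

/-! ### conjugation by powers of `t` -/

theorem t_zpow_p : S.t ^ (p : ℤ) = 1 := by
  rw [zpow_natCast]; exact S.t_pow

theorem t_npow_norm (n : ℕ) {u : G} (hu : u ∈ S.U) : S.t ^ n * u * (S.t ^ n)⁻¹ ∈ S.U := by
  induction n generalizing u with
  | zero => simpa using hu
  | succ k ih =>
    have h1 := ih (S.t_norm u hu)
    have : S.t ^ (k + 1) * u * (S.t ^ (k + 1))⁻¹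
        = S.t ^ k * (S.t * u * S.t⁻¹) * (S.t ^ k)⁻¹ := by
      rw [pow_succ]; group
    rw [this]; exact h1

theorem t_inv_eq : S.t⁻¹ = S.t ^ (p - 1) := by
  have hp := S.hp.pos
  have h : S.t ^ (p - 1) * S.t = 1 := by
    rw [← pow_succ, Nat.sub_add_cancel hp, S.t_pow]
  exact (eq_inv_of_mul_eq_one_left h).symm

theorem t_zpow_norm (j : ℤ) {u : G} (hu : u ∈ S.U) : S.t ^ j * u * (S.t ^ j)⁻¹ ∈ S.U := by
  cases j with
  | ofNat k => simpa using S.t_npow_norm k hu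
  | negSucc k =>
    rw [zpow_negSucc, ← inv_pow, S.t_inv_eq, ← pow_mul]
    exact S.t_npow_norm _ hu

theorem t_zpow_norm' (j : ℤ) {u : G} (hu : u ∈ S.U) : (S.t ^ j)⁻¹ * u * S.t ^ j ∈ S.U := by
  have := S.t_zpow_norm (-j) hu
  rwa [zpow_neg, inv_inv] at this

/-! ### products in `H = P U` -/

theorem h_mul (a : F) {u : G} (hu : u ∈ S.U) (b : F) (w : G) :
    (S.x a * u) * (S.x b * w) = S.x (a + S.ψ u * b) * (u * w) := by
  rw [S.x_add, mul_assoc (S.x a), ← mul_assoc u, S.conj_mul hu]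
  group

theorem h_inv (a : F) {u : G} (hu : u ∈ S.U) :
    (S.x a * u)⁻¹ = S.x (-((S.ψ u)⁻¹ * a)) * u⁻¹ := by
  rw [mul_inv_rev, S.x_neg, ← S.conj_inv hu]
  group

/-! ### consequences of Tool B -/

/-- a power of `t` lying in `U` is trivial -/
theorem t_zpow_mem_U {k : ℤ} (h : S.t ^ k ∈ S.U) : (p : ℤ) ∣ k := by
  by_contra hk
  have h1 := S.conj (S.t ^ k) h 1
  have h2 : (1 : F) = 0 := by
    refine S.toolB k hk 1 1 S.U.one_mem ⟨S.ψ (S.t ^ k) * 1, 1, S.U.one_mem, ?_⟩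
    rw [mul_one, mul_one, h1]
  exact one_ne_zero h2

theorem t_zpow_eq_one_iff {k : ℤ} : S.t ^ k = 1 ↔ (p : ℤ) ∣ k := by
  constructor
  · intro h
    apply S.t_zpow_mem_U
    rw [h]; exact S.U.one_mem
  · rintro ⟨m, rfl⟩
    rw [zpow_mul, S.t_zpow_p, one_zpow]

/-- uniqueness of the expression `x a * t^j * (x b * u)` -/
theorem toolB_unique {j : ℤ} (hj : ¬ (p : ℤ) ∣ j) {a b a' b' : F} {u u' : G}
    (hu : u ∈ S.U) (hu' : u' ∈ S.U)
    (h : S.x a * S.t ^ j * (S.x b * u) = S.x a' * S.t ^ j * (S.x b' * u')) :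
    a = a' ∧ b = b' ∧ u = u' := by
  have huu : u * u'⁻¹ ∈ S.U := S.U.mul_mem hu (S.U.inv_mem hu')
  -- the element `g`
  have hg : (S.x b * u) * (S.x b' * u')⁻¹ = S.x (b - S.ψ (u * u'⁻¹) * b') * (u * u'⁻¹) := by
    rw [S.h_inv b' hu', S.h_mul b hu, S.ψ_mul u hu _ (S.U.inv_mem hu'), S.ψ_inv hu']
    congr 2
    ring
  have hconj : S.t ^ j * ((S.x b * u) * (S.x b' * u')⁻¹) * (S.t ^ j)⁻¹ = S.x (a' - a) * 1 := by
    have h1 : S.t ^ j * (S.x b * u) = (S.x a)⁻¹ * (S.x a' * S.t ^ j * (S.x b' * u')) := by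
      rw [← h]; group
    rw [mul_one, sub_eq_neg_add, S.x_add, S.x_neg, ← mul_assoc (S.t ^ j), h1]
    group
  rw [hg] at hconj
  have h0 := S.toolB j hj _ _ huu ⟨a' - a, 1, S.U.one_mem, hconj⟩
  rw [h0, S.x_zero, one_mul, mul_one] at hconj
  have h2 : a' - a = 0 := S.x_mem_U (by rw [← hconj]; exact S.t_zpow_norm j huu)
  have haa : a = a' := (sub_eq_zero.mp h2).symm
  rw [h2, S.x_zero] at hconj
  have h3 : u * u'⁻¹ = 1 := by
    have := congrArg (fun g => (S.t ^ j)⁻¹ * g * S.t ^ j) hconj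
    simpa [mul_assoc] using this
  have huu' : u = u' := mul_inv_eq_one.mp h3
  refine ⟨haa, ?_, huu'⟩
  rw [h3, S.ψ_one, one_mul] at h0
  exact sub_eq_zero.mp h0

private theorem dc_aux {i j : ℤ} (hi : ¬ (p : ℤ) ∣ i) (hj : ¬ (p : ℤ) ∣ j) {a b : F} {u u' : G}
    (hu : u ∈ S.U) (hu' : u' ∈ S.U)
    (h : S.t ^ i = (S.x a * u) * S.t ^ j * (S.x b * u')) : b = 0 := by
  obtain ⟨w, hw, hw1⟩ := S.U_ne
  have hw' := S.t_zpow_norm i hw
  set w' := S.t ^ i * w * (S.t ^ i)⁻¹ with hw'def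
  -- `g := (x b u') w (x b u')⁻¹`
  have hg : (S.x b * u') * w * (S.x b * u')⁻¹ = S.x (b - S.ψ w * b) * w := by
    have e0 : (S.x b * u') * w = (S.x b * u') * (S.x 0 * w) := by rw [S.x_zero, one_mul]
    rw [e0, S.h_mul b hu', S.h_inv b hu', S.h_mul _ (S.U.mul_mem hu' hw),
      S.ψ_mul u' hu' w hw]
    have hc : u' * w * u'⁻¹ = w := by rw [S.U_comm hu' hw, mul_inv_cancel_right]
    rw [hc]
    congr 2
    have := S.ψ_ne u' hu'
    field_simp
    ring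
  have hu1 : u⁻¹ ∈ S.U := S.U.inv_mem hu
  have hww : u⁻¹ * w' * u ∈ S.U := S.U.mul_mem (S.U.mul_mem hu1 hw') hu
  have hconj : S.t ^ j * ((S.x b * u') * w * (S.x b * u')⁻¹) * (S.t ^ j)⁻¹
      = S.x (-((S.ψ u)⁻¹ * a) + (S.ψ u)⁻¹ * (S.ψ w' * a)) * (u⁻¹ * w' * u) := by
    have e1 : S.t ^ j * ((S.x b * u') * w * (S.x b * u')⁻¹) * (S.t ^ j)⁻¹
        = (S.x a * u)⁻¹ * w' * (S.x a * u) := by
      rw [hw'def, h]; group
    have e2 : (S.x a * u)⁻¹ * w' = (S.x a * u)⁻¹ * (S.x 0 * w') := by rw [S.x_zero, one_mul]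
    rw [e1, e2, S.h_inv a hu, S.h_mul _ hu1, S.h_mul _ (S.U.mul_mem hu1 hw'),
      S.ψ_mul _ hu1 _ hw', S.ψ_inv hu]
    congr 2
    ring
  rw [hg] at hconj
  have h0 := S.toolB j hj _ _ hw ⟨_, _, hww, hconj⟩
  have : b * (1 - S.ψ w) = 0 := by rw [← h0]; ring
  rcases mul_eq_zero.mp this with h1 | h1
  · exact h1
  · exact absurd (sub_eq_zero.mp h1).symm hw1

/-- the double cosets `H t^j H` are pairwise distinct -/
theorem toolB_distinct {i j : ℤ} (hi : ¬ (p : ℤ) ∣ i) (hj : ¬ (p : ℤ) ∣ j) {a b : F} {u u' : G}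
    (hu : u ∈ S.U) (hu' : u' ∈ S.U)
    (h : S.t ^ i = (S.x a * u) * S.t ^ j * (S.x b * u')) :
    a = 0 ∧ b = 0 ∧ (p : ℤ) ∣ i - j := by
  have hb : b = 0 := S.dc_aux hi hj hu hu' h
  -- inverse equation
  have hi' : ¬ (p : ℤ) ∣ -i := by rwa [dvd_neg]
  have hj' : ¬ (p : ℤ) ∣ -j := by rwa [dvd_neg]
  have hu1 : u⁻¹ ∈ S.U := S.U.inv_mem hu
  have hu1' : u'⁻¹ ∈ S.U := S.U.inv_mem hu'
  have hinv : S.t ^ (-i) = (S.x (-((S.ψ u')⁻¹ * b)) * u'⁻¹) * S.t ^ (-j)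
      * (S.x (-((S.ψ u)⁻¹ * a)) * u⁻¹) := by
    rw [← S.h_inv b hu', ← S.h_inv a hu, zpow_neg, h, zpow_neg]
    group
  have ha0 := S.dc_aux hi' hj' hu1' hu1 hinv
  have ha : a = 0 := by
    rcases mul_eq_zero.mp (neg_eq_zero.mp ha0) with h1 | h1
    · exact absurd h1 (inv_ne_zero (S.ψ_ne u hu))
    · exact h1
  refine ⟨ha, hb, ?_⟩
  subst ha hb
  rw [S.x_zero, one_mul, one_mul] at h
  apply S.t_zpow_mem_U
  have : S.t ^ (i - j) = u * (S.t ^ j * u' * (S.t ^ j)⁻¹) := by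
    rw [zpow_sub, h]; group
  rw [this]
  exact S.U.mul_mem hu (S.t_zpow_norm j hu')

end Setup

end Cfsg.Agent.Helper25.AppC
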