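import Mathlib

/-!
# BG Appendix C: calculus in a Frobenius-like group `Y ⋊ ⟨s⟩` (helper25)

`Frob p Y s`: `Y` is an abelian subgroup of order prime to `p`, normalised by `s`, `s ^ p = 1`, and
`s` acts fixed-point-freely on `Y`.
-/

set_option autoImplicit false
set_option linter.unusedVariables false
set_option linter.unusedSectionVars false

namespace Cfsg.Agent.Helper25.AppC

universe u

variable {G : Type u} [Group G]

/-- Frobenius-like data -/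
structure Frob (p : ℕ) (Y : Subgroup G) (s : G) : Prop where
  hp : p.Prime
  Y_comm : ∀ v ∈ Y, ∀ w ∈ Y, v * w = w * v
  Y_conj : ∀ v ∈ Y, s * v * s⁻¹ ∈ Y
  Y_cop : (Nat.card Y).Coprime p
  Y_fpf : ∀ v ∈ Y, s * v * s⁻¹ = v → v = 1
  s_pow : s ^ p = 1

namespace Frob

variable {p : ℕ} {Y : Subgroup G} {s : G} (h : Frob p Y s)

include h

theorem s_inv_eq : s⁻¹ = s ^ (p - 1) := by
  have hp := h.hp.pos
  have h1 : s ^ (p - 1) * s = 1 := by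
    rw [← pow_succ, Nat.sub_add_cancel hp, h.s_pow]
  exact (eq_inv_of_mul_eq_one_left h1).symm

theorem npow_conj_mem (n : ℕ) {v : G} (hv : v ∈ Y) : s ^ n * v * (s ^ n)⁻¹ ∈ Y := by
  induction n generalizing v with
  | zero => simpa using hv
  | succ k ih =>
    have h1 := ih (h.Y_conj v hv)
    have : s ^ (k + 1) * v * (s ^ (k + 1))⁻¹ = s ^ k * (s * v * s⁻¹) * (s ^ k)⁻¹ := by
      rw [pow_succ]; group
    rw [this]; exact h1

theorem zpow_conj_mem (n : ℤ) {v : G} (hv : v ∈ Y) : s ^ n * v * (s ^ n)⁻¹ ∈ Y := by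
  cases n with
  | ofNat k => simpa using h.npow_conj_mem k hv
  | negSucc k =>
    rw [zpow_negSucc, ← inv_pow, h.s_inv_eq, ← pow_mul]
    exact h.npow_conj_mem _ hv

theorem zpow_conj_mem' (n : ℤ) {v : G} (hv : v ∈ Y) : (s ^ n)⁻¹ * v * s ^ n ∈ Y := by
  have := h.zpow_conj_mem (-n) hv
  rwa [zpow_neg, inv_inv] at this

theorem s_zpow_p : s ^ (p : ℤ) = 1 := by rw [zpow_natCast]; exact h.s_pow

theorem s_zpow_of_dvd {n : ℤ} (hn : (p : ℤ) ∣ n) : s ^ n = 1 := by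
  obtain ⟨m, rfl⟩ := hn
  rw [zpow_mul, h.s_zpow_p, one_zpow]

/-- if `p ∤ n` then `s` is a power of `s ^ n` -/
theorem exists_zpow_eq {n : ℤ} (hn : ¬ (p : ℤ) ∣ n) : ∃ m : ℤ, (s ^ n) ^ m = s := by
  have hcop : IsCoprime n (p : ℤ) := by
    have hpp : Prime (p : ℤ) := Nat.prime_iff_prime_int.mp h.hp
    exact (hpp.coprime_iff_not_dvd.mpr hn).symm
  obtain ⟨a, b, hab⟩ := hcop
  refine ⟨a, ?_⟩
  have : n * a = 1 - b * p := by linarith
  rw [← zpow_mul, this, zpow_sub, zpow_one, zpow_mul]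
  have : (s ^ b) ^ (p : ℤ) = 1 := by rw [← zpow_mul, mul_comm, zpow_mul, h.s_zpow_p, one_zpow]
  rw [this, inv_one, mul_one]

theorem fpf_zpow {n : ℤ} (hn : ¬ (p : ℤ) ∣ n) {v : G} (hv : v ∈ Y)
    (hfix : s ^ n * v * (s ^ n)⁻¹ = v) : v = 1 := by
  obtain ⟨m, hm⟩ := h.exists_zpow_eq hn
  apply h.Y_fpf v hv
  have hc : Commute (s ^ n) v := by
    rw [Commute, SemiconjBy]
    have := congrArg (fun g => g * s ^ n) hfix
    simpa using this
  have hc2 : Commute s v := by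
    rw [← hm]; exact hc.zpow_left m
  rw [hc2.eq, mul_inv_cancel_right]

/-- elements of `Y ∩ ⟨s⟩` are trivial -/
theorem zpow_mem_Y {n : ℤ} (hs : s ^ n ∈ Y) : s ^ n = 1 := by
  have h1 : (s ^ n) ^ p = 1 := by
    rw [← zpow_natCast, ← zpow_mul, mul_comm, zpow_mul, h.s_zpow_p, one_zpow]
  have h2 : (s ^ n) ^ Nat.card Y = 1 := by
    have := pow_card_eq_one' (G := Y) (x := ⟨s ^ n, hs⟩)
    exact congrArg Subtype.val this
  have h3 : orderOf (s ^ n) ∣ Nat.gcd (Nat.card Y) p :=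
    Nat.dvd_gcd (orderOf_dvd_of_pow_eq_one h2) (orderOf_dvd_of_pow_eq_one h1)
  rw [h.Y_cop] at h3
  exact orderOf_eq_one_iff.mp (Nat.dvd_one.mp h3)

/-- the map `v ↦ v⁻¹ * (s^n v s^{-n})` is injective on `Y` for `p ∤ n` -/
theorem delta_inj {n : ℤ} (hn : ¬ (p : ℤ) ∣ n) {v v' : G} (hv : v ∈ Y) (hv' : v' ∈ Y)
    (heq : v⁻¹ * (s ^ n * v * (s ^ n)⁻¹) = v'⁻¹ * (s ^ n * v' * (s ^ n)⁻¹)) : v = v' := by
  have hc := h.zpow_conj_mem n hv
  have hc' := h.zpow_conj_mem n hv'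
  have hvv : v * v'⁻¹ ∈ Y := Y.mul_mem hv (Y.inv_mem hv')
  have h1 : s ^ n * (v * v'⁻¹) * (s ^ n)⁻¹ = v * v'⁻¹ := by
    have e1 : s ^ n * (v * v'⁻¹) * (s ^ n)⁻¹
        = (s ^ n * v * (s ^ n)⁻¹) * (s ^ n * v' * (s ^ n)⁻¹)⁻¹ := by group
    have e2 : s ^ n * v * (s ^ n)⁻¹ = v * (v'⁻¹ * (s ^ n * v' * (s ^ n)⁻¹)) := by
      rw [← heq, mul_inv_cancel_left]
    rw [e1, e2]
    group
  have := h.fpf_zpow hn hvv h1
  exact mul_inv_eq_one.mp this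

section finite

variable [Finite G]

theorem exists_delta {n : ℤ} (hn : ¬ (p : ℤ) ∣ n) {v : G} (hv : v ∈ Y) :
    ∃ w ∈ Y, w⁻¹ * (s ^ n * w * (s ^ n)⁻¹) = v := by
  let f : ↥Y → ↥Y := fun w =>
    ⟨(w : G)⁻¹ * (s ^ n * w * (s ^ n)⁻¹), Y.mul_mem (Y.inv_mem w.2) (h.zpow_conj_mem n w.2)⟩
  have hinj : Function.Injective f := by
    intro a b hab
    have := congrArg Subtype.val hab
    exact Subtype.ext (h.delta_inj hn a.2 b.2 this)
  obtain ⟨w, hw⟩ := (Finite.injective_iff_surjective.mp hinj) ⟨v, hv⟩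
  exact ⟨w, w.2, congrArg Subtype.val hw⟩

/-- every element of the coset `Y s^n` (`p ∤ n`) is `Y`-conjugate to `s^n` -/
theorem exists_conj {n : ℤ} (hn : ¬ (p : ℤ) ∣ n) {v : G} (hv : v ∈ Y) :
    ∃ w ∈ Y, v * s ^ n = w⁻¹ * s ^ n * w := by
  obtain ⟨w, hw, hwv⟩ := h.exists_delta hn hv
  refine ⟨w, hw, ?_⟩
  rw [← hwv]; group

theorem pow_p_eq_one {n : ℤ} (hn : ¬ (p : ℤ) ∣ n) {v : G} (hv : v ∈ Y) :
    (v * s ^ n) ^ p = 1 := by
  obtain ⟨w, hw, hwv⟩ := h.exists_conj hn hv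
  rw [hwv]
  have : w⁻¹ * s ^ n * w = w⁻¹ * s ^ n * (w⁻¹)⁻¹ := by rw [inv_inv]
  rw [this, conj_pow]
  have : (s ^ n) ^ p = 1 := by
    rw [← zpow_natCast, ← zpow_mul, mul_comm, zpow_mul, h.s_zpow_p, one_zpow]
  rw [this]; group

end finite

/-! ### a conjugate `t = w⁻¹ s w` -/

theorem conj_zpow_eq {w : G} (hw : w ∈ Y) (i : ℤ) {v : G} (hv : v ∈ Y) :
    (w⁻¹ * s * w) ^ i * v * ((w⁻¹ * s * w) ^ i)⁻¹ = s ^ i * v * (s ^ i)⁻¹ := by
  have e : (w⁻¹ * s * w) ^ i = w⁻¹ * s ^ i * w := by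
    have : w⁻¹ * s * w = w⁻¹ * s * (w⁻¹)⁻¹ := by rw [inv_inv]
    rw [this, conj_zpow, inv_inv]
  rw [e]
  have h1 : w * v * w⁻¹ = v := by rw [h.Y_comm w hw v hv, mul_inv_cancel_right]
  have h2 := h.zpow_conj_mem i hv
  calc w⁻¹ * s ^ i * w * v * (w⁻¹ * s ^ i * w)⁻¹
      = w⁻¹ * (s ^ i * (w * v * w⁻¹) * (s ^ i)⁻¹) * w := by group
    _ = w⁻¹ * (s ^ i * v * (s ^ i)⁻¹) * w := by rw [h1]
    _ = s ^ i * v * (s ^ i)⁻¹ := by
        rw [mul_assoc, ← h.Y_comm w hw _ h2, inv_mul_cancel_left]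

theorem conj_eq {w : G} (hw : w ∈ Y) {v : G} (hv : v ∈ Y) :
    (w⁻¹ * s * w) * v * (w⁻¹ * s * w)⁻¹ = s * v * s⁻¹ := by
  have := h.conj_zpow_eq hw 1 hv
  simpa using this

/-- `t = w⁻¹ s w` is again Frobenius-like on `Y` -/
theorem conj_frob {w : G} (hw : w ∈ Y) : Frob p Y (w⁻¹ * s * w) where
  hp := h.hp
  Y_comm := h.Y_comm
  Y_conj := fun v hv => by rw [h.conj_eq hw hv]; exact h.Y_conj v hv
  Y_cop := h.Y_cop
  Y_fpf := fun v hv hfix => by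
    rw [h.conj_eq hw hv] at hfix
    exact h.Y_fpf v hv hfix
  s_pow := by
    have : w⁻¹ * s * w = w⁻¹ * s * (w⁻¹)⁻¹ := by rw [inv_inv]
    rw [this, conj_pow, h.s_pow]; group

/-- GEN: `t = w⁻¹ s w` lies in the subgroup generated by `s` and `t^i s t^{-i}` (`p ∤ i`) -/
theorem gen [Finite G] {w : G} (hw : w ∈ Y) {i : ℤ} (hi : ¬ (p : ℤ) ∣ i) :
    w⁻¹ * s * w ∈ Subgroup.closure
      ({s, (w⁻¹ * s * w) ^ i * s * ((w⁻¹ * s * w) ^ i)⁻¹} : Set G) := by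
  set t := w⁻¹ * s * w with ht
  set K₀ := Subgroup.closure ({s, t ^ i * s * (t ^ i)⁻¹} : Set G) with hK₀
  have hsK : s ∈ K₀ := Subgroup.subset_closure (by simp)
  have hgK : t ^ i * s * (t ^ i)⁻¹ ∈ K₀ := Subgroup.subset_closure (by simp)
  have hsnK : ∀ n : ℤ, s ^ n ∈ K₀ := fun n => K₀.zpow_mem hsK n
  -- `z₀ = t s⁻¹ ∈ Y`
  set z₀ := t * s⁻¹ with hz₀
  have hz₀Y : z₀ ∈ Y := by
    have : z₀ = w⁻¹ * (s * w * s⁻¹) := by rw [hz₀, ht]; group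
    rw [this]
    exact Y.mul_mem (Y.inv_mem hw) (h.Y_conj w hw)
  -- `f_i(z₀) ∈ K₀`
  have hact : t ^ i * z₀ * (t ^ i)⁻¹ = s ^ i * z₀ * (s ^ i)⁻¹ := h.conj_zpow_eq hw i hz₀Y
  have hfz : z₀⁻¹ * (s ^ i * z₀ * (s ^ i)⁻¹) ∈ K₀ := by
    have e : z₀⁻¹ * (s ^ i * z₀ * (s ^ i)⁻¹) = (t ^ i * s * (t ^ i)⁻¹ * s⁻¹)⁻¹ := by
      rw [← hact]
      have hs : s = z₀⁻¹ * t := by rw [hz₀]; group
      have e2 : (t ^ i * s * (t ^ i)⁻¹ * s⁻¹)⁻¹ = s * t ^ i * s⁻¹ * (t ^ i)⁻¹ := by group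
      rw [e2]
      have e3 : s * t ^ i * s⁻¹ = z₀⁻¹ * t ^ i * z₀ := by
        have hs' : s⁻¹ = t⁻¹ * z₀ := by rw [hs]; group
        rw [hs', hs]
        have : z₀⁻¹ * t * t ^ i * (t⁻¹ * z₀) = z₀⁻¹ * (t * t ^ i * t⁻¹) * z₀ := by group
        rw [this]
        have : t * t ^ i * t⁻¹ = t ^ i := by group
        rw [this]
      rw [e3]
      group
    rw [e]
    exact K₀.inv_mem (K₀.mul_mem hgK (K₀.inv_mem hsK))
  -- the injective self-map of `Y`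
  let f : ↥Y → ↥Y := fun v =>
    ⟨(v : G)⁻¹ * (s ^ i * v * (s ^ i)⁻¹), Y.mul_mem (Y.inv_mem v.2) (h.zpow_conj_mem i v.2)⟩
  have hinj : Function.Injective f := by
    intro a b hab
    have := congrArg Subtype.val hab
    exact Subtype.ext (h.delta_inj hi a.2 b.2 this)
  let T : Set ↥Y := {v | (v : G) ∈ K₀}
  have hmaps : Set.MapsTo f T T := by
    intro v hv
    show (f v : G) ∈ K₀
    exact K₀.mul_mem (K₀.inv_mem hv)
      (K₀.mul_mem (K₀.mul_mem (hsnK i) hv) (K₀.inv_mem (hsnK i)))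
  have hbij : Set.BijOn f T T :=
    (Set.Finite.injOn_iff_bijOn_of_mapsTo (Set.toFinite T) hmaps).mp hinj.injOn
  have hz₀T : f ⟨z₀, hz₀Y⟩ ∈ T := hfz
  obtain ⟨v, hvT, hv⟩ := hbij.surjOn hz₀T
  have : v = ⟨z₀, hz₀Y⟩ := hinj hv
  have hz₀K : z₀ ∈ K₀ := by
    have h1 : (v : G) ∈ K₀ := hvT
    rw [this] at h1
    exact h1
  have : t = z₀ * s := by rw [hz₀]; group
  rw [this]
  exact K₀.mul_mem hz₀K hsK

/-! ### the group `Y ⋊ ⟨s⟩` and the degree -/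

/-- `g ∈ Y s^n` -/
def Deg (Y : Subgroup G) (s : G) (g : G) (n : ℤ) : Prop := ∃ v ∈ Y, g = v * s ^ n

theorem deg_mul {g g' : G} {n n' : ℤ} (hg : Deg Y s g n) (hg' : Deg Y s g' n') :
    Deg Y s (g * g') (n + n') := by
  obtain ⟨v, hv, rfl⟩ := hg
  obtain ⟨v', hv', rfl⟩ := hg'
  refine ⟨v * (s ^ n * v' * (s ^ n)⁻¹), Y.mul_mem hv (h.zpow_conj_mem n hv'), ?_⟩
  rw [zpow_add]; group

theorem deg_inv {g : G} {n : ℤ} (hg : Deg Y s g n) : Deg Y s g⁻¹ (-n) := by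
  obtain ⟨v, hv, rfl⟩ := hg
  refine ⟨(s ^ n)⁻¹ * v⁻¹ * s ^ n, h.zpow_conj_mem' n (Y.inv_mem hv), ?_⟩
  rw [zpow_neg]; group

theorem deg_s : Deg Y s s 1 := ⟨1, Y.one_mem, by simp⟩

theorem deg_of_mem {v : G} (hv : v ∈ Y) : Deg Y s v 0 := ⟨v, hv, by simp⟩

theorem deg_zpow {g : G} {n : ℤ} (hg : Deg Y s g n) (k : ℤ) : Deg Y s (g ^ k) (n * k) := by
  have hnat : ∀ m : ℕ, Deg Y s (g ^ m) (n * m) := by
    intro m
    induction m with
    | zero => simpa using h.deg_of_mem Y.one_mem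
    | succ j ih =>
      have := h.deg_mul ih hg
      rw [pow_succ]
      convert this using 1
      push_cast; ring
  cases k with
  | ofNat m => simpa using hnat m
  | negSucc m =>
    have := h.deg_inv (hnat (m + 1))
    rw [zpow_negSucc]
    convert this using 1
    rw [Int.negSucc_eq]; push_cast; ring

theorem deg_conj {w : G} (hw : w ∈ Y) : Deg Y s (w⁻¹ * s * w) 1 := by
  refine ⟨w⁻¹ * (s * w * s⁻¹), Y.mul_mem (Y.inv_mem hw) (h.Y_conj w hw), ?_⟩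
  rw [zpow_one]; group

theorem deg_shift {g : G} {n : ℤ} (hg : Deg Y s g n) {n' : ℤ} (hn : (p : ℤ) ∣ n' - n) :
    Deg Y s g n' := by
  obtain ⟨v, hv, rfl⟩ := hg
  refine ⟨v, hv, ?_⟩
  have : s ^ n' = s ^ n := by
    have e : n' = n + (n' - n) := by ring
    rw [e, zpow_add, h.s_zpow_of_dvd hn, mul_one]
  rw [this]

theorem mem_of_deg {g : G} {n : ℤ} (hg : Deg Y s g n) (hn : (p : ℤ) ∣ n) : g ∈ Y := by
  obtain ⟨v, hv, rfl⟩ := hg
  rw [h.s_zpow_of_dvd hn, mul_one]; exact hv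

theorem deg_unique (hs : s ≠ 1) {g : G} {n n' : ℤ} (hg : Deg Y s g n) (hg' : Deg Y s g n') :
    (p : ℤ) ∣ n - n' := by
  obtain ⟨v, hv, rfl⟩ := hg
  obtain ⟨v', hv', e⟩ := hg'
  have h1 : s ^ (n - n') = v⁻¹ * v' := by
    rw [zpow_sub]
    have : s ^ n = v⁻¹ * (v' * s ^ n') := by rw [← e, inv_mul_cancel_left]
    rw [this]; group
  have h2 : s ^ (n - n') = 1 := h.zpow_mem_Y (by rw [h1]; exact Y.mul_mem (Y.inv_mem hv) hv')
  have h3 : orderOf s = p := by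
    have hd : orderOf s ∣ p := orderOf_dvd_of_pow_eq_one h.s_pow
    rcases (Nat.dvd_prime h.hp).mp hd with h4 | h4
    · exact absurd (orderOf_eq_one_iff.mp h4) hs
    · exact h4
  have := (orderOf_dvd_iff_zpow_eq_one).mpr h2
  rwa [h3] at this

/-- an element of `Y s^n` of order prime to `p` lies in `Y` -/
theorem dvd_of_deg_of_pow_eq_one [Finite G] (hs : s ≠ 1) {g : G} {n : ℤ} (hg : Deg Y s g n)
    {m : ℕ} (hm : m.Coprime p) (hgm : g ^ m = 1) : (p : ℤ) ∣ n := by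
  by_contra hn
  obtain ⟨v, hv, rfl⟩ := hg
  have h1 := h.pow_p_eq_one hn hv
  have h3 : orderOf (v * s ^ n) ∣ Nat.gcd m p :=
    Nat.dvd_gcd (orderOf_dvd_of_pow_eq_one hgm) (orderOf_dvd_of_pow_eq_one h1)
  rw [hm] at h3
  have h4 : v * s ^ n = 1 := orderOf_eq_one_iff.mp (Nat.dvd_one.mp h3)
  have h5 : s ^ n = v⁻¹ := eq_inv_of_mul_eq_one_right h4
  have h6 : s ^ n = 1 := h.zpow_mem_Y (by rw [h5]; exact Y.inv_mem hv)
  have h7 : orderOf s = p := by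
    have hd : orderOf s ∣ p := orderOf_dvd_of_pow_eq_one h.s_pow
    rcases (Nat.dvd_prime h.hp).mp hd with h8 | h8
    · exact absurd (orderOf_eq_one_iff.mp h8) hs
    · exact h8
  have := (orderOf_dvd_iff_zpow_eq_one).mpr h6
  rw [h7] at this
  exact hn this

/-- elements of `Y s^n` centralising `s` are powers of `s` -/
theorem eq_zpow_of_commute {g : G} {n : ℤ} (hg : Deg Y s g n) (hc : g * s = s * g) :
    g = s ^ n := by
  obtain ⟨v, hv, rfl⟩ := hg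
  have h1 : s * v * s⁻¹ = v := by
    have e : v * s ^ n * s = s * (v * s ^ n) := hc
    have e2 : v * s * s ^ n = s * v * s ^ n := by
      calc v * s * s ^ n = v * s ^ n * s := by
            rw [mul_assoc, mul_assoc, (Commute.refl s).zpow_right n |>.eq]
        _ = s * (v * s ^ n) := e
        _ = s * v * s ^ n := by rw [mul_assoc]
    have e3 : v * s = s * v := mul_right_cancel e2
    rw [← e3, mul_inv_cancel_right]
  rw [h.Y_fpf v hv h1, one_mul]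

end Frob

end Cfsg.Agent.Helper25.AppC
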