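import Mathlib
import Cfsg.Agent.Lib.Helper25.AppC1
import Cfsg.Agent.Lib.Helper25.AppC2

/-!
# BG Appendix C: the group `K = ⟨s, t⟩`, the `K`-relations and their `U`-conjugates (helper25)
-/

set_option autoImplicit false
set_option linter.unusedVariables false
set_option linter.unusedSectionVars false

namespace Cfsg.Agent.Helper25.AppC

universe u v

namespace Setup

variable {G : Type u} [Group G] {F : Type v} [Field F] {p : ℕ} (S : Setup G F p)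

/-- the Frobenius-like structure on `Y ⋊ ⟨s⟩` -/
theorem frob : Frob p S.Y S.s where
  hp := S.hp
  Y_comm := S.Y_comm
  Y_conj := S.Y_conj
  Y_cop := S.Y_cop
  Y_fpf := S.Y_fpf
  s_pow := S.s_pow_p

/-- the group `K = ⟨s, t⟩` -/
def K : Subgroup G := Subgroup.closure ({S.s, S.t} : Set G)

theorem s_mem_K : S.s ∈ S.K := Subgroup.subset_closure (by simp)

theorem t_mem_K : S.t ∈ S.K := Subgroup.subset_closure (by simp)

variable [Finite G]

/-- `t` is `Y`-conjugate to `s` -/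
theorem exists_w : ∃ w ∈ S.Y, S.t = w⁻¹ * S.s * w := by
  have h1 : ¬ (p : ℤ) ∣ 1 := by
    intro h
    have := Int.natCast_dvd_natCast.mp (by simpa using h : ((p : ℕ) : ℤ) ∣ ((1 : ℕ) : ℤ))
    exact S.hp.one_lt.ne' (Nat.dvd_one.mp this)
  obtain ⟨w, hw, hwv⟩ := S.frob.exists_conj h1 S.t_mem
  refine ⟨w, hw, ?_⟩
  rw [zpow_one] at hwv
  rw [← hwv]
  show S.t = S.t * S.s⁻¹ * S.s
  group

/-- every element of `K` lies in some coset `Y s^n` -/
theorem deg_of_mem_K {g : G} (hg : g ∈ S.K) : ∃ n : ℤ, Frob.Deg S.Y S.s g n := by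
  obtain ⟨w, hw, ht⟩ := S.exists_w
  induction hg using Subgroup.closure_induction with
  | mem x hx =>
    rcases hx with hx | hx
    · rw [hx]; exact ⟨1, S.frob.deg_s⟩
    · rw [Set.mem_singleton_iff.mp hx, ht]; exact ⟨1, S.frob.deg_conj hw⟩
  | one => exact ⟨0, S.frob.deg_of_mem S.Y.one_mem⟩
  | mul x y _ _ hx hy =>
    obtain ⟨n, hn⟩ := hx
    obtain ⟨m, hm⟩ := hy
    exact ⟨n + m, S.frob.deg_mul hn hm⟩
  | inv x _ hx =>
    obtain ⟨n, hn⟩ := hx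
    exact ⟨-n, S.frob.deg_inv hn⟩

theorem deg_t_zpow (j : ℤ) : Frob.Deg S.Y S.s (S.t ^ j) j := by
  obtain ⟨w, hw, ht⟩ := S.exists_w
  have := S.frob.deg_zpow (S.frob.deg_conj hw) j
  rw [one_mul, ← ht] at this
  exact this

/-- `K ∩ P = P₀` -/
theorem x_mem_K {a : F} (h : S.x a ∈ S.K) : ∃ n : ℤ, a = (n : F) := by
  obtain ⟨n, v, hv, hvn⟩ := S.deg_of_mem_K h
  refine ⟨n, ?_⟩
  have h1 : v = S.x (a - n) := by
    rw [S.x_sub, S.x_intCast, hvn, mul_inv_cancel_right]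
  have h2 : v ^ p = 1 := by rw [h1, S.x_pow_p]
  have h3 : v ^ Nat.card S.Y = 1 := by
    have := pow_card_eq_one' (G := S.Y) (x := ⟨v, hv⟩)
    exact congrArg Subtype.val this
  have h4 : orderOf v ∣ Nat.gcd (Nat.card S.Y) p :=
    Nat.dvd_gcd (orderOf_dvd_of_pow_eq_one h3) (orderOf_dvd_of_pow_eq_one h2)
  rw [S.Y_cop] at h4
  have h5 : v = 1 := orderOf_eq_one_iff.mp (Nat.dvd_one.mp h4)
  rw [h5] at h1
  have := S.x_eq_one_iff.mp h1.symm
  exact sub_eq_zero.mp this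

/-- the `K`-relations -/
theorem KR {a b c : ℤ} (habc : a + b + c = 0) :
    S.t ^ a * S.s ^ b * S.t ^ c = S.s ^ (-c) * S.t ^ (-b) * S.s ^ (-a) := by
  obtain ⟨w, hw, ht⟩ := S.exists_w
  have e : ∀ j : ℤ, S.t ^ j = w⁻¹ * S.s ^ j * w := by
    intro j
    have : w⁻¹ * S.s * w = w⁻¹ * S.s * (w⁻¹)⁻¹ := by rw [inv_inv]
    rw [ht, this, conj_zpow, inv_inv]
  set s := S.s with hs
  -- the commuting elements `w_j = s^j w s^{-j}`
  have hwj : ∀ j : ℤ, s ^ j * w * (s ^ j)⁻¹ ∈ S.Y := fun j => S.frob.zpow_conj_mem j hw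
  have hc : c = -a - b := by linarith
  subst hc
  rw [e a, e (-a - b), e (-b)]
  have lhs : w⁻¹ * s ^ a * w * s ^ b * (w⁻¹ * s ^ (-a - b) * w)
      = w⁻¹ * ((s ^ a * w * (s ^ a)⁻¹) * (s ^ (a + b) * w * (s ^ (a + b))⁻¹)⁻¹) * w := by
    rw [zpow_add, zpow_sub, zpow_neg]; group
  have rhs : s ^ (-(-a - b)) * (w⁻¹ * s ^ (-b) * w) * s ^ (-a)
      = (s ^ (a + b) * w * (s ^ (a + b))⁻¹)⁻¹ * (s ^ a * w * (s ^ a)⁻¹) := by
    rw [zpow_add, zpow_neg, zpow_sub, zpow_neg, zpow_neg]; group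
  rw [lhs, rhs]
  have h1 := hwj a
  have h2 : (s ^ (a + b) * w * (s ^ (a + b))⁻¹)⁻¹ ∈ S.Y := S.Y.inv_mem (hwj (a + b))
  have h12 := S.Y.mul_mem h1 h2
  rw [mul_assoc, ← S.Y_comm w hw _ h12, inv_mul_cancel_left, S.Y_comm _ h1 _ h2]

end Setup

end Cfsg.Agent.Helper25.AppC
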