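import Mathlib
import Cfsg.Agent.Lib.Helper26.CG3Defs

/-!
# S3412 piece CG3-E2 (helper25): `decM_mul`, `cb_iff`.
-/

set_option autoImplicit false

namespace Cfsg.Agent.Helper26.CG3

theorem e2_ent_lt (x y i j : ℕ) : ent x y i j < 3 := by
  unfold ent
  exact Nat.mod_lt _ (by norm_num)

/-- E2 -/
theorem decM_mul (m n : ℕ) (i j : Fin 3) :
    (decM m * decM n) i j = ((ent m n i.val j.val : ℕ) : ZMod 3) := by
  rw [Matrix.mul_apply, Fin.sum_univ_three]
  unfold ent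
  rw [ZMod.natCast_mod]
  simp only [decM, Matrix.of_apply]
  push_cast
  have h0 : ((0 : Fin 3) : ℕ) = 0 := rfl
  have h1 : ((1 : Fin 3) : ℕ) = 1 := rfl
  have h2 : ((2 : Fin 3) : ℕ) = 2 := rfl
  rw [h0, h1, h2]
  have e1 : 3 * i.val + 0 = 3 * i.val := by omega
  have e2 : 3 * 0 + j.val = j.val := by omega
  have e3 : 3 * 1 + j.val = 3 + j.val := by omega
  have e4 : 3 * 2 + j.val = 6 + j.val := by omega
  rw [e1, e2, e3, e4]

theorem e2_ent_eq_iff (m n : ℕ) (i j : Fin 3) :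
    ent m n i.val j.val = ent n m i.val j.val ↔
      (decM m * decM n) i j = (decM n * decM m) i j := by
  rw [decM_mul, decM_mul, ZMod.natCast_eq_natCast_iff']
  rw [Nat.mod_eq_of_lt (e2_ent_lt _ _ _ _), Nat.mod_eq_of_lt (e2_ent_lt _ _ _ _)]

/-- E2' (from E2) -/
theorem cb_iff (m n : ℕ) : cb m n = true ↔ decM m * decM n = decM n * decM m := by
  have H : ∀ i j : Fin 3, (ent m n i.val j.val == ent n m i.val j.val) = true ↔
      (decM m * decM n) i j = (decM n * decM m) i j := by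
    intro i j
    rw [beq_iff_eq, e2_ent_eq_iff]
  have h00 := H 0 0
  have h01 := H 0 1
  have h02 := H 0 2
  have h10 := H 1 0
  have h11 := H 1 1
  have h12 := H 1 2
  have h20 := H 2 0
  have h21 := H 2 1
  have h22 := H 2 2
  have v0 : ((0 : Fin 3) : ℕ) = 0 := rfl
  have v1 : ((1 : Fin 3) : ℕ) = 1 := rfl
  have v2 : ((2 : Fin 3) : ℕ) = 2 := rfl
  rw [v0, v1, v2] at *
  constructor
  · intro h
    unfold cb at h
    simp only [Bool.and_eq_true] at h
    obtain ⟨⟨⟨⟨⟨⟨⟨⟨a00, a01⟩, a02⟩, a10⟩, a11⟩, a12⟩, a20⟩, a21⟩, a22⟩ := h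
    ext i j
    fin_cases i <;> fin_cases j
    · exact h00.mp a00
    · exact h01.mp a01
    · exact h02.mp a02
    · exact h10.mp a10
    · exact h11.mp a11
    · exact h12.mp a12
    · exact h20.mp a20
    · exact h21.mp a21
    · exact h22.mp a22
  · intro h
    unfold cb
    simp only [Bool.and_eq_true]
    refine ⟨⟨⟨⟨⟨⟨⟨⟨?_, ?_⟩, ?_⟩, ?_⟩, ?_⟩, ?_⟩, ?_⟩, ?_⟩, ?_⟩
    · exact h00.mpr (by rw [h])
    · exact h01.mpr (by rw [h])
    · exact h02.mpr (by rw [h])
    · exact h10.mpr (by rw [h])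
    · exact h11.mpr (by rw [h])
    · exact h12.mpr (by rw [h])
    · exact h20.mpr (by rw [h])
    · exact h21.mpr (by rw [h])
    · exact h22.mpr (by rw [h])

end Cfsg.Agent.Helper26.CG3
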