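import Mathlib
import Cfsg.Agent.Lib.Helper29.StemOdd

/-!
# S2046 piece HEISP (helper25 for helper29): `comm_inf_ker_of_heis` for an arbitrary odd prime
-/

set_option autoImplicit false

namespace Cfsg.Agent.Helper29.StemOdd

open Cfsg.Agent.Helper29.StemSylow Cfsg.Agent.Helper29.StemSplit Cfsg.Agent.Helper29.StemRank
  Cfsg.Agent.Helper29.StemTwo
open scoped commutatorElement

variable {Γ G : Type*} [Group Γ] [Group G]

/-- a commutator central modulo the center, of elements one of which has a central odd power and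
which is inverted together with the commutator being fixed by some element, is trivial -/
theorem comm_eq_one_of_inverted_odd (m : ℕ) (hm : Odd m) (x c n : Γ)
    (hxm : x ^ m ∈ Subgroup.center Γ)
    (hκ : ⁅x, c⁆ ∈ Subgroup.center Γ) {μ₁ μ₃ : Γ} (hμ₁ : μ₁ ∈ Subgroup.center Γ)
    (hμ₃ : μ₃ ∈ Subgroup.center Γ) (hnx : n * x * n⁻¹ = x⁻¹ * μ₁) (hnc : n * c * n⁻¹ = c * μ₃) :
    ⁅x, c⁆ = 1 := by
  have cκ := central_comm' hκ
  have h1 : n * ⁅x, c⁆ * n⁻¹ = ⁅x, c⁆ := conj_central hκ n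
  have h2 : n * ⁅x, c⁆ * n⁻¹ = ⁅x, c⁆⁻¹ := by
    rw [conjugate_commutatorElement, hnx, hnc, comm_central_left (central_comm' hμ₁),
      comm_central_right (central_comm' hμ₃)]
    exact comm_inv_left_of_comm x c (cκ x)
  have hc2 : ⁅x, c⁆ * ⁅x, c⁆ = 1 := by
    have : ⁅x, c⁆ = ⁅x, c⁆⁻¹ := h1.symm.trans h2
    calc ⁅x, c⁆ * ⁅x, c⁆ = ⁅x, c⁆ * ⁅x, c⁆⁻¹ := by rw [← this]
      _ = 1 := mul_inv_cancel _
  have hcm : ⁅x, c⁆ ^ m = 1 := by
    rw [← comm_pow_left_of_comm x c (cκ x), commutatorElement_def, ← central_comm' hxm c]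
    group
  exact eq_one_of_sq_of_odd_pow hc2 hm hcm

/-- **Extraspecial groups of order `p ^ 3` and exponent `p`, `p` odd.** If `a`, `b` of order `p`
generate a group in which `⁅a, b⁆ ≠ 1` is central, and some element inverts both `a` and `b`, then
the commutator subgroup of the preimage meets the kernel trivially. -/
theorem comm_inf_ker_of_heis_prime (p : ℕ) (hp : p.Prime) (hp2 : p ≠ 2) (σ : Γ →* G)
    (hK : σ.ker ≤ Subgroup.center Γ) (x y n : Γ) (hxp : σ x ^ p = 1) (hyp : σ y ^ p = 1)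
    (hcx : σ x * ⁅σ x, σ y⁆ = ⁅σ x, σ y⁆ * σ x) (hcy : σ y * ⁅σ x, σ y⁆ = ⁅σ x, σ y⁆ * σ y)
    (hnx : σ n * σ x * (σ n)⁻¹ = (σ x)⁻¹) (hny : σ n * σ y * (σ n)⁻¹ = (σ y)⁻¹)
    (hc1 : ⁅σ x, σ y⁆ ≠ 1) (P : Subgroup G) (hP : P ≤ Subgroup.closure {σ x, σ y}) :
    ∀ k ∈ ⁅P.comap σ, P.comap σ⁆, k ∈ σ.ker → k = 1 := by
  have hodd : Odd p := hp.odd_of_ne_two hp2
  have kc : ∀ {κ : Γ}, σ κ = 1 → κ ∈ Subgroup.center Γ := fun h => hK ((MonoidHom.mem_ker).2 h)
  obtain ⟨c, hc⟩ : ∃ c, c = ⁅x, y⁆ := ⟨_, rfl⟩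
  have hσc : σ c = ⁅σ x, σ y⁆ := by rw [hc, map_commutatorElement]
  -- conjugation by `n`
  obtain ⟨μ₁, hμ₁, e1⟩ := exists_ker_mul σ (n * x * n⁻¹) x⁻¹ (by
    rw [map_mul, map_mul, map_inv, map_inv]; exact hnx)
  obtain ⟨μ₂, hμ₂, e2⟩ := exists_ker_mul σ (n * y * n⁻¹) y⁻¹ (by
    rw [map_mul, map_mul, map_inv, map_inv]; exact hny)
  obtain ⟨μ₃, hμ₃, e3⟩ := exists_ker_mul σ (n * c * n⁻¹) c (by
    rw [map_mul, map_mul, map_inv, hσc, conjugate_commutatorElement, hnx, hny]
    exact comm_inv_inv hcx hcy)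
  have hxp' : x ^ p ∈ Subgroup.center Γ := kc (by rw [map_pow, hxp])
  have hyp' : y ^ p ∈ Subgroup.center Γ := kc (by rw [map_pow, hyp])
  have hxc : ⁅x, c⁆ = 1 := by
    apply comm_eq_one_of_inverted_odd p hodd x c n hxp' _ (hK hμ₁) (hK hμ₃) e1 e3
    apply kc
    rw [map_commutatorElement, hσc]
    exact commutatorElement_eq_one_iff_mul_comm.2 hcx
  have hyc : ⁅y, c⁆ = 1 := by
    apply comm_eq_one_of_inverted_odd p hodd y c n hyp' _ (hK hμ₂) (hK hμ₃) e2 e3
    apply kc
    rw [map_commutatorElement, hσc]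
    exact commutatorElement_eq_one_iff_mul_comm.2 hcy
  have hxc' : x * c = c * x := commutatorElement_eq_one_iff_mul_comm.1 hxc
  have hyc' : y * c = c * y := commutatorElement_eq_one_iff_mul_comm.1 hyc
  -- `c ^ p = 1`
  have hcp : c ^ p = 1 := by
    rw [hc, ← comm_pow_left_of_comm x y (by rw [← hc]; exact hxc'), commutatorElement_def,
      ← central_comm' hxp' y]
    group
  -- the derived subgroup of the preimage lies in `⟨c⟩`
  obtain ⟨M, hM⟩ : ∃ M : Set Γ, M = {x, y} ∪ (Subgroup.center Γ : Set Γ) := ⟨_, rfl⟩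
  have hle : P.comap σ ≤ Subgroup.closure M := by
    refine le_trans (Subgroup.comap_mono hP) (le_trans (comap_closure_le σ _ ?_) ?_)
    · intro s hs
      simp only [Set.mem_insert_iff, Set.mem_singleton_iff] at hs
      rcases hs with rfl | rfl
      · exact ⟨x, rfl⟩
      · exact ⟨y, rfl⟩
    · rw [Subgroup.closure_le]
      intro s hs
      have hcen' : ∀ κ ∈ σ.ker, κ ∈ Subgroup.closure M := fun κ hκ =>
        Subgroup.subset_closure (by rw [hM]; exact Or.inr (hK hκ))
      rcases hs with hs | hs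
      · have hs' : σ s ∈ ({σ x, σ y} : Set G) := hs
        simp only [Set.mem_insert_iff, Set.mem_singleton_iff] at hs'
        rcases hs' with h | h
        · obtain ⟨κ, hκ, rfl⟩ := exists_ker_mul σ s x h
          exact Subgroup.mul_mem _ (Subgroup.subset_closure (by rw [hM]; simp)) (hcen' κ hκ)
        · obtain ⟨κ, hκ, rfl⟩ := exists_ker_mul σ s y h
          exact Subgroup.mul_mem _ (Subgroup.subset_closure (by rw [hM]; simp)) (hcen' κ hκ)
      · exact hcen' s hs
  have hcomm : ⁅Subgroup.closure M, Subgroup.closure M⁆ ≤ Subgroup.zpowers c := by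
    apply commutator_closure_le
    · have hone : ∀ a b : Γ, a * b = b * a → ⁅a, b⁆ ∈ Subgroup.zpowers c := by
        intro a b h
        rw [commutatorElement_eq_one_iff_mul_comm.2 h]
        exact Subgroup.one_mem _
      intro s hs t ht
      rw [hM] at hs ht
      rcases ht with ht | ht
      · rcases hs with hs | hs
        · simp only [Set.mem_insert_iff, Set.mem_singleton_iff] at hs ht
          rcases hs with rfl | rfl <;> rcases ht with rfl | rfl
          · exact hone _ _ rfl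
          · rw [← hc]; exact Subgroup.mem_zpowers c
          · rw [← commutatorElement_inv, ← hc]
            exact Subgroup.inv_mem _ (Subgroup.mem_zpowers c)
          · exact hone _ _ rfl
        · exact hone _ _ (central_comm' hs t).symm
      · exact hone _ _ (central_comm' ht s)
    · intro c' hc' s hs
      obtain ⟨i, rfl⟩ := Subgroup.mem_zpowers_iff.1 hc'
      rw [hM] at hs
      rcases hs with hs | hs
      · simp only [Set.mem_insert_iff, Set.mem_singleton_iff] at hs
        rcases hs with rfl | rfl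
        · exact ((show Commute s c from hxc').zpow_right i).eq
        · exact ((show Commute s c from hyc').zpow_right i).eq
      · exact (central_comm' hs _).symm
  intro k hk hkK
  obtain ⟨i, rfl⟩ := Subgroup.mem_zpowers_iff.1 (hcomm (Subgroup.commutator_mono hle hle hk))
  have hσ1 : σ c ≠ 1 := by rw [hσc]; exact hc1
  have hσp : σ c ^ p = 1 := by rw [← map_pow, hcp, map_one]
  have hord : orderOf (σ c) = p := by
    haveI : Fact p.Prime := ⟨hp⟩
    exact orderOf_eq_prime hσp hσ1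
  have hσi : σ c ^ i = 1 := by
    have := (MonoidHom.mem_ker).1 hkK
    rwa [map_zpow] at this
  have hdvd : (p : ℤ) ∣ i := by
    rw [← hord]
    exact orderOf_dvd_iff_zpow_eq_one.2 hσi
  obtain ⟨j, rfl⟩ := hdvd
  rw [zpow_mul, zpow_natCast, hcp, one_zpow]

end Cfsg.Agent.Helper29.StemOdd
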