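import Mathlib
import Cfsg.Agent.Lib.Lead.NC2Defs
import Cfsg.Agent.Lib.Helper22.NC2DISJ

/-!
# S3894 (n = 2) piece N2-TI: commuting nonscalar elements have the same piece.
-/

set_option autoImplicit false

namespace Cfsg.Agent.Lead.NC2

open Matrix

variable {F : Type*} [Field F]

/-- if `y = a + b x` then everything commuting with `x` commutes with `y`. -/
theorem nc2_ti_commute_of_eq {x y g : GL (Fin 2) F} {a b : F}
    (hy : (y : Matrix (Fin 2) (Fin 2) F) =
      a • (1 : Matrix (Fin 2) (Fin 2) F) + b • (x : Matrix (Fin 2) (Fin 2) F))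
    (hg : g * x = x * g) : g * y = y * g := by
  have hm : (g : Matrix (Fin 2) (Fin 2) F) * (x : Matrix (Fin 2) (Fin 2) F) =
      (x : Matrix (Fin 2) (Fin 2) F) * (g : Matrix (Fin 2) (Fin 2) F) := by
    have := congrArg (fun g : GL (Fin 2) F => (g : Matrix (Fin 2) (Fin 2) F)) hg
    simpa using this
  apply Units.ext
  rw [Units.val_mul, Units.val_mul, hy, mul_add, add_mul, Matrix.mul_smul, Matrix.smul_mul,
    Matrix.mul_smul, Matrix.smul_mul, mul_one, one_mul, hm]

theorem nc2_ti_centralizer_le {x y : GL (Fin 2) F}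
    (hx : ¬ IsScalar (x : Matrix (Fin 2) (Fin 2) F)) (h : y * x = x * y) :
    Subgroup.centralizer {x} ≤ Subgroup.centralizer {y} := by
  have hm : (x : Matrix (Fin 2) (Fin 2) F) * (y : Matrix (Fin 2) (Fin 2) F) =
      (y : Matrix (Fin 2) (Fin 2) F) * (x : Matrix (Fin 2) (Fin 2) F) := by
    have := congrArg (fun g : GL (Fin 2) F => (g : Matrix (Fin 2) (Fin 2) F)) h
    simpa using this.symm
  obtain ⟨a, b, hab⟩ := nc2_disj_commutant (x : Matrix (Fin 2) (Fin 2) F)
    (y : Matrix (Fin 2) (Fin 2) F) hx hm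
  intro g hg
  rw [Subgroup.mem_centralizer_singleton_iff] at hg ⊢
  exact nc2_ti_commute_of_eq hab hg

/-! ### N2-TI -/

theorem T_eq_of_commute {x y : GL (Fin 2) F} (hx : ¬ IsScalar (x : Matrix (Fin 2) (Fin 2) F))
    (hy : ¬ IsScalar (y : Matrix (Fin 2) (Fin 2) F)) (h : y * x = x * y) : T y = T x := by
  unfold T
  congr 1
  exact le_antisymm (nc2_ti_centralizer_le hy h.symm) (nc2_ti_centralizer_le hx h)

end Cfsg.Agent.Lead.NC2
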