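import Mathlib

/-!
# S4150, piece NTREAL (helper25): the inequality contradicting "at most two primes in `(n, 2n]`",
for `n ≥ 2048` (Mathlib's `Bertrand.real_main_inequality` with two extra factors `2 * x`).
-/

set_option autoImplicit false
set_option linter.style.haveILetI false
set_option linter.unusedVariables false

namespace Cfsg.Agent.Helper2.AG

namespace NTREAL

open Real

/-- the real inequality: `x (2x)^√(2x) 4^(2x/3) (2x)^2 ≤ 4^x` for `x ≥ 2048` -/
theorem real_main_inequality' {x : ℝ} (x_large : (2048 : ℝ) ≤ x) :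
    x * ((2 * x) ^ √(2 * x) * 4 ^ (2 * x / 3) * (2 * x) ^ (2 : ℝ)) ≤ 4 ^ x := by
  let f : ℝ → ℝ := fun x => log x + √(2 * x) * log (2 * x) - log 4 / 3 * x
  let g : ℝ → ℝ := fun x => f x + 2 * log (2 * x)
  have h5 : 0 < x := lt_of_lt_of_le (by norm_num1) x_large
  have hf : ConcaveOn ℝ (Set.Ioi 0.5) f := by
    apply ConcaveOn.sub
    · apply ConcaveOn.add
      · exact strictConcaveOn_log_Ioi.concaveOn.subset
          (Set.Ioi_subset_Ioi (by norm_num)) (convex_Ioi 0.5)
      convert!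
        ((strictConcaveOn_sqrt_mul_log_Ioi.concaveOn.comp_linearMap ((2 : ℝ) • LinearMap.id)))
        using 1
      ext x
      simp only [Set.mem_Ioi, Set.mem_preimage, LinearMap.smul_apply,
        LinearMap.id_coe, id_eq, smul_eq_mul]
      rw [← mul_lt_mul_iff_right₀ (two_pos)]
      norm_num1
      rfl
    apply ConvexOn.smul
    · refine div_nonneg (log_nonneg (by norm_num1)) (by norm_num1)
    · exact convexOn_id (convex_Ioi (0.5 : ℝ))
  have hlog2 : ConcaveOn ℝ (Set.Ioi (0.5 : ℝ)) (fun x : ℝ => 2 * log (2 * x)) := by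
    have h1 : ConcaveOn ℝ (Set.Ioi (0.5 : ℝ)) (fun x : ℝ => log (2 * x)) := by
      convert!
        ((strictConcaveOn_log_Ioi.concaveOn.subset
          (Set.Ioi_subset_Ioi (by norm_num : (0 : ℝ) ≤ 1)) (convex_Ioi 1)).comp_linearMap
            ((2 : ℝ) • LinearMap.id))
        using 1
      ext x
      simp only [Set.mem_Ioi, Set.mem_preimage, LinearMap.smul_apply,
        LinearMap.id_coe, id_eq, smul_eq_mul]
      rw [← mul_lt_mul_iff_right₀ (two_pos)]
      norm_num1
      rfl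
    have h3 := h1.smul (by norm_num : (0 : ℝ) ≤ 2)
    simpa [smul_eq_mul] using h3
  have hg : ConcaveOn ℝ (Set.Ioi 0.5) g := hf.add hlog2
  -- `g x ≤ 0`
  have key : g x ≤ 0 := by
    suffices ∃ x1 x2, 0.5 < x1 ∧ x1 < x2 ∧ x2 ≤ x ∧ 0 ≤ g x1 ∧ g x2 ≤ 0 by
      obtain ⟨x1, x2, h1, h2, h0, h3, h4⟩ := this
      exact (hg.right_le_of_le_left'' h1 ((h1.trans h2).trans_le h0) h2 h0 (h4.trans h3)).trans h4
    refine ⟨18, 2048, by norm_num1, by norm_num1, x_large, ?_, ?_⟩
    · have hs : √(2 * 18 : ℝ) = 6 :=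
        (sqrt_eq_iff_mul_self_eq_of_pos (by norm_num1)).mpr (by norm_num1)
      show 0 ≤ log 18 + √(2 * 18) * log (2 * 18) - log 4 / 3 * 18 + 2 * log (2 * 18)
      rw [hs]
      have h36 : log 4 ≤ log (2 * 18) := log_le_log (by norm_num) (by norm_num)
      have h4 : 0 ≤ log (4 : ℝ) := log_nonneg (by norm_num)
      have h18 : 0 ≤ log (18 : ℝ) := log_nonneg (by norm_num)
      generalize log (2 * 18 : ℝ) = A at *
      generalize log (4 : ℝ) = B at *
      generalize log (18 : ℝ) = C at *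
      linarith
    · have hs : √(2 * 2048 : ℝ) = 64 :=
        (sqrt_eq_iff_mul_self_eq_of_pos (by norm_num1)).mpr (by norm_num1)
      show log 2048 + √(2 * 2048) * log (2 * 2048) - log 4 / 3 * 2048 + 2 * log (2 * 2048) ≤ 0
      rw [hs]
      have e1 : log (2048 : ℝ) = 11 * log 2 := by
        rw [show (2048 : ℝ) = 2 ^ 11 by norm_num, log_pow]; norm_num
      have e2 : log (2 * 2048 : ℝ) = 12 * log 2 := by
        rw [show (2 * 2048 : ℝ) = 2 ^ 12 by norm_num, log_pow]; norm_num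
      have e3 : log (4 : ℝ) = 2 * log 2 := by
        rw [show (4 : ℝ) = 2 ^ 2 by norm_num, log_pow]; norm_num
      have hl : 0 < log (2 : ℝ) := log_pos (by norm_num)
      rw [e1, e2, e3]
      nlinarith
  -- back to the inequality
  have h2x : 0 < 2 * x := by positivity
  have hp1 : 0 < (2 * x) ^ √(2 * x) := rpow_pos_of_pos h2x _
  have hp2 : 0 < (4 : ℝ) ^ (2 * x / 3) := rpow_pos_of_pos four_pos _
  have hp3 : 0 < (2 * x) ^ (2 : ℝ) := rpow_pos_of_pos h2x _
  have hL : 0 < x * ((2 * x) ^ √(2 * x) * 4 ^ (2 * x / 3) * (2 * x) ^ (2 : ℝ)) := by positivity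
  have hR : 0 < (4 : ℝ) ^ x := rpow_pos_of_pos four_pos _
  rw [← log_le_log_iff hL hR, log_mul h5.ne' (by positivity), log_mul (by positivity) hp3.ne',
    log_mul hp1.ne' hp2.ne', log_rpow h2x, log_rpow four_pos, log_rpow h2x, log_rpow four_pos]
  have : g x = log x + √(2 * x) * log (2 * x) - log 4 / 3 * x + 2 * log (2 * x) := rfl
  rw [this] at key
  linarith

end NTREAL

open Nat in
/-- NT-REAL -/
theorem nat_main_ineq {n : ℕ} (hn : 2048 ≤ n) :
    n * ((2 * n) ^ Nat.sqrt (2 * n) * 4 ^ (2 * n / 3) * (2 * n) ^ 2) ≤ 4 ^ n := by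
  rw [← @Nat.cast_le ℝ]
  simp only [Nat.cast_mul, Nat.cast_pow, ← Real.rpow_natCast, Nat.cast_ofNat]
  refine _root_.trans ?_ (NTREAL.real_main_inequality' (by exact_mod_cast hn))
  have n2_pos : (0 : ℝ) < 2 * n := by
    have : 0 < 2 * n := by omega
    exact_mod_cast this
  have h1 : (1 : ℝ) ≤ 2 * n := by
    have : 1 ≤ 2 * n := by omega
    exact_mod_cast this
  gcongr
  · exact_mod_cast Real.nat_sqrt_le_real_sqrt
  · norm_num1
  · exact Nat.cast_div_le.trans (by norm_cast)

end Cfsg.Agent.Helper2.AG
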