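import Mathlib
import Cfsg.Agent.Lib.Helper13.InvNDefsP
import Cfsg.Agent.Lib.Helper13.InvNTabF4
import Cfsg.Agent.Lib.Helper13.InvNTabE6
import Cfsg.Agent.Lib.Helper13.InvNTabE7
import Cfsg.Agent.Lib.Helper13.InvNTabE8

/-!
# INVN PIECE TABP (helper25): soundness of the packed table check, and the four table theorems.
-/

set_option autoImplicit false
set_option linter.unusedSectionVars false
set_option linter.unusedVariables false

namespace Cfsg.Agent.Helper13.InvN

open Cfsg Cfsg.Lie Cfsg.Agent.Lead.Chev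

section sound

variable {F : Type*} [Field F] {D : ChevalleyDatum} (hF : ChevFacts D F) (Ws : List ℕ)
  (hWs : ∀ i < D.rank, ∀ v < D.nroots, unpack8 (Ws.getD i 0) v = D.reflectRoot i v)
include hF hWs

theorem tabp_reflWordP (w : List ℕ) (hw : ∀ i ∈ w, i < D.rank) (s : ℕ) (hs : s < D.nroots) :
    reflWordP Ws w s = reflWord D w s :=
  reflWordP_eq D (etaOf D) hF.facts Ws hWs w hw s hs

theorem tabp_reflWordP_simple (w : List ℕ) (hw : ∀ i ∈ w, i < D.rank) (j : ℕ) (hj : j < D.rank) :
    reflWordP Ws w (D.simple j) = reflWord D w (D.simple j) :=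
  tabp_reflWordP hF Ws hWs w hw _ (hF.simple_lt j hj)

omit hF hWs in
theorem tabp_frameWord_lt (S : Frame)
    (hv : ∀ e ∈ S, (∀ i ∈ e.1, i < D.rank) ∧ e.2 < D.rank) : ∀ i ∈ frameWord S, i < D.rank := by
  intro i hi
  unfold frameWord at hi
  rw [List.mem_flatMap] at hi
  obtain ⟨e, he, hie⟩ := hi
  have h := hv e he
  simp only [List.mem_append, List.mem_singleton, List.mem_reverse] at hie
  rcases hie with (h1 | h1) | h1
  · exact h.1 i h1
  · rw [h1]; exact h.2
  · exact h.1 i h1

omit hF hWs in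
theorem tabp_valid_of_all (S : Frame)
    (h : (S.all fun e => e.1.all (fun i => decide (i < D.rank)) && decide (e.2 < D.rank)) = true) :
    ∀ e ∈ S, (∀ i ∈ e.1, i < D.rank) ∧ e.2 < D.rank := by
  intro e he
  rw [List.all_eq_true] at h
  have h1 := h e he
  rw [Bool.and_eq_true, List.all_eq_true, decide_eq_true_eq] at h1
  exact ⟨fun i hi => by simpa using h1.1 i hi, h1.2⟩

theorem tabp_frameOK (S : Frame) (h : frameOKP D Ws S = true) :
    frameOK D S = true ∧ ∀ i ∈ frameWord S, i < D.rank := by
  unfold frameOKP at h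
  rw [Bool.and_eq_true] at h
  obtain ⟨h1, h2⟩ := h
  have hv := tabp_valid_of_all S h1
  refine ⟨?_, tabp_frameWord_lt S hv⟩
  unfold frameOK
  rw [Bool.and_eq_true]
  refine ⟨h1, ?_⟩
  have hmap : S.map (frootP D Ws) = frameRoots D S := by
    unfold frameRoots
    apply List.map_congr_left
    intro e he
    unfold frootP froot
    exact tabp_reflWordP_simple hF Ws hWs e.1 (hv e he).1 e.2 (hv e he).2
  rw [← hmap]
  exact h2

omit hF hWs in
theorem tabp_candWord_lt (w0 wJ : List ℕ) (h0 : ∀ j ∈ w0, j < D.rank) (hJ : ∀ j ∈ wJ, j < D.rank) :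
    ∀ i ∈ candWord w0 wJ, i < D.rank := by
  intro i hi
  unfold candWord at hi
  simp only [List.mem_append, List.mem_reverse] at hi
  rcases hi with h | h
  · exact h0 i h
  · exact hJ i h

theorem tabp_entryChk (w0 : List ℕ) (hw0 : ∀ j ∈ w0, j < D.rank) (m : ℕ) (e : JEntry)
    (h : entryChkP D Ws w0 m e = true) : entryChk D w0 m e = true := by
  unfold entryChkP at h
  rw [Bool.and_eq_true, Bool.and_eq_true] at h
  obtain ⟨⟨h1, h2⟩, h3⟩ := h
  have hJ : ∀ j ∈ e.wJ, j < D.rank := by
    intro j hj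
    rw [List.all_eq_true] at h1
    have := h1 j hj
    rw [Bool.and_eq_true, decide_eq_true_eq] at this
    exact this.1
  have hc := tabp_candWord_lt w0 e.wJ hw0 hJ
  unfold entryChk
  rw [Bool.and_eq_true, Bool.and_eq_true]
  refine ⟨⟨h1, ?_⟩, ?_⟩
  · rw [List.all_eq_true] at h2 ⊢
    intro j hj
    have hj' : j < D.rank := List.mem_range.mp hj
    have := h2 j hj
    rw [tabp_reflWordP_simple hF Ws hWs e.wJ hJ j hj'] at this
    exact this
  · cases hfr : e.frame with
    | none =>
      rw [hfr] at h3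
      simp only at h3 ⊢
      rw [List.any_eq_true] at h3 ⊢
      obtain ⟨j, hj, hjj⟩ := h3
      have hj' : j < D.rank := List.mem_range.mp hj
      refine ⟨j, hj, ?_⟩
      rw [tabp_reflWordP_simple hF Ws hWs _ hc j hj'] at hjj
      exact hjj
    | some S =>
      rw [hfr] at h3
      simp only at h3 ⊢
      rw [Bool.and_eq_true] at h3 ⊢
      obtain ⟨h4, h5⟩ := h3
      obtain ⟨h6, h7⟩ := tabp_frameOK hF Ws hWs S h4
      refine ⟨h6, ?_⟩
      rw [List.all_eq_true] at h5 ⊢
      intro k hk
      have hk' : k < D.rank := List.mem_range.mp hk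
      have := h5 k hk
      rw [tabp_reflWordP_simple hF Ws hWs _ h7 k hk',
        tabp_reflWordP_simple hF Ws hWs _ hc k hk'] at this
      exact this

end sound

/-- PIECE TABP (1) -/
theorem tableChk_of_P {F : Type*} [Field F] {D : ChevalleyDatum} (hF : ChevFacts D F) (Ws : List ℕ)
    (hWs : ∀ i < D.rank, ∀ v < D.nroots, unpack8 (Ws.getD i 0) v = D.reflectRoot i v) (T : Table)
    (hhead : headChkP D Ws T = true)
    (hent : ∀ p ∈ T.entries.zipIdx, entryChkP D Ws T.w0 p.2 p.1 = true) : tableChk D T = true := by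
  unfold headChkP at hhead
  rw [Bool.and_eq_true, Bool.and_eq_true] at hhead
  obtain ⟨⟨h1, h2⟩, h3⟩ := hhead
  have hw0 : ∀ j ∈ T.w0, j < D.rank := by
    intro j hj
    rw [List.all_eq_true] at h1
    simpa using h1 j hj
  unfold tableChk
  rw [Bool.and_eq_true, Bool.and_eq_true, Bool.and_eq_true]
  refine ⟨⟨⟨h1, ?_⟩, h3⟩, ?_⟩
  · rw [List.all_eq_true] at h2 ⊢
    intro j hj
    have hj' : j < D.rank := List.mem_range.mp hj
    have := h2 j hj
    rw [tabp_reflWordP_simple hF Ws hWs T.w0 hw0 j hj'] at this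
    exact this
  · rw [List.all_eq_true]
    intro p hp
    exact tabp_entryChk hF Ws hWs T.w0 hw0 p.2 p.1 (hent p hp)

/-- PIECE TABP (2): the entries are covered by the chunks -/
theorem mem_zipIdx_of_chunks (D : ChevalleyDatum) (Ws : List ℕ) (T : Table) (n k : ℕ) (hn : 0 < n)
    (hlen : T.entries.length ≤ n * k) (h : ∀ i < k, chunkChkP D Ws T (n * i) n = true) :
    ∀ p ∈ T.entries.zipIdx, entryChkP D Ws T.w0 p.2 p.1 = true := by
  intro p hp
  obtain ⟨j, hj, hjp⟩ := List.mem_iff_getElem.mp hp
  have hjl : j < T.entries.length := by simpa using hj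
  have hi : j / n < k := by
    rw [Nat.div_lt_iff_lt_mul hn]
    calc j < T.entries.length := hjl
      _ ≤ n * k := hlen
      _ = k * n := Nat.mul_comm _ _
  have hc := h (j / n) hi
  unfold chunkChkP at hc
  rw [List.all_eq_true] at hc
  apply hc p
  rw [List.mem_iff_getElem]
  have hdecomp : n * (j / n) + j % n = j := Nat.div_add_mod j n
  have hmod : j % n < n := Nat.mod_lt j hn
  have hlen2 : j % n < ((T.entries.zipIdx.drop (n * (j / n))).take n).length := by
    rw [List.length_take, List.length_drop]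
    omega
  refine ⟨j % n, hlen2, ?_⟩
  rw [List.getElem_take, List.getElem_drop]
  rw [← hjp]
  congr 1

/-! ### the four tables -/

set_option maxRecDepth 100000 in
theorem tabp_F4_head : headChkP chevF4 commWs_F4 tabF4 = true := by decide +kernel
set_option maxRecDepth 100000 in
theorem tabp_F4_c0 : chunkChkP chevF4 commWs_F4 tabF4 0 16 = true := by decide +kernel

/-- PIECE TABP (3) -/
theorem tabF4_ok : tableChk chevF4 tabF4 = true := by
  have hF : ChevFacts chevF4 ℚ := chevFacts_of_mem chevF4 (by simp)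
  refine tableChk_of_P hF commWs_F4 wsTab_F4 tabF4 tabp_F4_head ?_
  refine mem_zipIdx_of_chunks chevF4 commWs_F4 tabF4 16 1 (by norm_num) (by decide) ?_
  intro i hi
  interval_cases i
  exact tabp_F4_c0

set_option maxRecDepth 100000 in
theorem tabp_E6_head : headChkP chevE6 commWs_E6 tabE6 = true := by decide +kernel
set_option maxRecDepth 100000 in
theorem tabp_E6_c0 : chunkChkP chevE6 commWs_E6 tabE6 (32 * 0) 32 = true := by decide +kernel
set_option maxRecDepth 100000 in
theorem tabp_E6_c1 : chunkChkP chevE6 commWs_E6 tabE6 (32 * 1) 32 = true := by decide +kernel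
set_option maxRecDepth 100000 in
theorem tabp_E6_len : tabE6.entries.length ≤ 32 * 2 := by decide +kernel

theorem tabE6_ok : tableChk chevE6 tabE6 = true := by
  have hF : ChevFacts chevE6 ℚ := chevFacts_of_mem chevE6 (by simp)
  refine tableChk_of_P hF commWs_E6 wsTab_E6 tabE6 tabp_E6_head ?_
  refine mem_zipIdx_of_chunks chevE6 commWs_E6 tabE6 32 2 (by norm_num) tabp_E6_len ?_
  intro i hi
  interval_cases i
  · exact tabp_E6_c0
  · exact tabp_E6_c1

set_option maxRecDepth 100000 in
theorem tabp_E7_head : headChkP chevE7 commWs_E7 tabE7 = true := by decide +kernel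
set_option maxRecDepth 100000 in
theorem tabp_E7_c0 : chunkChkP chevE7 commWs_E7 tabE7 (32 * 0) 32 = true := by decide +kernel
set_option maxRecDepth 100000 in
theorem tabp_E7_c1 : chunkChkP chevE7 commWs_E7 tabE7 (32 * 1) 32 = true := by decide +kernel
set_option maxRecDepth 100000 in
theorem tabp_E7_c2 : chunkChkP chevE7 commWs_E7 tabE7 (32 * 2) 32 = true := by decide +kernel
set_option maxRecDepth 100000 in
theorem tabp_E7_c3 : chunkChkP chevE7 commWs_E7 tabE7 (32 * 3) 32 = true := by decide +kernel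
set_option maxRecDepth 100000 in
theorem tabp_E7_len : tabE7.entries.length ≤ 32 * 4 := by decide +kernel

theorem tabE7_ok : tableChk chevE7 tabE7 = true := by
  have hF : ChevFacts chevE7 ℚ := chevFacts_of_mem chevE7 (by simp)
  refine tableChk_of_P hF commWs_E7 wsTab_E7 tabE7 tabp_E7_head ?_
  refine mem_zipIdx_of_chunks chevE7 commWs_E7 tabE7 32 4 (by norm_num) tabp_E7_len ?_
  intro i hi
  interval_cases i
  · exact tabp_E7_c0
  · exact tabp_E7_c1
  · exact tabp_E7_c2
  · exact tabp_E7_c3

set_option maxRecDepth 100000 in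
theorem tabp_E8_head : headChkP chevE8 commWs_E8 tabE8 = true := by decide +kernel
set_option maxRecDepth 100000 in
theorem tabp_E8_c0 : chunkChkP chevE8 commWs_E8 tabE8 (32 * 0) 32 = true := by decide +kernel
set_option maxRecDepth 100000 in
theorem tabp_E8_c1 : chunkChkP chevE8 commWs_E8 tabE8 (32 * 1) 32 = true := by decide +kernel
set_option maxRecDepth 100000 in
theorem tabp_E8_c2 : chunkChkP chevE8 commWs_E8 tabE8 (32 * 2) 32 = true := by decide +kernel
set_option maxRecDepth 100000 in
theorem tabp_E8_c3 : chunkChkP chevE8 commWs_E8 tabE8 (32 * 3) 32 = true := by decide +kernel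
set_option maxRecDepth 100000 in
theorem tabp_E8_c4 : chunkChkP chevE8 commWs_E8 tabE8 (32 * 4) 32 = true := by decide +kernel
set_option maxRecDepth 100000 in
theorem tabp_E8_c5 : chunkChkP chevE8 commWs_E8 tabE8 (32 * 5) 32 = true := by decide +kernel
set_option maxRecDepth 100000 in
theorem tabp_E8_c6 : chunkChkP chevE8 commWs_E8 tabE8 (32 * 6) 32 = true := by decide +kernel
set_option maxRecDepth 100000 in
theorem tabp_E8_c7 : chunkChkP chevE8 commWs_E8 tabE8 (32 * 7) 32 = true := by decide +kernel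
set_option maxRecDepth 100000 in
theorem tabp_E8_len : tabE8.entries.length ≤ 32 * 8 := by decide +kernel

theorem tabE8_ok : tableChk chevE8 tabE8 = true := by
  have hF : ChevFacts chevE8 ℚ := chevFacts_of_mem chevE8 (by simp)
  refine tableChk_of_P hF commWs_E8 wsTab_E8 tabE8 tabp_E8_head ?_
  refine mem_zipIdx_of_chunks chevE8 commWs_E8 tabE8 32 8 (by norm_num) tabp_E8_len ?_
  intro i hi
  interval_cases i
  · exact tabp_E8_c0
  · exact tabp_E8_c1
  · exact tabp_E8_c2
  · exact tabp_E8_c3
  · exact tabp_E8_c4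
  · exact tabp_E8_c5
  · exact tabp_E8_c6
  · exact tabp_E8_c7

end Cfsg.Agent.Helper13.InvN
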