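import Mathlib
import Cfsg.Agent.Lib.Helper2.TIHDefs
import Cfsg.Agent.Lib.Helper24.TIHOPI

/-!
# S4118 piece CHAIN (helper25): `exists_chain_term` (the first chain term outside `O = piCore H`)
-/

set_option autoImplicit false
set_option linter.unusedSectionVars false
set_option linter.unusedVariables false
set_option linter.style.haveILetI false

namespace Cfsg.Agent.Helper2.TIH

open Cfsg

universe u

namespace CHAIN

/-- a chain from `⊥` to `⊤` leaves a proper subgroup somewhere -/
theorem exists_step {G : Type*} [Group G] (O : Subgroup G) (hO : O ≠ ⊤) (n : ℕ)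
    (M : Fin (n + 1) → Subgroup G) (h0 : M 0 = ⊥) (hn : M (Fin.last n) = ⊤) :
    ∃ i : Fin n, M i.castSucc ≤ O ∧ ¬ M i.succ ≤ O := by
  by_contra hcon
  push Not at hcon
  have hall : ∀ j : Fin (n + 1), M j ≤ O := by
    intro j
    induction j using Fin.induction with
    | zero => rw [h0]; exact bot_le
    | succ i ih => exact hcon i ih
  apply hO
  rw [eq_top_iff, ← hn]
  exact hall _

end CHAIN

section PartA

variable {G : Type*} [Group G] [Finite G] (H : Subgroup G)

/-- PIECE CHAIN. -/
theorem exists_chain_term (hH1 : H ≠ ⊥)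
    (hsep : ∃ (n : ℕ) (M : Fin (n + 1) → Subgroup G), M 0 = ⊥ ∧ M (Fin.last n) = ⊤ ∧ Monotone M ∧
      (∀ i, (M i).Normal) ∧
      ∀ i : Fin n, (∀ q : ℕ, q.Prime → q ∣ (M i.castSucc).relIndex (M i.succ) → q ∣ Nat.card H) ∨
        ((M i.castSucc).relIndex (M i.succ)).Coprime (Nat.card H)) :
    ∃ K : Subgroup G, K.Normal ∧ piCore H ≤ K ∧ K ≠ piCore H ∧
      ∀ q : ℕ, q.Prime → q ∣ (piCore H).relIndex K → q ∣ Nat.card H := by
  obtain ⟨n, M, h0, hn, hmono, hnorm, hfac⟩ := hsep
  haveI hOn : (piCore H).Normal := piCore_normal H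
  have hOc := piCore_coprime H
  -- `O ≠ ⊤`
  have hOtop : piCore H ≠ ⊤ := by
    intro htop
    rw [htop] at hOc
    have h1 : Nat.card H ∣ Nat.card (⊤ : Subgroup G) := Subgroup.card_dvd_of_le le_top
    have h2 : Nat.card H = 1 := Nat.Coprime.eq_one_of_dvd hOc.symm h1
    exact hH1 (Subgroup.card_eq_one.mp h2)
  obtain ⟨i, hiA, hiB⟩ := CHAIN.exists_step (piCore H) hOtop n M h0 hn
  have hAB : M i.castSucc ≤ M i.succ := hmono (Fin.castSucc_le_succ i)
  haveI hBn : (M i.succ).Normal := hnorm _
  -- the factor is a `π`-number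
  have hpi : ∀ q : ℕ, q.Prime → q ∣ (M i.castSucc).relIndex (M i.succ) → q ∣ Nat.card H := by
    rcases hfac i with h | h
    · exact h
    · exfalso
      apply hiB
      apply le_piCore H _ (hnorm _)
      have h1 : Nat.card (M i.castSucc) * (M i.castSucc).relIndex (M i.succ) =
          Nat.card (M i.succ) := by
        have := Subgroup.relIndex_mul_relIndex ⊥ (M i.castSucc) (M i.succ) bot_le hAB
        rwa [Subgroup.relIndex_bot_left, Subgroup.relIndex_bot_left] at this
      rw [← h1]
      apply Nat.Coprime.mul_left _ h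
      exact Nat.Coprime.coprime_dvd_left (Subgroup.card_dvd_of_le hiA) hOc
  refine ⟨M i.succ ⊔ piCore H, inferInstance, le_sup_right, ?_, ?_⟩
  · intro heq
    apply hiB
    rw [← heq]
    exact le_sup_left
  · intro q hq hdvd
    apply hpi q hq
    rw [Subgroup.relIndex_sup_right] at hdvd
    exact hdvd.trans (Subgroup.relIndex_dvd_of_le_left (M i.succ) hiA)

end PartA

end Cfsg.Agent.Helper2.TIH
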