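import Mathlib
import Cfsg.Agent.Lib.Helper20.A5QDefs
import Cfsg.Agent.Lib.Helper20.A3Defs

/-!
# S3106 PIECE QUOT (helper25): the setting `A5S` passes to `Y/N` for `N ≤ Φ(P)` normal in `Y`.
-/

set_option autoImplicit false
set_option linter.unusedSectionVars false
set_option linter.unusedVariables false

namespace Cfsg.Agent.Helper20.A5Q

open Cfsg.Agent.Helper22.SecRank
open Cfsg.Agent.Helper20.A3

theorem quot_card_relIndex {G : Type*} [Group G] {M K : Subgroup G} (h : M ≤ K) :
    Nat.card K = M.relIndex K * Nat.card M := by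
  have := Subgroup.card_mul_index (M.subgroupOf K)
  rw [Nat.card_congr (Subgroup.subgroupOfEquivOfLe h).toEquiv] at this
  rw [Subgroup.relIndex, ← this, mul_comm]

/-- `Sq` commutes with `map`. -/
theorem quot_Sq_map {G G' : Type*} [Group G] [Group G'] (π : G →* G') (K : Subgroup G) :
    Sq (K.map π) = (Sq K).map π := by
  unfold Sq
  rw [MonoidHom.map_closure]
  congr 1
  ext x
  constructor
  · rintro ⟨k, hk, rfl⟩
    obtain ⟨k0, hk0, rfl⟩ := hk
    exact ⟨k0 ^ 2, ⟨k0, hk0, rfl⟩, by rw [map_pow]⟩
  · rintro ⟨y, ⟨k, hk, rfl⟩, rfl⟩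
    exact ⟨π k, Subgroup.mem_map_of_mem π hk, by rw [map_pow]⟩

section Setting

variable {Y : Type*} [Group Y] [Finite Y] {P : Subgroup Y}

/-- the rank condition passes to quotients -/
theorem quot_rank (hr : RankSq Y) (N : Subgroup Y) [N.Normal] : RankSq (Y ⧸ N) := by
  intro K M hMK hKN hsq
  have hπ : Function.Surjective (QuotientGroup.mk' N) := QuotientGroup.mk'_surjective N
  have h1 : M.comap (QuotientGroup.mk' N) ≤ K.comap (QuotientGroup.mk' N) :=
    Subgroup.comap_mono hMK
  have h2 : K.comap (QuotientGroup.mk' N) ≤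
      Subgroup.normalizer ((M.comap (QuotientGroup.mk' N) : Subgroup Y) : Set Y) := by
    intro x hx
    rw [Subgroup.mem_comap] at hx
    have hx' := hKN hx
    rw [Subgroup.mem_normalizer_iff] at hx' ⊢
    intro y
    have := hx' (QuotientGroup.mk' N y)
    simp only [Subgroup.mem_comap, map_mul, map_inv]
    exact this
  have h3 : ∀ k ∈ K.comap (QuotientGroup.mk' N), k ^ 2 ∈ M.comap (QuotientGroup.mk' N) := by
    intro k hk
    rw [Subgroup.mem_comap] at hk ⊢
    rw [map_pow]
    exact hsq _ hk
  have h4 := hr _ _ h1 h2 h3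
  have h5 : (M.comap (QuotientGroup.mk' N)).relIndex (K.comap (QuotientGroup.mk' N)) =
      M.relIndex K := by
    rw [Subgroup.relIndex_comap, Subgroup.map_comap_eq_self_of_surjective hπ]
  rw [quot_card_relIndex h1, h5] at h4
  have hpos : 0 < Nat.card (M.comap (QuotientGroup.mk' N)) := Nat.card_pos
  have h6 : M.relIndex K ≤ 16 := Nat.le_of_mul_le_mul_right h4 hpos
  rw [quot_card_relIndex hMK]
  exact Nat.mul_le_mul_right _ h6

/-- **A5Q-QUOT.** The setting passes to `Y/N` for `N ≤ Φ(P)` normal in `Y`. -/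
theorem a5s_quot (h : A5S Y P) (N : Subgroup Y) [N.Normal] (hN : N ≤ Sq P) :
    A5S (Y ⧸ N) (P.map (QuotientGroup.mk' N)) ∧
      Sq (P.map (QuotientGroup.mk' N)) = (Sq P).map (QuotientGroup.mk' N) := by
  have hπ : Function.Surjective (QuotientGroup.mk' N) := QuotientGroup.mk'_surjective N
  have hSq := quot_Sq_map (QuotientGroup.mk' N) P
  have hNP : N ≤ P := hN.trans (Sq_le P)
  -- membership in the image pulls back
  have hpull : ∀ (K : Subgroup Y), N ≤ K → ∀ x : Y,
      QuotientGroup.mk' N x ∈ K.map (QuotientGroup.mk' N) → x ∈ K := by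
    intro K hNK x hx
    obtain ⟨k, hk, hkx⟩ := hx
    have : k⁻¹ * x ∈ N := by
      rw [← QuotientGroup.eq_one_iff, QuotientGroup.mk_mul, QuotientGroup.mk_inv]
      have hkx' : (k : Y ⧸ N) = (x : Y ⧸ N) := hkx
      rw [hkx', inv_mul_cancel]
    have h2 : x = k * (k⁻¹ * x) := by group
    rw [h2]
    exact K.mul_mem hk (hNK this)
  refine ⟨?_, hSq⟩
  haveI := h.normal
  refine ⟨?_, ?_, ?_, ?_, ?_, ?_, ?_⟩
  · exact Subgroup.Normal.map h.normal _ hπ
  · exact h.pgroup.map _
  · exact quot_rank h.rank N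
  · -- faith
    intro ybar hy
    obtain ⟨y, rfl⟩ := hπ ybar
    apply Subgroup.mem_map_of_mem
    apply h.faith
    intro x hx
    have := hy (QuotientGroup.mk' N x) (Subgroup.mem_map_of_mem _ hx)
    rw [hSq] at this
    apply hpull (Sq P) hN
    simpa only [map_mul, map_inv] using this
  · -- elems
    obtain ⟨f, t, hf, ht, ht2, hinv⟩ := h.elems
    refine ⟨QuotientGroup.mk' N f, QuotientGroup.mk' N t, ?_, ?_, ?_, ?_⟩
    · have hdvd : orderOf (QuotientGroup.mk' N f) ∣ 5 := by
        rw [← hf]
        exact orderOf_map_dvd _ f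
      rcases (Nat.dvd_prime (by norm_num : Nat.Prime 5)).mp hdvd with h1 | h5
      · exfalso
        rw [orderOf_eq_one_iff] at h1
        have hfN : f ∈ N := by
          rw [← QuotientGroup.eq_one_iff]
          exact h1
        have hfP : f ∈ P := hNP hfN
        obtain ⟨k, hk⟩ := h.pgroup ⟨f, hfP⟩
        have hk' : f ^ 2 ^ k = 1 := by
          have := congrArg Subtype.val hk
          simpa using this
        have h5 : 5 ∣ 2 ^ k := by
          rw [← hf]
          exact orderOf_dvd_of_pow_eq_one hk'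
        have := (Nat.Prime.dvd_of_dvd_pow (by norm_num : Nat.Prime 5) h5)
        omega
      · exact h5
    · intro hc
      exact ht (hpull P hNP t hc)
    · rw [← map_pow]
      exact Subgroup.mem_map_of_mem _ ht2
    · have := Subgroup.mem_map_of_mem (QuotientGroup.mk' N) hinv
      simpa only [map_mul, map_inv] using this
  · -- simple
    intro K hK hPK
    have hKn : (K.comap (QuotientGroup.mk' N)).Normal := hK.comap _
    have hPK' : P ≤ K.comap (QuotientGroup.mk' N) := by
      intro x hx
      rw [Subgroup.mem_comap]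
      exact hPK (Subgroup.mem_map_of_mem _ hx)
    rcases h.simple _ hKn hPK' with h1 | h1
    · left
      rw [← Subgroup.map_comap_eq_self_of_surjective hπ K, h1]
    · right
      rw [← Subgroup.map_comap_eq_self_of_surjective hπ K, h1]
      exact Subgroup.map_top_of_surjective _ hπ
  · -- ns
    intro hs
    apply h.ns
    have : Fact (Nat.Prime 2) := ⟨Nat.prime_two⟩
    have hNp : IsPGroup 2 N := h.pgroup.to_le hNP
    haveI : Group.IsNilpotent N := hNp.isNilpotent
    haveI : Group.IsSolvable N := inferInstance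
    refine solvable_of_ker_le_range N.subtype (QuotientGroup.mk' N) ?_
    rw [QuotientGroup.ker_mk', Subgroup.range_subtype]

end Setting

end Cfsg.Agent.Helper20.A5Q
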