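import Mathlib
import Cfsg.Agent.Lib.Helper20.A5QDefs
import Cfsg.Agent.Lib.Helper20.A3Defs
import Cfsg.Agent.Lib.Helper2.A5QCOMMSQ
import Cfsg.Agent.Lib.Helper18.A5QD10
import Cfsg.Agent.Lib.Helper25.A5QQUOT

/-!
# S3106 PIECES T4ADJ + T4B (helper25)

The conjugation action of `Y` on `V = P / Sq P`, the application of `d10_fixed` to it, and the two
consequences `exists_t_sq` (T4ADJ) and `exists_fixV` (T4B).
-/

set_option autoImplicit false
set_option linter.unusedSectionVars false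
set_option linter.unusedVariables false

namespace Cfsg.Agent.Helper20.A5Q

open Cfsg.Agent.Helper22.SecRank
open Cfsg.Agent.Helper20.A3

section VAct

variable {Y : Type*} [Group Y] {P : Subgroup Y}

/-- `Sq P` seen inside `P`. -/
abbrev vactN (P : Subgroup Y) : Subgroup ↥P := (Sq P).subgroupOf P

theorem vact_Sq_normal [hP : P.Normal] : (Sq P).Normal := by
  constructor
  intro n hn g
  exact Sq_conj (K := P) (K' := P) (g := g) (fun x hx => hP.conj_mem x hx g) n hn

theorem vact_N_normal [hP : P.Normal] : (vactN P).Normal := by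
  have := vact_Sq_normal (P := P)
  exact Subgroup.Normal.subgroupOf this P

theorem vact_map_le [hP : P.Normal] (y : Y) :
    (vactN P).map ((MulAut.conjNormal y : MulAut ↥P) : ↥P →* ↥P) ≤ vactN P := by
  rintro x ⟨x0, hx0, rfl⟩
  have hn := vact_Sq_normal (P := P)
  have h0 : (x0 : Y) ∈ Sq P := Subgroup.mem_subgroupOf.mp hx0
  rw [Subgroup.mem_subgroupOf]
  have : (((MulAut.conjNormal y : MulAut ↥P) x0 : ↥P) : Y) = y * x0 * y⁻¹ :=
    MulAut.conjNormal_apply y x0
  show (((MulAut.conjNormal y : MulAut ↥P) x0 : ↥P) : Y) ∈ Sq P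
  rw [this]
  exact hn.conj_mem _ h0 y

theorem vact_map_eq [hP : P.Normal] (y : Y) :
    (vactN P).map ((MulAut.conjNormal y : MulAut ↥P) : ↥P →* ↥P) = vactN P := by
  apply le_antisymm (vact_map_le y)
  intro x hx
  refine ⟨(MulAut.conjNormal y⁻¹ : MulAut ↥P) x, ?_, ?_⟩
  · apply vact_map_le y⁻¹
    exact ⟨x, hx, rfl⟩
  · show (MulAut.conjNormal y : MulAut ↥P) ((MulAut.conjNormal y⁻¹ : MulAut ↥P) x) = x
    rw [← MulAut.mul_apply, ← map_mul, mul_inv_cancel, map_one]
    rfl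

end VAct

section Gen

variable {G Y : Type*} [Group G] [Group Y] (N : Subgroup G) [N.Normal] (c : Y →* MulAut G)
  (hc : ∀ y, N.map ((c y : MulAut G) : G →* G) = N)

/-- the induced automorphism of `G ⧸ N` -/
noncomputable def vactQ (y : Y) : MulAut (G ⧸ N) := QuotientGroup.congr N N (c y) (hc y)

theorem vactQ_mk (y : Y) (x : G) :
    vactQ N c hc y (QuotientGroup.mk x) = QuotientGroup.mk (c y x) := rfl

theorem vactQ_mul (y z : Y) : vactQ N c hc (y * z) = vactQ N c hc y * vactQ N c hc z := by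
  ext v
  induction v using QuotientGroup.induction_on with
  | H x => rw [MulAut.mul_apply, vactQ_mk, vactQ_mk, vactQ_mk, map_mul, MulAut.mul_apply]

/-- the induced action as a homomorphism -/
noncomputable def vactHom : Y →* MulAut (G ⧸ N) :=
  MonoidHom.mk' (vactQ N c hc) (vactQ_mul N c hc)

theorem vactHom_mk (y : Y) (x : G) :
    vactHom N c hc y (QuotientGroup.mk x) = QuotientGroup.mk (c y x) := rfl

end Gen

section Setting

variable {Y : Type*} [Group Y] [Finite Y] {P : Subgroup Y}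

/-- an element of order `5` is not in the `2`-group `P` -/
theorem vact_not_mem (h : A5S Y P) (f : Y) (hf : orderOf f = 5) : f ∉ P := by
  intro hfP
  obtain ⟨k, hk⟩ := h.pgroup ⟨f, hfP⟩
  have hk' : f ^ 2 ^ k = 1 := by
    have := congrArg Subtype.val hk
    simpa using this
  have h5 : 5 ∣ 2 ^ k := by
    rw [← hf]
    exact orderOf_dvd_of_pow_eq_one hk'
  have := (Nat.Prime.dvd_of_dvd_pow (by norm_num : Nat.Prime 5) h5)
  omega

/-- The application of `d10_fixed` to `V = P / Sq P`. -/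
theorem vact_main (h : A5S Y P) (hV : Nat.card P = 16 * Nat.card (Sq P)) (f : Y)
    (hf : orderOf f = 5) (t : Y) (ht : t ∉ P) (ht2 : t ^ 2 ∈ P) (hinv : t * f * t⁻¹ * f ∈ P) :
    (∀ x ∈ P, t * x * t⁻¹ * x⁻¹ ∈ Sq P → ∃ r ∈ P, (r * (t * r * t⁻¹))⁻¹ * x ∈ Sq P) ∧
      ∃ B : Subgroup Y, (∀ b : Y, b ∈ B ↔ (b ∈ P ∧ t * b * t⁻¹ * b⁻¹ ∈ Sq P)) ∧
        Nat.card B = 4 * Nat.card (Sq P) := by
  haveI hPn : P.Normal := h.normal
  haveI hNn : (vactN P).Normal := vact_N_normal
  have hSqn : (Sq P).Normal := vact_Sq_normal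
  have hSqP : Sq P ≤ P := Sq_le P
  -- the action
  set ρ : Y →* MulAut (↥P ⧸ vactN P) :=
    vactHom (vactN P) (MulAut.conjNormal (H := P)) vact_map_eq with hρ
  have ρ_mk : ∀ (y : Y) (x : ↥P), ρ y (QuotientGroup.mk x) =
      QuotientGroup.mk ((MulAut.conjNormal y : MulAut ↥P) x) := fun _ _ => rfl
  have mk_eq : ∀ a b : ↥P, ((QuotientGroup.mk a : ↥P ⧸ vactN P) = QuotientGroup.mk b) ↔
      (a : Y)⁻¹ * b ∈ Sq P := by
    intro a b
    rw [QuotientGroup.eq, Subgroup.mem_subgroupOf]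
    rfl
  have cn : ∀ (y : Y) (x : ↥P), (((MulAut.conjNormal y : MulAut ↥P) x : ↥P) : Y) = y * x * y⁻¹ :=
    fun y x => MulAut.conjNormal_apply y x
  -- elements of `P` act trivially
  have hρP : ∀ p ∈ P, ρ p = 1 := by
    intro p hp
    ext v
    induction v using QuotientGroup.induction_on with
    | H x =>
      rw [ρ_mk, MulAut.one_apply, mk_eq, cn]
      have := comm_mem_Sq P p (x : Y)⁻¹ hp (P.inv_mem x.2)
      have e : p * (x : Y)⁻¹ * p⁻¹ * ((x : Y)⁻¹)⁻¹ = (p * x * p⁻¹)⁻¹ * x := by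
        group
      rw [e] at this
      exact this
  -- hypotheses of D10
  have hW : ∀ w : ↥P ⧸ vactN P, w * w = 1 := by
    intro w
    induction w using QuotientGroup.induction_on with
    | H x =>
      rw [← QuotientGroup.mk_mul, QuotientGroup.eq_one_iff, Subgroup.mem_subgroupOf]
      have := sq_mem_Sq x.2
      rw [pow_two] at this
      exact this
  have hcardN : Nat.card (vactN P) = Nat.card (Sq P) :=
    Nat.card_congr (Subgroup.subgroupOfEquivOfLe hSqP).toEquiv
  have hcard : Nat.card (↥P ⧸ vactN P) = 16 := by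
    have h1 := Subgroup.card_eq_card_quotient_mul_card_subgroup (vactN P)
    rw [hcardN, hV] at h1
    have hpos : 0 < Nat.card (Sq P) := Nat.card_pos
    exact (Nat.eq_of_mul_eq_mul_right hpos h1).symm
  have hφ5 : (ρ f) ^ 5 = 1 := by
    rw [← map_pow, ← hf, pow_orderOf_eq_one, map_one]
  have hφ : ρ f ≠ 1 := by
    intro h1
    apply vact_not_mem h f hf
    apply h.faith
    intro x hx
    have h2 : ρ f (QuotientGroup.mk ⟨x, hx⟩) = QuotientGroup.mk ⟨x, hx⟩ := by
      rw [h1, MulAut.one_apply]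
    rw [ρ_mk, eq_comm, mk_eq, cn] at h2
    have h2' : x⁻¹ * (f * x * f⁻¹) ∈ Sq P := h2
    have h3 := hSqn.conj_mem _ h2' x
    have e : x * (x⁻¹ * (f * x * f⁻¹)) * x⁻¹ = f * x * f⁻¹ * x⁻¹ := by group
    rw [e] at h3
    exact h3
  have hτ : ρ t * ρ t = 1 := by
    rw [← map_mul, ← pow_two]
    exact hρP _ ht2
  have hinv' : ρ t * ρ f * (ρ t)⁻¹ = (ρ f)⁻¹ := by
    rw [eq_inv_iff_mul_eq_one, ← map_inv, ← map_mul, ← map_mul, ← map_mul]
    exact hρP _ hinv
  obtain ⟨hfix4, -, hfixform⟩ := d10_fixed hW hcard (ρ f) (ρ t) hφ5 hφ hτ hinv'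
  -- fixed points
  have fix_iff : ∀ x : ↥P, ρ t (QuotientGroup.mk x) = QuotientGroup.mk x ↔
      t * x * t⁻¹ * (x : Y)⁻¹ ∈ Sq P := by
    intro x
    rw [ρ_mk, eq_comm, mk_eq, cn]
    constructor
    · intro h2
      have h3 := hSqn.conj_mem _ h2 x
      have e : (x : Y) * ((x : Y)⁻¹ * (t * x * t⁻¹)) * (x : Y)⁻¹ = t * x * t⁻¹ * (x : Y)⁻¹ := by group
      rw [e] at h3
      exact h3
    · intro h2
      have h3 := hSqn.conj_mem _ h2 (x : Y)⁻¹
      have e : (x : Y)⁻¹ * (t * x * t⁻¹ * (x : Y)⁻¹) * ((x : Y)⁻¹)⁻¹ = (x : Y)⁻¹ * (t * x * t⁻¹) := by group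
      rw [e] at h3
      exact h3
  refine ⟨?_, ?_⟩
  · intro x hx hfixx
    obtain ⟨v, hv⟩ := hfixform (QuotientGroup.mk ⟨x, hx⟩) ((fix_iff ⟨x, hx⟩).mpr hfixx)
    induction v using QuotientGroup.induction_on with
    | H r =>
      refine ⟨r, r.2, ?_⟩
      rw [ρ_mk, ← QuotientGroup.mk_mul, eq_comm, mk_eq] at hv
      rw [Subgroup.coe_mul, cn] at hv
      exact hv
  · -- the subgroup `B`
    let F : Subgroup (↥P ⧸ vactN P) :=
      MonoidHom.eqLocus ((ρ t : MulAut (↥P ⧸ vactN P)) : (↥P ⧸ vactN P) →* (↥P ⧸ vactN P))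
        (MonoidHom.id _)
    have hF : ∀ w, w ∈ F ↔ ρ t w = w := fun w => Iff.rfl
    have hFcard : Nat.card F = 4 := by
      rw [← hfix4]
      exact Nat.card_congr (Equiv.subtypeEquivRight hF)
    refine ⟨(F.comap (QuotientGroup.mk' (vactN P))).map P.subtype, ?_, ?_⟩
    · intro b
      constructor
      · rintro ⟨x, hx, rfl⟩
        refine ⟨x.2, ?_⟩
        have : ρ t (QuotientGroup.mk x) = QuotientGroup.mk x := (hF _).mp hx
        exact (fix_iff x).mp this
      · rintro ⟨hbP, hb⟩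
        refine ⟨⟨b, hbP⟩, ?_, rfl⟩
        show QuotientGroup.mk' (vactN P) ⟨b, hbP⟩ ∈ F
        exact (hF _).mpr ((fix_iff ⟨b, hbP⟩).mpr hb)
    · rw [Subgroup.card_map_of_injective P.subtype_injective]
      have hπ : Function.Surjective (QuotientGroup.mk' (vactN P)) :=
        QuotientGroup.mk'_surjective _
      have hle : vactN P ≤ F.comap (QuotientGroup.mk' (vactN P)) := by
        intro x hx
        rw [Subgroup.mem_comap]
        have : QuotientGroup.mk' (vactN P) x = 1 := (QuotientGroup.eq_one_iff x).mpr hx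
        rw [this]
        exact F.one_mem
      have hrel : (vactN P).relIndex (F.comap (QuotientGroup.mk' (vactN P))) = 4 := by
        have h1 : ((⊥ : Subgroup (↥P ⧸ vactN P)).comap (QuotientGroup.mk' (vactN P))).relIndex
            (F.comap (QuotientGroup.mk' (vactN P))) = 4 := by
          rw [Subgroup.relIndex_comap, Subgroup.map_comap_eq_self_of_surjective hπ,
            Subgroup.relIndex_bot_left, hFcard]
        rwa [MonoidHom.comap_bot, QuotientGroup.ker_mk'] at h1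
      rw [quot_card_relIndex hle, hcardN, hrel]

end Setting

end Cfsg.Agent.Helper20.A5Q
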