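import Mathlib
import Cfsg.Agent.Lib.Helper25.A5QT4AB
import Cfsg.Agent.Lib.Helper15.A5QVCARD

/-!
# S3106 PIECES T4ADJ + T4B (helper25): `exists_t_sq`, `exists_fixV`
-/

set_option autoImplicit false
set_option linter.unusedSectionVars false
set_option linter.unusedVariables false

namespace Cfsg.Agent.Helper20.A5Q

open Cfsg.Agent.Helper22.SecRank
open Cfsg.Agent.Helper20.A3

section Setting

variable {Y : Type*} [Group Y] [Finite Y] {P : Subgroup Y}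

/-- **A5Q-T4ADJ.** The involution of `Y/P` inverting `f` lifts to `t` with `t² ∈ Φ(P)`. -/
theorem exists_t_sq (h : A5S Y P) (f : Y) (hf : orderOf f = 5) (t : Y) (ht : t ∉ P)
    (ht2 : t ^ 2 ∈ P) (hinv : t * f * t⁻¹ * f ∈ P) :
    ∃ t' : Y, t' ∉ P ∧ t' ^ 2 ∈ Sq P ∧ t' * f * t'⁻¹ * f ∈ P := by
  obtain ⟨hform, -⟩ := vact_main h (card_P h) f hf t ht ht2 hinv
  have hPn : P.Normal := h.normal
  have hSqn : (Sq P).Normal := vact_Sq_normal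
  have hfix : t * t ^ 2 * t⁻¹ * (t ^ 2)⁻¹ ∈ Sq P := by
    have : t * t ^ 2 * t⁻¹ * (t ^ 2)⁻¹ = 1 := by group
    rw [this]
    exact (Sq P).one_mem
  obtain ⟨r, hr, hrx⟩ := hform (t ^ 2) ht2 hfix
  refine ⟨t * r, ?_, ?_, ?_⟩
  · intro hc
    apply ht
    have : t = t * r * r⁻¹ := by group
    rw [this]
    exact P.mul_mem hc (P.inv_mem hr)
  · have ha : t * r * t⁻¹ ∈ P := hPn.conj_mem r hr t
    have h1 : (t * r * t⁻¹ * r) ^ 2 ∈ Sq P := sq_mem_Sq (P.mul_mem ha hr)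
    have h2 := hSqn.conj_mem _ hrx r⁻¹
    have e : (t * r) ^ 2 = (t * r * t⁻¹ * r) ^ 2 *
        (r⁻¹ * ((r * (t * r * t⁻¹))⁻¹ * t ^ 2) * r⁻¹⁻¹) := by
      rw [pow_two, pow_two, pow_two]; group
    rw [e]
    exact (Sq P).mul_mem h1 h2
  · have h1 : r * (f * r⁻¹ * f⁻¹) ∈ P := P.mul_mem hr (hPn.conj_mem _ (P.inv_mem hr) f)
    have h2 := hPn.conj_mem _ h1 t
    have e : t * r * f * (t * r)⁻¹ * f = t * (r * (f * r⁻¹ * f⁻¹)) * t⁻¹ * (t * f * t⁻¹ * f) := by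
      group
    rw [e]
    exact P.mul_mem h2 hinv

/-- **A5Q-T4B.** The preimage of `C_V(t)`. -/
theorem exists_fixV (h : A5S Y P) (f : Y) (hf : orderOf f = 5) (t : Y) (ht : t ∉ P)
    (ht2 : t ^ 2 ∈ P) (hinv : t * f * t⁻¹ * f ∈ P) :
    ∃ B : Subgroup Y, (∀ b : Y, b ∈ B ↔ (b ∈ P ∧ t * b * t⁻¹ * b⁻¹ ∈ Sq P)) ∧
      Nat.card B = 4 * Nat.card (Sq P) :=
  (vact_main h (card_P h) f hf t ht ht2 hinv).2

end Setting

end Cfsg.Agent.Helper20.A5Q
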