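import Mathlib
import Cfsg.Agent.Lib.Helper20.SchDefs

/-!
# S4395 piece SCH-BETAEVEN (helper25): the Hermitian cocycle for `a` even.
-/

set_option autoImplicit false

namespace Cfsg.Agent.Helper20.Sch

universe u

variable {p q : ℕ} [Fact p.Prime] [Fact q.Prime]

section field

variable {a : ℕ} {F : Type*} [Field F] [Finite F]

open Polynomial in
/-- a set of roots of a nonzero polynomial has at most `natDegree` elements -/
theorem sch_betaeven_card_le (P : F[X]) (hP : P ≠ 0) (S : Set F)
    (hS : ∀ x ∈ S, P.eval x = 0) : Nat.card S ≤ P.natDegree := by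
  classical
  have hsub : S ⊆ ↑(P.roots.toFinset) := by
    intro x hx
    rw [Finset.mem_coe, Multiset.mem_toFinset, Polynomial.mem_roots hP]
    exact hS x hx
  calc Nat.card S = S.ncard := (Nat.card_coe_set_eq S)
    _ ≤ (↑(P.roots.toFinset) : Set F).ncard := Set.ncard_le_ncard hsub (Finset.finite_toSet _)
    _ = P.roots.toFinset.card := Set.ncard_coe_finset _
    _ ≤ Multiset.card P.roots := Multiset.toFinset_card_le _
    _ ≤ P.natDegree := Polynomial.card_roots' P

/-- the characteristic of a field with `p ^ a` elements -/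
theorem sch_betaeven_charP (hF : Nat.card F = p ^ a) (ha0 : 0 < a) : CharP F p := by
  obtain ⟨r, hr⟩ := CharP.exists F
  have := hr
  haveI : Fintype F := Fintype.ofFinite F
  obtain ⟨n, hrp, hn⟩ := FiniteField.card F r
  rw [Nat.card_eq_fintype_card, hn] at hF
  have hp : p.Prime := Fact.out
  have h1 : p ∣ r ^ (n : ℕ) := by
    rw [hF]
    exact dvd_pow_self p ha0.ne'
  have h2 : p ∣ r := hp.dvd_of_dvd_pow h1
  have h3 : p = r := (Nat.prime_dvd_prime_iff_eq hp hrp).1 h2
  rw [h3]
  exact hr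

/-- SCH-BETAEVEN : the Hermitian cocycle for `a` even. -/
theorem exists_beta_even (hpq : p ≠ q) (ha : a = orderOf (p : ZMod q))
    (hF : Nat.card F = p ^ a) (μ : F) (hμ : orderOf μ = q) (hae : a % 2 = 0) :
    ∃ (C : AddSubgroup F) (β : F →+ F →+ C), Nat.card C = p ^ (a / 2) ∧
      (∀ x x', β (μ * x) (μ * x') = β x x') ∧ (∀ c : C, ∃ x x', c = β x x' - β x' x) := by
  classical
  have hp : p.Prime := Fact.out
  have hq : q.Prime := Fact.out
  -- `p ≠ 0` in `ZMod q`
  have hpq0 : (p : ZMod q) ≠ 0 := by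
    intro h
    rw [ZMod.natCast_eq_zero_iff] at h
    exact hpq ((Nat.prime_dvd_prime_iff_eq hq hp).1 h).symm
  have ha0 : 0 < a := by
    rw [ha, orderOf_pos_iff, isOfFinOrder_iff_pow_eq_one]
    exact ⟨q - 1, Nat.sub_pos_of_lt hq.one_lt, ZMod.pow_card_sub_one_eq_one hpq0⟩
  obtain ⟨h, hh⟩ : ∃ h, a = 2 * h := ⟨a / 2, by omega⟩
  have hh0 : 0 < h := by omega
  have hdiv : a / 2 = h := by omega
  -- `p ^ h = -1` in `ZMod q`
  have hpow : (p : ZMod q) ^ h = -1 := by
    have h1 : (p : ZMod q) ^ (2 * h) = 1 := by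
      rw [← hh, ha]; exact pow_orderOf_eq_one _
    have h2 : ((p : ZMod q) ^ h - 1) * ((p : ZMod q) ^ h + 1) = 0 := by
      have : ((p : ZMod q) ^ h - 1) * ((p : ZMod q) ^ h + 1) = (p : ZMod q) ^ (2 * h) - 1 := by ring
      rw [this, h1, sub_self]
    rcases mul_eq_zero.1 h2 with h3 | h3
    · exfalso
      have h4 : (p : ZMod q) ^ h = 1 := sub_eq_zero.1 h3
      have h5 := orderOf_dvd_of_pow_eq_one h4
      rw [← ha, hh] at h5
      have := Nat.le_of_dvd hh0 h5
      omega
    · exact eq_neg_of_add_eq_zero_left h3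
  have hqdvd : q ∣ p ^ h + 1 := by
    rw [← ZMod.natCast_eq_zero_iff]
    push_cast
    rw [hpow, neg_add_cancel]
  -- the field
  haveI : Fintype F := Fintype.ofFinite F
  haveI hchar : CharP F p := sch_betaeven_charP hF ha0
  haveI : ExpChar F p := ExpChar.prime hp
  have hcard : Fintype.card F = p ^ (2 * h) := by
    rw [← Nat.card_eq_fintype_card, hF, hh]
  set N := p ^ h with hN
  have hN1 : 1 < N := Nat.one_lt_pow hh0.ne' hp.one_lt
  have hNN : N * N = Fintype.card F := by
    rw [hcard, hN, ← pow_add]; congr 1; omega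
  let σ : F →+* F := iterateFrobenius F p h
  have hσ : ∀ x, σ x = x ^ N := fun x => rfl
  have hσσ : ∀ x, σ (σ x) = x := by
    intro x
    rw [hσ, hσ, ← pow_mul, hNN, FiniteField.pow_card]
  have hμ0 : μ ≠ 0 := by
    intro h0
    rw [h0, orderOf_zero] at hμ
    · exact hq.ne_zero hμ.symm
  have hσμ : σ μ = μ⁻¹ := by
    rw [hσ]
    have h1 : μ ^ (N + 1) = 1 := by
      rw [← orderOf_dvd_iff_pow_eq_one, hμ]; exact hqdvd
    rw [pow_succ] at h1
    exact eq_inv_of_mul_eq_one_left h1
  -- the map `1 - σ`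
  let D : F →+ F := AddMonoidHom.id F - (σ : F →+ F)
  have hD : ∀ x, D x = x - σ x := fun x => rfl
  -- the kernel bound
  have hker : Nat.card D.ker ≤ N := by
    have := sch_betaeven_card_le (Polynomial.X ^ N - Polynomial.X : Polynomial F)
      (FiniteField.X_pow_card_sub_X_ne_zero F hN1) (D.ker : Set F) (by
        intro x hx
        have hx' : D x = 0 := hx
        rw [hD, hσ] at hx'
        simp only [Polynomial.eval_sub, Polynomial.eval_pow, Polynomial.eval_X]
        rw [sub_eq_zero] at hx' ⊢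
        exact hx'.symm)
    rwa [FiniteField.X_pow_card_sub_X_natDegree_eq F hN1] at this
  -- the range bound
  have hdeg2 : (Polynomial.X ^ N + Polynomial.X : Polynomial F).natDegree = N := by
    rw [Polynomial.natDegree_add_eq_left_of_natDegree_lt]
    · exact Polynomial.natDegree_X_pow N
    · rw [Polynomial.natDegree_X_pow, Polynomial.natDegree_X]; exact hN1
  have hne2 : (Polynomial.X ^ N + Polynomial.X : Polynomial F) ≠ 0 := by
    intro h0
    rw [h0, Polynomial.natDegree_zero] at hdeg2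
    omega
  have hrange : Nat.card D.range ≤ N := by
    have := sch_betaeven_card_le (Polynomial.X ^ N + Polynomial.X : Polynomial F) hne2
      (D.range : Set F) (by
        rintro y ⟨x, rfl⟩
        simp only [Polynomial.eval_add, Polynomial.eval_pow, Polynomial.eval_X]
        rw [← hσ, hD, map_sub, hσσ]
        ring)
    rwa [hdeg2] at this
  have hprod : Nat.card D.range * Nat.card D.ker = N * N := by
    have h1 := AddSubgroup.card_eq_card_quotient_mul_card_addSubgroup D.ker
    have h2 : Nat.card (F ⧸ D.ker) = Nat.card D.range :=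
      Nat.card_congr (QuotientAddGroup.quotientKerEquivRange D).toEquiv
    rw [h2, Nat.card_eq_fintype_card (α := F), ← hNN] at h1
    exact h1.symm
  have hCcard : Nat.card D.range = N := by
    have hNpos : 0 < N := by omega
    apply le_antisymm hrange
    by_contra hlt
    rw [not_le] at hlt
    have : Nat.card D.range * Nat.card D.ker < N * N :=
      Nat.mul_lt_mul_of_lt_of_le hlt hker hNpos
    omega
  -- the element ε
  obtain ⟨ε, hε⟩ : ∃ ε : F, ε + σ ε ≠ 0 := by
    by_contra hall
    simp only [not_exists, not_not] at hall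
    have := sch_betaeven_card_le (Polynomial.X ^ N + Polynomial.X : Polynomial F) hne2
      (Set.univ : Set F) (by
        intro x _
        simp only [Polynomial.eval_add, Polynomial.eval_pow, Polynomial.eval_X]
        rw [← hσ, add_comm]
        exact hall x)
    rw [hdeg2, Nat.card_coe_set_eq, Set.ncard_univ, Nat.card_eq_fintype_card, ← hNN] at this
    nlinarith
  set δ := ε + σ ε with hδ
  have hσδ : σ δ = δ := by
    rw [hδ, map_add, hσσ, add_comm]
  -- the form
  let β : F →+ F →+ D.range := AddMonoidHom.mk'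
    (fun x => D.rangeRestrict.comp (AddMonoidHom.mulLeft (ε * σ x))) (by
      intro x y
      ext x'
      show D (ε * σ (x + y) * x') = D (ε * σ x * x') + D (ε * σ y * x')
      rw [← map_add, map_add σ]
      congr 1
      ring)
  have hβ : ∀ x x', ((β x x' : D.range) : F) = D (ε * σ x * x') := fun x x' => rfl
  refine ⟨D.range, β, by rw [hCcard, hdiv], ?_, ?_⟩
  · intro x x'
    apply Subtype.ext
    rw [hβ, hβ]
    congr 1
    rw [map_mul σ, hσμ]
    field_simp
  · intro c
    obtain ⟨y, hy⟩ := c.2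
    refine ⟨1, δ⁻¹ * y, ?_⟩
    apply Subtype.ext
    have hδ0 : δ ≠ 0 := hε
    have hσinv : σ δ⁻¹ = δ⁻¹ := by rw [map_inv₀, hσδ]
    have h1 : D (ε * σ 1 * (δ⁻¹ * y)) = ε * (δ⁻¹ * y) - σ ε * (δ⁻¹ * σ y) := by
      rw [hD, map_one, mul_one, map_mul σ, map_mul σ, hσinv]
    have h2 : D (ε * σ (δ⁻¹ * y) * 1) = ε * (δ⁻¹ * σ y) - σ ε * (δ⁻¹ * y) := by
      rw [hD, mul_one, map_mul σ, map_mul σ, map_mul σ, hσσ, hσσ, hσinv]
    rw [AddSubgroup.coe_sub, hβ, hβ, h1, h2, ← hy, hD]
    have e1 : ε * (δ⁻¹ * y) - σ ε * (δ⁻¹ * σ y) - (ε * (δ⁻¹ * σ y) - σ ε * (δ⁻¹ * y))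
        = δ⁻¹ * (ε + σ ε) * (y - σ y) := by ring
    rw [e1, ← hδ, inv_mul_cancel₀ hδ0, one_mul]

end field

end Cfsg.Agent.Helper20.Sch
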