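import Mathlib

/-!
# S4504 piece ISO (helper25): `quotient_iso`
-/

set_option autoImplicit false
set_option linter.unusedSectionVars false
set_option linter.unusedVariables false

namespace Cfsg.Agent.Helper21.BH

universe u

section Red

variable {G : Type u} [Group G] [Finite G] (p : ℕ) [Fact p.Prime] (P : Sylow p G)

/-- PIECE ISO (`L → G ⧸ Z(G)` is onto with kernel `L ⊓ Z(G) = Z(L)`). -/
theorem quotient_iso (L : Subgroup G)
    (hLZ : ∀ g : G, ∃ l ∈ L, ∃ c ∈ Subgroup.center G, g = l * c)
    (hcen : Subgroup.centralizer (L : Set G) ≤ Subgroup.center G) :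
    Nonempty ((↥L ⧸ Subgroup.center ↥L) ≃* (G ⧸ Subgroup.center G)) := by
  let φ : ↥L →* G ⧸ Subgroup.center G := (QuotientGroup.mk' (Subgroup.center G)).comp L.subtype
  have hsurj : Function.Surjective φ := by
    intro x
    obtain ⟨g, rfl⟩ := QuotientGroup.mk_surjective x
    obtain ⟨l, hl, c, hc, rfl⟩ := hLZ g
    refine ⟨⟨l, hl⟩, ?_⟩
    show ((l : G) : G ⧸ Subgroup.center G) = ((l * c : G) : G ⧸ Subgroup.center G)
    rw [QuotientGroup.eq]
    have : l⁻¹ * (l * c) = c := by group
    rw [this]
    exact hc
  have hker : φ.ker = Subgroup.center ↥L := by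
    ext x
    rw [MonoidHom.mem_ker]
    show ((x : G) : G ⧸ Subgroup.center G) = 1 ↔ _
    rw [QuotientGroup.eq_one_iff, Subgroup.mem_center_iff, Subgroup.mem_center_iff]
    constructor
    · intro h y
      apply Subtype.ext
      exact h (y : G)
    · intro h
      have hx : (x : G) ∈ Subgroup.centralizer (L : Set G) := by
        rw [Subgroup.mem_centralizer_iff]
        intro y hy
        have := h ⟨y, hy⟩
        exact congrArg Subtype.val this
      have := hcen hx
      rw [Subgroup.mem_center_iff] at this
      exact this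
  exact ⟨(QuotientGroup.quotientMulEquivOfEq hker.symm).trans
    (QuotientGroup.quotientKerEquivOfSurjective φ hsurj)⟩

end Red

end Cfsg.Agent.Helper21.BH
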