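import Mathlib

/-!
# S4504 piece PERF (helper25): `perfect_of_central`
-/

set_option autoImplicit false
set_option linter.unusedSectionVars false
set_option linter.unusedVariables false

namespace Cfsg.Agent.Helper21.BH

universe u

namespace PERF

open scoped commutatorElement

/-- a subgroup containing the commutator subgroup is normal -/
theorem normal_of_commutator_le {G : Type u} [Group G] (H : Subgroup G) (hH : commutator G ≤ H) :
    H.Normal := by
  constructor
  intro n hn g
  have h1 : g * n * g⁻¹ = ⁅g, n⁆ * n := by
    rw [commutatorElement_def]; group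
  rw [h1]
  refine H.mul_mem (hH ?_) hn
  rw [commutator_def]
  exact Subgroup.commutator_mem_commutator (Subgroup.mem_top g) (Subgroup.mem_top n)

end PERF

section Red

variable {G : Type u} [Group G] [Finite G] (p : ℕ) [Fact p.Prime] (P : Sylow p G)

/-- PIECE PERF: `G = ⟨P^G⟩` with all proper normal subgroups central and `P` not normal is perfect. -/
theorem perfect_of_central (hP : Nat.card P = p)
    (hcl : Subgroup.normalClosure ((P : Subgroup G) : Set G) = ⊤)
    (hR4 : ∀ K : Subgroup G, K.Normal → K ≠ ⊤ → K ≤ Subgroup.center G)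
    (hnn : ¬ (P : Subgroup G).Normal) : commutator G = ⊤ := by
  by_contra hne
  have hcen : commutator G ≤ Subgroup.center G := hR4 _ inferInstance hne
  have hHn : ((P : Subgroup G) ⊔ commutator G).Normal :=
    PERF.normal_of_commutator_le _ le_sup_right
  have hle : Subgroup.normalClosure ((P : Subgroup G) : Set G) ≤ (P : Subgroup G) ⊔ commutator G :=
    Subgroup.normalClosure_le_normal (show ((P : Subgroup G) : Set G) ⊆ _ from
      fun x hx => (le_sup_left : (P : Subgroup G) ≤ _) hx)
  rw [hcl] at hle
  have htop : (P : Subgroup G) ⊔ Subgroup.center G = ⊤ :=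
    top_le_iff.mp (hle.trans (sup_le_sup_left hcen _))
  apply hnn
  constructor
  intro n hn g
  have hg : g ∈ (P : Subgroup G) ⊔ Subgroup.center G := by rw [htop]; trivial
  rw [Subgroup.mem_sup_of_normal_right] at hg
  obtain ⟨a, ha, z, hz, rfl⟩ := hg
  rw [Subgroup.mem_center_iff] at hz
  have h1 : a * z * n * (a * z)⁻¹ = a * n * a⁻¹ := by
    rw [mul_inv_rev, mul_assoc a z n, ← hz n]
    group
  rw [h1]
  exact (P : Subgroup G).mul_mem ((P : Subgroup G).mul_mem ha hn) ((P : Subgroup G).inv_mem ha)

end Red

end Cfsg.Agent.Helper21.BH
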