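import Mathlib
import Cfsg.Agent.Lib.Helper12.NilCover
import Cfsg.Agent.Lib.Helper21.BHDefs

/-!
# S4504 piece STEP6 (helper25): `eq_mul_center`  (`G = L Z(G)` by Frattini and an index count)
-/

set_option autoImplicit false
set_option linter.unusedSectionVars false
set_option linter.unusedVariables false
set_option linter.style.haveILetI false

namespace Cfsg.Agent.Helper21.BH

universe u

namespace STEP6

variable {G : Type u} [Group G]

/-- the centralizer of `P ≤ L` computed inside `L` -/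
theorem centralizer_subgroupOf {P L : Subgroup G} (h : P ≤ L) :
    (Subgroup.centralizer (P : Set G)).subgroupOf L =
      Subgroup.centralizer ((P.subgroupOf L : Subgroup ↥L) : Set ↥L) := by
  ext x
  rw [Subgroup.mem_subgroupOf, Subgroup.mem_centralizer_iff, Subgroup.mem_centralizer_iff]
  constructor
  · intro hx y hy
    apply Subtype.ext
    exact hx (y : G) (Subgroup.mem_subgroupOf.mp hy)
  · intro hx y hy
    have := hx ⟨y, h hy⟩ (Subgroup.mem_subgroupOf.mpr hy)
    exact congrArg Subtype.val this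

/-- `C ≤ N`, `|N ⊓ L : C| = |N : C|` finite: `N ≤ (N ⊓ L) ⊔ C` -/
theorem le_sup_of_relIndex_eq [Finite G] {C N L : Subgroup G} (hCN : C ≤ N)
    (h : C.relIndex (N ⊓ L) = C.relIndex N) : N ≤ (N ⊓ L) ⊔ C := by
  have hM1 : C ≤ (N ⊓ L) ⊔ C := le_sup_right
  have hM2 : (N ⊓ L) ⊔ C ≤ N := sup_le inf_le_left hCN
  have h1 := Subgroup.relIndex_mul_relIndex C ((N ⊓ L) ⊔ C) N hM1 hM2
  have hne : ∀ A B : Subgroup G, A.relIndex B ≠ 0 := fun A B => Subgroup.index_ne_zero_of_finite
  have h2 : C.relIndex (N ⊓ L) ≤ C.relIndex ((N ⊓ L) ⊔ C) :=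
    Subgroup.relIndex_le_of_le_right le_sup_left (hne _ _)
  rw [← Subgroup.relIndex_eq_one]
  have h3 := hne C N
  have h4 := hne ((N ⊓ L) ⊔ C) N
  rw [h] at h2
  -- `a * b = w`, `w ≤ a`, `w ≠ 0`
  have h5 : C.relIndex ((N ⊓ L) ⊔ C) * ((N ⊓ L) ⊔ C).relIndex N ≤
      C.relIndex ((N ⊓ L) ⊔ C) * 1 := by
    rw [h1, mul_one]; exact h2
  have h6 : ((N ⊓ L) ⊔ C).relIndex N ≤ 1 :=
    Nat.le_of_mul_le_mul_left h5 (Nat.pos_of_ne_zero (hne _ _))
  omega

end STEP6

section Red

variable {G : Type u} [Group G] [Finite G] (p : ℕ) [Fact p.Prime] (P : Sylow p G)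

/-- PIECE STEP6 (Frattini: `G = L N_G(P)`; `N_G(P) = N_L(P) C_G(P)` by the index count; `C_G(P) = P × V` with
`V ≤ Z(G)`, and `P ≤ L`). -/
theorem eq_mul_center (hP : Nat.card P = p) (w : ℕ)
    (hfL : (Subgroup.centralizer
        (((PL P) : Subgroup ↥(Subgroup.normalClosure ((P : Subgroup G) : Set G))) :
          Set ↥(Subgroup.normalClosure ((P : Subgroup G) : Set G)))).relIndex
      (Subgroup.normalizer
        (((PL P) : Subgroup ↥(Subgroup.normalClosure ((P : Subgroup G) : Set G))) :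
          Set ↥(Subgroup.normalClosure ((P : Subgroup G) : Set G)))) = w)
    (hfG : (Subgroup.centralizer ((P : Subgroup G) : Set G)).relIndex
      (Subgroup.normalizer ((P : Subgroup G) : Set G)) = w)
    (hV : ∀ v ∈ Subgroup.centralizer ((P : Subgroup G) : Set G), ¬ p ∣ orderOf v →
      v ∈ Subgroup.center G) (g : G) :
    ∃ l ∈ Subgroup.normalClosure ((P : Subgroup G) : Set G), ∃ c ∈ Subgroup.center G,
      g = l * c := by
  have hPL : (P : Subgroup G) ≤ Subgroup.normalClosure ((P : Subgroup G) : Set G) :=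
    Subgroup.subset_normalClosure
  have hCN : Subgroup.centralizer ((P : Subgroup G) : Set G) ≤
      Subgroup.normalizer ((P : Subgroup G) : Set G) := Subgroup.centralizer_le_normalizer _
  -- the index inside `L`
  have hcoe : ((PL P) : Subgroup ↥(Subgroup.normalClosure ((P : Subgroup G) : Set G))) =
      (P : Subgroup G).subgroupOf (Subgroup.normalClosure ((P : Subgroup G) : Set G)) :=
    Sylow.coe_subtype P _
  rw [hcoe, ← STEP6.centralizer_subgroupOf hPL, ← Subgroup.subgroupOf_normalizer_eq hPL,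
    ← Subgroup.inf_subgroupOf_right (Subgroup.normalizer ((P : Subgroup G) : Set G)),
    Subgroup.relIndex_subgroupOf inf_le_right] at hfL
  have hN := STEP6.le_sup_of_relIndex_eq (L := Subgroup.normalClosure ((P : Subgroup G) : Set G)) hCN
    (hfL.trans hfG.symm)
  -- Frattini
  have hfr := Sylow.normalizer_sup_eq_top' P hPL
  -- the centralizer
  have hC : Subgroup.centralizer ((P : Subgroup G) : Set G) ≤
      Subgroup.normalClosure ((P : Subgroup G) : Set G) ⊔ Subgroup.center G := by
    intro c hc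
    obtain ⟨u, y, hu, hy, hcuy, ⟨k, hk⟩, hyp⟩ := Cfsg.Agent.Helper12.NilCover.exists_pParts p c
    have hzc : Subgroup.zpowers c ≤ Subgroup.centralizer ((P : Subgroup G) : Set G) :=
      (Subgroup.zpowers_le).mpr hc
    have huP : u ∈ (P : Subgroup G) := by
      have hpg : IsPGroup p (Subgroup.zpowers u) :=
        IsPGroup.of_card (n := k) (by rw [Nat.card_zpowers, hk])
      have h3 : u ∈ Subgroup.zpowers u ⊓ (P : Subgroup G) := by
        rw [← hpg.inf_normalizer_sylow P]
        exact ⟨Subgroup.mem_zpowers u, hCN (hzc hu)⟩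
      exact h3.2
    rw [hcuy]
    exact Subgroup.mul_mem_sup (hPL huP) (hV y (hzc hy) hyp)
  have htop : Subgroup.normalClosure ((P : Subgroup G) : Set G) ⊔ Subgroup.center G = ⊤ := by
    apply top_le_iff.mp
    rw [← hfr]
    apply sup_le _ le_sup_left
    refine hN.trans (sup_le (inf_le_right.trans le_sup_left) hC)
  have hg : g ∈ Subgroup.normalClosure ((P : Subgroup G) : Set G) ⊔ Subgroup.center G := by
    rw [htop]; trivial
  rw [Subgroup.mem_sup_of_normal_right] at hg
  obtain ⟨l, hl, c, hc, rfl⟩ := hg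
  exact ⟨l, hl, c, hc, rfl⟩

end Red

end Cfsg.Agent.Helper21.BH
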