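import Mathlib
import Cfsg.Prelude.Def_FusionComponents
import Cfsg.Agent.Lib.Helper25.FusionFactor
import Cfsg.Agent.Lib.Helper25.FusionMorph
import Cfsg.Agent.Lib.Helper25.FusionNormal3
import Cfsg.Agent.S5134
import Cfsg.Agent.S5089

/-!
# Solvable fusion systems: chains of strongly closed subgroups
-/

set_option autoImplicit false
set_option linter.style.haveILetI false
set_option linter.unusedSectionVars false

namespace Cfsg.Agent.Helper25.Solv

open Cfsg Cfsg.FusionSystem Cfsg.Agent.Helper25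
open scoped commutatorElement

variable {Ω : Type*} [Group Ω] {S : Subgroup Ω} {Ω' : Type*} [Group Ω'] {S' : Subgroup Ω'}

/-- A strongly closed subgroup is normal in `S`. -/
theorem normal_of_stronglyClosed {F : FusionSystem S} {R : Subgroup Ω} (hR : F.StronglyClosed R) :
    (R.subgroupOf S).Normal := by
  refine ⟨fun x hx s => ?_⟩
  rw [Subgroup.mem_subgroupOf] at hx ⊢
  have h1 := F.conj_mem (P := R) (g := (s : Ω)) hR.1 s.2
  have h2 := hR.2 R le_rfl _ h1 ⟨(x : Ω), hx⟩
  rw [conjHom_apply] at h2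
  exact h2

/-- The image of a strongly closed subgroup is strongly closed in a factor system. -/
theorem stronglyClosed_imageAlong {F : FusionSystem S} {S₀ : Subgroup Ω} {θ : S →* Ω'}
    {E : FusionSystem S'} (hE : F.IsFactorSystem S₀ θ E) {T : Subgroup Ω}
    (hT : F.StronglyClosed T) : E.StronglyClosed (imageAlong θ T) := by
  obtain ⟨hS₀S, hker, hrange, hEiff⟩ := hE
  refine ⟨?_, fun R' hR' φ' hφ' x' => ?_⟩
  · intro y hy
    obtain ⟨s, -, rfl⟩ := mem_imageAlong.mp hy
    exact hrange ▸ ⟨s, rfl⟩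
  · obtain ⟨hR'S', φ, hφ, hP, hφS, hPP', hind⟩ := (hEiff R' φ').mp hφ'
    obtain ⟨s, hsT, hs⟩ := mem_imageAlong.mp (hR' x'.2)
    have hsP : (s : Ω) ∈ preimageAlong θ R' :=
      mem_preimageAlong.mpr ⟨s.2, by
        have : θ ⟨(s : Ω), s.2⟩ = (x' : Ω') := hs
        rw [this]; exact x'.2⟩
    have h1 := hind ⟨s, hsP⟩
    have e : (⟨θ ⟨(s : Ω), hP hsP⟩, hPP' ⟨s, hsP⟩⟩ : R') = x' := Subtype.ext hs
    rw [e] at h1
    rw [h1, mem_imageAlong]
    refine ⟨⟨φ ⟨s, hsP⟩, hφS _⟩, ?_, rfl⟩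
    have h2 := restrict_mem F (inf_le_left : preimageAlong θ R' ⊓ T ≤ preimageAlong θ R') hφ
    exact hT.2 _ inf_le_right _ h2 ⟨(s : Ω), ⟨hsP, hsT⟩⟩

/-- The full preimage of a strongly closed subgroup of a factor system is strongly closed. -/
theorem stronglyClosed_preimageAlong [Finite S] (p : ℕ) [Fact p.Prime] (hS : IsPGroup p S)
    {F : FusionSystem S} (hF : F.IsSaturated p) {S₀ : Subgroup Ω} (hS₀ : F.StronglyClosed S₀)
    {θ : S →* Ω'} {E : FusionSystem S'} (hE : F.IsFactorSystem S₀ θ E) {A' : Subgroup Ω'}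
    (hA' : E.StronglyClosed A') : F.StronglyClosed (preimageAlong θ A') := by
  have hsurj := Cfsg.Agent.S5134.result p hS F hF S₀ hS₀ θ E hE
  obtain ⟨⟨hθS', hmor⟩, hrange, -⟩ := hsurj
  refine ⟨preimageAlong_le θ A', fun R hR φ hφ x => ?_⟩
  obtain ⟨φ', hφ', hP, hφS, hP', hind⟩ := hmor R φ hφ
  rw [mem_preimageAlong]
  refine ⟨hφS x, ?_⟩
  rw [← hind x]
  have hle : imageAlong θ R ≤ A' := by
    intro y hy
    obtain ⟨s, hs, rfl⟩ := mem_imageAlong.mp hy
    exact (mem_preimageAlong.mp (hR hs)).2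
  exact hA'.2 _ hle φ' hφ' _

/-- The kernel lies in every full preimage. -/
theorem le_preimageAlong {F : FusionSystem S} {S₀ : Subgroup Ω} {θ : S →* Ω'}
    {E : FusionSystem S'} (hE : F.IsFactorSystem S₀ θ E) (A' : Subgroup Ω') :
    S₀ ≤ preimageAlong θ A' := by
  intro x hx
  rw [mem_preimageAlong]
  refine ⟨hE.1 hx, ?_⟩
  have : θ ⟨x, hE.1 hx⟩ = 1 := (hE.2.1 _).2 hx
  rw [this]; exact A'.one_mem

/-- The full preimage of an abelian subgroup has its commutator subgroup in the kernel. -/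
theorem commutator_preimageAlong_le {F : FusionSystem S} {S₀ : Subgroup Ω} {θ : S →* Ω'}
    {E : FusionSystem S'} (hE : F.IsFactorSystem S₀ θ E) {A' : Subgroup Ω'}
    (hcomm : IsMulCommutative A') : ⁅preimageAlong θ A', preimageAlong θ A'⁆ ≤ S₀ := by
  rw [Subgroup.commutator_le]
  intro a ha b hb
  obtain ⟨haS, haA⟩ := mem_preimageAlong.mp ha
  obtain ⟨hbS, hbA⟩ := mem_preimageAlong.mp hb
  have hab : (⁅a, b⁆ : Ω) ∈ S := by
    rw [commutatorElement_def]
    exact S.mul_mem (S.mul_mem (S.mul_mem haS hbS) (S.inv_mem haS)) (S.inv_mem hbS)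
  rw [← (hE.2.1 ⟨⁅a, b⁆, hab⟩)]
  have e : (⟨⁅a, b⁆, hab⟩ : S) = ⁅(⟨a, haS⟩ : S), ⟨b, hbS⟩⁆ := by
    apply Subtype.ext
    simp [commutatorElement_def]
  rw [e, map_commutatorElement, commutatorElement_eq_one_iff_mul_comm]
  have := hcomm.is_comm.comm (⟨θ ⟨a, haS⟩, haA⟩ : A') ⟨θ ⟨b, hbS⟩, hbA⟩
  exact congrArg Subtype.val this

/-- In a solvable saturated system every strongly closed subgroup is the bottom of a chain of
strongly closed subgroups with abelian steps reaching `S`. -/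
theorem exists_chain_above [Finite S] (p : ℕ) [Fact p.Prime] (hS : IsPGroup p S)
    {F : FusionSystem S} (hF : F.IsSaturated p) (hsolv : F.IsSolvableSystem) :
    ∀ (k : ℕ) (R : Subgroup Ω), F.StronglyClosed R → Nat.card S - Nat.card R = k →
      ∃ (n : ℕ) (T : ℕ → Subgroup Ω), T 0 = R ∧ T n = S ∧ (∀ i, T i ≤ T (i + 1)) ∧
        (∀ i, F.StronglyClosed (T i)) ∧ ∀ i, ⁅T (i + 1), T (i + 1)⁆ ≤ T i := by
  intro k
  induction k using Nat.strong_induction_on with
  | _ k ih =>
  intro R hR hk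
  have hSsc : F.StronglyClosed S :=
    ⟨le_rfl, fun P _ φ hφ x => (F.le_of_mem hφ).2 x⟩
  by_cases hRS : R = S
  · refine ⟨0, fun _ => S, hRS.symm, rfl, fun _ => le_rfl, fun _ => hSsc, fun _ => ?_⟩
    rw [Subgroup.commutator_le]
    intro a ha b hb
    rw [commutatorElement_def]
    exact S.mul_mem (S.mul_mem (S.mul_mem ha hb) (S.inv_mem ha)) (S.inv_mem hb)
  · haveI := normal_of_stronglyClosed hR
    have hker : ∀ s : S, QuotientGroup.mk' (R.subgroupOf S) s = 1 ↔ (s : Ω) ∈ R := by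
      intro s
      rw [QuotientGroup.mk'_apply, QuotientGroup.eq_one_iff, Subgroup.mem_subgroupOf]
    have hrange : (QuotientGroup.mk' (R.subgroupOf S)).range = ⊤ :=
      MonoidHom.range_eq_top.2 (QuotientGroup.mk'_surjective _)
    obtain ⟨E, hE⟩ := exists_factorSystem F R hR (QuotientGroup.mk' (R.subgroupOf S)) hker ⊤ hrange
    have hcore := hsolv R hR hRS E hE
    have hsurj := Cfsg.Agent.S5134.result p hS F hF R hR _ E hE
    have hEsat : E.IsSaturated p := isSaturated_of_surj hS hF hsurj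
    have hS'p : IsPGroup p ↥(⊤ : Subgroup (↥S ⧸ R.subgroupOf S)) :=
      IsPGroup.of_injective (hS.to_quotient (R.subgroupOf S)) (Subgroup.subtype _)
        (Subgroup.subtype_injective _)
    obtain ⟨A', hA'ne, hA'comm, hA'sc⟩ := (Cfsg.Agent.S5089.result p hS'p E hEsat).1 hcore
    set R' := preimageAlong (QuotientGroup.mk' (R.subgroupOf S)) A' with hR'
    have hR'sc : F.StronglyClosed R' := stronglyClosed_preimageAlong p hS hF hR hE hA'sc
    have hRR' : R ≤ R' := le_preimageAlong hE A'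
    have hcomm : ⁅R', R'⁆ ≤ R := commutator_preimageAlong_le hE hA'comm
    have hne : R ≠ R' := by
      intro h
      apply hA'ne
      rw [eq_bot_iff]
      intro y hy
      have hyS : y ∈ (QuotientGroup.mk' (R.subgroupOf S)).range := by rw [hrange]; trivial
      obtain ⟨s, rfl⟩ := hyS
      have hs : (s : Ω) ∈ R' := mem_preimageAlong.mpr ⟨s.2, hy⟩
      rw [← h] at hs
      rw [Subgroup.mem_bot]
      exact (hker s).2 hs
    haveI : Finite ↥R' := finite_of_le_finite hR'sc.1
    haveI : Finite ↥R := finite_of_le_finite hR.1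
    have hlt : Nat.card R < Nat.card R' := by
      by_contra hcon
      exact hne (Subgroup.eq_of_le_of_card_ge hRR' (not_lt.mp hcon))
    have hle' : Nat.card R' ≤ Nat.card S := Subgroup.card_le_of_le hR'sc.1
    obtain ⟨n, T, hT0, hTn, hTmono, hTsc, hTcomm⟩ :=
      ih (Nat.card S - Nat.card R') (by omega) R' hR'sc rfl
    refine ⟨n + 1, fun i => Nat.casesOn i R (fun j => T j), rfl, hTn, ?_, ?_, ?_⟩
    · intro i
      cases i with
      | zero => show R ≤ T 0; rw [hT0]; exact hRR'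
      | succ j => exact hTmono j
    · intro i
      cases i with
      | zero => exact hR
      | succ j => exact hTsc j
    · intro i
      cases i with
      | zero => show ⁅T 0, T 0⁆ ≤ R; rw [hT0]; exact hcomm
      | succ j => exact hTcomm j

end Cfsg.Agent.Helper25.Solv
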