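import Mathlib
import Cfsg.Prelude.Def_FusionComponents
import Cfsg.Agent.Lib.Helper25.FusionSolv
import Cfsg.Agent.S5088

/-!
# Solvable saturated fusion systems are constrained
-/

set_option autoImplicit false
set_option linter.style.haveILetI false
set_option linter.unusedSectionVars false

namespace Cfsg.Agent.Helper25.Solv

open Cfsg Cfsg.FusionSystem Cfsg.Agent.Helper25
open scoped commutatorElement

variable {Ω : Type*} [Group Ω] {S : Subgroup Ω}

/-- The centralizer in `S` of a subgroup normal in the system is strongly closed. -/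
theorem stronglyClosed_centralizerIn {F : FusionSystem S} {Q : Subgroup Ω} (hQ : F.IsNormal Q) :
    F.StronglyClosed (centralizerIn S Q) := by
  refine ⟨inf_le_left, fun R hR φ hφ x => ?_⟩
  obtain ⟨ψ, hψ, hψR, himg⟩ := hQ.2 R φ hφ
  rw [← hψR x]
  refine ⟨(F.le_of_mem hψ).2 _, ?_⟩
  show ψ (Subgroup.inclusion le_sup_left x) ∈ Subgroup.centralizer (Q : Set Ω)
  rw [Subgroup.mem_centralizer_iff]
  intro q hq
  rw [SetLike.mem_coe, ← himg] at hq
  obtain ⟨q', hq'K, hq'Q, rfl⟩ := (mem_map_subgroupOf ψ).mp hq
  have hx : (x : Ω) ∈ Subgroup.centralizer (Q : Set Ω) := (hR x.2).2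
  have hcomm : q' * (x : Ω) = (x : Ω) * q' := Subgroup.mem_centralizer_iff.mp hx q' hq'Q
  have h1 : (⟨q', hq'K⟩ : ↥(R ⊔ Q)) * Subgroup.inclusion le_sup_left x =
      Subgroup.inclusion le_sup_left x * ⟨q', hq'K⟩ := Subtype.ext hcomm
  have h2 := congrArg ψ h1
  rw [map_mul, map_mul] at h2
  exact h2

/-- The intersection of two strongly closed subgroups is strongly closed. -/
theorem stronglyClosed_inf {F : FusionSystem S} {A B : Subgroup Ω} (hA : F.StronglyClosed A)
    (hB : F.StronglyClosed B) : F.StronglyClosed (A ⊓ B) :=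
  ⟨inf_le_left.trans hA.1, fun R hR φ hφ x =>
    ⟨hA.2 R (hR.trans inf_le_left) φ hφ x, hB.2 R (hR.trans inf_le_right) φ hφ x⟩⟩

/-- The product of a strongly closed subgroup and a normal subgroup of the system is strongly
closed. -/
theorem stronglyClosed_sup_of_isNormal {F : FusionSystem S} {D₀ Q : Subgroup Ω}
    (hD₀ : F.StronglyClosed D₀) (hQ : F.IsNormal Q) : F.StronglyClosed (D₀ ⊔ Q) := by
  have hQsc := stronglyClosed_of_isNormal F hQ
  refine ⟨sup_le hD₀.1 hQ.1, fun R hR φ hφ x => ?_⟩
  obtain ⟨ψ, hψ, hψR, himg⟩ := hQ.2 R φ hφ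
  rw [← hψR x]
  obtain ⟨u, hu, v, hv, hxuv⟩ := exists_mul_of_mem_sup
    (fun u hu v hv => conj_mem_of_stronglyClosed' F hQsc (hD₀.1 hu) hv) (hR x.2)
  have hvK : v ∈ R ⊔ Q := le_sup_right (a := R) hv
  have huK : u ∈ R ⊔ Q := by
    have : u = (x : Ω) * v⁻¹ := by rw [hxuv]; group
    rw [this]
    exact (R ⊔ Q).mul_mem (le_sup_left (b := Q) x.2) ((R ⊔ Q).inv_mem hvK)
  have e : Subgroup.inclusion le_sup_left x = (⟨u, huK⟩ : ↥(R ⊔ Q)) * ⟨v, hvK⟩ :=
    Subtype.ext hxuv
  rw [e, map_mul]
  refine (D₀ ⊔ Q).mul_mem (le_sup_left (b := Q) ?_) (le_sup_right (a := D₀) ?_)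
  · have h1 := restrict_mem F (inf_le_left : (R ⊔ Q) ⊓ D₀ ≤ R ⊔ Q) hψ
    exact hD₀.2 _ inf_le_right _ h1 ⟨u, ⟨huK, hu⟩⟩
  · have h1 : ψ ⟨v, hvK⟩ ∈ (Q.subgroupOf (R ⊔ Q)).map ψ :=
      (mem_map_subgroupOf ψ).mpr ⟨v, hvK, hv, rfl⟩
    rw [himg] at h1
    exact h1

/-- A subgroup normal in the system that contains its centralizer in `S` is centric. -/
theorem isCentric_of_isNormal [Finite S] {F : FusionSystem S} {Q : Subgroup Ω} (hQ : F.IsNormal Q)
    (hC : centralizerIn S Q ≤ Q) : F.IsCentric Q := by
  have hQsc := stronglyClosed_of_isNormal F hQ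
  refine ⟨hQ.1, fun Q' hconj => ?_⟩
  obtain ⟨φ, hφ, hrange⟩ := hconj
  haveI : Finite Q := finite_of_le_finite hQ.1
  have hle : Q' ≤ Q := by
    rw [← hrange]
    rintro _ ⟨x, rfl⟩
    exact hQsc.2 Q le_rfl φ hφ x
  have hcard : Nat.card Q = Nat.card Q' := by
    rw [← hrange]
    exact Nat.card_congr (MonoidHom.ofInjective (F.injective_of_mem hφ)).toEquiv
  have : Q' = Q := Subgroup.eq_of_le_of_card_ge hle hcard.le
  rw [this]; exact hC

/-- **Solvable saturated fusion systems are constrained.** -/
theorem isConstrained_of_solvable [Finite S] (p : ℕ) [Fact p.Prime] (hS : IsPGroup p S)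
    {F : FusionSystem S} (hF : F.IsSaturated p) (hsolv : F.IsSolvableSystem) :
    F.IsConstrained p := by
  have hQ : F.IsNormal F.core := isNormal_core F
  have hQsc := stronglyClosed_of_isNormal F hQ
  have hCsc := stronglyClosed_centralizerIn hQ
  refine ⟨hF, F.core, hQ, isCentric_of_isNormal hQ ?_⟩
  obtain ⟨n, T, hT0, hTn, hTmono, hTsc, hTcomm⟩ :=
    exists_chain_above p hS hF hsolv _ ⊥ (stronglyClosed_bot F) rfl
  -- the chain for the core
  obtain ⟨m, Qs, hQs0, hQsm, hQsmono, hQs⟩ := (Cfsg.Agent.S5088.result p hS F hF F.core).mp hQ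
  have key : ∀ i, centralizerIn S F.core ⊓ T i ≤ F.core := by
    intro i
    induction i with
    | zero => rw [hT0]; exact inf_le_right.trans bot_le
    | succ i ih =>
      set D₀ := centralizerIn S F.core ⊓ T (i + 1) with hD₀def
      have hD₀sc : F.StronglyClosed D₀ := stronglyClosed_inf hCsc (hTsc (i + 1))
      have hDsc : F.StronglyClosed (D₀ ⊔ F.core) := stronglyClosed_sup_of_isNormal hD₀sc hQ
      have hdecomp : ∀ d ∈ D₀ ⊔ F.core, ∃ u ∈ D₀, ∃ v ∈ F.core, d = u * v := fun d hd =>
        exists_mul_of_mem_sup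
          (fun u hu v hv => conj_mem_of_stronglyClosed' F hQsc (hD₀sc.1 hu) hv) hd
      have hcent : ∀ u ∈ D₀, ∀ c ∈ F.core, ⁅u, c⁆ = 1 := by
        intro u hu c hc
        rw [commutatorElement_eq_one_iff_mul_comm]
        exact (Subgroup.mem_centralizer_iff.mp hu.1.2 c hc).symm
      -- the chain
      set R : ℕ → Subgroup Ω := fun j => if h : j < m + 1 then Qs ⟨j, h⟩ else D₀ ⊔ F.core
        with hRdef
      have hR_lt : ∀ j (h : j < m + 1), R j = Qs ⟨j, h⟩ := fun j h => by
        show (if h : j < m + 1 then Qs ⟨j, h⟩ else D₀ ⊔ F.core) = Qs ⟨j, h⟩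
        exact dif_pos h
      have hR_top : R (m + 1) = D₀ ⊔ F.core := by
        show (if h : m + 1 < m + 1 then Qs ⟨m + 1, h⟩ else D₀ ⊔ F.core) = D₀ ⊔ F.core
        exact dif_neg (lt_irrefl _)
      have hQs_le : ∀ j (h : j < m + 1), Qs ⟨j, h⟩ ≤ F.core := by
        intro j h
        rw [← hQsm]
        exact hQsmono (Fin.le_last _)
      have hQs_sc : ∀ j (h : j < m + 1), F.StronglyClosed (Qs ⟨j, h⟩) := by
        intro j h
        cases j with
        | zero =>
          have : Qs ⟨0, h⟩ = ⊥ := hQs0
          rw [this]; exact stronglyClosed_bot F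
        | succ j =>
          have hj : j < m := by omega
          exact (hQs ⟨j, hj⟩).1
      have hD : F.IsNormal (D₀ ⊔ F.core) := by
        apply isNormal_of_chain p hS F hF hDsc R (m + 1) hR_top
        · intro j hj
          by_cases hj' : j + 1 < m + 1
          · rw [hR_lt j (by omega), hR_lt (j + 1) hj']
            exact hQsmono (Fin.mk_le_mk.mpr (Nat.le_succ j))
          · have : j = m := by omega
            subst this
            rw [hR_lt j (by omega), hR_top]
            exact (hQs_le j (by omega)).trans le_sup_right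
        · intro j hj
          by_cases hj' : j < m + 1
          · rw [hR_lt j hj']; exact hQs_sc j hj'
          · have : j = m + 1 := by omega
            rw [this, hR_top]; exact hDsc
        · intro j hj
          rw [Subgroup.commutator_le]
          intro d hd c hc
          obtain ⟨u, hu, v, hv, rfl⟩ := hdecomp d hd
          have huS : u ∈ S := hD₀sc.1 hu
          by_cases hj' : j + 1 < m + 1
          · rw [hR_lt (j + 1) hj'] at hc
            rw [hR_lt j (by omega)]
            have hjm : j < m := by omega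
            have hcQ : c ∈ F.core := hQs_le (j + 1) hj' hc
            rw [commutatorElement_mul_left_eq_conj_mul, hcent u hu c hcQ, mul_one]
            have h1 : ⁅v, c⁆ ∈ Qs (Fin.castSucc ⟨j, hjm⟩) :=
              (hQs ⟨j, hjm⟩).2 (Subgroup.commutator_mem_commutator hv hc)
            exact conj_mem_of_stronglyClosed F (hQs_sc j (by omega)) huS h1
          · have hjm : j = m := by omega
            subst hjm
            rw [hR_top] at hc
            rw [hR_lt j (by omega)]
            have hlast : Qs ⟨j, by omega⟩ = F.core := hQsm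
            rw [hlast]
            obtain ⟨u', hu', v', hv', rfl⟩ := hdecomp c hc
            have hu'S : u' ∈ S := hD₀sc.1 hu'
            have hv'S : v' ∈ S := hQ.1 hv'
            rw [commutatorElement_mul_left_eq_conj_mul]
            refine F.core.mul_mem ?_ ?_
            · -- u * ⁅v, u' v'⁆ * u⁻¹
              apply conj_mem_of_stronglyClosed F hQsc huS
              rw [commutatorElement_def]
              have h2 : (u' * v') * v⁻¹ * (u' * v')⁻¹ ∈ F.core :=
                conj_mem_of_stronglyClosed F hQsc (S.mul_mem hu'S hv'S) (F.core.inv_mem hv)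
              have : v * (u' * v') * v⁻¹ * (u' * v')⁻¹ = v * ((u' * v') * v⁻¹ * (u' * v')⁻¹) := by
                group
              rw [this]
              exact F.core.mul_mem hv h2
            · rw [commutatorElement_mul_right_eq_mul_conj, hcent u hu v' hv', mul_one,
                mul_inv_cancel_right]
              apply ih
              refine ⟨?_, ?_⟩
              · exact (centralizerIn S F.core).commutator_le_self
                  (Subgroup.commutator_mem_commutator hu.1 hu'.1) |> fun h => h
              · exact hTcomm i (Subgroup.commutator_mem_commutator hu.2 hu'.2)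
        · intro P _ _ α _
          refine ⟨0, fun y hy => ?_⟩
          rw [hR_lt 0 (by omega)] at hy
          have h0 : Qs ⟨0, by omega⟩ = ⊥ := hQs0
          rw [h0] at hy
          have : y = 1 := Subtype.ext (Subgroup.mem_bot.mp hy)
          rw [this, map_one]
      have hle : D₀ ⊔ F.core ≤ F.core := le_sSup hD
      exact le_sup_left.trans hle
  have := key n
  rw [hTn] at this
  intro x hx
  exact this ⟨hx, hx.1⟩

end Cfsg.Agent.Helper25.Solv
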