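import Mathlib
import Cfsg.Prelude.Def_FusionComponents
import Cfsg.Agent.Lib.Helper25.FusionHyp
import Cfsg.Agent.Lib.Helper25.FusionFactor
import Cfsg.Agent.Lib.Helper25.FusionNormal2

set_option autoImplicit false

namespace Cfsg.Agent.Helper25.Grun

open Cfsg Cfsg.FusionSystem Cfsg.Agent.Helper25

variable {Ω : Type*} [Group Ω] {S : Subgroup Ω} {Ω' : Type*} [Group Ω']

/-- A map of the system fixes every element of a central subgroup that lies in its source. -/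
theorem central_fix (F : FusionSystem S) {Z : Subgroup Ω} (hZ : F.IsCentral Z) {R : Subgroup Ω}
    {ψ : R →* Ω} (hψ : ψ ∈ F.Hom R) (c : R) (hc : (c : Ω) ∈ Z) : ψ c = (c : Ω) := by
  have h1 := restrict_mem F (inf_le_left : R ⊓ Z ≤ R) hψ
  obtain ⟨χ, -, hχW, hχZ⟩ := hZ.2 _ _ h1
  have h2 := hχW ⟨(c : Ω), ⟨c.2, hc⟩⟩
  have h3 := hχZ ⟨(c : Ω), hc⟩
  have e : (Subgroup.inclusion (le_sup_left : R ⊓ Z ≤ R ⊓ Z ⊔ Z) ⟨(c : Ω), ⟨c.2, hc⟩⟩) =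
      Subgroup.inclusion (le_sup_right : Z ≤ R ⊓ Z ⊔ Z) ⟨(c : Ω), hc⟩ := Subtype.ext rfl
  rw [e, h3] at h2
  have e2 : (Subgroup.inclusion (inf_le_left : R ⊓ Z ≤ R) ⟨(c : Ω), ⟨c.2, hc⟩⟩) = c := Subtype.ext rfl
  have h4 : (ψ.comp (Subgroup.inclusion (inf_le_left : R ⊓ Z ≤ R))) ⟨(c : Ω), ⟨c.2, hc⟩⟩ = ψ c := by
    rw [MonoidHom.comp_apply, e2]
  rw [← h4]
  exact h2.symm

/-- A central subgroup of the system is centralized by `S`. -/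
theorem central_comm (F : FusionSystem S) {Z : Subgroup Ω} (hZ : F.IsCentral Z) {g x : Ω} (hg : g ∈ S)
    (hx : x ∈ Z) : g * x * g⁻¹ = x := by
  have h1 := F.conj_mem (P := Z) (g := g) hZ.1 hg
  have := central_fix F hZ h1 ⟨x, hx⟩ hx
  rwa [conjHom_apply] at this

/-- The core step: a map of `F` agrees, modulo the centre, with a map defined on a subgroup containing the
preimage of a central subgroup of the factor system, and the latter map is the identity modulo the centre on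
that preimage. -/
theorem core (F : FusionSystem S) {Z : Subgroup Ω} {θ : S →* Ω'} {S' : Subgroup Ω'} {E : FusionSystem S'}
    (hE : F.IsFactorSystem Z θ E) (hZ : F.IsCentral Z) {Q' : Subgroup Ω'} (hQ' : E.IsCentral Q')
    {P : Subgroup Ω} {φ : P →* Ω} (hφ : φ ∈ F.Hom P) :
    ∃ (R : Subgroup Ω) (ψ : R →* Ω) (hPR : P ≤ R) (hZR : preimageAlong θ Q' ≤ R), ψ ∈ F.Hom R ∧
      (∀ x : P, (φ x)⁻¹ * ψ (Subgroup.inclusion hPR x) ∈ Z) ∧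
      (∀ z : preimageAlong θ Q', (z : Ω)⁻¹ * ψ (Subgroup.inclusion hZR z) ∈ Z) := by
  obtain ⟨hZS, hker, hrange, hhom⟩ := hE
  have hPS : P ≤ S := (F.le_of_mem hφ).1
  have hφS : ∀ x : P, φ x ∈ S := (F.le_of_mem hφ).2
  obtain ⟨φ₁, hφ₁, hφ₁P, hφ₁Z⟩ := hZ.2 P φ hφ
  have hPZS : P ⊔ Z ≤ S := sup_le hPS hZS
  have hφ₁S : ∀ x : ↥(P ⊔ Z), φ₁ x ∈ S := (F.le_of_mem hφ₁).2
  set P' : Subgroup Ω' := imageAlong θ (P ⊔ Z) with hP'
  have hP'S' : P' ≤ S' := by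
    rw [← hrange]; rintro _ ⟨s, -, rfl⟩; exact ⟨s, rfl⟩
  have hpre : preimageAlong θ P' = P ⊔ Z := by
    ext x
    rw [mem_preimageAlong]
    constructor
    · rintro ⟨hxS, y, hy, hyx⟩
      have hk : θ (y⁻¹ * ⟨x, hxS⟩) = 1 := by rw [map_mul, map_inv, hyx]; simp
      have hkZ : ((y⁻¹ * ⟨x, hxS⟩ : S) : Ω) ∈ Z := (hker _).1 hk
      have : x = (y : Ω) * ((y⁻¹ * ⟨x, hxS⟩ : S) : Ω) := by simp
      rw [this]
      exact (P ⊔ Z).mul_mem (Subgroup.mem_subgroupOf.mp hy) (le_sup_right (a := P) hkZ)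
    · intro hx
      exact ⟨hPZS hx, ⟨x, hPZS hx⟩, Subgroup.mem_subgroupOf.mpr hx, rfl⟩
  have hφ₁' := hom_transport F hpre hφ₁
  set φ₁' := φ₁.comp (Subgroup.inclusion hpre.le) with hφ₁'def
  have hφ₁'S : ∀ x, φ₁' x ∈ S := fun x => hφ₁S _
  obtain ⟨φ', hind⟩ := exists_inducedAlong hrange hP'S' (ψ := φ₁') hφ₁'S (by
    intro x hx
    have hxZ : (x : Ω) ∈ Z := (hker _).1 hx
    have h1 : φ₁' x = (x : Ω) := by
      have h2 := hφ₁Z ⟨x, hxZ⟩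
      have e : Subgroup.inclusion hpre.le x = Subgroup.inclusion (le_sup_right : Z ≤ P ⊔ Z) ⟨x, hxZ⟩ :=
        Subtype.ext rfl
      rw [hφ₁'def, MonoidHom.comp_apply, e, h2]
    apply (hker _).2
    show φ₁' x ∈ Z
    rw [h1]; exact hxZ)
  have hφ'E : φ' ∈ E.Hom P' := (hhom P' φ').2 ⟨hP'S', φ₁', hφ₁', hind⟩
  obtain ⟨ψ', hψ', hψ'P, hψ'Q⟩ := hQ'.2 P' φ' hφ'E
  obtain ⟨-, ψ, hψ, hRS, hψS, hRR', hindψ⟩ := (hhom _ ψ').1 hψ'
  obtain ⟨hP₁, hφ₁'S₂, hPP', hindφ⟩ := hind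
  have hxP' : ∀ x : P, θ ⟨x, hPS x.2⟩ ∈ P' := fun x =>
    ⟨⟨x, hPS x.2⟩, Subgroup.mem_subgroupOf.mpr (le_sup_left (a := P) (b := Z) x.2), rfl⟩
  have hPR : P ≤ preimageAlong θ (P' ⊔ Q') := fun x hx =>
    mem_preimageAlong.2 ⟨hPS hx, le_sup_left (a := P') (b := Q') (hxP' ⟨x, hx⟩)⟩
  have hZR : preimageAlong θ Q' ≤ preimageAlong θ (P' ⊔ Q') := fun z hz => by
    obtain ⟨h1, h2⟩ := mem_preimageAlong.1 hz
    exact mem_preimageAlong.2 ⟨h1, le_sup_right (a := P') (b := Q') h2⟩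
  refine ⟨_, ψ, hPR, hZR, hψ, ?_, ?_⟩
  · intro x
    have h1 := hindψ (Subgroup.inclusion hPR x)
    have h2 := hψ'P ⟨θ ⟨x, hPS x.2⟩, hxP' x⟩
    have hxpre : (x : Ω) ∈ preimageAlong θ P' := by rw [hpre]; exact le_sup_left (a := P) (b := Z) x.2
    have h3 := hindφ ⟨x, hxpre⟩
    have h4 : φ₁' ⟨x, hxpre⟩ = φ x := by
      have e : Subgroup.inclusion hpre.le ⟨(x : Ω), hxpre⟩ =
          Subgroup.inclusion (le_sup_left : P ≤ P ⊔ Z) x := Subtype.ext rfl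
      rw [hφ₁'def, MonoidHom.comp_apply, e, hφ₁P x]
    have h5 : θ ⟨ψ (Subgroup.inclusion hPR x), hψS _⟩ = θ ⟨φ x, hφS x⟩ := by
      rw [← h1]
      have e1 : (⟨θ ⟨(Subgroup.inclusion hPR x : Ω), hRS (Subgroup.inclusion hPR x).2⟩,
          hRR' (Subgroup.inclusion hPR x)⟩ : ↥(P' ⊔ Q')) =
          Subgroup.inclusion (le_sup_left : P' ≤ P' ⊔ Q') ⟨θ ⟨x, hPS x.2⟩, hxP' x⟩ := Subtype.ext rfl
      rw [e1, h2]
      have e2 : (⟨θ ⟨x, hPS x.2⟩, hxP' x⟩ : P') = ⟨θ ⟨(x : Ω), hP₁ hxpre⟩, hPP' ⟨x, hxpre⟩⟩ :=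
        Subtype.ext rfl
      rw [e2, h3]
      congr 1
      exact Subtype.ext h4
    have h6 : θ (⟨φ x, hφS x⟩⁻¹ * ⟨ψ (Subgroup.inclusion hPR x), hψS _⟩) = 1 := by
      rw [map_mul, map_inv, h5]; simp
    exact (hker _).1 h6
  · intro z
    obtain ⟨hzS, hzQ'⟩ := mem_preimageAlong.1 z.2
    have h1 := hindψ (Subgroup.inclusion hZR z)
    have h2 := hψ'Q ⟨θ ⟨z, hzS⟩, hzQ'⟩
    have h5 : θ ⟨ψ (Subgroup.inclusion hZR z), hψS _⟩ = θ ⟨z, hzS⟩ := by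
      rw [← h1]
      have e1 : (⟨θ ⟨(Subgroup.inclusion hZR z : Ω), hRS (Subgroup.inclusion hZR z).2⟩,
          hRR' (Subgroup.inclusion hZR z)⟩ : ↥(P' ⊔ Q')) =
          Subgroup.inclusion (le_sup_right : Q' ≤ P' ⊔ Q') ⟨θ ⟨z, hzS⟩, hzQ'⟩ := Subtype.ext rfl
      rw [e1, h2]
    have h6 : θ (⟨z, hzS⟩⁻¹ * ⟨ψ (Subgroup.inclusion hZR z), hψS _⟩) = 1 := by
      rw [map_mul, map_inv, h5]; simp
    exact (hker _).1 h6

/-- Every focal element `x⁻¹ φ(x)` centralizes the preimage of a central subgroup of `F / Z(F)`. -/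
theorem focal_comm (F : FusionSystem S) {Z : Subgroup Ω} {θ : S →* Ω'} {S' : Subgroup Ω'}
    {E : FusionSystem S'} (hE : F.IsFactorSystem Z θ E) (hZ : F.IsCentral Z) {Q' : Subgroup Ω'}
    (hQ' : E.IsCentral Q') {P : Subgroup Ω} {φ : P →* Ω} (hφ : φ ∈ F.Hom P) (x : P) {z : Ω}
    (hz : z ∈ preimageAlong θ Q') : ((x : Ω)⁻¹ * φ x) * z = z * ((x : Ω)⁻¹ * φ x) := by
  obtain ⟨R, ψ, hPR, hZR, hψ, hP, hZ₂⟩ := core F hE hZ hQ' hφ
  obtain ⟨hZS, hker, hrange, -⟩ := hE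
  have hRS : R ≤ S := (F.le_of_mem hψ).1
  have hφS : ∀ x : P, φ x ∈ S := (F.le_of_mem hφ).2
  obtain ⟨hzS, hzQ'⟩ := mem_preimageAlong.1 hz
  have hxS : (x : Ω) ∈ S := hRS (hPR x.2)
  set xR : R := Subgroup.inclusion hPR x with hxR
  set zR : R := Subgroup.inclusion hZR ⟨z, hz⟩ with hzR
  set a : Ω := φ x with ha
  set c : Ω := a⁻¹ * ψ xR with hc
  set c' : Ω := z⁻¹ * ψ zR with hc'
  have hcZ : c ∈ Z := hP x
  have hc'Z : c' ∈ Z := hZ₂ ⟨z, hz⟩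
  have haS : a ∈ S := hφS x
  -- commutation with central elements
  have comm : ∀ {g w : Ω}, g ∈ S → w ∈ Z → w * g = g * w := by
    intro g w hg hw
    have h := central_comm F hZ hg hw
    calc w * g = (g * w * g⁻¹) * g := by rw [h]
      _ = g * w := by group
  have e1 : ψ xR = a * c := by rw [hc]; group
  have e2 : ψ zR = z * c' := by rw [hc']; group
  -- the commutator lies in Z
  set k : R := xR * zR * xR⁻¹ * zR⁻¹ with hk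
  have hkval : (k : Ω) = (x : Ω) * z * (x : Ω)⁻¹ * z⁻¹ := rfl
  have hkZ : (k : Ω) ∈ Z := by
    apply (hker ⟨(k : Ω), hRS k.2⟩).1
    have e : (⟨(k : Ω), hRS k.2⟩ : S) = ⟨x, hxS⟩ * ⟨z, hzS⟩ * ⟨x, hxS⟩⁻¹ * ⟨z, hzS⟩⁻¹ :=
      Subtype.ext rfl
    rw [e, map_mul, map_mul, map_mul, map_inv, map_inv]
    have hθx : θ ⟨x, hxS⟩ ∈ S' := by rw [← hrange]; exact ⟨_, rfl⟩
    rw [central_comm E hQ' hθx hzQ']
    group
  have hψk : ψ k = (k : Ω) := central_fix F hZ hψ k hkZ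
  have hψk2 : ψ k = (a * c) * (z * c') * (a * c)⁻¹ * (z * c')⁻¹ := by
    rw [hk, map_mul, map_mul, map_mul, map_inv, map_inv, e1, e2]
  have h1 : (a * c) * (z * c') * (a * c)⁻¹ * (z * c')⁻¹ = a * z * a⁻¹ * z⁻¹ := by
    have hzc : c * z = z * c := comm hzS hcZ
    have hac' : c' * a⁻¹ = a⁻¹ * c' := comm (S.inv_mem haS) hc'Z
    have hcc' : c' * c⁻¹ = c⁻¹ * c' := comm (S.inv_mem (hZS hcZ)) hc'Z
    calc (a * c) * (z * c') * (a * c)⁻¹ * (z * c')⁻¹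
        = a * (c * z) * (c' * c⁻¹) * a⁻¹ * c'⁻¹ * z⁻¹ := by group
      _ = a * (z * c) * (c⁻¹ * c') * a⁻¹ * c'⁻¹ * z⁻¹ := by rw [hzc, hcc']
      _ = a * z * (c' * a⁻¹) * c'⁻¹ * z⁻¹ := by group
      _ = a * z * (a⁻¹ * c') * c'⁻¹ * z⁻¹ := by rw [hac']
      _ = a * z * a⁻¹ * z⁻¹ := by group
  have h2 : (x : Ω) * z * (x : Ω)⁻¹ * z⁻¹ = a * z * a⁻¹ * z⁻¹ := by
    rw [← hkval, ← hψk, hψk2, h1]
  have h3 : (x : Ω) * z * (x : Ω)⁻¹ = a * z * a⁻¹ := by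
    have := congrArg (· * z) h2
    simpa using this
  calc ((x : Ω)⁻¹ * a) * z = (x : Ω)⁻¹ * (a * z * a⁻¹) * a := by group
    _ = (x : Ω)⁻¹ * ((x : Ω) * z * (x : Ω)⁻¹) * a := by rw [h3]
    _ = z * ((x : Ω)⁻¹ * a) := by group

/-- A map of `F` moves an element of the preimage of a central subgroup of `F / Z(F)` only by an element
of the centre. -/
theorem mod_center (F : FusionSystem S) {Z : Subgroup Ω} {θ : S →* Ω'} {S' : Subgroup Ω'}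
    {E : FusionSystem S'} (hE : F.IsFactorSystem Z θ E) (hZ : F.IsCentral Z) {Q' : Subgroup Ω'}
    (hQ' : E.IsCentral Q') {P : Subgroup Ω} {φ : P →* Ω} (hφ : φ ∈ F.Hom P) (z : P)
    (hz : (z : Ω) ∈ preimageAlong θ Q') : (z : Ω)⁻¹ * φ z ∈ Z := by
  obtain ⟨R, ψ, hPR, hZR, hψ, hP, hZ₂⟩ := core F hE hZ hQ' hφ
  have h1 := hP z
  have h2 := hZ₂ ⟨z, hz⟩
  have e : Subgroup.inclusion hZR ⟨(z : Ω), hz⟩ = Subgroup.inclusion hPR z := Subtype.ext rfl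
  rw [e] at h2
  have : (z : Ω)⁻¹ * φ z = ((z : Ω)⁻¹ * ψ (Subgroup.inclusion hPR z)) *
      ((φ z)⁻¹ * ψ (Subgroup.inclusion hPR z))⁻¹ := by group
  rw [this]
  exact Z.mul_mem h2 (Z.inv_mem h1)

end Cfsg.Agent.Helper25.Grun
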