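import Mathlib
import Cfsg.Prelude.Def_FusionComponents
import Cfsg.Agent.Lib.Helper25.FusionSolv
import Cfsg.Agent.S5157

/-!
# Solvable fusion systems: normal subsystems and quotients
-/

set_option autoImplicit false
set_option linter.style.haveILetI false
set_option linter.unusedSectionVars false

namespace Cfsg.Agent.Helper25.Solv

open Cfsg Cfsg.FusionSystem Cfsg.Agent.Helper25
open scoped commutatorElement

variable {Ω : Type*} [Group Ω] {S : Subgroup Ω} {Ω' : Type*} [Group Ω'] {S' : Subgroup Ω'}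

/-- There is a chain of strongly closed subgroups from `A` up to `B` with abelian steps. -/
def HasChain (F : FusionSystem S) (A B : Subgroup Ω) : Prop :=
  ∃ (n : ℕ) (T : ℕ → Subgroup Ω), T 0 = A ∧ T n = B ∧ (∀ i, T i ≤ T (i + 1)) ∧
    (∀ i, F.StronglyClosed (T i)) ∧ ∀ i, ⁅T (i + 1), T (i + 1)⁆ ≤ T i

theorem HasChain.trans {F : FusionSystem S} {A B C : Subgroup Ω} (h₁ : HasChain F A B)
    (h₂ : HasChain F B C) : HasChain F A C := by
  obtain ⟨n, T, hT0, hTn, hTm, hTs, hTc⟩ := h₁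
  obtain ⟨m, U, hU0, hUm, hUm', hUs, hUc⟩ := h₂
  refine ⟨n + m, fun i => if i < n then T i else U (i - n), ?_, ?_, ?_, ?_, ?_⟩
  · show (if 0 < n then T 0 else U (0 - n)) = A
    by_cases h : 0 < n
    · rw [if_pos h]; exact hT0
    · have hn : n = 0 := by omega
      subst hn
      rw [if_neg h, Nat.sub_zero, hU0, ← hTn, hT0]
  · show (if n + m < n then T (n + m) else U (n + m - n)) = C
    rw [if_neg (by omega), Nat.add_sub_cancel_left, hUm]
  · intro i
    show (if i < n then T i else U (i - n)) ≤ (if i + 1 < n then T (i + 1) else U (i + 1 - n))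
    by_cases h1 : i + 1 < n
    · rw [if_pos h1, if_pos (show i < n by omega)]; exact hTm i
    · by_cases h2 : i < n
      · have h3 : i + 1 = n := by omega
        rw [if_pos h2, if_neg h1, h3, Nat.sub_self, hU0, ← hTn, ← h3]; exact hTm i
      · rw [if_neg h2, if_neg h1]
        have h3 : i + 1 - n = (i - n) + 1 := by omega
        rw [h3]; exact hUm' _
  · intro i
    show F.StronglyClosed (if i < n then T i else U (i - n))
    by_cases h : i < n
    · rw [if_pos h]; exact hTs i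
    · rw [if_neg h]; exact hUs _
  · intro i
    show ⁅(if i + 1 < n then T (i + 1) else U (i + 1 - n)),
      (if i + 1 < n then T (i + 1) else U (i + 1 - n))⁆ ≤ (if i < n then T i else U (i - n))
    by_cases h1 : i + 1 < n
    · rw [if_pos h1, if_pos (show i < n by omega)]; exact hTc i
    · by_cases h2 : i < n
      · have h3 : i + 1 = n := by omega
        rw [if_pos h2, if_neg h1, h3, Nat.sub_self, hU0, ← hTn, ← h3]; exact hTc i
      · rw [if_neg h2, if_neg h1]
        have h3 : i + 1 - n = (i - n) + 1 := by omega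
        rw [h3]; exact hUc _

theorem hasChain_of_solvable [Finite S] (p : ℕ) [Fact p.Prime] (hS : IsPGroup p S)
    {F : FusionSystem S} (hF : F.IsSaturated p) (hsolv : F.IsSolvableSystem) :
    HasChain F ⊥ S :=
  exists_chain_above p hS hF hsolv _ ⊥ (stronglyClosed_bot F) rfl

theorem solvable_of_hasChain [Finite S] (p : ℕ) [Fact p.Prime] (hS : IsPGroup p S)
    {F : FusionSystem S} (hF : F.IsSaturated p) (h : HasChain F ⊥ S) : F.IsSolvableSystem := by
  obtain ⟨n, T, hT0, hTn, hTm, hTs, hTc⟩ := h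
  rw [Cfsg.Agent.S5157.result p hS F hF]
  have hmono : Monotone T := monotone_nat_of_le_succ hTm
  refine ⟨n, fun i => T i.val, hT0, ?_, ?_, fun i => hTs _, fun i => ?_⟩
  · show T (Fin.last n).val = S
    rw [Fin.val_last]; exact hTn
  · intro a b hab
    exact hmono (Fin.le_def.mp hab)
  · show ⁅T (i.succ).val, T i.succ.val⁆ ≤ T (Fin.castSucc i).val
    rw [Fin.val_succ, Fin.val_castSucc]; exact hTc i.val

/-! ### Restriction to a subsystem -/

theorem hasChain_inf {F : FusionSystem S} {T : Subgroup Ω} {E : FusionSystem T}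
    (hsub : E.IsSubsystemOf F) (hTS : T ≤ S) (h : HasChain F ⊥ S) : HasChain E ⊥ T := by
  obtain ⟨n, U, hU0, hUn, hUm, hUs, hUc⟩ := h
  refine ⟨n, fun i => U i ⊓ T, ?_, ?_, fun i => inf_le_inf_right T (hUm i), fun i => ?_,
    fun i => ?_⟩
  · show U 0 ⊓ T = ⊥
    rw [hU0]; exact bot_inf_eq T
  · show U n ⊓ T = T
    rw [hUn]; exact inf_eq_right.mpr hTS
  · refine ⟨inf_le_right, fun P hP φ hφ x => ?_⟩
    refine Subgroup.mem_inf.mpr ⟨?_, (E.le_of_mem hφ).2 x⟩
    exact (hUs i).2 P (hP.trans inf_le_left) φ (hsub P hφ) x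
  · show ⁅U (i + 1) ⊓ T, U (i + 1) ⊓ T⁆ ≤ U i ⊓ T
    apply le_inf
    · exact (Subgroup.commutator_mono inf_le_left inf_le_left).trans (hUc i)
    · rw [Subgroup.commutator_le]
      intro a ha b hb
      rw [commutatorElement_def]
      have ha' := (Subgroup.mem_inf.mp ha).2
      have hb' := (Subgroup.mem_inf.mp hb).2
      exact T.mul_mem (T.mul_mem (T.mul_mem ha' hb') (T.inv_mem ha')) (T.inv_mem hb')

/-! ### Images and preimages along a factor system -/

theorem hasChain_image {F : FusionSystem S} {S₀ : Subgroup Ω} {θ : S →* Ω'}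
    {D : FusionSystem S'} (hD : F.IsFactorSystem S₀ θ D) (h : HasChain F ⊥ S) :
    HasChain D ⊥ S' := by
  obtain ⟨n, U, hU0, hUn, hUm, hUs, hUc⟩ := h
  refine ⟨n, fun i => imageAlong θ (U i), ?_, ?_, fun i => ?_, fun i =>
    stronglyClosed_imageAlong hD (hUs i), fun i => ?_⟩
  · show imageAlong θ (U 0) = ⊥
    rw [hU0, eq_bot_iff]
    intro y hy
    obtain ⟨s, hs, rfl⟩ := mem_imageAlong.mp hy
    rw [Subgroup.mem_bot] at hs ⊢
    have : s = 1 := Subtype.ext hs
    rw [this, map_one]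
  · show imageAlong θ (U n) = S'
    rw [hUn, ← hD.2.2.1]
    ext y
    rw [mem_imageAlong]
    constructor
    · rintro ⟨s, -, rfl⟩; exact ⟨s, rfl⟩
    · rintro ⟨s, rfl⟩; exact ⟨s, s.2, rfl⟩
  · intro y hy
    obtain ⟨s, hs, rfl⟩ := mem_imageAlong.mp hy
    exact mem_imageAlong.mpr ⟨s, hUm i hs, rfl⟩
  · show ⁅imageAlong θ (U (i + 1)), imageAlong θ (U (i + 1))⁆ ≤ imageAlong θ (U i)
    rw [Subgroup.commutator_le]
    intro a ha b hb
    obtain ⟨s, hs, rfl⟩ := mem_imageAlong.mp ha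
    obtain ⟨t, ht, rfl⟩ := mem_imageAlong.mp hb
    rw [← map_commutatorElement]
    refine mem_imageAlong.mpr ⟨⁅s, t⁆, ?_, rfl⟩
    apply hUc i
    exact Subgroup.commutator_mem_commutator hs ht

theorem hasChain_preimage [Finite S] (p : ℕ) [Fact p.Prime] (hS : IsPGroup p S)
    {F : FusionSystem S} (hF : F.IsSaturated p) {S₀ : Subgroup Ω} (hS₀ : F.StronglyClosed S₀)
    {θ : S →* Ω'} {D : FusionSystem S'} (hD : F.IsFactorSystem S₀ θ D)
    (h : HasChain D ⊥ S') : HasChain F S₀ S := by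
  obtain ⟨n, U, hU0, hUn, hUm, hUs, hUc⟩ := h
  refine ⟨n, fun i => preimageAlong θ (U i), ?_, ?_, fun i => ?_, fun i =>
    stronglyClosed_preimageAlong p hS hF hS₀ hD (hUs i), fun i => ?_⟩
  · show preimageAlong θ (U 0) = S₀
    rw [hU0]
    ext x
    rw [mem_preimageAlong]
    constructor
    · rintro ⟨hx, h1⟩
      rw [Subgroup.mem_bot] at h1
      exact (hD.2.1 ⟨x, hx⟩).mp h1
    · intro hx
      refine ⟨hD.1 hx, ?_⟩
      rw [Subgroup.mem_bot]
      exact (hD.2.1 ⟨x, hD.1 hx⟩).mpr hx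
  · show preimageAlong θ (U n) = S
    rw [hUn]
    apply le_antisymm (preimageAlong_le θ S')
    intro x hx
    refine mem_preimageAlong.mpr ⟨hx, ?_⟩
    rw [← hD.2.2.1]
    exact ⟨_, rfl⟩
  · intro x hx
    obtain ⟨hxS, hx'⟩ := mem_preimageAlong.mp hx
    exact mem_preimageAlong.mpr ⟨hxS, hUm i hx'⟩
  · show ⁅preimageAlong θ (U (i + 1)), preimageAlong θ (U (i + 1))⁆ ≤ preimageAlong θ (U i)
    rw [Subgroup.commutator_le]
    intro a ha b hb
    obtain ⟨haS, ha'⟩ := mem_preimageAlong.mp ha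
    obtain ⟨hbS, hb'⟩ := mem_preimageAlong.mp hb
    have habS : ⁅a, b⁆ ∈ S := by
      rw [commutatorElement_def]
      exact S.mul_mem (S.mul_mem (S.mul_mem haS hbS) (S.inv_mem haS)) (S.inv_mem hbS)
    refine mem_preimageAlong.mpr ⟨habS, ?_⟩
    have e : (⟨⁅a, b⁆, habS⟩ : S) = ⁅(⟨a, haS⟩ : S), ⟨b, hbS⟩⁆ := Subtype.ext rfl
    rw [e, map_commutatorElement]
    apply hUc i
    exact Subgroup.commutator_mem_commutator ha' hb'

/-! ### The `Aut_F(T)`-core of a subgroup of `T` -/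

/-- The image `α(R ∩ T)` of `R` under an automorphism of `T`. -/
def autImage {T : Subgroup Ω} (α : MulAut T) (R : Subgroup Ω) : Subgroup Ω :=
  (R.subgroupOf T).map (T.subtype.comp α.toMonoidHom)

theorem mem_autImage {T : Subgroup Ω} {α : MulAut T} {R : Subgroup Ω} {y : Ω} :
    y ∈ autImage α R ↔ ∃ t : T, (t : Ω) ∈ R ∧ ((α t : T) : Ω) = y := by
  unfold autImage
  rw [Subgroup.mem_map]
  constructor
  · rintro ⟨t, ht, rfl⟩
    exact ⟨t, Subgroup.mem_subgroupOf.mp ht, rfl⟩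
  · rintro ⟨t, ht, rfl⟩
    exact ⟨t, Subgroup.mem_subgroupOf.mpr ht, rfl⟩

theorem autImage_le {T : Subgroup Ω} (α : MulAut T) (R : Subgroup Ω) : autImage α R ≤ T := by
  intro y hy
  obtain ⟨t, -, rfl⟩ := mem_autImage.mp hy
  exact (α t).2

/-- The intersection of the `Aut_F(T)`-translates of `R`. -/
def autCore (F : FusionSystem S) (T R : Subgroup Ω) : Subgroup Ω :=
  ⨅ α ∈ F.autGroup T, autImage α R

theorem mem_autCore {F : FusionSystem S} {T R : Subgroup Ω} {y : Ω} :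
    y ∈ autCore F T R ↔ ∀ α ∈ F.autGroup T, y ∈ autImage α R := by
  unfold autCore
  simp only [Subgroup.mem_iInf]

theorem autCore_le_inf (F : FusionSystem S) (T R : Subgroup Ω) : autCore F T R ≤ R ⊓ T := by
  intro y hy
  have h1 := mem_autCore.mp hy 1 (Subgroup.one_mem _)
  obtain ⟨t, ht, rfl⟩ := mem_autImage.mp h1
  exact Subgroup.mem_inf.mpr ⟨ht, t.2⟩

theorem autCore_self (F : FusionSystem S) (T : Subgroup Ω) : autCore F T T = T := by
  apply le_antisymm ((autCore_le_inf F T T).trans inf_le_left)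
  intro y hy
  rw [mem_autCore]
  intro α _
  refine mem_autImage.mpr ⟨α⁻¹ ⟨y, hy⟩, (α⁻¹ ⟨y, hy⟩).2, ?_⟩
  rw [MulAut.apply_inv_self]

theorem autCore_bot (F : FusionSystem S) (T : Subgroup Ω) : autCore F T ⊥ = ⊥ :=
  eq_bot_iff.mpr ((autCore_le_inf F T ⊥).trans inf_le_left)

theorem autCore_mono (F : FusionSystem S) (T : Subgroup Ω) {R R' : Subgroup Ω} (h : R ≤ R') :
    autCore F T R ≤ autCore F T R' := by
  intro y hy
  rw [mem_autCore] at hy ⊢
  intro α hα
  obtain ⟨t, ht, rfl⟩ := mem_autImage.mp (hy α hα)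
  exact mem_autImage.mpr ⟨t, h ht, rfl⟩

theorem autCore_invariant {F : FusionSystem S} {T R : Subgroup Ω} {β : MulAut T}
    (hβ : β ∈ F.autGroup T) (t : T) (ht : (t : Ω) ∈ autCore F T R) :
    ((β t : T) : Ω) ∈ autCore F T R := by
  rw [mem_autCore] at ht ⊢
  intro α hα
  have h1 := ht (β⁻¹ * α) (Subgroup.mul_mem _ (Subgroup.inv_mem _ hβ) hα)
  obtain ⟨r, hr, hrt⟩ := mem_autImage.mp h1
  refine mem_autImage.mpr ⟨r, hr, ?_⟩
  have h2 : (β⁻¹ * α) r = t := Subtype.ext hrt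
  rw [MulAut.mul_apply] at h2
  have h3 : α r = β t := by
    rw [← h2, MulAut.apply_inv_self]
  rw [h3]

theorem commutator_autCore_le (F : FusionSystem S) (T : Subgroup Ω) {R₁ R₀ : Subgroup Ω}
    (h : ⁅R₁, R₁⁆ ≤ R₀) : ⁅autCore F T R₁, autCore F T R₁⁆ ≤ autCore F T R₀ := by
  rw [Subgroup.commutator_le]
  intro a ha b hb
  rw [mem_autCore] at ha hb ⊢
  intro α hα
  obtain ⟨s, hs, rfl⟩ := mem_autImage.mp (ha α hα)
  obtain ⟨t, ht, rfl⟩ := mem_autImage.mp (hb α hα)
  refine mem_autImage.mpr ⟨⁅s, t⁆, ?_, ?_⟩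
  · apply h
    exact Subgroup.commutator_mem_commutator hs ht
  · rw [map_commutatorElement]; rfl

variable {F : FusionSystem S} {T : Subgroup Ω} {E : FusionSystem T}

/-- Translates of strongly closed subgroups of an invariant subsystem are strongly closed. -/
theorem stronglyClosed_autImage (hinv : E.IsInvariantIn F) {R : Subgroup Ω}
    (hR : E.StronglyClosed R) {α : MulAut T} (hα : α ∈ F.autGroup T) :
    E.StronglyClosed (autImage α R) := by
  obtain ⟨hsub, hTsc, hconj, hfrat⟩ := hinv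
  refine ⟨autImage_le α R, fun P hP φ hφ x => ?_⟩
  have hPT : P ≤ T := hP.trans (autImage_le α R)
  have hαinv : α⁻¹ ∈ F.autGroup T := Subgroup.inv_mem _ hα
  obtain ⟨χ, hχ, hχx⟩ := hconj P hPT φ hφ α⁻¹ hαinv
  have hP'R : (P.subgroupOf T).map (T.subtype.comp (α⁻¹).toMonoidHom) ≤ R := by
    rintro _ ⟨t, ht, rfl⟩
    have htP : (t : Ω) ∈ P := Subgroup.mem_subgroupOf.mp ht
    obtain ⟨r, hr, hrt⟩ := mem_autImage.mp (hP htP)
    have h2 : α r = t := Subtype.ext hrt
    show ((α⁻¹ t : T) : Ω) ∈ R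
    rw [← h2, MulAut.inv_apply_self]
    exact hr
  have hφxT : φ x ∈ T := (E.le_of_mem hφ).2 x
  have hmem : ((α⁻¹ ⟨x, hPT x.2⟩ : T) : Ω) ∈
      (P.subgroupOf T).map (T.subtype.comp (α⁻¹).toMonoidHom) :=
    ⟨⟨x, hPT x.2⟩, Subgroup.mem_subgroupOf.mpr x.2, rfl⟩
  have h1 := hχx x hφxT hmem
  have h2 := hR.2 _ hP'R χ hχ ⟨_, hmem⟩
  rw [h1] at h2
  refine mem_autImage.mpr ⟨α⁻¹ ⟨φ x, hφxT⟩, h2, ?_⟩
  rw [MulAut.apply_inv_self]

theorem stronglyClosed_autCore_sub (hinv : E.IsInvariantIn F) {R : Subgroup Ω}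
    (hR : E.StronglyClosed R) : E.StronglyClosed (autCore F T R) := by
  refine ⟨(autCore_le_inf F T R).trans inf_le_right, fun P hP φ hφ x => ?_⟩
  rw [mem_autCore]
  intro α hα
  have hsc := stronglyClosed_autImage hinv hR hα
  have hP' : P ≤ autImage α R := fun y hy => mem_autCore.mp (hP hy) α hα
  exact hsc.2 P hP' φ hφ x

/-- The core of a strongly closed subgroup of an invariant subsystem is strongly closed in `F`. -/
theorem stronglyClosed_autCore (hinv : E.IsInvariantIn F) {R : Subgroup Ω}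
    (hR : E.StronglyClosed R) : F.StronglyClosed (autCore F T R) := by
  have hE := stronglyClosed_autCore_sub hinv hR
  obtain ⟨hsub, hTsc, hconj, hfrat⟩ := hinv
  refine ⟨hE.1.trans hTsc.1, fun P hP φ hφ x => ?_⟩
  have hPT : P ≤ T := hP.trans hE.1
  obtain ⟨α, hα, φ₀, hφ₀, h⟩ := hfrat P hPT φ hφ
  have hφ₀T : φ₀ x ∈ T := (E.le_of_mem hφ₀).2 x
  rw [h x hφ₀T]
  exact autCore_invariant hα _ (hE.2 P hP φ₀ hφ₀ x)

theorem hasChain_autCore (hinv : E.IsInvariantIn F) (h : HasChain E ⊥ T) : HasChain F ⊥ T := by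
  obtain ⟨n, U, hU0, hUn, hUm, hUs, hUc⟩ := h
  refine ⟨n, fun i => autCore F T (U i), ?_, ?_, fun i => autCore_mono F T (hUm i), fun i =>
    stronglyClosed_autCore hinv (hUs i), fun i => commutator_autCore_le F T (hUc i)⟩
  · show autCore F T (U 0) = ⊥
    rw [hU0]; exact autCore_bot F T
  · show autCore F T (U n) = T
    rw [hUn]; exact autCore_self F T

end Cfsg.Agent.Helper25.Solv
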