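import Mathlib
import Cfsg.Agent.Lib.Helper21.N9KDefs

/-!
# S3702 GROUP piece KNCONJ (helper25 for helper21): the nine representatives are pairwise non-conjugate in `K0`

Conjugation invariants: the sets `{n : x ^ n = 1}` (for `n = 3, 6, 9`) and the size of the support of the
underlying permutation.  They separate all pairs except `(5, 6)` and `(7, 8)`; for these two pairs a brute-force
`decide +kernel` over the 648 possible conjugators.
-/

set_option autoImplicit false

namespace Cfsg.Agent.Helper21.N9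

open Cfsg Cfsg.Agent.Helper16

theorem knconj_pow {x y : ↥K0} (h : IsConj x y) (n : ℕ) : x ^ n = 1 ↔ y ^ n = 1 := by
  obtain ⟨c, hc⟩ := isConj_iff.mp h
  rw [← hc, conj_pow]
  constructor
  · intro hx; rw [hx, mul_one, mul_inv_cancel]
  · intro hy
    have : x ^ n = c⁻¹ * (c * x ^ n * c⁻¹) * c := by group
    rw [this, hy, mul_one, inv_mul_cancel]

theorem knconj_support {x y : ↥K0} (h : IsConj x y) :
    (x : Equiv.Perm (Fin 9)).support.card = (y : Equiv.Perm (Fin 9)).support.card := by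
  obtain ⟨c, hc⟩ := isConj_iff.mp h
  rw [← hc]
  simp only [Subgroup.coe_mul, Subgroup.coe_inv]
  rw [Equiv.Perm.card_support_conj]

/-- the table: pairs that are not separated by the invariants are not conjugate (brute force) -/
theorem knconj_aux : ∀ a b : Fin 9, (a < b ∧
    ((CK.z a) ^ 3 = 1 ↔ (CK.z b) ^ 3 = 1) ∧ ((CK.z a) ^ 6 = 1 ↔ (CK.z b) ^ 6 = 1) ∧
    ((CK.z a) ^ 9 = 1 ↔ (CK.z b) ^ 9 = 1) ∧
    ((CK.z a : Equiv.Perm (Fin 9)).support.card = (CK.z b : Equiv.Perm (Fin 9)).support.card)) →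
    ∀ q : Idx, Wk q * CK.z a ≠ CK.z b * Wk q := by
  decide +kernel

theorem knconj_lt (a b : Fin 9) (hlt : a < b) : ¬ IsConj (CK.z a) (CK.z b) := by
  intro h
  obtain ⟨c, hc⟩ := isConj_iff.mp h
  obtain ⟨q, rfl⟩ := Wk_surjective c
  refine knconj_aux a b ⟨hlt, knconj_pow h 3, knconj_pow h 6, knconj_pow h 9, knconj_support h⟩ q ?_
  rw [← hc, inv_mul_cancel_right]

/-- PIECE S3702-GR-KNCONJ -/
theorem nconj_K0 : ∀ a b : Fin 9, IsConj (CK.z a) (CK.z b) → a = b := by
  intro a b h
  by_contra hab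
  rcases lt_or_gt_of_ne hab with hlt | hgt
  · exact knconj_lt a b hlt h
  · exact knconj_lt b a hgt h.symm

end Cfsg.Agent.Helper21.N9
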