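import Mathlib
import Cfsg.Prelude.Def_Classical
import Cfsg.Agent.Lib.Helper15.S74Defs
import Cfsg.Agent.Lib.Helper21.S74ODefs
import Cfsg.Agent.Lib.Helper13.OrthEmbed
import Cfsg.Agent.Lib.Helper17.OmegaAll
import Cfsg.Agent.Lib.Helper2.OrthPOmega

/-!
# S2474 T3 piece S74O-CENTER (helper25): `Z(Ω) = 1` in odd dimension, so the order of an element of
`PΩ` equals the order of its preimage in `Ω`.
-/

set_option autoImplicit false

namespace Cfsg.Agent.Helper15.S74

open QuadraticMap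

universe u v w

section pieces

variable {F : Type u} [Field F]

open Cfsg.Agent.Helper2.Orth Cfsg.Agent.Helper13 in
theorem s74o_center_eq_bot [Fintype F] (h2 : (2 : F) ≠ 0) (k : ℕ) :
    Subgroup.center (Cfsg.Omega F (Cfsg.quadFormOdd (k + 2) F)) = ⊥ := by
  classical
  rw [quadFormOdd_eq]
  have hno : ¬ ∃ g : Cfsg.isometryGroup F (⇑(matQ (oddMat (k + 2) F))),
      g ∈ Cfsg.Omega F (⇑(matQ (oddMat (k + 2) F))) ∧ g.1.1 = -1 := by
    rintro ⟨g, hg, hg1⟩
    have hs := Cfsg.Agent.Helper17.Spinor.Omega_le_special _ hg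
    have hdet : Matrix.GeneralLinearGroup.det g.1 = 1 := hs
    have hdet' : (g.1.1).det = 1 := by
      have := congrArg Units.val hdet
      simpa using this
    rw [hg1, Matrix.det_neg, Matrix.det_one, mul_one] at hdet'
    simp only [Fintype.card_sum, Fintype.card_fin, Fintype.card_unit] at hdet'
    have : (-1 : F) ^ (1 + (k + 2 + (k + 2))) = -1 := by
      rw [pow_add, pow_one, ← two_mul, pow_mul]
      simp
    rw [this] at hdet'
    apply h2
    linear_combination -hdet'
  have hQ := nondeg_odd (F := F) (k + 2) h2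
  have hS := fun (u v : Unit ⊕ (Fin (k + 2) ⊕ Fin (k + 2)) → F)
      (hu : matQ (oddMat (k + 2) F) u = 0) (hv : matQ (oddMat (k + 2) F) v = 0)
      (huv : polar (matQ (oddMat (k + 2) F)) u v = 0) (c : F) =>
    siegG_mem_Omega_odd (matQ (oddMat (k + 2) F)) h2 hQ hu hv huv c
  have hcard := card_center_Omega_eq_one hQ (twoHyp_odd k) hS (Or.inr hno)
  exact Subgroup.card_eq_one.1 hcard

/-- PIECE S74O-CENTER. -/
theorem orderOf_mk_POmega_odd [Fintype F] (h2 : (2 : F) ≠ 0) (n : ℕ) (hn : 2 ≤ n)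
    (ω : ↥(Cfsg.Omega F (Cfsg.quadFormOdd n F))) :
    orderOf (QuotientGroup.mk ω : Cfsg.POmega F (Cfsg.quadFormOdd n F)) = orderOf ω := by
  obtain ⟨k, rfl⟩ : ∃ k, n = k + 2 := ⟨n - 2, by omega⟩
  have hbot := s74o_center_eq_bot (F := F) h2 k
  have hinj : Function.Injective
      (QuotientGroup.mk' (Subgroup.center (Cfsg.Omega F (Cfsg.quadFormOdd (k + 2) F)))) := by
    rw [← MonoidHom.ker_eq_bot_iff, QuotientGroup.ker_mk', hbot]
  exact orderOf_injective _ hinj ω

end pieces

end Cfsg.Agent.Helper15.S74
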