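import Mathlib
import Cfsg.Agent.Lib.Helper8.TIG5Defs

/-!
# S1786 G5 piece TI-G5-3B (helper25): `P ∩ PA ≤ A`.
-/

set_option autoImplicit false

namespace Cfsg.Agent.Helper26.TI

variable {G : Type*} [Group G] {V A P PA U : Subgroup G}

/-- TI-G5-3B.  `P ∩ PA ≤ A`. -/
theorem g5_P_inf_PA (h : G5Data V A P PA U) (hVPA : ∀ x, x ∈ V → x ∈ PA → x = 1)
    (hcD : ∀ x ∈ g5D A P, (∀ d ∈ g5D A P, x * d = d * x) → ∃ v ∈ V, ∃ a ∈ A, x = v * a) :
    ∀ x, x ∈ P → x ∈ PA → x ∈ A := by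
  intro x hxP hxPA
  have hxD : x ∈ g5D A P := mem_g5D.2 ⟨hxP, fun a ha => h.A_central a ha x hxPA⟩
  have hcomm : ∀ d ∈ g5D A P, x * d = d * x := by
    intro d hd
    obtain ⟨hdP, hdA⟩ := mem_g5D.1 hd
    have h1 : cm x d ∈ V := h.comm_P x hxP d hdP
    have h2 : cm x d ∈ PA := by
      have h3 : d * x⁻¹ * d⁻¹ ∈ PA :=
        h.norm_PA d (fun a ha => (hdA a ha).symm) x⁻¹ (PA.inv_mem hxPA)
      have h4 : cm x d = x * (d * x⁻¹ * d⁻¹) := by unfold cm; group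
      rw [h4]
      exact PA.mul_mem hxPA h3
    have h5 : x * d * x⁻¹ * d⁻¹ = 1 := hVPA _ h1 h2
    calc x * d = (x * d * x⁻¹ * d⁻¹) * (d * x) := by group
      _ = d * x := by rw [h5, one_mul]
  obtain ⟨v, hv, a, ha, hxva⟩ := hcD x hxD hcomm
  have hvPA : v ∈ PA := by
    have : v = x * a⁻¹ := by rw [hxva]; group
    rw [this]
    exact PA.mul_mem hxPA (PA.inv_mem (h.A_le_PA ha))
  have hv1 : v = 1 := hVPA v hv hvPA
  rw [hxva, hv1, one_mul]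
  exact ha

end Cfsg.Agent.Helper26.TI
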