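import Mathlib
import Cfsg.Agent.Lib.Helper23.S63Defs

/-!
# S2863 piece S63-PROD, core: `A = (Y ⊓ A)(Y^g ⊓ A)` given `Y ⊔ Y^g = L`
-/

set_option autoImplicit false
set_option linter.unusedVariables false

namespace Cfsg.Agent.Helper23.S63

open Cfsg
open scoped Pointwise

theorem s63_prod_mem_conj_smul {T : Type*} [Group T] (g x : T) (H : Subgroup T) :
    x ∈ MulAut.conj g • H ↔ g⁻¹ * x * g ∈ H := by
  rw [Subgroup.mem_pointwise_smul_iff_inv_smul_mem]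
  simp [MulAut.smul_def, MulAut.conj_inv_apply]

/-- the product set `Z * Z'` as a subgroup, when `Z'` normalizes `Z` -/
def s63_prod_W {G : Type*} [Group G] (Z Z' : Subgroup G)
    (hn : ∀ b ∈ Z', ∀ z ∈ Z, b * z * b⁻¹ ∈ Z) : Subgroup G where
  carrier := {w | ∃ z ∈ Z, ∃ z' ∈ Z', w = z * z'}
  one_mem' := ⟨1, Z.one_mem, 1, Z'.one_mem, by group⟩
  mul_mem' := by
    rintro _ _ ⟨z₁, hz₁, b₁, hb₁, rfl⟩ ⟨z₂, hz₂, b₂, hb₂, rfl⟩
    refine ⟨z₁ * (b₁ * z₂ * b₁⁻¹), Z.mul_mem hz₁ (hn b₁ hb₁ z₂ hz₂), b₁ * b₂,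
      Z'.mul_mem hb₁ hb₂, ?_⟩
    group
  inv_mem' := by
    rintro _ ⟨z, hz, b, hb, rfl⟩
    refine ⟨b⁻¹ * z⁻¹ * b⁻¹⁻¹, hn b⁻¹ (Z'.inv_mem hb) z⁻¹ (Z.inv_mem hz), b⁻¹, Z'.inv_mem hb, ?_⟩
    group

theorem s63_prod_mem_W {G : Type*} [Group G] (Z Z' : Subgroup G)
    (hn : ∀ b ∈ Z', ∀ z ∈ Z, b * z * b⁻¹ ∈ Z) (w : G) :
    w ∈ s63_prod_W Z Z' hn ↔ ∃ z ∈ Z, ∃ z' ∈ Z', w = z * z' := Iff.rfl

/-- core of S63-PROD -/
theorem s63_prod_core {G : Type*} [Group G] {L Y A : Subgroup G} (h : Ctx L Y A)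
    (g : G) (hg : g ∈ L) (hgen : Y ⊔ (MulAut.conj g • Y : Subgroup G) = L) :
    ∀ a ∈ A, ∃ z ∈ Y ⊓ A, ∃ z' ∈ (MulAut.conj g • Y : Subgroup G) ⊓ A, a = z * z' := by
  set Y' : Subgroup G := MulAut.conj g • Y with hY'
  have hginv : g⁻¹ ∈ L := L.inv_mem hg
  -- basic facts on `Y'`
  have hY'L : Y' ≤ L := by
    intro x hx
    rw [hY', s63_prod_mem_conj_smul] at hx
    have : x = g * (g⁻¹ * x * g) * g⁻¹ := by group
    rw [this]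
    exact L.mul_mem (L.mul_mem hg (h.YL hx)) hginv
  have hY'comm : ∀ u ∈ Y', ∀ v ∈ Y', u * v = v * u := by
    intro u hu v hv
    rw [hY', s63_prod_mem_conj_smul] at hu hv
    have := h.Ycomm _ hu _ hv
    have e1 : u * v = g * ((g⁻¹ * u * g) * (g⁻¹ * v * g)) * g⁻¹ := by group
    have e2 : v * u = g * ((g⁻¹ * v * g) * (g⁻¹ * u * g)) * g⁻¹ := by group
    rw [e1, e2, this]
  have hAY' : ∀ a ∈ A, ∀ u ∈ Y', a * u * a⁻¹ ∈ Y' := by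
    intro a ha u hu
    rw [hY', s63_prod_mem_conj_smul] at hu ⊢
    have ha' : g⁻¹ * a * g⁻¹⁻¹ ∈ A := h.Anorm g⁻¹ hginv a ha
    have := h.AY _ ha' _ hu
    have e : g⁻¹ * (a * u * a⁻¹) * g = (g⁻¹ * a * g⁻¹⁻¹) * (g⁻¹ * u * g) * (g⁻¹ * a * g⁻¹⁻¹)⁻¹ := by
      group
    rw [e]; exact this
  -- `Z' = Y' ⊓ A` normalizes `Z = Y ⊓ A`
  have hn : ∀ b ∈ Y' ⊓ A, ∀ z ∈ Y ⊓ A, b * z * b⁻¹ ∈ Y ⊓ A := by
    intro b hb z hz
    exact ⟨h.AY b hb.2 z hz.1, A.mul_mem (A.mul_mem hb.2 hz.2) (A.inv_mem hb.2)⟩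
  set W : Subgroup G := s63_prod_W (Y ⊓ A) (Y' ⊓ A) hn with hW
  have hZW : Y ⊓ A ≤ W := by
    intro z hz
    exact ⟨z, hz, 1, Subgroup.one_mem _, by group⟩
  have hZ'W : Y' ⊓ A ≤ W := by
    intro z hz
    exact ⟨1, Subgroup.one_mem _, z, hz, by group⟩
  -- `Y` normalizes `W`
  have hYW : ∀ y ∈ Y, ∀ w ∈ W, y * w * y⁻¹ ∈ W := by
    rintro y hy _ ⟨z, hz, b, hb, rfl⟩
    have hyL : y ∈ L := h.YL hy
    have h1 : y * z * y⁻¹ = z := by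
      rw [h.Ycomm y hy z hz.1]; group
    have h2 : y * b * y⁻¹ * b⁻¹ ∈ Y ⊓ A := by
      constructor
      · have : y * b * y⁻¹ * b⁻¹ = y * (b * y⁻¹ * b⁻¹) := by group
        rw [this]
        exact Y.mul_mem hy (h.AY b hb.2 y⁻¹ (Y.inv_mem hy))
      · exact A.mul_mem (h.Anorm y hyL b hb.2) (A.inv_mem hb.2)
    have e : y * (z * b) * y⁻¹ = (y * z * y⁻¹) * ((y * b * y⁻¹ * b⁻¹) * b) := by group
    rw [e, h1]
    exact W.mul_mem (hZW hz) (W.mul_mem (hZW h2) (hZ'W hb))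
  -- `Y'` normalizes `W`
  have hY'W : ∀ y ∈ Y', ∀ w ∈ W, y * w * y⁻¹ ∈ W := by
    rintro y hy _ ⟨z, hz, b, hb, rfl⟩
    have hyL : y ∈ L := hY'L hy
    have h1 : y * b * y⁻¹ = b := by
      rw [hY'comm y hy b hb.1]; group
    have h2 : y * z * y⁻¹ * z⁻¹ ∈ Y' ⊓ A := by
      constructor
      · have : y * z * y⁻¹ * z⁻¹ = y * (z * y⁻¹ * z⁻¹) := by group
        rw [this]
        exact Y'.mul_mem hy (hAY' z hz.2 y⁻¹ (Y'.inv_mem hy))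
      · exact A.mul_mem (h.Anorm y hyL z hz.2) (A.inv_mem hz.2)
    have e : y * (z * b) * y⁻¹ = ((y * z * y⁻¹ * z⁻¹) * z) * (y * b * y⁻¹) := by group
    rw [e, h1]
    exact W.mul_mem (W.mul_mem (hZ'W h2) (hZW hz)) (hZ'W hb)
  -- hence `L` normalizes `W`
  have hnorm_of : ∀ (X : Subgroup G), (∀ y ∈ X, ∀ w ∈ W, y * w * y⁻¹ ∈ W) →
      X ≤ Subgroup.normalizer (W : Set G) := by
    intro X hX y hy
    rw [Subgroup.mem_normalizer_iff]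
    intro w
    constructor
    · exact hX y hy w
    · intro hw
      have := hX y⁻¹ (X.inv_mem hy) _ hw
      have e : y⁻¹ * (y * w * y⁻¹) * y⁻¹⁻¹ = w := by group
      rwa [e] at this
  have hLW : L ≤ Subgroup.normalizer (W : Set G) := by
    rw [← hgen]
    exact sup_le (hnorm_of Y hYW) (hnorm_of Y' hY'W)
  have hAW : A ≤ W := by
    apply h.Agen W hZW
    intro l hl w hw
    exact (Subgroup.mem_normalizer_iff.1 (hLW hl) w).1 hw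
  intro a ha
  exact hAW ha

end Cfsg.Agent.Helper23.S63
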