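import Mathlib
import Cfsg.Agent.Lib.Helper23.S63Defs
import Cfsg.Agent.Lib.Helper25.S63PRODCore
import Cfsg.Agent.Lib.Helper27.S63GEN

/-!
# S2863 piece S63-PROD: `prod_eq`
-/

set_option autoImplicit false
set_option linter.unusedVariables false

namespace Cfsg.Agent.Helper23.S63

open Cfsg
open scoped Pointwise

/-- PIECE S63-PROD -/
theorem prod_eq {G : Type*} [Group G] [Finite G] {L Y A : Subgroup G} (h : Ctx L Y A)
    (g : G) (hg : g ∈ L) (hgN : g ∉ Subgroup.normalizer (Y : Set G)) :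
    ∀ a ∈ A, ∃ z ∈ Y ⊓ A, ∃ z' ∈ (MulAut.conj g • Y : Subgroup G) ⊓ A, a = z * z' :=
  s63_prod_core h g hg (gen_of_not_mem h g hg hgN)

end Cfsg.Agent.Helper23.S63
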