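import Mathlib
import Cfsg.Agent.Lib.Helper22.SchPLDefs

/-!
# S4394, piece B4: the two facts for a Schmidt action on a group of order `p ^ 3`
-/

set_option autoImplicit false
set_option linter.unusedSectionVars false
set_option linter.style.haveILetI false
set_option linter.deprecated false

namespace Cfsg.Agent.Helper22.SchPL

section b4
variable {p q : ℕ} [Fact p.Prime] {P : Type*} [Group P] [Finite P] {α : MulAut P}

/-- The centre is fixed pointwise when it is proper. -/
theorem b4_fix_center (h : SchAct p q P α) (hZtop : Subgroup.center P ≠ ⊤) :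
    ∀ z ∈ Subgroup.center P, α z = z := by
  apply h.fix _ hZtop
  intro z hz
  rw [Subgroup.mem_center_iff] at hz ⊢
  intro g
  have := congrArg α (hz (α.symm g))
  simpa using this

/-- Fixed elements are central. -/
theorem b4_fixed_mem_center (h : SchAct p q P α) (hZtop : Subgroup.center P ≠ ⊤)
    (hB1 : ∀ (A : Subgroup P) [A.Normal], A ≠ ⊤ → (∀ a ∈ A, α a ∈ A) → A ≤ Subgroup.center P)
    (hcomm : ∀ a b : P, a * b * a⁻¹ * b⁻¹ ∈ Subgroup.center P) :
    ∀ v : P, α v = v → v ∈ Subgroup.center P := by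
  have hfixZ := b4_fix_center h hZtop
  let C : Subgroup P :=
    { carrier := {v | α v = v}
      mul_mem' := by
        intro a b ha hb
        simp only [Set.mem_setOf_eq] at ha hb ⊢
        rw [map_mul, ha, hb]
      one_mem' := by simp
      inv_mem' := by
        intro a ha
        simp only [Set.mem_setOf_eq] at ha ⊢
        rw [map_inv, ha] }
  have hmemC : ∀ v : P, v ∈ C ↔ α v = v := fun v => Iff.rfl
  haveI : C.Normal := by
    refine ⟨fun c hc g => ?_⟩
    have h1 : g * c * g⁻¹ = (g * c * g⁻¹ * c⁻¹) * c := by group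
    rw [h1]
    exact C.mul_mem ((hmemC _).2 (hfixZ _ (hcomm g c))) hc
  have hCtop : C ≠ ⊤ := by
    intro hC
    apply h.ne_one
    ext v
    have : v ∈ C := by rw [hC]; trivial
    simpa using (hmemC v).1 this
  have hCZ := hB1 C hCtop (fun a ha => by
    rw [hmemC] at ha ⊢
    rw [ha, ha])
  intro v hv
  exact hCZ ((hmemC v).2 hv)

/-- The centre of a nonabelian group of order `p ^ 3` has order `p`. -/
theorem b4_card_center (hP : IsPGroup p P) (hnab : ∃ a b : P, a * b ≠ b * a)
    (hcard : Nat.card P = p ^ 3) : Nat.card (Subgroup.center P) = p := by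
  have hp : p.Prime := Fact.out
  have hdvd : Nat.card (Subgroup.center P) ∣ p ^ 3 := by
    rw [← hcard]; exact Subgroup.card_subgroup_dvd_card _
  obtain ⟨k, hk3, hk⟩ := (Nat.dvd_prime_pow hp).1 hdvd
  haveI : Nontrivial P := by
    obtain ⟨a, b, hab⟩ := hnab
    exact ⟨⟨a * b, b * a, hab⟩⟩
  have hnt : Nontrivial (Subgroup.center P) := hP.center_nontrivial
  have h1 : 1 < Nat.card (Subgroup.center P) := Finite.one_lt_card_iff_nontrivial.2 hnt
  have hidx : (Subgroup.center P).index * Nat.card (Subgroup.center P) = p ^ 3 := by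
    rw [← hcard, mul_comm]; exact Subgroup.card_mul_index _
  have hk0 : k ≠ 0 := by
    intro h0
    rw [h0, pow_zero] at hk
    omega
  have hk3' : k ≠ 3 := by
    intro h3
    rw [h3, ← hcard] at hk
    have htop : Subgroup.center P = ⊤ := (Subgroup.card_eq_iff_eq_top _).1 hk
    obtain ⟨a, b, hab⟩ := hnab
    apply hab
    have : b ∈ Subgroup.center P := by rw [htop]; trivial
    exact (Subgroup.mem_center_iff.1 this a)
  have hk2 : k ≠ 2 := by
    intro h2
    rw [h2] at hk
    rw [hk] at hidx
    have hi : (Subgroup.center P).index = p := by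
      have hpp : 0 < p ^ 2 := pow_pos hp.pos 2
      have : (Subgroup.center P).index * p ^ 2 = p * p ^ 2 := by rw [hidx]; ring
      exact Nat.eq_of_mul_eq_mul_right hpp this
    have hcq : Nat.card (P ⧸ Subgroup.center P) = p := by
      rw [← Subgroup.index_eq_card]; exact hi
    haveI : IsCyclic (P ⧸ Subgroup.center P) := isCyclic_of_prime_card hcq
    obtain ⟨a, b, hab⟩ := hnab
    apply hab
    exact commutative_of_cyclic_center_quotient (QuotientGroup.mk' (Subgroup.center P))
      (by rw [QuotientGroup.ker_mk']) a b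
  have hk1 : k = 1 := by omega
  rw [hk, hk1, pow_one]

/-- The key congruence `p ^ 3 ≡ p [MOD q]`. -/
theorem b4_modEq (h : SchAct p q P α) (hP : IsPGroup p P)
    (hnab : ∃ a b : P, a * b ≠ b * a)
    (hB1 : ∀ (A : Subgroup P) [A.Normal], A ≠ ⊤ → (∀ a ∈ A, α a ∈ A) → A ≤ Subgroup.center P)
    (hcomm : ∀ a b : P, a * b * a⁻¹ * b⁻¹ ∈ Subgroup.center P)
    (hcard : Nat.card P = p ^ 3) : p ^ 3 ≡ p [MOD q] := by
  haveI : Fact q.Prime := ⟨h.hq⟩
  have hZtop : Subgroup.center P ≠ ⊤ := by
    intro htop
    obtain ⟨a, b, hab⟩ := hnab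
    apply hab
    have : b ∈ Subgroup.center P := by rw [htop]; trivial
    exact (Subgroup.mem_center_iff.1 this a)
  have hfixZ := b4_fix_center h hZtop
  have hCZ := b4_fixed_mem_center h hZtop hB1 hcomm
  have hordα : orderOf α = q := orderOf_eq_prime h.pow_eq h.ne_one
  have hK : IsPGroup q (Subgroup.zpowers α) := by
    apply IsPGroup.of_card (n := 1)
    rw [Nat.card_zpowers, hordα, pow_one]
  have hmod := hK.card_modEq_card_fixedPoints P
  have hfp : (MulAction.fixedPoints (Subgroup.zpowers α) P) =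
      ((Subgroup.center P : Subgroup P) : Set P) := by
    ext v
    constructor
    · intro hv
      apply hCZ
      have := hv ⟨α, Subgroup.mem_zpowers α⟩
      exact this
    · intro hv g
      obtain ⟨g, hg⟩ := g
      obtain ⟨k, rfl⟩ := Subgroup.mem_zpowers_iff.1 hg
      change (α ^ k) • v = v
      have hαv : α ∈ MulAction.stabilizer (MulAut P) v := by
        rw [MulAction.mem_stabilizer_iff]
        exact hfixZ v hv
      exact MulAction.mem_stabilizer_iff.1 (Subgroup.zpow_mem _ hαv k)
  rw [hfp, hcard] at hmod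
  have hcz := b4_card_center hP hnab hcard
  have : Nat.card ↥((Subgroup.center P : Subgroup P) : Set P) = p := hcz
  rw [this] at hmod
  exact hmod

/-- If `α w = w * c` with `c` central (the centre has order `p` and is fixed pointwise), then `c = 1`. -/
theorem b4_twist (h : SchAct p q P α) (hfixZ : ∀ z ∈ Subgroup.center P, α z = z)
    (hcz : Nat.card (Subgroup.center P) = p) (w c : P) (hc : c ∈ Subgroup.center P)
    (hw : α w = w * c) : c = 1 := by
  have hp : p.Prime := Fact.out
  have hpow : ∀ k : ℕ, (α ^ k) w = w * c ^ k := by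
    intro k
    induction k with
    | zero => simp
    | succ n ih =>
      rw [pow_succ', MulAut.mul_apply, ih, map_mul, hw, hfixZ _ (pow_mem hc n), pow_succ', mul_assoc]
  have hq1 : c ^ q = 1 := by
    have := hpow q
    rw [h.pow_eq, MulAut.one_apply] at this
    exact (mul_eq_left.1 this.symm)
  have hp1 : c ^ p = 1 := by
    have := pow_card_eq_one' (G := ↥(Subgroup.center P)) (x := ⟨c, hc⟩)
    rw [hcz] at this
    exact congrArg Subtype.val this
  have h1 : orderOf c ∣ Nat.gcd q p := Nat.dvd_gcd (orderOf_dvd_of_pow_eq_one hq1)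
    (orderOf_dvd_of_pow_eq_one hp1)
  rw [(Nat.coprime_primes h.hq hp).2 h.hqp] at h1
  exact orderOf_eq_one_iff.1 (Nat.dvd_one.1 h1)

/-- The case `q = 2` is impossible. -/
theorem b4_q_ne_two (h : SchAct p q P α) (hP : IsPGroup p P)
    (hnab : ∃ a b : P, a * b ≠ b * a)
    (hB1 : ∀ (A : Subgroup P) [A.Normal], A ≠ ⊤ → (∀ a ∈ A, α a ∈ A) → A ≤ Subgroup.center P)
    (hcomm : ∀ a b : P, a * b * a⁻¹ * b⁻¹ ∈ Subgroup.center P)
    (hcard : Nat.card P = p ^ 3) : q ≠ 2 := by
  intro hq2
  have hZtop : Subgroup.center P ≠ ⊤ := by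
    intro htop
    obtain ⟨a, b, hab⟩ := hnab
    apply hab
    have : b ∈ Subgroup.center P := by rw [htop]; trivial
    exact (Subgroup.mem_center_iff.1 this a)
  have hfixZ := b4_fix_center h hZtop
  have hCZ := b4_fixed_mem_center h hZtop hB1 hcomm
  have hcz := b4_card_center hP hnab hcard
  have hα2 : ∀ v : P, α (α v) = v := by
    intro v
    have := DFunLike.congr_fun h.pow_eq v
    rw [hq2] at this
    simpa [pow_succ, MulAut.mul_apply] using this
  -- `v * α v` is central for all `v`
  have hinv : ∀ v : P, v * α v ∈ Subgroup.center P := by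
    intro v
    apply hCZ
    have hc : (α v)⁻¹ * v⁻¹ * α v * v ∈ Subgroup.center P := by
      have := hcomm (α v)⁻¹ v⁻¹
      simpa using this
    have hw : α (v * α v) = (v * α v) * ((α v)⁻¹ * v⁻¹ * α v * v) := by
      rw [map_mul, hα2]; group
    have hc1 := b4_twist h hfixZ hcz _ _ hc hw
    rw [hw, hc1, mul_one]
  obtain ⟨a, b, hab⟩ := hnab
  have haZ : a ∉ Subgroup.center P := by
    intro ha
    exact hab (Subgroup.mem_center_iff.1 ha b).symm
  let A : Subgroup P := Subgroup.centralizer {a}
  have haA : a ∈ A := by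
    rw [Subgroup.mem_centralizer_iff]
    intro s hs
    rw [Set.mem_singleton_iff] at hs
    rw [hs]
  have hAinv : ∀ x ∈ A, α x ∈ A := by
    intro x hx
    have h1 : α x = x⁻¹ * (x * α x) := by group
    rw [h1]
    exact A.mul_mem (A.inv_mem hx) (Subgroup.center_le_centralizer _ (hinv x))
  by_cases hAtop : A = ⊤
  · apply haZ
    rw [Subgroup.mem_center_iff]
    intro g
    have hg : g ∈ A := by rw [hAtop]; trivial
    rw [Subgroup.mem_centralizer_iff] at hg
    exact (hg a rfl).symm
  · exact haZ (hCZ a (h.fix A hAtop hAinv a haA))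

/-- The case `p = 2`: the subgroups of index two are cyclic. -/
theorem b4_cyclic (h : SchAct p q P α) (hP : IsPGroup p P)
    (hnab : ∃ a b : P, a * b ≠ b * a)
    (hB1 : ∀ (A : Subgroup P) [A.Normal], A ≠ ⊤ → (∀ a ∈ A, α a ∈ A) → A ≤ Subgroup.center P)
    (hcomm : ∀ a b : P, a * b * a⁻¹ * b⁻¹ ∈ Subgroup.center P)
    (hcard : Nat.card P = p ^ 3) (hp2 : p = 2) (H : Subgroup P) (hH : H.index = 2) :
    IsCyclic H := by
  have hZtop : Subgroup.center P ≠ ⊤ := by
    intro htop
    obtain ⟨a, b, hab⟩ := hnab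
    apply hab
    have : b ∈ Subgroup.center P := by rw [htop]; trivial
    exact (Subgroup.mem_center_iff.1 this a)
  have hfixZ := b4_fix_center h hZtop
  have hCZ := b4_fixed_mem_center h hZtop hB1 hcomm
  have hcz := b4_card_center hP hnab hcard
  have hmod := b4_modEq h hP hnab hB1 hcomm hcard
  have hq3 : q = 3 := by
    rw [hp2] at hmod
    have hdvd : q ∣ 8 - 2 := (Nat.modEq_iff_dvd' (by norm_num : 2 ≤ 2 ^ 3)).1 hmod.symm
    have hle : q ≤ 6 := Nat.le_of_dvd (by norm_num) hdvd
    have hqp := h.hq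
    have hne := h.hqp
    rw [hp2] at hne
    interval_cases q <;> first | rfl | omega | (exfalso; revert hqp; decide)
  have hα3 : ∀ v : P, α (α (α v)) = v := by
    intro v
    have := DFunLike.congr_fun h.pow_eq v
    rw [hq3] at this
    simpa [pow_succ, MulAut.mul_apply] using this
  by_contra hnc
  have hcardH : Nat.card H = 4 := by
    have := H.card_mul_index
    rw [hH, hcard, hp2] at this
    omega
  -- all elements of `H` are involutions
  have hsq : ∀ t ∈ H, t * t = 1 := by
    intro t ht
    have hdvd : orderOf (⟨t, ht⟩ : H) ∣ 4 := by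
      rw [← hcardH]; exact orderOf_dvd_natCard _
    have hne4 : orderOf (⟨t, ht⟩ : H) ≠ 4 := by
      intro h4
      apply hnc
      exact isCyclic_of_orderOf_eq_card (⟨t, ht⟩ : H) (by rw [h4, hcardH])
    have hle : orderOf (⟨t, ht⟩ : H) ≤ 4 := Nat.le_of_dvd (by norm_num) hdvd
    have h2 : orderOf (⟨t, ht⟩ : H) ∣ 2 := by
      interval_cases hk : orderOf (⟨t, ht⟩ : H)
      · omega
      · norm_num
      · norm_num
      · omega
      · omega
    have := orderOf_dvd_iff_pow_eq_one.1 h2
    have h3 := congrArg Subtype.val this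
    simpa [pow_two] using h3
  -- an element of `H` outside the centre
  have hex : ∃ t ∈ H, t ∉ Subgroup.center P := by
    by_contra hcon
    push Not at hcon
    have hle : H ≤ Subgroup.center P := hcon
    have := Subgroup.card_le_of_le hle
    rw [hcardH, hcz, hp2] at this
    omega
  obtain ⟨t, htH, htZ⟩ := hex
  have htt : t * t = 1 := hsq t htH
  have hz2 : ∀ n ∈ Subgroup.center P, n * n = 1 := by
    intro n hn
    have := pow_card_eq_one' (G := ↥(Subgroup.center P)) (x := ⟨n, hn⟩)
    rw [hcz, hp2] at this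
    have h3 := congrArg Subtype.val this
    simpa [pow_two] using h3
  set b := α t with hb
  set c := α b with hc
  have hbb : b * b = 1 := by rw [hb, ← map_mul, htt, map_one]
  have hcc : c * c = 1 := by rw [hc, ← map_mul, hbb, map_one]
  have hαc : α c = t := hα3 t
  -- the norm `t * b * c` is central
  have hN : t * b * c ∈ Subgroup.center P := by
    apply hCZ
    have hc' : (b * c)⁻¹ * t⁻¹ * (b * c) * t ∈ Subgroup.center P := by
      have := hcomm (b * c)⁻¹ t⁻¹
      simpa using this
    have hw : α (t * b * c) = (t * b * c) * ((b * c)⁻¹ * t⁻¹ * (b * c) * t) := by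
      rw [map_mul, map_mul, hαc, ← hb, ← hc]; group
    have hc1 := b4_twist h hfixZ hcz _ _ hc' hw
    rw [hw, hc1, mul_one]
  -- `t` commutes with `b`
  have htb : t * b = b * t := by
    set n := t * b * c with hn
    have hnn := hz2 n hN
    have hcn : c = b⁻¹ * t⁻¹ * n := by rw [hn]; group
    have htinv : t⁻¹ = t := inv_eq_of_mul_eq_one_left htt
    have hbinv : b⁻¹ = b := inv_eq_of_mul_eq_one_left hbb
    rw [htinv, hbinv] at hcn
    have hncomm : ∀ g : P, g * n = n * g := fun g => Subgroup.mem_center_iff.1 hN g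
    have h1 : b * t * (b * t) = 1 := by
      have h2 : c * c = b * t * (b * t) * (n * n) := by
        rw [hcn]
        calc b * t * n * (b * t * n) = b * t * (n * (b * t)) * n := by group
          _ = b * t * ((b * t) * n) * n := by rw [hncomm (b * t)]
          _ = b * t * (b * t) * (n * n) := by group
      rw [hcc, hnn, mul_one] at h2
      exact h2.symm
    calc t * b = t * b * (b * t * (b * t)) := by rw [h1, mul_one]
      _ = t * (b * b) * t * (b * t) := by group
      _ = (t * t) * (b * t) := by rw [hbb, mul_one]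
      _ = b * t := by rw [htt, one_mul]
  have hbc : b * c = c * b := by
    have := congrArg α htb
    rwa [map_mul, map_mul, ← hb, ← hc] at this
  have hct : c * t = t * c := by
    have := congrArg α hbc
    rwa [map_mul, map_mul, hαc, ← hc] at this
  let A : Subgroup P := Subgroup.centralizer {t, b, c}
  have hmemA : ∀ x : P, x ∈ A ↔ (t * x = x * t ∧ b * x = x * b ∧ c * x = x * c) := by
    intro x
    constructor
    · intro hx
      rw [Subgroup.mem_centralizer_iff] at hx
      exact ⟨hx t (by simp), hx b (by simp), hx c (by simp)⟩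
    · rintro ⟨h1, h2, h3⟩
      rw [Subgroup.mem_centralizer_iff]
      intro s hs
      simp only [Set.mem_insert_iff, Set.mem_singleton_iff] at hs
      rcases hs with rfl | rfl | rfl
      · exact h1
      · exact h2
      · exact h3
  have htA : t ∈ A := (hmemA t).2 ⟨rfl, htb.symm, hct⟩
  have hAinv : ∀ x ∈ A, α x ∈ A := by
    intro x hx
    obtain ⟨h1, h2, h3⟩ := (hmemA x).1 hx
    refine (hmemA _).2 ⟨?_, ?_, ?_⟩
    · have := congrArg α h3
      rwa [map_mul, map_mul, hαc] at this
    · have := congrArg α h1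
      rwa [map_mul, map_mul, ← hb] at this
    · have := congrArg α h2
      rwa [map_mul, map_mul, ← hc] at this
  by_cases hAtop : A = ⊤
  · apply htZ
    rw [Subgroup.mem_center_iff]
    intro g
    have hg : g ∈ A := by rw [hAtop]; trivial
    exact ((hmemA g).1 hg).1.symm
  · exact htZ (hCZ t (h.fix A hAtop hAinv t htA))

/-- Piece B4: the two facts for order `p ^ 3` (inputs are hypotheses). -/
theorem SchAct.small (h : SchAct p q P α) (hP : IsPGroup p P)
    (hnab : ∃ a b : P, a * b ≠ b * a)
    (hB1 : ∀ (A : Subgroup P) [A.Normal], A ≠ ⊤ → (∀ a ∈ A, α a ∈ A) → A ≤ Subgroup.center P)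
    (hcomm : ∀ a b : P, a * b * a⁻¹ * b⁻¹ ∈ Subgroup.center P)
    (hcard : Nat.card P = p ^ 3) :
    p ≠ 3 ∧ (p = 2 → ∀ H : Subgroup P, H.index = 2 → IsCyclic H) := by
  refine ⟨?_, fun hp2 H hH => b4_cyclic h hP hnab hB1 hcomm hcard hp2 H hH⟩
  intro hp3
  have hmod := b4_modEq h hP hnab hB1 hcomm hcard
  have hq2 := b4_q_ne_two h hP hnab hB1 hcomm hcard
  rw [hp3] at hmod
  have hdvd : q ∣ 27 - 3 := (Nat.modEq_iff_dvd' (by norm_num : 3 ≤ 3 ^ 3)).1 hmod.symm
  have hqp := h.hq
  have hne := h.hqp
  rw [hp3] at hne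
  have h24 : (27 - 3 : ℕ) = 2 ^ 3 * 3 := by norm_num
  rw [h24] at hdvd
  rcases (Nat.Prime.dvd_mul hqp).1 hdvd with h8 | h3
  · exact hq2 ((Nat.prime_dvd_prime_iff_eq hqp Nat.prime_two).1 (hqp.dvd_of_dvd_pow h8))
  · exact hne ((Nat.prime_dvd_prime_iff_eq hqp Nat.prime_three).1 h3)

end b4

end Cfsg.Agent.Helper22.SchPL
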