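import Mathlib
import Cfsg.Agent.Lib.Helper22.SchPLDefs

/-!
# S4394, piece DER: `|Q : F| = p`, `|F : Z| ≥ p ^ 2`  ⟹  `F' = Z`
-/

set_option autoImplicit false
set_option linter.unusedSectionVars false
set_option linter.style.haveILetI false
set_option linter.deprecated false

namespace Cfsg.Agent.Helper22.SchPL

section der
variable {G : Type*} [Group G] [Finite G] {p : ℕ} [Fact p.Prime]

/-- Bilinearity in the second variable. -/
theorem der_cm_mul_right {Q Z : Subgroup G} (h : SESub p Q Z) {a b b' : G} (ha : a ∈ Q)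
    (hb : b ∈ Q) (hb' : b' ∈ Q) :
    a * (b * b') * a⁻¹ * (b * b')⁻¹ = (a * b * a⁻¹ * b⁻¹) * (a * b' * a⁻¹ * b'⁻¹) := by
  have hz := h.central _ (h.comm_mem a ha b' hb') b hb
  have h1 : a * (b * b') * a⁻¹ * (b * b')⁻¹ =
      (a * b * a⁻¹ * b⁻¹) * (b * (a * b' * a⁻¹ * b'⁻¹)) * b⁻¹ := by group
  rw [h1, ← hz]; group

/-- Bilinearity in the first variable. -/
theorem der_cm_mul_left {Q Z : Subgroup G} (h : SESub p Q Z) {a a' b : G} (ha : a ∈ Q)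
    (ha' : a' ∈ Q) (hb : b ∈ Q) :
    (a * a') * b * (a * a')⁻¹ * b⁻¹ = (a * b * a⁻¹ * b⁻¹) * (a' * b * a'⁻¹ * b⁻¹) := by
  have hz := h.central _ (h.comm_mem a' ha' b hb) a ha
  have h1 : (a * a') * b * (a * a')⁻¹ * b⁻¹ =
      (a * (a' * b * a'⁻¹ * b⁻¹)) * a⁻¹ * (a * b * a⁻¹ * b⁻¹) := by group
  have hz2 := h.central _ (h.comm_mem a' ha' b hb) _ (Q.mul_mem (Q.mul_mem (Q.mul_mem ha hb)
    (Q.inv_mem ha)) (Q.inv_mem hb))
  rw [h1, ← hz]
  calc a' * b * a'⁻¹ * b⁻¹ * a * a⁻¹ * (a * b * a⁻¹ * b⁻¹)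
      = a' * b * a'⁻¹ * b⁻¹ * (a * b * a⁻¹ * b⁻¹) := by group
    _ = (a * b * a⁻¹ * b⁻¹) * (a' * b * a'⁻¹ * b⁻¹) := hz2

/-- The homomorphism `a ↦ [a, b]` on `Q`. -/
noncomputable def derHom {Q Z : Subgroup G} (h : SESub p Q Z) (b : G) (hb : b ∈ Q) : ↥Q →* G :=
  MonoidHom.mk' (fun a => (a : G) * b * (a : G)⁻¹ * b⁻¹)
    (fun a a' => der_cm_mul_left h a.2 a'.2 hb)

theorem der_cm_zpow {Q Z : Subgroup G} (h : SESub p Q Z) {a b : G} (ha : a ∈ Q) (hb : b ∈ Q)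
    (i : ℤ) : a ^ i * b * (a ^ i)⁻¹ * b⁻¹ = (a * b * a⁻¹ * b⁻¹) ^ i := by
  have := map_zpow (derHom h b hb) ⟨a, ha⟩ i
  simpa [derHom] using this

/-- A subgroup between `F` and `Q` containing an element outside `F` is `Q`, when `|Q : F|` is
prime. -/
theorem der_top {Q F A : Subgroup G} (hidx : F.relIndex Q = p) (hFA : F ≤ A) (hAQ : A ≤ Q)
    {x : G} (hxA : x ∈ A) (hxF : x ∉ F) : Q ≤ A := by
  have hp : p.Prime := Fact.out
  have hmul := Subgroup.relIndex_mul_relIndex F A Q hFA hAQ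
  rw [hidx] at hmul
  have hdvd : F.relIndex A ∣ p := ⟨_, hmul.symm⟩
  rcases (Nat.dvd_prime hp).1 hdvd with h1 | h1
  · exfalso
    exact hxF (Subgroup.relIndex_eq_one.1 h1 hxA)
  · rw [h1] at hmul
    have h2 : A.relIndex Q = 1 := by
      have : p * A.relIndex Q = p * 1 := by rw [hmul, mul_one]
      exact Nat.eq_of_mul_eq_mul_left hp.pos this
    exact Subgroup.relIndex_eq_one.1 h2

/-- Piece DER (pure `p`-group statement inside `G`). -/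
theorem commutator_eq_of_big (Q Z F : Subgroup G) (hQ : IsPGroup p Q) (h : SESub p Q Z)
    (hZF : Z ≤ F) (hFQ : F ≤ Q) (hidx : F.relIndex Q = p) (hbig : p ^ 2 ≤ Z.relIndex F) :
    ⁅F, F⁆ = Z := by
  classical
  have hp : p.Prime := Fact.out
  have hF'Z : ⁅F, F⁆ ≤ Z := by
    rw [Subgroup.commutator_le]
    intro g₁ hg₁ g₂ hg₂
    rw [commutatorElement_def]
    exact h.comm_mem g₁ (hFQ hg₁) g₂ (hFQ hg₂)
  apply le_antisymm hF'Z
  by_contra hne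
  obtain ⟨z₀, hz₀Z, hz₀F'⟩ := SetLike.not_le_iff_exists.1 hne
  have hcmF' : ∀ f₁ ∈ F, ∀ f₂ ∈ F, f₁ * f₂ * f₁⁻¹ * f₂⁻¹ ∈ ⁅F, F⁆ := by
    intro f₁ h₁ f₂ h₂
    have := Subgroup.commutator_mem_commutator h₁ h₂
    rwa [commutatorElement_def] at this
  -- Step 1: an element of `F` outside `Z`
  have hexu : ∃ u ∈ F, u ∉ Z := by
    by_contra hcon
    push Not at hcon
    have hFZ : F ≤ Z := hcon
    have h1 : Z.relIndex F = 1 := Subgroup.relIndex_eq_one.2 hFZ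
    rw [h1] at hbig
    have : 1 < p ^ 2 := Nat.one_lt_pow (by norm_num) hp.one_lt
    omega
  obtain ⟨u, huF, huZ⟩ := hexu
  have huQ : u ∈ Q := hFQ huF
  -- Step 2: an element of `Q` outside `F`
  have hexx : ∃ x ∈ Q, x ∉ F := by
    by_contra hcon
    push Not at hcon
    have hQF : Q ≤ F := hcon
    have h1 : F.relIndex Q = 1 := Subgroup.relIndex_eq_one.2 hQF
    rw [h1] at hidx
    exact hp.one_lt.ne hidx
  obtain ⟨x, hxQ, hxF⟩ := hexx
  -- Lemma A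
  have hA : ∀ w ∈ F, w * x * w⁻¹ * x⁻¹ ∈ ⁅F, F⁆ → w ∈ Z := by
    intro w hwF hwx
    by_contra hwZ
    have hwQ : w ∈ Q := hFQ hwF
    let A : Subgroup G :=
      { carrier := {v | v ∈ Q ∧ w * v * w⁻¹ * v⁻¹ ∈ ⁅F, F⁆}
        mul_mem' := by
          rintro a b ⟨ha, ha'⟩ ⟨hb, hb'⟩
          refine ⟨Q.mul_mem ha hb, ?_⟩
          rw [der_cm_mul_right h hwQ ha hb]
          exact Subgroup.mul_mem _ ha' hb'
        one_mem' := ⟨Q.one_mem, by simp⟩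
        inv_mem' := by
          rintro a ⟨ha, ha'⟩
          refine ⟨Q.inv_mem ha, ?_⟩
          have h1 := der_cm_mul_right h hwQ ha (Q.inv_mem ha)
          have h2 : w * (a * a⁻¹) * w⁻¹ * (a * a⁻¹)⁻¹ = 1 := by group
          rw [h2] at h1
          have h3 : w * a⁻¹ * w⁻¹ * a⁻¹⁻¹ = (w * a * w⁻¹ * a⁻¹)⁻¹ :=
            (inv_eq_of_mul_eq_one_right h1.symm).symm
          rw [h3]
          exact Subgroup.inv_mem _ ha' }
    have hFA : F ≤ A := fun f hf => ⟨hFQ hf, hcmF' w hwF f hf⟩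
    have hAQ : A ≤ Q := fun v hv => hv.1
    have hQA : Q ≤ A := der_top hidx hFA hAQ (x := x) ⟨hxQ, hwx⟩ hxF
    obtain ⟨v, hvQ, hv⟩ := h.camina w hwQ hwZ z₀ hz₀Z
    have := (hQA hvQ).2
    rw [hv] at this
    exact hz₀F' this
  -- Step 4
  set c := u * x * u⁻¹ * x⁻¹ with hc
  have hcZ : c ∈ Z := h.comm_mem u huQ x hxQ
  let B : Subgroup G :=
    { carrier := {v | v ∈ Q ∧ ∃ i : ℤ, (u * v * u⁻¹ * v⁻¹) * c ^ i ∈ ⁅F, F⁆}
      mul_mem' := by
        rintro a b ⟨ha, i, hi⟩ ⟨hb, j, hj⟩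
        refine ⟨Q.mul_mem ha hb, i + j, ?_⟩
        rw [der_cm_mul_right h huQ ha hb]
        have hcomm := h.central _ (Z.zpow_mem hcZ i) _ (Q.mul_mem (Q.mul_mem (Q.mul_mem huQ hb)
          (Q.inv_mem huQ)) (Q.inv_mem hb))
        have : u * a * u⁻¹ * a⁻¹ * (u * b * u⁻¹ * b⁻¹) * c ^ (i + j) =
            (u * a * u⁻¹ * a⁻¹ * c ^ i) * ((u * b * u⁻¹ * b⁻¹) * c ^ j) := by
          rw [zpow_add]
          calc u * a * u⁻¹ * a⁻¹ * (u * b * u⁻¹ * b⁻¹) * (c ^ i * c ^ j)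
              = u * a * u⁻¹ * a⁻¹ * ((u * b * u⁻¹ * b⁻¹) * c ^ i) * c ^ j := by group
            _ = u * a * u⁻¹ * a⁻¹ * (c ^ i * (u * b * u⁻¹ * b⁻¹)) * c ^ j := by rw [hcomm]
            _ = _ := by group
        rw [this]
        exact Subgroup.mul_mem _ hi hj
      one_mem' := ⟨Q.one_mem, 0, by simp⟩
      inv_mem' := by
        rintro a ⟨ha, i, hi⟩
        refine ⟨Q.inv_mem ha, -i, ?_⟩
        have h1 := der_cm_mul_right h huQ ha (Q.inv_mem ha)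
        have h2 : u * (a * a⁻¹) * u⁻¹ * (a * a⁻¹)⁻¹ = 1 := by group
        rw [h2] at h1
        have h3 : u * a⁻¹ * u⁻¹ * a⁻¹⁻¹ = (u * a * u⁻¹ * a⁻¹)⁻¹ :=
          (inv_eq_of_mul_eq_one_right h1.symm).symm
        rw [h3]
        have hcomm := h.central _ (Z.zpow_mem hcZ i) _ (Q.mul_mem (Q.mul_mem (Q.mul_mem huQ ha)
          (Q.inv_mem huQ)) (Q.inv_mem ha))
        have : (u * a * u⁻¹ * a⁻¹)⁻¹ * c ^ (-i) = ((u * a * u⁻¹ * a⁻¹) * c ^ i)⁻¹ := by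
          rw [mul_inv_rev, zpow_neg, ← mul_inv_rev, ← mul_inv_rev, hcomm]
        rw [this]
        exact Subgroup.inv_mem _ hi }
  have hFB : F ≤ B := fun f hf => ⟨hFQ hf, 0, by simpa using hcmF' u huF f hf⟩
  have hBQ : B ≤ Q := fun v hv => hv.1
  have hxB : x ∈ B := ⟨hxQ, -1, by rw [← hc]; simp⟩
  have hQB : Q ≤ B := der_top hidx hFB hBQ hxB hxF
  -- Step 5
  have h5 : ∀ w ∈ F, ∃ i : ℤ, w * u ^ i ∈ Z := by
    intro w hwF
    have hwQ : w ∈ Q := hFQ hwF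
    obtain ⟨v, hvQ, hv⟩ := h.camina u huQ huZ _ (h.comm_mem w hwQ x hxQ)
    obtain ⟨-, i, hi⟩ := hQB hvQ
    rw [hv] at hi
    refine ⟨i, hA _ (F.mul_mem hwF (F.zpow_mem huF i)) ?_⟩
    rw [der_cm_mul_left h hwQ (Q.zpow_mem huQ i) hxQ, der_cm_zpow h huQ hxQ]
    exact hi
  -- Step 6: counting
  have hupZ : u ^ p ∈ Z := h.pow_mem u huQ
  have h6 : ∀ w ∈ F, ∃ j : Fin p, ∃ z : ↥Z, w = (z : G) * u ^ (j : ℕ) := by
    intro w hwF
    obtain ⟨i, hi⟩ := h5 w hwF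
    have hp0 : (p : ℤ) ≠ 0 := by exact_mod_cast hp.ne_zero
    have hppos : (0 : ℤ) < p := by exact_mod_cast hp.pos
    have hj0 : 0 ≤ (-i) % (p : ℤ) := Int.emod_nonneg _ hp0
    have hjp : (-i) % (p : ℤ) < p := Int.emod_lt_of_pos _ hppos
    have hjlt : ((-i) % (p : ℤ)).toNat < p := by omega
    refine ⟨⟨((-i) % (p : ℤ)).toNat, hjlt⟩, ⟨w * u ^ i * (u ^ p) ^ ((-i) / (p : ℤ)), ?_⟩, ?_⟩
    · exact Z.mul_mem hi (Z.zpow_mem hupZ _)
    · change w = w * u ^ i * (u ^ p) ^ ((-i) / (p : ℤ)) * u ^ (((-i) % (p : ℤ)).toNat)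
      have e1 : u ^ (((-i) % (p : ℤ)).toNat) = u ^ ((-i) % (p : ℤ)) := by
        rw [← zpow_natCast, Int.toNat_of_nonneg hj0]
      have e2 : (u ^ p) ^ ((-i) / (p : ℤ)) = u ^ ((p : ℤ) * ((-i) / (p : ℤ))) := by
        rw [zpow_mul, zpow_natCast]
      rw [e1, e2, mul_assoc, mul_assoc, ← zpow_add, ← zpow_add]
      have : i + ((p : ℤ) * (-i / (p : ℤ)) + -i % (p : ℤ)) = 0 := by
        rw [Int.mul_ediv_add_emod]; ring
      rw [this, zpow_zero, mul_one]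
  have hcardle : Nat.card ↥F ≤ Nat.card ↥Z * p := by
    let g : ↥Z × Fin p → G := fun zj => (zj.1 : G) * u ^ (zj.2 : ℕ)
    have hsub : (F : Set G) ⊆ Set.range g := by
      intro w hw
      obtain ⟨j, z, hwz⟩ := h6 w hw
      exact ⟨(z, j), hwz.symm⟩
    have h1 : Nat.card ↥F = Set.ncard (F : Set G) := Nat.card_coe_set_eq _
    have h2 : Set.ncard (F : Set G) ≤ Set.ncard (Set.range g) :=
      Set.ncard_le_ncard hsub (Set.toFinite _)
    have h3 : Set.ncard (Set.range g) ≤ Nat.card (↥Z × Fin p) := by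
      rw [← Set.image_univ]
      calc Set.ncard (g '' Set.univ) ≤ Set.ncard (Set.univ : Set (↥Z × Fin p)) :=
            Set.ncard_image_le (Set.toFinite _)
        _ = Nat.card (↥Z × Fin p) := Set.ncard_univ _
    rw [Nat.card_prod, Nat.card_fin] at h3
    omega
  have hrel : Nat.card ↥Z * Z.relIndex F = Nat.card ↥F := by
    have := Subgroup.relIndex_mul_relIndex ⊥ Z F bot_le hZF
    rwa [Subgroup.relIndex_bot_left, Subgroup.relIndex_bot_left] at this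
  have hZpos : 0 < Nat.card ↥Z := Nat.card_pos
  have hlt : p < p ^ 2 := by
    have := hp.one_lt
    nlinarith
  have : Nat.card ↥Z * p ^ 2 ≤ Nat.card ↥Z * p := by
    calc Nat.card ↥Z * p ^ 2 ≤ Nat.card ↥Z * Z.relIndex F := Nat.mul_le_mul_left _ hbig
      _ = Nat.card ↥F := hrel
      _ ≤ Nat.card ↥Z * p := hcardle
  have h7 := Nat.le_of_mul_le_mul_left this hZpos
  omega

end der

end Cfsg.Agent.Helper22.SchPL
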