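import Mathlib

set_option autoImplicit false

namespace Cfsg.Agent.Helper25

/-- If `i ^ q ≡ 1 mod 2 ^ k` with `q` odd then `i ≡ 1 mod 2 ^ k`. -/
theorem modEq_one_of_pow_modEq_one {i q k : ℕ} (hq : Odd q) (h : i ^ q ≡ 1 [MOD 2 ^ k]) :
    i ≡ 1 [MOD 2 ^ k] := by
  have hq0 : q ≠ 0 := by rintro rfl; simp at hq
  have h1 : ((i : ZMod (2 ^ k))) ^ q = 1 := by
    have := (ZMod.natCast_eq_natCast_iff _ _ _).mpr h
    simpa using this
  set u : (ZMod (2 ^ k))ˣ := Units.ofPowEqOne _ q h1 hq0 with hu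
  have hu1 : u ^ q = 1 := Units.pow_ofPowEqOne h1 hq0
  have hu2 : u ^ Nat.totient (2 ^ k) = 1 := ZMod.pow_totient u
  have hd1 : orderOf u ∣ q := orderOf_dvd_of_pow_eq_one hu1
  have hd2 : orderOf u ∣ Nat.totient (2 ^ k) := orderOf_dvd_of_pow_eq_one hu2
  have htot : ∃ j, Nat.totient (2 ^ k) = 2 ^ j := by
    rcases Nat.eq_zero_or_pos k with rfl | hk
    · exact ⟨0, by simp⟩
    · exact ⟨k - 1, by rw [Nat.totient_prime_pow Nat.prime_two hk]; simp⟩
  obtain ⟨j, hj⟩ := htot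
  rw [hj] at hd2
  have hcop : Nat.Coprime q (2 ^ j) := Nat.Coprime.pow_right _ (Nat.Coprime.symm (Nat.coprime_two_left.mpr hq))
  have ho : orderOf u = 1 := Nat.eq_one_of_dvd_coprimes hcop hd1 hd2
  have hu3 : u = 1 := orderOf_eq_one_iff.mp ho
  have h2 : ((i : ZMod (2 ^ k))) = ((1 : ℕ) : ZMod (2 ^ k)) := by
    have : ((u : ZMod (2 ^ k))) = 1 := by rw [hu3]; rfl
    rw [Nat.cast_one, ← this]
    rfl
  exact (ZMod.natCast_eq_natCast_iff _ _ _).mp h2

/-- An automorphism of odd order of a group with a cyclic subgroup `⟨c⟩` of `2`-power order, covering the group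
together with a coset `b⟨c⟩`, is trivial provided it maps `c` into `⟨c⟩`. -/
theorem aut_eq_one_of_cyclic_coset {G : Type*} [Group G] (c b : G) (k : ℕ) (hc : orderOf c = 2 ^ k)
    (hcover : ∀ g : G, (∃ i : ℕ, g = c ^ i) ∨ ∃ i : ℕ, g = b * c ^ i)
    (hb : ∀ i : ℕ, b ≠ c ^ i) (α : MulAut G) (q : ℕ) (hq : Odd q) (hαq : α ^ q = 1)
    (hαc : ∃ i : ℕ, α c = c ^ i) : α = 1 := by
  obtain ⟨i, hi⟩ := hαc
  have hpow : ∀ t : ℕ, (α ^ t) c = c ^ (i ^ t) := by
    intro t
    induction t with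
    | zero => simp
    | succ t ih =>
      rw [pow_succ', MulAut.mul_apply, ih, map_pow, hi, ← pow_mul, pow_succ']
  have h1 : c ^ (i ^ q) = c ^ 1 := by
    rw [← hpow q, hαq, pow_one]; rfl
  have h2 : i ^ q ≡ 1 [MOD 2 ^ k] := by
    rw [← hc]; exact pow_eq_pow_iff_modEq.mp h1
  have h3 : i ≡ 1 [MOD 2 ^ k] := modEq_one_of_pow_modEq_one hq h2
  have hαc' : α c = c := by
    rw [hi]
    have : c ^ i = c ^ 1 := pow_eq_pow_iff_modEq.mpr (by rw [hc]; exact h3)
    rw [this, pow_one]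
  have hαcpow : ∀ n : ℕ, α (c ^ n) = c ^ n := fun n => by rw [map_pow, hαc']
  obtain ⟨j, hj⟩ : ∃ j : ℕ, α b = b * c ^ j := by
    rcases hcover (α b) with ⟨z, hz⟩ | h
    · exfalso
      apply hb z
      apply α.injective
      rw [hz, hαcpow]
    · exact h
  have hpowb : ∀ t : ℕ, (α ^ t) b = b * c ^ (t * j) := by
    intro t
    induction t with
    | zero => simp
    | succ t ih =>
      rw [pow_succ', MulAut.mul_apply, ih, map_mul, hαcpow, hj, mul_assoc, ← pow_add]
      congr 2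
      ring
  have h4 : c ^ (q * j) = 1 := by
    have := hpowb q
    rw [hαq] at this
    have h5 : b = b * c ^ (q * j) := this
    exact (mul_eq_left.mp h5.symm)
  have h5 : 2 ^ k ∣ q * j := by rw [← hc]; exact orderOf_dvd_of_pow_eq_one h4
  have hcop : Nat.Coprime (2 ^ k) q := Nat.Coprime.pow_left _ (Nat.coprime_two_left.mpr hq)
  have h6 : 2 ^ k ∣ j := hcop.dvd_of_dvd_mul_left h5
  have hαb : α b = b := by
    rw [hj]
    have : c ^ j = 1 := by rw [← hc] at h6; exact orderOf_dvd_iff_pow_eq_one.mp h6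
    rw [this, mul_one]
  ext g
  rcases hcover g with ⟨z, rfl⟩ | ⟨z, rfl⟩
  · rw [hαcpow]; rfl
  · rw [map_mul, hαcpow, hαb]; rfl

/-- If every automorphism of odd order is trivial then the automorphism group is a `2`-group. -/
theorem isPGroup_two_of_odd_trivial {A : Type*} [Group A] [Finite A]
    (h : ∀ (α : A) (q : ℕ), Odd q → α ^ q = 1 → α = 1) : IsPGroup 2 A := by
  intro α
  have ho : orderOf α ≠ 0 := (orderOf_pos α).ne'
  obtain ⟨e, m, hm, hem⟩ := Nat.exists_eq_pow_mul_and_not_dvd ho 2 (by norm_num)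
  refine ⟨e, ?_⟩
  apply h (α ^ 2 ^ e) m (Nat.odd_iff.mpr (by omega))
  rw [← pow_mul, ← hem, pow_orderOf_eq_one]

end Cfsg.Agent.Helper25

namespace Cfsg.Agent.Helper25

theorem isPGroup_mulAut_dihedral (k : ℕ) (hk : 2 ≤ k) : IsPGroup 2 (MulAut (DihedralGroup (2 ^ k))) := by
  haveI : NeZero (2 ^ k) := ⟨by positivity⟩
  apply isPGroup_two_of_odd_trivial
  intro α q hq hαq
  have h4 : 2 ^ 2 ≤ 2 ^ k := Nat.pow_le_pow_right (by norm_num) hk
  apply aut_eq_one_of_cyclic_coset (DihedralGroup.r 1) (DihedralGroup.sr 0) k DihedralGroup.orderOf_r_one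
    ?_ ?_ α q hq hαq ?_
  · intro g
    cases g with
    | r i =>
      left
      refine ⟨i.val, ?_⟩
      rw [DihedralGroup.r_one_pow, ZMod.natCast_zmod_val]
    | sr i =>
      right
      refine ⟨i.val, ?_⟩
      rw [DihedralGroup.r_one_pow, ZMod.natCast_zmod_val, DihedralGroup.sr_mul_r, zero_add]
  · intro i h
    rw [DihedralGroup.r_one_pow] at h
    cases h
  · have ho : orderOf (α (DihedralGroup.r 1)) = 2 ^ k := by
      rw [MulEquiv.orderOf_eq, DihedralGroup.orderOf_r_one]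
    generalize hg : α (DihedralGroup.r 1) = g at ho
    cases g with
    | r i =>
      refine ⟨i.val, ?_⟩
      rw [DihedralGroup.r_one_pow, ZMod.natCast_zmod_val]
    | sr i =>
      rw [DihedralGroup.orderOf_sr] at ho
      omega

theorem isPGroup_mulAut_quaternion (k : ℕ) (hk : 2 ≤ k) :
    IsPGroup 2 (MulAut (QuaternionGroup (2 ^ k))) := by
  haveI : NeZero (2 ^ k) := ⟨by positivity⟩
  apply isPGroup_two_of_odd_trivial
  intro α q hq hαq
  have h4 : 2 ^ 2 ≤ 2 ^ k := Nat.pow_le_pow_right (by norm_num) hk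
  have hord : orderOf (QuaternionGroup.a 1 : QuaternionGroup (2 ^ k)) = 2 ^ (k + 1) := by
    rw [QuaternionGroup.orderOf_a_one, pow_succ, mul_comm]
  apply aut_eq_one_of_cyclic_coset (QuaternionGroup.a 1) (QuaternionGroup.xa 0) (k + 1) hord
    ?_ ?_ α q hq hαq ?_
  · intro g
    cases g with
    | a i =>
      left
      refine ⟨i.val, ?_⟩
      rw [QuaternionGroup.a_one_pow, ZMod.natCast_zmod_val]
    | xa i =>
      right
      refine ⟨i.val, ?_⟩
      rw [QuaternionGroup.a_one_pow, ZMod.natCast_zmod_val, QuaternionGroup.xa_mul_a, zero_add]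
  · intro i h
    rw [QuaternionGroup.a_one_pow] at h
    cases h
  · have ho : orderOf (α (QuaternionGroup.a 1)) = 2 ^ (k + 1) := by
      rw [MulEquiv.orderOf_eq, hord]
    generalize hg : α (QuaternionGroup.a 1) = g at ho
    cases g with
    | a i =>
      refine ⟨i.val, ?_⟩
      rw [QuaternionGroup.a_one_pow, ZMod.natCast_zmod_val]
    | xa i =>
      rw [QuaternionGroup.orderOf_xa] at ho
      rw [pow_succ] at ho
      omega

end Cfsg.Agent.Helper25
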