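import Mathlib
import Cfsg.Prelude.Def_Blocks
import Cfsg.Agent.Lib.Helper24.CharLinear
import Cfsg.Agent.Lib.Helper4.BRBTHANUM

/-!
# S4705 piece LOCNUM (helper25): the numerics of Theorem A'' on a group of prime order

`loc_numerics` with the exact signature of `plans/S4705_Skel.lean.txt`.
-/

set_option autoImplicit false
set_option linter.unusedSectionVars false
set_option linter.unusedVariables false
set_option linter.style.haveILetI false

namespace Cfsg.Agent.Helper23.B2

open scoped ComplexConjugate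
open Cfsg Cfsg.Agent.Helper24

universe u

namespace LOCNUM

open Cfsg.Agent.Helper5.TLD Cfsg.Agent.Helper7.Homo Cfsg.Agent.Helper14.BRB

/-- the multiplicities of the three kinds of linear constituents of `π` -/
theorem mults {p : ℕ} [Fact p.Prime] {A : Type u} [Group A] [Finite A] (hA : Nat.card A = p)
    (ν : MulAut A) (e : ℕ) (he0 : 0 < e) (he : 2 * e ≤ p - 1)
    (hfpf : ∀ k : ℕ, 0 < k → k < e → ∀ a : A, (ν ^ k) a = a → a = 1)
    (π : A → ℂ) (hπ : IsCharacter A π) (ψ : IrrCharacter A) (hψ : ψ ≠ principalChar A)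
    (dd δ z : ℤ)
    (hval : ∀ a : A, a ≠ 1 →
      π a = (dd : ℂ) + (δ : ℂ) * ∑ k ∈ Finset.range e, (ψ : A → ℂ) ((ν ^ k) a))
    (hz : π 1 = (z : ℂ)) :
    ∃ c' : ℕ, (0 : ℤ) ≤ c' + dd ∧ (0 : ℤ) ≤ c' + δ ∧ (p : ℤ) * c' = z - dd - δ * e := by
  classical
  haveI : Fintype A := Fintype.ofFinite A
  haveI : Fintype (IrrCharacter A) := irrFintype
  have hcomm := abs_comm hA
  have hp2 : 2 ≤ p := (Fact.out : p.Prime).two_le
  have hcard : Fintype.card (IrrCharacter A) = p := by rw [card_irr_abelian hcomm, hA]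
  -- the conjugates of `ψ`
  have hΨ0 : compIrr (ν ^ 0) ψ = ψ := by
    apply Subtype.ext
    funext a
    show (ψ : A → ℂ) ((ν ^ 0) a) = (ψ : A → ℂ) a
    rw [pow_zero]; rfl
  have hΨne : ∀ k, compIrr (ν ^ k) ψ ≠ principalChar A := fun k => compIrr_ne_principal (ν ^ k) hψ
  have hΨψ : ∀ k, 0 < k → k < e → compIrr (ν ^ k) ψ ≠ ψ := by
    intro k hk0 hke h
    exact hψ (compIrr_fpf hcomm (ν ^ k) (hfpf k hk0 hke) ψ h)
  -- a generic character
  obtain ⟨l, hl1, hlΨ⟩ : ∃ l : IrrCharacter A, l ≠ principalChar A ∧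
      ∀ k, k < e → compIrr (ν ^ k) ψ ≠ l := by
    by_contra hcon
    push Not at hcon
    have hsub : (Finset.univ : Finset (IrrCharacter A)) ⊆
        insert (principalChar A) ((Finset.range e).image fun k => compIrr (ν ^ k) ψ) := by
      intro l _
      by_cases h1 : l = principalChar A
      · rw [h1]; exact Finset.mem_insert_self _ _
      · obtain ⟨k, hk, hkl⟩ := hcon l h1
        exact Finset.mem_insert_of_mem (Finset.mem_image.mpr ⟨k, Finset.mem_range.mpr hk, hkl⟩)
    have h1 := Finset.card_le_card hsub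
    have h2 := Finset.card_insert_le (principalChar A)
      ((Finset.range e).image fun k => compIrr (ν ^ k) ψ)
    have h3 := Finset.card_image_le (s := Finset.range e) (f := fun k => compIrr (ν ^ k) ψ)
    rw [Finset.card_univ, hcard] at h1
    rw [Finset.card_range] at h3
    omega
  -- the three multiplicities
  obtain ⟨c', hc'⟩ := thanum_mult hA hπ l
  obtain ⟨mψ, hmψ⟩ := thanum_mult hA hπ ψ
  obtain ⟨m1, hm1⟩ := thanum_mult hA hπ (principalChar A)
  have F := thanum_formula hA ν e π ψ dd δ z hval hz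
  -- generic
  have E1 : (p : ℤ) * c' = z - dd - δ * e := by
    have h := F l
    rw [hc', if_neg (fun h => hl1 h.symm)] at h
    have h2 : ∑ k ∈ Finset.range e, ((if compIrr (ν ^ k) ψ = l then (p : ℂ) else 0) - 1) =
        ∑ k ∈ Finset.range e, ((0 : ℂ) - 1) :=
      Finset.sum_congr rfl fun k hk => by rw [if_neg (hlΨ k (Finset.mem_range.mp hk))]
    rw [h2, Finset.sum_const, Finset.card_range] at h
    have h3 : ((p : ℤ) : ℂ) * ((c' : ℤ) : ℂ) = ((z - dd - δ * e : ℤ) : ℂ) := by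
      push_cast
      rw [h]
      simp only [nsmul_eq_mul]
      ring
    exact_mod_cast h3
  -- `λ = 1`
  have E2 : (p : ℤ) * m1 = z - dd - δ * e + p * dd := by
    have h := F (principalChar A)
    rw [hm1, if_pos rfl] at h
    have h2 : ∑ k ∈ Finset.range e,
        ((if compIrr (ν ^ k) ψ = principalChar A then (p : ℂ) else 0) - 1) =
        ∑ k ∈ Finset.range e, ((0 : ℂ) - 1) :=
      Finset.sum_congr rfl fun k _ => by rw [if_neg (hΨne k)]
    rw [h2, Finset.sum_const, Finset.card_range] at h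
    have h3 : ((p : ℤ) : ℂ) * ((m1 : ℤ) : ℂ) = ((z - dd - δ * e + p * dd : ℤ) : ℂ) := by
      push_cast
      rw [h]
      simp only [nsmul_eq_mul]
      ring
    exact_mod_cast h3
  -- `λ = ψ`
  have E3 : (p : ℤ) * mψ = z - dd - δ * e + p * δ := by
    have h := F ψ
    rw [hmψ, if_neg (fun h => hψ h.symm)] at h
    have h2 : ∑ k ∈ Finset.range e, ((if compIrr (ν ^ k) ψ = ψ then (p : ℂ) else 0) - 1) =
        (p : ℂ) - e := by
      rw [Finset.sum_sub_distrib, Finset.sum_const, Finset.card_range]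
      rw [Finset.sum_eq_single_of_mem 0 (Finset.mem_range.mpr he0)]
      · rw [if_pos hΨ0]
        simp
      · intro k hk hk0
        rw [if_neg (hΨψ k (Nat.pos_of_ne_zero hk0) (Finset.mem_range.mp hk))]
    rw [h2] at h
    have h3 : ((p : ℤ) : ℂ) * ((mψ : ℤ) : ℂ) = ((z - dd - δ * e + p * δ : ℤ) : ℂ) := by
      push_cast
      rw [h]
      ring
    exact_mod_cast h3
  have hpz : (0 : ℤ) < p := by exact_mod_cast (Fact.out : p.Prime).pos
  have hm1' : (m1 : ℤ) = c' + dd := by
    have : (p : ℤ) * m1 = p * (c' + dd) := by rw [E2, mul_add, E1]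
    exact mul_left_cancel₀ hpz.ne' this
  have hmψ' : (mψ : ℤ) = c' + δ := by
    have : (p : ℤ) * mψ = p * (c' + δ) := by rw [E3, mul_add, E1]
    exact mul_left_cancel₀ hpz.ne' this
  refine ⟨c', ?_, ?_, E1⟩
  · rw [← hm1']; exact Int.natCast_nonneg _
  · rw [← hmψ']; exact Int.natCast_nonneg _

/-- the integer arithmetic -/
theorem arith (P E Gn Mn T K C dd δ ε z : ℤ) (hP : 5 < P) (hE : 0 < E) (hG : 0 < Gn) (hM : 0 < Mn)
    (hK : 0 ≤ K) (hTE : T * E = P - 1) (hTG : T = Gn * K) (he : 2 * E ≤ P - 1)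
    (hC : 0 ≤ C) (h1 : 0 ≤ C + dd) (h2 : 0 ≤ C + δ) (E1 : P * C = z - dd - δ * E)
    (hδ : δ = 1 ∨ δ = -1) (hε : ε = 1 ∨ ε = -1)
    (hsum : T * dd - δ = ε) (hdeg : Gn * Mn * z = P - 2) :
    (E = 2 ∧ Gn = 1 ∧ Mn = 1 ∧ dd = 0 ∧ δ = -1 ∧ ε = 1 ∧ z = P - 2) ∨
      (E = 1 ∧ Gn = 1 ∧ Mn = P - 2 ∧ dd = 0 ∧ δ = 1 ∧ z = 1) := by
  have hGM : 1 ≤ Gn * Mn := by nlinarith
  have hT2 : 2 ≤ T := by
    by_contra hcon
    have hT1 : T ≤ 1 := by omega
    nlinarith
  have hz0 : 0 < z := by
    by_contra hcon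
    have : z ≤ 0 := by omega
    nlinarith
  have hzle : z ≤ P - 2 := by nlinarith
  have hzeq : z = P * C + dd + δ * E := by linarith
  have hδE : -E ≤ δ * E := by
    rcases hδ with h | h <;> rw [h] <;> linarith
  have hδE' : δ * E ≤ E := by
    rcases hδ with h | h <;> rw [h] <;> linarith
  -- `C ≤ 1`
  have hC1 : C ≤ 1 := by
    by_contra hcon
    have hC2 : 2 ≤ C := by omega
    have h3 : 2 * (P - 1) ≤ (P - 1) * C := by nlinarith
    nlinarith
  have hCcases : C = 0 ∨ C = 1 := by omega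
  rcases hCcases with hC0 | hC1'
  · -- `C = 0`
    right
    rw [hC0] at h1 h2 hzeq
    have hδ1 : δ = 1 := by
      rcases hδ with h | h
      · exact h
      · rw [h] at h2; omega
    rw [hδ1] at hzeq hsum
    have hdd0 : 0 ≤ dd := by omega
    have hz' : z = dd + E := by linarith
    rcases hε with hε1 | hε1
    · -- `ε = 1`: `T dd = 2`
      exfalso
      rw [hε1] at hsum
      have hTdd : T * dd = 2 := by linarith
      have hdd1 : dd = 1 := by
        have hddpos : 0 < dd := by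
          by_contra hcon
          have : dd = 0 := by omega
          rw [this] at hTdd; omega
        by_contra hcon
        have : 2 ≤ dd := by omega
        nlinarith
      rw [hdd1] at hTdd hz'
      have hT : T = 2 := by linarith
      rw [hT] at hTE
      -- `2 E = P - 1`, `Gn Mn (1 + E) = 2 E - 1`
      rw [hz'] at hdeg
      have hs : Gn * Mn = 1 ∨ 2 ≤ Gn * Mn := by omega
      rcases hs with hs | hs
      · rw [hs] at hdeg
        have : E = 2 := by linarith
        rw [this] at hTE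
        linarith
      · nlinarith
    · -- `ε = -1`: `dd = 0`
      rw [hε1] at hsum
      have hTdd : T * dd = 0 := by linarith
      have hdd : dd = 0 := by
        rcases mul_eq_zero.mp hTdd with h | h
        · omega
        · exact h
      rw [hdd] at hz'
      have hzE : z = E := by linarith
      rw [hzE] at hdeg
      -- `(T - Gn Mn) E = 1`
      have hE1 : E = 1 := by
        have h3 : (T - Gn * Mn) * E = 1 := by linarith
        exact Int.eq_one_of_mul_eq_one_left hE.le h3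
      rw [hE1] at hdeg hTE
      -- `Gn (K - Mn) = 1`
      have hG1 : Gn = 1 := by
        have h3 : Gn * (K - Mn) = 1 := by
          have : Gn * K = P - 1 := by rw [← hTG]; linarith
          linarith
        exact Int.eq_one_of_mul_eq_one_right hG.le h3
      rw [hG1] at hdeg
      refine ⟨hE1, hG1, by linarith, hdd, hδ1, by rw [hzE, hE1]⟩
  · -- `C = 1`
    left
    rw [hC1'] at h1 h2 hzeq
    have hz2 : P - 1 ≤ 2 * z := by linarith
    have hs : Gn * Mn = 1 := by
      by_contra hcon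
      have : 2 ≤ Gn * Mn := by omega
      nlinarith
    have hG1 : Gn = 1 := Int.eq_one_of_mul_eq_one_right hG.le hs
    have hM1 : Mn = 1 := Int.eq_one_of_mul_eq_one_left hM.le hs
    rw [hs] at hdeg
    have hzP : z = P - 2 := by linarith
    have hδ1 : δ = -1 := by
      rcases hδ with h | h
      · exfalso
        rw [h] at hzeq
        linarith
      · exact h
    rw [hδ1] at hzeq hsum
    have hddE : dd = E - 2 := by linarith
    rcases hε with hε1 | hε1
    · rw [hε1] at hsum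
      have hTdd : T * dd = 0 := by linarith
      have hdd : dd = 0 := by
        rcases mul_eq_zero.mp hTdd with h | h
        · omega
        · exact h
      exact ⟨by linarith, hG1, hM1, hdd, hδ1, hε1, hzP⟩
    · exfalso
      rw [hε1] at hsum
      have hTdd : T * dd = -2 := by linarith
      -- `dd = -1`, `T = 2`, `E = 1`, `P = 3`
      have hddneg : dd < 0 := by
        by_contra hcon
        have : 0 ≤ dd := by omega
        nlinarith
      have hdd1 : dd = -1 := by omega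
      rw [hdd1] at hTdd
      have hT : T = 2 := by linarith
      have hE1 : E = 1 := by linarith
      rw [hT, hE1] at hTE
      linarith

end LOCNUM

variable {G : Type u} [Group G] [Fintype G]

variable {p : ℕ} [Fact p.Prime] {P : Sylow p G} {ζ : IrrCharacter G}

/-- PIECE LOCNUM (§1, pure numerics on a group `A` of order `p`). -/
theorem loc_numerics {A : Type u} [Group A] [Finite A] (hA : Nat.card A = p) (hp : 5 < p)
    (ν : MulAut A) (e g m : ℕ) (he0 : 0 < e) (hg0 : 0 < g) (hm0 : 0 < m) (hed : e * g ∣ p - 1)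
    (he : 2 * e ≤ p - 1) (hνe : ν ^ e = 1)
    (hfpf : ∀ k : ℕ, 0 < k → k < e → ∀ a : A, (ν ^ k) a = a → a = 1)
    (π : A → ℂ) (hπ : IsCharacter A π) (ψ : IrrCharacter A) (hψ : ψ ≠ principalChar A)
    (dd δ ε z : ℤ) (hδ : δ = 1 ∨ δ = -1) (hε : ε = 1 ∨ ε = -1)
    (hval : ∀ a : A, a ≠ 1 →
      π a = (dd : ℂ) + (δ : ℂ) * ∑ k ∈ Finset.range e, (ψ : A → ℂ) ((ν ^ k) a))
    (hz : π 1 = (z : ℂ)) (hzc : z ≡ -ε * (e : ℤ) [ZMOD p])
    (hsum : (((p - 1) / e : ℕ) : ℤ) * dd - δ = ε)
    (hdeg : (g : ℤ) * m * z = (p : ℤ) - 2) :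
    (e = 2 ∧ g = 1 ∧ m = 1 ∧ dd = 0 ∧ δ = -1 ∧ ε = 1 ∧ z = (p : ℤ) - 2) ∨
      (e = 1 ∧ g = 1 ∧ m = p - 2 ∧ dd = 0 ∧ δ = 1 ∧ z = 1) := by
  obtain ⟨c', h1, h2, E1⟩ := LOCNUM.mults hA ν e he0 he hfpf π hπ ψ hψ dd δ z hval hz
  obtain ⟨k, hk⟩ := hed
  have hdiv : (p - 1) / e = g * k := by
    apply Nat.div_eq_of_eq_mul_right he0
    rw [hk]; ring
  have hp1 : 1 ≤ p := by omega
  have hTE : (((p - 1) / e : ℕ) : ℤ) * (e : ℤ) = (p : ℤ) - 1 := by
    have h3 : (p - 1) / e * e = p - 1 := by rw [hdiv, hk]; ring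
    have h4 : (((p - 1) / e * e : ℕ) : ℤ) = ((p - 1 : ℕ) : ℤ) := by rw [h3]
    rw [Nat.cast_sub hp1] at h4
    push_cast at h4
    exact h4
  have hTG : (((p - 1) / e : ℕ) : ℤ) = (g : ℤ) * (k : ℤ) := by
    rw [hdiv]; push_cast; ring
  have he' : (2 : ℤ) * e ≤ (p : ℤ) - 1 := by
    have : ((2 * e : ℕ) : ℤ) ≤ ((p - 1 : ℕ) : ℤ) := by exact_mod_cast he
    rw [Nat.cast_sub hp1] at this
    push_cast at this
    linarith
  have key := LOCNUM.arith (p : ℤ) (e : ℤ) (g : ℤ) (m : ℤ) (((p - 1) / e : ℕ) : ℤ) (k : ℤ) (c' : ℤ)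
    dd δ ε z (by exact_mod_cast hp) (by exact_mod_cast he0) (by exact_mod_cast hg0)
    (by exact_mod_cast hm0) (Int.natCast_nonneg _) hTE hTG he' (Int.natCast_nonneg _) h1 h2 E1 hδ hε
    hsum hdeg
  rcases key with ⟨a1, a2, a3, a4, a5, a6, a7⟩ | ⟨a1, a2, a3, a4, a5, a6⟩
  · left
    exact ⟨by exact_mod_cast a1, by exact_mod_cast a2, by exact_mod_cast a3, a4, a5, a6, a7⟩
  · right
    refine ⟨by exact_mod_cast a1, by exact_mod_cast a2, ?_, a4, a5, a6⟩
    have : (m : ℤ) = ((p - 2 : ℕ) : ℤ) := by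
      rw [Nat.cast_sub (by omega : 2 ≤ p)]
      exact_mod_cast a3
    exact_mod_cast this

end Cfsg.Agent.Helper23.B2
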