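import Mathlib
import Cfsg.Prelude.Def_FusionSystem
import Cfsg.Agent.Lib.Helper25.FusionPrimeIndex2

set_option autoImplicit false

namespace Cfsg.Agent.Helper25

open Cfsg Cfsg.FusionSystem

variable {Ω : Type*} [Group Ω] {S : Subgroup Ω}

theorem stronglyClosed_self (F : FusionSystem S) : F.StronglyClosed S :=
  ⟨le_rfl, fun _ _ _ hφ x => (F.le_of_mem hφ).2 x⟩

section

variable [Finite S] (p : ℕ) [Fact p.Prime] (hS : IsPGroup p S) (F : FusionSystem S)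
  (hF : F.IsSaturated p) (E : FusionSystem S)
  (h : ∀ P : Subgroup Ω, F.IsCentric P → OpPrime F p P ≤ E.autGroup P)
include hS hF h

/-- Frattini factorization `F = Aut_F(S) ∘ E` (AKO I.7.6), with the factor in the invariant core of `E`. -/
theorem exists_aut_comp_of_primeIndex {P : Subgroup Ω} {φ : P →* Ω} (hφ : φ ∈ F.Hom P) :
    ∃ α ∈ F.autGroup S, ∃ φ₀ : P →* Ω, ∃ h0 : φ₀ ∈ (invCore F E).Hom P,
      ∀ x : P, φ x = ((α ⟨φ₀ x, ((invCore F E).le_of_mem h0).2 x⟩ : S) : Ω) := by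
  have hP : P ≤ S := (F.le_of_mem hφ).1
  have hT := stronglyClosed_self F
  have hAI : AutInv F (invCore F E) := invCore_autInv F E
  have hPr : FrattiniPr F (invCore F E) P φ := normal_family_induction' p hS F hF le_rfl
    (fun g hg v hv => S.mul_mem (S.mul_mem (S.inv_mem hg) hv) hg) (FrattiniPr F (invCore F E))
    (frattiniPr_conj hT) (frattiniPr_comp hAI hT)
    (fun hφ h ψ hψ hinv => frattiniPr_inv hAI hT hφ h ψ hψ hinv)
    (fun P hPS hTP α hα => frattiniPr_of_le hT hPS hTP hα)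
    (fun P _ => OpPrime F p P) (fun P _ _ => OpPrime_le_autGroup F p P)
    (fun P _ _ β hβ γ hγ => OpPrime_conj_mem F p hβ hγ)
    (fun P hP _ g hg hgN => normalizerMonoidHom_mem_OpPrime F hS hP hg hgN)
    (fun P hP hess γ hγ => by
      have h1 := OpPrime_le_invCore_autGroup F E p h hess.1 hγ
      rw [mem_autGroup_iff (invCore F E) hP] at h1
      exact ⟨1, Subgroup.one_mem _, _, restrict_mem (invCore F E) inf_le_left h1, fun x => rfl⟩) hφ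
  obtain ⟨α, hα, φ₀, hφ₀, hv⟩ := hPr
  have hle : P ≤ P ⊓ S := le_inf le_rfl hP
  exact ⟨α, hα, φ₀.comp (Subgroup.inclusion hle), restrict_mem _ hle hφ₀,
    fun x => hv ⟨x, ⟨x.2, hP x.2⟩⟩⟩

/-- `p`-elements of `Aut_F(P)` lie in `Aut_E(P)`, for every `P ≤ S`. -/
theorem mem_autGroup_of_orderOf {P : Subgroup Ω} (hP : P ≤ S) {γ : MulAut P}
    (hγA : γ ∈ F.autGroup P) {k : ℕ} (hk : orderOf γ = p ^ k) : γ ∈ E.autGroup P := by
  obtain ⟨Q, ⟨φ, hφ, rfl⟩, hfa, -⟩ := hF P hP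
  have hRS : φ.range ≤ S := range_le F hφ
  haveI : Finite φ.range := finite_of_le_finite hRS
  have hγ' : MulAut.congr (homEquiv F hφ) γ ∈ F.autGroup φ.range := congr_mem_autGroup F hφ hγA
  have hord : orderOf (MulAut.congr (homEquiv F hφ) γ) = p ^ k := by
    rw [← hk]; exact MulEquiv.orderOf_eq (MulAut.congr (homEquiv F hφ)) γ
  have hsyl := (isFullyAutomized_iff F p hRS).mp hfa
  have hpz : IsPGroup p (Subgroup.zpowers (MulAut.congr (homEquiv F hφ) γ)) := by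
    apply IsPGroup.of_card (n := k)
    rw [Nat.card_zpowers, hord]
  obtain ⟨δ, hδ, hle⟩ := hsyl.exists_conj_le ((Subgroup.zpowers_le).mpr hγ') hpz
  have hmem : δ * MulAut.congr (homEquiv F hφ) γ * δ⁻¹ ∈
      Cfsg.conjBy (Subgroup.zpowers (MulAut.congr (homEquiv F hφ) γ)) δ := by
    rw [mem_conjBy]
    have : δ⁻¹ * (δ * MulAut.congr (homEquiv F hφ) γ * δ⁻¹) * δ = MulAut.congr (homEquiv F hφ) γ := by
      group
    rw [this]
    exact Subgroup.mem_zpowers _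
  obtain ⟨g, hg, hgv⟩ := (mem_autInducedBy_iff _).mp (hle hmem)
  -- ψ := δ ∘ φ
  have hδF := (mem_autGroup_iff F hRS δ).mp hδ
  obtain ⟨ψ, hψdef⟩ : ∃ ψ : P →* Ω, ψ = (φ.range.subtype.comp δ.toMonoidHom).comp
      (φ.codRestrict φ.range fun x => ⟨x, rfl⟩) := ⟨_, rfl⟩
  have hψ : ψ ∈ F.Hom P := by rw [hψdef]; exact F.comp_mem hφ hδF _
  have hψv : ∀ x : P, ψ x = ((δ (homEquiv F hφ x) : φ.range) : Ω) := fun x => by rw [hψdef]; rfl
  obtain ⟨α', hα', ψ₀, hψ₀, hv⟩ := exists_aut_comp_of_primeIndex p hS F hF E h hψ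
  have hψ₀E : ψ₀ ∈ E.Hom P := invCore_le F E hψ₀
  have hψ₀S := (E.le_of_mem hψ₀E).2
  obtain ⟨g', hg'⟩ : ∃ g' : S, g' = α'⁻¹ ⟨g, hg⟩ := ⟨_, rfl⟩
  have hαg' : α' g' = ⟨g, hg⟩ := by rw [hg']; simp
  -- the key relation
  have key : ∀ x : P, ψ₀ (γ x) = (g' : Ω) * ψ₀ x * (g' : Ω)⁻¹ := by
    intro x
    have h1 : ((α' ⟨ψ₀ (γ x), hψ₀S _⟩ : S) : Ω) = g * ψ x * g⁻¹ := by
      rw [← hv, hψv, hψv]
      have h2 := hgv (δ (homEquiv F hφ x))
      rw [← h2]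
      show _ = ((δ ((MulAut.congr (homEquiv F hφ) γ) (δ⁻¹ (δ (homEquiv F hφ x)))) : φ.range) : Ω)
      rw [MulAut.inv_apply_self]
      show _ = ((δ (homEquiv F hφ (γ ((homEquiv F hφ).symm (homEquiv F hφ x)))) : φ.range) : Ω)
      rw [MulEquiv.symm_apply_apply]
    have h3 : α' ⟨ψ₀ (γ x), hψ₀S _⟩ = α' (g' * ⟨ψ₀ x, hψ₀S x⟩ * g'⁻¹) := by
      apply Subtype.ext
      rw [h1, map_mul, map_mul, map_inv, hαg', hv x]
      rfl
    have h4 := α'.injective h3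
    exact congrArg Subtype.val h4
  -- assemble
  obtain ⟨θ, hθ, hθv⟩ := E.inv_mem hψ₀E
  have hc : conjHom ψ₀.range (g' : Ω) ∈ E.Hom ψ₀.range := E.conj_mem (range_le E hψ₀E) g'.2
  have hχ₁ : (conjHom ψ₀.range (g' : Ω)).comp (ψ₀.codRestrict ψ₀.range fun x => ⟨x, rfl⟩)
      ∈ E.Hom P := E.comp_mem hψ₀E hc _
  have hχ₁r : ∀ x : P, ((conjHom ψ₀.range (g' : Ω)).comp
      (ψ₀.codRestrict ψ₀.range fun x => ⟨x, rfl⟩)) x ∈ ψ₀.range := by
    intro x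
    show (g' : Ω) * ψ₀ x * (g' : Ω)⁻¹ ∈ ψ₀.range
    rw [← key]; exact ⟨_, rfl⟩
  rw [mem_autGroup_iff E hP]
  refine comp_mem' E hχ₁ hθ hχ₁r (fun x => ?_)
  have e := hom_congr_val θ (hχ₁r x) (⟨γ x, rfl⟩ : ψ₀ (γ x) ∈ ψ₀.range) (key x).symm
  rw [e, hθv]
  rfl

end

end Cfsg.Agent.Helper25
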