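import Mathlib

/-!
# S4427, piece B: the conjugation lemma (helper25)

Over a local domain `O`: an idempotent matrix `M` invariant under a permutation `σ` of the index
set, together with a "coordinate" `d` with `d (σ i) = ω * d i`, `d i ≡ 1` modulo the maximal ideal
and `ω ≠ 1`, has `∑ i, M i (σ i) = 0`.
-/

set_option autoImplicit false

namespace Cfsg.Agent.Helper5.Pim

open Polynomial Matrix

section PieceB

variable (O : Type*) [CommRing O] {I : Type*} [Fintype I] [DecidableEq I]

/-- The permutation matrix used in piece B: `permP O σ j i = [j = σ i]`. -/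
def permP (σ : Equiv.Perm I) : Matrix I I O := fun j i => if j = σ i then 1 else 0

variable {O}

theorem mul_permP_apply (σ : Equiv.Perm I) (N : Matrix I I O) (i k : I) :
    (N * permP O σ) i k = N i (σ k) := by
  simp [Matrix.mul_apply, permP]

theorem permP_mul_apply (σ : Equiv.Perm I) (N : Matrix I I O) (i k : I) :
    (permP O σ * N) i k = N (σ.symm i) k := by
  simp only [Matrix.mul_apply, permP]
  have : ∀ j, (if i = σ j then (1 : O) else 0) * N j k = if j = σ.symm i then N j k else 0 := by
    intro j
    by_cases h : i = σ j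
    · have h' : j = σ.symm i := by rw [h, Equiv.symm_apply_apply]
      rw [if_pos h, if_pos h', one_mul]
    · have h' : ¬ j = σ.symm i := by
        intro h2; apply h; rw [h2, Equiv.apply_symm_apply]
      rw [if_neg h, if_neg h', zero_mul]
  simp only [this]
  simp

theorem commute_permP (σ : Equiv.Perm I) (N : Matrix I I O)
    (hN : ∀ i j, N (σ i) (σ j) = N i j) : Commute N (permP O σ) := by
  ext i k
  rw [mul_permP_apply, permP_mul_apply]
  have := hN (σ.symm i) k
  rw [Equiv.apply_symm_apply] at this
  exact this

theorem trace_mul_permP (σ : Equiv.Perm I) (N : Matrix I I O) :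
    (N * permP O σ).trace = ∑ i, N i (σ i) := by
  simp only [Matrix.trace, Matrix.diag_apply, mul_permP_apply]

end PieceB

/-! ### PIECE B : the conjugation lemma (Mathlib only) -/
theorem sum_perm_eq_zero {O : Type*} [CommRing O] [IsDomain O] [IsLocalRing O]
    {I : Type*} [Fintype I] [DecidableEq I] (σ : Equiv.Perm I) (d : I → O) (ω : O) (hω : ω ≠ 1)
    (hd : ∀ i, d (σ i) = ω * d i) (hd1 : ∀ i, d i - 1 ∈ IsLocalRing.maximalIdeal O)
    (M : Matrix I I O) (hM : M * M = M) (hσ : ∀ i j, M (σ i) (σ j) = M i j) :
    ∑ i, M i (σ i) = 0 := by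
  classical
  rcases isEmpty_or_nonempty I with hI | ⟨⟨i₀⟩⟩
  · simp
  -- the `d i` are units
  have hdu : ∀ i, IsUnit (d i) := by
    intro i
    by_contra h
    have h1 : d i ∈ IsLocalRing.maximalIdeal O := (IsLocalRing.mem_maximalIdeal _).mpr h
    have h2 : (1 : O) ∈ IsLocalRing.maximalIdeal O := by
      have h3 : d i - (d i - 1) = 1 := by ring
      rw [← h3]
      exact Ideal.sub_mem _ h1 (hd1 i)
    exact (IsLocalRing.maximalIdeal.isMaximal O).ne_top ((Ideal.eq_top_iff_one _).mpr h2)
  choose e he using fun i => (hdu i).exists_right_inv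
  have hωu : IsUnit ω := by
    have h1 : IsUnit (ω * d i₀) := by rw [← hd]; exact hdu _
    exact isUnit_of_mul_isUnit_left h1
  obtain ⟨ω', hω'⟩ := hωu.exists_right_inv
  have heσ : ∀ i, e (σ i) = ω' * e i := by
    intro i
    have h1 : d (σ i) * (ω' * e i) = 1 := by
      rw [hd]
      calc ω * d i * (ω' * e i) = (ω * ω') * (d i * e i) := by ring
        _ = 1 := by rw [hω', he, one_mul]
    calc e (σ i) = e (σ i) * (d (σ i) * (ω' * e i)) := by rw [h1, mul_one]
      _ = (d (σ i) * e (σ i)) * (ω' * e i) := by ring
      _ = ω' * e i := by rw [he, one_mul]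
  have hω'1 : ω' ≠ 1 := by
    intro h
    rw [h, mul_one] at hω'
    exact hω hω'
  set t := ∑ i, M i (σ i) with ht
  -- the conjugated idempotent
  set M' : Matrix I I O := fun i j => d i * M i j * e j with hM'def
  have hM' : M' * M' = M' := by
    ext i k
    have h1 := congrFun (congrFun hM i) k
    rw [Matrix.mul_apply] at h1 ⊢
    have : ∀ j, M' i j * M' j k = d i * (M i j * M j k) * e k := by
      intro j
      simp only [hM'def]
      calc d i * M i j * e j * (d j * M j k * e k)
          = (d j * e j) * (d i * (M i j * M j k) * e k) := by ring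
        _ = d i * (M i j * M j k) * e k := by rw [he, one_mul]
    simp only [this]
    rw [← Finset.sum_mul, ← Finset.mul_sum, h1]
  have hσ' : ∀ i j, M' (σ i) (σ j) = M' i j := by
    intro i j
    simp only [hM'def]
    rw [hd, heσ, hσ]
    calc ω * d i * M i j * (ω' * e j) = (ω * ω') * (d i * M i j * e j) := by ring
      _ = d i * M i j * e j := by rw [hω', one_mul]
  have hMP : Commute M (permP O σ) := commute_permP σ M hσ
  have hM'P : Commute M' (permP O σ) := commute_permP σ M' hσ'
  have htr' : (M' * permP O σ).trace = ω' * t := by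
    rw [trace_mul_permP, ht, Finset.mul_sum]
    apply Finset.sum_congr rfl
    intro i _
    simp only [hM'def]
    rw [heσ]
    calc d i * M i (σ i) * (ω' * e i) = (d i * e i) * (ω' * M i (σ i)) := by ring
      _ = ω' * M i (σ i) := by rw [he, one_mul]
  have htr : (M * permP O σ).trace = t := trace_mul_permP σ M
  -- the intertwiner
  set z : Matrix I I O := M' * M + (1 - M') * (1 - M) with hz
  have hzM : z * M = M' * M := by
    have h0 : (1 - M) * M = 0 := by rw [sub_mul, one_mul, hM, sub_self]
    rw [hz, add_mul, mul_assoc, hM, mul_assoc (1 - M'), h0, mul_zero, add_zero]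
  have hM'z : M' * z = M' * M := by
    have h0 : M' * (1 - M') = 0 := by rw [mul_sub, mul_one, hM', sub_self]
    rw [hz, mul_add, ← mul_assoc, hM', ← mul_assoc M', h0, zero_mul, add_zero]
  have hzP : Commute z (permP O σ) :=
    (hM'P.mul_left hMP).add_left
      (((Commute.one_left _).sub_left hM'P).mul_left ((Commute.one_left _).sub_left hMP))
  -- `z` is invertible
  have hdet : IsUnit z.det := by
    set r := IsLocalRing.residue O with hr
    have hrd : ∀ i, r (d i) = 1 := by
      intro i
      have h1 : r (d i - 1) = 0 := (IsLocalRing.residue_eq_zero_iff _).mpr (hd1 i)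
      rw [map_sub, map_one, sub_eq_zero] at h1
      exact h1
    have hre : ∀ i, r (e i) = 1 := by
      intro i
      have h1 : r (d i) * r (e i) = 1 := by rw [← map_mul, he, map_one]
      rw [hrd, one_mul] at h1
      exact h1
    have hmap : r.mapMatrix M' = r.mapMatrix M := by
      ext i j
      change r (d i * M i j * e j) = r (M i j)
      rw [map_mul, map_mul, hrd, hre, one_mul, mul_one]
    have hMbar : r.mapMatrix M * r.mapMatrix M = r.mapMatrix M := by
      rw [← map_mul, hM]
    have hz1 : r.mapMatrix z = 1 := by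
      rw [hz, map_add, map_mul, map_mul, map_sub, map_sub, map_one, hmap, hMbar]
      rw [mul_sub, sub_mul, sub_mul, one_mul, mul_one, one_mul, hMbar]
      abel
    have h1 : r z.det = 1 := by
      rw [RingHom.map_det, hz1, Matrix.det_one]
    by_contra hnu
    have h2 : z.det ∈ IsLocalRing.maximalIdeal O := (IsLocalRing.mem_maximalIdeal _).mpr hnu
    rw [← IsLocalRing.residue_eq_zero_iff, ← hr, h1] at h2
    exact one_ne_zero h2
  obtain ⟨u, hu⟩ := (Matrix.isUnit_iff_isUnit_det z).mpr hdet
  have hconj : (u : Matrix I I O) * (M * permP O σ) = (M' * permP O σ) * (u : Matrix I I O) := by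
    rw [hu, ← mul_assoc, hzM, ← hM'z, mul_assoc, hzP.eq, ← mul_assoc]
  have hteq : (M * permP O σ).trace = (M' * permP O σ).trace := by
    have h1 : M * permP O σ = ((u⁻¹ : (Matrix I I O)ˣ) : Matrix I I O) * ((M' * permP O σ) * (u : Matrix I I O)) := by
      rw [← hconj, ← mul_assoc, Units.inv_mul, one_mul]
    rw [h1, Matrix.trace_mul_comm, mul_assoc, Units.mul_inv, mul_one]
  rw [htr, htr'] at hteq
  have h3 : (ω' - 1) * t = 0 := by rw [sub_mul, one_mul, ← hteq, sub_self]
  rcases mul_eq_zero.mp h3 with h | h
  · exact absurd (sub_eq_zero.mp h) hω'1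
  · exact h

end Cfsg.Agent.Helper5.Pim
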