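import Mathlib
import Cfsg.Agent.Lib.Helper23.S61Defs
import Cfsg.Agent.Lib.Helper12.SL2Unip

/-!
# S2861 piece S61-SL2A: `sl2_conj`
-/

set_option autoImplicit false
set_option linter.unusedVariables false

namespace Cfsg.Agent.Helper23.S61

open Cfsg Cfsg.Agent.Helper12
open scoped Pointwise

theorem s61_sl2a_mem_conj_smul {T : Type*} [Group T] (g x : T) (H : Subgroup T) :
    x ∈ MulAut.conj g • H ↔ g⁻¹ * x * g ∈ H := by
  rw [Subgroup.mem_pointwise_smul_iff_inv_smul_mem]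
  simp [MulAut.smul_def, MulAut.conj_inv_apply]

theorem s61_sl2a_borel_ne_top {F : Type*} [Field F] : borelSL2 F ≠ ⊤ := by
  intro h
  have hdet : (!![0, 1; -1, 0] : Matrix (Fin 2) (Fin 2) F).det = 1 := by
    rw [Matrix.det_fin_two_of]; ring
  let w : Matrix.SpecialLinearGroup (Fin 2) F := ⟨!![0, 1; -1, 0], hdet⟩
  have hw : w ∈ borelSL2 F := by
    rw [h]; exact Subgroup.mem_top _
  rw [mem_borelSL2_iff] at hw
  have : (-1 : F) = 0 := by simpa [w] using hw
  exact one_ne_zero (neg_eq_zero.1 this)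

/-- PIECE S61-SL2A -/
theorem sl2_conj {F : Type*} [Field F] [Fintype F] (p : ℕ) [Fact p.Prime]
    (B Y : Subgroup (Matrix.SpecialLinearGroup (Fin 2) F)) (hB : IsCoatom B) (hYB : Y ≤ B)
    (hBY : ∀ b ∈ B, ∀ y ∈ Y, b * y * b⁻¹ ∈ Y) (hYel : IsElementaryAbelian p Y)
    (hYcard : Nat.card Y = Fintype.card F) :
    CharP F p ∧ ∃ g : Matrix.SpecialLinearGroup (Fin 2) F,
      Y = MulAut.conj g • unipSL2 F ∧ B = MulAut.conj g • borelSL2 F := by
  classical
  have hYp : IsPGroup p Y := by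
    intro y
    refine ⟨1, ?_⟩
    have := hYel.2 y.1 y.2
    rw [pow_one]
    exact Subtype.ext (by simpa using this)
  obtain ⟨n, hn⟩ := hYp.exists_card_eq
  have hFn : Fintype.card F = p ^ n := by rw [← hYcard, hn]
  haveI : CharP F p := charP_of_card_eq_prime_pow hFn
  refine ⟨inferInstance, ?_⟩
  have hsyl : Nat.card Y = p ^ (Nat.card (Matrix.SpecialLinearGroup (Fin 2) F)).factorization p := by
    rw [factorization_card_SL2 p n hFn, hn]
  obtain ⟨g, hg⟩ := exists_conj_unipSL2 (F := F) p (Sylow.ofCard Y hsyl)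
  have hY : Y = MulAut.conj g • unipSL2 F := hg
  refine ⟨g, hY, ?_⟩
  -- B ≤ conj g • borel
  have hle : B ≤ MulAut.conj g • borelSL2 F := by
    intro b hb
    rw [s61_sl2a_mem_conj_smul, ← normalizer_unipSL2, Subgroup.mem_normalizer_iff]
    intro u
    have key : ∀ c ∈ B, ∀ v, v ∈ unipSL2 F → (g⁻¹ * c * g) * v * (g⁻¹ * c * g)⁻¹ ∈ unipSL2 F := by
      intro c hc v hv
      have h1 : g * v * g⁻¹ ∈ Y := by
        rw [hY, s61_sl2a_mem_conj_smul]
        have : g⁻¹ * (g * v * g⁻¹) * g = v := by group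
        rw [this]; exact hv
      have h2 := hBY c hc _ h1
      rw [hY, s61_sl2a_mem_conj_smul] at h2
      have : (g⁻¹ * c * g) * v * (g⁻¹ * c * g)⁻¹ = g⁻¹ * (c * (g * v * g⁻¹) * c⁻¹) * g := by group
      rw [this]; exact h2
    constructor
    · intro hu
      exact key b hb u hu
    · intro hu
      have h3 := key b⁻¹ (inv_mem hb) _ hu
      have : (g⁻¹ * b⁻¹ * g) * ((g⁻¹ * b * g) * u * (g⁻¹ * b * g)⁻¹) * (g⁻¹ * b⁻¹ * g)⁻¹ = u := by
        group
      rw [this] at h3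
      exact h3
  have hne : MulAut.conj g • borelSL2 F ≠ ⊤ := by
    intro h
    apply s61_sl2a_borel_ne_top (F := F)
    rw [eq_top_iff]
    intro x _
    have hx : g * x * g⁻¹ ∈ MulAut.conj g • borelSL2 F := by rw [h]; exact Subgroup.mem_top _
    rw [s61_sl2a_mem_conj_smul] at hx
    have : g⁻¹ * (g * x * g⁻¹) * g = x := by group
    rw [this] at hx
    exact hx
  by_contra hBne
  exact hne (hB.2 _ (lt_of_le_of_ne hle hBne))

end Cfsg.Agent.Helper23.S61
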