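import Mathlib
import Cfsg.Agent.Lib.Helper23.SlhDefs

/-!
# S3050 piece SLH-B6 (helper25): with `α ≡ 1`, `β` is a ring homomorphism.
-/

set_option autoImplicit false
set_option linter.unusedSectionVars false
set_option linter.unusedVariables false

namespace Cfsg.Agent.Helper23.Slh

open Cfsg.Agent.Helper12.NatMod

local notation "SL2" => Matrix.SpecialLinearGroup (Fin 2)

section Blocks

variable {F : Type*} [Field F] [CharP F 2] {R : Type*} [Ring R]

/-- PIECE SLH-B6.  With `α ≡ 1`: `β` is additive, `β 1 = 1`, and `P (hh c) = diag (β c, β c⁻¹)` is multiplicative. -/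
theorem exists_ringHom (h2 : (2 : R) = 0) (P : SL2 F →* Matrix (Fin 2) (Fin 2) R)
    (α β : F → R) (hD : BlockData P α β) (h1 : BlockRel1 α β) (hr2 : BlockRel2 α β)
    (hh_eq : ∀ c : Fˣ, P (hh c) = !![β (c : F), α (c : F) + α ((c⁻¹ : Fˣ) : F);
      α (c : F) + α ((c⁻¹ : Fˣ) : F), β ((c⁻¹ : Fˣ) : F)])
    (hα : ∀ c, α c = 1) :
    ∃ b : F →+* R, (∀ c, P (uu c) = !![1, b c; 0, 1]) ∧ (∀ c, P (ll c) = !![1, 0; b c, 1]) := by
  have h11 : (1 : R) + 1 = 0 := by
    have : (1 : R) + 1 = 2 := by norm_num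
    rw [this, h2]
  have hadd : ∀ c d, β (c + d) = β c + β d := by
    intro c d
    rw [h1.β_add, hα, hα, one_mul, mul_one, add_comm]
  have hhd : ∀ c : Fˣ, P (hh c) = !![β (c : F), 0; 0, β ((c⁻¹ : Fˣ) : F)] := by
    intro c
    rw [hh_eq c, hα, hα, h11]
  have hmulU : ∀ c d : Fˣ, β ((c : F) * d) = β (c : F) * β (d : F) := by
    intro c d
    have hm : P (hh (c * d)) = P (hh c) * P (hh d) := by
      rw [hh_mul, map_mul]
    rw [hhd, hhd, hhd] at hm
    have h00 := congrFun (congrFun hm 0) 0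
    simp [Matrix.mul_apply, Fin.sum_univ_two] at h00
    exact h00
  have hmul : ∀ c d : F, β (c * d) = β c * β d := by
    intro c d
    by_cases hc : c = 0
    · subst hc
      rw [zero_mul, h1.β_zero, zero_mul]
    by_cases hd : d = 0
    · subst hd
      rw [mul_zero, h1.β_zero, mul_zero]
    exact hmulU (Units.mk0 c hc) (Units.mk0 d hd)
  refine ⟨{ toFun := β
            map_one' := h1.β_one
            map_mul' := hmul
            map_zero' := h1.β_zero
            map_add' := hadd }, ?_, ?_⟩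
  · intro c
    rw [hD.uu_eq, hα]
    rfl
  · intro c
    rw [hD.ll_eq, hα]
    rfl

end Blocks

end Cfsg.Agent.Helper23.Slh
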