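import Mathlib
import Cfsg.Agent.Lib.Helper23.SlhDefs

/-!
# S3050 piece SLH-GEXP, core (helper25): transfer of the additive exponent-4 statement (SLH-E4ADD, taken as a
hypothesis `hE4`) to an abelian `Γ`-group.
-/

set_option autoImplicit false
set_option linter.unusedSectionVars false
set_option linter.unusedVariables false

namespace Cfsg.Agent.Helper23.Slh

open Cfsg.Agent.Helper12.NatMod

local notation "SL2" => Matrix.SpecialLinearGroup (Fin 2)

section PartG

universe v

variable {Γ : Type*} [Group Γ] {F : Type*} [Field F] {S : Sys Γ F}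

/-- on an abelian `Γ`-group the action only depends on the image in `SL₂(F)` -/
theorem slh_gexp_phi_congr {Q : Type*} [Group Q] (A : GGrp S Q) (hcomm : ∀ a b : Q, a * b = b * a)
    (g g' : Γ) (h : S.π g = S.π g') (y : Q) : A.φ g y = A.φ g' y := by
  have hk : S.π (g'⁻¹ * g) = 1 := by
    rw [map_mul, map_inv, h, inv_mul_cancel]
  obtain ⟨q, hq⟩ := A.inner _ hk
  have h1 : A.φ (g'⁻¹ * g) y = y := by
    rw [hq y, hcomm q y, mul_assoc, mul_inv_cancel, mul_one]
  have h2 : A.φ g y = A.φ g' (A.φ (g'⁻¹ * g) y) := by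
    rw [← MulAut.mul_apply, ← map_mul, mul_inv_cancel_left]
  rw [h2, h1]

/-- trivial image in `SL₂(F)` means trivial action -/
theorem slh_gexp_phi_one {Q : Type*} [Group Q] (A : GGrp S Q) (hcomm : ∀ a b : Q, a * b = b * a)
    (g : Γ) (h : S.π g = 1) (y : Q) : A.φ g y = y := by
  have := slh_gexp_phi_congr A hcomm g 1 (by rw [h, map_one]) y
  rw [this, map_one]
  rfl

/-- core of SLH-GEXP: the statement of SLH-E4ADD is the hypothesis `hE4` -/
theorem slh_gexp_core [Fintype F] [CharP F 2]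
    (hE4 : ∀ (c : F) (hc0 : c ≠ 0) (hc1 : c ≠ 1)
      (Q' : Type v) [AddCommGroup Q'] (Z : AddSubgroup Q') (hZ : ∀ y, y ∈ Z ↔ y + y = 0)
      (T B T' : Q' ≃+ Q') (hTT : ∀ y, T (T y) = y) (hBB : ∀ y, B (B y) = y)
      (hTB : ∀ y, T (B y) = B (T y))
      (kz : ℕ) (ψZ : Z ≃+ (Fin kz → Fin 2 → F)) (kq : ℕ) (ψQ : Q' →+ (Fin kq → Fin 2 → F))
      (hψQ : Function.Surjective ψQ) (hker : ∀ y, ψQ y = 0 ↔ y ∈ Z)
      (hZT : ∀ z z' : Z, (z' : Q') = T z → ∀ i,
        ψZ z' i = ((uu (1 : F) : SL2 F) : Matrix (Fin 2) (Fin 2) F).mulVec (ψZ z i))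
      (hZB : ∀ z z' : Z, (z' : Q') = B z → ∀ i,
        ψZ z' i = ((uu c : SL2 F) : Matrix (Fin 2) (Fin 2) F).mulVec (ψZ z i))
      (hZT' : ∀ z z' : Z, (z' : Q') = T' z → ∀ i,
        ψZ z' i = ((ll (1 : F) : SL2 F) : Matrix (Fin 2) (Fin 2) F).mulVec (ψZ z i))
      (hQT : ∀ y i, ψQ (T y) i = ((uu (1 : F) : SL2 F) : Matrix (Fin 2) (Fin 2) F).mulVec (ψQ y i))
      (hQB : ∀ y i, ψQ (B y) i = ((uu c : SL2 F) : Matrix (Fin 2) (Fin 2) F).mulVec (ψQ y i))
      (hQT' : ∀ y i, ψQ (T' y) i = ((ll (1 : F) : SL2 F) : Matrix (Fin 2) (Fin 2) F).mulVec (ψQ y i)),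
      ∀ y : Q', y + y = 0)
    (hF : ∃ s : F, s ≠ 0 ∧ s ≠ 1) {Q : Type v} [Group Q] [Finite Q]
    (A : GGrp S Q) (hcomm : ∀ a b : Q, a * b = b * a) (Z : Subgroup Q) [Z.Normal]
    (hZmem : ∀ y, y ∈ Z ↔ y * y = 1)
    (AZ : GGrp S ↥Z) (hAZ : ∀ (g : Γ) (z : ↥Z), ((AZ.φ g z : ↥Z) : Q) = A.φ g (z : Q))
    (AQ : GGrp S (Q ⧸ Z)) (hAQ : ∀ (g : Γ) (y : Q), AQ.φ g (QuotientGroup.mk y) = QuotientGroup.mk (A.φ g y))
    (hZ : AZ.NF) (hQ : AQ.NF) : ∀ y : Q, y * y = 1 := by
  obtain ⟨c, hc0, hc1⟩ := hF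
  obtain ⟨kz, ψ, hψ⟩ := hZ
  obtain ⟨kq, ψ', hψ'⟩ := hQ
  -- preimages
  obtain ⟨gT, hgT⟩ := S.surj (uu (1 : F))
  obtain ⟨gB, hgB⟩ := S.surj (uu c)
  obtain ⟨gT', hgT'⟩ := S.surj (ll (1 : F))
  have h2F : ∀ a : F, a + a = 0 := fun a => CharTwo.add_self_eq_zero a
  -- the commutative structure
  letI iC : CommGroup Q := { (inferInstance : Group Q) with mul_comm := hcomm }
  -- additive version of `Z`
  let Za : AddSubgroup (Additive Q) :=
    { carrier := {y | Additive.toMul y ∈ Z}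
      add_mem' := fun {a b} ha hb => Z.mul_mem ha hb
      zero_mem' := Z.one_mem
      neg_mem' := fun {a} ha => Z.inv_mem ha }
  have hZa : ∀ y : Additive Q, y ∈ Za ↔ y + y = 0 := by
    intro y
    show Additive.toMul y ∈ Z ↔ _
    rw [hZmem]
    constructor
    · intro h
      exact congrArg Additive.ofMul h
    · intro h
      exact congrArg Additive.toMul h
  -- the three automorphisms
  let T : Additive Q ≃+ Additive Q := MulEquiv.toAdditive (A.φ gT)
  let B : Additive Q ≃+ Additive Q := MulEquiv.toAdditive (A.φ gB)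
  let T' : Additive Q ≃+ Additive Q := MulEquiv.toAdditive (A.φ gT')
  have hTapp : ∀ y : Additive Q, T y = Additive.ofMul (A.φ gT (Additive.toMul y)) := fun y => rfl
  have hBapp : ∀ y : Additive Q, B y = Additive.ofMul (A.φ gB (Additive.toMul y)) := fun y => rfl
  have hT'app : ∀ y : Additive Q, T' y = Additive.ofMul (A.φ gT' (Additive.toMul y)) := fun y => rfl
  have hTT : ∀ y, T (T y) = y := by
    intro y
    rw [hTapp, hTapp]
    show Additive.ofMul (A.φ gT (A.φ gT (Additive.toMul y))) = y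
    rw [← MulAut.mul_apply, ← map_mul]
    rw [slh_gexp_phi_one A hcomm (gT * gT) (by
      rw [map_mul, hgT, ← uu_add, h2F, uu_zero])]
    rfl
  have hBB : ∀ y, B (B y) = y := by
    intro y
    rw [hBapp, hBapp]
    show Additive.ofMul (A.φ gB (A.φ gB (Additive.toMul y))) = y
    rw [← MulAut.mul_apply, ← map_mul]
    rw [slh_gexp_phi_one A hcomm (gB * gB) (by
      rw [map_mul, hgB, ← uu_add, h2F, uu_zero])]
    rfl
  have hTB : ∀ y, T (B y) = B (T y) := by
    intro y
    rw [hTapp, hBapp, hTapp, hBapp]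
    show Additive.ofMul (A.φ gT (A.φ gB (Additive.toMul y)))
      = Additive.ofMul (A.φ gB (A.φ gT (Additive.toMul y)))
    rw [← MulAut.mul_apply, ← map_mul, ← MulAut.mul_apply, ← map_mul]
    rw [slh_gexp_phi_congr A hcomm (gT * gB) (gB * gT) (by
      rw [map_mul, map_mul, hgT, hgB, ← uu_add, ← uu_add, add_comm])]
  -- coordinates on `Z`
  let ψZ : Za ≃+ (Fin kz → Fin 2 → F) :=
    { toFun := fun z => Multiplicative.toAdd (ψ ⟨Additive.toMul z.1, z.2⟩)
      invFun := fun v => ⟨Additive.ofMul ((ψ.symm (Multiplicative.ofAdd v) : ↥Z) : Q),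
        (ψ.symm (Multiplicative.ofAdd v)).2⟩
      left_inv := by
        intro z
        apply Subtype.ext
        show Additive.ofMul ((ψ.symm (Multiplicative.ofAdd (Multiplicative.toAdd
          (ψ ⟨Additive.toMul z.1, z.2⟩))) : ↥Z) : Q) = z.1
        rw [ofAdd_toAdd, MulEquiv.symm_apply_apply]
        rfl
      right_inv := by
        intro v
        show Multiplicative.toAdd (ψ ⟨((ψ.symm (Multiplicative.ofAdd v) : ↥Z) : Q), _⟩) = v
        have : (⟨((ψ.symm (Multiplicative.ofAdd v) : ↥Z) : Q),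
            (ψ.symm (Multiplicative.ofAdd v)).2⟩ : ↥Z) = ψ.symm (Multiplicative.ofAdd v) := rfl
        rw [this, MulEquiv.apply_symm_apply]
        rfl
      map_add' := by
        intro a b
        show Multiplicative.toAdd (ψ ⟨Additive.toMul (a.1 + b.1), _⟩) = _
        have : (⟨Additive.toMul (a.1 + b.1), (a + b).2⟩ : ↥Z)
            = ⟨Additive.toMul a.1, a.2⟩ * ⟨Additive.toMul b.1, b.2⟩ := rfl
        rw [this, map_mul]
        rfl }
  have hψZapp : ∀ z : Za, ψZ z = Multiplicative.toAdd (ψ ⟨Additive.toMul z.1, z.2⟩) := fun z => rfl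
  -- coordinates on `Q / Z`
  let ψQ : Additive Q →+ (Fin kq → Fin 2 → F) :=
    { toFun := fun y => Multiplicative.toAdd (ψ' (QuotientGroup.mk (Additive.toMul y)))
      map_zero' := by
        show Multiplicative.toAdd (ψ' (QuotientGroup.mk (1 : Q))) = 0
        rw [QuotientGroup.mk_one, map_one]
        rfl
      map_add' := by
        intro a b
        show Multiplicative.toAdd (ψ' (QuotientGroup.mk (Additive.toMul a * Additive.toMul b))) = _
        rw [QuotientGroup.mk_mul, map_mul]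
        rfl }
  have hψQapp : ∀ y : Additive Q,
      ψQ y = Multiplicative.toAdd (ψ' (QuotientGroup.mk (Additive.toMul y))) := fun y => rfl
  have hψQs : Function.Surjective ψQ := by
    intro v
    obtain ⟨yb, hyb⟩ := ψ'.surjective (Multiplicative.ofAdd v)
    obtain ⟨y, rfl⟩ := QuotientGroup.mk_surjective yb
    refine ⟨Additive.ofMul y, ?_⟩
    rw [hψQapp]
    show Multiplicative.toAdd (ψ' (QuotientGroup.mk y)) = v
    rw [hyb]
    rfl
  have hker : ∀ y, ψQ y = 0 ↔ y ∈ Za := by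
    intro y
    rw [hψQapp]
    show _ ↔ Additive.toMul y ∈ Z
    rw [← QuotientGroup.eq_one_iff]
    constructor
    · intro h
      have h1 : ψ' (QuotientGroup.mk (Additive.toMul y)) = 1 := by
        apply Multiplicative.toAdd.injective
        rw [h]; rfl
      exact (MulEquiv.map_eq_one_iff ψ').1 h1
    · intro h
      rw [h, map_one]
      rfl
  -- equivariance on `Z`
  have hZgen : ∀ (g : Γ) (z z' : Za), (z' : Additive Q) = Additive.ofMul (A.φ g (Additive.toMul z.1)) →
      ∀ i, ψZ z' i = ((S.π g : SL2 F) : Matrix (Fin 2) (Fin 2) F).mulVec (ψZ z i) := by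
    intro g z z' hzz' i
    rw [hψZapp, hψZapp]
    have : (⟨Additive.toMul z'.1, z'.2⟩ : ↥Z) = AZ.φ g ⟨Additive.toMul z.1, z.2⟩ := by
      apply Subtype.ext
      rw [hAZ]
      show Additive.toMul z'.1 = _
      rw [hzz']
      rfl
    rw [this]
    exact hψ g _ i
  have hQgen : ∀ (g : Γ) (y : Additive Q) i,
      ψQ (Additive.ofMul (A.φ g (Additive.toMul y))) i
        = ((S.π g : SL2 F) : Matrix (Fin 2) (Fin 2) F).mulVec (ψQ y i) := by
    intro g y i
    rw [hψQapp, hψQapp]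
    show Multiplicative.toAdd (ψ' (QuotientGroup.mk (A.φ g (Additive.toMul y)))) i = _
    rw [← hAQ]
    exact hψ' g _ i
  have key := hE4 c hc0 hc1 (Additive Q) Za hZa T B T' hTT hBB hTB kz ψZ kq ψQ hψQs hker
    (by intro z z' h i; have := hZgen gT z z' (by rw [h, hTapp]) i; rwa [hgT] at this)
    (by intro z z' h i; have := hZgen gB z z' (by rw [h, hBapp]) i; rwa [hgB] at this)
    (by intro z z' h i; have := hZgen gT' z z' (by rw [h, hT'app]) i; rwa [hgT'] at this)
    (by intro y i; have := hQgen gT y i; rw [hgT] at this; rw [hTapp]; exact this)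
    (by intro y i; have := hQgen gB y i; rw [hgB] at this; rw [hBapp]; exact this)
    (by intro y i; have := hQgen gT' y i; rw [hgT'] at this; rw [hT'app]; exact this)
  intro y
  have := key (Additive.ofMul y)
  exact congrArg Additive.toMul this

end PartG

end Cfsg.Agent.Helper23.Slh
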