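import Mathlib
import Cfsg.Agent.Lib.Helper24.IPDefs
import Cfsg.Agent.Lib.Helper24.Cd3Main
import Cfsg.Agent.Lib.Helper24.Prim2C

/-!
# Isaacs–Passman, piece B5 (helper25)

If `Q` is "monolithic over `Q'`" (every nontrivial normal subgroup contains `Q'`) and `Q'` is
nonabelian, then `Q` has an irreducible character of degree at least `5`.
-/

set_option autoImplicit false
set_option linter.style.haveILetI false

namespace Cfsg.Agent.Helper25.IPB5

open Cfsg Cfsg.Agent.Helper24 Cfsg.Agent.Helper24.IP Cfsg.Agent.Helper5 Cfsg.Agent.Helper18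
open scoped commutatorElement

universe u

variable {Q : Type u} [Group Q] [Finite Q]

omit [Finite Q] in
/-- `Q'` is perfect. -/
theorem commutator_le_comm (hQ : Mono Q)
    (hnab : ∃ a ∈ commutator Q, ∃ c ∈ commutator Q, a * c ≠ c * a) :
    commutator Q ≤ ⁅commutator Q, commutator Q⁆ := by
  apply hQ.min _ (Subgroup.commutator_normal _ _)
  intro h
  obtain ⟨a, ha, c, hc, hac⟩ := hnab
  have h1 : ⁅a, c⁆ ∈ ⁅commutator Q, commutator Q⁆ := Subgroup.commutator_mem_commutator ha hc
  rw [h, Subgroup.mem_bot] at h1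
  exact hac (commutatorElement_eq_one_iff_mul_comm.mp h1)

omit [Finite Q] in
theorem comm_comm_eq (hQ : Mono Q)
    (hnab : ∃ a ∈ commutator Q, ∃ c ∈ commutator Q, a * c ≠ c * a) :
    ⁅commutator Q, commutator Q⁆ = commutator Q :=
  le_antisymm (Subgroup.commutator_le_left _ _) (commutator_le_comm hQ hnab)

omit [Finite Q] in
theorem derivedSeries_three (hQ : Mono Q)
    (hnab : ∃ a ∈ commutator Q, ∃ c ∈ commutator Q, a * c ≠ c * a) :
    derivedSeries Q 3 = commutator Q := by
  have h1 : derivedSeries Q 1 = commutator Q := by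
    rw [derivedSeries_succ, derivedSeries_zero, commutator_def]
  have h2 : derivedSeries Q 2 = commutator Q := by
    rw [derivedSeries_succ, h1, comm_comm_eq hQ hnab]
  rw [derivedSeries_succ, h2, comm_comm_eq hQ hnab]

omit [Finite Q] in
theorem center_eq_bot (hQ : Mono Q)
    (hnab : ∃ a ∈ commutator Q, ∃ c ∈ commutator Q, a * c ≠ c * a) :
    Subgroup.center Q = ⊥ := by
  by_contra h
  have h1 := hQ.min _ inferInstance h
  obtain ⟨a, ha, c, hc, hac⟩ := hnab
  exact hac (Subgroup.mem_center_iff.mp (h1 hc) a)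

/-- A nonlinear irreducible representation of `Q` is faithful. -/
theorem injective_of_degree_ne_one (hQ : Mono Q) {n : ℕ} (ρ : Representation ℂ Q (Fin n → ℂ))
    (hirr : ρ.IsIrreducible) (hdeg : charDegree ρ.character ≠ 1) : Function.Injective ρ := by
  rw [← MonoidHom.ker_eq_bot_iff]
  by_contra hker
  have hle := hQ.min _ (MonoidHom.normal_ker ρ) hker
  have hχ : IsIrrCharacter Q ρ.character := ⟨n, ρ, hirr, rfl⟩
  have hN : ∀ x ∈ commutator Q, ρ.character x = ρ.character 1 := by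
    intro x hx
    have h1 : ρ x = 1 := MonoidHom.mem_ker.mp (hle hx)
    change LinearMap.trace ℂ _ (ρ x) = LinearMap.trace ℂ _ (ρ 1)
    rw [h1, map_one ρ]
  obtain ⟨ψ, hψ, hcomp⟩ := exists_deflate (commutator Q) hχ hN
  have hcomm : ∀ a b : Q ⧸ commutator Q, a * b = b * a := fun a b =>
    mul_comm (G := Abelianization Q) a b
  have h1 : charDegree ψ = 1 := Cd2.linear_of_comm hcomm hψ
  apply hdeg
  rw [hcomp]
  exact (Cd2.charDegree_comp (QuotientGroup.mk' (commutator Q)) ψ).trans h1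

/-- An involution of `Q'` acts as a scalar in a representation of degree two. -/
theorem scalar_of_involution (ρ : Representation ℂ Q (Fin 2 → ℂ)) {s : Q}
    (hs : s ∈ commutator Q) (hss : s * s = 1) :
    ∃ c : ℂ, ρ s = c • (1 : Module.End ℂ (Fin 2 → ℂ)) := by
  letI : Fintype Q := Fintype.ofFinite Q
  have hdet : LinearMap.det (ρ s) = 1 := by
    have h1 : s ∈ (Prim2.detHom ρ).ker := Abelianization.commutator_subset_ker _ hs
    have h2 := MonoidHom.mem_ker.mp h1
    have h3 := Prim2.detHom_apply ρ s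
    rw [h2] at h3
    simpa using h3.symm
  set A := LinearMap.toMatrix' (ρ s) with hA
  have hAA : A * A = 1 := by
    rw [hA, ← LinearMap.toMatrix'_mul, ← map_mul, hss, map_one, LinearMap.toMatrix'_one]
  have hdA : A.det = 1 := by rw [hA, LinearMap.det_toMatrix', hdet]
  have hch := Prim2.cayley_hamilton_two A
  rw [hAA, hdA, one_smul] at hch
  have htr : A.trace ≠ 0 := by
    intro h0
    rw [h0, zero_smul, sub_zero] at hch
    have := congrFun (congrFun hch 0) 0
    norm_num at this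
  have h1 : A.trace • A = (2 : ℂ) • (1 : Matrix (Fin 2) (Fin 2) ℂ) := by
    rw [two_smul]
    have h2 : (1 : Matrix (Fin 2) (Fin 2) ℂ) + 1 - A.trace • A = 0 := by
      rw [← hch]; abel
    exact (sub_eq_zero.mp h2).symm
  have hA2 : A = (2 / A.trace) • (1 : Matrix (Fin 2) (Fin 2) ℂ) := by
    rw [div_eq_inv_mul, mul_smul, ← h1, smul_smul, inv_mul_cancel₀ htr, one_smul]
  refine ⟨2 / A.trace, ?_⟩
  apply LinearMap.toMatrix'.injective
  rw [← hA, map_smul, LinearMap.toMatrix'_one]
  exact hA2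

/-- **Piece B5.**  If `Q'` is nonabelian then `b(Q) ≥ 5`. -/
theorem five_le_of_nonabelian {Q : Type u} [Group Q] [Finite Q] {b : ℕ} (hb : Bdd Q b)
    (hQ : Mono Q) (hnab : ∃ a ∈ commutator Q, ∃ c ∈ commutator Q, a * c ≠ c * a) : 5 ≤ b := by
  classical
  by_contra hlt
  push Not at hlt
  letI : Fintype Q := Fintype.ofFinite Q
  letI : Fintype (commutator Q) := Fintype.ofFinite _
  by_cases h2 : ∃ χ : Q → ℂ, IsIrrCharacter Q χ ∧ charDegree χ = 2
  swap
  · have hcd : Cd3.IsCd3 Q 3 4 := by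
      intro χ hχ
      have h1 := hb χ hχ
      have h3 := charDegree_pos hχ
      have h4 : charDegree χ ≠ 2 := fun h => h2 ⟨χ, hχ, h⟩
      omega
    have h3 := Cd3.cd3_main (Nat.card Q) Q rfl 3 4 hcd
    rw [derivedSeries_three hQ hnab] at h3
    exact hQ.nab h3
  obtain ⟨χ, hχ, hdeg⟩ := h2
  obtain ⟨n, ρ, hirr, rfl⟩ := hχ
  have hn : n = 2 := by
    have h1 : charDegree ρ.character = n :=
      charDegree_natCast n (by rw [Representation.char_one]; simp)
    omega
  subst hn
  have hinj := injective_of_degree_ne_one hQ ρ hirr (by omega)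
  have hχ : IsIrrCharacter Q ρ.character := ⟨2, ρ, hirr, rfl⟩
  have hχM : IsCharacter (commutator Q) (fun m : commutator Q => ρ.character m) :=
    isCharacter_restrict (commutator Q) (isCharacter_of_isIrrCharacter hχ)
  have hne : (fun m : commutator Q => ρ.character m) ≠ 0 := by
    intro h0
    have h1 := congrFun h0 1
    simp only [Subgroup.coe_one, Pi.zero_apply, Representation.char_one] at h1
    simp at h1
  obtain ⟨θ, hθ, hcon⟩ := exists_constituent hχM hne
  obtain ⟨ρ', hρ', hsum⟩ := exists_add_of_constituent hχM hθ hcon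
  have h1 := congrFun hsum 1
  simp only [Pi.add_apply, Subgroup.coe_one] at h1
  rw [irr_one_eq_charDegree hχ, irr_one_eq_charDegree hθ, char_one_eq_charDegree hρ', hdeg] at h1
  have h2 : 2 = charDegree θ + charDegree ρ' := by exact_mod_cast h1
  have hθpos := charDegree_pos hθ
  rcases (by omega : charDegree θ = 1 ∧ charDegree ρ' = 1 ∨ charDegree θ = 2) with
    ⟨hθ1, hρ1⟩ | hθ2
  · obtain ⟨a, ha, c, hc, hac⟩ := hnab
    have hθ1' : θ 1 = 1 := by rw [irr_one_eq_charDegree hθ, hθ1]; simp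
    have hρ1' : ρ' 1 = 1 := by rw [char_one_eq_charDegree hρ', hρ1]; simp
    have hmulθ := char_mul_of_degree_one (isCharacter_of_isIrrCharacter hθ) hθ1'
    have hmulρ := char_mul_of_degree_one hρ' hρ1'
    let a' : commutator Q := ⟨a, ha⟩
    let c' : commutator Q := ⟨c, hc⟩
    have key : ∀ φ : commutator Q → ℂ, (∀ x y, φ (x * y) = φ x * φ y) → φ 1 = 1 →
        φ (a' * c' * a'⁻¹ * c'⁻¹) = 1 := by
      intro φ hφ h1
      rw [hφ, hφ, hφ]
      have e1 : φ a' * φ a'⁻¹ = 1 := by rw [← hφ, mul_inv_cancel, h1]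
      have e2 : φ c' * φ c'⁻¹ = 1 := by rw [← hφ, mul_inv_cancel, h1]
      calc φ a' * φ c' * φ a'⁻¹ * φ c'⁻¹ = (φ a' * φ a'⁻¹) * (φ c' * φ c'⁻¹) := by ring
        _ = 1 := by rw [e1, e2, one_mul]
    have hx := congrFun hsum (a' * c' * a'⁻¹ * c'⁻¹)
    simp only [Pi.add_apply] at hx
    rw [key θ hmulθ hθ1', key ρ' hmulρ hρ1'] at hx
    have hx2 : ρ.character (a * c * a⁻¹ * c⁻¹) = Module.finrank ℂ (Fin 2 → ℂ) := by
      have h3 : ((a' * c' * a'⁻¹ * c'⁻¹ : commutator Q) : Q) = a * c * a⁻¹ * c⁻¹ := rfl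
      rw [← h3, hx]
      simp
      norm_num
    have hx3 := (char_eq_finrank_iff ρ _).mp hx2
    have hx4 : a * c * a⁻¹ * c⁻¹ = 1 := hinj (by rw [hx3, map_one])
    apply hac
    have h5 := congrArg (· * c * a) hx4
    simpa [mul_assoc] using h5
  · have hdvd : 2 ∣ Nat.card (commutator Q) := hθ2 ▸ charDegree_dvd_card hθ
    haveI : Fact (Nat.Prime 2) := ⟨Nat.prime_two⟩
    obtain ⟨s, hs⟩ := exists_prime_orderOf_dvd_card' 2 hdvd
    have hss : (s : Q) * (s : Q) = 1 := by
      have h3 : s ^ 2 = 1 := hs ▸ pow_orderOf_eq_one s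
      have h4 : ((s ^ 2 : commutator Q) : Q) = 1 := by rw [h3]; rfl
      rw [← h4, pow_two]; rfl
    obtain ⟨c, hc⟩ := scalar_of_involution ρ s.2 hss
    have hcen : (s : Q) ∈ Subgroup.center Q :=
      (Prim2.mem_center_iff_scalar ρ hirr hinj s).mpr ⟨c, hc⟩
    rw [center_eq_bot hQ hnab, Subgroup.mem_bot] at hcen
    have hs1 : s = 1 := Subtype.ext hcen
    rw [hs1, orderOf_one] at hs
    omega

end Cfsg.Agent.Helper25.IPB5
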