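import Mathlib
import Cfsg.Prelude.Def_Local
import Cfsg.Prelude.Def_Transfer
import Cfsg.Agent.Lib.Helper26.TIDefs
import Cfsg.Agent.Lib.Helper26.TIDefs2
import Cfsg.Agent.Lib.Helper26.TIDefs3

/-!
# S1786 piece TI-LOCA (helper25): the easy fields of `Loc V (Ps V)`.
-/

set_option autoImplicit false

namespace Cfsg.Agent.Helper26.TI

variable {G : Type*} [Group G]

section LocPieces

theorem tiloca_pCore_normal (p : ℕ) (H : Type*) [Group H] : (Cfsg.pCore p H).Normal :=
  Subgroup.sSup_normal _ (fun _ h => h.1)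

theorem tiloca_pCore_isPGroup (p : ℕ) (H : Type*) [Group H] : IsPGroup p (Cfsg.pCore p H) :=
  Sylow.sSup_of_normal _ (fun _ h => h.2) (fun _ h => h.1)

theorem tiloca_mem_Qs {V : Subgroup G} {x : G} :
    x ∈ Qs V ↔ ∃ hx : x ∈ Subgroup.normalizer (V : Set G),
      (⟨x, hx⟩ : ↥(Subgroup.normalizer (V : Set G))) ∈ Cfsg.pCore 2 ↥(Subgroup.normalizer (V : Set G)) := by
  constructor
  · rintro ⟨y, hy, rfl⟩
    exact ⟨y.2, hy⟩
  · rintro ⟨hx, h⟩
    exact ⟨⟨x, hx⟩, h, rfl⟩

theorem tiloca_mem_normalizer_of_cj {V : Subgroup G} {m : G} (hm : cj m V = V) :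
    m ∈ Subgroup.normalizer (V : Set G) := by
  rw [Subgroup.mem_normalizer_iff]
  intro v
  constructor
  · intro hv
    rw [← hm]
    exact conj_mem_cj hv
  · intro hv
    rw [← hm, mem_cj'] at hv
    have : m⁻¹ * (m * v * m⁻¹) * m = v := by group
    rwa [this] at hv

theorem tiloca_cj_Qs_le {V : Subgroup G} {m : G} (hm : cj m V = V) : cj m (Qs V) ≤ Qs V := by
  have hmN := tiloca_mem_normalizer_of_cj hm
  intro x hx
  rw [mem_cj] at hx
  obtain ⟨k, hk, rfl⟩ := hx
  rw [tiloca_mem_Qs] at hk ⊢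
  obtain ⟨hkN, hkQ⟩ := hk
  refine ⟨(Subgroup.normalizer (V : Set G)).mul_mem
    ((Subgroup.normalizer (V : Set G)).mul_mem hmN hkN)
    ((Subgroup.normalizer (V : Set G)).inv_mem hmN), ?_⟩
  have hn := tiloca_pCore_normal 2 ↥(Subgroup.normalizer (V : Set G))
  have := hn.conj_mem ⟨k, hkN⟩ hkQ ⟨m, hmN⟩
  exact this

/-- TI-LOCA: the easy fields. -/
theorem locA_easy [Finite G] (V : Subgroup G) (hV : Cfsg.IsElementaryAbelian 2 V) :
    V ≤ Ps V ∧ IsPGroup 2 (Ps V) ∧ (∀ x ∈ Ps V, ∀ v ∈ V, x * v = v * x) ∧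
      (∀ m : G, cj m V = V → cj m (Qs V) = Qs V) ∧ (∀ m : G, cj m V = V → cj m (Ps V) = Ps V) := by
  obtain ⟨hcomm, hexp⟩ := hV
  have hVN : V ≤ Subgroup.normalizer (V : Set G) := Subgroup.le_normalizer
  have hQ : ∀ m : G, cj m V = V → cj m (Qs V) = Qs V := by
    intro m hm
    apply le_antisymm (tiloca_cj_Qs_le hm)
    have hm' : cj m⁻¹ V = V := by
      conv_lhs => rw [← hm]
      exact cj_inv_cj m V
    have := cj_mono (x := m) (tiloca_cj_Qs_le hm')
    rwa [cj_cj_inv] at this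
  have hC : ∀ m : G, cj m V = V →
      cj m (Subgroup.centralizer (V : Set G)) = Subgroup.centralizer (V : Set G) := by
    have hle : ∀ m : G, cj m V = V →
        cj m (Subgroup.centralizer (V : Set G)) ≤ Subgroup.centralizer (V : Set G) := by
      intro m hm x hx
      rw [mem_cj] at hx
      obtain ⟨k, hk, rfl⟩ := hx
      rw [Subgroup.mem_centralizer_iff] at hk ⊢
      intro v hv
      have hv' : m⁻¹ * v * m ∈ V := by
        have : v ∈ cj m V := by rw [hm]; exact hv
        exact mem_cj'.1 this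
      have := hk _ hv'
      calc v * (m * k * m⁻¹) = m * ((m⁻¹ * v * m) * k) * m⁻¹ := by group
        _ = m * (k * (m⁻¹ * v * m)) * m⁻¹ := by rw [this]
        _ = m * k * m⁻¹ * v := by group
    intro m hm
    apply le_antisymm (hle m hm)
    have hm' : cj m⁻¹ V = V := by
      conv_lhs => rw [← hm]
      exact cj_inv_cj m V
    have := cj_mono (x := m) (hle m⁻¹ hm')
    rwa [cj_cj_inv] at this
  refine ⟨?_, ?_, ?_, hQ, ?_⟩
  · -- `V ≤ Ps V`
    intro v hv
    refine Subgroup.mem_inf.2 ⟨?_, ?_⟩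
    · rw [tiloca_mem_Qs]
      refine ⟨hVN hv, ?_⟩
      have hnorm : (V.subgroupOf (Subgroup.normalizer (V : Set G))).Normal :=
        Subgroup.normal_in_normalizer
      have hp : IsPGroup 2 (V.subgroupOf (Subgroup.normalizer (V : Set G))) := by
        intro x
        refine ⟨1, ?_⟩
        apply Subtype.ext
        apply Subtype.ext
        have := hexp (x : ↥(Subgroup.normalizer (V : Set G))) x.2
        simpa using this
      have hle : V.subgroupOf (Subgroup.normalizer (V : Set G)) ≤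
          Cfsg.pCore 2 ↥(Subgroup.normalizer (V : Set G)) := le_sSup ⟨hnorm, hp⟩
      exact hle (Subgroup.mem_subgroupOf.2 hv)
    · rw [Subgroup.mem_centralizer_iff]
      intro w hw
      have := hcomm.is_comm.comm (⟨w, hw⟩ : ↥V) ⟨v, hv⟩
      exact congrArg Subtype.val this
  · -- 2-group
    have h1 : IsPGroup 2 (Qs V) :=
      (tiloca_pCore_isPGroup 2 ↥(Subgroup.normalizer (V : Set G))).map _
    exact h1.to_le inf_le_left
  · intro x hx v hv
    have := (Subgroup.mem_inf.1 hx).2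
    rw [Subgroup.mem_centralizer_iff] at this
    exact (this v hv).symm
  · intro m hm
    rw [cj_inf, hQ m hm, hC m hm]

end LocPieces

end Cfsg.Agent.Helper26.TI
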