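import Mathlib

set_option autoImplicit false

/-! Basic permutation lemmas for the fusion system of the alternating groups. -/

namespace Cfsg.Agent.Helper25.AltFus

open Equiv Equiv.Perm

section general

variable {G : Type*} [Group G]

/-- elements of the closure of a pairwise commuting set commute. -/
theorem commute_of_mem_closure {s : Set G} (hcomm : ∀ a ∈ s, ∀ b ∈ s, a * b = b * a)
    {x y : G} (hx : x ∈ Subgroup.closure s) (hy : y ∈ Subgroup.closure s) : x * y = y * x := by
  have h1 : Subgroup.closure s ≤ Subgroup.centralizer (s : Set G) := by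
    rw [Subgroup.closure_le]
    intro a ha
    rw [SetLike.mem_coe, Subgroup.mem_centralizer_iff]
    intro b hb
    exact hcomm b hb a ha
  have h2 : Subgroup.closure s ≤ Subgroup.centralizer (Subgroup.closure s : Set G) := by
    rw [Subgroup.closure_le]
    intro a ha
    rw [SetLike.mem_coe, Subgroup.mem_centralizer_iff]
    intro b hb
    have := h1 hb
    rw [Subgroup.mem_centralizer_iff] at this
    exact (this a ha).symm
  have := h2 hx
  rw [Subgroup.mem_centralizer_iff] at this
  exact (this y hy).symm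

/-- the closure of a commuting set of `p`-elements is a `p`-group. -/
theorem isPGroup_closure_of_commute (p : ℕ) {s : Set G}
    (hcomm : ∀ a ∈ s, ∀ b ∈ s, a * b = b * a) (hp : ∀ a ∈ s, ∃ k : ℕ, a ^ p ^ k = 1) :
    IsPGroup p (Subgroup.closure s) := by
  have key : ∀ x ∈ Subgroup.closure s, ∃ k : ℕ, x ^ p ^ k = 1 := by
    intro x hx
    induction hx using Subgroup.closure_induction with
    | mem a ha => exact hp a ha
    | one => exact ⟨0, by simp⟩
    | mul a b ha hb iha ihb =>
      obtain ⟨k, hk⟩ := iha
      obtain ⟨l, hl⟩ := ihb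
      refine ⟨k + l, ?_⟩
      have hc : Commute a b := commute_of_mem_closure hcomm ha hb
      rw [hc.mul_pow, pow_add, pow_mul, hk, one_pow, one_mul, mul_comm (p ^ k), pow_mul, hl, one_pow]
    | inv a ha iha =>
      obtain ⟨k, hk⟩ := iha
      exact ⟨k, by rw [inv_pow, hk, inv_one]⟩
  intro ⟨x, hx⟩
  obtain ⟨k, hk⟩ := key x hx
  exact ⟨k, Subtype.ext hk⟩

end general

variable {α : Type*} [Fintype α] [DecidableEq α]

/-- `S_n`-conjugate permutations are `A_n`-conjugate if some odd permutation centralizes. -/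
theorem exists_alt_conj {σ τ : Perm α} (h : σ.cycleType = τ.cycleType)
    (hc : ¬ Subgroup.centralizer {σ} ≤ alternatingGroup α) :
    ∃ g ∈ alternatingGroup α, g * σ * g⁻¹ = τ := by
  obtain ⟨π, hπ⟩ := isConj_iff.1 (isConj_iff_cycleType_eq.2 h)
  by_cases hs : π ∈ alternatingGroup α
  · exact ⟨π, hs, hπ⟩
  · rw [SetLike.not_le_iff_exists] at hc
    obtain ⟨k, hk, hkA⟩ := hc
    refine ⟨π * k, ?_, ?_⟩
    · rw [mem_alternatingGroup] at hs hkA ⊢
      rw [map_mul]
      rcases Int.units_eq_one_or (sign π) with h1 | h1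
      · exact absurd h1 hs
      rcases Int.units_eq_one_or (sign k) with h2 | h2
      · exact absurd h2 hkA
      rw [h1, h2]; rfl
    · rw [Subgroup.mem_centralizer_iff] at hk
      have hk' : σ * k = k * σ := hk σ rfl
      rw [← hπ]
      calc π * k * σ * (π * k)⁻¹ = π * (k * σ * k⁻¹) * π⁻¹ := by group
        _ = π * σ * π⁻¹ := by rw [← hk']; group

/-- A permutation of odd prime-power order is even. -/
theorem sign_eq_one_of_pow {p : ℕ} (hp : Odd p) {σ : Perm α} {k : ℕ} (h : σ ^ p ^ k = 1) :
    sign σ = 1 := by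
  have h1 : sign σ ^ p ^ k = 1 := by rw [← map_pow, h, map_one]
  rcases Int.units_eq_one_or (sign σ) with h2 | h2
  · exact h2
  · rw [h2, Odd.neg_one_pow (hp.pow)] at h1
    exact absurd h1 (by decide)

end Cfsg.Agent.Helper25.AltFus
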