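import Mathlib

set_option autoImplicit false

/-! The wreath model `C_N ≀ C_p` on `ZMod N × ZMod p`: a cycle of length `p N` written as the
product of a cycle of length `N` and an element of order `p` inside a `p`-group. -/

namespace Cfsg.Agent.Helper25.AltFus

open Equiv Equiv.Perm

variable (N p : ℕ) [NeZero N] [Fact p.Prime]

/-- the top shift `(u, r) ↦ (u, r + 1)` -/
def mSig : Perm (ZMod N × ZMod p) where
  toFun x := (x.1, x.2 + 1)
  invFun x := (x.1, x.2 - 1)
  left_inv x := by simp
  right_inv x := by simp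

/-- the base element `(u, r) ↦ (u + [r = i], r)` -/
def mBeta (i : ZMod p) : Perm (ZMod N × ZMod p) where
  toFun x := (if x.2 = i then x.1 + 1 else x.1, x.2)
  invFun x := (if x.2 = i then x.1 - 1 else x.1, x.2)
  left_inv x := by
    rcases x with ⟨u, r⟩
    by_cases h : r = i <;> simp [h]
  right_inv x := by
    rcases x with ⟨u, r⟩
    by_cases h : r = i <;> simp [h]

@[simp] theorem mSig_apply (x : ZMod N × ZMod p) : mSig N p x = (x.1, x.2 + 1) := rfl

@[simp] theorem mSig_symm_apply (x : ZMod N × ZMod p) : (mSig N p)⁻¹ x = (x.1, x.2 - 1) := rfl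

@[simp] theorem mBeta_apply (i : ZMod p) (x : ZMod N × ZMod p) :
    mBeta N p i x = (if x.2 = i then x.1 + 1 else x.1, x.2) := rfl

theorem mSig_pow_apply (k : ℕ) (x : ZMod N × ZMod p) :
    (mSig N p ^ k) x = (x.1, x.2 + k) := by
  induction k with
  | zero => simp
  | succ k ih =>
    rw [pow_succ', Perm.mul_apply, ih, mSig_apply]
    ext
    · rfl
    · simp only [Nat.cast_add, Nat.cast_one]; ring

theorem mSig_pow_p : mSig N p ^ p = 1 := by
  ext x : 1
  rw [mSig_pow_apply]
  simp

theorem mBeta_pow_apply (i : ZMod p) (k : ℕ) (x : ZMod N × ZMod p) :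
    (mBeta N p i ^ k) x = (if x.2 = i then x.1 + k else x.1, x.2) := by
  induction k with
  | zero => simp
  | succ k ih =>
    rw [pow_succ', Perm.mul_apply, ih, mBeta_apply]
    by_cases h : x.2 = i
    · simp only [h, if_true, Nat.cast_add, Nat.cast_one]
      ext
      · simp only; ring
      · rfl
    · simp [h]

theorem mBeta_pow_N (i : ZMod p) : mBeta N p i ^ N = 1 := by
  ext x : 1
  rw [mBeta_pow_apply]
  rcases x with ⟨u, r⟩
  by_cases h : r = i <;> simp [h]

theorem mBeta_comm (i j : ZMod p) : mBeta N p i * mBeta N p j = mBeta N p j * mBeta N p i := by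
  ext x : 1
  rcases x with ⟨u, r⟩
  simp only [Perm.mul_apply, mBeta_apply]
  by_cases h1 : r = i <;> by_cases h2 : r = j <;> simp only [h1, h2, if_true, if_false] <;>
    split_ifs <;> rfl

theorem mSig_conj_mBeta (i : ZMod p) :
    mSig N p * mBeta N p i * (mSig N p)⁻¹ = mBeta N p (i + 1) := by
  ext x : 1
  simp only [Perm.mul_apply, mBeta_apply, mSig_apply, mSig_symm_apply]
  have h : (x.2 - 1 = i) ↔ (x.2 = i + 1) := by
    constructor
    · intro h; rw [← h]; ring
    · intro h; rw [h]; ring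
  by_cases h1 : x.2 = i + 1
  · simp [h1]
  · have h2 : ¬ x.2 - 1 = i := fun hh => h1 (h.mp hh)
    simp [h1, h2]

theorem mSig_pow_conj_mBeta (k : ℕ) :
    mSig N p ^ k * mBeta N p 0 * (mSig N p ^ k)⁻¹ = mBeta N p (k : ZMod p) := by
  induction k with
  | zero => simp
  | succ k ih =>
    have : mSig N p ^ (k + 1) * mBeta N p 0 * (mSig N p ^ (k + 1))⁻¹ =
        mSig N p * (mSig N p ^ k * mBeta N p 0 * (mSig N p ^ k)⁻¹) * (mSig N p)⁻¹ := by
      rw [pow_succ']; group
    rw [this, ih, mSig_conj_mBeta]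
    simp

/-- the long cycle -/
def mC : Perm (ZMod N × ZMod p) := mBeta N p 0 * mSig N p

theorem mC_apply (x : ZMod N × ZMod p) :
    mC N p x = (if x.2 + 1 = 0 then x.1 + 1 else x.1, x.2 + 1) := by
  simp [mC]

theorem mC_pow_lt (u : ZMod N) (k : ℕ) (hk : k < p) :
    (mC N p ^ k) (u, 0) = (u, (k : ZMod p)) := by
  induction k with
  | zero => simp
  | succ k ih =>
    rw [pow_succ', Perm.mul_apply, ih (by omega), mC_apply]
    have h : ¬ ((k : ZMod p) + 1 = 0) := by
      have h1 : ((k + 1 : ℕ) : ZMod p) ≠ 0 := by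
        rw [Ne, ZMod.natCast_eq_zero_iff]
        intro hd
        have := Nat.le_of_dvd (by omega) hd
        omega
      simpa using h1
    simp [h]

theorem mC_pow_p (u : ZMod N) : (mC N p ^ p) (u, 0) = (u + 1, 0) := by
  have hp : 0 < p := (Fact.out : p.Prime).pos
  have h1 : mC N p ^ p = mC N p * mC N p ^ (p - 1) := by
    rw [← pow_succ', Nat.sub_add_cancel hp]
  rw [h1, Perm.mul_apply, mC_pow_lt N p u (p - 1) (by omega), mC_apply]
  have h : ((p - 1 : ℕ) : ZMod p) + 1 = 0 := by
    have : ((p - 1 + 1 : ℕ) : ZMod p) = 0 := by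
      rw [Nat.sub_add_cancel hp]; exact ZMod.natCast_self p
    simpa using this
  simp [h]

theorem mC_pow_p_mul (k : ℕ) (u : ZMod N) : (mC N p ^ (p * k)) (u, 0) = (u + k, 0) := by
  induction k generalizing u with
  | zero => simp
  | succ k ih =>
    rw [Nat.mul_succ, pow_add, Perm.mul_apply, mC_pow_p, ih]
    ext
    · simp only [Nat.cast_add, Nat.cast_one]; ring
    · rfl

theorem mC_pow_reach (x : ZMod N × ZMod p) :
    (mC N p ^ (x.2.val + p * x.1.val)) (0, 0) = x := by
  rcases x with ⟨u, r⟩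
  rw [pow_add, Perm.mul_apply, mC_pow_p_mul, mC_pow_lt N p _ _ (ZMod.val_lt r)]
  simp

theorem mC_support : (mC N p).support = Finset.univ := by
  ext x
  simp only [Perm.mem_support, Finset.mem_univ, iff_true, mC_apply]
  intro h
  have := congrArg Prod.snd h
  simp at this

theorem mC_isCycle : (mC N p).IsCycle := by
  refine ⟨(0, 0), ?_, fun y _ => ?_⟩
  · have : (0, 0) ∈ (mC N p).support := by rw [mC_support]; exact Finset.mem_univ _
    exact Perm.mem_support.mp this
  · exact ⟨((y.2.val + p * y.1.val : ℕ) : ℤ), by rw [zpow_natCast]; exact mC_pow_reach N p y⟩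

theorem mC_cycleType : (mC N p).cycleType = {N * p} := by
  rw [(mC_isCycle N p).cycleType, mC_support, Finset.card_univ]
  simp [ZMod.card]

/-- `mBeta 0` fixes the point `(0, 1)`. -/
theorem mBeta_zero_fix : mBeta N p 0 ((0 : ZMod N), (1 : ZMod p)) = (0, 1) := by
  have : (1 : ZMod p) ≠ 0 := by
    haveI : Fact (1 < p) := ⟨(Fact.out : p.Prime).one_lt⟩
    exact one_ne_zero
  simp [this]

end Cfsg.Agent.Helper25.AltFus
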