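import Mathlib
import Cfsg.Agent.Lib.Helper25.AltFus1

set_option autoImplicit false

/-! Fusion sets in the alternating group: conjugation-invariant sets closed under generation
inside `p`-subgroups. -/

namespace Cfsg.Agent.Helper25.AltFus

open Equiv Equiv.Perm

variable {α : Type*} [Fintype α] [DecidableEq α]

/-- A fusion set. -/
structure FusSet (p : ℕ) (C : Set (Perm α)) : Prop where
  conj : ∀ v ∈ C, ∀ g ∈ alternatingGroup α, g * v * g⁻¹ ∈ C
  gen : ∀ P : Subgroup (Perm α), P ≤ alternatingGroup α → IsPGroup p P →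
    ∀ v ∈ Subgroup.closure (C ∩ (P : Set (Perm α))), v ∈ C

namespace FusSet

variable {p : ℕ} {C : Set (Perm α)}

theorem one_mem (hC : FusSet p C) : (1 : Perm α) ∈ C :=
  hC.gen ⊥ bot_le IsPGroup.of_bot 1 (Subgroup.one_mem _)

theorem mul_mem (hC : FusSet p C) {P : Subgroup (Perm α)} (hPA : P ≤ alternatingGroup α)
    (hP : IsPGroup p P) {v w : Perm α} (hv : v ∈ C) (hw : w ∈ C) (hvP : v ∈ P) (hwP : w ∈ P) :
    v * w ∈ C :=
  hC.gen P hPA hP _ (Subgroup.mul_mem _ (Subgroup.subset_closure (Set.mem_inter hv hvP))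
    (Subgroup.subset_closure (Set.mem_inter hw hwP)))

theorem mul_inv_mem (hC : FusSet p C) {P : Subgroup (Perm α)} (hPA : P ≤ alternatingGroup α)
    (hP : IsPGroup p P) {v w : Perm α} (hv : v ∈ C) (hw : w ∈ C) (hvP : v ∈ P) (hwP : w ∈ P) :
    v * w⁻¹ ∈ C :=
  hC.gen P hPA hP _ (Subgroup.mul_mem _ (Subgroup.subset_closure (Set.mem_inter hv hvP))
    (Subgroup.inv_mem _ (Subgroup.subset_closure (Set.mem_inter hw hwP))))

theorem pow_mem (hC : FusSet p C) {v : Perm α} (hv : v ∈ C) (hvA : v ∈ alternatingGroup α)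
    {k : ℕ} (hk : v ^ p ^ k = 1) (m : ℕ) : v ^ m ∈ C := by
  refine hC.gen (Subgroup.zpowers v) ?_ ?_ _ ?_
  · rw [Subgroup.zpowers_le]; exact hvA
  · rintro ⟨w, hw⟩
    obtain ⟨i, rfl⟩ := Subgroup.mem_zpowers_iff.mp hw
    refine ⟨k, Subtype.ext ?_⟩
    show (v ^ i) ^ p ^ k = 1
    rw [← zpow_natCast, ← zpow_mul, mul_comm, zpow_mul, zpow_natCast, hk, one_zpow]
  · exact Subgroup.pow_mem _ (Subgroup.subset_closure (Set.mem_inter hv (Subgroup.mem_zpowers v))) m

/-- closure under `A_n`-conjugacy classes. -/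
theorem class_mem (hC : FusSet p C) {v w : Perm α} (hv : v ∈ C) (h : v.cycleType = w.cycleType)
    (hc : ¬ Subgroup.centralizer {v} ≤ alternatingGroup α) : w ∈ C := by
  obtain ⟨g, hg, rfl⟩ := exists_alt_conj h hc
  exact hC.conj v hv g hg

/-- a fusion set with a nontrivial `p`-element contains an element of order `p`. -/
theorem exists_orderOf_eq (hC : FusSet p C) [Fact p.Prime] {v : Perm α} (hv : v ∈ C)
    (hvA : v ∈ alternatingGroup α) (hv1 : v ≠ 1) {k : ℕ} (hk : v ^ p ^ k = 1) :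
    ∃ x ∈ C, x ∈ alternatingGroup α ∧ orderOf x = p := by
  have hp := (Fact.out : p.Prime)
  obtain ⟨m, hm⟩ := (exists_orderOf_eq_prime_pow_iff (p := p)).mpr ⟨k, hk⟩
  have hm0 : m ≠ 0 := by
    rintro rfl
    rw [pow_zero, orderOf_eq_one_iff] at hm
    exact hv1 hm
  obtain ⟨j, rfl⟩ := Nat.exists_eq_succ_of_ne_zero hm0
  refine ⟨v ^ p ^ j, hC.pow_mem hv hvA hk _, Subgroup.pow_mem _ hvA _, ?_⟩
  rw [orderOf_pow' _ (pow_ne_zero _ hp.ne_zero), hm, Nat.gcd_eq_right (pow_dvd_pow p (Nat.le_succ j)),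
    pow_succ, Nat.mul_div_cancel_left _ (pow_pos hp.pos j)]

end FusSet

/-- a permutation with `σ ^ p = 1` and support of size `≤ p` (not trivial) is a `p`-cycle. -/
theorem cycleType_eq_singleton_of_pow {p : ℕ} [Fact p.Prime] {σ : Perm α} (h1 : σ ≠ 1)
    (hp : σ ^ p = 1) (hs : σ.support.card ≤ p) : σ.cycleType = {p} := by
  have hpp := (Fact.out : p.Prime)
  have ho : orderOf σ = p := by
    have := orderOf_dvd_of_pow_eq_one hp
    rcases (Nat.dvd_prime hpp).mp this with h | h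
    · exact absurd (orderOf_eq_one_iff.mp h) h1
    · exact h
  obtain ⟨n, hn⟩ := cycleType_prime_order (by rw [ho]; exact hpp)
  rw [ho] at hn
  have hsum := sum_cycleType σ
  rw [hn, Multiset.sum_replicate, smul_eq_mul] at hsum
  have : n = 0 := by
    by_contra hne
    have : 2 * p ≤ (n + 1) * p := Nat.mul_le_mul_right p (by omega)
    have hp0 := hpp.pos
    omega
  rw [hn, this]
  rfl

end Cfsg.Agent.Helper25.AltFus
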