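import Mathlib
import Cfsg.Agent.Lib.Helper25.AltFus3

set_option autoImplicit false

/-! Fusion sets in the alternating group: elements of order `p`, `p` odd. -/

namespace Cfsg.Agent.Helper25.AltFus

open Equiv Equiv.Perm

variable {α : Type*} [Fintype α] [DecidableEq α]

/-- a cycle factor of an element with `x ^ p = 1` is a `p`-cycle. -/
theorem cycleType_of_mem_cycleFactorsFinset {p : ℕ} [Fact p.Prime] {x c : Perm α}
    (hc : c ∈ cycleFactorsFinset x) (hx : x ^ p = 1) :
    c.cycleType = {p} ∧ c ^ p = 1 ∧ (x * c⁻¹) ^ p = 1 := by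
  have hpp := (Fact.out : p.Prime)
  have hcyc : c.IsCycle := (mem_cycleFactorsFinset_iff.mp hc).1
  have hdisj : Disjoint (x * c⁻¹) c := disjoint_mul_inv_of_mem_cycleFactorsFinset hc
  have hxrc : x = (x * c⁻¹) * c := by group
  have h1 : (x * c⁻¹) ^ p * c ^ p = 1 := by
    rw [← hdisj.commute.mul_pow, ← hxrc, hx]
  have h2 := (Disjoint.mul_eq_one_iff (hdisj.pow_disjoint_pow p p)).mp h1
  refine ⟨?_, h2.2, h2.1⟩
  have ho : orderOf c = p := by
    have := orderOf_dvd_of_pow_eq_one h2.2
    rcases (Nat.dvd_prime hpp).mp this with h | h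
    · exact absurd (orderOf_eq_one_iff.mp h) hcyc.ne_one
    · exact h
  rw [hcyc.cycleType, ← hcyc.orderOf, ho]

theorem FusSet.exists_pcycle_mem {p : ℕ} [Fact p.Prime] {C : Set (Perm α)} (hC : FusSet p C)
    (hodd : Odd p) {x : Perm α} (hx : x ∈ C) (ho : orderOf x = p) :
    ∃ c ∈ C, c.cycleType = {p} := by
  have hpp := (Fact.out : p.Prime)
  have hx1 : x ≠ 1 := by
    rintro rfl
    rw [orderOf_one] at ho
    exact hpp.one_lt.ne ho
  have hxp : x ^ p = 1 := by rw [← ho]; exact pow_orderOf_eq_one x
  obtain ⟨c, hc⟩ : (cycleFactorsFinset x).Nonempty := by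
    rw [Finset.nonempty_iff_ne_empty, Ne, cycleFactorsFinset_eq_empty_iff]
    exact hx1
  obtain ⟨hct, hcp, hrp⟩ := cycleType_of_mem_cycleFactorsFinset hc hxp
  set r := x * c⁻¹ with hr
  have hdisj : Disjoint r c := disjoint_mul_inv_of_mem_cycleFactorsFinset hc
  have hxrc : x = r * c := by rw [hr]; group
  by_cases hr1 : r = 1
  · refine ⟨x, hx, ?_⟩
    rw [hxrc, hr1, one_mul]
    exact hct
  · -- the element `x' = r * c⁻¹`
    have hct' : (r * c⁻¹).cycleType = x.cycleType := by
      rw [hxrc, hdisj.cycleType_mul, (hdisj.inv_right).cycleType_mul, cycleType_inv]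
    have hnc : ¬ Subgroup.centralizer {x} ≤ alternatingGroup α := by
      rw [centralizer_le_alternating_iff]
      rintro ⟨-, -, h3⟩
      have hor : orderOf r = p := by
        have := orderOf_dvd_of_pow_eq_one hrp
        rcases (Nat.dvd_prime hpp).mp this with h | h
        · exact absurd (orderOf_eq_one_iff.mp h) hr1
        · exact h
      obtain ⟨n, hn⟩ := cycleType_prime_order (by rw [hor]; exact hpp)
      rw [hor] at hn
      have := h3 p
      rw [hxrc, hdisj.cycleType_mul, hn, hct, Multiset.count_add, Multiset.count_replicate_self,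
        Multiset.count_singleton_self] at this
      omega
    have hx' : r * c⁻¹ ∈ C := hC.class_mem hx hct'.symm hnc
    -- the `p`-group
    have hcomm : ∀ a ∈ ({r, c} : Set (Perm α)), ∀ b ∈ ({r, c} : Set (Perm α)), a * b = b * a := by
      intro a ha b hb
      rcases ha with rfl | rfl <;> rcases hb with rfl | rfl
      · rfl
      · exact hdisj.commute.eq
      · exact hdisj.commute.eq.symm
      · rfl
    have hpel : ∀ a ∈ ({r, c} : Set (Perm α)), ∃ k : ℕ, a ^ p ^ k = 1 := by
      intro a ha
      rcases ha with rfl | rfl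
      · exact ⟨1, by rw [pow_one]; exact hrp⟩
      · exact ⟨1, by rw [pow_one]; exact hcp⟩
    have hP : IsPGroup p (Subgroup.closure ({r, c} : Set (Perm α))) :=
      isPGroup_closure_of_commute p hcomm hpel
    have hPA : Subgroup.closure ({r, c} : Set (Perm α)) ≤ alternatingGroup α := by
      rw [Subgroup.closure_le]
      intro a ha
      rcases ha with rfl | rfl
      · exact mem_alternatingGroup.mpr (sign_eq_one_of_pow hodd (k := 1) (by rw [pow_one]; exact hrp))
      · exact mem_alternatingGroup.mpr (sign_eq_one_of_pow hodd (k := 1) (by rw [pow_one]; exact hcp))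
    have hrP : r ∈ Subgroup.closure ({r, c} : Set (Perm α)) := Subgroup.subset_closure (by simp)
    have hcP : c ∈ Subgroup.closure ({r, c} : Set (Perm α)) := Subgroup.subset_closure (by simp)
    have h1 : x * (r * c⁻¹)⁻¹ ∈ C := by
      refine hC.mul_inv_mem hPA hP hx hx' ?_ ?_
      · rw [hxrc]; exact Subgroup.mul_mem _ hrP hcP
      · exact Subgroup.mul_mem _ hrP (Subgroup.inv_mem _ hcP)
    have hcr : r * c = c * r := hdisj.commute.eq
    have h2 : x * (r * c⁻¹)⁻¹ = c ^ 2 := by
      rw [hxrc]
      calc r * c * (r * c⁻¹)⁻¹ = (r * c) * c * r⁻¹ := by group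
        _ = (c * r) * c * r⁻¹ := by rw [hcr]
        _ = c * (r * c) * r⁻¹ := by group
        _ = c * (c * r) * r⁻¹ := by rw [hcr]
        _ = c ^ 2 := by rw [sq]; group
    rw [h2] at h1
    refine ⟨c ^ 2, h1, ?_⟩
    have hcyc : c.IsCycle := (mem_cycleFactorsFinset_iff.mp hc).1
    have hoc : orderOf c = p := by
      have := orderOf_dvd_of_pow_eq_one hcp
      rcases (Nat.dvd_prime hpp).mp this with h | h
      · exact absurd (orderOf_eq_one_iff.mp h) hcyc.ne_one
      · exact h
    apply cycleType_eq_singleton_of_pow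
    · intro h
      have := orderOf_dvd_of_pow_eq_one h
      rw [hoc] at this
      have h2 : p = 2 := (Nat.prime_dvd_prime_iff_eq hpp Nat.prime_two).mp this
      rw [h2] at hodd
      exact absurd hodd (by decide)
    · rw [← pow_mul, mul_comm, pow_mul, hcp, one_pow]
    · calc (c ^ 2).support.card ≤ c.support.card := Finset.card_le_card (support_pow_le c 2)
        _ = p := by rw [← hcyc.orderOf, hoc]

theorem FusSet.pcycle_mem {p : ℕ} [Fact p.Prime] {C : Set (Perm α)} (hC : FusSet p C)
    (hcard : p + 2 ≤ Fintype.card α) {c c' : Perm α} (hc : c ∈ C) (hct : c.cycleType = {p})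
    (hct' : c'.cycleType = {p}) : c' ∈ C := by
  refine hC.class_mem hc (hct.trans hct'.symm) ?_
  rw [centralizer_le_alternating_iff]
  rintro ⟨-, h2, -⟩
  rw [hct, Multiset.sum_singleton] at h2
  omega

/-- all elements with `y ^ p = 1` lie in the fusion set (`p` odd) -/
theorem FusSet.mem_of_pow_eq_one {p : ℕ} [Fact p.Prime] {C : Set (Perm α)} (hC : FusSet p C)
    (hodd : Odd p) (hall : ∀ c : Perm α, c.cycleType = {p} → c ∈ C) {y : Perm α}
    (hy : y ^ p = 1) : y ∈ C := by
  have hcomm : ∀ a ∈ ((cycleFactorsFinset y : Finset (Perm α)) : Set (Perm α)),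
      ∀ b ∈ ((cycleFactorsFinset y : Finset (Perm α)) : Set (Perm α)), a * b = b * a := by
    intro a ha b hb
    by_cases hab : a = b
    · rw [hab]
    · exact (cycleFactorsFinset_mem_commute y ha hb hab).eq
  have hpel : ∀ a ∈ ((cycleFactorsFinset y : Finset (Perm α)) : Set (Perm α)),
      ∃ k : ℕ, a ^ p ^ k = 1 := by
    intro a ha
    exact ⟨1, by rw [pow_one]; exact (cycleType_of_mem_cycleFactorsFinset ha hy).2.1⟩
  have hP := isPGroup_closure_of_commute p hcomm hpel
  have hPA : Subgroup.closure ((cycleFactorsFinset y : Finset (Perm α)) : Set (Perm α)) ≤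
      alternatingGroup α := by
    rw [Subgroup.closure_le]
    intro a ha
    exact mem_alternatingGroup.mpr (sign_eq_one_of_pow hodd (k := 1)
      (by rw [pow_one]; exact (cycleType_of_mem_cycleFactorsFinset ha hy).2.1))
  refine hC.gen _ hPA hP y ?_
  have hmem : (cycleFactorsFinset y).noncommProd id (cycleFactorsFinset_mem_commute y) ∈
      Subgroup.closure (C ∩ ((Subgroup.closure
        ((cycleFactorsFinset y : Finset (Perm α)) : Set (Perm α)) : Subgroup (Perm α)) :
        Set (Perm α))) := by
    refine Subgroup.noncommProd_mem _ _ ?_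
    intro c hc
    refine Subgroup.subset_closure ⟨hall c (cycleType_of_mem_cycleFactorsFinset hc hy).1, ?_⟩
    exact Subgroup.subset_closure hc
  rwa [cycleFactorsFinset_noncommProd] at hmem

end Cfsg.Agent.Helper25.AltFus
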