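import Mathlib
import Cfsg.Agent.Lib.Helper25.AltFus4

set_option autoImplicit false
set_option linter.unusedSimpArgs false

/-! Fusion sets in the alternating group: involutions (`p = 2`). -/

namespace Cfsg.Agent.Helper25.AltFus

open Equiv Equiv.Perm

variable {α : Type*} [DecidableEq α]

theorem klein_mul (a b e d : α) (hab : a ≠ b) (hae : a ≠ e) (had : a ≠ d) (hbe : b ≠ e)
    (hbd : b ≠ d) (hed : e ≠ d) :
    swap a b * swap e d * (swap a e * swap b d) = swap a d * swap b e := by
  ext z
  simp only [Perm.mul_apply]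
  by_cases hza : z = a
  · subst hza
    simp [swap_apply_of_ne_of_ne, hab, hae, had, hbe, hbd, hed, hab.symm, hae.symm, had.symm,
      hbe.symm, hbd.symm, hed.symm]
  by_cases hzb : z = b
  · subst hzb
    simp [swap_apply_of_ne_of_ne, hab, hae, had, hbe, hbd, hed, hab.symm, hae.symm, had.symm,
      hbe.symm, hbd.symm, hed.symm]
  by_cases hze : z = e
  · subst hze
    simp [swap_apply_of_ne_of_ne, hab, hae, had, hbe, hbd, hed, hab.symm, hae.symm, had.symm,
      hbe.symm, hbd.symm, hed.symm]
  by_cases hzd : z = d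
  · subst hzd
    simp [swap_apply_of_ne_of_ne, hab, hae, had, hbe, hbd, hed, hab.symm, hae.symm, had.symm,
      hbe.symm, hbd.symm, hed.symm]
  simp [swap_apply_of_ne_of_ne, hza, hzb, hze, hzd]

variable [Fintype α]

theorem disjoint_swap_swap {a e b d : α} (hae : a ≠ e) (hbd : b ≠ d) (hab : a ≠ b) (had : a ≠ d)
    (heb : e ≠ b) (hed : e ≠ d) : Disjoint (swap a e) (swap b d) := by
  rw [disjoint_iff_disjoint_support, support_swap hae, support_swap hbd]
  simp [hab, had, heb, hed, hab.symm, had.symm, heb.symm, hed.symm]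

theorem cycleType_swap_mul_swap {a e b d : α} (hae : a ≠ e) (hbd : b ≠ d) (hab : a ≠ b)
    (had : a ≠ d) (heb : e ≠ b) (hed : e ≠ d) : (swap a e * swap b d).cycleType = {2, 2} := by
  rw [(disjoint_swap_swap hae hbd hab had heb hed).cycleType_mul, (isCycle_swap hae).cycleType,
    (isCycle_swap hbd).cycleType, card_support_swap hae, card_support_swap hbd]
  rfl

/-- a fusion set (`p = 2`) containing an involution contains a double transposition -/
theorem FusSet.exists_dtrans_mem [Fact (Nat.Prime 2)] {C : Set (Perm α)} (hC : FusSet 2 C)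
    {x : Perm α} (hx : x ∈ C) (hxA : x ∈ alternatingGroup α) (ho : orderOf x = 2) :
    ∃ d ∈ C, d.cycleType = {2, 2} := by
  have hx1 : x ≠ 1 := by
    rintro rfl
    rw [orderOf_one] at ho
    omega
  have hxp : x ^ 2 = 1 := by rw [← ho]; exact pow_orderOf_eq_one x
  obtain ⟨c, hc⟩ : (cycleFactorsFinset x).Nonempty := by
    rw [Finset.nonempty_iff_ne_empty, Ne, cycleFactorsFinset_eq_empty_iff]
    exact hx1
  obtain ⟨hct, hcp, hrp⟩ := cycleType_of_mem_cycleFactorsFinset hc hxp
  set r := x * c⁻¹ with hr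
  have hdisj : Disjoint r c := disjoint_mul_inv_of_mem_cycleFactorsFinset hc
  have hxrc : x = r * c := by rw [hr]; group
  have hcyc : c.IsCycle := (mem_cycleFactorsFinset_iff.mp hc).1
  have hcard : c.support.card = 2 := by
    have := hcyc.cycleType
    rw [hct] at this
    exact (Multiset.singleton_inj.mp this).symm
  have hsc : sign c = -1 := (card_support_eq_two.mp hcard).sign_eq
  have hr1 : r ≠ 1 := by
    intro h
    rw [mem_alternatingGroup, hxrc, h, one_mul, hsc] at hxA
    exact absurd hxA (by decide)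
  obtain ⟨c₂, hc₂⟩ : (cycleFactorsFinset r).Nonempty := by
    rw [Finset.nonempty_iff_ne_empty, Ne, cycleFactorsFinset_eq_empty_iff]
    exact hr1
  obtain ⟨hct₂, hcp₂, hrp₂⟩ := cycleType_of_mem_cycleFactorsFinset hc₂ hrp
  set r₂ := r * c₂⁻¹ with hr₂
  have hdisj₂ : Disjoint r₂ c₂ := disjoint_mul_inv_of_mem_cycleFactorsFinset hc₂
  have hrrc : r = r₂ * c₂ := by rw [hr₂]; group
  have hcyc₂ : c₂.IsCycle := (mem_cycleFactorsFinset_iff.mp hc₂).1
  have hcard₂ : c₂.support.card = 2 := by
    have := hcyc₂.cycleType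
    rw [hct₂] at this
    exact (Multiset.singleton_inj.mp this).symm
  obtain ⟨a, b, hab, hcab⟩ := card_support_eq_two.mp hcard
  obtain ⟨e, d, hed, hced⟩ := card_support_eq_two.mp hcard₂
  -- disjointness of supports
  have hs₂ : c₂.support ≤ r.support := mem_cycleFactorsFinset_support_le hc₂
  have hsr₂ : r₂.support ≤ r.support := by
    intro z hz
    by_contra hzr
    rw [Perm.mem_support, not_not] at hzr
    rw [Perm.mem_support] at hz
    apply hz
    have hzc : c₂ z = z := by
      by_contra hne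
      exact (Perm.mem_support.mp (hs₂ (Perm.mem_support.mpr hne))) hzr
    have : r z = r₂ (c₂ z) := by rw [hrrc]; rfl
    rw [hzc, hzr] at this
    exact this.symm
  have hdrc := disjoint_iff_disjoint_support.mp hdisj
  have hdrc₂ := disjoint_iff_disjoint_support.mp hdisj₂
  have hsc_ab : c.support = {a, b} := by rw [hcab, support_swap hab]
  have hsc_ed : c₂.support = {e, d} := by rw [hced, support_swap hed]
  have hnot : ∀ z, z ∈ c₂.support → z ∉ c.support := fun z hz hz' =>
    (Finset.disjoint_left.mp hdrc (hs₂ hz)) hz'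
  have hea : e ≠ a := by
    intro h; exact hnot e (by rw [hsc_ed]; simp) (by rw [hsc_ab, h]; simp)
  have heb : e ≠ b := by
    intro h; exact hnot e (by rw [hsc_ed]; simp) (by rw [hsc_ab, h]; simp)
  have hda : d ≠ a := by
    intro h; exact hnot d (by rw [hsc_ed]; simp) (by rw [hsc_ab, h]; simp)
  have hdb : d ≠ b := by
    intro h; exact hnot d (by rw [hsc_ed]; simp) (by rw [hsc_ab, h]; simp)
  -- `r₂` is disjoint from anything supported on `{a, b, e, d}`
  have hr₂fix : ∀ z, z ∈ ({a, b, e, d} : Finset α) → r₂ z = z := by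
    intro z hz
    by_contra hne
    have hzs : z ∈ r₂.support := Perm.mem_support.mpr hne
    simp only [Finset.mem_insert, Finset.mem_singleton] at hz
    rcases hz with rfl | rfl | rfl | rfl
    · exact (Finset.disjoint_left.mp hdrc (hsr₂ hzs)) (by rw [hsc_ab]; simp)
    · exact (Finset.disjoint_left.mp hdrc (hsr₂ hzs)) (by rw [hsc_ab]; simp)
    · exact (Finset.disjoint_left.mp hdrc₂ hzs) (by rw [hsc_ed]; simp)
    · exact (Finset.disjoint_left.mp hdrc₂ hzs) (by rw [hsc_ed]; simp)
  have hdisj_gen : ∀ v : Perm α, v.support ⊆ ({a, b, e, d} : Finset α) → Disjoint r₂ v := by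
    intro v hv z
    by_cases hz : z ∈ ({a, b, e, d} : Finset α)
    · exact Or.inl (hr₂fix z hz)
    · right
      by_contra hne
      exact hz (hv (Perm.mem_support.mpr hne))
  have hsupp : ∀ {u v w t : α}, u ≠ v → w ≠ t → u ∈ ({a, b, e, d} : Finset α) →
      v ∈ ({a, b, e, d} : Finset α) → w ∈ ({a, b, e, d} : Finset α) →
      t ∈ ({a, b, e, d} : Finset α) →
      (swap u v * swap w t).support ⊆ ({a, b, e, d} : Finset α) := by
    intro u v w t huv hwt hu hv hw ht
    refine (support_mul_le _ _).trans ?_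
    rw [support_swap huv, support_swap hwt]
    intro z hz
    simp only [Finset.sup_eq_union, Finset.mem_union, Finset.mem_insert,
      Finset.mem_singleton] at hz
    rcases hz with (rfl | rfl) | (rfl | rfl) <;> assumption
  have ma : a ∈ ({a, b, e, d} : Finset α) := by simp
  have mb : b ∈ ({a, b, e, d} : Finset α) := by simp
  have me : e ∈ ({a, b, e, d} : Finset α) := by simp
  have md : d ∈ ({a, b, e, d} : Finset α) := by simp
  set v₁ := swap a b * swap e d with hv₁
  set v₂ := swap a e * swap b d with hv₂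
  have hd₁ : Disjoint r₂ v₁ := hdisj_gen _ (hsupp hab hed ma mb me md)
  have hd₂ : Disjoint r₂ v₂ := hdisj_gen _ (hsupp hea.symm hdb.symm ma me mb md)
  have hxv : x = r₂ * v₁ := by
    rw [hxrc, hrrc, hcab, hced, hv₁, mul_assoc]
    congr 1
    exact ((disjoint_swap_swap hab hed hea.symm hda.symm heb.symm hdb.symm).commute.eq).symm
  -- `x' = r₂ * v₂`
  have hctv₁ : v₁.cycleType = {2, 2} :=
    cycleType_swap_mul_swap hab hed hea.symm hda.symm heb.symm hdb.symm
  have hctv₂ : v₂.cycleType = {2, 2} :=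
    cycleType_swap_mul_swap hea.symm hdb.symm hab hda.symm heb hed
  have hct' : x.cycleType = (r₂ * v₂).cycleType := by
    rw [hxv, hd₁.cycleType_mul, hd₂.cycleType_mul, hctv₁, hctv₂]
  have hnc : ¬ Subgroup.centralizer {x} ≤ alternatingGroup α := by
    rw [centralizer_le_alternating_iff]
    rintro ⟨h1, -, -⟩
    have : (2 : ℕ) ∈ x.cycleType := by
      rw [hxv, hd₁.cycleType_mul, hctv₁]
      simp
    exact absurd (h1 2 this) (by decide)
  have hx' : r₂ * v₂ ∈ C := hC.class_mem hx hct' hnc
  have hr₂sq : r₂ * r₂ = 1 := by rw [← sq]; exact hrp₂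
  have hv12 : v₁ * v₂ = swap a d * swap b e :=
    klein_mul a b e d hab hea.symm hda.symm heb.symm hdb.symm hed
  have hv21 : v₂ * v₁ = swap a d * swap b e := by
    have := klein_mul a e b d hea.symm hab hda.symm heb hed hdb.symm
    rw [this, swap_comm e b]
  have hprod : x * (r₂ * v₂) = swap a d * swap b e := by
    rw [hxv]
    calc r₂ * v₁ * (r₂ * v₂) = r₂ * (v₁ * r₂) * v₂ := by group
      _ = r₂ * (r₂ * v₁) * v₂ := by rw [hd₁.commute.eq]
      _ = (r₂ * r₂) * (v₁ * v₂) := by group
      _ = swap a d * swap b e := by rw [hr₂sq, one_mul, hv12]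
  have hprod' : (r₂ * v₂) * x = swap a d * swap b e := by
    rw [hxv]
    calc r₂ * v₂ * (r₂ * v₁) = r₂ * (v₂ * r₂) * v₁ := by group
      _ = r₂ * (r₂ * v₂) * v₁ := by rw [hd₂.commute.eq]
      _ = (r₂ * r₂) * (v₂ * v₁) := by group
      _ = swap a d * swap b e := by rw [hr₂sq, one_mul, hv21]
  have hcommxx : x * (r₂ * v₂) = (r₂ * v₂) * x := by rw [hprod, hprod']
  have hx'A : r₂ * v₂ ∈ alternatingGroup α := by
    rw [mem_alternatingGroup, sign_of_cycleType, ← hct', ← sign_of_cycleType]
    exact hxA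
  have hcomm : ∀ u ∈ ({x, r₂ * v₂} : Set (Perm α)), ∀ w ∈ ({x, r₂ * v₂} : Set (Perm α)),
      u * w = w * u := by
    intro u hu w hw
    rcases hu with rfl | rfl <;> rcases hw with rfl | rfl
    · rfl
    · exact hcommxx
    · exact hcommxx.symm
    · rfl
  have hx'sq : (r₂ * v₂) ^ 2 = 1 := by
    have : orderOf (r₂ * v₂) = orderOf x := by
      rw [← lcm_cycleType, ← lcm_cycleType, hct']
    rw [← ho, ← this]
    exact pow_orderOf_eq_one _
  have hpel : ∀ u ∈ ({x, r₂ * v₂} : Set (Perm α)), ∃ k : ℕ, u ^ 2 ^ k = 1 := by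
    intro u hu
    rcases hu with rfl | rfl
    · exact ⟨1, by rw [pow_one]; exact hxp⟩
    · exact ⟨1, by rw [pow_one]; exact hx'sq⟩
  have hP := isPGroup_closure_of_commute 2 hcomm hpel
  have hPA : Subgroup.closure ({x, r₂ * v₂} : Set (Perm α)) ≤ alternatingGroup α := by
    rw [Subgroup.closure_le]
    intro u hu
    rcases hu with rfl | rfl
    · exact hxA
    · exact hx'A
  refine ⟨x * (r₂ * v₂), hC.mul_mem hPA hP hx hx' (Subgroup.subset_closure (by simp))
    (Subgroup.subset_closure (by simp)), ?_⟩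
  rw [hprod]
  exact cycleType_swap_mul_swap hda.symm heb.symm hab hea.symm hdb hed.symm

end Cfsg.Agent.Helper25.AltFus
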