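import Mathlib
import Cfsg.Agent.Lib.Helper25.AltFus5

set_option autoImplicit false
set_option linter.unusedSimpArgs false

/-! Fusion sets in the alternating group: all involutions (`p = 2`). -/

namespace Cfsg.Agent.Helper25.AltFus

open Equiv Equiv.Perm

variable {α : Type*} [DecidableEq α] [Fintype α]

/-- splitting a double transposition off an even involution -/
theorem two_factor [Fact (Nat.Prime 2)] {y : Perm α} (hyA : y ∈ alternatingGroup α)
    (hy2 : y ^ 2 = 1) (hy1 : y ≠ 1) :
    ∃ r₂ d : Perm α, y = r₂ * d ∧ Disjoint r₂ d ∧ d.cycleType = {2, 2} ∧ r₂ ^ 2 = 1 ∧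
      r₂ ∈ alternatingGroup α ∧ r₂.support.card < y.support.card ∧ d ^ 2 = 1 := by
  obtain ⟨c, hc⟩ : (cycleFactorsFinset y).Nonempty := by
    rw [Finset.nonempty_iff_ne_empty, Ne, cycleFactorsFinset_eq_empty_iff]
    exact hy1
  obtain ⟨hct, hcp, hrp⟩ := cycleType_of_mem_cycleFactorsFinset hc hy2
  set r := y * c⁻¹ with hr
  have hdisj : Disjoint r c := disjoint_mul_inv_of_mem_cycleFactorsFinset hc
  have hyrc : y = r * c := by rw [hr]; group
  have hcyc : c.IsCycle := (mem_cycleFactorsFinset_iff.mp hc).1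
  have hcard : c.support.card = 2 := by
    have := hcyc.cycleType
    rw [hct] at this
    exact (Multiset.singleton_inj.mp this).symm
  have hsc : sign c = -1 := (card_support_eq_two.mp hcard).sign_eq
  have hsr : sign r = -1 := by
    rw [mem_alternatingGroup, hyrc, map_mul, hsc] at hyA
    rcases Int.units_eq_one_or (sign r) with h | h
    · rw [h] at hyA; exact absurd hyA (by decide)
    · exact h
  have hr1 : r ≠ 1 := by
    intro h
    rw [h, map_one] at hsr
    exact absurd hsr (by decide)
  obtain ⟨c₂, hc₂⟩ : (cycleFactorsFinset r).Nonempty := by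
    rw [Finset.nonempty_iff_ne_empty, Ne, cycleFactorsFinset_eq_empty_iff]
    exact hr1
  obtain ⟨hct₂, hcp₂, hrp₂⟩ := cycleType_of_mem_cycleFactorsFinset hc₂ hrp
  set r₂ := r * c₂⁻¹ with hr₂
  have hdisj₂ : Disjoint r₂ c₂ := disjoint_mul_inv_of_mem_cycleFactorsFinset hc₂
  have hrrc : r = r₂ * c₂ := by rw [hr₂]; group
  have hcyc₂ : c₂.IsCycle := (mem_cycleFactorsFinset_iff.mp hc₂).1
  have hcard₂ : c₂.support.card = 2 := by
    have := hcyc₂.cycleType
    rw [hct₂] at this
    exact (Multiset.singleton_inj.mp this).symm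
  have hsc₂ : sign c₂ = -1 := (card_support_eq_two.mp hcard₂).sign_eq
  have hs₂ : c₂.support ≤ r.support := mem_cycleFactorsFinset_support_le hc₂
  have hsupr : r.support = r₂.support ∪ c₂.support := by
    rw [hrrc]; exact hdisj₂.support_mul
  have hsr₂ : r₂.support ⊆ r.support := by
    rw [hsupr]; exact Finset.subset_union_left
  have hdrc := disjoint_iff_disjoint_support.mp hdisj
  have hd_r₂c : Disjoint r₂ c := by
    rw [disjoint_iff_disjoint_support]
    exact Finset.disjoint_of_subset_left hsr₂ hdrc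
  have hd_c₂c : Disjoint c₂ c := by
    rw [disjoint_iff_disjoint_support]
    exact Finset.disjoint_of_subset_left hs₂ hdrc
  refine ⟨r₂, c₂ * c, ?_, hdisj₂.mul_right hd_r₂c, ?_, hrp₂, ?_, ?_, ?_⟩
  · rw [hyrc, hrrc, mul_assoc]
  · rw [hd_c₂c.cycleType_mul, hct₂, hct]; rfl
  · rw [mem_alternatingGroup]
    have : sign r = sign r₂ * sign c₂ := by rw [hrrc, map_mul]
    rw [hsr, hsc₂] at this
    rcases Int.units_eq_one_or (sign r₂) with h | h
    · exact h
    · rw [h] at this; exact absurd this (by decide)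
  · have h1 : y.support = r.support ∪ c.support := by rw [hyrc]; exact hdisj.support_mul
    have h2 : y.support.card = r.support.card + c.support.card := by
      rw [h1, Finset.card_union_of_disjoint hdrc]
    have h3 : r₂.support.card ≤ r.support.card := Finset.card_le_card hsr₂
    omega
  · rw [hd_c₂c.commute.mul_pow, hcp₂, hcp, one_mul]

theorem FusSet.dtrans_mem [Fact (Nat.Prime 2)] {C : Set (Perm α)} (hC : FusSet 2 C)
    {d d' : Perm α} (hd : d ∈ C) (hct : d.cycleType = {2, 2}) (hct' : d'.cycleType = {2, 2}) :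
    d' ∈ C := by
  refine hC.class_mem hd (hct.trans hct'.symm) ?_
  rw [centralizer_le_alternating_iff]
  rintro ⟨h1, -, -⟩
  have : (2 : ℕ) ∈ d.cycleType := by rw [hct]; simp
  exact absurd (h1 2 this) (by decide)

/-- all even involutions lie in the fusion set -/
theorem FusSet.mem_of_sq_eq_one [Fact (Nat.Prime 2)] {C : Set (Perm α)} (hC : FusSet 2 C)
    (hall : ∀ d : Perm α, d.cycleType = {2, 2} → d ∈ C) :
    ∀ (n : ℕ) (y : Perm α), y.support.card = n → y ∈ alternatingGroup α → y ^ 2 = 1 → y ∈ C := by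
  intro n
  induction n using Nat.strong_induction_on with
  | _ n ih =>
    intro y hn hyA hy2
    by_cases hy1 : y = 1
    · rw [hy1]; exact hC.one_mem
    obtain ⟨r₂, d, hyrd, hdisj, hdct, hr₂sq, hr₂A, hlt, hdsq⟩ := two_factor hyA hy2 hy1
    have hr₂C : r₂ ∈ C := ih _ (by rw [← hn]; exact hlt) r₂ rfl hr₂A hr₂sq
    have hdC : d ∈ C := hall d hdct
    have hdA : d ∈ alternatingGroup α := by
      rw [mem_alternatingGroup, sign_of_cycleType, hdct]
      rfl
    have hcomm : ∀ u ∈ ({r₂, d} : Set (Perm α)), ∀ w ∈ ({r₂, d} : Set (Perm α)),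
        u * w = w * u := by
      intro u hu w hw
      rcases hu with rfl | rfl <;> rcases hw with rfl | rfl
      · rfl
      · exact hdisj.commute.eq
      · exact hdisj.commute.eq.symm
      · rfl
    have hpel : ∀ u ∈ ({r₂, d} : Set (Perm α)), ∃ k : ℕ, u ^ 2 ^ k = 1 := by
      intro u hu
      rcases hu with rfl | rfl
      · exact ⟨1, by rw [pow_one]; exact hr₂sq⟩
      · exact ⟨1, by rw [pow_one]; exact hdsq⟩
    have hP := isPGroup_closure_of_commute 2 hcomm hpel
    have hPA : Subgroup.closure ({r₂, d} : Set (Perm α)) ≤ alternatingGroup α := by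
      rw [Subgroup.closure_le]
      intro u hu
      rcases hu with rfl | rfl
      · exact hr₂A
      · exact hdA
    rw [hyrd]
    exact hC.mul_mem hPA hP hr₂C hdC (Subgroup.subset_closure (by simp))
      (Subgroup.subset_closure (by simp))

end Cfsg.Agent.Helper25.AltFus
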