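import Mathlib
import Cfsg.Agent.Lib.Helper25.AltFus2
import Cfsg.Agent.Lib.Helper25.AltFus3

set_option autoImplicit false

/-! Decomposition of a cycle of length `N p` inside a `p`-group `C_N ≀ C_p`. -/

namespace Cfsg.Agent.Helper25.AltFus

open Equiv Equiv.Perm

section general

variable {G : Type*} [Group G]

theorem mem_normalizer_closure {S : Set G} {g : G}
    (h1 : ∀ s ∈ S, g * s * g⁻¹ ∈ Subgroup.closure S)
    (h2 : ∀ s ∈ S, g⁻¹ * s * g ∈ Subgroup.closure S) :
    g ∈ Subgroup.normalizer (Subgroup.closure S : Set G) := by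
  have key1 : ∀ h ∈ Subgroup.closure S, g * h * g⁻¹ ∈ Subgroup.closure S := by
    intro h hh
    induction hh using Subgroup.closure_induction with
    | mem a ha => exact h1 a ha
    | one => simp
    | mul a b _ _ iha ihb =>
      have : g * (a * b) * g⁻¹ = (g * a * g⁻¹) * (g * b * g⁻¹) := by group
      rw [this]; exact Subgroup.mul_mem _ iha ihb
    | inv a _ iha =>
      have : g * a⁻¹ * g⁻¹ = (g * a * g⁻¹)⁻¹ := by group
      rw [this]; exact Subgroup.inv_mem _ iha
  have key2 : ∀ h ∈ Subgroup.closure S, g⁻¹ * h * g ∈ Subgroup.closure S := by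
    intro h hh
    induction hh using Subgroup.closure_induction with
    | mem a ha => exact h2 a ha
    | one => simp
    | mul a b _ _ iha ihb =>
      have : g⁻¹ * (a * b) * g = (g⁻¹ * a * g) * (g⁻¹ * b * g) := by group
      rw [this]; exact Subgroup.mul_mem _ iha ihb
    | inv a _ iha =>
      have : g⁻¹ * a⁻¹ * g = (g⁻¹ * a * g)⁻¹ := by group
      rw [this]; exact Subgroup.inv_mem _ iha
  rw [Subgroup.mem_normalizer_iff]
  intro h
  constructor
  · exact key1 h
  · intro hh
    have := key2 _ hh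
    have e : g⁻¹ * (g * h * g⁻¹) * g = h := by group
    rwa [e] at this

end general

/-- sign of the top shift -/
theorem sign_mSig (N p : ℕ) [NeZero N] [Fact p.Prime] (hpN : p ∣ N) : sign (mSig N p) = 1 := by
  have h : mSig N p = prodCongrRight (fun _ : ZMod N => (Equiv.addRight (1 : ZMod p))) := by
    ext x : 1
    rfl
  rw [h, sign_prodCongrRight, Finset.prod_const, Finset.card_univ, ZMod.card]
  obtain ⟨m, rfl⟩ := hpN
  rw [pow_mul, ← map_pow]
  have : (Equiv.addRight (1 : ZMod p)) ^ p = 1 := by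
    ext x : 1
    simp
  rw [this, map_one, one_pow]

variable {α : Type*} [Fintype α] [DecidableEq α]

/-- the cycle decomposition -/
theorem cycle_decomp (N p : ℕ) [NeZero N] [Fact p.Prime] (hpN : p ∣ N) {c : Perm α}
    (hc : c.IsCycle) (hcard : c.support.card = N * p) :
    ∃ (σ : Perm α) (β : ZMod p → Perm α), c = β 0 * σ ∧ σ ^ p = 1 ∧ sign σ = 1 ∧
      (∀ i j, β i * β j = β j * β i) ∧ (∀ i, σ * β i * σ⁻¹ = β (i + 1)) ∧
      (∀ i, β i ^ N = 1) ∧ (∀ z, c z = z → σ z = z) ∧ (∀ i z, c z = z → β i z = z) ∧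
      ∃ ω, c ω ≠ ω ∧ β 0 ω = ω := by
  have hcardeq : Fintype.card (ZMod N × ZMod p) = Fintype.card {a // a ∈ c.support} := by
    rw [Fintype.card_prod, ZMod.card, ZMod.card, Fintype.card_coe, hcard]
  let f : ZMod N × ZMod p ≃ {a // a ∈ c.support} := Fintype.equivOfCardEq hcardeq
  set c₁ : Perm α := (mC N p).extendDomain f with hc₁
  have hct : c₁.cycleType = c.cycleType := by
    rw [hc₁, cycleType_extendDomain, mC_cycleType, hc.cycleType, hcard]
  obtain ⟨π, hπ⟩ := isConj_iff.1 (isConj_iff_cycleType_eq.2 hct)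
  -- the homomorphism
  let Φ : Perm (ZMod N × ZMod p) →* Perm α :=
    (MulAut.conj π).toMonoidHom.comp (extendDomainHom f)
  have hΦ : ∀ g, Φ g = π * g.extendDomain f * π⁻¹ := fun g => rfl
  have hΦc : Φ (mC N p) = c := by rw [hΦ, ← hc₁, hπ]
  -- fixed points
  have hfix : ∀ g z, c z = z → Φ g z = z := by
    intro g z hz
    have h1 : c₁ (π⁻¹ z) = π⁻¹ z := by
      have : c₁ = π⁻¹ * c * π := by rw [← hπ]; group
      rw [this]
      simp [hz]
    have h2 : ¬ (π⁻¹ z ∈ c.support) := by
      intro hmem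
      obtain ⟨x, hx⟩ := f.surjective ⟨π⁻¹ z, hmem⟩
      have hx' : π⁻¹ z = (f x : α) := by rw [hx]
      rw [hx', hc₁, extendDomain_apply_image] at h1
      have h3 : f (mC N p x) = f x := Subtype.ext h1
      have h4 := f.injective h3
      have h5 : x ∈ (mC N p).support := by rw [mC_support]; exact Finset.mem_univ _
      exact (Perm.mem_support.mp h5) h4
    rw [hΦ, Perm.mul_apply, Perm.mul_apply, extendDomain_apply_not_subtype _ _ h2]
    simp
  refine ⟨Φ (mSig N p), fun i => Φ (mBeta N p i), ?_, ?_, ?_, ?_, ?_, ?_, ?_, ?_, ?_⟩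
  · rw [← map_mul, ← hΦc]; rfl
  · rw [← map_pow, mSig_pow_p, map_one]
  · rw [hΦ, map_mul, map_mul, sign_inv, mul_comm, ← mul_assoc]
    rw [sign_extendDomain, sign_mSig N p hpN]
    simp
  · intro i j
    rw [← map_mul, ← map_mul, mBeta_comm]
  · intro i
    rw [← map_inv, ← map_mul, ← map_mul, mSig_conj_mBeta]
  · intro i
    rw [← map_pow, mBeta_pow_N, map_one]
  · intro z hz
    exact hfix _ z hz
  · intro i z hz
    exact hfix _ z hz
  · refine ⟨π (f ((0 : ZMod N), (1 : ZMod p))), ?_, ?_⟩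
    · intro h
      have hc' : c (π (f ((0 : ZMod N), (1 : ZMod p)))) =
          (Φ (mC N p)) (π (f ((0 : ZMod N), (1 : ZMod p)))) := by rw [hΦc]
      rw [hc', hΦ] at h
      simp only [Perm.mul_apply, Perm.coe_inv, symm_apply_apply, extendDomain_apply_image] at h
      have h3 : f (mC N p (0, 1)) = f (0, 1) := Subtype.ext (π.injective h)
      have h4 := f.injective h3
      have h5 : ((0 : ZMod N), (1 : ZMod p)) ∈ (mC N p).support := by
        rw [mC_support]; exact Finset.mem_univ _
      exact (Perm.mem_support.mp h5) h4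
    · show Φ (mBeta N p 0) _ = _
      rw [hΦ]
      simp only [Perm.mul_apply, Perm.coe_inv, symm_apply_apply, extendDomain_apply_image]
      rw [mBeta_zero_fix]

end Cfsg.Agent.Helper25.AltFus
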