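import Mathlib
import Cfsg.Agent.Lib.Helper25.AltFus7

set_option autoImplicit false

/-! Fusion sets in the alternating group: from elements of order `p` to all `p`-elements. -/

namespace Cfsg.Agent.Helper25.AltFus

open Equiv Equiv.Perm

variable {α : Type*} [Fintype α] [DecidableEq α]

theorem FusSet.mem_of_pPow {p : ℕ} [Fact p.Prime] {C : Set (Perm α)} (hC : FusSet p C)
    (hord : ∀ y ∈ alternatingGroup α, y ^ p = 1 → y ∈ C) :
    ∀ (n : ℕ) (y : Perm α), (y ^ p).support.card = n → y ∈ alternatingGroup α →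
      (∃ k : ℕ, y ^ p ^ k = 1) → y ∈ C := by
  intro n
  induction n using Nat.strong_induction_on with
  | _ n ih =>
    rintro y hn hyA ⟨k, hk⟩
    have hpp := (Fact.out : p.Prime)
    by_cases hyp : y ^ p = 1
    · exact hord y hyA hyp
    obtain ⟨z, hz⟩ : ∃ z, (y ^ p) z ≠ z := by
      by_contra hcon
      push_neg at hcon
      exact hyp (Perm.ext hcon)
    have hzy : z ∈ y.support := by
      rw [Perm.mem_support]
      intro h
      apply hz
      exact pow_apply_eq_self_of_apply_eq_self h p
    set c := y.cycleOf z with hcdef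
    have hcmem : c ∈ cycleFactorsFinset y := cycleOf_mem_cycleFactorsFinset_iff.mpr hzy
    have hcyc : c.IsCycle := (mem_cycleFactorsFinset_iff.mp hcmem).1
    set y' := y * c⁻¹ with hy'
    have hdisj : Disjoint y' c := disjoint_mul_inv_of_mem_cycleFactorsFinset hcmem
    have hyc : y = y' * c := by rw [hy']; group
    have hpk : y' ^ p ^ k = 1 ∧ c ^ p ^ k = 1 := by
      have h1 : y' ^ p ^ k * c ^ p ^ k = 1 := by
        rw [← hdisj.commute.mul_pow, ← hyc, hk]
      exact (Disjoint.mul_eq_one_iff (hdisj.pow_disjoint_pow _ _)).mp h1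
    have hcp : c ^ p ≠ 1 := by
      intro h
      apply hz
      have : (c ^ p) z = (y ^ p) z := cycleOf_pow_apply_self y z p
      rw [← this, h]; rfl
    obtain ⟨i, hik, hi⟩ := (Nat.dvd_prime_pow hpp).mp (orderOf_dvd_of_pow_eq_one hpk.2)
    have hi2 : 2 ≤ i := by
      by_contra hlt
      push_neg at hlt
      apply hcp
      have : orderOf c ∣ p := by
        rw [hi]
        calc p ^ i ∣ p ^ 1 := pow_dvd_pow p (by omega)
          _ = p := pow_one p
      exact orderOf_dvd_iff_pow_eq_one.mp this
    obtain ⟨j, rfl⟩ : ∃ j, i = j + 2 := ⟨i - 2, by omega⟩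
    set N := p ^ (j + 1) with hN
    haveI : NeZero N := ⟨pow_ne_zero _ hpp.ne_zero⟩
    have hcard : c.support.card = N * p := by
      rw [← hcyc.orderOf, hi, hN, ← pow_succ]
    have hpN : p ∣ N := dvd_pow_self p (by omega)
    obtain ⟨σ, β, hcβσ, hσp, hσs, hβcomm, hσβ, hβN, hσfix, hβfix, ω, hωc, hωβ⟩ :=
      cycle_decomp N p hpN hcyc hcard
    have hdβ : ∀ i, Disjoint y' (β i) := fun i z => (hdisj z).imp id (hβfix i z)
    have hdσ : Disjoint y' σ := fun z => (hdisj z).imp id (hσfix z)
    set b := y' * β 0 with hb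
    have hyb : y = b * σ := by rw [hb, mul_assoc, ← hcβσ]; exact hyc
    set S : Set (Perm α) := Set.range β ∪ {y'} with hS
    have hKcomm : ∀ a ∈ S, ∀ a' ∈ S, a * a' = a' * a := by
      rintro a (⟨i, rfl⟩ | ha) a' (⟨i', rfl⟩ | ha')
      · exact hβcomm i i'
      · rw [Set.mem_singleton_iff] at ha'; rw [ha']; exact (hdβ i).commute.eq.symm
      · rw [Set.mem_singleton_iff] at ha; rw [ha]; exact (hdβ i').commute.eq
      · rw [Set.mem_singleton_iff] at ha ha'; rw [ha, ha']
    have hKp : ∀ a ∈ S, ∃ k : ℕ, a ^ p ^ k = 1 := by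
      rintro a (⟨i, rfl⟩ | ha)
      · exact ⟨j + 1, hβN i⟩
      · rw [Set.mem_singleton_iff] at ha; rw [ha]; exact ⟨k, hpk.1⟩
    have hK : IsPGroup p (Subgroup.closure S) := isPGroup_closure_of_commute p hKcomm hKp
    have hσK : σ ∈ Subgroup.normalizer (Subgroup.closure S : Set (Perm α)) := by
      apply mem_normalizer_closure
      · rintro s (⟨i, rfl⟩ | hs)
        · rw [hσβ]; exact Subgroup.subset_closure (Or.inl ⟨i + 1, rfl⟩)
        · rw [Set.mem_singleton_iff] at hs; rw [hs]
          have : σ * y' * σ⁻¹ = y' := by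
            rw [← hdσ.commute.eq]; group
          rw [this]; exact Subgroup.subset_closure (Or.inr rfl)
      · rintro s (⟨i, rfl⟩ | hs)
        · have h1 := hσβ (i - 1)
          rw [sub_add_cancel] at h1
          have : σ⁻¹ * β i * σ = β (i - 1) := by rw [← h1]; group
          rw [this]; exact Subgroup.subset_closure (Or.inl ⟨i - 1, rfl⟩)
        · rw [Set.mem_singleton_iff] at hs; rw [hs]
          have : σ⁻¹ * y' * σ = y' := by
            rw [mul_assoc, hdσ.commute.eq]; group
          rw [this]; exact Subgroup.subset_closure (Or.inr rfl)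
    have hZ : IsPGroup p (Subgroup.zpowers σ) := by
      rw [Subgroup.zpowers_eq_closure]
      apply isPGroup_closure_of_commute p
      · intro a ha a' ha'
        rw [Set.mem_singleton_iff] at ha ha'; rw [ha, ha']
      · intro a ha
        rw [Set.mem_singleton_iff] at ha; rw [ha]
        exact ⟨1, by rw [pow_one]; exact hσp⟩
    have hsup : IsPGroup p (Subgroup.zpowers σ ⊔ Subgroup.closure S : Subgroup (Perm α)) :=
      IsPGroup.to_sup_of_normal_right' hZ hK (Subgroup.zpowers_le.mpr hσK)
    set P : Subgroup (Perm α) := (Subgroup.zpowers σ ⊔ Subgroup.closure S) ⊓ alternatingGroup α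
      with hPdef
    have hP : IsPGroup p P := hsup.to_le inf_le_left
    have hPA : P ≤ alternatingGroup α := inf_le_right
    have hσA : σ ∈ alternatingGroup α := mem_alternatingGroup.mpr hσs
    have hbA : b ∈ alternatingGroup α := by
      rw [mem_alternatingGroup] at hyA ⊢
      rw [hyb, map_mul, hσs, mul_one] at hyA
      exact hyA
    have hσP : σ ∈ P :=
      Subgroup.mem_inf.mpr ⟨Subgroup.mem_sup_left (Subgroup.mem_zpowers σ), hσA⟩
    have hbK : b ∈ Subgroup.closure S :=
      Subgroup.mul_mem _ (Subgroup.subset_closure (Or.inr rfl))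
        (Subgroup.subset_closure (Or.inl ⟨0, rfl⟩))
    have hbP : b ∈ P := Subgroup.mem_inf.mpr ⟨Subgroup.mem_sup_right hbK, hbA⟩
    have hσC : σ ∈ C := hord σ hσA hσp
    have hbpow : ∃ k' : ℕ, b ^ p ^ k' = 1 := by
      obtain ⟨k', hk'⟩ := hK ⟨b, hbK⟩
      exact ⟨k', by simpa using congrArg Subtype.val hk'⟩
    have hlt : (b ^ p).support.card < n := by
      rw [← hn]
      have e1 : b ^ p = y' ^ p * β 0 ^ p := by rw [hb, (hdβ 0).commute.mul_pow]
      have e2 : y ^ p = y' ^ p * c ^ p := by rw [hyc, hdisj.commute.mul_pow]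
      rw [e1, e2, ((hdβ 0).pow_disjoint_pow p p).card_support_mul,
        (hdisj.pow_disjoint_pow p p).card_support_mul]
      have e3 : (c ^ p).support = c.support := by
        apply hcyc.support_pow_of_pos_of_lt_orderOf hpp.pos
        rw [hi]
        calc p = p ^ 1 := (pow_one p).symm
          _ < p ^ (j + 2) := Nat.pow_lt_pow_right hpp.one_lt (by omega)
      rw [e3]
      have e4 : (β 0 ^ p).support ⊆ (β 0).support := support_pow_le _ _
      have e5 : (β 0).support ⊂ c.support := by
        rw [Finset.ssubset_iff_of_subset]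
        · refine ⟨ω, Perm.mem_support.mpr hωc, ?_⟩
          rw [Perm.mem_support]; exact fun h => h hωβ
        · intro z hz
          rw [Perm.mem_support] at hz ⊢
          exact fun h => hz (hβfix 0 z h)
      have e6 : (β 0 ^ p).support.card < c.support.card :=
        lt_of_le_of_lt (Finset.card_le_card e4) (Finset.card_lt_card e5)
      omega
    have hbC : b ∈ C := ih _ hlt b rfl hbA hbpow
    rw [hyb]
    exact hC.mul_mem hPA hP hbC hσC hbP hσP

end Cfsg.Agent.Helper25.AltFus
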