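import Mathlib
import Cfsg.Prelude.Def_FusionSystem
import Cfsg.Agent.Lib.Helper25.FusionSimpCrit
import Cfsg.Agent.Lib.Helper25.FusionSylow3

/-!
# A group-theoretic simplicity criterion for the fusion system of a finite group
-/

set_option autoImplicit false
set_option linter.style.haveILetI false
set_option linter.unusedSectionVars false

namespace Cfsg.Agent.Helper25.SimpCrit

open Cfsg Cfsg.FusionSystem Cfsg.Agent.Helper25

variable {G : Type*} [Group G]

/-- `T` is closed under `G`-fusion inside `S`. -/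
def FusClosed (S T : Subgroup G) : Prop :=
  ∀ x ∈ T, ∀ g : G, g * x * g⁻¹ ∈ S → g * x * g⁻¹ ∈ T

/-- No proper nontrivial subgroup of `S` is closed under `G`-fusion. -/
def NoClosed (S : Subgroup G) : Prop :=
  ∀ T : Subgroup G, T ≤ S → T ≠ ⊥ → FusClosed S T → T = S

/-- The good generators of `N_G(S)`. -/
def GoodGen (p : ℕ) (S : Subgroup G) : Set G :=
  {x | x ∈ S ∨ (x ∈ Subgroup.normalizer (S : Set G) ∧ ∃ R : Subgroup G, R ≤ S ∧
    Subgroup.centralizer (R : Set G) ≤ R ∧
    x ∈ Subgroup.closure {y | y ∈ Subgroup.normalizer (R : Set G) ∧ ∃ k : ℕ, y ^ p ^ k = 1})}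

/-- `N_G(S)` is generated by good generators. -/
def AutGen (p : ℕ) (S : Subgroup G) : Prop :=
  Subgroup.normalizer (S : Set G) ≤ Subgroup.closure (GoodGen p S)

section transport

variable {H : Type*} [Group H] (e : G ≃* H)

theorem mem_map_equiv_iff {S : Subgroup G} {y : H} :
    y ∈ S.map e.toMonoidHom ↔ e.symm y ∈ S := by
  constructor
  · rintro ⟨x, hx, rfl⟩
    simpa using hx
  · intro h
    exact ⟨e.symm y, h, by simp⟩

theorem NoClosed.map {S : Subgroup G} (h : NoClosed S) : NoClosed (S.map e.toMonoidHom) := by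
  intro T' hT'S hT'ne hT'c
  have h1 : T'.comap e.toMonoidHom = S := by
    apply h
    · intro x hx
      have := hT'S hx
      rw [mem_map_equiv_iff] at this
      simpa using this
    · intro hbot
      apply hT'ne
      rw [eq_bot_iff]
      intro y hy
      have : e.symm y ∈ T'.comap e.toMonoidHom := by
        show e (e.symm y) ∈ T'
        simpa using hy
      rw [hbot, Subgroup.mem_bot] at this
      rw [Subgroup.mem_bot]
      have h2 := congrArg e this
      simpa using h2
    · intro x hx g hg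
      show e (g * x * g⁻¹) ∈ T'
      have hx' : e x ∈ T' := hx
      have hcalc : e g * e x * (e g)⁻¹ = e (g * x * g⁻¹) := by simp
      have h3 := hT'c (e x) hx' (e g) (by
        rw [hcalc]; exact ⟨_, hg, rfl⟩)
      rwa [hcalc] at h3
  rw [← h1]
  ext y
  rw [mem_map_equiv_iff]
  show y ∈ T' ↔ e (e.symm y) ∈ T'
  simp

theorem mem_normalizer_map_iff {S : Subgroup G} {y : H} :
    y ∈ Subgroup.normalizer ((S.map e.toMonoidHom : Subgroup H) : Set H) ↔
      e.symm y ∈ Subgroup.normalizer (S : Set G) := by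
  rw [Subgroup.mem_normalizer_iff, Subgroup.mem_normalizer_iff]
  constructor
  · intro h x
    have := h (e x)
    rw [mem_map_equiv_iff, mem_map_equiv_iff] at this
    simpa using this
  · intro h z
    have := h (e.symm z)
    rw [mem_map_equiv_iff, mem_map_equiv_iff]
    simpa using this

theorem goodGen_map {p : ℕ} {S : Subgroup G} {x : G} (hx : x ∈ GoodGen p S) :
    e x ∈ GoodGen p (S.map e.toMonoidHom) := by
  rcases hx with hx | ⟨hxN, R, hRS, hRc, hxc⟩
  · exact Or.inl ⟨x, hx, rfl⟩
  · right
    refine ⟨?_, R.map e.toMonoidHom, Subgroup.map_mono hRS, ?_, ?_⟩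
    · rw [mem_normalizer_map_iff]; simpa using hxN
    · intro y hy
      rw [mem_map_equiv_iff]
      apply hRc
      rw [Subgroup.mem_centralizer_iff] at hy ⊢
      intro r hr
      have := hy (e r) ⟨r, hr, rfl⟩
      apply e.injective
      rw [map_mul, map_mul]
      simpa using this
    · have hle : Subgroup.closure {y | y ∈ Subgroup.normalizer (R : Set G) ∧
          ∃ k : ℕ, y ^ p ^ k = 1} ≤ (Subgroup.closure {y | y ∈ Subgroup.normalizer
            ((R.map e.toMonoidHom : Subgroup H) : Set H) ∧ ∃ k : ℕ, y ^ p ^ k = 1}).comap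
              e.toMonoidHom := by
        rw [Subgroup.closure_le]
        rintro y ⟨hyN, k, hk⟩
        apply Subgroup.subset_closure
        refine ⟨?_, k, ?_⟩
        · rw [mem_normalizer_map_iff]; simpa using hyN
        · show (e y) ^ p ^ k = 1
          rw [← map_pow, hk, map_one]
      exact hle hxc

theorem AutGen.map {p : ℕ} {S : Subgroup G} (h : AutGen p S) :
    AutGen p (S.map e.toMonoidHom) := by
  intro y hy
  rw [mem_normalizer_map_iff] at hy
  have h1 := h hy
  have hle : Subgroup.closure (GoodGen p S) ≤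
      (Subgroup.closure (GoodGen p (S.map e.toMonoidHom))).comap e.toMonoidHom := by
    rw [Subgroup.closure_le]
    intro x hx
    exact Subgroup.subset_closure (goodGen_map e hx)
  have h2 := hle h1
  have h3 : e (e.symm y) ∈ Subgroup.closure (GoodGen p (S.map e.toMonoidHom)) := h2
  simpa using h3

end transport

/-- Strongly closed subgroups are closed under fusion. -/
theorem fusClosed_of_stronglyClosed {S T : Subgroup G}
    (hT : (groupFusionSystem S).StronglyClosed T) : FusClosed S T := by
  intro x hx g hg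
  have hzT : Subgroup.zpowers x ≤ T := (Subgroup.zpowers_le).mpr hx
  have hmem : conjHom (Subgroup.zpowers x) g ∈ (groupFusionSystem S).Hom (Subgroup.zpowers x) := by
    refine ⟨hzT.trans hT.1, fun y => ?_, g, fun y => rfl⟩
    obtain ⟨k, hk⟩ := Subgroup.mem_zpowers_iff.mp y.2
    rw [conjHom_apply, ← hk]
    have : g * x ^ k * g⁻¹ = (g * x * g⁻¹) ^ k := by
      rw [conj_zpow]
    rw [this]
    exact Subgroup.zpow_mem _ hg k
  have := hT.2 _ hzT _ hmem ⟨x, Subgroup.mem_zpowers x⟩
  rwa [conjHom_apply] at this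

/-- A subgroup containing its centralizer in `G` is centric in the fusion system. -/
theorem isCentric_of_centralizer_le {S R : Subgroup G} (hRS : R ≤ S)
    (hc : Subgroup.centralizer (R : Set G) ≤ R) : (groupFusionSystem S).IsCentric R := by
  refine ⟨hRS, fun Q hQ => ?_⟩
  obtain ⟨-, hQS, g, rfl⟩ := groupFusionSystem_isConj_iff.mp hQ
  intro c hc'
  obtain ⟨-, hcc⟩ := mem_centralizerIn.mp hc'
  rw [mem_conjBy]
  apply hc
  rw [Subgroup.mem_centralizer_iff]
  intro r hr
  have h1 := hcc (g * r * g⁻¹) (by rw [mem_conjBy]; simpa [mul_assoc] using hr)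
  calc r * (g⁻¹ * c * g) = g⁻¹ * ((g * r * g⁻¹) * c) * g := by group
    _ = g⁻¹ * (c * (g * r * g⁻¹)) * g := by rw [h1]
    _ = g⁻¹ * c * g * r := by group

/-- **Criterion.** -/
theorem isSimple_of_noClosed_autGen [Finite G] (p : ℕ) [Fact p.Prime] (S : Sylow p G)
    (hS1 : (S : Subgroup G) ≠ ⊥) (h1 : NoClosed (S : Subgroup G))
    (h2 : AutGen p (S : Subgroup G)) :
    (groupFusionSystem (S : Subgroup G)).IsSimple p := by
  have hF : (Cfsg.groupFusionSystem (S : Subgroup G)).IsSaturated p :=
    groupFusionSystem_isSaturated p S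
  have hSp : IsPGroup p (S : Subgroup G) := S.isPGroup'
  refine ⟨hF, hS1, fun T E hE => ?_⟩
  obtain ⟨⟨hEsat, -, hinv⟩, -⟩ := hE
  have hTsc := hinv.2.1
  by_cases hT : T = ⊥
  · exact Or.inl hT
  right
  have hTS : T = (S : Subgroup G) := h1 T hTsc.1 hT (fusClosed_of_stronglyClosed hTsc)
  subst hTS
  refine ⟨rfl, fun P => ?_⟩
  apply hom_eq_of_autGroup_le hinv
  intro β hβ
  rw [groupFusionSystem_autGroup le_rfl] at hβ
  obtain ⟨g, -, hgβ⟩ := (mem_autInducedBy_iff β).mp hβ
  have hgN : g ∈ Subgroup.normalizer ((S : Subgroup G) : Set G) := by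
    apply mem_normalizer_of_forall
    · intro y hy
      have := hgβ ⟨y, hy⟩
      rw [← this]
      exact (β ⟨y, hy⟩).2
    · intro y hy
      have := hgβ (β⁻¹ ⟨y, hy⟩)
      rw [MulAut.apply_inv_self] at this
      have h3 : g⁻¹ * y * g = ((β⁻¹ ⟨y, hy⟩ : (S : Subgroup G)) : G) := by
        have h4 : y = g * ((β⁻¹ ⟨y, hy⟩ : (S : Subgroup G)) : G) * g⁻¹ := this
        calc g⁻¹ * y * g = g⁻¹ * (g * ((β⁻¹ ⟨y, hy⟩ : (S : Subgroup G)) : G) * g⁻¹) * g := by
              rw [← h4]
          _ = _ := by group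
      rw [h3]
      exact (β⁻¹ ⟨y, hy⟩).2
  have hβeq : β = (S : Subgroup G).normalizerMonoidHom ⟨g, hgN⟩ := by
    ext x
    rw [hgβ]
    rfl
  rw [hβeq]
  -- closure induction over the good generators
  have key : ∀ x (hx : x ∈ Subgroup.closure (GoodGen p (S : Subgroup G))),
      ∃ hN : x ∈ Subgroup.normalizer ((S : Subgroup G) : Set G),
        (S : Subgroup G).normalizerMonoidHom ⟨x, hN⟩ ∈ E.autGroup (S : Subgroup G) := by
    intro x hx
    induction hx using Subgroup.closure_induction with
    | mem y hy =>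
      rcases hy with hyS | ⟨hyN, R, hRS, hRc, hyc⟩
      · refine ⟨Subgroup.le_normalizer hyS, ?_⟩
        apply autInducedBy_le_autGroup E le_rfl
        exact (mem_autInducedBy_iff _).mpr ⟨y, hyS, fun z => rfl⟩
      · refine ⟨hyN, ?_⟩
        have hyNR : y ∈ Subgroup.normalizer (R : Set G) :=
          (Subgroup.closure_le _).mpr (fun z hz => hz.1) hyc
        have hβF : (S : Subgroup G).normalizerMonoidHom ⟨y, hyN⟩ ∈
            (Cfsg.groupFusionSystem (S : Subgroup G)).autGroup (S : Subgroup G) := by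
          rw [groupFusionSystem_autGroup le_rfl]
          exact (mem_autInducedBy_iff _).mpr ⟨y, trivial, fun z => rfl⟩
        have hRcen := isCentric_of_centralizer_le hRS hRc
        refine mem_autGroup_of_restrict_mem_closure p hSp _ hF hEsat hinv hβF hRcen
          (R.normalizerMonoidHom ⟨y, hyNR⟩) ?_ (fun z => rfl)
        have key2 : ∀ w (hw : w ∈ Subgroup.closure {y : G | y ∈ Subgroup.normalizer (R : Set G) ∧
            ∃ k : ℕ, y ^ p ^ k = 1}), ∃ hN : w ∈ Subgroup.normalizer (R : Set G),
            R.normalizerMonoidHom ⟨w, hN⟩ ∈ Subgroup.closure {δ : MulAut R |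
              δ ∈ (Cfsg.groupFusionSystem (S : Subgroup G)).autGroup R ∧
                ∃ k : ℕ, δ ^ p ^ k = 1} := by
          intro w hw
          induction hw using Subgroup.closure_induction with
          | mem v hv =>
            obtain ⟨hvN, k, hk⟩ := hv
            refine ⟨hvN, Subgroup.subset_closure ⟨?_, k, ?_⟩⟩
            · rw [groupFusionSystem_autGroup hRS]
              exact (mem_autInducedBy_iff _).mpr ⟨v, trivial, fun z => rfl⟩
            · rw [← map_pow]
              have : (⟨v, hvN⟩ : Subgroup.normalizer (R : Set G)) ^ p ^ k = 1 := by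
                apply Subtype.ext
                show v ^ p ^ k = 1
                exact hk
              rw [this, map_one]
          | one =>
            refine ⟨Subgroup.one_mem _, ?_⟩
            have : (⟨1, Subgroup.one_mem _⟩ : Subgroup.normalizer (R : Set G)) = 1 := rfl
            rw [this, map_one]
            exact Subgroup.one_mem _
          | mul a b _ _ iha ihb =>
            obtain ⟨haN, ha'⟩ := iha
            obtain ⟨hbN, hb'⟩ := ihb
            refine ⟨Subgroup.mul_mem _ haN hbN, ?_⟩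
            have : (⟨a * b, Subgroup.mul_mem _ haN hbN⟩ : Subgroup.normalizer (R : Set G)) =
                ⟨a, haN⟩ * ⟨b, hbN⟩ := rfl
            rw [this, map_mul]
            exact Subgroup.mul_mem _ ha' hb'
          | inv a _ iha =>
            obtain ⟨haN, ha'⟩ := iha
            refine ⟨Subgroup.inv_mem _ haN, ?_⟩
            have : (⟨a⁻¹, Subgroup.inv_mem _ haN⟩ : Subgroup.normalizer (R : Set G)) =
                (⟨a, haN⟩ : Subgroup.normalizer (R : Set G))⁻¹ := rfl
            rw [this, map_inv]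
            exact Subgroup.inv_mem _ ha'
        obtain ⟨hN', h'⟩ := key2 y hyc
        exact h'
    | one =>
      refine ⟨Subgroup.one_mem _, ?_⟩
      have : (⟨1, Subgroup.one_mem _⟩ :
          Subgroup.normalizer ((S : Subgroup G) : Set G)) = 1 := rfl
      rw [this, map_one]
      exact Subgroup.one_mem _
    | mul a b _ _ iha ihb =>
      obtain ⟨haN, ha'⟩ := iha
      obtain ⟨hbN, hb'⟩ := ihb
      refine ⟨Subgroup.mul_mem _ haN hbN, ?_⟩
      have : (⟨a * b, Subgroup.mul_mem _ haN hbN⟩ :
          Subgroup.normalizer ((S : Subgroup G) : Set G)) = ⟨a, haN⟩ * ⟨b, hbN⟩ := rfl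
      rw [this, map_mul]
      exact Subgroup.mul_mem _ ha' hb'
    | inv a _ iha =>
      obtain ⟨haN, ha'⟩ := iha
      refine ⟨Subgroup.inv_mem _ haN, ?_⟩
      have : (⟨a⁻¹, Subgroup.inv_mem _ haN⟩ :
          Subgroup.normalizer ((S : Subgroup G) : Set G)) =
          (⟨a, haN⟩ : Subgroup.normalizer ((S : Subgroup G) : Set G))⁻¹ := rfl
      rw [this, map_inv]
      exact Subgroup.inv_mem _ ha'
  obtain ⟨hN', h'⟩ := key g (h2 hgN)
  exact h'

/-- **Criterion, for all Sylow subgroups at once.** -/
theorem isSimple_of_data [Finite G] (p : ℕ) [Fact p.Prime] (S₀ : Sylow p G)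
    (hS1 : (S₀ : Subgroup G) ≠ ⊥) (h1 : NoClosed (S₀ : Subgroup G))
    (h2 : AutGen p (S₀ : Subgroup G)) (S : Sylow p G) :
    (groupFusionSystem (S : Subgroup G)).IsSimple p := by
  obtain ⟨g, rfl⟩ := MulAction.exists_smul_eq G S₀ S
  have hcoe : ((g • S₀ : Sylow p G) : Subgroup G) =
      (S₀ : Subgroup G).map (MulAut.conj g).toMonoidHom := by
    rw [Sylow.coe_subgroup_smul, Subgroup.pointwise_smul_def]
    rfl
  apply isSimple_of_noClosed_autGen
  · rw [hcoe]
    intro h
    apply hS1
    rw [eq_bot_iff] at h ⊢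
    intro x hx
    have : (MulAut.conj g) x ∈ (S₀ : Subgroup G).map (MulAut.conj g).toMonoidHom := ⟨x, hx, rfl⟩
    have h3 := h this
    rw [Subgroup.mem_bot] at h3 ⊢
    have h5 : g * x * g⁻¹ = 1 := h3
    calc x = g⁻¹ * (g * x * g⁻¹) * g := by group
      _ = 1 := by rw [h5]; group
  · rw [hcoe]; exact h1.map _
  · rw [hcoe]; exact h2.map _

end Cfsg.Agent.Helper25.SimpCrit
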