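import Mathlib
import Cfsg.Agent.Lib.Helper25.AltFus4
import Cfsg.Agent.Lib.Helper25.AltFus6
import Cfsg.Agent.Lib.Helper25.AltFus8
import Cfsg.Agent.Lib.Helper25.FusionSimpCrit2

set_option autoImplicit false

/-! No proper nontrivial fusion-closed subgroup in a Sylow subgroup of `A_n`. -/

namespace Cfsg.Agent.Helper25.AltFus

open Equiv Equiv.Perm
open scoped Pointwise

variable {α : Type*} [Fintype α] [DecidableEq α]

theorem FusSet.all_mem {p : ℕ} [Fact p.Prime] {C : Set (Perm α)} (hC : FusSet p C)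
    (hcard : p ^ 2 ≤ Fintype.card α)
    {v : Perm α} (hv : v ∈ C) (hvA : v ∈ alternatingGroup α) (hv1 : v ≠ 1) {k : ℕ}
    (hk : v ^ p ^ k = 1) {y : Perm α} (hyA : y ∈ alternatingGroup α) {l : ℕ}
    (hl : y ^ p ^ l = 1) : y ∈ C := by
  have hpp := (Fact.out : p.Prime)
  obtain ⟨x, hx, hxA, ho⟩ := hC.exists_orderOf_eq hv hvA hv1 hk
  rcases hpp.eq_two_or_odd' with h2 | hodd
  · subst h2
    obtain ⟨d, hd, hct⟩ := hC.exists_dtrans_mem hx hxA ho
    have hall : ∀ d' : Perm α, d'.cycleType = {2, 2} → d' ∈ C :=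
      fun d' hd' => hC.dtrans_mem hd hct hd'
    have hord : ∀ y ∈ alternatingGroup α, y ^ 2 = 1 → y ∈ C :=
      fun y hyA hy => hC.mem_of_sq_eq_one hall _ y rfl hyA hy
    exact hC.mem_of_pPow hord _ y rfl hyA ⟨l, hl⟩
  · obtain ⟨c, hc, hct⟩ := hC.exists_pcycle_mem hodd hx ho
    have h3 : 3 ≤ p := by
      have := hpp.two_le
      rcases hodd with ⟨m, hm⟩
      omega
    have hp2 : p + 2 ≤ Fintype.card α := by nlinarith
    have hall : ∀ c' : Perm α, c'.cycleType = {p} → c' ∈ C :=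
      fun c' hc' => hC.pcycle_mem hp2 hc hct hc'
    have hord : ∀ y ∈ alternatingGroup α, y ^ p = 1 → y ∈ C :=
      fun y _ hy => hC.mem_of_pow_eq_one hodd hall hy
    exact hC.mem_of_pPow hord _ y rfl hyA ⟨l, hl⟩

open SimpCrit in
theorem noClosed_alt {p : ℕ} [Fact p.Prime] (hcard : p ^ 2 ≤ Fintype.card α)
    (S : Sylow p (alternatingGroup α)) :
    NoClosed (S : Subgroup (alternatingGroup α)) := by
  intro T hTS hT1 hcl
  -- the fusion set
  set C : Set (Perm α) := {v | ∃ h : v ∈ (alternatingGroup α), ∃ g : (alternatingGroup α), g * ⟨v, h⟩ * g⁻¹ ∈ T} with hCdef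
  have hC : FusSet p C := by
    constructor
    · rintro v ⟨hvA, g, hg⟩ a ha
      refine ⟨Subgroup.mul_mem _ (Subgroup.mul_mem _ ha hvA) (Subgroup.inv_mem _ ha),
        g * ⟨a, ha⟩⁻¹, ?_⟩
      have : g * (⟨a, ha⟩ : (alternatingGroup α))⁻¹ * ⟨a * v * a⁻¹, Subgroup.mul_mem _ (Subgroup.mul_mem _ ha hvA)
          (Subgroup.inv_mem _ ha)⟩ * (g * (⟨a, ha⟩ : (alternatingGroup α))⁻¹)⁻¹ = g * ⟨v, hvA⟩ * g⁻¹ := by
        apply Subtype.ext
        simp only [Subgroup.coe_mul, Subgroup.coe_inv]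
        group
      rw [this]; exact hg
    · intro P hPA hP w hw
      obtain ⟨Q, hQ⟩ := (hP.comap_subtype (K := (alternatingGroup α))).exists_le_sylow
      obtain ⟨g, hg⟩ := MulAction.exists_smul_eq (alternatingGroup α) Q S
      have hgS : ∀ x : (alternatingGroup α), (x : Perm α) ∈ P → g * x * g⁻¹ ∈ (S : Subgroup (alternatingGroup α)) := by
        intro x hx
        have h1 : x ∈ (Q : Subgroup (alternatingGroup α)) := hQ (Subgroup.mem_comap.mpr hx)
        have h2 : MulAut.conj g • x ∈ MulAut.conj g • (Q : Subgroup (alternatingGroup α)) :=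
          Subgroup.smul_mem_pointwise_smul _ _ _ h1
        rw [← Sylow.coe_subgroup_smul, hg] at h2
        exact h2
      have key : ∀ w ∈ Subgroup.closure (C ∩ (P : Set (Perm α))),
          ∃ h : w ∈ (alternatingGroup α), g * ⟨w, h⟩ * g⁻¹ ∈ T := by
        intro w hw
        induction hw using Subgroup.closure_induction with
        | mem w hw =>
          obtain ⟨⟨hwA, a, ha⟩, hwP⟩ := hw
          refine ⟨hwA, ?_⟩
          have e : g * ⟨w, hwA⟩ * g⁻¹ = (g * a⁻¹) * (a * ⟨w, hwA⟩ * a⁻¹) * (g * a⁻¹)⁻¹ := by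
            group
          rw [e]
          apply hcl _ ha
          rw [← e]
          exact hgS ⟨w, hwA⟩ hwP
        | one =>
          refine ⟨Subgroup.one_mem _, ?_⟩
          have e : g * (⟨1, Subgroup.one_mem _⟩ : (alternatingGroup α)) * g⁻¹ = 1 := by
            apply Subtype.ext
            simp
          rw [e]; exact Subgroup.one_mem _
        | mul a b _ _ iha ihb =>
          obtain ⟨ha, hTa⟩ := iha
          obtain ⟨hb, hTb⟩ := ihb
          refine ⟨Subgroup.mul_mem _ ha hb, ?_⟩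
          have e : g * (⟨a * b, Subgroup.mul_mem _ ha hb⟩ : (alternatingGroup α)) * g⁻¹ =
              (g * ⟨a, ha⟩ * g⁻¹) * (g * ⟨b, hb⟩ * g⁻¹) := by
            apply Subtype.ext
            simp only [Subgroup.coe_mul, Subgroup.coe_inv]
            group
          rw [e]; exact Subgroup.mul_mem _ hTa hTb
        | inv a _ iha =>
          obtain ⟨ha, hTa⟩ := iha
          refine ⟨Subgroup.inv_mem _ ha, ?_⟩
          have e : g * (⟨a⁻¹, Subgroup.inv_mem _ ha⟩ : (alternatingGroup α)) * g⁻¹ = (g * ⟨a, ha⟩ * g⁻¹)⁻¹ := by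
            apply Subtype.ext
            simp only [Subgroup.coe_mul, Subgroup.coe_inv]
            group
          rw [e]; exact Subgroup.inv_mem _ hTa
      obtain ⟨hwA, hT⟩ := key w hw
      exact ⟨hwA, g, hT⟩
  obtain ⟨t, ht1⟩ := (Subgroup.ne_bot_iff_exists_ne_one).mp hT1
  have htC : (((t : (alternatingGroup α))) : Perm α) ∈ C := by
    refine ⟨(t : (alternatingGroup α)).2, 1, ?_⟩
    simpa using t.2
  obtain ⟨k, hk⟩ := S.2 ⟨(t : (alternatingGroup α)), hTS t.2⟩
  have hk' : (((t : (alternatingGroup α))) : Perm α) ^ p ^ k = 1 := by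
    have := congrArg (fun z : (S : Subgroup (alternatingGroup α)) => (((z : (alternatingGroup α))) : Perm α)) hk
    simpa using this
  have ht1' : (((t : (alternatingGroup α))) : Perm α) ≠ 1 := by
    intro h
    apply ht1
    apply Subtype.ext
    apply Subtype.ext
    simpa using h
  apply le_antisymm hTS
  intro s hs
  obtain ⟨l, hl⟩ := S.2 ⟨s, hs⟩
  have hl' : (s : Perm α) ^ p ^ l = 1 := by
    have := congrArg (fun z : (S : Subgroup (alternatingGroup α)) => (((z : (alternatingGroup α))) : Perm α)) hl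
    simpa using this
  obtain ⟨hsA, g, hg⟩ := hC.all_mem hcard htC (t : (alternatingGroup α)).2 ht1' hk' s.2 hl'
  have h1 := hcl _ hg g⁻¹
  have e : g⁻¹ * (g * ⟨(s : Perm α), hsA⟩ * g⁻¹) * g⁻¹⁻¹ = s := by
    apply Subtype.ext
    simp only [Subgroup.coe_mul, Subgroup.coe_inv]
    group
  rw [e] at h1
  exact h1 hs

end Cfsg.Agent.Helper25.AltFus
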