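import Mathlib

set_option autoImplicit false

/-! The affine wreath elements on `(ZMod p × Z) ⊕ E`: basic algebra. -/

namespace Cfsg.Agent.Helper25.AltFus

open Equiv Equiv.Perm

variable {p : ℕ} [Fact p.Prime] {Z E : Type*}

/-- the core of an affine element, a permutation of `ZMod p × Z` -/
def affCore (d : Z → (ZMod p)ˣ) (f : Z → ZMod p) (π : Perm Z) : Perm (ZMod p × Z) where
  toFun x := ((d x.2 : ZMod p) * x.1 + f x.2, π x.2)
  invFun x := ((((d (π.symm x.2))⁻¹ : (ZMod p)ˣ) : ZMod p) * (x.1 - f (π.symm x.2)), π.symm x.2)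
  left_inv x := by
    rcases x with ⟨u, z⟩
    show ((((d (π.symm (π z)))⁻¹ : (ZMod p)ˣ) : ZMod p) *
      ((d z : ZMod p) * u + f z - f (π.symm (π z))), π.symm (π z)) = (u, z)
    rw [Equiv.symm_apply_apply, add_sub_cancel_right, ← mul_assoc, Units.inv_mul, one_mul]
  right_inv x := by
    rcases x with ⟨u, z⟩
    show ((d (π.symm z) : ZMod p) * ((((d (π.symm z))⁻¹ : (ZMod p)ˣ) : ZMod p) *
      (u - f (π.symm z))) + f (π.symm z), π (π.symm z)) = (u, z)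
    rw [Equiv.apply_symm_apply, ← mul_assoc, Units.mul_inv, one_mul, sub_add_cancel]

/-- an affine element -/
def affEl (d : Z → (ZMod p)ˣ) (f : Z → ZMod p) (π : Perm Z) : Perm ((ZMod p × Z) ⊕ E) :=
  Equiv.sumCongr (affCore d f π) (Equiv.refl E)

@[simp] theorem affEl_inl (d : Z → (ZMod p)ˣ) (f : Z → ZMod p) (π : Perm Z) (u : ZMod p) (z : Z) :
    (affEl d f π : Perm ((ZMod p × Z) ⊕ E)) (Sum.inl (u, z)) =
      Sum.inl ((d z : ZMod p) * u + f z, π z) := rfl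

@[simp] theorem affEl_inr (d : Z → (ZMod p)ˣ) (f : Z → ZMod p) (π : Perm Z) (e : E) :
    (affEl d f π : Perm ((ZMod p × Z) ⊕ E)) (Sum.inr e) = Sum.inr e := rfl

theorem affEl_mul (d d' : Z → (ZMod p)ˣ) (f f' : Z → ZMod p) (π π' : Perm Z) :
    (affEl d f π : Perm ((ZMod p × Z) ⊕ E)) * affEl d' f' π' =
      affEl (fun z => d (π' z) * d' z) (fun z => (d (π' z) : ZMod p) * f' z + f (π' z))
        (π * π') := by
  ext x : 1
  rcases x with ⟨u, z⟩ | e
  · simp only [Perm.mul_apply, affEl_inl, Units.val_mul]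
    congr 2
    ring
  · simp

theorem affEl_one : (affEl (fun _ => 1) (fun _ => 0) 1 : Perm ((ZMod p × Z) ⊕ E)) = 1 := by
  ext x : 1
  rcases x with ⟨u, z⟩ | e
  · simp
  · simp

theorem affEl_inv (d : Z → (ZMod p)ˣ) (f : Z → ZMod p) (π : Perm Z) :
    (affEl d f π : Perm ((ZMod p × Z) ⊕ E))⁻¹ =
      affEl (fun z => (d (π.symm z))⁻¹)
        (fun z => -(((d (π.symm z))⁻¹ : (ZMod p)ˣ) : ZMod p) * f (π.symm z)) π⁻¹ := by
  rw [inv_eq_iff_eq_inv, eq_comm, inv_eq_iff_mul_eq_one, affEl_mul, ← affEl_one]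
  congr 1
  · funext z
    show (d (π.symm (π z)))⁻¹ * d z = 1
    rw [Equiv.symm_apply_apply, inv_mul_cancel]
  · funext z
    show (((d (π.symm (π z)))⁻¹ : (ZMod p)ˣ) : ZMod p) * f z +
      -(((d (π.symm (π z)))⁻¹ : (ZMod p)ˣ) : ZMod p) * f (π.symm (π z)) = 0
    rw [Equiv.symm_apply_apply]
    ring
  · exact inv_mul_cancel π

theorem affEl_injective {d d' : Z → (ZMod p)ˣ} {f f' : Z → ZMod p} {π π' : Perm Z}
    (h : (affEl d f π : Perm ((ZMod p × Z) ⊕ E)) = affEl d' f' π') :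
    d = d' ∧ f = f' ∧ π = π' := by
  have h0 : ∀ z, f z = f' z ∧ π z = π' z := by
    intro z
    have := congrArg (fun g : Perm ((ZMod p × Z) ⊕ E) => g (Sum.inl (0, z))) h
    simp only [affEl_inl, mul_zero, zero_add, Sum.inl.injEq, Prod.mk.injEq] at this
    exact this
  have h1 : ∀ z, d z = d' z := by
    intro z
    have := congrArg (fun g : Perm ((ZMod p × Z) ⊕ E) => g (Sum.inl (1, z))) h
    simp only [affEl_inl, mul_one, Sum.inl.injEq, Prod.mk.injEq] at this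
    rw [(h0 z).1] at this
    exact Units.ext (add_right_cancel this.1)
  exact ⟨funext h1, funext fun z => (h0 z).1, Equiv.ext fun z => (h0 z).2⟩

variable (p E)

/-- the group of all affine elements -/
def affSub (Z : Type*) : Subgroup (Perm ((ZMod p × Z) ⊕ E)) where
  carrier := {g | ∃ d f π, g = affEl d f π}
  one_mem' := ⟨_, _, _, affEl_one.symm⟩
  mul_mem' := by
    rintro _ _ ⟨d, f, π, rfl⟩ ⟨d', f', π', rfl⟩
    exact ⟨_, _, _, affEl_mul _ _ _ _ _ _⟩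
  inv_mem' := by
    rintro _ ⟨d, f, π, rfl⟩
    exact ⟨_, _, _, affEl_inv _ _ _⟩

/-- the wreath product `C_p ≀ K` -/
def wr (K : Subgroup (Perm Z)) : Subgroup (Perm ((ZMod p × Z) ⊕ E)) where
  carrier := {g | ∃ f, ∃ τ ∈ K, g = affEl (fun _ => 1) f τ}
  one_mem' := ⟨_, 1, K.one_mem, affEl_one.symm⟩
  mul_mem' := by
    rintro _ _ ⟨f, τ, hτ, rfl⟩ ⟨f', τ', hτ', rfl⟩
    refine ⟨fun z => f' z + f (τ' z), τ * τ', K.mul_mem hτ hτ', ?_⟩
    rw [affEl_mul]
    congr 1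
    · funext z
      exact one_mul 1
    · funext z
      rw [Units.val_one, one_mul]
  inv_mem' := by
    rintro _ ⟨f, τ, hτ, rfl⟩
    refine ⟨fun z => - f (τ.symm z), τ⁻¹, K.inv_mem hτ, ?_⟩
    rw [affEl_inv]
    simp only [inv_one, Units.val_one, neg_mul, one_mul]

variable {p E}

theorem mem_wr {K : Subgroup (Perm Z)} {g : Perm ((ZMod p × Z) ⊕ E)} :
    g ∈ wr p E K ↔ ∃ f, ∃ τ ∈ K, g = affEl (fun _ => 1) f τ := Iff.rfl

theorem mem_affSub {g : Perm ((ZMod p × Z) ⊕ E)} :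
    g ∈ affSub p E Z ↔ ∃ d f π, g = affEl d f π := Iff.rfl

theorem wr_mono {K K' : Subgroup (Perm Z)} (h : K ≤ K') : wr p E K ≤ wr p E K' := by
  rintro _ ⟨f, τ, hτ, rfl⟩
  exact ⟨f, τ, h hτ, rfl⟩

theorem wr_le_affSub (K : Subgroup (Perm Z)) : wr p E K ≤ affSub p E Z := by
  rintro _ ⟨f, τ, hτ, rfl⟩
  exact ⟨_, f, τ, rfl⟩

/-- `wr K` is in bijection with `(Z → ZMod p) × K` -/
noncomputable def wrEquiv (K : Subgroup (Perm Z)) : ((Z → ZMod p) × K) ≃ wr p E K :=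
  Equiv.ofBijective (fun x => ⟨affEl (fun _ => 1) x.1 x.2.1, x.1, x.2.1, x.2.2, rfl⟩) (by
    constructor
    · rintro ⟨f, τ, hτ⟩ ⟨f', τ', hτ'⟩ h
      have := affEl_injective (congrArg Subtype.val h)
      simp only [Prod.mk.injEq, Subtype.mk.injEq]
      exact ⟨this.2.1, this.2.2⟩
    · rintro ⟨g, f, τ, hτ, rfl⟩
      exact ⟨(f, ⟨τ, hτ⟩), rfl⟩)

theorem card_wr [Fintype Z] (K : Subgroup (Perm Z)) :
    Nat.card (wr p E K) = p ^ Fintype.card Z * Nat.card K := by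
  rw [← Nat.card_congr (wrEquiv (p := p) (E := E) K), Nat.card_prod, Nat.card_fun]
  simp [Nat.card_eq_fintype_card, ZMod.card]

end Cfsg.Agent.Helper25.AltFus
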