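import Mathlib
import Cfsg.Agent.Lib.Helper25.AltWr1

set_option autoImplicit false

/-! Sylow subgroups: `wr K` is Sylow, intersection with a normal subgroup, signs. -/

namespace Cfsg.Agent.Helper25.AltFus

open Equiv Equiv.Perm

section general

variable {G : Type*} [Group G] [Finite G]

theorem relIndex_dvd_index_of_normal_right (P A : Subgroup G) [A.Normal] :
    P.relIndex A ∣ P.index := by
  have h1 : (P ⊓ A).relIndex A * A.index = (P ⊓ A).index :=
    Subgroup.relIndex_mul_index inf_le_right
  have h2 : (P ⊓ A).relIndex P * P.index = (P ⊓ A).index :=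
    Subgroup.relIndex_mul_index inf_le_left
  rw [Subgroup.inf_relIndex_right] at h1
  rw [Subgroup.inf_relIndex_left] at h2
  obtain ⟨m, hm⟩ := Subgroup.relIndex_dvd_index_of_normal A P
  have h3 : A.relIndex P ≠ 0 := by
    intro h
    have h5 := Subgroup.relIndex_dvd_card A P
    rw [h] at h5
    exact (Nat.card_pos (α := P)).ne' (zero_dvd_iff.mp h5)
  have h4 : A.relIndex P * (P.relIndex A * m) = A.relIndex P * P.index := by
    rw [h2, ← h1, hm]; ring
  exact ⟨m, (Nat.eq_of_mul_eq_mul_left (Nat.pos_of_ne_zero h3) h4).symm⟩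

/-- a Sylow subgroup intersected with a normal subgroup -/
noncomputable def sylowInfNormal {p : ℕ} [Fact p.Prime] (P : Sylow p G) (A : Subgroup G)
    [A.Normal] : Sylow p A :=
  IsPGroup.toSylow (P := (P : Subgroup G).subgroupOf A) (P.2.comap_subtype) (by
    intro h
    exact P.not_dvd_index (h.trans (relIndex_dvd_index_of_normal_right (P : Subgroup G) A)))

theorem coe_sylowInfNormal {p : ℕ} [Fact p.Prime] (P : Sylow p G) (A : Subgroup G)
    [A.Normal] : (sylowInfNormal P A : Subgroup A) = (P : Subgroup G).subgroupOf A := rfl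

end general

variable {p : ℕ} [Fact p.Prime] {Z E : Type*} [Fintype Z] [DecidableEq Z] [Fintype E]
  [DecidableEq E]

theorem wr_card_sylow (hE : Fintype.card E < p) (K : Sylow p (Perm Z)) :
    Nat.card (wr p E (K : Subgroup (Perm Z))) =
      p ^ (Nat.card (Perm ((ZMod p × Z) ⊕ E))).factorization p := by
  have hpp := (Fact.out : p.Prime)
  rw [card_wr, K.card_eq_multiplicity, Nat.card_perm, Nat.card_perm, ← pow_add,
    Nat.factorization_def _ hpp, Nat.factorization_def _ hpp]
  congr 1
  rw [Nat.card_eq_fintype_card, Nat.card_eq_fintype_card, Fintype.card_sum, Fintype.card_prod,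
    ZMod.card, padicValNat_factorial_mul_add _ hE, padicValNat_factorial_mul]
  ring

/-- `wr K` as a Sylow subgroup of the symmetric group -/
noncomputable def wrSylow (hE : Fintype.card E < p) (K : Sylow p (Perm Z)) :
    Sylow p (Perm ((ZMod p × Z) ⊕ E)) :=
  Sylow.ofCard (wr p E (K : Subgroup (Perm Z))) (wr_card_sylow hE K)

theorem coe_wrSylow (hE : Fintype.card E < p) (K : Sylow p (Perm Z)) :
    (wrSylow hE K : Subgroup (Perm ((ZMod p × Z) ⊕ E))) = wr p E (K : Subgroup (Perm Z)) :=
  Sylow.coe_ofCard _ _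

/-- the sign character of `(ZMod p)ˣ` acting on `ZMod p` -/
noncomputable def epsHom (p : ℕ) [Fact p.Prime] : (ZMod p)ˣ →* ℤˣ :=
  (sign (α := ZMod p)).comp (MulAction.toPermHom (ZMod p)ˣ (ZMod p))

theorem sign_affEl_perm (π : Perm Z) :
    sign (affEl (fun _ => 1) (fun _ => 0) π : Perm ((ZMod p × Z) ⊕ E)) = sign π ^ p := by
  have h : affCore (p := p) (fun _ => 1) (fun _ => 0) π = prodCongrRight (fun _ : ZMod p => π) := by
    ext x : 1
    rcases x with ⟨u, z⟩
    show (((1 : (ZMod p)ˣ) : ZMod p) * u + 0, π z) = (u, π z)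
    rw [Units.val_one, one_mul, add_zero]
  rw [affEl, sign_sumCongr, h, sign_prodCongrRight, Finset.prod_const, Finset.card_univ,
    ZMod.card]
  simp

theorem sign_affEl_diag (d : Z → (ZMod p)ˣ) :
    sign (affEl d (fun _ => 0) 1 : Perm ((ZMod p × Z) ⊕ E)) = epsHom p (∏ z, d z) := by
  have h : affCore (p := p) d (fun _ => 0) 1 =
      prodCongrLeft (fun z : Z => MulAction.toPermHom (ZMod p)ˣ (ZMod p) (d z)) := by
    ext x : 1
    rcases x with ⟨u, z⟩
    show ((d z : ZMod p) * u + 0, z) = ((d z) • u, z)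
    rw [add_zero, Units.smul_def, smul_eq_mul]
  rw [affEl, sign_sumCongr, h, sign_prodCongrLeft, map_prod]
  simp [epsHom]

theorem affEl_decomp (d : Z → (ZMod p)ˣ) (f : Z → ZMod p) (π : Perm Z) :
    (affEl d f π : Perm ((ZMod p × Z) ⊕ E)) =
      affEl (fun _ => 1) (fun z => f (π.symm z)) 1 * affEl (fun z => d (π.symm z)) (fun _ => 0) 1 *
        affEl (fun _ => 1) (fun _ => 0) π := by
  rw [affEl_mul, affEl_mul]
  congr 1
  · funext z
    simp
  · funext z
    simp

theorem affEl_base_pow (f : Z → ZMod p) (k : ℕ) :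
    (affEl (fun _ => 1) f 1 : Perm ((ZMod p × Z) ⊕ E)) ^ k = affEl (fun _ => 1) (k • f) 1 := by
  induction k with
  | zero =>
    rw [pow_zero, zero_smul]
    exact affEl_one.symm
  | succ k ih =>
    rw [pow_succ, ih, affEl_mul]
    congr 1
    · funext z
      exact one_mul 1
    · funext z
      simp only [Units.val_one, one_mul, Perm.coe_one, id_eq, Pi.smul_apply, add_smul, one_smul,
        Pi.add_apply]
      ring

theorem affEl_base_pow_p (f : Z → ZMod p) :
    (affEl (fun _ => 1) f 1 : Perm ((ZMod p × Z) ⊕ E)) ^ p = 1 := by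
  rw [affEl_base_pow, ← affEl_one]
  congr 1
  funext z
  simp

end Cfsg.Agent.Helper25.AltFus
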