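import Mathlib
import Cfsg.Agent.Lib.Helper25.AltWr2

set_option autoImplicit false

/-! Recognizing affine elements. -/

namespace Cfsg.Agent.Helper25.AltFus

open Equiv Equiv.Perm

variable {p : ℕ} [Fact p.Prime] {Z E : Type*} [DecidableEq Z]

variable (p E) in
/-- the basic `p`-cycle on the block `z` -/
def cEl (z : Z) : Perm ((ZMod p × Z) ⊕ E) := affEl (fun _ => 1) (Pi.single z 1) 1

theorem affEl_mul_base (d : Z → (ZMod p)ˣ) (f : Z → ZMod p) (π : Perm Z) (f' : Z → ZMod p) :
    (affEl d f π : Perm ((ZMod p × Z) ⊕ E)) * affEl (fun _ => 1) f' 1 =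
      affEl (fun _ => 1) (fun w => (d (π.symm w) : ZMod p) * f' (π.symm w)) 1 * affEl d f π := by
  rw [affEl_mul, affEl_mul]
  congr 1
  · funext w
    simp
  · funext w
    simp only [Perm.coe_one, id_eq, Units.val_one, one_mul, Equiv.symm_apply_apply]
    ring

theorem affEl_mul_cEl (d : Z → (ZMod p)ˣ) (f : Z → ZMod p) (π : Perm Z) (z : Z) :
    (affEl d f π : Perm ((ZMod p × Z) ⊕ E)) * cEl p E z =
      affEl (fun _ => 1) (Pi.single (π z) (d z : ZMod p)) 1 * affEl d f π := by
  rw [cEl, affEl_mul_base]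
  congr 2
  funext w
  by_cases h : w = π z
  · subst h
    simp
  · have h' : π.symm w ≠ z := by
      intro h2
      apply h
      rw [← h2, Equiv.apply_symm_apply]
    rw [Pi.single_eq_of_ne h, Pi.single_eq_of_ne h', mul_zero]

theorem cEl_apply_inl (z : Z) (u : ZMod p) :
    cEl p E z (Sum.inl (u, z)) = Sum.inl (u + 1, z) := by
  simp [cEl]

/-- Lemma A': an element conjugating basic cycles to powers of basic cycles is affine. -/
theorem mem_affSub_of_conj [Finite Z] [Subsingleton E] (g : Perm ((ZMod p × Z) ⊕ E))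
    (h : ∀ z, ∃ z' : Z, ∃ k : ZMod p, k ≠ 0 ∧
      g * cEl p E z * g⁻¹ = affEl (fun _ => 1) (Pi.single z' k) 1) :
    g ∈ affSub p E Z := by
  choose πf kf hk hconj using h
  have hrel : ∀ z x, g (cEl p E z x) =
      (affEl (fun _ => 1) (Pi.single (πf z) (kf z)) 1 : Perm ((ZMod p × Z) ⊕ E)) (g x) := by
    intro z x
    have : g * cEl p E z = affEl (fun _ => 1) (Pi.single (πf z) (kf z)) 1 * g := by
      rw [← hconj z]; group
    exact congrArg (fun σ : Perm ((ZMod p × Z) ⊕ E) => σ x) this
  -- step 1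
  have h1 : ∀ z, ∃ u', g (Sum.inl (0, z)) = Sum.inl (u', πf z) := by
    intro z
    have hne : g (cEl p E z (Sum.inl (0, z))) ≠ g (Sum.inl (0, z)) := by
      intro heq
      have h01 := g.injective heq
      rw [cEl_apply_inl] at h01
      simp only [zero_add, Sum.inl.injEq, Prod.mk.injEq, and_true] at h01
      haveI : Fact (1 < p) := ⟨(Fact.out : p.Prime).one_lt⟩
      exact one_ne_zero h01
    rw [hrel] at hne
    rcases hgx : g (Sum.inl (0, z)) with ⟨u', z''⟩ | e
    · rw [hgx] at hne
      by_cases hz : z'' = πf z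
      · subst hz
        exact ⟨u', rfl⟩
      · exfalso
        apply hne
        simp [Pi.single_eq_of_ne hz]
    · rw [hgx] at hne
      exact absurd rfl hne
  choose t ht using h1
  -- step 2
  have h2 : ∀ z (j : ℕ), g (Sum.inl ((j : ZMod p), z)) = Sum.inl (t z + j * kf z, πf z) := by
    intro z j
    induction j with
    | zero => simp [ht]
    | succ j ih =>
      have e1 : (Sum.inl (((j + 1 : ℕ) : ZMod p), z) : (ZMod p × Z) ⊕ E) =
          cEl p E z (Sum.inl ((j : ZMod p), z)) := by
        rw [cEl_apply_inl]; simp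
      rw [e1, hrel, ih]
      simp only [affEl_inl, Units.val_one, one_mul, Pi.single_eq_same, Perm.coe_one, id_eq,
        Nat.cast_add, Nat.cast_one]
      congr 2
      ring
  -- step 3
  have h3 : ∀ z (u : ZMod p), g (Sum.inl (u, z)) = Sum.inl (kf z * u + t z, πf z) := by
    intro z u
    have := h2 z u.val
    rw [ZMod.natCast_zmod_val] at this
    rw [this]
    congr 2
    ring
  -- step 4
  have hinj : Function.Injective πf := by
    intro z₁ z₂ hz
    have e1 : g (Sum.inl (-(t z₁) * (kf z₁)⁻¹, z₁)) = Sum.inl (0, πf z₁) := by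
      rw [h3]
      congr 2
      field_simp [hk z₁]
      ring
    have e2 : g (Sum.inl (-(t z₂) * (kf z₂)⁻¹, z₂)) = Sum.inl (0, πf z₂) := by
      rw [h3]
      congr 2
      field_simp [hk z₂]
      ring
    rw [hz, ← e2] at e1
    have := g.injective e1
    simp only [Sum.inl.injEq, Prod.mk.injEq] at this
    exact this.2
  set π : Perm Z := Equiv.ofBijective πf (Finite.injective_iff_bijective.mp hinj) with hπ
  have hπa : ∀ z, π z = πf z := fun z => rfl
  refine ⟨fun z => Units.mk0 (kf z) (hk z), t, π, ?_⟩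
  ext x : 1
  rcases x with ⟨u, z⟩ | e
  · rw [h3, affEl_inl, hπa, Units.val_mk0]
  · rw [affEl_inr]
    rcases hge : g (Sum.inr e) with ⟨u, z'⟩ | e'
    · exfalso
      have e1 : g (Sum.inl ((u - t (π.symm z')) * (kf (π.symm z'))⁻¹, π.symm z')) =
          Sum.inl (u, z') := by
        rw [h3, ← hπa, Equiv.apply_symm_apply]
        congr 2
        field_simp [hk (π.symm z')]
        ring
      rw [← hge] at e1
      have := g.injective e1
      exact Sum.inl_ne_inr this
    · rw [Subsingleton.elim e' e]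

theorem affEl_conj_cEl (d : Z → (ZMod p)ˣ) (f : Z → ZMod p) (π : Perm Z) (z : Z) :
    (affEl d f π : Perm ((ZMod p × Z) ⊕ E)) * cEl p E z * (affEl d f π)⁻¹ =
      affEl (fun _ => 1) (Pi.single (π z) (d z : ZMod p)) 1 := by
  rw [affEl_mul_cEl]; group

/-- the base group is self-centralizing -/
theorem mem_base_of_commute [Finite Z] [Subsingleton E] (g : Perm ((ZMod p × Z) ⊕ E))
    (h : ∀ z, g * cEl p E z = cEl p E z * g) : g ∈ wr p E (⊥ : Subgroup (Perm Z)) := by
  haveI : Fact (1 < p) := ⟨(Fact.out : p.Prime).one_lt⟩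
  have h1 : g ∈ affSub p E Z := by
    apply mem_affSub_of_conj
    intro z
    refine ⟨z, 1, one_ne_zero, ?_⟩
    rw [h z]
    simp [cEl]
  obtain ⟨d, f, π, rfl⟩ := h1
  have h2 : ∀ z, π z = z ∧ d z = 1 := by
    intro z
    have e1 := affEl_conj_cEl (E := E) d f π z
    rw [h z] at e1
    have e2 : cEl p E z * affEl d f π * (affEl d f π)⁻¹ = cEl p E z := by group
    rw [e2, cEl] at e1
    have e3 := (affEl_injective e1).2.1
    have e4 := congrFun e3 z
    rw [Pi.single_eq_same] at e4
    by_cases hz : π z = z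
    · refine ⟨hz, ?_⟩
      rw [hz, Pi.single_eq_same] at e4
      exact Units.ext e4.symm
    · exfalso
      rw [Pi.single_eq_of_ne (Ne.symm hz)] at e4
      exact one_ne_zero e4
  refine ⟨f, 1, Subgroup.mem_bot.mpr rfl, ?_⟩
  congr 1
  · funext z; exact (h2 z).2
  · ext z; exact (h2 z).1

end Cfsg.Agent.Helper25.AltFus
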