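import Mathlib
import Cfsg.Agent.Lib.Helper25.AltWr3
import Cfsg.Agent.Lib.Helper25.AltFus3

set_option autoImplicit false

/-! `p`-cycles in a wreath product and the normalizer of `wr K`. -/

namespace Cfsg.Agent.Helper25.AltFus

open Equiv Equiv.Perm

variable {p : ℕ} [Fact p.Prime] {Z E : Type*} [Fintype Z] [DecidableEq Z] [Fintype E]
  [DecidableEq E]

theorem support_card_ge (g : Perm ((ZMod p × Z) ⊕ E)) (T : Finset Z)
    (h : ∀ z ∈ T, ∀ u : ZMod p, g (Sum.inl (u, z)) ≠ Sum.inl (u, z)) :
    p * T.card ≤ g.support.card := by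
  have hsub : ((Finset.univ : Finset (ZMod p)) ×ˢ T).map ⟨Sum.inl, Sum.inl_injective⟩ ⊆
      g.support := by
    intro x hx
    rw [Finset.mem_map] at hx
    obtain ⟨⟨u, z⟩, huz, rfl⟩ := hx
    rw [Finset.mem_product] at huz
    rw [Perm.mem_support]
    exact h z huz.2 u
  have := Finset.card_le_card hsub
  rwa [Finset.card_map, Finset.card_product, Finset.card_univ, ZMod.card] at this

theorem support_card_le (g : Perm ((ZMod p × Z) ⊕ E)) (T : Finset Z)
    (h : ∀ x, g x ≠ x → ∃ u, ∃ z ∈ T, x = Sum.inl (u, z)) :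
    g.support.card ≤ p * T.card := by
  have hsub : g.support ⊆
      ((Finset.univ : Finset (ZMod p)) ×ˢ T).map ⟨Sum.inl, Sum.inl_injective⟩ := by
    intro x hx
    rw [Perm.mem_support] at hx
    obtain ⟨u, z, hz, rfl⟩ := h x hx
    rw [Finset.mem_map]
    exact ⟨(u, z), Finset.mem_product.mpr ⟨Finset.mem_univ _, hz⟩, rfl⟩
  have := Finset.card_le_card hsub
  rwa [Finset.card_map, Finset.card_product, Finset.card_univ, ZMod.card] at this

/-- elements of `wr K` with small support are powers of basic cycles -/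
theorem eq_single_of_support_card (f : Z → ZMod p) (τ : Perm Z)
    (hs : (affEl (fun _ => 1) f τ : Perm ((ZMod p × Z) ⊕ E)).support.card ≤ p)
    (h1 : (affEl (fun _ => 1) f τ : Perm ((ZMod p × Z) ⊕ E)) ≠ 1) :
    τ = 1 ∧ ∃ z' : Z, ∃ k : ZMod p, k ≠ 0 ∧ f = Pi.single z' k := by
  have hpp := (Fact.out : p.Prime)
  have hτ : τ = 1 := by
    have h2 := support_card_ge (affEl (fun _ => 1) f τ : Perm ((ZMod p × Z) ⊕ E)) τ.support (by
      intro z hz u
      rw [affEl_inl]
      intro heq
      simp only [Sum.inl.injEq, Prod.mk.injEq] at heq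
      exact (Perm.mem_support.mp hz) heq.2)
    have h3 : τ.support.card ≤ 1 := by
      by_contra hlt
      push_neg at hlt
      have : p * 2 ≤ p * τ.support.card := Nat.mul_le_mul_left p hlt
      have := hpp.pos
      omega
    have h4 : τ.support.card ≠ 1 := card_support_ne_one τ
    have h5 : τ.support.card = 0 := by omega
    exact card_support_eq_zero.mp h5
  subst hτ
  refine ⟨rfl, ?_⟩
  set F : Finset Z := Finset.univ.filter (fun z => f z ≠ 0) with hF
  have h2 := support_card_ge (affEl (fun _ => 1) f 1 : Perm ((ZMod p × Z) ⊕ E)) F (by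
    intro z hz u
    rw [affEl_inl]
    intro heq
    simp only [Sum.inl.injEq, Prod.mk.injEq, Units.val_one, one_mul, add_eq_left] at heq
    exact (Finset.mem_filter.mp hz).2 heq.1)
  have h3 : F.card ≤ 1 := by
    by_contra hlt
    push_neg at hlt
    have : p * 2 ≤ p * F.card := Nat.mul_le_mul_left p hlt
    have := hpp.pos
    omega
  have h4 : F.Nonempty := by
    rw [Finset.nonempty_iff_ne_empty]
    intro hempty
    apply h1
    rw [← affEl_one]
    congr 1
    funext z
    by_contra hz
    have : z ∈ F := Finset.mem_filter.mpr ⟨Finset.mem_univ _, hz⟩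
    rw [hempty] at this
    exact absurd this (Finset.notMem_empty z)
  obtain ⟨z', hz'⟩ := h4
  refine ⟨z', f z', (Finset.mem_filter.mp hz').2, ?_⟩
  funext w
  by_cases hw : w = z'
  · subst hw; simp
  · rw [Pi.single_eq_of_ne hw]
    by_contra hne
    have hwF : w ∈ F := Finset.mem_filter.mpr ⟨Finset.mem_univ _, hne⟩
    exact hw (Finset.card_le_one.mp h3 w hwF z' hz')

theorem cEl_ne_one (z : Z) : cEl p E z ≠ 1 := by
  haveI : Fact (1 < p) := ⟨(Fact.out : p.Prime).one_lt⟩
  intro h
  have := congrArg (fun g : Perm ((ZMod p × Z) ⊕ E) => g (Sum.inl (0, z))) h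
  simp only [cEl_apply_inl, Perm.coe_one, id_eq, zero_add, Sum.inl.injEq, Prod.mk.injEq,
    and_true] at this
  exact one_ne_zero this

theorem cEl_pow_p (z : Z) : cEl p E z ^ p = 1 := affEl_base_pow_p _

theorem cEl_support_card (z : Z) : (cEl p E z).support.card ≤ p := by
  have := support_card_le (cEl p E z) {z} (by
    intro x hx
    rcases x with ⟨u, w⟩ | e
    · refine ⟨u, w, ?_, rfl⟩
      rw [Finset.mem_singleton]
      by_contra hw
      apply hx
      simp [cEl, Pi.single_eq_of_ne hw]
    · exfalso; apply hx; simp [cEl])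
  simpa using this

theorem cycleType_cEl (z : Z) : (cEl p E z).cycleType = {p} :=
  cycleType_eq_singleton_of_pow (cEl_ne_one z) (cEl_pow_p z) (cEl_support_card z)

theorem cEl_mem_wr (K : Subgroup (Perm Z)) (z : Z) : cEl p E z ∈ wr p E K :=
  ⟨_, 1, K.one_mem, rfl⟩

/-- the normalizer of `wr K` consists of affine elements -/
theorem normalizer_wr_le_affSub [Subsingleton E] (K : Subgroup (Perm Z)) :
    Subgroup.normalizer (wr p E K : Set (Perm ((ZMod p × Z) ⊕ E))) ≤ affSub p E Z := by
  intro g hg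
  apply mem_affSub_of_conj
  intro z
  have h1 : g * cEl p E z * g⁻¹ ∈ wr p E K :=
    (Subgroup.mem_normalizer_iff.mp hg _).mp (cEl_mem_wr K z)
  obtain ⟨f, τ, hτ, hfτ⟩ := h1
  have hct : (g * cEl p E z * g⁻¹).cycleType = {p} := by
    rw [cycleType_conj, cycleType_cEl]
  have hs : (g * cEl p E z * g⁻¹).support.card ≤ p := by
    rw [← sum_cycleType, hct]; simp
  have hne : g * cEl p E z * g⁻¹ ≠ 1 := by
    intro h
    rw [h, cycleType_one] at hct
    exact absurd hct (by simp)
  rw [hfτ] at hs hne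
  obtain ⟨rfl, z', k, hk, rfl⟩ := eq_single_of_support_card f τ hs hne
  exact ⟨z', k, hk, hfτ⟩

end Cfsg.Agent.Helper25.AltFus
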