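import Mathlib

set_option autoImplicit false

/-! The alternating group is generated by the `p`-cycles (`p` an odd prime). -/

namespace Cfsg.Agent.Helper25.AltFus

open Equiv Equiv.Perm

variable {Z : Type*} [Fintype Z] [DecidableEq Z]

theorem alternating_le_closure_pcycles {p : ℕ} [Fact p.Prime] (hodd : Odd p)
    (hcard : p ≤ Fintype.card Z) :
    alternatingGroup Z ≤ Subgroup.closure {σ : Perm Z | σ.cycleType = {p}} := by
  have hpp := (Fact.out : p.Prime)
  have h3 : 3 ≤ p := by
    have := hpp.two_le
    rcases hodd with ⟨m, hm⟩
    omega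
  by_cases hp3 : p = 3
  · subst hp3
    rw [← closure_three_cycles_eq_alternating]
    exact le_of_eq rfl
  have h5 : 5 ≤ p := by
    by_contra hlt
    push_neg at hlt
    have : p = 4 := by omega
    rw [this] at hpp
    exact absurd hpp (by decide)
  -- a `p`-cycle exists
  obtain ⟨σ₀, hσ₀⟩ : ∃ g : Perm Z, g.cycleType = {p} := by
    rw [Equiv.Perm.exists_with_cycleType_iff Z]
    constructor
    · simpa using hcard
    · intro a ha
      rw [Multiset.mem_singleton] at ha
      omega
  set S : Set (Perm Z) := {σ : Perm Z | σ.cycleType = {p}} with hS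
  have hnorm : (Subgroup.closure S).Normal := by
    have : Subgroup.closure S = Subgroup.normalClosure S := by
      apply le_antisymm
      · exact Subgroup.closure_le_normalClosure
      · rw [Subgroup.normalClosure]
        apply Subgroup.closure_mono
        intro x hx
        rw [Group.mem_conjugatesOfSet_iff] at hx
        obtain ⟨a, ha, hax⟩ := hx
        obtain ⟨c, rfl⟩ := isConj_iff.mp hax
        show (c * a * c⁻¹).cycleType = {p}
        rw [cycleType_conj]
        exact ha
    rw [this]
    exact Subgroup.normalClosure_normal
  haveI := hnorm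
  have hsimple : IsSimpleGroup (alternatingGroup Z) := by
    apply alternatingGroup.isSimpleGroup
    rw [Nat.card_eq_fintype_card]
    omega
  have hNn : ((Subgroup.closure S).subgroupOf (alternatingGroup Z)).Normal :=
    Subgroup.Normal.subgroupOf hnorm _
  rcases hNn.eq_bot_or_eq_top with hbot | htop
  · exfalso
    have hσA : σ₀ ∈ alternatingGroup Z := by
      rw [mem_alternatingGroup, sign_of_cycleType, hσ₀]
      simp only [Multiset.sum_singleton, Multiset.card_singleton]
      rcases hodd with ⟨m, hm⟩
      rw [hm]
      have : 2 * m + 1 + 1 = 2 * (m + 1) := by ring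
      rw [this, pow_mul]
      simp
    have hmem : (⟨σ₀, hσA⟩ : alternatingGroup Z) ∈
        (Subgroup.closure S).subgroupOf (alternatingGroup Z) := by
      rw [Subgroup.mem_subgroupOf]
      exact Subgroup.subset_closure hσ₀
    rw [hbot, Subgroup.mem_bot] at hmem
    have h1 : σ₀ = 1 := congrArg Subtype.val hmem
    rw [h1, cycleType_one] at hσ₀
    exact absurd hσ₀ (by simp)
  · exact Subgroup.subgroupOf_eq_top.mp htop

end Cfsg.Agent.Helper25.AltFus
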