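import Mathlib
import Cfsg.Agent.Lib.Helper25.AltWr4
import Cfsg.Agent.Lib.Helper25.AltWr5
import Cfsg.Agent.Lib.Helper25.AltFus1

set_option autoImplicit false

/-! The determinant-like character on the affine group and its kernel (`p` odd). -/

namespace Cfsg.Agent.Helper25.AltFus

open Equiv Equiv.Perm

variable {p : ℕ} [Fact p.Prime] {Z E : Type*}

/-- the multiplier function of an affine element -/
noncomputable def dOf (g : affSub p E Z) : Z → (ZMod p)ˣ := Classical.choose g.2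

theorem dOf_spec (g : affSub p E Z) : ∃ f π, (g : Perm ((ZMod p × Z) ⊕ E)) = affEl (dOf g) f π :=
  Classical.choose_spec g.2

theorem dOf_affEl (d : Z → (ZMod p)ˣ) (f : Z → ZMod p) (π : Perm Z)
    (h : (affEl d f π : Perm ((ZMod p × Z) ⊕ E)) ∈ affSub p E Z) :
    dOf ⟨affEl d f π, h⟩ = d := by
  obtain ⟨f', π', h'⟩ := dOf_spec ⟨affEl d f π, h⟩
  exact (affEl_injective h').1.symm

theorem affEl_mem (d : Z → (ZMod p)ˣ) (f : Z → ZMod p) (π : Perm Z) :
    (affEl d f π : Perm ((ZMod p × Z) ⊕ E)) ∈ affSub p E Z := ⟨d, f, π, rfl⟩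

variable [Fintype Z]

/-- the product of the multipliers -/
noncomputable def deltaHom (p : ℕ) [Fact p.Prime] (E Z : Type*) [Fintype Z] :
    affSub p E Z →* (ZMod p)ˣ where
  toFun g := ∏ z, dOf g z
  map_one' := by
    have h : (1 : affSub p E Z) = ⟨affEl (fun _ => 1) (fun _ => 0) 1, affEl_mem _ _ _⟩ :=
      Subtype.ext affEl_one.symm
    rw [h, dOf_affEl]
    simp
  map_mul' := by
    rintro ⟨_, d, f, π, rfl⟩ ⟨_, d', f', π', rfl⟩
    have h : (⟨affEl d f π, affEl_mem d f π⟩ : affSub p E Z) * ⟨affEl d' f' π', affEl_mem d' f' π'⟩ =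
        ⟨affEl (fun z => d (π' z) * d' z) (fun z => (d (π' z) : ZMod p) * f' z + f (π' z))
          (π * π'), affEl_mem _ _ _⟩ := Subtype.ext (affEl_mul _ _ _ _ _ _)
    show ∏ z, dOf (⟨affEl d f π, affEl_mem d f π⟩ * ⟨affEl d' f' π', affEl_mem d' f' π'⟩) z =
      (∏ z, dOf ⟨affEl d f π, affEl_mem d f π⟩ z) * ∏ z, dOf ⟨affEl d' f' π', affEl_mem d' f' π'⟩ z
    rw [h, dOf_affEl, dOf_affEl, dOf_affEl, Finset.prod_mul_distrib]
    congr 1
    exact Equiv.prod_comp π' d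

theorem deltaHom_affEl (d : Z → (ZMod p)ˣ) (f : Z → ZMod p) (π : Perm Z)
    (h : (affEl d f π : Perm ((ZMod p × Z) ⊕ E)) ∈ affSub p E Z) :
    deltaHom p E Z ⟨affEl d f π, h⟩ = ∏ z, d z := by
  show ∏ z, dOf ⟨affEl d f π, h⟩ z = _
  rw [dOf_affEl]

theorem affSub_le_normalizer_base [DecidableEq Z] :
    affSub p E Z ≤ Subgroup.normalizer
      (wr p E (⊥ : Subgroup (Perm Z)) : Set (Perm ((ZMod p × Z) ⊕ E))) := by
  have key : ∀ g ∈ affSub p E Z, ∀ b ∈ wr p E (⊥ : Subgroup (Perm Z)),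
      g * b * g⁻¹ ∈ wr p E (⊥ : Subgroup (Perm Z)) := by
    rintro _ ⟨d, f, π, rfl⟩ _ ⟨f', τ, hτ, rfl⟩
    rw [Subgroup.mem_bot] at hτ
    subst hτ
    rw [affEl_mul_base]
    refine ⟨fun w => (d (π.symm w) : ZMod p) * f' (π.symm w), 1, Subgroup.mem_bot.mpr rfl, ?_⟩
    rw [mul_assoc, mul_inv_cancel, mul_one]
  intro g hg
  rw [Subgroup.mem_normalizer_iff]
  intro b
  constructor
  · exact key g hg b
  · intro hb
    have := key g⁻¹ (Subgroup.inv_mem _ hg) _ hb
    have e : g⁻¹ * (g * b * g⁻¹) * g⁻¹⁻¹ = b := by group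
    rwa [e] at this

/-- the lift of permutations of `Z` -/
def liftHom (p : ℕ) [Fact p.Prime] (E Z : Type*) : Perm Z →* Perm ((ZMod p × Z) ⊕ E) where
  toFun π := affEl (fun _ => 1) (fun _ => 0) π
  map_one' := affEl_one
  map_mul' π π' := by
    rw [affEl_mul]
    congr 1
    · funext z; exact (one_mul 1).symm
    · funext z; simp

/-- the diagonal elements -/
def diagHom (p : ℕ) [Fact p.Prime] (E Z : Type*) :
    (Z → (ZMod p)ˣ) →* Perm ((ZMod p × Z) ⊕ E) where
  toFun d := affEl d (fun _ => 0) 1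
  map_one' := affEl_one
  map_mul' d d' := by
    rw [affEl_mul]
    congr 1
    · funext z; simp

theorem liftHom_apply (π : Perm Z) :
    liftHom p E Z π = affEl (fun _ => 1) (fun _ => 0) π := rfl

theorem diagHom_apply (d : Z → (ZMod p)ˣ) :
    diagHom p E Z d = affEl d (fun _ => 0) 1 := rfl

theorem lift_conj_diag (ρ : Perm Z) (d : Z → (ZMod p)ˣ) :
    liftHom p E Z ρ * diagHom p E Z d * (liftHom p E Z ρ)⁻¹ =
      diagHom p E Z (fun w => d (ρ.symm w)) := by
  rw [mul_inv_eq_iff_eq_mul, liftHom_apply, diagHom_apply, diagHom_apply, affEl_mul, affEl_mul]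
  congr 1
  · funext w
    simp
  · funext w
    simp

end Cfsg.Agent.Helper25.AltFus
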