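import Mathlib
import Cfsg.Agent.Lib.Helper25.AltWr6

set_option autoImplicit false

/-! The kernel of the multiplier character is generated by `p`-elements (`p` odd). -/

namespace Cfsg.Agent.Helper25.AltFus

open Equiv Equiv.Perm

variable {p : ℕ} [Fact p.Prime] {Z E : Type*} [Fintype Z] [DecidableEq Z] [Fintype E]
  [DecidableEq E]

/-- the `p`-elements of the normalizer of the base group lying in the alternating group -/
def pElB (p : ℕ) [Fact p.Prime] (E Z : Type*) [Fintype Z] [DecidableEq Z] [Fintype E]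
    [DecidableEq E] : Set (Perm ((ZMod p × Z) ⊕ E)) :=
  {y | y ∈ Subgroup.normalizer (wr p E (⊥ : Subgroup (Perm Z)) : Set (Perm ((ZMod p × Z) ⊕ E))) ∧
    y ∈ alternatingGroup ((ZMod p × Z) ⊕ E) ∧ ∃ k : ℕ, y ^ p ^ k = 1}

theorem conj_mem_closure_pElB {x : Perm ((ZMod p × Z) ⊕ E)}
    (hx : x ∈ Subgroup.normalizer
      (wr p E (⊥ : Subgroup (Perm Z)) : Set (Perm ((ZMod p × Z) ⊕ E))))
    {l : Perm ((ZMod p × Z) ⊕ E)} (hl : l ∈ Subgroup.closure (pElB p E Z)) :
    x * l * x⁻¹ ∈ Subgroup.closure (pElB p E Z) := by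
  induction hl using Subgroup.closure_induction with
  | mem y hy =>
    obtain ⟨hyN, hyA, k, hk⟩ := hy
    apply Subgroup.subset_closure
    refine ⟨Subgroup.mul_mem _ (Subgroup.mul_mem _ hx hyN) (Subgroup.inv_mem _ hx), ?_, k, ?_⟩
    · exact (alternatingGroup.normal).conj_mem y hyA x
    · rw [conj_pow, hk]; group
  | one => simp
  | mul a b _ _ iha ihb =>
    have : x * (a * b) * x⁻¹ = (x * a * x⁻¹) * (x * b * x⁻¹) := by group
    rw [this]; exact Subgroup.mul_mem _ iha ihb
  | inv a _ iha =>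
    have : x * a⁻¹ * x⁻¹ = (x * a * x⁻¹)⁻¹ := by group
    rw [this]; exact Subgroup.inv_mem _ iha

theorem base_mem_closure_pElB (hodd : Odd p) (f : Z → ZMod p) :
    (affEl (fun _ => 1) f 1 : Perm ((ZMod p × Z) ⊕ E)) ∈ Subgroup.closure (pElB p E Z) := by
  apply Subgroup.subset_closure
  refine ⟨affSub_le_normalizer_base (affEl_mem _ _ _), ?_, 1, ?_⟩
  · rw [mem_alternatingGroup]
    exact sign_eq_one_of_pow hodd (k := 1) (by rw [pow_one]; exact affEl_base_pow_p f)
  · rw [pow_one]; exact affEl_base_pow_p f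

theorem lift_mem_closure_pElB (hodd : Odd p) (hcard : p ≤ Fintype.card Z) {π : Perm Z}
    (hπ : π ∈ alternatingGroup Z) :
    liftHom p E Z π ∈ Subgroup.closure (pElB p E Z) := by
  have h1 := alternating_le_closure_pcycles hodd hcard hπ
  have h2 : liftHom p E Z π ∈ (Subgroup.closure {σ : Perm Z | σ.cycleType = {p}}).map
      (liftHom p E Z) := Subgroup.mem_map_of_mem _ h1
  rw [MonoidHom.map_closure] at h2
  refine Subgroup.closure_mono ?_ h2
  rintro _ ⟨σ, hσ, rfl⟩
  have hσp : σ ^ p = 1 := by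
    have : orderOf σ = p := by
      rw [← lcm_cycleType, hσ]; simp
    rw [← this]; exact pow_orderOf_eq_one σ
  refine ⟨affSub_le_normalizer_base (affEl_mem _ _ _), ?_, 1, ?_⟩
  · rw [mem_alternatingGroup, liftHom_apply, sign_affEl_perm,
      sign_eq_one_of_pow hodd (k := 1) (by rw [pow_one]; exact hσp), one_pow]
  · rw [pow_one, ← map_pow, hσp, map_one]

theorem diag_pair_mem (hodd : Odd p) (hcard : p ≤ Fintype.card Z) {z z₀ : Z} (hz : z ≠ z₀)
    (lam : (ZMod p)ˣ) :
    diagHom p E Z (Pi.mulSingle z lam * Pi.mulSingle z₀ lam⁻¹) ∈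
      Subgroup.closure (pElB p E Z) := by
  have hpp := (Fact.out : p.Prime)
  have h3 : 3 ≤ Fintype.card Z := by
    have := hpp.two_le
    rcases hodd with ⟨m, hm⟩
    omega
  obtain ⟨z₁, hz₁, hz₁'⟩ : ∃ z₁ : Z, z₁ ≠ z ∧ z₁ ≠ z₀ := by
    by_contra hcon
    push_neg at hcon
    have hsub : (Finset.univ : Finset Z) ⊆ {z, z₀} := by
      intro w _
      by_cases hw : w = z
      · simp [hw]
      · simp [hcon w hw]
    have := Finset.card_le_card hsub
    have h2 : ({z, z₀} : Finset Z).card ≤ 2 := Finset.card_le_two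
    rw [Finset.card_univ] at this
    omega
  set ρ : Perm Z := swap z z₀ * swap z₀ z₁ with hρ
  have hρA : ρ ∈ alternatingGroup Z := by
    rw [mem_alternatingGroup, hρ, map_mul, sign_swap hz, sign_swap hz₁'.symm]
    rfl
  have hρz : ρ z = z₀ := by
    rw [hρ, Perm.mul_apply, swap_apply_of_ne_of_ne hz hz₁.symm, swap_apply_left]
  set x := diagHom p E Z (Pi.mulSingle z lam) with hx
  have hxN : x ∈ Subgroup.normalizer
      (wr p E (⊥ : Subgroup (Perm Z)) : Set (Perm ((ZMod p × Z) ⊕ E))) :=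
    affSub_le_normalizer_base (affEl_mem _ _ _)
  have hl := lift_mem_closure_pElB (E := E) hodd hcard hρA
  have hw : x * liftHom p E Z ρ * x⁻¹ * (liftHom p E Z ρ)⁻¹ ∈ Subgroup.closure (pElB p E Z) :=
    Subgroup.mul_mem _ (conj_mem_closure_pElB hxN hl) (Subgroup.inv_mem _ hl)
  have e1 : x * liftHom p E Z ρ * x⁻¹ * (liftHom p E Z ρ)⁻¹ =
      x * (liftHom p E Z ρ * x⁻¹ * (liftHom p E Z ρ)⁻¹) := by group
  rw [e1, hx, ← map_inv, lift_conj_diag, ← map_mul] at hw
  convert hw using 2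
  funext w
  simp only [Pi.mul_apply, Pi.inv_apply]
  congr 1
  by_cases hw0 : w = z₀
  · subst hw0
    have : ρ.symm (ρ z) = z := Equiv.symm_apply_apply ρ z
    rw [hρz] at this
    rw [this]
    simp
  · have : ρ.symm w ≠ z := by
      intro h
      apply hw0
      rw [← hρz, ← h, Equiv.apply_symm_apply]
    rw [Pi.mulSingle_eq_of_ne hw0, Pi.mulSingle_eq_of_ne this, inv_one]

theorem diag_mem_closure_pElB (hodd : Odd p) (hcard : p ≤ Fintype.card Z) (d : Z → (ZMod p)ˣ)
    (hd : ∏ z, d z = 1) :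
    diagHom p E Z d ∈ Subgroup.closure (pElB p E Z) := by
  have hpp := (Fact.out : p.Prime)
  have hne : Nonempty Z := by
    rw [← Fintype.card_pos_iff]
    have := hpp.pos
    omega
  obtain ⟨z₀⟩ := hne
  have hdecomp : d = ∏ z, (Pi.mulSingle z (d z) * Pi.mulSingle z₀ (d z)⁻¹) := by
    rw [Finset.prod_mul_distrib, Finset.univ_prod_mulSingle]
    have : ∏ z, (Pi.mulSingle z₀ (d z)⁻¹ : Z → (ZMod p)ˣ) =
        Pi.mulSingle z₀ (∏ z, (d z)⁻¹) :=
      (map_prod (MonoidHom.mulSingle (fun _ : Z => (ZMod p)ˣ) z₀) (fun z => (d z)⁻¹)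
        Finset.univ).symm
    rw [this, Finset.prod_inv_distrib, hd, inv_one, Pi.mulSingle_one, mul_one]
  have hM : d ∈ (Subgroup.closure (pElB p E Z)).comap (diagHom p E Z) := by
    rw [hdecomp]
    apply Subgroup.prod_mem
    intro z _
    rw [Subgroup.mem_comap]
    by_cases hz : z = z₀
    · subst hz
      rw [← Pi.mulSingle_mul, mul_inv_cancel, Pi.mulSingle_one, map_one]
      exact Subgroup.one_mem _
    · exact diag_pair_mem hodd hcard hz (d z)
  exact Subgroup.mem_comap.mp hM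

theorem mem_closure_pElB_of_delta (hodd : Odd p) (hcard : p ≤ Fintype.card Z)
    (g : affSub p E Z)
    (hgA : (g : Perm ((ZMod p × Z) ⊕ E)) ∈ alternatingGroup ((ZMod p × Z) ⊕ E))
    (hδ : deltaHom p E Z g = 1) :
    (g : Perm ((ZMod p × Z) ⊕ E)) ∈ Subgroup.closure (pElB p E Z) := by
  obtain ⟨_, d, f, π, rfl⟩ := g
  replace hδ : ∏ z, d z = 1 := (deltaHom_affEl d f π _).symm.trans hδ
  have hd' : ∏ z, d (π.symm z) = 1 := by
    rw [← hδ]
    exact Equiv.prod_comp π.symm d
  simp only at hgA ⊢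
  rw [affEl_decomp] at hgA ⊢
  have hπA : π ∈ alternatingGroup Z := by
    rw [mem_alternatingGroup] at hgA ⊢
    rw [map_mul, map_mul, sign_affEl_perm, sign_affEl_diag, hd', map_one,
      sign_eq_one_of_pow hodd (k := 1) (by rw [pow_one]; exact affEl_base_pow_p _), one_mul,
      one_mul] at hgA
    rcases Int.units_eq_one_or (sign π) with h | h
    · exact h
    · rw [h, Odd.neg_one_pow hodd] at hgA
      exact absurd hgA (by decide)
  exact Subgroup.mul_mem _ (Subgroup.mul_mem _ (base_mem_closure_pElB hodd _)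
    (diag_mem_closure_pElB hodd hcard _ hd')) (lift_mem_closure_pElB hodd hcard hπA)

end Cfsg.Agent.Helper25.AltFus
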