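import Mathlib
import Cfsg.Agent.Lib.Helper25.AltWr7

set_option autoImplicit false

/-! Affine elements normalizing `wr K`; the regular-piece lemma. -/

namespace Cfsg.Agent.Helper25.AltFus

open Equiv Equiv.Perm

variable {p : ℕ} [Fact p.Prime] {Z E : Type*} [Fintype Z] [DecidableEq Z] [Fintype E]
  [DecidableEq E]

theorem affEl_mem_normalizer_wr (K : Subgroup (Perm Z)) (d : Z → (ZMod p)ˣ) (f : Z → ZMod p)
    (π : Perm Z) (hπ : π ∈ Subgroup.normalizer (K : Set (Perm Z)))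
    (hd : ∀ τ ∈ K, ∀ z, d (τ z) = d z) :
    (affEl d f π : Perm ((ZMod p × Z) ⊕ E)) ∈
      Subgroup.normalizer (wr p E K : Set (Perm ((ZMod p × Z) ⊕ E))) := by
  apply Subgroup.mem_normalizer_fintype
  rintro _ ⟨f', τ, hτ, rfl⟩
  have hτ' : π * τ * π⁻¹ ∈ K := (Subgroup.mem_normalizer_iff.mp hπ τ).mp hτ
  refine ⟨fun w => (d (τ (π.symm w)) : ZMod p) * f' (π.symm w) + f (τ (π.symm w)) - f (π.symm w),
    π * τ * π⁻¹, hτ', ?_⟩
  rw [mul_inv_eq_iff_eq_mul, affEl_mul, affEl_mul]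
  congr 1
  · funext z
    rw [mul_one, one_mul, hd τ hτ]
  · funext z
    simp only [Units.val_one, one_mul, Equiv.symm_apply_apply]
    ring
  · group

/-- the regular-piece lemma -/
theorem translate_of_commute {Ω V : Type*} [AddCommGroup V] [Nontrivial V] (ι : V → Ω)
    (hι : Function.Injective ι) (r : V → Perm Ω) (hr1 : ∀ v w, r v (ι w) = ι (v + w))
    (hr2 : ∀ v x, x ∉ Set.range ι → r v x = x) (g : Perm Ω)
    (hg : ∀ v, g * r v = r v * g) : ∃ c : V, ∀ w, g (ι w) = ι (w + c) := by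
  obtain ⟨v₀, hv₀⟩ := exists_ne (0 : V)
  have hcomm : ∀ v x, g (r v x) = r v (g x) := fun v x =>
    congrArg (fun σ : Perm Ω => σ x) (hg v)
  have h1 : g (ι 0) ∈ Set.range ι := by
    by_contra hcon
    have h2 := hcomm v₀ (ι 0)
    rw [hr2 v₀ _ hcon, hr1, add_zero] at h2
    exact hv₀ (hι (g.injective h2))
  obtain ⟨c, hc⟩ := h1
  refine ⟨c, fun w => ?_⟩
  have h2 := hcomm w (ι 0)
  rw [hr1, add_zero, ← hc, hr1] at h2
  exact h2

end Cfsg.Agent.Helper25.AltFus
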