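import Mathlib
import Cfsg.Agent.Lib.Helper25.AltWr8

set_option autoImplicit false

/-! The two-level wreath product: the torus element `yEl`. -/

namespace Cfsg.Agent.Helper25.AltFus

open Equiv Equiv.Perm

variable {p : ℕ} [Fact p.Prime] {Y L E : Type*} [Fintype Y] [DecidableEq Y] [Fintype L]
  [DecidableEq L] [Fintype E] [DecidableEq E]

theorem sign_affEl_zero {Z : Type*} [Fintype Z] [DecidableEq Z] (d : Z → (ZMod p)ˣ) (π : Perm Z) :
    sign (affEl d (fun _ => 0) π : Perm ((ZMod p × Z) ⊕ E)) =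
      epsHom p (∏ z, d z) * sign π ^ p := by
  rw [affEl_decomp, map_mul, map_mul, sign_affEl_perm, sign_affEl_diag, sign_affEl_perm, map_one,
    one_pow, one_mul]
  congr 2
  exact Equiv.prod_comp π.symm d

variable (O : Finset Y)

/-- multipliers at the second level -/
def d2 (a : (ZMod p)ˣ) : Y → (ZMod p)ˣ := fun y => if y ∈ O then a⁻¹ else 1

/-- the second-level diagonal element -/
def piY (L : Type*) (a : (ZMod p)ˣ) : Perm ((ZMod p × Y) ⊕ L) := affEl (d2 O a) (fun _ => 0) 1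

/-- multipliers at the first level -/
def dY (L : Type*) (a : (ZMod p)ˣ) : (ZMod p × Y) ⊕ L → (ZMod p)ˣ :=
  Sum.elim (fun vy => if vy.2 ∈ O then a else 1) (fun _ => 1)

/-- the torus element -/
def yEl (L E : Type*) (a : (ZMod p)ˣ) : Perm ((ZMod p × ((ZMod p × Y) ⊕ L)) ⊕ E) :=
  affEl (dY O L a) (fun _ => 0) (piY O L a)

theorem prod_d2 (a : (ZMod p)ˣ) : ∏ y, d2 O a y = a⁻¹ ^ O.card := by
  unfold d2
  rw [Finset.prod_ite_mem, Finset.univ_inter, Finset.prod_const]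

theorem prod_dY (a : (ZMod p)ˣ) : ∏ z, dY O L a z = a ^ (p * O.card) := by
  rw [Fintype.prod_sum_type, Fintype.prod_prod_type]
  simp only [dY, Sum.elim_inl, Sum.elim_inr, Finset.prod_const_one, mul_one]
  simp only [Finset.prod_ite_mem, Finset.univ_inter, Finset.prod_const, Finset.card_univ,
    ZMod.card]
  rw [← pow_mul, mul_comm]

theorem piY_mem_normalizer (W : Subgroup (Perm Y)) (hO : ∀ τ ∈ W, ∀ y, τ y ∈ O ↔ y ∈ O)
    (a : (ZMod p)ˣ) :
    piY O L a ∈ Subgroup.normalizer (wr p L W : Set (Perm ((ZMod p × Y) ⊕ L))) := by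
  apply affEl_mem_normalizer_wr
  · exact Subgroup.one_mem _
  · intro τ hτ y
    unfold d2
    rw [if_congr (hO τ hτ y) rfl rfl]

theorem yEl_mem_normalizer (W : Subgroup (Perm Y)) (hO : ∀ τ ∈ W, ∀ y, τ y ∈ O ↔ y ∈ O)
    (a : (ZMod p)ˣ) :
    yEl O L E a ∈ Subgroup.normalizer
      (wr p E (wr p L W) : Set (Perm ((ZMod p × ((ZMod p × Y) ⊕ L)) ⊕ E))) := by
  apply affEl_mem_normalizer_wr
  · exact piY_mem_normalizer O W hO a
  · rintro _ ⟨f₂, τ₂, hτ₂, rfl⟩ z
    rcases z with ⟨v, y⟩ | l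
    · simp only [affEl_inl, dY, Sum.elim_inl]
      rw [if_congr (hO τ₂ hτ₂ y) rfl rfl]
    · simp [dY]

theorem sign_yEl (a : (ZMod p)ˣ) : sign (yEl O L E a) = 1 := by
  unfold yEl
  rw [sign_affEl_zero, prod_dY]
  unfold piY
  rw [sign_affEl_zero, prod_d2, map_one, one_pow, mul_one, map_pow, map_pow, ← pow_mul,
    mul_comm O.card p, ← mul_pow, ← map_mul, mul_inv_cancel, map_one, one_pow]

theorem yEl_mem_affSub (a : (ZMod p)ˣ) :
    yEl O L E a ∈ affSub p E ((ZMod p × Y) ⊕ L) := affEl_mem _ _ _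

theorem deltaHom_yEl (a : (ZMod p)ˣ) :
    deltaHom p E ((ZMod p × Y) ⊕ L) ⟨yEl O L E a, yEl_mem_affSub O a⟩ = a ^ (p * O.card) := by
  exact (deltaHom_affEl _ _ _ _).trans (prod_dY O a)

theorem units_pow_p_pow (a : (ZMod p)ˣ) (j : ℕ) : a ^ (p ^ j) = a := by
  induction j with
  | zero => simp
  | succ j ih =>
    rw [pow_succ, pow_mul, ih]
    apply Units.ext
    rw [Units.val_pow_eq_pow_val, ZMod.pow_card]

end Cfsg.Agent.Helper25.AltFus
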