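import Mathlib
import Cfsg.Agent.Lib.Helper25.AltWr9

set_option autoImplicit false

/-! The two-level wreath product: the abelian subgroup `RSub` and the transvections. -/

namespace Cfsg.Agent.Helper25.AltFus

open Equiv Equiv.Perm

variable {p : ℕ} [Fact p.Prime] {Y L E : Type*} [DecidableEq Y]

/-- elements of the translation group -/
def rEl (s : (ZMod p × Y) ⊕ L → ZMod p) (t : Y → ZMod p) :
    Perm ((ZMod p × ((ZMod p × Y) ⊕ L)) ⊕ E) :=
  affEl (fun _ => 1) s (affEl (fun _ => 1) t 1)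

theorem rEl_inl_inl (s : (ZMod p × Y) ⊕ L → ZMod p) (t : Y → ZMod p) (u v : ZMod p) (y : Y) :
    (rEl s t : Perm ((ZMod p × ((ZMod p × Y) ⊕ L)) ⊕ E)) (Sum.inl (u, Sum.inl (v, y))) =
      Sum.inl (u + s (Sum.inl (v, y)), Sum.inl (v + t y, y)) := by
  simp [rEl]

theorem rEl_inl_inr (s : (ZMod p × Y) ⊕ L → ZMod p) (t : Y → ZMod p) (u : ZMod p) (l : L) :
    (rEl s t : Perm ((ZMod p × ((ZMod p × Y) ⊕ L)) ⊕ E)) (Sum.inl (u, Sum.inr l)) =
      Sum.inl (u + s (Sum.inr l), Sum.inr l) := by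
  simp [rEl]

theorem rEl_inr (s : (ZMod p × Y) ⊕ L → ZMod p) (t : Y → ZMod p) (e : E) :
    (rEl s t : Perm ((ZMod p × ((ZMod p × Y) ⊕ L)) ⊕ E)) (Sum.inr e) = Sum.inr e := rfl

theorem rEl_mul (s s' : (ZMod p × Y) ⊕ L → ZMod p) (t t' : Y → ZMod p) :
    (rEl s t : Perm ((ZMod p × ((ZMod p × Y) ⊕ L)) ⊕ E)) * rEl s' t' =
      rEl (fun z => s' z + s ((affEl (fun _ => 1) t' 1 : Perm ((ZMod p × Y) ⊕ L)) z))
        (fun y => t' y + t y) := by
  unfold rEl
  rw [affEl_mul, affEl_mul]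
  congr 1
  · funext z; exact one_mul 1
  · funext z; simp
  · congr 1
    · funext y; exact one_mul 1
    · funext y; simp

theorem rEl_zero : (rEl (fun _ => 0) (fun _ => 0) :
    Perm ((ZMod p × ((ZMod p × Y) ⊕ L)) ⊕ E)) = 1 := by
  unfold rEl
  rw [affEl_one, affEl_one]

variable (O : Finset Y)

/-- the constancy condition -/
def RCond (s : (ZMod p × Y) ⊕ L → ZMod p) : Prop :=
  ∀ v y, y ∈ O → s (Sum.inl (v, y)) = s (Sum.inl (0, y))

variable (L E) in
/-- the abelian subgroup `R` -/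
def RSub : Subgroup (Perm ((ZMod p × ((ZMod p × Y) ⊕ L)) ⊕ E)) where
  carrier := {g | ∃ s t, RCond O s ∧ g = rEl s t}
  one_mem' := ⟨fun _ => 0, fun _ => 0, fun _ _ _ => rfl, rEl_zero.symm⟩
  mul_mem' := by
    rintro _ _ ⟨s, t, hs, rfl⟩ ⟨s', t', hs', rfl⟩
    refine ⟨_, _, ?_, rEl_mul s s' t t'⟩
    intro v y hy
    simp only [affEl_inl, Units.val_one, one_mul, Perm.coe_one, id_eq]
    rw [hs' v y hy, hs (v + t' y) y hy, hs (0 + t' y) y hy]
  inv_mem' := by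
    rintro _ ⟨s, t, hs, rfl⟩
    refine ⟨fun z => - s ((affEl (fun _ => 1) (fun y => - t y) 1 : Perm ((ZMod p × Y) ⊕ L)) z),
      fun y => - t y, ?_, ?_⟩
    · intro v y hy
      simp only [affEl_inl, Units.val_one, one_mul, Perm.coe_one, id_eq]
      rw [hs (v + -t y) y hy, hs (0 + -t y) y hy]
    · rw [inv_eq_iff_mul_eq_one, rEl_mul, ← rEl_zero]
      congr 1
      · funext z
        rcases z with ⟨v, y⟩ | l
        · simp
        · simp
      · funext y; simp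

theorem mem_RSub {g : Perm ((ZMod p × ((ZMod p × Y) ⊕ L)) ⊕ E)} :
    g ∈ RSub L E O ↔ ∃ s t, RCond O s ∧ g = rEl s t := Iff.rfl

theorem RSub_le_wr (W : Subgroup (Perm Y)) : RSub L E O ≤ wr p E (wr p L W) := by
  rintro _ ⟨s, t, _, rfl⟩
  exact ⟨s, _, ⟨t, 1, W.one_mem, rfl⟩, rfl⟩

/-- the first transvection family, inside the base group -/
def tvA (L E : Type*) (lam : ZMod p) : Perm ((ZMod p × ((ZMod p × Y) ⊕ L)) ⊕ E) :=
  affEl (fun _ => 1) (Sum.elim (fun vy => if vy.2 ∈ O then lam * vy.1 else 0) (fun _ => 0)) 1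

/-- the underlying function of the second transvection family -/
def tvBfun (L E : Type*) (lam : ZMod p) :
    (ZMod p × ((ZMod p × Y) ⊕ L)) ⊕ E → (ZMod p × ((ZMod p × Y) ⊕ L)) ⊕ E
  | Sum.inl (u, Sum.inl (v, y)) => Sum.inl (u, Sum.inl (if y ∈ O then v + lam * u else v, y))
  | x => x

theorem tvBfun_add (lam mu : ZMod p) (x : (ZMod p × ((ZMod p × Y) ⊕ L)) ⊕ E) :
    tvBfun O L E lam (tvBfun O L E mu x) = tvBfun O L E (lam + mu) x := by
  rcases x with ⟨u, ⟨v, y⟩ | l⟩ | e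
  · by_cases hy : y ∈ O
    · simp only [tvBfun, hy, if_true]
      congr 3
      ring
    · simp [tvBfun, hy]
  · rfl
  · rfl

theorem tvBfun_zero (x : (ZMod p × ((ZMod p × Y) ⊕ L)) ⊕ E) : tvBfun O L E (0 : ZMod p) x = x := by
  rcases x with ⟨u, ⟨v, y⟩ | l⟩ | e
  · by_cases hy : y ∈ O
    · simp [tvBfun, hy]
    · simp [tvBfun, hy]
  · rfl
  · rfl

/-- the second transvection family -/
def tvB (L E : Type*) (lam : ZMod p) : Perm ((ZMod p × ((ZMod p × Y) ⊕ L)) ⊕ E) where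
  toFun := tvBfun O L E lam
  invFun := tvBfun O L E (-lam)
  left_inv x := by rw [tvBfun_add, neg_add_cancel, tvBfun_zero]
  right_inv x := by rw [tvBfun_add, add_neg_cancel, tvBfun_zero]

theorem tvB_apply (lam : ZMod p) (x : (ZMod p × ((ZMod p × Y) ⊕ L)) ⊕ E) :
    tvB O L E lam x = tvBfun O L E lam x := rfl

theorem tvB_mul (lam mu : ZMod p) : tvB O L E lam * tvB O L E mu = tvB O L E (lam + mu) := by
  ext x : 1
  rw [Perm.mul_apply, tvB_apply, tvB_apply, tvB_apply, tvBfun_add]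

theorem tvB_zero : tvB O L E (0 : ZMod p) = 1 := by
  ext x : 1
  rw [tvB_apply, tvBfun_zero]; rfl

theorem tvB_pow (lam : ZMod p) (k : ℕ) : tvB O L E lam ^ k = tvB O L E ((k : ZMod p) * lam) := by
  induction k with
  | zero => rw [pow_zero, Nat.cast_zero, zero_mul, tvB_zero]
  | succ k ih =>
    rw [pow_succ, ih, tvB_mul]
    congr 1
    push_cast
    ring

theorem tvB_pow_p (lam : ZMod p) : tvB O L E lam ^ p = 1 := by
  rw [tvB_pow, ZMod.natCast_self, zero_mul, tvB_zero]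

theorem tvA_pow_p [Fintype Y] [Fintype L] [DecidableEq L] [Fintype E] [DecidableEq E] (lam : ZMod p) : tvA O L E lam ^ p = 1 :=
  affEl_base_pow_p _

end Cfsg.Agent.Helper25.AltFus
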