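import Mathlib
import Cfsg.Agent.Lib.Helper25.AltWr10

set_option autoImplicit false

/-! The transvections normalize `RSub`; the torus element as a word in transvections. -/

namespace Cfsg.Agent.Helper25.AltFus

open Equiv Equiv.Perm

variable {p : ℕ} [Fact p.Prime] {Y L E : Type*} [Fintype Y] [DecidableEq Y] [Fintype L]
  [DecidableEq L] [Fintype E] [DecidableEq E] (O : Finset Y)

theorem tvA_mem_normalizer (lam : ZMod p) :
    tvA O L E lam ∈ Subgroup.normalizer
      ((RSub L E O : Subgroup (Perm ((ZMod p × ((ZMod p × Y) ⊕ L)) ⊕ E))) : Set (Perm ((ZMod p × ((ZMod p × Y) ⊕ L)) ⊕ E))) := by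
  apply Subgroup.mem_normalizer_fintype
  rintro _ ⟨s, t, hs, rfl⟩
  set a : (ZMod p × Y) ⊕ L → ZMod p :=
    Sum.elim (fun vy => if vy.2 ∈ O then lam * vy.1 else 0) (fun _ => 0) with ha
  refine ⟨fun z => s z + a ((affEl (fun _ => 1) t 1 : Perm ((ZMod p × Y) ⊕ L)) z) - a z, t, ?_, ?_⟩
  · intro v y hy
    simp only [affEl_inl, Units.val_one, one_mul, Perm.coe_one, id_eq, ha, Sum.elim_inl, hy,
      if_true]
    rw [hs v y hy]
    ring
  · rw [mul_inv_eq_iff_eq_mul]
    unfold tvA rEl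
    rw [affEl_mul, affEl_mul]
    congr 1
    · funext z
      simp only [Units.val_one, one_mul, Perm.coe_one, id_eq]
      ring

theorem tvB_mem_normalizer (lam : ZMod p) :
    tvB O L E lam ∈ Subgroup.normalizer
      ((RSub L E O : Subgroup (Perm ((ZMod p × ((ZMod p × Y) ⊕ L)) ⊕ E))) : Set (Perm ((ZMod p × ((ZMod p × Y) ⊕ L)) ⊕ E))) := by
  apply Subgroup.mem_normalizer_fintype
  rintro _ ⟨s, t, hs, rfl⟩
  refine ⟨s, fun y => t y + (if y ∈ O then lam * s (Sum.inl (0, y)) else 0), hs, ?_⟩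
  rw [mul_inv_eq_iff_eq_mul]
  ext x : 1
  rcases x with ⟨u, ⟨v, y⟩ | l⟩ | e
  · by_cases hy : y ∈ O
    · simp only [Perm.mul_apply, tvB_apply, tvBfun, hy, if_true, rEl_inl_inl]
      rw [hs (v + lam * u) y hy, hs v y hy]
      congr 4
      ring
    · simp only [Perm.mul_apply, tvB_apply, tvBfun, hy, if_false, rEl_inl_inl, add_zero]
  · simp only [Perm.mul_apply, tvB_apply, tvBfun, rEl_inl_inr]
  · simp only [Perm.mul_apply, tvB_apply, tvBfun, rEl_inr]

theorem yEl_word (a : (ZMod p)ˣ) :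
    yEl O L E a * (tvA O L E 1 * tvB O L E (-1) * tvA O L E 1) =
      tvA O L E (a : ZMod p) * tvB O L E (-((a⁻¹ : (ZMod p)ˣ) : ZMod p)) *
        tvA O L E (a : ZMod p) := by
  ext x : 1
  rcases x with ⟨u, ⟨v, y⟩ | l⟩ | e
  · by_cases hy : y ∈ O
    · simp only [Perm.mul_apply, tvA, affEl_inl, Sum.elim_inl, hy, if_true, tvB_apply, tvBfun,
        Units.val_one, one_mul, Perm.coe_one, id_eq, yEl, dY, piY, d2, add_zero]
      congr 2
      · have : (a : ZMod p) * ((a⁻¹ : (ZMod p)ˣ) : ZMod p) = 1 := by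
          rw [← Units.val_mul, mul_inv_cancel, Units.val_one]
        linear_combination (u + (a : ZMod p) * v) * this
      · congr 2
        have : (a : ZMod p) * ((a⁻¹ : (ZMod p)ˣ) : ZMod p) = 1 := by
          rw [← Units.val_mul, mul_inv_cancel, Units.val_one]
        linear_combination v * this
    · simp only [Perm.mul_apply, tvA, affEl_inl, Sum.elim_inl, hy, if_false, tvB_apply, tvBfun,
        Units.val_one, one_mul, Perm.coe_one, id_eq, yEl, dY, piY, d2, add_zero]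
  · simp only [Perm.mul_apply, tvA, affEl_inl, Sum.elim_inr, tvB_apply, tvBfun,
      Units.val_one, one_mul, Perm.coe_one, id_eq, yEl, dY, piY, add_zero, affEl_inr]
  · simp only [Perm.mul_apply, tvA, affEl_inr, tvB_apply, tvBfun, yEl]

/-- `p`-elements of the alternating group normalizing `RSub` -/
def pElR (p : ℕ) [Fact p.Prime] (L E : Type*) [Fintype L] [DecidableEq L] [Fintype E]
    [DecidableEq E] (O : Finset Y) : Set (Perm ((ZMod p × ((ZMod p × Y) ⊕ L)) ⊕ E)) :=
  {y | y ∈ Subgroup.normalizer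
      ((RSub L E O : Subgroup (Perm ((ZMod p × ((ZMod p × Y) ⊕ L)) ⊕ E))) : Set (Perm ((ZMod p × ((ZMod p × Y) ⊕ L)) ⊕ E))) ∧
    y ∈ alternatingGroup ((ZMod p × ((ZMod p × Y) ⊕ L)) ⊕ E) ∧ ∃ k : ℕ, y ^ p ^ k = 1}

theorem tvA_mem_pElR (hodd : Odd p) (lam : ZMod p) : tvA O L E lam ∈ pElR p L E O :=
  ⟨tvA_mem_normalizer O lam, mem_alternatingGroup.mpr
    (sign_eq_one_of_pow hodd (k := 1) (by rw [pow_one]; exact tvA_pow_p O lam)),
    1, by rw [pow_one]; exact tvA_pow_p O lam⟩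

theorem tvB_mem_pElR (hodd : Odd p) (lam : ZMod p) : tvB O L E lam ∈ pElR p L E O :=
  ⟨tvB_mem_normalizer O lam, mem_alternatingGroup.mpr
    (sign_eq_one_of_pow hodd (k := 1) (by rw [pow_one]; exact tvB_pow_p O lam)),
    1, by rw [pow_one]; exact tvB_pow_p O lam⟩

theorem yEl_mem_closure_pElR (hodd : Odd p) (a : (ZMod p)ˣ) :
    yEl O L E a ∈ Subgroup.closure (pElR p L E O) := by
  have h := yEl_word (L := L) (E := E) O a
  rw [← eq_mul_inv_iff_mul_eq] at h
  rw [h]
  have hA : ∀ lam : ZMod p, tvA O L E lam ∈ Subgroup.closure (pElR p L E O) :=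
    fun lam => Subgroup.subset_closure (tvA_mem_pElR O hodd lam)
  have hB : ∀ lam : ZMod p, tvB O L E lam ∈ Subgroup.closure (pElR p L E O) :=
    fun lam => Subgroup.subset_closure (tvB_mem_pElR O hodd lam)
  exact Subgroup.mul_mem _ (Subgroup.mul_mem _ (Subgroup.mul_mem _ (hA _) (hB _)) (hA _))
    (Subgroup.inv_mem _ (Subgroup.mul_mem _ (Subgroup.mul_mem _ (hA _) (hB _)) (hA _)))

end Cfsg.Agent.Helper25.AltFus
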