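import Mathlib
import Cfsg.Agent.Lib.Helper25.AltWr11

set_option autoImplicit false

/-! `RSub` is self-centralizing. -/

namespace Cfsg.Agent.Helper25.AltFus

open Equiv Equiv.Perm

variable {p : ℕ} [Fact p.Prime] {Y L E : Type*} [Fintype Y] [DecidableEq Y] [Fintype L]
  [DecidableEq L] [Fintype E] [DecidableEq E] (O : Finset Y)

/-- a point of `Z` not lying over `O` -/
def NotOver (z : (ZMod p × Y) ⊕ L) : Prop := ∀ v y, z = Sum.inl (v, y) → y ∉ O

theorem piece_O (g : Perm ((ZMod p × ((ZMod p × Y) ⊕ L)) ⊕ E))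
    (hg : ∀ r ∈ RSub L E O, r * g = g * r) (y : Y) (hy : y ∈ O) :
    ∃ c : ZMod p × ZMod p, ∀ u v : ZMod p,
      g (Sum.inl (u, Sum.inl (v, y))) = Sum.inl (u + c.1, Sum.inl (v + c.2, y)) := by
  haveI : Fact (1 < p) := ⟨(Fact.out : p.Prime).one_lt⟩
  set ι : ZMod p × ZMod p → (ZMod p × ((ZMod p × Y) ⊕ L)) ⊕ E :=
    fun w => Sum.inl (w.1, Sum.inl (w.2, y)) with hι
  set r : ZMod p × ZMod p → Perm ((ZMod p × ((ZMod p × Y) ⊕ L)) ⊕ E) :=
    fun w => rEl (Sum.elim (fun vy => if vy.2 = y then w.1 else 0) (fun _ => 0))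
      (Pi.single y w.2) with hr
  have hrR : ∀ w, r w ∈ RSub L E O := by
    intro w
    refine ⟨_, _, ?_, rfl⟩
    intro v y' _
    simp
  obtain ⟨c, hc⟩ := translate_of_commute ι (by
      intro w w' h
      simp only [hι, Sum.inl.injEq, Prod.mk.injEq] at h
      exact Prod.ext h.1 h.2.1) r (by
      intro w w'
      simp only [hr, hι, rEl_inl_inl, Sum.elim_inl, if_true, Pi.single_eq_same, Prod.fst_add,
        Prod.snd_add]
      congr 2
      · exact add_comm _ _
      · congr 2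
        exact add_comm _ _) (by
      intro w x hx
      rcases x with ⟨u, ⟨v, y'⟩ | l⟩ | e
      · have hy' : y' ≠ y := by
          rintro rfl
          exact hx ⟨(u, v), rfl⟩
        simp only [hr, rEl_inl_inl, Sum.elim_inl, hy', if_false, add_zero,
          Pi.single_eq_of_ne hy']
      · simp only [hr, rEl_inl_inr, Sum.elim_inr, add_zero]
      · rfl) g (fun w => (hg _ (hrR w)).symm)
  refine ⟨c, fun u v => ?_⟩
  exact hc (u, v)

theorem piece_notOver (g : Perm ((ZMod p × ((ZMod p × Y) ⊕ L)) ⊕ E))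
    (hg : ∀ r ∈ RSub L E O, r * g = g * r) (z : (ZMod p × Y) ⊕ L) (hz : NotOver O z) :
    ∃ c : ZMod p, ∀ u : ZMod p, g (Sum.inl (u, z)) = Sum.inl (u + c, z) := by
  haveI : Fact (1 < p) := ⟨(Fact.out : p.Prime).one_lt⟩
  set ι : ZMod p → (ZMod p × ((ZMod p × Y) ⊕ L)) ⊕ E := fun u => Sum.inl (u, z) with hι
  set r : ZMod p → Perm ((ZMod p × ((ZMod p × Y) ⊕ L)) ⊕ E) :=
    fun a => rEl (Pi.single z a) (fun _ => 0) with hr
  have hrR : ∀ a, r a ∈ RSub L E O := by
    intro a
    refine ⟨_, _, ?_, rfl⟩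
    intro v y' hy'
    have h1 : (Sum.inl (v, y') : (ZMod p × Y) ⊕ L) ≠ z := fun h => hz v y' h.symm hy'
    have h2 : (Sum.inl (0, y') : (ZMod p × Y) ⊕ L) ≠ z := fun h => hz 0 y' h.symm hy'
    rw [Pi.single_eq_of_ne h1, Pi.single_eq_of_ne h2]
  have hone : ∀ z' : (ZMod p × Y) ⊕ L,
      (affEl (fun _ => 1) (fun _ => 0) 1 : Perm ((ZMod p × Y) ⊕ L)) z' = z' := by
    intro z'
    rw [affEl_one]; rfl
  have hrapp : ∀ a u z', r a (Sum.inl (u, z')) =
      Sum.inl (u + (Pi.single z a : (ZMod p × Y) ⊕ L → ZMod p) z', z') := by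
    intro a u z'
    simp only [hr, rEl, affEl_inl, Units.val_one, one_mul, hone]
  obtain ⟨c, hc⟩ := translate_of_commute ι (by
      intro u u' h
      simp only [hι, Sum.inl.injEq, Prod.mk.injEq, and_true] at h
      exact h) r (by
      intro a u
      simp only [hι, hrapp, Pi.single_eq_same]
      rw [add_comm]) (by
      intro a x hx
      rcases x with ⟨u, z'⟩ | e
      · have hz' : z' ≠ z := by
          rintro rfl
          exact hx ⟨u, rfl⟩
        rw [hrapp, Pi.single_eq_of_ne hz', add_zero]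
      · rfl) g (fun a => (hg _ (hrR a)).symm)
  exact ⟨c, hc⟩

theorem centralizer_RSub_le [Subsingleton E] :
    Subgroup.centralizer
      ((RSub L E O : Subgroup (Perm ((ZMod p × ((ZMod p × Y) ⊕ L)) ⊕ E))) :
        Set (Perm ((ZMod p × ((ZMod p × Y) ⊕ L)) ⊕ E))) ≤ RSub L E O := by
  intro g hg
  rw [Subgroup.mem_centralizer_iff] at hg
  have hg' : ∀ r ∈ RSub L E O, r * g = g * r := fun r hr => hg r hr
  have h1 : ∀ y, ∃ c : ZMod p × ZMod p, y ∈ O → ∀ u v : ZMod p,
      g (Sum.inl (u, Sum.inl (v, y))) = Sum.inl (u + c.1, Sum.inl (v + c.2, y)) := by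
    intro y
    by_cases hy : y ∈ O
    · obtain ⟨c, hc⟩ := piece_O O g hg' y hy
      exact ⟨c, fun _ => hc⟩
    · exact ⟨0, fun h => absurd h hy⟩
  have h2 : ∀ z : (ZMod p × Y) ⊕ L, ∃ c : ZMod p, NotOver O z →
      ∀ u : ZMod p, g (Sum.inl (u, z)) = Sum.inl (u + c, z) := by
    intro z
    by_cases hz : NotOver O z
    · obtain ⟨c, hc⟩ := piece_notOver O g hg' z hz
      exact ⟨c, fun _ => hc⟩
    · exact ⟨0, fun h => absurd h hz⟩
  choose c1 hc1 using h1
  choose c2 hc2 using h2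
  set s : (ZMod p × Y) ⊕ L → ZMod p :=
    Sum.elim (fun vy => if vy.2 ∈ O then (c1 vy.2).1 else c2 (Sum.inl vy)) (fun l => c2 (Sum.inr l))
    with hs
  set t : Y → ZMod p := fun y => if y ∈ O then (c1 y).2 else 0 with ht
  have hgl : ∀ u z, g (Sum.inl (u, z)) =
      (rEl s t : Perm ((ZMod p × ((ZMod p × Y) ⊕ L)) ⊕ E)) (Sum.inl (u, z)) := by
    intro u z
    rcases z with ⟨v, y⟩ | l
    · by_cases hy : y ∈ O
      · rw [hc1 y hy, rEl_inl_inl]
        simp only [hs, ht, Sum.elim_inl, hy, if_true]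
      · have hz : NotOver O (Sum.inl (v, y) : (ZMod p × Y) ⊕ L) := by
          intro v' y' h
          simp only [Sum.inl.injEq, Prod.mk.injEq] at h
          rw [← h.2]; exact hy
        rw [hc2 _ hz, rEl_inl_inl]
        simp only [hs, ht, Sum.elim_inl, hy, if_false, add_zero]
    · have hz : NotOver O (Sum.inr l : (ZMod p × Y) ⊕ L) := by
        intro v' y' h
        exact absurd h (by simp)
      rw [hc2 _ hz, rEl_inl_inr]
      simp only [hs, Sum.elim_inr]
  refine ⟨s, t, ?_, ?_⟩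
  · intro v y hy
    simp only [hs, Sum.elim_inl, hy, if_true]
  · ext x : 1
    rcases x with ⟨u, z⟩ | e
    · exact hgl u z
    · rw [rEl_inr]
      rcases hge : g (Sum.inr e) with ⟨u, z⟩ | e'
      · exfalso
        have h3 : g ((rEl s t : Perm ((ZMod p × ((ZMod p × Y) ⊕ L)) ⊕ E))⁻¹ (Sum.inl (u, z))) =
            Sum.inl (u, z) := by
          rcases hx : (rEl s t : Perm ((ZMod p × ((ZMod p × Y) ⊕ L)) ⊕ E))⁻¹ (Sum.inl (u, z))
            with ⟨u', z'⟩ | e''
          · rw [hgl, ← hx]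
            simp
          · exfalso
            have : (rEl s t : Perm ((ZMod p × ((ZMod p × Y) ⊕ L)) ⊕ E)) (Sum.inr e'') =
                Sum.inl (u, z) := by
              rw [← hx]; simp
            rw [rEl_inr] at this
            exact Sum.inr_ne_inl this
        rw [← hge] at h3
        have h4 := g.injective h3
        have h5 : (rEl s t : Perm ((ZMod p × ((ZMod p × Y) ⊕ L)) ⊕ E)) (Sum.inr e) =
            Sum.inl (u, z) := by
          rw [← h4]; simpa using hge
        rw [rEl_inr] at h5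
        exact Sum.inr_ne_inl h5
      · rw [Subsingleton.elim e' e]

end Cfsg.Agent.Helper25.AltFus
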