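import Mathlib
import Cfsg.Agent.Lib.Helper25.FusionSimpCrit2

set_option autoImplicit false

/-! Transfer of the generation criterion from an ambient group to a subgroup. -/

namespace Cfsg.Agent.Helper25.AltFus

open Cfsg.Agent.Helper25.SimpCrit

variable {Γ : Type*} [Group Γ]

/-- the `p`-elements of `A` normalizing `R'` -/
def pElOf (p : ℕ) (A R' : Subgroup Γ) : Set Γ :=
  {y | y ∈ A ∧ y ∈ Subgroup.normalizer (R' : Set Γ) ∧ ∃ k : ℕ, y ^ p ^ k = 1}

/-- good generators, in the ambient group -/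
def goodP (p : ℕ) (A S' : Subgroup Γ) : Set Γ :=
  {x | x ∈ A ∧ (x ∈ S' ∨ (x ∈ Subgroup.normalizer (S' : Set Γ) ∧ ∃ R' : Subgroup Γ, R' ≤ S' ∧
    Subgroup.centralizer (R' : Set Γ) ⊓ A ≤ R' ∧ x ∈ Subgroup.closure (pElOf p A R')))}

theorem mem_closure_of_coe_mem {A : Subgroup Γ} {T : Set A} {T' : Set Γ}
    (hT : ∀ y ∈ T', ∃ h : y ∈ A, (⟨y, h⟩ : A) ∈ T) {x : A}
    (hx : (x : Γ) ∈ Subgroup.closure T') : x ∈ Subgroup.closure T := by
  have h1 : T' ⊆ A.subtype '' T := by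
    intro y hy
    obtain ⟨h, hT'⟩ := hT y hy
    exact ⟨⟨y, h⟩, hT', rfl⟩
  have h2 := Subgroup.closure_mono h1 hx
  rw [← MonoidHom.map_closure] at h2
  obtain ⟨x', hx', hxx'⟩ := h2
  have : x' = x := Subtype.ext hxx'
  rw [← this]; exact hx'

theorem autGen_of_perm (p : ℕ) (A S' : Subgroup Γ) (hS : S' ≤ A)
    (h : ∀ g ∈ A, g ∈ Subgroup.normalizer (S' : Set Γ) → g ∈ Subgroup.closure (goodP p A S')) :
    AutGen p (S'.subgroupOf A) := by
  intro x hx
  have hxN : (x : Γ) ∈ Subgroup.normalizer (S' : Set Γ) := by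
    rw [← Subgroup.subgroupOf_normalizer_eq hS] at hx
    exact hx
  refine mem_closure_of_coe_mem ?_ (h x x.2 hxN)
  rintro y ⟨hyA, hy⟩
  refine ⟨hyA, ?_⟩
  rcases hy with hyS | ⟨hyN, R', hR'S, hcent, hycl⟩
  · exact Or.inl hyS
  · right
    refine ⟨?_, R'.subgroupOf A, ?_, ?_, ?_⟩
    · rw [← Subgroup.subgroupOf_normalizer_eq hS]
      exact hyN
    · intro r hr
      exact hR'S hr
    · intro c hc
      rw [Subgroup.mem_centralizer_iff] at hc
      apply hcent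
      refine Subgroup.mem_inf.mpr ⟨?_, c.2⟩
      show (c : Γ) ∈ Subgroup.centralizer (R' : Set Γ)
      rw [Subgroup.mem_centralizer_iff]
      intro r hr
      have := hc ⟨r, hS (hR'S hr)⟩ hr
      exact congrArg Subtype.val this
    · refine mem_closure_of_coe_mem ?_ hycl
      rintro w ⟨hwA, hwN, k, hk⟩
      refine ⟨hwA, ?_, k, Subtype.ext hk⟩
      rw [← Subgroup.subgroupOf_normalizer_eq (hR'S.trans hS)]
      exact hwN

end Cfsg.Agent.Helper25.AltFus
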