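import Mathlib
import Cfsg.Agent.Lib.Helper25.AltWr12
import Cfsg.Agent.Lib.Helper25.AltWr13

set_option autoImplicit false

/-! The generation criterion for the two-level wreath product, `p` odd. -/

namespace Cfsg.Agent.Helper25.AltFus

open Equiv Equiv.Perm

variable {p : ℕ} [Fact p.Prime] {Y L E : Type*} [Fintype Y] [DecidableEq Y] [Fintype L]
  [DecidableEq L] [Fintype E] [DecidableEq E]

open Classical in
/-- the orbit of a point, as a finset -/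
noncomputable def orbFin (W : Subgroup (Perm Y)) (y₀ : Y) : Finset Y :=
  Finset.univ.filter (fun y => ∃ τ ∈ W, τ y₀ = y)

theorem mem_orbFin (W : Subgroup (Perm Y)) (y₀ y : Y) :
    y ∈ orbFin W y₀ ↔ ∃ τ ∈ W, τ y₀ = y := by
  unfold orbFin
  simp

theorem orbFin_invariant (W : Subgroup (Perm Y)) (y₀ : Y) :
    ∀ τ ∈ W, ∀ y, τ y ∈ orbFin W y₀ ↔ y ∈ orbFin W y₀ := by
  intro τ hτ y
  rw [mem_orbFin, mem_orbFin]
  constructor
  · rintro ⟨τ', hτ', h⟩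
    refine ⟨τ⁻¹ * τ', W.mul_mem (W.inv_mem hτ) hτ', ?_⟩
    rw [Perm.mul_apply, h]
    simp
  · rintro ⟨τ', hτ', h⟩
    refine ⟨τ * τ', W.mul_mem hτ hτ', ?_⟩
    rw [Perm.mul_apply, h]

theorem card_orbFin (W : Subgroup (Perm Y)) (hW : IsPGroup p W) (y₀ : Y) :
    ∃ j : ℕ, (orbFin W y₀).card = p ^ j := by
  obtain ⟨j, hj⟩ := hW.card_orbit (α := Y) y₀
  refine ⟨j, ?_⟩
  rw [← hj, Nat.card_coe_set_eq, ← Set.ncard_coe_finset]
  congr 1
  ext y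
  rw [Finset.mem_coe, mem_orbFin, MulAction.mem_orbit_iff]
  constructor
  · rintro ⟨τ, hτ, h⟩
    exact ⟨⟨τ, hτ⟩, h⟩
  · rintro ⟨⟨τ, hτ⟩, h⟩
    exact ⟨τ, hτ, h⟩

theorem goodP_odd (hodd : Odd p) [Subsingleton E] (W : Subgroup (Perm Y)) (hW : IsPGroup p W)
    (y₀ : Y) :
    ∀ g ∈ alternatingGroup ((ZMod p × ((ZMod p × Y) ⊕ L)) ⊕ E),
      g ∈ Subgroup.normalizer
        ((wr p E (wr p L W) : Subgroup (Perm ((ZMod p × ((ZMod p × Y) ⊕ L)) ⊕ E))) :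
          Set (Perm ((ZMod p × ((ZMod p × Y) ⊕ L)) ⊕ E))) →
      g ∈ Subgroup.closure (goodP p (alternatingGroup ((ZMod p × ((ZMod p × Y) ⊕ L)) ⊕ E))
        (wr p E (wr p L W))) := by
  intro g hgA hgN
  have hpp := (Fact.out : p.Prime)
  set A := alternatingGroup ((ZMod p × ((ZMod p × Y) ⊕ L)) ⊕ E) with hA
  set S' : Subgroup (Perm ((ZMod p × ((ZMod p × Y) ⊕ L)) ⊕ E)) := wr p E (wr p L W) with hS'
  set O := orbFin W y₀ with hO
  have hcardZ : p ≤ Fintype.card ((ZMod p × Y) ⊕ L) := by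
    rw [Fintype.card_sum, Fintype.card_prod, ZMod.card]
    have : 0 < Fintype.card Y := Fintype.card_pos_iff.mpr ⟨y₀⟩
    nlinarith
  -- step 1
  have hgaff : g ∈ affSub p E ((ZMod p × Y) ⊕ L) := normalizer_wr_le_affSub _ hgN
  -- step 2
  obtain ⟨a, ha⟩ := IsCyclic.exists_generator (α := (ZMod p)ˣ)
  obtain ⟨k, hk⟩ := Subgroup.mem_zpowers_iff.mp
    (ha (deltaHom p E ((ZMod p × Y) ⊕ L) ⟨g, hgaff⟩))
  -- step 3
  set y := yEl O L E a with hy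
  have hyA : y ∈ A := mem_alternatingGroup.mpr (sign_yEl O a)
  have hyN : y ∈ Subgroup.normalizer (S' : Set (Perm ((ZMod p × ((ZMod p × Y) ⊕ L)) ⊕ E))) :=
    yEl_mem_normalizer O W (orbFin_invariant W y₀) a
  have hyaff : y ∈ affSub p E ((ZMod p × Y) ⊕ L) := yEl_mem_affSub O a
  have hyδ : deltaHom p E ((ZMod p × Y) ⊕ L) ⟨y, hyaff⟩ = a := by
    obtain ⟨j, hj⟩ := card_orbFin W hW y₀
    rw [deltaHom_yEl, hj, ← pow_succ']
    exact units_pow_p_pow a (j + 1)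
  -- step 4
  set g₁ : affSub p E ((ZMod p × Y) ⊕ L) := ⟨g, hgaff⟩ * (⟨y, hyaff⟩ : affSub p E _) ^ (-k)
    with hg₁
  have hg₁δ : deltaHom p E ((ZMod p × Y) ⊕ L) g₁ = 1 := by
    rw [hg₁, map_mul, map_zpow, hyδ, ← hk, ← zpow_add, add_neg_cancel, zpow_zero]
  have hg₁coe : (g₁ : Perm ((ZMod p × ((ZMod p × Y) ⊕ L)) ⊕ E)) = g * y ^ (-k) := by
    rw [hg₁]
    simp
  have hg₁A : (g₁ : Perm ((ZMod p × ((ZMod p × Y) ⊕ L)) ⊕ E)) ∈ A := by
    rw [hg₁coe]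
    exact A.mul_mem hgA (A.zpow_mem hyA _)
  have hg₁N : (g₁ : Perm ((ZMod p × ((ZMod p × Y) ⊕ L)) ⊕ E)) ∈
      Subgroup.normalizer (S' : Set (Perm ((ZMod p × ((ZMod p × Y) ⊕ L)) ⊕ E))) := by
    rw [hg₁coe]
    exact Subgroup.mul_mem _ hgN (Subgroup.zpow_mem _ hyN _)
  -- step 5
  have hg₁cl := mem_closure_pElB_of_delta hodd hcardZ g₁ hg₁A hg₁δ
  -- step 6
  have hg₁good : (g₁ : Perm ((ZMod p × ((ZMod p × Y) ⊕ L)) ⊕ E)) ∈ goodP p A S' := by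
    refine ⟨hg₁A, Or.inr ⟨hg₁N, wr p E ⊥, wr_mono bot_le, ?_, ?_⟩⟩
    · intro c hc0
      have hc : c ∈ Subgroup.centralizer
          ((wr p E (⊥ : Subgroup (Perm ((ZMod p × Y) ⊕ L))) :
            Subgroup (Perm ((ZMod p × ((ZMod p × Y) ⊕ L)) ⊕ E))) :
            Set (Perm ((ZMod p × ((ZMod p × Y) ⊕ L)) ⊕ E))) := (Subgroup.mem_inf.mp hc0).1
      apply mem_base_of_commute
      intro z
      rw [Subgroup.mem_centralizer_iff] at hc
      exact (hc _ (cEl_mem_wr ⊥ z)).symm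
    · refine Subgroup.closure_mono ?_ hg₁cl
      rintro w ⟨hwN, hwA, hwk⟩
      exact ⟨hwA, hwN, hwk⟩
  -- step 7
  have hygood : y ∈ goodP p A S' := by
    refine ⟨hyA, Or.inr ⟨hyN, RSub L E O, RSub_le_wr O W, ?_, ?_⟩⟩
    · exact inf_le_left.trans (centralizer_RSub_le O)
    · refine Subgroup.closure_mono ?_ (yEl_mem_closure_pElR O hodd a)
      rintro w ⟨hwN, hwA, hwk⟩
      exact ⟨hwA, hwN, hwk⟩
  -- step 8
  have hfin : g = (g₁ : Perm ((ZMod p × ((ZMod p × Y) ⊕ L)) ⊕ E)) * y ^ k := by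
    rw [hg₁coe, zpow_neg]; group
  rw [hfin]
  exact Subgroup.mul_mem _ (Subgroup.subset_closure hg₁good)
    (Subgroup.zpow_mem _ (Subgroup.subset_closure hygood) _)

end Cfsg.Agent.Helper25.AltFus
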