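import Mathlib
import Cfsg.Agent.Lib.Helper25.AltWr8

set_option autoImplicit false

/-! The case `p = 2`: transpositions normalizing the Sylow subgroup; the even base group. -/

namespace Cfsg.Agent.Helper25.AltFus

open Equiv Equiv.Perm

theorem zmod2_cases : ∀ u : ZMod 2, u = 0 ∨ u = 1 := by decide
theorem zmod2_one_add_one : (1 : ZMod 2) + 1 = 0 := by decide
theorem zmod2_zero_ne_one : (0 : ZMod 2) ≠ 1 := by decide
theorem zmod2_ne_add_one : ∀ v : ZMod 2, v ≠ v + 1 := by decide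
theorem zmod2_ne_cases : ∀ a b : ZMod 2, a ≠ b → (a = 0 ∧ b = 1) ∨ (a = 1 ∧ b = 0) := by decide
theorem zmod2_two_cases : ∀ a b u : ZMod 2, a ≠ b → u = a ∨ u = b := by decide
theorem zmod2_units : ∀ x : (ZMod 2)ˣ, x = 1 := by decide

variable [Fact (Nat.Prime 2)] {Z E : Type*} [Fintype Z] [DecidableEq Z] [Fintype E]
  [DecidableEq E]

theorem cEl_apply_of_not_mem {p : ℕ} [Fact p.Prime] (z : Z) (y : (ZMod p × Z) ⊕ E)
    (hy : ∀ u, y ≠ Sum.inl (u, z)) : cEl p E z y = y := by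
  rcases y with ⟨u, w⟩ | e
  · have hw : w ≠ z := by
      rintro rfl
      exact hy u rfl
    simp [cEl, Pi.single_eq_of_ne hw]
  · rfl

theorem cEl_two_eq_swap (z : Z) :
    cEl 2 E z = swap (Sum.inl ((0 : ZMod 2), z)) (Sum.inl ((1 : ZMod 2), z)) := by
  ext x : 1
  by_cases hx : ∀ u, x ≠ Sum.inl (u, z)
  · rw [cEl_apply_of_not_mem z x hx, swap_apply_of_ne_of_ne (hx 0) (hx 1)]
  · push_neg at hx
    obtain ⟨u, rfl⟩ := hx
    rw [cEl_apply_inl]
    rcases zmod2_cases u with rfl | rfl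
    · rw [swap_apply_left, zero_add]
    · rw [swap_apply_right]
      rw [zmod2_one_add_one]

theorem sign_cEl_two (z : Z) : sign (cEl 2 E z) = -1 := by
  rw [cEl_two_eq_swap]
  apply sign_swap
  intro h
  simp only [Sum.inl.injEq, Prod.mk.injEq, and_true] at h
  exact zmod2_zero_ne_one h

theorem cEl_pair_mem (K : Subgroup (Perm Z)) (z z' : Z) :
    cEl 2 E z * cEl 2 E z' ∈ wr 2 E K ⊓ alternatingGroup ((ZMod 2 × Z) ⊕ E) := by
  refine Subgroup.mem_inf.mpr ⟨Subgroup.mul_mem _ (cEl_mem_wr K z) (cEl_mem_wr K z'), ?_⟩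
  rw [mem_alternatingGroup, map_mul, sign_cEl_two, sign_cEl_two]
  rfl

theorem exists_third (h3 : 3 ≤ Fintype.card Z) (z z' : Z) : ∃ z'' : Z, z'' ≠ z ∧ z'' ≠ z' := by
  by_contra hcon
  push_neg at hcon
  have hsub : (Finset.univ : Finset Z) ⊆ {z, z'} := by
    intro w _
    by_cases hw : w = z
    · simp [hw]
    · simp [hcon w hw]
  have := Finset.card_le_card hsub
  have h2 : ({z, z'} : Finset Z).card ≤ 2 := Finset.card_le_two
  rw [Finset.card_univ] at this
  omega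

theorem no_cross_swap (K : Subgroup (Perm Z))
    (hS : IsPGroup 2 ↥(wr 2 E K ⊓ alternatingGroup ((ZMod 2 × Z) ⊕ E)))
    (h3 : 3 ≤ Fintype.card Z) (u : ZMod 2) (z : Z) (x' : (ZMod 2 × Z) ⊕ E)
    (hx' : ∀ u'', x' ≠ Sum.inl (u'', z)) :
    swap (Sum.inl (u, z)) x' ∉ Subgroup.normalizer
      ((wr 2 E K ⊓ alternatingGroup ((ZMod 2 × Z) ⊕ E) : Subgroup (Perm ((ZMod 2 × Z) ⊕ E))) :
        Set (Perm ((ZMod 2 × Z) ⊕ E))) := by
  intro ht
  obtain ⟨z'', hz'', hx''⟩ : ∃ z'' : Z, z'' ≠ z ∧ ∀ u'', x' ≠ Sum.inl (u'', z'') := by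
    rcases x' with ⟨u', z'⟩ | e
    · obtain ⟨z'', h1, h2⟩ := exists_third h3 z z'
      refine ⟨z'', h1, fun u'' h => ?_⟩
      simp only [Sum.inl.injEq, Prod.mk.injEq] at h
      exact h2 h.2.symm
    · obtain ⟨z'', h1, -⟩ := exists_third h3 z z
      exact ⟨z'', h1, fun u'' h => by simp at h⟩
  set x : (ZMod 2 × Z) ⊕ E := Sum.inl (u, z) with hx
  set xb : (ZMod 2 × Z) ⊕ E := Sum.inl (u + 1, z) with hxb
  set s := cEl 2 E z * cEl 2 E z'' with hs
  have hsS := cEl_pair_mem (E := E) K z z''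
  set t := swap x x' with htdef
  have h1 : t * s * t⁻¹ ∈ wr 2 E K ⊓ alternatingGroup ((ZMod 2 × Z) ⊕ E) :=
    (Subgroup.mem_normalizer_iff.mp ht s).mp hsS
  have h2 : t * s * t⁻¹ * s⁻¹ ∈ wr 2 E K ⊓ alternatingGroup ((ZMod 2 × Z) ⊕ E) :=
    Subgroup.mul_mem _ h1 (Subgroup.inv_mem _ hsS)
  have hsx : s x = xb := by
    rw [hs, Perm.mul_apply, cEl_apply_of_not_mem z'' x (by
      intro u'' h
      simp only [hx, Sum.inl.injEq, Prod.mk.injEq] at h
      exact hz'' h.2.symm), hx, cEl_apply_inl]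
  have hsx' : s x' = x' := by
    rw [hs, Perm.mul_apply, cEl_apply_of_not_mem z'' x' hx'', cEl_apply_of_not_mem z x' hx']
  have e2 : s * t * s⁻¹ = swap xb x' := by
    rw [htdef, mul_swap_eq_swap_mul, hsx, hsx']; group
  have e1 : t * s * t⁻¹ * s⁻¹ = swap x' x * swap x' xb := by
    have : t⁻¹ = t := swap_inv x x'
    rw [this]
    calc t * s * t * s⁻¹ = t * (s * t * s⁻¹) := by group
      _ = swap x' x * swap x' xb := by rw [e2, htdef, swap_comm x x', swap_comm xb x']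
  have hne1 : x' ≠ x := hx' u
  have hne2 : x' ≠ xb := hx' (u + 1)
  have hne3 : x ≠ xb := by
    intro h
    simp only [hx, hxb, Sum.inl.injEq, Prod.mk.injEq, and_true] at h
    exact zmod2_ne_add_one u h
  have h3c : (swap x' x * swap x' xb).IsThreeCycle :=
    isThreeCycle_swap_mul_swap_same hne1 hne2 hne3
  rw [e1] at h2
  obtain ⟨k, hk⟩ := hS ⟨_, h2⟩
  have hk' : (swap x' x * swap x' xb) ^ 2 ^ k = 1 := by
    have := congrArg Subtype.val hk
    simpa using this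
  have hdvd := orderOf_dvd_of_pow_eq_one hk'
  rw [h3c.orderOf] at hdvd
  have := Nat.Prime.dvd_of_dvd_pow Nat.prime_three hdvd
  omega

theorem swap_normalizer [Subsingleton E] (K : Subgroup (Perm Z))
    (hS : IsPGroup 2 ↥(wr 2 E K ⊓ alternatingGroup ((ZMod 2 × Z) ⊕ E)))
    (h3 : 3 ≤ Fintype.card Z) {t : Perm ((ZMod 2 × Z) ⊕ E)} (ht : t.IsSwap)
    (hN : t ∈ Subgroup.normalizer
      ((wr 2 E K ⊓ alternatingGroup ((ZMod 2 × Z) ⊕ E) : Subgroup (Perm ((ZMod 2 × Z) ⊕ E))) :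
        Set (Perm ((ZMod 2 × Z) ⊕ E)))) :
    ∃ z, t = cEl 2 E z := by
  obtain ⟨x, x', hne, rfl⟩ := ht
  rcases x with ⟨u, z⟩ | e
  · rcases x' with ⟨u', z'⟩ | e'
    · by_cases hz : z' = z
      · subst hz
        refine ⟨z', ?_⟩
        rw [cEl_two_eq_swap]
        have huu : u ≠ u' := by
          intro h
          apply hne
          rw [h]
        rcases zmod2_ne_cases u u' huu with ⟨rfl, rfl⟩ | ⟨rfl, rfl⟩
        · rfl
        · exact swap_comm _ _
      · exfalso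
        refine no_cross_swap K hS h3 u z (Sum.inl (u', z')) ?_ hN
        intro u'' h
        simp only [Sum.inl.injEq, Prod.mk.injEq] at h
        exact hz h.2
    · exfalso
      exact no_cross_swap K hS h3 u z (Sum.inr e') (fun u'' h => by simp at h) hN
  · rcases x' with ⟨u', z'⟩ | e'
    · exfalso
      rw [swap_comm] at hN
      exact no_cross_swap K hS h3 u' z' (Sum.inr e) (fun u'' h => by simp at h) hN
    · exfalso
      apply hne
      rw [Subsingleton.elim e e']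

end Cfsg.Agent.Helper25.AltFus
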