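import Mathlib
import Cfsg.Agent.Lib.Helper25.AltWr15
import Cfsg.Agent.Lib.Helper25.AltWr13

set_option autoImplicit false

/-! The case `p = 2`: the generation criterion. -/

namespace Cfsg.Agent.Helper25.AltFus

open Equiv Equiv.Perm

theorem zmod2_succ_of_ne : ∀ a b : ZMod 2, a ≠ b → b = a + 1 := by decide

section general

variable {G : Type*} [Group G]

theorem normalizer_le_normalizer_inf_normal (B A : Subgroup G) [A.Normal] :
    Subgroup.normalizer (B : Set G) ≤ Subgroup.normalizer ((B ⊓ A : Subgroup G) : Set G) := by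
  intro x hx
  rw [Subgroup.mem_normalizer_iff] at hx ⊢
  intro h
  rw [Subgroup.mem_inf, Subgroup.mem_inf, ← hx h]
  constructor
  · rintro ⟨h1, h2⟩
    exact ⟨h1, Subgroup.Normal.conj_mem inferInstance h h2 x⟩
  · rintro ⟨h1, h2⟩
    refine ⟨h1, ?_⟩
    have := Subgroup.Normal.conj_mem (inferInstance : A.Normal) _ h2 x⁻¹
    have e : x⁻¹ * (x * h * x⁻¹) * x⁻¹⁻¹ = h := by group
    rwa [e] at this

end general

variable [Fact (Nat.Prime 2)] {Z E : Type*} [Fintype Z] [DecidableEq Z] [Fintype E]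
  [DecidableEq E]

theorem mem_base_of_commute_pairs [Subsingleton E] (h3 : 3 ≤ Fintype.card Z)
    (c : Perm ((ZMod 2 × Z) ⊕ E))
    (hc : ∀ z z' : Z, z ≠ z' → c * (cEl 2 E z * cEl 2 E z') = (cEl 2 E z * cEl 2 E z') * c) :
    c ∈ wr 2 E (⊥ : Subgroup (Perm Z)) := by
  -- Step A
  have hA : ∀ z u, ∃ u', c (Sum.inl (u, z)) = Sum.inl (u', z) := by
    intro z u
    obtain ⟨z', hz', -⟩ := exists_third h3 z z
    obtain ⟨z'', hz''1, hz''2⟩ := exists_third h3 z z'
    have moved : ∀ w, w ≠ z → (cEl 2 E z * cEl 2 E w) (c (Sum.inl (u, z))) ≠ c (Sum.inl (u, z)) := by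
      intro w hw hfix
      have h1 := congrArg (fun σ : Perm ((ZMod 2 × Z) ⊕ E) => σ (Sum.inl (u, z))) (hc z w hw.symm)
      simp only [Perm.mul_apply] at h1 hfix
      rw [hfix, cEl_apply_of_not_mem w (Sum.inl (u, z)) (by
        intro u'' h
        simp only [Sum.inl.injEq, Prod.mk.injEq] at h
        exact hw h.2.symm), cEl_apply_inl] at h1
      have := c.injective h1
      simp only [Sum.inl.injEq, Prod.mk.injEq, and_true] at this
      exact zmod2_ne_add_one u this.symm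
    rcases hcx : c (Sum.inl (u, z)) with ⟨u', w⟩ | e
    · by_contra hcon
      have hw : w ≠ z := by
        intro h
        apply hcon
        exact ⟨u', by rw [h]⟩
      by_cases hw' : w = z'
      · apply moved z'' hz''1
        rw [hcx, Perm.mul_apply, cEl_apply_of_not_mem z'' _ (by
          intro u'' h
          simp only [Sum.inl.injEq, Prod.mk.injEq] at h
          exact hz''2 (h.2.symm.trans hw')), cEl_apply_of_not_mem z _ (by
          intro u'' h
          simp only [Sum.inl.injEq, Prod.mk.injEq] at h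
          exact hw h.2)]
      · apply moved z' hz'
        rw [hcx, Perm.mul_apply, cEl_apply_of_not_mem z' _ (by
          intro u'' h
          simp only [Sum.inl.injEq, Prod.mk.injEq] at h
          exact hw' h.2), cEl_apply_of_not_mem z _ (by
          intro u'' h
          simp only [Sum.inl.injEq, Prod.mk.injEq] at h
          exact hw h.2)]
    · exfalso
      apply moved z' hz'
      rw [hcx]
      rfl
  -- Step B
  apply mem_base_of_commute
  intro z
  obtain ⟨a, ha⟩ := hA z 0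
  obtain ⟨b, hb⟩ := hA z 1
  have hab : a ≠ b := by
    intro h
    rw [h, ← hb] at ha
    have := c.injective ha
    simp only [Sum.inl.injEq, Prod.mk.injEq, and_true] at this
    exact zmod2_zero_ne_one this
  ext y : 1
  rw [Perm.mul_apply, Perm.mul_apply]
  by_cases hy : ∀ u, y ≠ Sum.inl (u, z)
  · rw [cEl_apply_of_not_mem z y hy]
    symm
    apply cEl_apply_of_not_mem
    intro u' h
    rcases zmod2_two_cases a b u' hab with rfl | rfl
    · rw [← ha] at h
      exact hy 0 (c.injective h)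
    · rw [← hb] at h
      exact hy 1 (c.injective h)
  · push_neg at hy
    obtain ⟨u, rfl⟩ := hy
    rw [cEl_apply_inl]
    rcases zmod2_cases u with rfl | rfl
    · rw [zero_add, hb, ha, cEl_apply_inl, zmod2_succ_of_ne a b hab]
    · rw [zmod2_one_add_one, ha, hb, cEl_apply_inl, zmod2_succ_of_ne b a hab.symm]

theorem goodP_two [Subsingleton E] (h3 : 3 ≤ Fintype.card Z) (K : Subgroup (Perm Z))
    (hK : IsPGroup 2 K) :
    ∀ g ∈ alternatingGroup ((ZMod 2 × Z) ⊕ E),
      g ∈ Subgroup.normalizer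
        ((wr 2 E K ⊓ alternatingGroup ((ZMod 2 × Z) ⊕ E) :
          Subgroup (Perm ((ZMod 2 × Z) ⊕ E))) : Set (Perm ((ZMod 2 × Z) ⊕ E))) →
      g ∈ Subgroup.closure (goodP 2 (alternatingGroup ((ZMod 2 × Z) ⊕ E))
        (wr 2 E K ⊓ alternatingGroup ((ZMod 2 × Z) ⊕ E))) := by
  intro g hgA hgN
  set A := alternatingGroup ((ZMod 2 × Z) ⊕ E) with hAdef
  set S' : Subgroup (Perm ((ZMod 2 × Z) ⊕ E)) := wr 2 E K ⊓ A with hS'
  set B : Subgroup (Perm ((ZMod 2 × Z) ⊕ E)) := wr 2 E (⊥ : Subgroup (Perm Z)) with hB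
  set R' : Subgroup (Perm ((ZMod 2 × Z) ⊕ E)) := B ⊓ A with hR'
  have hwrP : IsPGroup 2 (wr 2 E K) := by
    obtain ⟨k, hk⟩ := IsPGroup.exists_card_eq hK
    apply IsPGroup.of_card (n := Fintype.card Z + k)
    rw [card_wr, hk, pow_add]
  have hS : IsPGroup 2 S' := hwrP.to_le inf_le_left
  -- (a)
  have hcN : ∀ z, cEl 2 E z ∈ Subgroup.normalizer (S' : Set (Perm ((ZMod 2 × Z) ⊕ E))) := by
    intro z
    apply Subgroup.mem_normalizer_fintype
    intro s hs
    have hs' : s ∈ S' := hs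
    rw [hS', Subgroup.mem_inf] at hs'
    show cEl 2 E z * s * (cEl 2 E z)⁻¹ ∈ S'
    rw [hS', Subgroup.mem_inf]
    exact ⟨Subgroup.mul_mem _ (Subgroup.mul_mem _ (cEl_mem_wr K z) hs'.1)
      (Subgroup.inv_mem _ (cEl_mem_wr K z)),
      Subgroup.Normal.conj_mem inferInstance s hs'.2 _⟩
  have hconj : ∀ z, ∃ z' : Z, ∃ k : ZMod 2, k ≠ 0 ∧
      g * cEl 2 E z * g⁻¹ = affEl (fun _ => 1) (Pi.single z' k) 1 := by
    intro z
    have htN : g * cEl 2 E z * g⁻¹ ∈
        Subgroup.normalizer (S' : Set (Perm ((ZMod 2 × Z) ⊕ E))) :=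
      Subgroup.mul_mem _ (Subgroup.mul_mem _ hgN (hcN z)) (Subgroup.inv_mem _ hgN)
    have htS : (g * cEl 2 E z * g⁻¹).IsSwap := by
      rw [cEl_two_eq_swap, mul_swap_eq_swap_mul, mul_assoc, mul_inv_cancel, mul_one]
      refine ⟨_, _, ?_, rfl⟩
      intro h
      have := g.injective h
      simp only [Sum.inl.injEq, Prod.mk.injEq, and_true] at this
      exact zmod2_zero_ne_one this
    obtain ⟨z', hz'⟩ := swap_normalizer K hS h3 htS htN
    exact ⟨z', 1, zmod2_zero_ne_one.symm, hz'⟩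
  -- (b)
  obtain ⟨d, f, π, rfl⟩ := mem_affSub_of_conj g hconj
  have hd : d = fun _ => 1 := funext fun z => zmod2_units (d z)
  subst hd
  -- (c)
  have hdec : (affEl (fun _ => 1) f π : Perm ((ZMod 2 × Z) ⊕ E)) =
      affEl (fun _ => 1) (fun z => f (π.symm z)) 1 * liftHom 2 E Z π := by
    rw [affEl_decomp, liftHom_apply]
    congr 1
    have : (affEl (fun z => (fun _ : Z => (1 : (ZMod 2)ˣ)) (π.symm z)) (fun _ => 0) 1 :
        Perm ((ZMod 2 × Z) ⊕ E)) = 1 := affEl_one
    rw [this, mul_one]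
  -- (d)
  have hBN : affSub 2 E Z ≤ Subgroup.normalizer (R' : Set (Perm ((ZMod 2 × Z) ⊕ E))) :=
    affSub_le_normalizer_base.trans (normalizer_le_normalizer_inf_normal B A)
  have hliftA : ∀ σ : Perm Z, liftHom 2 E Z σ ∈ A := by
    intro σ
    rw [hAdef, mem_alternatingGroup, liftHom_apply, sign_affEl_perm]
    rcases Int.units_eq_one_or (sign σ) with h | h <;> rw [h] <;> rfl
  have hliftsw : ∀ σ : Perm Z, σ.IsSwap → liftHom 2 E Z σ ∈ pElOf 2 A R' := by
    intro σ hσ
    refine ⟨hliftA σ, hBN (affEl_mem _ _ _), 1, ?_⟩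
    obtain ⟨x, y, _, rfl⟩ := hσ
    rw [pow_one, ← map_pow, sq, swap_mul_self, map_one]
  have hlift : liftHom 2 E Z π ∈ Subgroup.closure (pElOf 2 A R') := by
    have h1 : π ∈ Subgroup.closure {σ : Perm Z | σ.IsSwap} := by
      rw [closure_isSwap]; exact Subgroup.mem_top π
    have h2 : liftHom 2 E Z π ∈ (Subgroup.closure {σ : Perm Z | σ.IsSwap}).map (liftHom 2 E Z) :=
      Subgroup.mem_map_of_mem _ h1
    rw [MonoidHom.map_closure] at h2
    refine Subgroup.closure_mono ?_ h2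
    rintro _ ⟨σ, hσ, rfl⟩
    exact hliftsw σ hσ
  have hbA : (affEl (fun _ => 1) (fun z => f (π.symm z)) 1 : Perm ((ZMod 2 × Z) ⊕ E)) ∈ A := by
    have : (affEl (fun _ => 1) (fun z => f (π.symm z)) 1 : Perm ((ZMod 2 × Z) ⊕ E)) =
        affEl (fun _ => 1) f π * (liftHom 2 E Z π)⁻¹ := by
      rw [hdec]; group
    rw [this]
    exact A.mul_mem hgA (A.inv_mem (hliftA π))
  have hbR : (affEl (fun _ => 1) (fun z => f (π.symm z)) 1 : Perm ((ZMod 2 × Z) ⊕ E)) ∈ R' :=
    Subgroup.mem_inf.mpr ⟨⟨_, 1, Subgroup.mem_bot.mpr rfl, rfl⟩, hbA⟩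
  have hbp : (affEl (fun _ => 1) (fun z => f (π.symm z)) 1 : Perm ((ZMod 2 × Z) ⊕ E)) ∈
      pElOf 2 A R' :=
    ⟨hbA, Subgroup.le_normalizer hbR, 1, by rw [pow_one]; exact affEl_base_pow_p _⟩
  have hgcl : (affEl (fun _ => 1) f π : Perm ((ZMod 2 × Z) ⊕ E)) ∈
      Subgroup.closure (pElOf 2 A R') := by
    rw [hdec]
    exact Subgroup.mul_mem _ (Subgroup.subset_closure hbp) hlift
  -- (e)
  apply Subgroup.subset_closure
  refine ⟨hgA, Or.inr ⟨hgN, R', inf_le_inf_right A (wr_mono bot_le), ?_, hgcl⟩⟩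
  intro c hc0
  obtain ⟨hcc, hcA⟩ := Subgroup.mem_inf.mp hc0
  rw [Subgroup.mem_centralizer_iff] at hcc
  refine Subgroup.mem_inf.mpr ⟨?_, hcA⟩
  apply mem_base_of_commute_pairs h3
  intro z z' _
  exact (hcc _ (cEl_pair_mem ⊥ z z')).symm

end Cfsg.Agent.Helper25.AltFus
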