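import Mathlib
import Cfsg.Agent.Lib.Helper25.AltWr14
import Cfsg.Agent.Lib.Helper25.AltWr16
import Cfsg.Agent.Lib.Helper25.AltFus9

set_option autoImplicit false

/-! The fusion system of the alternating group is simple: final assembly. -/

namespace Cfsg.Agent.Helper25.AltFus

open Equiv Equiv.Perm Cfsg.Agent.Helper25.SimpCrit

/-- transport of alternating groups along an equivalence -/
def altCongr {α β : Type*} [Fintype α] [DecidableEq α] [Fintype β] [DecidableEq β] (e : α ≃ β) :
    alternatingGroup α ≃* alternatingGroup β where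
  toFun g := ⟨e.permCongr g.1, by
    rw [mem_alternatingGroup, sign_permCongr]; exact mem_alternatingGroup.mp g.2⟩
  invFun g := ⟨e.symm.permCongr g.1, by
    rw [mem_alternatingGroup, sign_permCongr]; exact mem_alternatingGroup.mp g.2⟩
  left_inv g := by
    apply Subtype.ext
    ext x
    simp [Equiv.permCongr_apply]
  right_inv g := by
    apply Subtype.ext
    ext x
    simp [Equiv.permCongr_apply]
  map_mul' g h := by
    apply Subtype.ext
    ext x
    simp [Equiv.permCongr_apply]

/-- a Sylow subgroup of the alternating group with the generation property, transported -/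
theorem exists_autGen_of_equiv {α β : Type*} [Fintype α] [DecidableEq α] [Fintype β]
    [DecidableEq β] (e : α ≃ β) {p : ℕ} [Fact p.Prime] (S₁ : Sylow p (alternatingGroup α))
    (h : AutGen p (S₁ : Subgroup (alternatingGroup α))) :
    ∃ S₀ : Sylow p (alternatingGroup β), AutGen p (S₀ : Subgroup (alternatingGroup β)) := by
  have hsurj : Function.Surjective (altCongr e).toMonoidHom := (altCongr e).surjective
  refine ⟨S₁.mapSurjective hsurj, ?_⟩
  rw [Sylow.coe_mapSurjective]
  exact h.map (altCongr e)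

theorem exists_autGen_odd {n p : ℕ} [Fact p.Prime] (hodd : Odd p) (hnp : p ^ 2 ≤ n)
    (hb : n % p ≤ 1) :
    ∃ S₀ : Sylow p (alternatingGroup (Fin n)),
      AutGen p (S₀ : Subgroup (alternatingGroup (Fin n))) := by
  have hpp := (Fact.out : p.Prime)
  have hp2 := hpp.two_le
  set m := n / p with hm
  set q := m / p with hq
  have hq1 : 1 ≤ q := by
    rw [hq, hm, Nat.div_div_eq_div_mul, Nat.le_div_iff_mul_le (by positivity)]
    rw [sq] at hnp
    simpa using hnp
  haveI : Subsingleton (Fin (n % p)) := Fin.subsingleton_iff_le_one.mpr hb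
  have hE : Fintype.card (Fin (n % p)) < p := by
    rw [Fintype.card_fin]; omega
  have hL : Fintype.card (Fin (m % p)) < p := by
    rw [Fintype.card_fin]; exact Nat.mod_lt _ hpp.pos
  let W : Sylow p (Perm (Fin q)) := Classical.arbitrary _
  let K : Sylow p (Perm ((ZMod p × Fin q) ⊕ Fin (m % p))) := wrSylow hL W
  let P : Sylow p (Perm ((ZMod p × ((ZMod p × Fin q) ⊕ Fin (m % p))) ⊕ Fin (n % p))) :=
    wrSylow hE K
  have hPcoe : (P : Subgroup (Perm ((ZMod p × ((ZMod p × Fin q) ⊕ Fin (m % p))) ⊕ Fin (n % p)))) =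
      wr p (Fin (n % p)) (wr p (Fin (m % p)) (W : Subgroup (Perm (Fin q)))) := by
    rw [coe_wrSylow, coe_wrSylow]
  let S₁ := sylowInfNormal P
    (alternatingGroup ((ZMod p × ((ZMod p × Fin q) ⊕ Fin (m % p))) ⊕ Fin (n % p)))
  have hcard : Fintype.card ((ZMod p × ((ZMod p × Fin q) ⊕ Fin (m % p))) ⊕ Fin (n % p)) =
      Fintype.card (Fin n) := by
    simp only [Fintype.card_sum, Fintype.card_prod, ZMod.card, Fintype.card_fin]
    rw [hq, Nat.div_add_mod m p, hm, Nat.div_add_mod n p]
  refine exists_autGen_of_equiv (Fintype.equivOfCardEq hcard) S₁ ?_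
  rw [coe_sylowInfNormal, hPcoe]
  apply autGen_of_perm
  · intro g hg
    obtain ⟨k, hk⟩ := P.2 ⟨g, by rw [hPcoe]; exact hg⟩
    rw [mem_alternatingGroup]
    apply sign_eq_one_of_pow hodd (k := k)
    have := congrArg Subtype.val hk
    simpa using this
  · exact goodP_odd hodd (W : Subgroup (Perm (Fin q))) W.2 ⟨0, hq1⟩

theorem exists_autGen_two [Fact (Nat.Prime 2)] {n : ℕ} (hn : 6 ≤ n) :
    ∃ S₀ : Sylow 2 (alternatingGroup (Fin n)),
      AutGen 2 (S₀ : Subgroup (alternatingGroup (Fin n))) := by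
  haveI : Subsingleton (Fin (n % 2)) := Fin.subsingleton_iff_le_one.mpr (by omega)
  have hE : Fintype.card (Fin (n % 2)) < 2 := by
    rw [Fintype.card_fin]; omega
  let K : Sylow 2 (Perm (Fin (n / 2))) := Classical.arbitrary _
  let P : Sylow 2 (Perm ((ZMod 2 × Fin (n / 2)) ⊕ Fin (n % 2))) := wrSylow hE K
  have hPcoe : (P : Subgroup (Perm ((ZMod 2 × Fin (n / 2)) ⊕ Fin (n % 2)))) =
      wr 2 (Fin (n % 2)) (K : Subgroup (Perm (Fin (n / 2)))) := coe_wrSylow hE K
  let S₁ := sylowInfNormal P (alternatingGroup ((ZMod 2 × Fin (n / 2)) ⊕ Fin (n % 2)))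
  have hcard : Fintype.card ((ZMod 2 × Fin (n / 2)) ⊕ Fin (n % 2)) = Fintype.card (Fin n) := by
    simp only [Fintype.card_sum, Fintype.card_prod, ZMod.card, Fintype.card_fin]
    exact Nat.div_add_mod n 2
  refine exists_autGen_of_equiv (Fintype.equivOfCardEq hcard) S₁ ?_
  rw [coe_sylowInfNormal, hPcoe, ← Subgroup.inf_subgroupOf_right]
  apply autGen_of_perm
  · exact inf_le_right
  · apply goodP_two _ (K : Subgroup (Perm (Fin (n / 2)))) K.2
    rw [Fintype.card_fin]; omega

theorem alt_fusion_isSimple (n p : ℕ) (hn : 6 ≤ n) [Fact p.Prime] (hnp : p ^ 2 ≤ n)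
    (hb : n % p ≤ 1) (S : Sylow p (alternatingGroup (Fin n))) :
    (Cfsg.groupFusionSystem (S : Subgroup (alternatingGroup (Fin n)))).IsSimple p := by
  have hpp := (Fact.out : p.Prime)
  obtain ⟨S₀, h2⟩ : ∃ S₀ : Sylow p (alternatingGroup (Fin n)),
      AutGen p (S₀ : Subgroup (alternatingGroup (Fin n))) := by
    rcases hpp.eq_two_or_odd' with h | hodd
    · subst h
      exact exists_autGen_two hn
    · exact exists_autGen_odd hodd hnp hb
  have h1 : NoClosed (S₀ : Subgroup (alternatingGroup (Fin n))) :=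
    noClosed_alt (by rw [Fintype.card_fin]; exact hnp) S₀
  have hS1 : (S₀ : Subgroup (alternatingGroup (Fin n))) ≠ ⊥ := by
    apply Sylow.ne_bot_of_dvd_card
    haveI : Nontrivial (Fin n) := Fin.nontrivial_iff_two_le.mpr (by omega)
    have h2c := two_mul_card_alternatingGroup (α := Fin n)
    rw [Fintype.card_perm, Fintype.card_fin] at h2c
    rw [Nat.card_eq_fintype_card]
    have h2p : 2 * p ∣ n.factorial := by
      have h2le := hpp.two_le
      apply Nat.dvd_factorial (by omega)
      nlinarith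
    rw [← h2c] at h2p
    exact Nat.dvd_of_mul_dvd_mul_left (by norm_num) h2p
  exact isSimple_of_data p S₀ hS1 h1 h2 S

end Cfsg.Agent.Helper25.AltFus
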