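import Mathlib
import Cfsg.Agent.Lib.Helper25.AppC3

/-!
# BG Appendix C: the normaliser of `K` in `P` is the prime field (helper25)

* `R`: the `U`-conjugates of the `K`-relations;
* `nrm_left`, `nrm_right`: if `x a * t^i * x b ∈ K` (`p ∤ i`) then `x a`, `x b` normalise `K`;
* `rat_of_nrm`: `x c` normalises `K` only for `c` in the prime field;
* `rat_of_mem_K`: the combination.
-/

set_option autoImplicit false
set_option linter.unusedVariables false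
set_option linter.unusedSectionVars false

namespace Cfsg.Agent.Helper25.AppC

universe u v

namespace Setup

variable {G : Type u} [Group G] {F : Type v} [Field F] {p : ℕ} (S : Setup G F p)

/-- conjugation by `t ^ j` on `U` -/
def tw (j : ℤ) (u : G) : G := S.t ^ j * u * (S.t ^ j)⁻¹

theorem tw_mem (j : ℤ) {u : G} (hu : u ∈ S.U) : S.tw j u ∈ S.U := S.t_zpow_norm j hu

theorem tw_zero (u : G) : S.tw 0 u = u := by simp [tw]

theorem tw_add (i j : ℤ) (u : G) : S.tw (i + j) u = S.tw i (S.tw j u) := by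
  unfold tw; rw [zpow_add]; group

theorem tw_of_dvd {j : ℤ} (hj : (p : ℤ) ∣ j) (u : G) : S.tw j u = u := by
  obtain ⟨m, rfl⟩ := hj
  unfold tw
  rw [zpow_mul, S.t_zpow_p, one_zpow]; simp

theorem tw_one (u : G) : S.tw 1 u = S.t * u * S.t⁻¹ := by simp [tw]

theorem conj_zpow_s {u : G} (hu : u ∈ S.U) (n : ℤ) :
    u * S.s ^ n * u⁻¹ = S.x ((n : F) * S.ψ u) := by
  rw [← S.x_intCast, S.conj u hu, mul_comm]

include S in
theorem p_not_dvd_one : ¬ (p : ℤ) ∣ 1 := by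
  intro h
  have := Int.natCast_dvd_natCast.mp (by simpa using h : ((p : ℕ) : ℤ) ∣ ((1 : ℕ) : ℤ))
  exact S.hp.one_lt.ne' (Nat.dvd_one.mp this)

include S in
theorem p_not_dvd_neg_one : ¬ (p : ℤ) ∣ -1 := by
  rw [dvd_neg]; exact S.p_not_dvd_one

/-- the `U`-conjugates of the `K`-relations -/
theorem R [Finite G] {a b c : ℤ} (habc : a + b + c = 0) {u : G} (hu : u ∈ S.U) :
    S.t ^ a * S.x ((b : F) * S.ψ u) * S.t ^ c
      = S.x (((-c : ℤ) : F) * S.ψ (S.tw a u)) * S.t ^ (-b)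
        * S.x (((-a : ℤ) : F) * S.ψ (S.tw (-c) u)) := by
  rw [← S.conj_zpow_s hu, ← S.conj_zpow_s (S.tw_mem a hu), ← S.conj_zpow_s (S.tw_mem (-c) hu)]
  have key := S.KR habc
  have hc : c = -a - b := by linarith
  subst hc
  have e1 : S.t ^ a * (u * S.s ^ b * u⁻¹) * S.t ^ (-a - b)
      = (S.t ^ a * u * (S.t ^ a)⁻¹) * (S.t ^ a * S.s ^ b * S.t ^ (-a - b))
        * ((S.t ^ (-a - b))⁻¹ * u⁻¹ * S.t ^ (-a - b)) := by group
  rw [e1, key]
  unfold tw
  group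

/-- the normaliser of `K` -/
def NK : Subgroup G := Subgroup.normalizer (S.K : Set G)

theorem mem_NK_iff {g : G} : g ∈ S.NK ↔ ∀ k, k ∈ S.K ↔ g * k * g⁻¹ ∈ S.K :=
  Subgroup.mem_normalizer_iff

theorem conj_mem_of_NK {g : G} (hg : g ∈ S.NK) {k : G} (hk : k ∈ S.K) : g * k * g⁻¹ ∈ S.K :=
  (S.mem_NK_iff.mp hg k).mp hk

theorem K_le_NK : S.K ≤ S.NK := Subgroup.le_normalizer

theorem mem_NK_of_forall [Finite G] {g : G} (h : ∀ k ∈ S.K, g * k * g⁻¹ ∈ S.K) : g ∈ S.NK :=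
  Subgroup.mem_normalizer_fintype h

/-- `K` is generated by `s` and `t^j s t^{-j}` -/
theorem K_le_closure [Finite G] {j : ℤ} (hj : ¬ (p : ℤ) ∣ j) :
    S.K ≤ Subgroup.closure ({S.s, S.t ^ j * S.s * (S.t ^ j)⁻¹} : Set G) := by
  obtain ⟨w, hw, ht⟩ := S.exists_w
  have h1 := S.frob.gen hw hj
  rw [← ht] at h1
  unfold K
  rw [Subgroup.closure_le]
  intro g hg
  rcases hg with hg | hg
  · rw [hg]; exact Subgroup.subset_closure (by simp)
  · rw [Set.mem_singleton_iff.mp hg]; exact h1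

/-- `K` is generated by `t` and `s t s⁻¹` -/
theorem K_le_closure' [Finite G] :
    S.K ≤ Subgroup.closure ({S.t, S.s * S.t * S.s⁻¹} : Set G) := by
  obtain ⟨w, hw, ht⟩ := S.exists_w
  have hf := S.frob.conj_frob hw
  have h1 := hf.gen (S.Y.inv_mem hw) S.p_not_dvd_one
  rw [← ht] at h1
  have hs : (w⁻¹)⁻¹ * S.t * w⁻¹ = S.s := by rw [ht]; group
  rw [hs, zpow_one] at h1
  unfold K
  rw [Subgroup.closure_le]
  intro g hg
  rcases hg with hg | hg
  · rw [hg]; exact h1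
  · rw [Set.mem_singleton_iff.mp hg]; exact Subgroup.subset_closure (by simp)

theorem mem_NK_of_gen [Finite G] {g : G} {j : ℤ} (hj : ¬ (p : ℤ) ∣ j)
    (h1 : g * S.s * g⁻¹ ∈ S.K) (h2 : g * (S.t ^ j * S.s * (S.t ^ j)⁻¹) * g⁻¹ ∈ S.K) :
    g ∈ S.NK := by
  apply S.mem_NK_of_forall
  intro k hk
  have hk' := S.K_le_closure hj hk
  clear hk
  induction hk' using Subgroup.closure_induction with
  | mem y hy =>
    rcases hy with hy | hy
    · rw [hy]; exact h1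
    · rw [Set.mem_singleton_iff.mp hy]; exact h2
  | one => simpa using S.K.one_mem
  | mul y z _ _ hy hz =>
    have : g * (y * z) * g⁻¹ = (g * y * g⁻¹) * (g * z * g⁻¹) := by group
    rw [this]; exact S.K.mul_mem hy hz
  | inv y _ hy =>
    have : g * y⁻¹ * g⁻¹ = (g * y * g⁻¹)⁻¹ := by group
    rw [this]; exact S.K.inv_mem hy

theorem x_conj_s (c : F) : S.x c * S.s * (S.x c)⁻¹ = S.s := by
  unfold s
  rw [S.x_comm, mul_inv_cancel_right]

theorem x_conj_s_zpow (c : F) (n : ℤ) : S.x c * S.s ^ n * (S.x c)⁻¹ = S.s ^ n := by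
  rw [← S.x_intCast, S.x_comm, mul_inv_cancel_right]

/-- (T5), left factor -/
theorem nrm_left [Finite G] {a b : F} {i : ℤ} (hi : ¬ (p : ℤ) ∣ i)
    (h : S.x a * S.t ^ i * S.x b ∈ S.K) : S.x a ∈ S.NK := by
  apply S.mem_NK_of_gen hi
  · rw [S.x_conj_s]; exact S.s_mem_K
  · have h1 := S.K.mul_mem (S.K.mul_mem h S.s_mem_K) (S.K.inv_mem h)
    have e : S.x a * S.t ^ i * S.x b * S.s * (S.x a * S.t ^ i * S.x b)⁻¹
        = S.x a * (S.t ^ i * (S.x b * S.s * (S.x b)⁻¹) * (S.t ^ i)⁻¹) * (S.x a)⁻¹ := by group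
    rw [e, S.x_conj_s] at h1
    exact h1

/-- (T5), right factor -/
theorem nrm_right [Finite G] {a b : F} {i : ℤ} (hi : ¬ (p : ℤ) ∣ i)
    (h : S.x a * S.t ^ i * S.x b ∈ S.K) : S.x b ∈ S.NK := by
  have hi' : ¬ (p : ℤ) ∣ -i := by rwa [dvd_neg]
  have h0 : (S.x b)⁻¹ ∈ S.NK := by
    apply S.mem_NK_of_gen hi'
    · rw [← S.x_neg, S.x_conj_s]; exact S.s_mem_K
    · have h1 := S.K.mul_mem (S.K.mul_mem (S.K.inv_mem h) S.s_mem_K) h
      have e : (S.x a * S.t ^ i * S.x b)⁻¹ * S.s * (S.x a * S.t ^ i * S.x b)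
          = (S.x b)⁻¹ * (S.t ^ (-i) * ((S.x (-a)) * S.s * (S.x (-a))⁻¹) * (S.t ^ (-i))⁻¹)
            * ((S.x b)⁻¹)⁻¹ := by
        rw [S.x_neg, zpow_neg]; group
      rw [e, S.x_conj_s] at h1
      exact h1
  have := S.NK.inv_mem h0
  rwa [inv_inv] at this

theorem x_mem_Y {a : F} (h : S.x a ∈ S.Y) : a = 0 := by
  have h2 : S.x a ^ p = 1 := S.x_pow_p a
  have h3 : S.x a ^ Nat.card S.Y = 1 := by
    have := pow_card_eq_one' (G := S.Y) (x := ⟨S.x a, h⟩)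
    exact congrArg Subtype.val this
  have h4 : orderOf (S.x a) ∣ Nat.gcd (Nat.card S.Y) p :=
    Nat.dvd_gcd (orderOf_dvd_of_pow_eq_one h3) (orderOf_dvd_of_pow_eq_one h2)
  rw [S.Y_cop] at h4
  have h5 : S.x a = 1 := orderOf_eq_one_iff.mp (Nat.dvd_one.mp h4)
  exact S.x_eq_one_iff.mp h5

/-- conjugation by `x c ∈ N(K)` preserves the degree on `K` -/
theorem deg_conj_of_nrm [Finite G] {c : F} (hc : S.x c ∈ S.NK) {g : G} (hg : g ∈ S.K) {n : ℤ}
    (hd : Frob.Deg S.Y S.s g n) : Frob.Deg S.Y S.s (S.x c * g * (S.x c)⁻¹) n := by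
  obtain ⟨v, hv, rfl⟩ := hd
  have hvK : v ∈ S.K := by
    have := S.K.mul_mem hg (S.K.inv_mem (S.K.zpow_mem S.s_mem_K n))
    rwa [mul_inv_cancel_right] at this
  have hv'K := S.conj_mem_of_NK hc hvK
  obtain ⟨m, hm⟩ := S.deg_of_mem_K hv'K
  have hpow : (S.x c * v * (S.x c)⁻¹) ^ Nat.card S.Y = 1 := by
    rw [conj_pow]
    have := pow_card_eq_one' (G := S.Y) (x := ⟨v, hv⟩)
    have h3 : v ^ Nat.card S.Y = 1 := congrArg Subtype.val this
    rw [h3]; group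
  have hpm := S.frob.dvd_of_deg_of_pow_eq_one S.s_ne_one hm S.Y_cop hpow
  have hvY := S.frob.mem_of_deg hm hpm
  refine ⟨_, hvY, ?_⟩
  have : S.x c * (v * S.s ^ n) * (S.x c)⁻¹
      = (S.x c * v * (S.x c)⁻¹) * (S.x c * S.s ^ n * (S.x c)⁻¹) := by group
  rw [this, S.x_conj_s_zpow]

/-- the basic identity for the twisted values `ψ (t^j u t^{-j})` -/
theorem beta_identity [Finite G] {u : G} (hu : u ∈ S.U) (hβ : S.x (S.ψ u) ∈ S.NK) (a : ℤ) :
    ((a : F) + 1) * S.ψ (S.tw a u) - (a : F) * S.ψ (S.tw (a + 1) u) - S.ψ u = 0 := by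
  have hR := S.R (a := a) (b := 1) (c := -a - 1) (by ring) hu
  rw [Int.cast_one, one_mul, neg_sub, sub_neg_eq_add] at hR
  -- `k' := x β t^(-a-1) (x β)⁻¹ ∈ K`
  have hk' : S.x (S.ψ u) * S.t ^ (-a - 1) * (S.x (S.ψ u))⁻¹ ∈ S.K :=
    S.conj_mem_of_NK hβ (S.K.zpow_mem S.t_mem_K _)
  have hdk' := S.deg_conj_of_nrm hβ (S.K.zpow_mem S.t_mem_K (-a - 1)) (S.deg_t_zpow (-a - 1))
  have hprod : S.t ^ a * (S.x (S.ψ u) * S.t ^ (-a - 1) * (S.x (S.ψ u))⁻¹)
      = S.x ((((1 : ℤ) + a : ℤ) : F) * S.ψ (S.tw a u)) * S.t ^ (-1 : ℤ)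
        * S.x (((-a : ℤ) : F) * S.ψ (S.tw (1 + a) u) - S.ψ u) := by
    rw [S.x_sub, ← mul_assoc (S.x _ * S.t ^ (-1 : ℤ)), ← hR]; group
  have hmem : S.t ^ a * (S.x (S.ψ u) * S.t ^ (-a - 1) * (S.x (S.ψ u))⁻¹) ∈ S.K :=
    S.K.mul_mem (S.K.zpow_mem S.t_mem_K _) hk'
  have hdeg := S.frob.deg_mul (S.deg_t_zpow a) hdk'
  rw [hprod] at hmem hdeg
  have hA := S.nrm_left S.p_not_dvd_neg_one hmem
  have hdA := S.deg_conj_of_nrm hA (S.K.zpow_mem S.t_mem_K (-1)) (S.deg_t_zpow (-1))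
  have hd0 := S.frob.deg_mul (S.frob.deg_inv hdA) hdeg
  have e : (S.x ((((1 : ℤ) + a : ℤ) : F) * S.ψ (S.tw a u)) * S.t ^ (-1 : ℤ)
        * (S.x ((((1 : ℤ) + a : ℤ) : F) * S.ψ (S.tw a u)))⁻¹)⁻¹
      * (S.x ((((1 : ℤ) + a : ℤ) : F) * S.ψ (S.tw a u)) * S.t ^ (-1 : ℤ)
        * S.x (((-a : ℤ) : F) * S.ψ (S.tw (1 + a) u) - S.ψ u))
      = S.x ((((1 : ℤ) + a : ℤ) : F) * S.ψ (S.tw a u)
        + (((-a : ℤ) : F) * S.ψ (S.tw (1 + a) u) - S.ψ u)) := by
    rw [S.x_add]; group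
  rw [e] at hd0
  have hY := S.frob.mem_of_deg hd0 (by ring_nf; exact dvd_zero _)
  have h0 := S.x_mem_Y hY
  rw [add_comm a 1]
  push_cast at h0
  linear_combination h0

/-- the twisted values form an arithmetic progression -/
theorem beta_ap [Finite G] {u : G} (hu : u ∈ S.U) (hβ : S.x (S.ψ u) ∈ S.NK) (j : ℕ)
    (hj : j ≤ p) :
    S.ψ (S.tw (j : ℤ) u) = S.ψ u + (j : F) * (S.ψ (S.tw 1 u) - S.ψ u) := by
  induction j with
  | zero => simp [S.tw_zero]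
  | succ k ih =>
    rcases Nat.eq_zero_or_pos k with hk | hk
    · subst hk; simp
    · have ih' := ih (Nat.le_of_succ_le hj)
      have hid := S.beta_identity hu hβ (k : ℤ)
      have hk0 : (k : F) ≠ 0 := by
        intro h0
        have := S.natCast_eq_zero_iff.mp h0
        exact absurd (Nat.le_of_dvd hk this) (by omega)
      rw [ih'] at hid
      push_cast at hid ⊢
      apply mul_left_cancel₀ hk0
      linear_combination -hid

include S in
theorem exists_nat_of_int (n : ℤ) : ∃ m : ℕ, (n : F) = (m : F) := by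
  haveI := S.charP
  have hp0 : (p : ℤ) ≠ 0 := by exact_mod_cast S.hp.ne_zero
  refine ⟨(n % p).toNat, ?_⟩
  have h1 : ((n % p).toNat : ℤ) = n % p := Int.toNat_of_nonneg (Int.emod_nonneg n hp0)
  have h2 : (((n % p).toNat : ℤ) : F) = ((n % p : ℤ) : F) := by rw [h1]
  rw [Int.cast_natCast] at h2
  rw [h2]
  have h3 : n = p * (n / p) + n % p := (Int.mul_ediv_add_emod n p).symm
  conv_lhs => rw [h3]
  push_cast
  rw [CharP.cast_eq_zero, zero_mul, zero_add]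

/-- (T6) -/
theorem eq_one_of_nrm [Finite G] {u : G} (hu : u ∈ S.U) (hβ : S.x (S.ψ u) ∈ S.NK) : u = 1 := by
  haveI := S.charP
  -- no arithmetic progression
  have hδ : S.ψ (S.tw 1 u) - S.ψ u = 0 := by
    apply S.noAP (S.ψ u)
    intro j
    refine ⟨S.tw ((j % p : ℕ) : ℤ) u, S.tw_mem _ hu, ?_⟩
    rw [S.beta_ap hu hβ (j % p) (Nat.mod_lt j S.hp.pos).le, ← CharP.cast_eq_mod]
  have htu : S.tw 1 u = u := S.ψ_inj _ (S.tw_mem 1 hu) _ hu (sub_eq_zero.mp hδ)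
  rw [S.tw_one] at htu
  have hut : u * S.t * u⁻¹ = S.t := by
    have : u * S.t = S.t * u := by
      have := congrArg (fun g => g * S.t) htu
      simpa using this.symm
    rw [this, mul_inv_cancel_right]
  have hus : u * S.s * u⁻¹ = S.x (S.ψ u) := by
    have := S.conj u hu 1
    rwa [mul_one] at this
  -- `u` maps `K` into `K`
  have hK : ∀ k ∈ S.K, u * k * u⁻¹ ∈ S.K := by
    intro k hk
    have hk' := S.K_le_closure' hk
    clear hk
    induction hk' using Subgroup.closure_induction with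
    | mem y hy =>
      rcases hy with hy | hy
      · rw [hy, hut]; exact S.t_mem_K
      · rw [Set.mem_singleton_iff.mp hy]
        have e : u * (S.s * S.t * S.s⁻¹) * u⁻¹
            = (u * S.s * u⁻¹) * (u * S.t * u⁻¹) * (u * S.s * u⁻¹)⁻¹ := by group
        rw [e, hut, hus]
        exact S.conj_mem_of_NK hβ S.t_mem_K
    | one => simp [S.K.one_mem]
    | mul y z _ _ hy hz =>
      have : u * (y * z) * u⁻¹ = (u * y * u⁻¹) * (u * z * u⁻¹) := by group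
      rw [this]; exact S.K.mul_mem hy hz
    | inv y _ hy =>
      have : u * y⁻¹ * u⁻¹ = (u * y * u⁻¹)⁻¹ := by group
      rw [this]; exact S.K.inv_mem hy
  have hxK : S.x (S.ψ u) ∈ S.K := by rw [← hus]; exact hK _ S.s_mem_K
  obtain ⟨n, hn⟩ := S.x_mem_K hxK
  obtain ⟨m, hm⟩ := S.exists_nat_of_int n
  exact S.rat u hu m (hn.trans hm)

/-- `N_P(K) = P₀` -/
theorem rat_of_nrm [Finite G] {c : F} (hc : S.x c ∈ S.NK) : ∃ n : ℤ, c = (n : F) := by
  haveI := S.charP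
  by_cases hc0 : c = 0
  · exact ⟨0, by simp [hc0]⟩
  obtain ⟨n, hn, u, hu, hcu⟩ := S.polar c hc0
  have hcop : IsCoprime (n : ℤ) (p : ℤ) := by
    have hpp : Prime (p : ℤ) := Nat.prime_iff_prime_int.mp S.hp
    have : ¬ (p : ℤ) ∣ (n : ℤ) := by
      intro h; exact hn (Int.natCast_dvd_natCast.mp h)
    exact (hpp.coprime_iff_not_dvd.mpr this).symm
  obtain ⟨a, b, hab⟩ := hcop
  have habF : (a : F) * (n : F) = 1 := by
    have := congrArg (fun z : ℤ => (z : F)) hab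
    simp only [Int.cast_add, Int.cast_mul, Int.cast_natCast, Int.cast_one] at this
    rw [CharP.cast_eq_zero F p, mul_zero, add_zero] at this
    exact this
  have hβ : S.x (S.ψ u) ∈ S.NK := by
    have e : S.ψ u = (a : F) * c := by
      rw [hcu, ← mul_assoc, habF, one_mul]
    rw [e, S.x_zsmul]
    exact S.NK.zpow_mem hc a
  have hu1 := S.eq_one_of_nrm hu hβ
  rw [hu1, S.ψ_one, mul_one] at hcu
  exact ⟨(n : ℤ), by rw [hcu]; simp⟩

/-- (T5) + (T6) -/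
theorem rat_of_mem_K [Finite G] {a b : F} {i : ℤ} (hi : ¬ (p : ℤ) ∣ i)
    (h : S.x a * S.t ^ i * S.x b ∈ S.K) : (∃ n : ℤ, a = (n : F)) ∧ ∃ n : ℤ, b = (n : F) :=
  ⟨S.rat_of_nrm (S.nrm_left hi h), S.rat_of_nrm (S.nrm_right hi h)⟩

end Setup

end Cfsg.Agent.Helper25.AppC
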