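import Mathlib
import Cfsg.Agent.Lib.Helper25.BG14K
import Cfsg.Agent.Lib.Helper14.BG14W1b

/-!
# The `κ`-glue of BG 14.2 in helper14's shapes (helper25)

* `kappaSub : Helper14.BG14.KappaSub M`;
* `kappaIff hG : Helper14.BG14.KappaIff M E` (for any subgroup `E ≤ M`).
-/

set_option autoImplicit false
set_option linter.unusedVariables false

namespace Cfsg.Agent.Helper25.BG14K

open Cfsg Subgroup

universe u

variable {G : Type u} [Group G] [Finite G]

/-- `κ(M) ⊆ τ₁(M) ∪ τ₃(M)`, in helper14's shape -/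
theorem kappaSub (M : Subgroup G) : Cfsg.Agent.Helper14.BG14.KappaSub M :=
  fun _ hp => mem_tau13_of_mem_kappa hp

/-- for `p ∈ τ₁(M) ∪ τ₃(M)` and `X ≤ E ≤ M` of order `p`: `p ∈ κ(M)` iff `C_{M_σ}(X) ≠ 1`,
in helper14's shape -/
theorem kappaIff (hG : IsMinSimpleOddOrder G) {M E : Subgroup G} (hEM : E ≤ M) :
    Cfsg.Agent.Helper14.BG14.KappaIff M E := by
  intro p hp X hXE hXc
  constructor
  · intro hκ
    exact centralizer_ne_bot_of_mem_kappa hκ (hXE.trans hEM) hXc
  · intro hY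
    rcases hp with h | h
    · exact mem_kappa_of_centralizer_ne_bot hG h.1 h.2.1 h.2.2.2.2 (hXE.trans hEM) hXc hY
    · exact mem_kappa_of_centralizer_ne_bot hG h.1 h.2.1 h.2.2.2 (hXE.trans hEM) hXc hY

/-- the same for a complement `E` of `M_σ` in `M` -/
theorem kappaIff_of_isComplIn (hG : IsMinSimpleOddOrder G) {M : Subgroup G} :
    ∀ E : Subgroup G, IsComplIn E (sigmaCore M) M → Cfsg.Agent.Helper14.BG14.KappaIff M E :=
  fun _ hE => kappaIff hG hE.1

end Cfsg.Agent.Helper25.BG14K
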