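import Mathlib
import Cfsg.Agent.Lib.Helper14.BG1369D

/-!
Towards S1366 (BG Theorem 14.7 (a)): the "polygon count".  Part A: counting lemmas for finite families
of pairwise disjoint sets, and facts on a "half context" (a maximal subgroup `H` with a nontrivial Hall
`κ(H)`-subgroup `K`), proved from the frozen statements S1430, S1431 only.
-/

set_option autoImplicit false

namespace Cfsg.Agent.Helper25.BGPoly

open Cfsg Subgroup
open Cfsg.Agent.Helper10 (IsPiNum)
open Cfsg.Agent.Helper16.BG147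
open Cfsg.Agent.Helper14.BG1369

section counting

variable {ι α : Type*}

/-- cardinality of a finite union of pairwise disjoint sets -/
theorem ncard_biUnion_finset [Finite α] [DecidableEq ι] (S : Finset ι) (T : ι → Set α)
    (h : ∀ i ∈ S, ∀ j ∈ S, i ≠ j → Disjoint (T i) (T j)) :
    Set.ncard (⋃ i ∈ S, T i) = ∑ i ∈ S, Set.ncard (T i) := by
  induction S using Finset.induction_on with
  | empty => simp
  | insert a s ha ih =>
    rw [Finset.set_biUnion_insert, Finset.sum_insert ha]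
    have hd : Disjoint (T a) (⋃ i ∈ s, T i) := by
      rw [Set.disjoint_iUnion₂_right]
      intro i hi
      apply h a (Finset.mem_insert_self a s) i (Finset.mem_insert_of_mem hi)
      rintro rfl
      exact ha hi
    rw [Set.ncard_union_eq hd (Set.toFinite _) (Set.toFinite _), ih]
    intro i hi j hj hij
    exact h i (Finset.mem_insert_of_mem hi) j (Finset.mem_insert_of_mem hj) hij

/-- pairwise disjoint sets `T i` (`i ∈ S`) and one more set `C` disjoint from all of them -/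
theorem sum_ncard_add_le [Finite α] [DecidableEq ι] (S : Finset ι) (T : ι → Set α) (C : Set α)
    (h : ∀ i ∈ S, ∀ j ∈ S, i ≠ j → Disjoint (T i) (T j))
    (hC : ∀ i ∈ S, Disjoint C (T i)) :
    ∑ i ∈ S, Set.ncard (T i) + Set.ncard C ≤ Nat.card α := by
  rw [← ncard_biUnion_finset S T h]
  have hd : Disjoint (⋃ i ∈ S, T i) C := by
    rw [Set.disjoint_iUnion₂_left]
    intro i hi
    exact (hC i hi).symm
  rw [← Set.ncard_union_eq hd (Set.toFinite _) (Set.toFinite _)]
  have := Set.ncard_le_card ((⋃ i ∈ S, T i) ∪ C)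
  simpa using this

end counting

variable {G : Type*} [Group G] [Finite G]

section half

variable {H K : Subgroup G} (c : Half H K)
include c

/-- `C_G(y) ≤ H` for `y ∈ K*#` (from S1431 (1)) -/
theorem centralizer_Kst_le {y : G} (hy : y ∈ Kst H K) (hy1 : y ≠ 1) :
    centralizer ({y} : Set G) ≤ H := by
  intro g hg
  by_contra hgH
  have h4 := (c.h31 H c.hH K c.hall c.hK1).1 g hgH
  have hmem : y ∈ Kst H K ⊓ H.map (MulAut.conj g).toMonoidHom := by
    refine Subgroup.mem_inf.mpr ⟨hy, y, c.Kst_le hy, ?_⟩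
    show g * y * g⁻¹ = y
    rw [mem_centralizer_singleton] at hg
    rw [← hg]; group
  rw [h4, mem_bot] at hmem
  exact hy1 hmem

/-- `C_H(x) ≤ K K*` for `x ∈ K#` (from S1430 (3)) -/
theorem inf_centralizer_K_le {x : G} (hx : x ∈ K) (hx1 : x ≠ 1) :
    H ⊓ centralizer ({x} : Set G) ≤ K ⊔ Kst H K := by
  have hne : orderOf x ≠ 1 := by
    rw [Ne, orderOf_eq_one_iff]; exact hx1
  obtain ⟨p, hp, hpd⟩ := Nat.exists_prime_and_dvd hne
  haveI := Fact.mk hp
  have hord : orderOf (x ^ (orderOf x / p)) = p :=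
    orderOf_pow_orderOf_div (orderOf_pos x).ne' hpd
  set X : Subgroup G := zpowers (x ^ (orderOf x / p)) with hX
  have hXK : X ≤ K := by rw [hX, zpowers_le]; exact pow_mem hx _
  have hXcard : (Nat.card X).Prime := by rw [hX, Nat.card_zpowers, hord]; exact hp
  rw [← ((c.h30 H c.hH K c.hall c.hK1).2.2 X hXK hXcard).1]
  refine inf_le_inf_left H ?_
  intro g hg
  rw [mem_centralizer_singleton] at hg
  apply mem_normalizer_fintype
  intro t ht
  have ht' : t ∈ X := ht
  rw [hX, mem_zpowers_iff] at ht'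
  obtain ⟨j, rfl⟩ := ht'
  have hc : Commute g x := hg.symm
  have hc2 : Commute g ((x ^ (orderOf x / p)) ^ j) := (hc.pow_right _).zpow_right _
  have : g * (x ^ (orderOf x / p)) ^ j * g⁻¹ = (x ^ (orderOf x / p)) ^ j := by
    rw [hc2.eq]; group
  rw [this]
  exact ht

/-- `C_G(x y) ≤ K K*` for `x ∈ K#`, `y ∈ K*#` -/
theorem centralizer_mul_le {x y : G} (hx : x ∈ K) (hx1 : x ≠ 1) (hy : y ∈ Kst H K) (hy1 : y ≠ 1) :
    centralizer ({x * y} : Set G) ≤ K ⊔ Kst H K := by
  intro g hg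
  rw [mem_centralizer_singleton] at hg
  obtain ⟨m, n, hmn⟩ := c.exists_proj
  obtain ⟨hm, hn⟩ := hmn x hx y hy
  have hc : Commute g (x * y) := hg.symm
  have hgx : g ∈ centralizer ({x} : Set G) := by
    rw [mem_centralizer_singleton, ← hm]
    exact (hc.pow_right m).eq.symm
  have hgy : g ∈ centralizer ({y} : Set G) := by
    rw [mem_centralizer_singleton, ← hn]
    exact (hc.pow_right n).eq.symm
  exact inf_centralizer_K_le c hx hx1 (Subgroup.mem_inf.mpr ⟨centralizer_Kst_le c hy hy1 hgy, hgx⟩)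

/-- an element of `K K*` of order prime to `|K|` lies in `K*` -/
theorem mem_Kst_of_mem_Z {w : G} (hw : w ∈ K ⊔ Kst H K)
    (hord : (orderOf w).Coprime (Nat.card K)) : w ∈ Kst H K := by
  rw [mem_sup_iff_of_commute K (Kst H K) Half.comm_K_Kst] at hw
  obtain ⟨a, ha, b, hb, rfl⟩ := hw
  obtain ⟨m, n, hmn⟩ := c.exists_proj
  have h1 := (hmn a ha b hb).1
  have hoa : orderOf a ∣ Nat.card K := by
    have := orderOf_dvd_natCard (⟨a, ha⟩ : K)
    rwa [Subgroup.orderOf_mk] at this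
  have hoa2 : orderOf a ∣ orderOf (a * b) := by
    have := orderOf_pow_dvd (x := a * b) m
    rwa [h1] at this
  have h2 : orderOf a = 1 := (Nat.Coprime.coprime_dvd_left hoa2 hord).eq_one_of_dvd hoa
  rw [orderOf_eq_one_iff] at h2
  rw [h2, one_mul]; exact hb

/-- an element of `K K*` of order prime to `|K*|` lies in `K` -/
theorem mem_K_of_mem_Z {w : G} (hw : w ∈ K ⊔ Kst H K)
    (hord : (orderOf w).Coprime (Nat.card ↥(Kst H K))) : w ∈ K := by
  rw [mem_sup_iff_of_commute K (Kst H K) Half.comm_K_Kst] at hw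
  obtain ⟨a, ha, b, hb, rfl⟩ := hw
  obtain ⟨m, n, hmn⟩ := c.exists_proj
  have h1 := (hmn a ha b hb).2
  have hob : orderOf b ∣ Nat.card ↥(Kst H K) := by
    have := orderOf_dvd_natCard (⟨b, hb⟩ : ↥(Kst H K))
    rwa [Subgroup.orderOf_mk] at this
  have hob2 : orderOf b ∣ orderOf (a * b) := by
    have := orderOf_pow_dvd (x := a * b) n
    rwa [h1] at this
  have h2 : orderOf b = 1 := (Nat.Coprime.coprime_dvd_left hob2 hord).eq_one_of_dvd hob
  rw [orderOf_eq_one_iff] at h2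
  rw [h2, mul_one]; exact ha

/-- strong TI property: `g z g⁻¹ ∈ Ẑ` for some `z ∈ K K*` forces `g ∈ K K*` -/
theorem TI_gen (g : G) (z : G) (hz : z ∈ K ⊔ Kst H K) (hz' : g * z * g⁻¹ ∈ Zh H K) :
    g ∈ K ⊔ Kst H K := by
  rw [mem_sup_iff_of_commute K (Kst H K) Half.comm_K_Kst] at hz
  obtain ⟨a, ha, b, hb, rfl⟩ := hz
  obtain ⟨a', ha', ha'1, b', hb', hb'1, hab⟩ := c.mem_Zh_iff.mp hz'
  obtain ⟨m, n, hmn⟩ := c.exists_proj
  have h1 := hmn a ha b hb
  have h2 := hmn a' ha' b' hb'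
  have h3 : a' = g * a * g⁻¹ := by
    rw [← h2.1, ← hab, conj_pow, h1.1]
  have h3' : b' = g * b * g⁻¹ := by
    rw [← h2.2, ← hab, conj_pow, h1.2]
  have hgH : g ∈ H := by
    by_contra hg
    have h4 := (c.h31 H c.hH K c.hall c.hK1).1 g hg
    have h5 : b' ∈ Kst H K ⊓ H.map (MulAut.conj g).toMonoidHom :=
      Subgroup.mem_inf.mpr ⟨hb', ⟨b, c.Kst_le hb, h3'.symm⟩⟩
    rw [h4, mem_bot] at h5
    exact hb'1 h5
  by_contra hgZ
  have h4 := (c.h31 H c.hH K c.hall c.hK1).2.1 g hgH hgZ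
  have h5 : a' ∈ K ⊓ K.map (MulAut.conj g).toMonoidHom :=
    Subgroup.mem_inf.mpr ⟨ha', ⟨a, ha, h3.symm⟩⟩
  rw [h4, mem_bot] at h5
  exact ha'1 h5

/-- `K* < H_σ`, so `|H_σ| ≥ 3 |K*|` -/
theorem three_mul_card_Kst_le : 3 * Nat.card ↥(Kst H K) ≤ Nat.card ↥(sigmaCore H) := by
  have hle : Kst H K ≤ sigmaCore H := inf_le_left
  have hne : Kst H K ≠ sigmaCore H := by
    intro heq
    obtain ⟨p, hp, hpd⟩ := Nat.exists_prime_and_dvd (n := Nat.card ↥(Kst H K))
      (fun h => c.Kst_ne_bot (Subgroup.card_eq_one.mp h))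
    haveI := Fact.mk hp
    have S : Sylow p ↥(sigmaCore H) := default
    have := ((c.h31 H c.hH K c.hall c.hK1).2.2.1 p hp hpd S).2.2
    apply this
    exact (Subgroup.map_subtype_le _).trans heq.ge
  obtain ⟨q, hq⟩ := Subgroup.card_dvd_of_le hle
  have hpos : 0 < Nat.card ↥(sigmaCore H) := Nat.card_pos
  have hq1 : q ≠ 1 := by
    intro h
    rw [h, mul_one] at hq
    exact hne (Subgroup.eq_of_le_of_card_ge hle hq.le)
  have hq0 : q ≠ 0 := by
    intro h
    rw [h, mul_zero] at hq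
    omega
  have hodd : Odd q := by
    have h1 : Odd (Nat.card G) := c.hG.1
    have h2 : Odd (Nat.card ↥(sigmaCore H)) :=
      Odd.of_dvd_nat h1 (Subgroup.card_subgroup_dvd_card _)
    exact Odd.of_dvd_nat h2 (Dvd.intro_left _ hq.symm)
  obtain ⟨t, ht⟩ := hodd
  have hq3 : 3 ≤ q := by omega
  rw [hq]
  nlinarith

/-- `|K*|` is a `σ(H)`-number -/
theorem isPiNum_card_Kst : IsPiNum (sigma H) (Nat.card ↥(Kst H K)) := by
  intro p hp hpd
  exact card_sigmaCore H p hp (hpd.trans (Subgroup.card_dvd_of_le inf_le_left))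

/-- `|K|` is a `κ(H)`-number, in particular a `σ(H)'`-number -/
theorem not_sigma_of_dvd_card_K {p : ℕ} (hp : p.Prime) (hpd : p ∣ Nat.card K) : p ∉ sigma H :=
  kappa_not_sigma H p (c.hall.2.1 p hp hpd)

end half

end Cfsg.Agent.Helper25.BGPoly
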