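import Mathlib
import Cfsg.Agent.Lib.Helper25.BGPolyA

/-!
Towards S1366 (BG Theorem 14.7 (a)): the "polygon count".  Part B: a finite family `S` of maximal
subgroups `H`, each with a nontrivial Hall `κ(H)`-subgroup `B H`, all with the same abelian
`Z = B H × C_{H_σ}(B H)`, with pairwise disjoint `σ(H)` covering the primes of `Z`, and with `U_H = 1`,
has at most one member.
-/

set_option autoImplicit false

namespace Cfsg.Agent.Helper25.BGPoly

open Cfsg Subgroup
open Cfsg.Agent.Helper10 (IsPiNum)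
open Cfsg.Agent.Helper16.BG147
open Cfsg.Agent.Helper16.BG145 (prime_mem_sigma_of_mem_sigmaCore supportR_mem sigma_map_conj)
open Cfsg.Agent.Helper14.BG1369

/-- the arithmetic of the polygon count -/
theorem arith_poly {ι : Type*} (S : Finset ι) (a b m i t : ι → ℕ) (z g zc cn : ℕ)
    (hz : ∀ H ∈ S, b H * a H = z) (hg : ∀ H ∈ S, i H * (b H * m H) = g)
    (h3 : ∀ H ∈ S, 3 * a H ≤ m H) (ht : ∀ H ∈ S, t H = (m H - 1) * i H)
    (hcount : zc + ∑ H ∈ S, a H + 1 = z + S.card)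
    (hconj : z * cn = g * zc)
    (hsum : ∑ H ∈ S, t H + cn ≤ g) (hgpos : 0 < g) : S.card ≤ 1 := by
  have hper : ∀ H ∈ S, 3 * g * a H ≤ 3 * z * t H + g := by
    intro H hH
    have hm : 0 < m H := by
      rcases Nat.eq_zero_or_pos (m H) with h | h
      · have := hg H hH
        rw [h, mul_zero, mul_zero] at this
        omega
      · exact h
    obtain ⟨m', hm'⟩ : ∃ m', m H = m' + 1 := ⟨m H - 1, by omega⟩
    have e1 := hz H hH
    have e2 := hg H hH
    have e3 := h3 H hH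
    have e4 := ht H hH
    rw [hm'] at e2 e3 e4
    simp only [Nat.add_sub_cancel] at e4
    rw [e4, ← e1, ← e2]
    have e5 : i H * b H * (3 * a H) ≤ i H * b H * (m' + 1) := Nat.mul_le_mul_left _ e3
    nlinarith [e5]
  have hsumper : 3 * g * ∑ H ∈ S, a H ≤ 3 * z * ∑ H ∈ S, t H + S.card * g := by
    have := Finset.sum_le_sum hper
    rw [← Finset.mul_sum, Finset.sum_add_distrib, ← Finset.mul_sum, Finset.sum_const,
      smul_eq_mul] at this
    exact this
  set A := ∑ H ∈ S, a H with hA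
  set T := ∑ H ∈ S, t H with hT
  set n := S.card with hn
  by_contra hcon
  push_neg at hcon
  have f1 : z * T + z * cn ≤ z * g := by
    rw [← mul_add]; exact Nat.mul_le_mul_left _ hsum
  have f2 : g * zc + g * A + g = g * z + g * n := by
    have := congrArg (fun x => g * x) hcount
    simp only [mul_add, mul_one] at this
    exact this
  have f3 : 2 * g ≤ n * g := Nat.mul_le_mul_right _ hcon
  nlinarith [f1, f2, f3, hsumper, hconj]

variable {G : Type*} [Group G] [Finite G]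

/-- the set `Ž`: the union of the sets `Ẑ_H`, `H ∈ S` -/
def Zc (S : Finset (Subgroup G)) (B : Subgroup G → Subgroup G) : Set G :=
  {w | ∃ H ∈ S, w ∈ Zh H (B H)}

section poly

variable {S : Finset (Subgroup G)} {B : Subgroup G → Subgroup G} {Z : Subgroup G}
  (hhalf : ∀ H ∈ S, Half H (B H))
  (hZ : ∀ H ∈ S, B H ⊔ Kst H (B H) = Z)
  (hZab : ∀ a ∈ Z, ∀ b ∈ Z, a * b = b * a)
  (hdisj : ∀ H ∈ S, ∀ H' ∈ S, H ≠ H' → ∀ p, p ∈ sigma H → p ∉ sigma H')
  (hcover : ∀ p : ℕ, p.Prime → p ∣ Nat.card Z → ∃ H ∈ S, p ∈ sigma H)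

include hZ in
omit [Finite G] in
theorem A_le_Z {H : Subgroup G} (hH : H ∈ S) : Kst H (B H) ≤ Z := by
  rw [← hZ H hH]; exact le_sup_right

include hZ in
omit [Finite G] in
theorem B_le_Z {H : Subgroup G} (hH : H ∈ S) : B H ≤ Z := by
  rw [← hZ H hH]; exact le_sup_left

include hhalf hdisj in
theorem coprime_A_A {H H' : Subgroup G} (hH : H ∈ S) (hH' : H' ∈ S) (hne : H ≠ H') :
    (Nat.card ↥(Kst H (B H))).Coprime (Nat.card ↥(Kst H' (B H'))) :=
  coprime_of_isPiNum (hdisj H hH H' hH' hne) (isPiNum_card_Kst (hhalf H hH))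
    (isPiNum_card_Kst (hhalf H' hH'))

include hhalf hZ hdisj in
theorem A_le_B {H H' : Subgroup G} (hH : H ∈ S) (hH' : H' ∈ S) (hne : H ≠ H') :
    Kst H (B H) ≤ B H' := by
  intro w hw
  have hwZ : w ∈ B H' ⊔ Kst H' (B H') := by
    rw [hZ H' hH']; exact A_le_Z hZ hH hw
  apply mem_K_of_mem_Z (hhalf H' hH') hwZ
  have hord : orderOf w ∣ Nat.card ↥(Kst H (B H)) := by
    have := orderOf_dvd_natCard (⟨w, hw⟩ : ↥(Kst H (B H)))
    rwa [Subgroup.orderOf_mk] at this
  exact (coprime_A_A hhalf hdisj hH hH' hne).coprime_dvd_left hord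

include hhalf hdisj in
theorem A_inf_A {H H' : Subgroup G} (hH : H ∈ S) (hH' : H' ∈ S) (hne : H ≠ H') :
    Kst H (B H) ⊓ Kst H' (B H') = ⊥ :=
  Subgroup.inf_eq_bot_of_coprime (coprime_A_A hhalf hdisj hH hH' hne)

include hhalf hZ hdisj in
theorem not_mem_Zh_of_mem_A {H H' : Subgroup G} (hH : H ∈ S) (hH' : H' ∈ S) {w : G}
    (hw : w ∈ Kst H (B H)) : w ∉ Zh H' (B H') := by
  intro hz
  by_cases hne : H = H'
  · subst hne
    exact hz.2 (Or.inr hw)
  · exact hz.2 (Or.inl (A_le_B hhalf hZ hdisj hH hH' hne hw))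

include hhalf hZ hcover in
theorem cover {w : G} (hw : w ∈ Z) (hw1 : w ≠ 1) :
    w ∈ Zc S B ∨ ∃ H ∈ S, w ∈ Kst H (B H) := by
  have hne : orderOf w ≠ 1 := by rw [Ne, orderOf_eq_one_iff]; exact hw1
  obtain ⟨p, hp, hpd⟩ := Nat.exists_prime_and_dvd hne
  have hordZ : orderOf w ∣ Nat.card Z := by
    have := orderOf_dvd_natCard (⟨w, hw⟩ : Z)
    rwa [Subgroup.orderOf_mk] at this
  obtain ⟨H, hH, hpH⟩ := hcover p hp (hpd.trans hordZ)
  by_cases hzh : w ∈ Zh H (B H)
  · exact Or.inl ⟨H, hH, hzh⟩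
  · right
    refine ⟨H, hH, ?_⟩
    have hwZ : w ∈ ((B H ⊔ Kst H (B H) : Subgroup G) : Set G) := by
      rw [hZ H hH]; exact hw
    have hmem : w ∈ ((B H : Subgroup G) : Set G) ∪ ((Kst H (B H) : Subgroup G) : Set G) := by
      by_contra hcon
      exact hzh ⟨hwZ, hcon⟩
    rcases hmem with h | h
    · exfalso
      have hordB : orderOf w ∣ Nat.card (B H) := by
        have := orderOf_dvd_natCard (⟨w, h⟩ : B H)
        rwa [Subgroup.orderOf_mk] at this
      exact not_sigma_of_dvd_card_K (hhalf H hH) hp (hpd.trans hordB) hpH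
    · exact h

include hZ in
omit [Finite G] in
theorem Zc_sub : Zc S B ⊆ (Z : Set G) := by
  rintro w ⟨H, hH, hw⟩
  have := hw.1
  rw [hZ H hH] at this
  exact this

omit [Finite G] in
theorem one_not_mem_Zc : (1 : G) ∉ Zc S B := by
  rintro ⟨H, hH, hw⟩
  exact hw.2 (Or.inl (one_mem _))

include hhalf hZ hdisj hcover in
/-- the size of `Ž` -/
theorem count_Z : Set.ncard (Zc S B) + ∑ H ∈ S, Nat.card ↥(Kst H (B H)) + 1 =
    Nat.card Z + S.card := by
  classical
  set T : Subgroup G → Set G := fun H => ((Kst H (B H) : Subgroup G) : Set G) \ {1} with hT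
  have hunion : (Z : Set G) = ({1} ∪ Zc S B) ∪ ⋃ H ∈ S, T H := by
    ext w
    constructor
    · intro hw
      by_cases hw1 : w = 1
      · left; left; exact hw1
      · rcases cover hhalf hZ hcover hw hw1 with h | ⟨H, hH, hwA⟩
        · left; right; exact h
        · right
          exact Set.mem_biUnion hH ⟨hwA, hw1⟩
    · rintro ((h | h) | h)
      · rw [Set.mem_singleton_iff] at h
        rw [h]; exact Z.one_mem
      · exact Zc_sub hZ h
      · obtain ⟨H, hH, hw⟩ := Set.mem_iUnion₂.mp h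
        exact A_le_Z hZ hH hw.1
  have hd1 : Disjoint ({1} : Set G) (Zc S B) := Set.disjoint_singleton_left.mpr one_not_mem_Zc
  have hd2 : Disjoint ({1} ∪ Zc S B) (⋃ H ∈ S, T H) := by
    rw [Set.disjoint_iUnion₂_right]
    intro H hH
    rw [Set.disjoint_union_left]
    constructor
    · rw [Set.disjoint_singleton_left]
      exact fun h => h.2 rfl
    · rw [Set.disjoint_left]
      rintro w ⟨H', hH', hw⟩ ⟨hwA, -⟩
      exact not_mem_Zh_of_mem_A hhalf hZ hdisj hH hH' hwA hw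
  have hpd : ∀ H ∈ S, ∀ H' ∈ S, H ≠ H' → Disjoint (T H) (T H') := by
    intro H hH H' hH' hne
    rw [Set.disjoint_left]
    rintro w ⟨hw, hw1⟩ ⟨hw', -⟩
    have hmem : w ∈ Kst H (B H) ⊓ Kst H' (B H') := Subgroup.mem_inf.mpr ⟨hw, hw'⟩
    rw [A_inf_A hhalf hdisj hH hH' hne, mem_bot] at hmem
    exact hw1 hmem
  have hcardT : ∀ H ∈ S, Set.ncard (T H) + 1 = Nat.card ↥(Kst H (B H)) := by
    intro H _
    have h1 : (1 : G) ∈ ((Kst H (B H) : Subgroup G) : Set G) := one_mem _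
    have h2 := Set.ncard_diff_singleton_add_one h1 (Set.toFinite _)
    rw [hT]
    simp only
    rw [h2]
    exact Nat.card_coe_set_eq _
  have e1 : Nat.card Z = Set.ncard (Z : Set G) := (Nat.card_coe_set_eq _).symm
  have e2 : Set.ncard (Z : Set G) =
      Set.ncard ({1} ∪ Zc S B) + Set.ncard (⋃ H ∈ S, T H) := by
    rw [hunion]
    exact Set.ncard_union_eq hd2 (Set.toFinite _) (Set.toFinite _)
  have e3 : Set.ncard ({1} ∪ Zc S B) = 1 + Set.ncard (Zc S B) := by
    rw [Set.ncard_union_eq hd1 (Set.toFinite _) (Set.toFinite _), Set.ncard_singleton]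
  have e4 : Set.ncard (⋃ H ∈ S, T H) = ∑ H ∈ S, Set.ncard (T H) :=
    ncard_biUnion_finset S T hpd
  have e5 : ∑ H ∈ S, Set.ncard (T H) + S.card = ∑ H ∈ S, Nat.card ↥(Kst H (B H)) := by
    rw [← Finset.sum_congr rfl hcardT, Finset.sum_add_distrib, Finset.sum_const, smul_eq_mul,
      mul_one]
  rw [e1, e2, e3, e4, ← e5]
  ring

include hhalf hZ in
/-- `Ž` is a TI-subset with normaliser `Z` -/
theorem Zc_TI (g : G) (t : G) (ht : t ∈ Zc S B) (ht' : g * t * g⁻¹ ∈ Zc S B) : g ∈ Z := by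
  obtain ⟨H', hH', hz'⟩ := ht'
  have htZ : t ∈ B H' ⊔ Kst H' (B H') := by
    rw [hZ H' hH']; exact Zc_sub hZ ht
  have := TI_gen (hhalf H' hH') g t htZ hz'
  rwa [hZ H' hH'] at this

include hZ hZab in
omit [Finite G] in
theorem Zc_inv (z : G) (hz : z ∈ Z) (t : G) (ht : t ∈ Zc S B) : z * t * z⁻¹ ∈ Zc S B := by
  have : z * t * z⁻¹ = t := by
    rw [hZab z hz t (Zc_sub hZ ht)]; group
  rw [this]; exact ht

include hhalf hZ hZab in
theorem card_conj_Zc :
    Nat.card Z * Set.ncard (conjUnion (Zc S B)) = Nat.card G * Set.ncard (Zc S B) :=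
  card_conjUnion_of_inv Z (Zc S B) (Zc_inv hZ hZab) (Zc_TI hhalf hZ)

include hhalf hZ hdisj in
/-- the conjugates of `Ž` miss `\tilde H_σ` -/
theorem disj1 {H : Subgroup G} (hH : H ∈ S) :
    ∀ a ∈ conjUnion (Zc S B), a ∉ tildeOf H ((sigmaCore H : Set G) \ {1}) := by
  rintro a ⟨g, z, ⟨H', hH', hz⟩, hagz⟩ ⟨a0, ⟨ha0, ha01⟩, r, hr, y, hay⟩
  have c := hhalf H hH
  have c' := hhalf H' hH'
  have ha0' : a0 ∈ sigmaCore H := ha0
  have ha0ne : a0 ≠ 1 := fun h => ha01 (by rw [h]; rfl)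
  have hz0 := hz
  obtain ⟨x, hx, hx1, yy, hyy, hyy1, rfl⟩ := c'.mem_Zh_iff.mp hz
  set c1 : G := y⁻¹ * g with hc1
  have h1 : a0 * r = c1 * (x * yy) * c1⁻¹ := by
    have : y * (a0 * r) * y⁻¹ = g * (x * yy) * g⁻¹ := hay.symm.trans hagz
    calc a0 * r = y⁻¹ * (y * (a0 * r) * y⁻¹) * y := by group
      _ = y⁻¹ * (g * (x * yy) * g⁻¹) * y := by rw [this]
      _ = c1 * (x * yy) * c1⁻¹ := by rw [hc1]; group
  have hcomm : a0 * r = r * a0 := by
    rcases supportR_mem hr with h | ⟨-, L, -, -, -, -, hrC⟩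
    · rw [h, mul_one, one_mul]
    · exact mem_centralizer_singleton.mp hrC
  set w : G := c1⁻¹ * a0 * c1 with hw
  have h2 : x * yy = c1⁻¹ * (a0 * r) * c1 := by rw [h1]; group
  have hwz : w ∈ centralizer ({x * yy} : Set G) := by
    rw [mem_centralizer_singleton, h2, hw]
    have h3 : a0 * r * a0 = a0 * (a0 * r) := by rw [mul_assoc, ← hcomm]
    calc c1⁻¹ * (a0 * r) * c1 * (c1⁻¹ * a0 * c1) = c1⁻¹ * (a0 * r * a0) * c1 := by group
      _ = c1⁻¹ * (a0 * (a0 * r)) * c1 := by rw [h3]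
      _ = c1⁻¹ * a0 * c1 * (c1⁻¹ * (a0 * r) * c1) := by group
  have hwZ : w ∈ Z := by
    have := centralizer_mul_le c' hx hx1 hyy hyy1 hwz
    rwa [hZ H' hH'] at this
  have hwZ' : w ∈ B H ⊔ Kst H (B H) := by rw [hZ H hH]; exact hwZ
  have hordw : orderOf w = orderOf a0 := by
    have := MulEquiv.orderOf_eq (MulAut.conj c1⁻¹) a0
    rw [MulAut.conj_apply, inv_inv] at this
    exact this
  have hcop : (orderOf w).Coprime (Nat.card (B H)) := by
    rw [hordw]
    have hd : orderOf a0 ∣ Nat.card ↥(sigmaCore H) := by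
      have := orderOf_dvd_natCard (⟨a0, ha0'⟩ : ↥(sigmaCore H))
      rwa [Subgroup.orderOf_mk] at this
    exact (c.coprime_K_sigmaCore.symm).coprime_dvd_left hd
  have hwK : w ∈ Kst H (B H) := mem_Kst_of_mem_Z c hwZ' hcop
  have hw1 : w ≠ 1 := by
    intro h
    apply ha0ne
    have : a0 = c1 * w * c1⁻¹ := by rw [hw]; group
    rw [this, h]; group
  have ha0M : a0 ∈ H := sigmaCore_le H ha0'
  have hc1M : c1⁻¹ ∈ H := by
    by_contra hnot
    have h4 := (c.h31 H c.hH (B H) c.hall c.hK1).1 c1⁻¹ hnot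
    have h5 : w ∈ Kst H (B H) ⊓ H.map (MulAut.conj c1⁻¹).toMonoidHom := by
      refine Subgroup.mem_inf.mpr ⟨hwK, a0, ha0M, ?_⟩
      show c1⁻¹ * a0 * c1⁻¹⁻¹ = w
      rw [hw, inv_inv]
    rw [h4, mem_bot] at h5
    exact hw1 h5
  have hCw := centralizer_Kst_le c hwK hw1
  have hCa0 : centralizer ({a0} : Set G) ≤ H := by
    intro h hh
    have h6 : c1⁻¹ * h * c1 ∈ centralizer ({w} : Set G) := by
      have := conj_mem_centralizer_singleton hh c1⁻¹
      rw [inv_inv] at this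
      exact this
    have h7 := hCw h6
    have h8 : h = c1⁻¹⁻¹ * (c1⁻¹ * h * c1) * c1⁻¹ := by group
    rw [h8]
    exact H.mul_mem (H.mul_mem (H.inv_mem hc1M) h7) hc1M
  have hr1 : r = 1 := by
    rcases supportR_mem hr with h | ⟨hxM, -⟩
    · exact h
    · exact absurd hCa0 hxM
  have h9 : x * yy = w := by
    rw [h2, hr1, mul_one]
  rw [h9] at hz0
  exact not_mem_Zh_of_mem_A hhalf hZ hdisj hH hH' hwK hz0

include hhalf hdisj in
/-- `\tilde H_σ` and `\tilde H'_σ` are disjoint for distinct members of `S` -/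
theorem disj3 (h33 : St1433 G) {H H' : Subgroup G} (hH : H ∈ S) (hH' : H' ∈ S) (hne : H ≠ H') :
    ∀ a ∈ tildeOf H ((sigmaCore H : Set G) \ {1}),
      a ∉ tildeOf H' ((sigmaCore H' : Set G) \ {1}) := by
  rintro a ⟨a0, ⟨ha0, ha01⟩, r, hr, y, hay⟩ ⟨b0, ⟨hb0, hb01⟩, s, hs, y', hay'⟩
  have ha0' : a0 ∈ sigmaCore H := ha0
  have hb0' : b0 ∈ sigmaCore H' := hb0
  have ha0ne : a0 ≠ 1 := fun h => ha01 (by rw [h]; rfl)
  have hb0ne : b0 ≠ 1 := fun h => hb01 (by rw [h]; rfl)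
  set c1 : G := y⁻¹ * y' with hc1
  have h1 : a0 * r = (c1 * b0 * c1⁻¹) * (c1 * s * c1⁻¹) := by
    have : y * (a0 * r) * y⁻¹ = y' * (b0 * s) * y'⁻¹ := hay.symm.trans hay'
    calc a0 * r = y⁻¹ * (y * (a0 * r) * y⁻¹) * y := by group
      _ = y⁻¹ * (y' * (b0 * s) * y'⁻¹) * y := by rw [this]
      _ = (c1 * b0 * c1⁻¹) * (c1 * s * c1⁻¹) := by rw [hc1]; group
  have hN := isCoatom_map_conj' (hhalf H' hH').hH c1
  have hb0c := Cfsg.Agent.Helper14.BG1369.conj_mem_sigmaCore hb0' c1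
  have hsc := conj_mem_supportR hs c1
  have hb0cne : c1 * b0 * c1⁻¹ ≠ 1 := by
    intro h
    apply hb0ne
    have : b0 = c1⁻¹ * (c1 * b0 * c1⁻¹) * c1 := by group
    rw [this, h]; group
  by_cases heq : a0 = c1 * b0 * c1⁻¹
  · have hne1 : orderOf a0 ≠ 1 := by rw [Ne, orderOf_eq_one_iff]; exact ha0ne
    obtain ⟨t, ht, htd⟩ := Nat.exists_prime_and_dvd hne1
    have h2 : t ∈ sigma H := prime_mem_sigma_of_mem_sigmaCore ha0' t ht htd
    have h3 : t ∈ sigma (H'.map (MulAut.conj c1).toMonoidHom) := by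
      rw [heq] at htd
      exact prime_mem_sigma_of_mem_sigmaCore hb0c t ht htd
    rw [sigma_map_conj] at h3
    exact hdisj H hH H' hH' hne t h2 h3
  · exact h33 H _ (hhalf H hH).hH hN a0 _ ha0' hb0c ha0ne hb0cne heq r hr _ hsc h1

end poly

/-- the polygon count (for S1366) -/
theorem polygon_count (hG : IsMinSimpleOddOrder G) (h30 : St1430 G) (h31 : St1431 G)
    (h51 : St1351b G) (h78 : St1378b G) (h77 : St1377 G) (h33 : St1433 G)
    (S : Finset (Subgroup G)) (B : Subgroup G → Subgroup G) (Z : Subgroup G)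
    (hhalf : ∀ H ∈ S, Half H (B H))
    (hZ : ∀ H ∈ S, B H ⊔ Kst H (B H) = Z)
    (hZab : ∀ a ∈ Z, ∀ b ∈ Z, a * b = b * a)
    (hdisj : ∀ H ∈ S, ∀ H' ∈ S, H ≠ H' → ∀ p, p ∈ sigma H → p ∉ sigma H')
    (hcover : ∀ p : ℕ, p.Prime → p ∣ Nat.card Z → ∃ H ∈ S, p ∈ sigma H)
    (hP1 : ∀ H ∈ S, Nat.card H = Nat.card (B H) * Nat.card (sigmaCore H)) :
    S.card ≤ 1 := by
  classical
  apply arith_poly S (fun H => Nat.card ↥(Kst H (B H))) (fun H => Nat.card (B H))
    (fun H => Nat.card ↥(sigmaCore H)) (fun H => H.index)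
    (fun H => Set.ncard (tildeOf H ((sigmaCore H : Set G) \ {1})))
    (Nat.card Z) (Nat.card G) (Set.ncard (Zc S B)) (Set.ncard (conjUnion (Zc S B)))
  · intro H hH
    have := (hhalf H hH).card_Z
    rw [hZ H hH] at this
    exact this.symm
  · intro H hH
    have := Subgroup.index_mul_card H
    rw [hP1 H hH] at this
    exact this
  · intro H hH
    exact three_mul_card_Kst_le (hhalf H hH)
  · intro H hH
    exact h77 H (hhalf H hH).hH
  · exact count_Z hhalf hZ hdisj hcover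
  · exact card_conj_Zc hhalf hZ hZab
  · apply sum_ncard_add_le
    · intro H hH H' hH' hne
      exact Set.disjoint_left.mpr (disj3 hhalf hdisj h33 hH hH' hne)
    · intro H hH
      exact Set.disjoint_left.mpr (disj1 hhalf hZ hdisj hH)
  · exact Nat.card_pos

end Cfsg.Agent.Helper25.BGPoly
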