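import Mathlib
import Cfsg.Agent.Lib.Helper3.BSWArithDefs

/-!
# S3282 piece E2B (helper25 for helper3): the exotic shape 2 in type B

`Y j = Y0` for all `j ≠ j0`, `b j0 Y0 = 0`, two different `X j1 ≠ X j2`.  Then `b j0 (X j) = 1` for all
`j ≠ j0` (Gram), `v := b j0 - e_o - e_{X j1} - e_{X j2}` has norm `1`, so `v = ± e_Z`; the sign is `-`
by the degree equation (all degrees are positive); a third value `X j3` would force `v = + e_{X j3}`.
Mathlib + BSWArithDefs only.
-/

set_option autoImplicit false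

namespace Cfsg.Agent.Helper3.BSW

variable {ι J : Type*} [Fintype ι] [Fintype J] [DecidableEq ι] [DecidableEq J]

namespace E2B

/-- an integer vector of norm `1` is `± e_A` (own copy, so that the file is Mathlib-only). -/
theorem supp_one' (v : ι → ℤ) (h : ∑ i, v i ^ 2 = 1) :
    ∃ A : ι, (v A = 1 ∨ v A = -1) ∧ ∀ i, i ≠ A → v i = 0 := by
  have hex : ∃ A, v A ≠ 0 := by
    by_contra hcon
    push Not at hcon
    have : ∑ i, v i ^ 2 = 0 := Finset.sum_eq_zero (fun i _ => by rw [hcon i]; norm_num)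
    omega
  obtain ⟨A, hA⟩ := hex
  have hA1 : 1 ≤ v A ^ 2 := by
    have : 0 < v A ^ 2 := by positivity
    omega
  refine ⟨A, ?_, ?_⟩
  · have h1 : v A ^ 2 ≤ 1 := by
      rw [← h]
      exact Finset.single_le_sum (f := fun i => v i ^ 2) (fun i _ => sq_nonneg _)
        (Finset.mem_univ A)
    have h2 : v A ≤ 1 := by nlinarith
    have h3 : -1 ≤ v A := by nlinarith
    omega
  · intro i hi
    by_contra hvi
    have h2 : v A ^ 2 + v i ^ 2 ≤ 1 := by
      rw [← h]
      have := Finset.sum_le_sum_of_subset_of_nonneg (s := {A, i}) (t := Finset.univ)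
        (f := fun i => v i ^ 2) (Finset.subset_univ _) (fun i _ _ => sq_nonneg _)
      rwa [Finset.sum_pair hi.symm] at this
    have h3 : 0 < v i ^ 2 := by positivity
    omega

theorem sum_mul_ind (f : ι → ℤ) (X : ι) : ∑ i, f i * ind X i = f X := by
  simp [ind]

theorem sum_ind_mul (f : ι → ℤ) (X : ι) : ∑ i, ind X i * f i = f X := by
  simp [ind]

omit [Fintype ι] in
theorem ind_self (X : ι) : ind X X = 1 := by simp [ind]

omit [Fintype ι] in
theorem ind_ne {X i : ι} (h : i ≠ X) : ind X i = 0 := by simp [ind, h]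

end E2B

variable {k g : ℕ} {o : ι} {inv : J → J} {j0 : J} {sgn : J → ℤ} {b : J → ι → ℤ} {deg a1 : ι → ℤ}

open E2B in
/-- PIECE E2B (A3, type B, `c = 0`, two different `X`). -/
theorem j0_exotic_B (H : ArithHyp k g o inv j0 sgn b deg a1) {X Y : J → ι}
    (D : PairData o inv j0 b deg X Y) (Y0 : ι) (hY : ∀ j, j ≠ j0 → Y j = Y0) (hc : b j0 Y0 = 0)
    {j1 j2 : J} (h1 : j1 ≠ j0) (h2 : j2 ≠ j0) (h12 : X j1 ≠ X j2) :
    ∃ Z : ι, ShapeE2 o inv j0 b deg Y0 X Z j1 j2 (-1) := by
  have hinv_ne : ∀ j, j ≠ j0 → inv j ≠ j0 := by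
    intro j hj h
    apply hj
    have := H.inv_inv j
    rw [h, (H.inv_fix j0).mpr rfl] at this
    exact this.symm
  -- `b j0 (X j) = 1`
  have hbX : ∀ j, j ≠ j0 → b j0 (X j) = 1 := by
    intro j hj
    have hg := H.gram j0 j
    rw [if_neg (Ne.symm hj), if_neg (fun h => hinv_ne j hj h.symm)] at hg
    have : ∑ i, b j0 i * b j i = b j0 o + b j0 (X j) - b j0 (Y j) := by
      simp_rw [D.bj j hj, mul_sub, mul_add, Finset.sum_sub_distrib, Finset.sum_add_distrib,
        sum_mul_ind]
    rw [this, H.b_o, hY j hj, hc] at hg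
    linarith
  have hXo : ∀ j, j ≠ j0 → X j ≠ o := D.Xo
  have hY0o : Y0 ≠ o := by rw [← hY j1 h1]; exact D.Yo j1 h1
  have hXY0 : ∀ j, j ≠ j0 → X j ≠ Y0 := by
    intro j hj; rw [← hY j hj]; exact D.XY j hj
  obtain ⟨v, hv⟩ : ∃ v : ι → ℤ, ∀ i, v i = b j0 i - ind o i - ind (X j1) i - ind (X j2) i :=
    ⟨_, fun _ => rfl⟩
  have hnorm : ∑ i, v i ^ 2 = 1 := by
    have e : ∀ i, v i ^ 2 = b j0 i * b j0 i + ind o i * ind o i + ind (X j1) i * ind (X j1) i
        + ind (X j2) i * ind (X j2) i - 2 * (b j0 i * ind o i) - 2 * (b j0 i * ind (X j1) i)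
        - 2 * (b j0 i * ind (X j2) i) + 2 * (ind o i * ind (X j1) i)
        + 2 * (ind o i * ind (X j2) i) + 2 * (ind (X j1) i * ind (X j2) i) := by
      intro i; rw [hv i]; ring
    have hg := H.gram j0 j0
    rw [if_pos rfl, if_pos ((H.inv_fix j0).mpr rfl).symm] at hg
    simp only [e, Finset.sum_add_distrib, Finset.sum_sub_distrib, ← Finset.mul_sum, sum_mul_ind]
    rw [hg, ind_self, ind_self, ind_self, H.b_o, hbX j1 h1, hbX j2 h2, ind_ne (hXo j1 h1),
      ind_ne (hXo j2 h2), ind_ne h12.symm]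
    norm_num
  obtain ⟨Z, hZ, hZ0⟩ := supp_one' v hnorm
  -- `v = v Z • e_Z`
  have hvZ : ∀ i, v i = v Z * ind Z i := by
    intro i
    by_cases hi : i = Z
    · subst hi; rw [ind_self, mul_one]
    · rw [hZ0 i hi, ind_ne hi, mul_zero]
  have hb0 : ∀ i, b j0 i = ind o i + ind (X j1) i + ind (X j2) i + v Z * ind Z i := by
    intro i
    have := hv i
    rw [hvZ i] at this
    linarith
  -- the sign
  have hsign : v Z = -1 := by
    rcases hZ with h | h
    · exfalso
      have hs := H.deg_sum j0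
      have : ∑ i, b j0 i * deg i = deg o + deg (X j1) + deg (X j2) + v Z * deg Z := by
        simp_rw [hb0, add_mul, mul_assoc, Finset.sum_add_distrib, ← Finset.mul_sum, sum_ind_mul]
      rw [this, h] at hs
      have := H.deg_pos o
      have := H.deg_pos (X j1)
      have := H.deg_pos (X j2)
      have := H.deg_pos Z
      linarith
    · exact h
  -- values of `v`
  have hvX : ∀ j, j ≠ j0 → v (X j) = 1 - ind (X j1) (X j) - ind (X j2) (X j) := by
    intro j hj
    rw [hv, hbX j hj, ind_ne (hXo j hj)]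
    ring
  have hXZ : ∀ j, j ≠ j0 → X j ≠ Z := by
    intro j hj hjZ
    have h3 := hvX j hj
    rw [hjZ, hsign] at h3
    by_cases ha : Z = X j1
    · have hb : Z ≠ X j2 := fun hb => h12 (ha.symm.trans hb)
      rw [ind_ne hb, ha, ind_self] at h3
      omega
    · rw [ind_ne ha] at h3
      by_cases hb : Z = X j2
      · rw [hb, ind_self] at h3; omega
      · rw [ind_ne hb] at h3; omega
  have hthird : ∀ j, j ≠ j0 → X j = X j1 ∨ X j = X j2 := by
    intro j hj
    by_contra hcon
    push Not at hcon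
    have h3 := hvX j hj
    rw [ind_ne hcon.1, ind_ne hcon.2, hZ0 _ (hXZ j hj)] at h3
    omega
  have hZo : Z ≠ o := by
    intro h
    have h3 := hv o
    rw [← h, hsign, h, H.b_o, ind_self, ind_ne (hXo j1 h1).symm, ind_ne (hXo j2 h2).symm] at h3
    omega
  have hZP : Z ≠ Y0 := by
    intro h
    have h3 := hv Y0
    rw [← h, hsign, h, hc, ind_ne hY0o, ind_ne (hXY0 j1 h1).symm, ind_ne (hXY0 j2 h2).symm] at h3
    omega
  refine ⟨Z, ?_⟩
  refine
    { j1ne := h1
      j2ne := h2
      j12 := ?_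
      j12' := ?_
      all := ?_
      Po := hY0o
      So := hXo
      SP := hXY0
      S12 := h12
      Zo := hZo
      ZP := hZP
      ZS := hXZ
      Sinv := D.Xinv
      bj := ?_
      bj0 := ?_
      degS := ?_ }
  · rintro rfl; exact h12 rfl
  · intro h; rw [h, D.Xinv j1 h1] at h12; exact h12 rfl
  · intro j hj
    rcases hthird j hj with h | h
    · rcases D.inj j1 j h1 hj h.symm (by rw [hY j1 h1, hY j hj]) with h' | h'
      · exact Or.inl h'
      · exact Or.inr (Or.inl h')
    · rcases D.inj j2 j h2 hj h.symm (by rw [hY j2 h2, hY j hj]) with h' | h'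
      · exact Or.inr (Or.inr (Or.inl h'))
      · exact Or.inr (Or.inr (Or.inr h'))
  · intro j hj i
    rw [D.bj j hj i, hY j hj]; ring
  · intro i
    rw [hb0 i, hsign]; ring
  · intro j hj
    have := D.degXY j hj
    rw [hY j hj] at this
    linarith

end Cfsg.Agent.Helper3.BSW
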