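import Mathlib
import Cfsg.Prelude.Def_Blocks
import Cfsg.Agent.Lib.Helper24.CharNormal
import Cfsg.Agent.Lib.Helper24.CharAlgebra
import Cfsg.Agent.Lib.Helper24.CharHom
import Cfsg.Agent.Lib.Helper24.CharOrtho

/-!
# Averaging a character over the cosets of a normal subgroup (helper25)

`cosetAvg N φ g = |N|⁻¹ ∑_{m ∈ N} φ (g m)`.  For a character `φ` this is again a character (the
character of the `N`-fixed points).
-/

set_option autoImplicit false

namespace Cfsg.Agent.Helper25

open Cfsg Cfsg.Agent.Helper24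

open scoped ComplexConjugate

universe u

variable {G : Type u} [Group G] [Fintype G] (N : Subgroup G) [Fintype N]

noncomputable def cosetAvg (φ : G → ℂ) : G → ℂ :=
  fun g => (Nat.card N : ℂ)⁻¹ * ∑ m : N, φ (g * (m : G))

theorem cosetAvg_apply (φ : G → ℂ) (g : G) :
    cosetAvg N φ g = (Nat.card N : ℂ)⁻¹ * ∑ m : N, φ (g * (m : G)) := rfl

theorem cosetAvg_sum_smul {ι : Type*} (s : Finset ι) (c : ι → ℂ) (f : ι → G → ℂ) :
    cosetAvg N (∑ i ∈ s, c i • f i) = ∑ i ∈ s, c i • cosetAvg N (f i) := by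
  ext g
  simp only [cosetAvg_apply, Finset.sum_apply, Pi.smul_apply, smul_eq_mul]
  rw [Finset.sum_comm, Finset.mul_sum]
  refine Finset.sum_congr rfl fun i _ => ?_
  rw [← Finset.mul_sum]
  ring

theorem cosetAvg_mul_mem (φ : G → ℂ) (g : G) {n : G} (hn : n ∈ N) :
    cosetAvg N φ (g * n) = cosetAvg N φ g := by
  rw [cosetAvg_apply, cosetAvg_apply]
  congr 1
  have := Equiv.sum_comp (Equiv.mulLeft (⟨n, hn⟩ : N)) (fun m : N => φ (g * (m : G)))
  rw [← this]
  refine Finset.sum_congr rfl fun m _ => ?_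
  simp [mul_assoc]

theorem sum_cosetAvg (φ : G → ℂ) : ∑ g : G, cosetAvg N φ g = ∑ g : G, φ g := by
  simp only [cosetAvg_apply]
  rw [← Finset.mul_sum, Finset.sum_comm]
  have h1 : ∀ m : N, ∑ g : G, φ (g * (m : G)) = ∑ g : G, φ g := fun m =>
    Equiv.sum_comp (Equiv.mulRight (m : G)) φ
  rw [Finset.sum_congr rfl (fun m _ => h1 m), Finset.sum_const, Finset.card_univ, nsmul_eq_mul,
    ← mul_assoc, Nat.card_eq_fintype_card]
  have : (Fintype.card N : ℂ) ≠ 0 := by exact_mod_cast Fintype.card_ne_zero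
  rw [inv_mul_cancel₀ this, one_mul]

variable [N.Normal]

theorem cosetAvg_irr {θ : G → ℂ} (hθ : IsIrrCharacter G θ) :
    cosetAvg N θ = θ ∨ cosetAvg N θ = 0 := by
  by_cases h : ∀ x ∈ N, θ x = θ 1
  · left
    ext g
    rw [cosetAvg_apply, sum_char_coset_of_le_ker N (isCharacter_of_isIrrCharacter hθ) h g,
      ← mul_assoc]
    have : (Nat.card N : ℂ) ≠ 0 := by exact_mod_cast (Nat.card_pos (α := N)).ne'
    rw [inv_mul_cancel₀ this, one_mul]
  · right
    push_neg at h
    ext g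
    rw [cosetAvg_apply, sum_char_coset_eq_zero N hθ h g, mul_zero]
    rfl

/-- The coset average of a character is a character. -/
theorem isCharacter_cosetAvg {φ : G → ℂ} (hφ : IsCharacter G φ) :
    IsCharacter G (cosetAvg N φ) := by
  classical
  letI : Fintype (IrrCharacter G) := irrFintype
  obtain ⟨h1, h2⟩ := isCharacter_decomp hφ
  have key : cosetAvg N φ =
      ∑ θ : IrrCharacter G, classInner φ (θ : G → ℂ) • cosetAvg N (θ : G → ℂ) := by
    conv_lhs => rw [h2]
    exact cosetAvg_sum_smul N Finset.univ _ _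
  rw [key]
  apply isCharacter_sum
  intro θ _
  obtain ⟨m, hm⟩ := h1 θ
  rw [hm]
  apply isCharacter_natCast_smul
  rcases cosetAvg_irr N θ.2 with h | h
  · rw [h]
    exact isCharacter_of_isIrrCharacter θ.2
  · rw [h]
    exact isCharacter_zero

omit [N.Normal] in
theorem cosetAvg_normSq (χ : G → ℂ) (g : G) :
    cosetAvg N (fun g => χ g * conj (χ g)) g =
      (((Nat.card N : ℝ)⁻¹ * ∑ m : N, ‖χ (g * (m : G))‖ ^ 2 : ℝ) : ℂ) := by
  rw [cosetAvg_apply]
  push_cast
  congr 1
  refine Finset.sum_congr rfl fun m _ => ?_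
  rw [Complex.mul_conj, Complex.normSq_eq_norm_sq]
  push_cast
  rfl

omit [N.Normal] in
theorem cosetAvg_normSq_eq_zero_iff (χ : G → ℂ) (g : G) :
    cosetAvg N (fun g => χ g * conj (χ g)) g = 0 ↔ ∀ m : N, χ (g * (m : G)) = 0 := by
  rw [cosetAvg_normSq, Complex.ofReal_eq_zero]
  have hN : (0 : ℝ) < (Nat.card N : ℝ) := by exact_mod_cast Nat.card_pos
  constructor
  · intro h m
    have h1 : ∑ m : N, ‖χ (g * (m : G))‖ ^ 2 = 0 := by
      rcases mul_eq_zero.mp h with h | h
      · exact absurd (inv_eq_zero.mp h) hN.ne'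
      · exact h
    have h2 := (Finset.sum_eq_zero_iff_of_nonneg (fun m _ => by positivity)).mp h1 m
      (Finset.mem_univ m)
    have h3 : ‖χ (g * (m : G))‖ = 0 := by
      exact pow_eq_zero_iff (two_ne_zero) |>.mp h2
    exact norm_eq_zero.mp h3
  · intro h
    rw [Finset.sum_eq_zero (fun m _ => by rw [h m, norm_zero]; ring), mul_zero]

end Cfsg.Agent.Helper25
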