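import Mathlib
import Cfsg.Prelude.Def_Blocks
import Cfsg.Agent.Lib.Helper24.CharBasic
import Cfsg.Agent.Lib.Helper24.CharOrtho

/-!
# Galois conjugates of character values (helper25)

The product of the values of an integer polynomial at all primitive `N`-th roots of unity is a
rational integer; AM-GM then gives `∑_η ‖P(η)‖² ≥ φ(N)` when `P(ζ) ≠ 0`.
-/

set_option autoImplicit false

namespace Cfsg.Agent.Helper25

open Polynomial

theorem one_le_prod_norm_aeval (N : ℕ) [NeZero N] (P : ℤ[X]) (ζ : ℂ) (hζ : IsPrimitiveRoot ζ N)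
    (h : aeval ζ P ≠ 0) : 1 ≤ ∏ η ∈ primitiveRoots N ℂ, ‖aeval η P‖ := by
  classical
  haveI : NeZero ((N : ℕ) : ℚ) := ⟨by exact_mod_cast NeZero.ne N⟩
  haveI : IsCyclotomicExtension {N} ℚ (CyclotomicField N ℚ) :=
    CyclotomicField.isCyclotomicExtension N ℚ
  have hz : IsPrimitiveRoot (IsCyclotomicExtension.zeta N ℚ (CyclotomicField N ℚ)) N :=
    IsCyclotomicExtension.zeta_spec N ℚ (CyclotomicField N ℚ)
  obtain ⟨z, hzdef⟩ : ∃ z, z = IsCyclotomicExtension.zeta N ℚ (CyclotomicField N ℚ) := ⟨_, rfl⟩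
  rw [← hzdef] at hz
  have hirr : Irreducible (cyclotomic N ℚ) := cyclotomic.irreducible_rat (NeZero.pos N)
  have hzint : IsIntegral ℤ z := hz.isIntegral (NeZero.pos N)
  have hxint : IsIntegral ℤ (aeval z P) := by
    have h1 : aeval z P ∈ Algebra.adjoin ℤ {z} := Polynomial.aeval_mem_adjoin_singleton _ _
    have h2 : Algebra.adjoin ℤ {z} ≤ integralClosure ℤ (CyclotomicField N ℚ) :=
      Algebra.adjoin_le (Set.singleton_subset_iff.mpr hzint)
    exact h2 h1
  have hnorm : IsIntegral ℤ (Algebra.norm ℚ (aeval z P)) := Algebra.isIntegral_norm ℚ hxint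
  obtain ⟨n, hn⟩ := IsIntegrallyClosed.isIntegral_iff.mp hnorm
  have hσ : ∀ σ : CyclotomicField N ℚ →ₐ[ℚ] ℂ, σ (aeval z P) = aeval (σ z) P := by
    intro σ
    rw [aeval_def, aeval_def, eval₂_eq_sum_range, eval₂_eq_sum_range, map_sum]
    refine Finset.sum_congr rfl fun i _ => ?_
    rw [map_mul, map_pow, eq_intCast, eq_intCast, map_intCast]
  have hprod : (algebraMap ℚ ℂ) (Algebra.norm ℚ (aeval z P)) =
      ∏ η ∈ primitiveRoots N ℂ, aeval η P := by
    rw [Algebra.norm_eq_prod_embeddings ℚ ℂ (aeval z P)]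
    rw [← Finset.prod_coe_sort (primitiveRoots N ℂ) (fun η => aeval η P)]
    refine Fintype.prod_equiv (hz.embeddingsEquivPrimitiveRoots ℂ hirr) _ _ ?_
    intro σ
    rw [hσ σ]
    rfl
  have hx0 : aeval z P ≠ 0 := by
    intro h0
    have hmem : ζ ∈ primitiveRoots N ℂ := (mem_primitiveRoots (NeZero.pos N)).mpr hζ
    have h1 := hσ ((hz.embeddingsEquivPrimitiveRoots ℂ hirr).symm ⟨ζ, hmem⟩)
    have h2 : ((hz.embeddingsEquivPrimitiveRoots ℂ hirr).symm ⟨ζ, hmem⟩) z = ζ := by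
      have := hz.embeddingsEquivPrimitiveRoots_apply_coe ℂ hirr
        ((hz.embeddingsEquivPrimitiveRoots ℂ hirr).symm ⟨ζ, hmem⟩)
      rw [Equiv.apply_symm_apply] at this
      exact this.symm
    rw [h2, h0, map_zero] at h1
    exact h h1.symm
  have hn0 : n ≠ 0 := by
    rintro rfl
    rw [map_zero] at hn
    exact hx0 ((Algebra.norm_eq_zero_iff).mp hn.symm)
  rw [← norm_prod, ← hprod, ← hn]
  have : ((algebraMap ℚ ℂ) ((algebraMap ℤ ℚ) n)) = ((n : ℤ) : ℂ) := by
    simp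
  rw [this, Complex.norm_intCast]
  have h1 : (1 : ℤ) ≤ |n| := Int.one_le_abs hn0
  exact_mod_cast h1

theorem card_le_sum_sq_of_one_le_prod {ι : Type*} (s : Finset ι) (f : ι → ℝ)
    (hf : ∀ i ∈ s, 0 ≤ f i) (h : 1 ≤ ∏ i ∈ s, f i) : (s.card : ℝ) ≤ ∑ i ∈ s, f i ^ 2 := by
  rcases s.eq_empty_or_nonempty with rfl | hne
  · simp
  have hc : (0 : ℝ) < s.card := by exact_mod_cast hne.card_pos
  have key := Real.geom_mean_le_arith_mean_weighted s (fun _ => (1 : ℝ) / s.card)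
    (fun i => f i ^ 2) (fun i _ => by positivity)
    (by rw [Finset.sum_const, nsmul_eq_mul]; field_simp) (fun i _ => by positivity)
  rw [Real.finsetProd_rpow s _ (fun i _ => by positivity)] at key
  have h1 : (1 : ℝ) ≤ (∏ i ∈ s, f i ^ 2) ^ ((1 : ℝ) / s.card) := by
    apply Real.one_le_rpow
    · rw [Finset.prod_pow]
      nlinarith
    · positivity
  have h2 : (1 : ℝ) ≤ ∑ i ∈ s, 1 / (s.card : ℝ) * f i ^ 2 := h1.trans key
  rw [← Finset.mul_sum] at h2
  have h3 := mul_le_mul_of_nonneg_left h2 hc.le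
  rw [mul_one, ← mul_assoc, mul_one_div_cancel hc.ne', one_mul] at h3
  exact h3

/-- The exponents coprime to `N` below `N`. -/
def coprimeExps (N : ℕ) : Finset ℕ := (Finset.range N).filter (Nat.Coprime N)

theorem card_coprimeExps (N : ℕ) : (coprimeExps N).card = N.totient := rfl

theorem coprimeExps_nonempty (N : ℕ) [NeZero N] : (coprimeExps N).Nonempty := by
  rw [← Finset.card_pos, card_coprimeExps]
  exact Nat.totient_pos.mpr (NeZero.pos N)

/-- AM-GM over the Galois conjugates: if `P(ζ) ≠ 0` then `∑_{m coprime to N} ‖P(ζ^m)‖² ≥ φ(N)`. -/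
theorem card_le_sum_norm_sq_aeval (N : ℕ) [NeZero N] (P : ℤ[X]) (ζ : ℂ) (hζ : IsPrimitiveRoot ζ N)
    (h : aeval ζ P ≠ 0) :
    ((coprimeExps N).card : ℝ) ≤ ∑ m ∈ coprimeExps N, ‖aeval (ζ ^ m) P‖ ^ 2 := by
  classical
  have h1 := card_le_sum_sq_of_one_le_prod (primitiveRoots N ℂ) (fun η => ‖aeval η P‖)
    (fun _ _ => norm_nonneg _) (one_le_prod_norm_aeval N P ζ hζ h)
  have hN : 0 < N := NeZero.pos N
  have hcard : (primitiveRoots N ℂ).card = (coprimeExps N).card := by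
    rw [hζ.card_primitiveRoots, card_coprimeExps]
  have hsum : ∑ m ∈ coprimeExps N, ‖aeval (ζ ^ m) P‖ ^ 2 =
      ∑ η ∈ primitiveRoots N ℂ, ‖aeval η P‖ ^ 2 := by
    refine Finset.sum_bij (fun i _ => ζ ^ i) ?_ ?_ ?_ ?_
    · intro i hi
      simp only [coprimeExps, Finset.mem_filter, Finset.mem_range] at hi
      rw [mem_primitiveRoots hN]
      exact hζ.pow_of_coprime i hi.2.symm
    · intro i hi j hj H
      simp only [coprimeExps, Finset.mem_filter, Finset.mem_range] at hi hj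
      exact hζ.pow_inj hi.1 hj.1 H
    · intro ξ hξ
      rw [mem_primitiveRoots hN, hζ.isPrimitiveRoot_iff] at hξ
      rcases hξ with ⟨i, hin, hi, H⟩
      refine ⟨i, ?_, H⟩
      simp only [coprimeExps, Finset.mem_filter, Finset.mem_range]
      exact ⟨hin, hi.symm⟩
    · intro i _
      rfl
  rw [hsum, ← hcard]
  exact h1

section Char

open Cfsg Cfsg.Agent.Helper24

universe u v

variable {G : Type u} [Group G] [Finite G]

/-- Character values along the powers of `g` are values of one integer polynomial at the powers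
of a fixed primitive `|G|`-th root of unity. -/
theorem exists_poly_char_pow {V : Type v} [AddCommGroup V] [Module ℂ V] [FiniteDimensional ℂ V]
    (ρ : Representation ℂ G V) (ζ : ℂ) (hζ : IsPrimitiveRoot ζ (Nat.card G)) (g : G) :
    ∃ P : ℤ[X], ∀ m : ℕ, ρ.character (g ^ m) = aeval (ζ ^ m) P := by
  classical
  haveI : NeZero (Nat.card G) := ⟨Nat.card_pos.ne'⟩
  obtain ⟨μ, hμ, hk, -⟩ := exists_roots_of_unity ρ g
  have hex : ∀ i, ∃ k, k < Nat.card G ∧ ζ ^ k = μ i := fun i => by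
    obtain ⟨k, hk1, hk2⟩ := hζ.eq_pow_of_pow_eq_one (hμ i)
    exact ⟨k, hk1, hk2⟩
  choose k hk1 hk2 using hex
  refine ⟨∑ i, (X : ℤ[X]) ^ (k i), fun m => ?_⟩
  rw [hk m, map_sum]
  refine Finset.sum_congr rfl fun i _ => ?_
  rw [map_pow, aeval_X, ← hk2 i, ← pow_mul, ← pow_mul, mul_comm]

/-- For a character `χ` and `g` with `χ g ≠ 0`: `∑_{m coprime to |G|} ‖χ(g^m)‖² ≥ φ(|G|)`. -/
theorem card_le_sum_norm_sq_char_pow {χ : G → ℂ} (hχ : IsCharacter G χ) (g : G) (hg : χ g ≠ 0) :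
    ((coprimeExps (Nat.card G)).card : ℝ) ≤ ∑ m ∈ coprimeExps (Nat.card G), ‖χ (g ^ m)‖ ^ 2 := by
  haveI : NeZero (Nat.card G) := ⟨Nat.card_pos.ne'⟩
  obtain ⟨n, ρ, rfl⟩ := hχ
  have hζ := Complex.isPrimitiveRoot_exp (Nat.card G) (NeZero.ne _)
  obtain ⟨P, hP⟩ := exists_poly_char_pow ρ _ hζ g
  have h1 : aeval (Complex.exp (2 * Real.pi * Complex.I / (Nat.card G : ℂ))) P ≠ 0 := by
    have := hP 1
    rw [pow_one, pow_one] at this
    rw [← this]
    exact hg
  have h2 := card_le_sum_norm_sq_aeval (Nat.card G) P _ hζ h1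
  refine h2.trans (le_of_eq ?_)
  refine Finset.sum_congr rfl fun m _ => ?_
  rw [hP m]

end Char

end Cfsg.Agent.Helper25
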