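import Mathlib
import Cfsg.Prelude.Def_Blocks
import Cfsg.Agent.Lib.Helper25.CharGalois

/-!
# Counting with Galois conjugates of character values (helper25)
-/

set_option autoImplicit false

namespace Cfsg.Agent.Helper25

open Cfsg Cfsg.Agent.Helper24

universe u

variable {G : Type u} [Group G] [Finite G]

theorem pow_mem_iff_of_coprime (H : Subgroup G) {m : ℕ} (hm : (Nat.card G).Coprime m) (g : G) :
    g ^ m ∈ H ↔ g ∈ H := by
  constructor
  · intro h
    have h1 : (powCoprime hm).symm (g ^ m) = g := by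
      rw [Equiv.symm_apply_eq]
      rfl
    rw [← h1]
    change (g ^ m) ^ (Nat.card G).gcdB m ∈ H
    exact H.zpow_mem h _
  · intro h
    exact H.pow_mem h m

/-- Off a subgroup, the sum of `‖χ‖²` is at least the number of non-zeros. -/
theorem card_nonzero_le_sum_off [Fintype G] (H : Subgroup G) {χ : G → ℂ} (hχ : IsCharacter G χ) :
    by classical exact
    (((Finset.univ.filter (fun g : G => g ∉ H)).filter (fun g => χ g ≠ 0)).card : ℝ) ≤
      ∑ g ∈ Finset.univ.filter (fun g : G => g ∉ H), ‖χ g‖ ^ 2 := by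
  classical
  haveI : NeZero (Nat.card G) := ⟨Nat.card_pos.ne'⟩
  obtain ⟨S, hS⟩ : ∃ S, S = Finset.univ.filter (fun g : G => g ∉ H) := ⟨_, rfl⟩
  obtain ⟨C, hC⟩ : ∃ C, C = coprimeExps (Nat.card G) := ⟨_, rfl⟩
  rw [← hS]
  have hCpos : (0 : ℝ) < C.card := by
    rw [hC]
    exact_mod_cast (coprimeExps_nonempty (Nat.card G)).card_pos
  have hperm : ∀ m ∈ C, ∑ g ∈ S, ‖χ (g ^ m)‖ ^ 2 = ∑ g ∈ S, ‖χ g‖ ^ 2 := by
    intro m hm
    rw [hC] at hm
    simp only [coprimeExps, Finset.mem_filter, Finset.mem_range] at hm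
    refine Finset.sum_equiv (powCoprime hm.2) ?_ ?_
    · intro g
      rw [hS, Finset.mem_filter, Finset.mem_filter]
      simp only [Finset.mem_univ, true_and]
      rw [show (powCoprime hm.2) g = g ^ m from rfl, pow_mem_iff_of_coprime H hm.2]
    · intro g _
      rfl
  have h1 : (C.card : ℝ) * ∑ g ∈ S, ‖χ g‖ ^ 2 = ∑ g ∈ S, ∑ m ∈ C, ‖χ (g ^ m)‖ ^ 2 := by
    rw [Finset.sum_comm, Finset.sum_congr rfl hperm, Finset.sum_const, nsmul_eq_mul]
  have h2 : ∑ g ∈ S, (if χ g ≠ 0 then (C.card : ℝ) else 0) ≤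
      ∑ g ∈ S, ∑ m ∈ C, ‖χ (g ^ m)‖ ^ 2 := by
    refine Finset.sum_le_sum fun g _ => ?_
    by_cases hg : χ g ≠ 0
    · rw [if_pos hg, hC]
      exact card_le_sum_norm_sq_char_pow hχ g hg
    · rw [if_neg hg]
      exact Finset.sum_nonneg fun m _ => by positivity
  rw [← Finset.sum_filter, Finset.sum_const, nsmul_eq_mul, ← h1, mul_comm] at h2
  exact le_of_mul_le_mul_left h2 hCpos

end Cfsg.Agent.Helper25
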