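import Mathlib
import Cfsg.Prelude.Def_Blocks
import Cfsg.Agent.Lib.Helper25.CharGalois2

/-!
# First-power versions of the Galois/AM-GM counting lemmas (helper25)
-/

set_option autoImplicit false

namespace Cfsg.Agent.Helper25

open Cfsg Cfsg.Agent.Helper24 Polynomial

theorem card_le_sum_of_one_le_prod {ι : Type*} (s : Finset ι) (f : ι → ℝ)
    (hf : ∀ i ∈ s, 0 ≤ f i) (h : 1 ≤ ∏ i ∈ s, f i) : (s.card : ℝ) ≤ ∑ i ∈ s, f i := by
  rcases s.eq_empty_or_nonempty with rfl | hne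
  · simp
  have hc : (0 : ℝ) < s.card := by exact_mod_cast hne.card_pos
  have key := Real.geom_mean_le_arith_mean_weighted s (fun _ => (1 : ℝ) / s.card)
    (fun i => f i) (fun i _ => by positivity)
    (by rw [Finset.sum_const, nsmul_eq_mul]; field_simp) hf
  rw [Real.finsetProd_rpow s _ hf] at key
  have h1 : (1 : ℝ) ≤ (∏ i ∈ s, f i) ^ ((1 : ℝ) / s.card) := by
    apply Real.one_le_rpow h
    positivity
  have h2 : (1 : ℝ) ≤ ∑ i ∈ s, 1 / (s.card : ℝ) * f i := h1.trans key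
  rw [← Finset.mul_sum] at h2
  have h3 := mul_le_mul_of_nonneg_left h2 hc.le
  rw [mul_one, ← mul_assoc, mul_one_div_cancel hc.ne', one_mul] at h3
  exact h3

theorem card_le_sum_norm_aeval (N : ℕ) [NeZero N] (P : ℤ[X]) (ζ : ℂ) (hζ : IsPrimitiveRoot ζ N)
    (h : aeval ζ P ≠ 0) :
    ((coprimeExps N).card : ℝ) ≤ ∑ m ∈ coprimeExps N, ‖aeval (ζ ^ m) P‖ := by
  classical
  have h1 := card_le_sum_of_one_le_prod (primitiveRoots N ℂ) (fun η => ‖aeval η P‖)
    (fun _ _ => norm_nonneg _) (one_le_prod_norm_aeval N P ζ hζ h)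
  have hN : 0 < N := NeZero.pos N
  have hcard : (primitiveRoots N ℂ).card = (coprimeExps N).card := by
    rw [hζ.card_primitiveRoots, card_coprimeExps]
  have hsum : ∑ m ∈ coprimeExps N, ‖aeval (ζ ^ m) P‖ =
      ∑ η ∈ primitiveRoots N ℂ, ‖aeval η P‖ := by
    refine Finset.sum_bij (fun i _ => ζ ^ i) ?_ ?_ ?_ ?_
    · intro i hi
      simp only [coprimeExps, Finset.mem_filter, Finset.mem_range] at hi
      rw [mem_primitiveRoots hN]
      exact hζ.pow_of_coprime i hi.2.symm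
    · intro i hi j hj H
      simp only [coprimeExps, Finset.mem_filter, Finset.mem_range] at hi hj
      exact hζ.pow_inj hi.1 hj.1 H
    · intro ξ hξ
      rw [mem_primitiveRoots hN, hζ.isPrimitiveRoot_iff] at hξ
      rcases hξ with ⟨i, hin, hi, H⟩
      refine ⟨i, ?_, H⟩
      simp only [coprimeExps, Finset.mem_filter, Finset.mem_range]
      exact ⟨hin, hi.symm⟩
    · intro i _
      rfl
  rw [hsum, ← hcard]
  exact h1

universe u

variable {G : Type u} [Group G] [Finite G]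

theorem card_le_sum_norm_char_pow {χ : G → ℂ} (hχ : IsCharacter G χ) (g : G) (hg : χ g ≠ 0) :
    ((coprimeExps (Nat.card G)).card : ℝ) ≤ ∑ m ∈ coprimeExps (Nat.card G), ‖χ (g ^ m)‖ := by
  haveI : NeZero (Nat.card G) := ⟨Nat.card_pos.ne'⟩
  obtain ⟨n, ρ, rfl⟩ := hχ
  have hζ := Complex.isPrimitiveRoot_exp (Nat.card G) (NeZero.ne _)
  obtain ⟨P, hP⟩ := exists_poly_char_pow ρ _ hζ g
  have h1 : aeval (Complex.exp (2 * Real.pi * Complex.I / (Nat.card G : ℂ))) P ≠ 0 := by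
    have := hP 1
    rw [pow_one, pow_one] at this
    rw [← this]
    exact hg
  have h2 := card_le_sum_norm_aeval (Nat.card G) P _ hζ h1
  refine h2.trans (le_of_eq ?_)
  refine Finset.sum_congr rfl fun m _ => ?_
  rw [hP m]

/-- On a set stable under coprime powers, the sum of `‖χ‖` is at least the number of
non-zeros of the character `χ`. -/
theorem card_nonzero_le_sum_norm_of_stable [DecidableEq G] (S : Finset G)
    (hS : ∀ m : ℕ, (Nat.card G).Coprime m → ∀ g : G, g ^ m ∈ S ↔ g ∈ S)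
    {χ : G → ℂ} (hχ : IsCharacter G χ) :
    ((S.filter (fun g => χ g ≠ 0)).card : ℝ) ≤ ∑ g ∈ S, ‖χ g‖ := by
  classical
  haveI : NeZero (Nat.card G) := ⟨Nat.card_pos.ne'⟩
  obtain ⟨C, hC⟩ : ∃ C, C = coprimeExps (Nat.card G) := ⟨_, rfl⟩
  have hCpos : (0 : ℝ) < C.card := by
    rw [hC]
    exact_mod_cast (coprimeExps_nonempty (Nat.card G)).card_pos
  have hperm : ∀ m ∈ C, ∑ g ∈ S, ‖χ (g ^ m)‖ = ∑ g ∈ S, ‖χ g‖ := by
    intro m hm
    rw [hC] at hm
    simp only [coprimeExps, Finset.mem_filter, Finset.mem_range] at hm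
    refine Finset.sum_equiv (powCoprime hm.2) ?_ ?_
    · intro g
      rw [show (powCoprime hm.2) g = g ^ m from rfl, hS m hm.2]
    · intro g _
      rfl
  have h1 : (C.card : ℝ) * ∑ g ∈ S, ‖χ g‖ = ∑ g ∈ S, ∑ m ∈ C, ‖χ (g ^ m)‖ := by
    rw [Finset.sum_comm, Finset.sum_congr rfl hperm, Finset.sum_const, nsmul_eq_mul]
  have h2 : ∑ g ∈ S, (if χ g ≠ 0 then (C.card : ℝ) else 0) ≤
      ∑ g ∈ S, ∑ m ∈ C, ‖χ (g ^ m)‖ := by
    refine Finset.sum_le_sum fun g _ => ?_
    by_cases hg : χ g ≠ 0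
    · rw [if_pos hg, hC]
      exact card_le_sum_norm_char_pow hχ g hg
    · rw [if_neg hg]
      exact Finset.sum_nonneg fun m _ => by positivity
  rw [← Finset.sum_filter, Finset.sum_const, nsmul_eq_mul, ← h1, mul_comm] at h2
  exact le_of_mul_le_mul_left h2 hCpos

end Cfsg.Agent.Helper25
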