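import Mathlib
import Cfsg.Prelude.Def_Characters
import Cfsg.Prelude.Def_Blocks
import Cfsg.Agent.Lib.Helper25.D11J5

/-!
# S0679, piece C7J7 (helper25): a transitive group of degree `11` of order divisible by `7`
contains a `7`-cycle, hence `A₁₁` (Jordan, S0713: `7 + 3 ≤ 11`); so `55440 ∣ |A₁₁| ∣ |G|`.
-/

set_option autoImplicit false
set_option linter.unusedSectionVars false
set_option linter.unusedVariables false
set_option linter.style.haveILetI false

namespace Cfsg.Agent.Helper27.D11

open Cfsg Equiv MulAction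

universe u

variable {α : Type u} [Fintype α] [DecidableEq α]

namespace C7J7

/-- a permutation of prime order `p` on `n < 2p` points is a `p`-cycle -/
theorem cycleType_of_prime_order {g : Perm α} {p : ℕ} (hp : p.Prime) (hg : orderOf g = p)
    (hn : Fintype.card α < 2 * p) : g.cycleType = {p} := by
  obtain ⟨n, hn'⟩ := Equiv.Perm.cycleType_prime_order (σ := g) (by rw [hg]; exact hp)
  rw [hg] at hn'
  have hsum : g.cycleType.sum ≤ Fintype.card α := by
    rw [Equiv.Perm.sum_cycleType]
    exact Finset.card_le_univ _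
  rw [hn', Multiset.sum_replicate, smul_eq_mul] at hsum
  have h0 : n = 0 := by
    by_contra h
    have h2 : 2 ≤ n + 1 := by omega
    have : 2 * p ≤ (n + 1) * p := Nat.mul_le_mul_right p h2
    omega
  rw [hn', h0]
  rfl

/-- `A₁₁ ≤ G` when `7 ∣ |G|` -/
theorem alt_le_of_seven_dvd (hα : Fintype.card α = 11) (G : Subgroup (Perm α))
    [IsPretransitive G α] (h7 : 7 ∣ Nat.card G) : alternatingGroup α ≤ G := by
  haveI : Fact (Nat.Prime 7) := ⟨by norm_num⟩
  obtain ⟨g, hg⟩ := exists_prime_orderOf_dvd_card' (G := G) 7 h7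
  have hg' : orderOf (g : Perm α) = 7 := by rw [Subgroup.orderOf_coe]; exact hg
  have hc := cycleType_of_prime_order (by norm_num : Nat.Prime 7) hg' (by rw [hα]; norm_num)
  exact J5.alt_le_of_prime_cycle hα G g.2 (by norm_num) (by norm_num) hc

end C7J7

/-- PIECE C7J7. -/
theorem dvd_of_seven (hα : Fintype.card α = 11) (G : Subgroup (Perm α)) [IsPretransitive G α]
    (h7 : 7 ∣ Nat.card G) : 55440 ∣ Nat.card G := by
  have hA := C7J7.alt_le_of_seven_dvd hα G h7
  have h1 : Nat.card (alternatingGroup α) ∣ Nat.card G := Subgroup.card_dvd_of_le hA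
  haveI : Nontrivial α := by
    rw [← Fintype.one_lt_card_iff_nontrivial, hα]; norm_num
  have h2 := two_mul_nat_card_alternatingGroup (α := α)
  rw [Nat.card_eq_fintype_card (α := Perm α), Fintype.card_perm, hα] at h2
  have h3 : Nat.card (alternatingGroup α) = 19958400 := by
    have : Nat.factorial 11 = 2 * 19958400 := by decide
    omega
  rw [h3] at h1
  exact Dvd.dvd.trans (by norm_num) h1

end Cfsg.Agent.Helper27.D11
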