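import Mathlib
import Cfsg.Prelude.Def_Characters
import Cfsg.Prelude.Def_Blocks
import Cfsg.Agent.Lib.Helper4.PrimeDihedral

/-!
# S0679, piece ODDINV (helper25): if `|N_G(P)| = 110` then `G` contains an odd permutation
(the reflection `j ↦ -j` of `ℤ/11`: five transpositions).
-/

set_option autoImplicit false
set_option linter.unusedSectionVars false
set_option linter.unusedVariables false
set_option linter.style.haveILetI false

namespace Cfsg.Agent.Helper27.D11

open Cfsg Equiv MulAction

universe u

variable {α : Type u} [Fintype α] [DecidableEq α]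

namespace ODDINV

/-- the reflection of `ℤ/11` is an odd permutation -/
theorem sign_neg : Equiv.Perm.sign (Equiv.neg (ZMod 11)) = -1 := by decide

end ODDINV

/-- PIECE ODDINV. -/
theorem not_le_alternating_of_card_normalizer (hα : Fintype.card α = 11) (G : Subgroup (Perm α))
    [IsPretransitive G α] (P : Sylow 11 G)
    (hN : Nat.card (Subgroup.normalizer ((P : Subgroup G) : Set G)) = 110) :
    ¬ G ≤ alternatingGroup α := by
  intro hle
  haveI : Fact (Nat.Prime 11) := ⟨by norm_num⟩
  obtain ⟨e, g, t, -, ht, -⟩ := Cfsg.Agent.Helper4.PrimeDihedral.exists_dihedral (p := 11) hα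
    (by norm_num) G P (by rw [hN]; decide)
  have hteq : (t : Perm α) = e.permCongr (Equiv.neg (ZMod 11)) := by
    ext x
    obtain ⟨j, rfl⟩ := e.surjective x
    rw [ht j]
    simp [Equiv.permCongr_apply]
  have hsign : Equiv.Perm.sign (t : Perm α) = -1 := by
    rw [hteq, Equiv.Perm.sign_permCongr, ODDINV.sign_neg]
  have hmem : (t : Perm α) ∈ alternatingGroup α := hle t.2
  rw [Equiv.Perm.mem_alternatingGroup, hsign] at hmem
  exact absurd hmem (by decide)

end Cfsg.Agent.Helper27.D11
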