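import Mathlib
import Cfsg.Agent.Lib.Helper11.D4TDefs

/-!
# S2376 piece WEYL (helper25): the 192 actions of the Weyl group of `D₄` on the roots
-/

set_option autoImplicit false
set_option linter.unusedSectionVars false
set_option linter.unusedVariables false
set_option linter.style.haveILetI false
set_option linter.unusedSimpArgs false

namespace Cfsg.Agent.Helper11.D4T

open Cfsg Cfsg.Lie Cfsg.Agent.Lead.Chev Cfsg.Agent.Lead.Tw

/-- the four fundamental reflections as lists -/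
def d4tweyl_tab (i : ℕ) : List ℕ :=
  if i = 0 then
    [0, 6, 7, 8, 9, 18, 1, 2, 3, 4, 10, 11, 12, 13, 19, 20, 21, 22, 5, 14, 15, 16, 17, 23]
  else if i = 1 then
    [1, 0, 2, 3, 5, 4, 6, 10, 11, 14, 7, 8, 15, 16, 9, 12, 13, 17, 19, 18, 20, 21, 23, 22]
  else if i = 2 then
    [0, 3, 4, 1, 2, 5, 8, 9, 6, 7, 13, 11, 12, 10, 16, 17, 14, 15, 18, 21, 22, 19, 20, 23]
  else
    [0, 2, 1, 4, 3, 5, 7, 6, 9, 8, 10, 12, 11, 13, 15, 14, 17, 16, 18, 20, 19, 22, 21, 23]

theorem d4tweyl_refl : ∀ i < 4, ∀ v < 24, chevD4.reflectRoot i v = (d4tweyl_tab i).getD v 0 := by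
  decide +kernel

theorem d4tweyl_lt : ∀ L ∈ wActsD4, ∀ v < 24, L.getD v 0 < 24 := by
  decide +kernel

theorem d4tweyl_step' : ∀ L ∈ wActsD4, ∀ i < 4,
    (List.range 24).map (fun v => (d4tweyl_tab i).getD (L.getD v 0) 0) ∈ wActsD4 := by
  decide +kernel

theorem d4tweyl_getD_map (f : ℕ → ℕ) (v : ℕ) (hv : v < 24) :
    ((List.range 24).map f).getD v 0 = f v := by
  rw [List.getD_eq_getElem _ _ (by simpa using hv)]
  simp

theorem d4tweyl_step : ∀ L ∈ wActsD4, ∀ i < 4, ∃ L' ∈ wActsD4,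
    ∀ v < 24, (d4tweyl_tab i).getD (L.getD v 0) 0 = L'.getD v 0 := by
  intro L hL i hi
  refine ⟨_, d4tweyl_step' L hL i hi, ?_⟩
  intro v hv
  rw [d4tweyl_getD_map _ v hv]

theorem d4tweyl_range : ∀ v < 24, idL.getD v 0 = v := by
  decide +kernel

theorem acts_cases (w : List ℕ) (hw : ∀ i ∈ w, i < 4) : ∃ A ∈ wActsD4, ActsAs w A := by
  induction w with
  | nil =>
    refine ⟨idL, idL_mem, ?_⟩
    intro v hv
    rw [d4tweyl_range v hv]
    rfl
  | cons i w ih =>
    have hw' : ∀ j ∈ w, j < 4 := fun j hj => hw j (List.mem_cons_of_mem _ hj)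
    have hi : i < 4 := hw i List.mem_cons_self
    obtain ⟨L, hL, hact⟩ := ih hw'
    obtain ⟨L', hL', hstep⟩ := d4tweyl_step L hL i hi
    refine ⟨L', hL', ?_⟩
    intro v hv
    show chevD4.reflectRoot i (reflWord chevD4 w v) = L'.getD v 0
    rw [hact v hv, d4tweyl_refl i hi _ (d4tweyl_lt L hL v hv)]
    exact hstep v hv

theorem acts_id_pos (w : List ℕ) (hw : ∀ i ∈ w, i < 4) (h : ActsAs w idL) :
    (∀ r, chevD4.IsPosRoot r → chevD4.IsPosRoot (reflWord chevD4 w r)) ∧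
      (∀ r, chevD4.IsPosRoot r → chevD4.IsPosRoot (reflWord chevD4 w.reverse r)) := by
  have hfix : ∀ r < 24, reflWord chevD4 w r = r := by
    intro r hr
    rw [h r hr, d4tweyl_range r hr]
  have hfa : ∀ i < chevD4.rank, NXFacts chevD4 (etaOf chevD4 i) i := fun i hi => (d4F ℚ).facts i hi
  have hfix' : ∀ r < 24, reflWord chevD4 w.reverse r = r := by
    intro r hr
    have h1 := reflWord_reverse_cancel' chevD4 (etaOf chevD4) hfa w hw r hr
    rwa [hfix r hr] at h1
  constructor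
  · intro r hr
    have hr24 : r < 24 := hr.1
    rw [hfix r hr24]
    exact hr
  · intro r hr
    have hr24 : r < 24 := hr.1
    rw [hfix' r hr24]
    exact hr

end Cfsg.Agent.Helper11.D4T
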