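import Mathlib
import Cfsg.Agent.Lib.Helper3.KLLocal2

/-!
# Glauberman--Thompson for strongly closed subgroups of fusion systems, part 1

The proper-normalizer case for subgroups that are only normalized by `N_S(T)`.
-/

set_option autoImplicit false
set_option linter.style.haveILetI false
set_option linter.unusedSectionVars false

namespace Cfsg.Agent.Helper25.DGT

open Cfsg Cfsg.FusionSystem Cfsg.Agent.Helper25 Cfsg.Agent.Helper3.KL

variable {Ω : Type*} [Group Ω] {S : Subgroup Ω}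

/-- **The proper-normalizer case.** `T < S`, `N ≤ F` a system on `T`; if the normalizer systems in `F`
of all nontrivial fully normalized subgroups with normalizer larger than `T` are inner, then the
normalizer system in `N` of every nontrivial subgroup of `T` normalized by `N_S(T)` is inner.
(Copy of helper3's `isInner_normalizer_of_char` with the characteristic hypothesis weakened.) -/
theorem isInner_normalizer_of_normalized [Finite S] (p : ℕ) [Fact p.Prime] (hS : IsPGroup p S)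
    (F : FusionSystem S) (hF : F.IsSaturated p) {T : Subgroup Ω} (hTS : T ≤ S) (hTne : T ≠ S)
    (N : FusionSystem T) (hNF : ∀ P : Subgroup Ω, N.Hom P ⊆ F.Hom P)
    (hmax : ∀ X' : Subgroup Ω, X' ≠ ⊥ → F.IsFullyNormalized X' →
      Nat.card T < Nat.card (normalizerIn S X') →
      ∀ N' : FusionSystem (normalizerIn S X'), F.IsNormalizerSystem X' N' → IsInner N')
    (X : Subgroup Ω) (hXT : X ≤ T) (hX1 : X ≠ ⊥)
    (hXn : ∀ s ∈ S, s ∈ Subgroup.normalizer (T : Set Ω) → s ∈ Subgroup.normalizer (X : Set Ω))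
    (M : FusionSystem (normalizerIn T X)) (hM : N.IsNormalizerSystem X M)
    (hMsat : M.IsSaturated p) : IsInner M := by
  have hNTS : normalizerIn T X ≤ S := normalizerIn_le.trans hTS
  have hNTp : IsPGroup p (normalizerIn T X) := hS.to_le hNTS
  haveI : Finite (normalizerIn T X) := finite_of_le_finite hNTS
  apply isInner_of_forall_pow p hNTp M hMsat
  intro U hU α hα
  rw [hM U] at hα
  obtain ⟨-, hUN, -, ψ, hψ, hψext, hψmap⟩ := hα
  have hψF : ψ ∈ F.Hom (U ⊔ X) := hNF _ hψ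
  have hVT : U ⊔ X ≤ T := (N.le_of_mem hψ).1
  -- the bigger normalizer
  obtain ⟨s, hsN, hsT⟩ := exists_mem_normalizerIn_not_mem hS hTS hTne
  have hTX : T ≤ normalizerIn S X := by
    intro t ht
    exact ⟨hTS ht, hXn t (hTS ht) (Subgroup.le_normalizer ht)⟩
  have hs : s ∈ normalizerIn S X := ⟨hsN.1, hXn s hsN.1 hsN.2⟩
  have hcard : Nat.card T < Nat.card (normalizerIn S X) :=
    card_lt_of_le_of_mem normalizerIn_le hTX hs hsT
  obtain ⟨X', hconj, hfa, hrec⟩ := hF X (hXT.trans hTS)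
  have hfn := isFullyNormalized_of_fa_receptive p hS F hfa hrec
  obtain ⟨χ, hχ, hχN, hχX, hχmap⟩ := exists_normalizer_map p hS F X' X hfa hrec hconj
  haveI : Finite (normalizerIn S X') := finite_of_le_finite normalizerIn_le
  have hcard2 : Nat.card (normalizerIn S X) ≤ Nat.card (normalizerIn S X') := by
    refine Nat.card_le_card_of_injective (fun c => ⟨χ c, hχN c⟩) ?_
    intro c d hcd
    exact F.injective_of_mem hχ (congrArg Subtype.val hcd)
  have hX'1 : X' ≠ ⊥ := by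
    obtain ⟨φ, hφ, rfl⟩ := hconj
    exact range_ne_bot (F.injective_of_mem hφ) hX1
  obtain ⟨N', hN'⟩ := Cfsg.Agent.S5096.result F X' hfn.1
  have hN'i := hmax X' hX'1 hfn (lt_of_lt_of_le hcard hcard2) N' hN'
  -- ψ is an automorphism of V = U ⊔ X
  have hψX : ∀ (b : Ω) (hb : b ∈ X), ψ ⟨b, (le_sup_right : X ≤ U ⊔ X) hb⟩ ∈ X := by
    intro b hb
    have h0 : ψ ⟨b, (le_sup_right : X ≤ U ⊔ X) hb⟩ ∈ (X.subgroupOf (U ⊔ X)).map ψ :=
      (mem_map_subgroupOf ψ).mpr ⟨b, _, hb, rfl⟩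
    exact hψmap.le h0
  have hψV : ∀ z : ↥(U ⊔ X), ψ z ∈ U ⊔ X := by
    apply sup_hom_mem ψ (U ⊔ X)
    · intro a ha
      have := hψext ⟨a, ha⟩
      have e : (Subgroup.inclusion le_sup_left ⟨a, ha⟩ : ↥(U ⊔ X)) = ⟨a, le_sup_left (b := X) ha⟩ := rfl
      rw [e] at this
      rw [this]
      exact le_sup_left (b := X) (α ⟨a, ha⟩).2
    · intro b hb
      exact le_sup_right (a := U) (hψX b hb)
  haveI : Finite ↥(U ⊔ X) := finite_of_le_finite (hVT.trans hTS)
  have hψr : ψ.range = U ⊔ X := by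
    have hle : ψ.range ≤ U ⊔ X := by rintro _ ⟨z, rfl⟩; exact hψV z
    apply Subgroup.eq_of_le_of_card_ge hle
    exact le_of_eq (Nat.card_congr (homEquiv F hψF).toEquiv)
  obtain ⟨β, hβ, hβψ⟩ := aut_of_range_eq F hψF hψr
  -- transport by χ
  have hVN : U ⊔ X ≤ normalizerIn S X := hVT.trans hTX
  have hχV := restrict_mem F hVN hχ
  set χV := χ.comp (Subgroup.inclusion hVN) with hχVdef
  have hβ' := congr_mem_autGroup F hχV hβ
  set e := homEquiv F hχV with he
  have hX'V : X' ≤ χV.range := by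
    intro y hy
    rw [← hχmap] at hy
    obtain ⟨x, hxN, hxX, rfl⟩ := (mem_map_subgroupOf χ).mp hy
    exact ⟨⟨x, le_sup_right (a := U) hxX⟩, rfl⟩
  have hVN' : χV.range ≤ normalizerIn S X' := by
    rintro _ ⟨v, rfl⟩
    exact hχN _
  have hβ'F := (mem_autGroup_iff F (range_le F hχV) _).mp hβ'
  have hβ'X : ∀ (y : Ω) (hy : y ∈ X'),
      (χV.range.subtype.comp (MulAut.congr e β).toMonoidHom) ⟨y, hX'V hy⟩ ∈ X' := by
    intro y hy
    have hy' := hy
    rw [← hχmap] at hy'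
    obtain ⟨x, hxN, hxX, hxy⟩ := (mem_map_subgroupOf χ).mp hy'
    have hxV : x ∈ U ⊔ X := le_sup_right (a := U) hxX
    have e1 : (⟨y, hX'V hy⟩ : χV.range) = e ⟨x, hxV⟩ := Subtype.ext hxy.symm
    show ((MulAut.congr e β ⟨y, hX'V hy⟩ : χV.range) : Ω) ∈ X'
    rw [e1]
    have e2 : MulAut.congr e β (e ⟨x, hxV⟩) = e (β ⟨x, hxV⟩) := by
      show e (β (e.symm (e ⟨x, hxV⟩))) = _
      rw [MulEquiv.symm_apply_apply]
    rw [e2, he, homEquiv_apply_coe]
    have h3 : ((β ⟨x, hxV⟩ : ↥(U ⊔ X)) : Ω) ∈ X := by rw [hβψ]; exact hψX x hxX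
    show χ ⟨((β ⟨x, hxV⟩ : ↥(U ⊔ X)) : Ω), _⟩ ∈ X'
    exact hχX _ h3 _
  obtain ⟨g, hg, hgβ⟩ := exists_conj_of_isInner_normalizer F N' hN' hN'i hX'V hVN' hβ'F hβ'X
  obtain ⟨k, hk⟩ := aut_pow_eq_one_of_conj hS (MulAut.congr e β) g (normalizerIn_le hg)
    (fun x => hgβ x)
  have hβk : β ^ p ^ k = 1 := by
    have h3 : MulAut.congr e (β ^ p ^ k) = 1 := by rw [map_pow]; exact hk
    exact (MulEquiv.map_eq_one_iff _).mp h3
  refine ⟨k, ?_⟩
  ext u
  have h4 := aut_pow_restrict (le_sup_left : U ≤ U ⊔ X) α β (fun u => by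
    rw [hβψ]; exact hψext u) (p ^ k) u
  rw [hβk] at h4
  rw [← h4]
  rfl

end Cfsg.Agent.Helper25.DGT
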