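import Mathlib
import Cfsg.Agent.Lib.Helper25.DGT1
import Cfsg.Agent.Lib.Helper3.KLApply
import Cfsg.Agent.Lib.Helper3.KLGroup
import Cfsg.Agent.Lib.Helper4.ZJMap
import Cfsg.Agent.Lib.Helper19.PGroupBasic
import Cfsg.Agent.Lib.Helper25.FusionInvariant

/-!
# Glauberman--Thompson for strongly closed subgroups of fusion systems, part 2

Basic lemmas: the local hypothesis `LocD`, strongly closed subgroups in subsystems and factor
systems, the behaviour of `Z(J(D))` under maps.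
-/

set_option autoImplicit false
set_option linter.style.haveILetI false
set_option linter.unusedSectionVars false

namespace Cfsg.Agent.Helper25.DGT

open Cfsg Cfsg.FusionSystem Cfsg.Agent.Helper25 Cfsg.Agent.Helper3.KL

variable {Ω : Type*} [Group Ω] {S : Subgroup Ω}

/-- the local hypothesis: `N_F(Z(J(D)))` is inner -/
def LocD (F : FusionSystem S) (D : Subgroup Ω) : Prop :=
  ∀ N : FusionSystem (normalizerIn S (centerThompsonAOf D)),
    F.IsNormalizerSystem (centerThompsonAOf D) N → IsInner N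

theorem stronglyClosed_inf (F : FusionSystem S) {T : Subgroup Ω} (N : FusionSystem T)
    (hNF : ∀ P : Subgroup Ω, N.Hom P ⊆ F.Hom P) {D : Subgroup Ω} (hD : F.StronglyClosed D) :
    N.StronglyClosed (D ⊓ T) := by
  refine ⟨inf_le_right, fun R hR φ hφ x => ⟨?_, (N.le_of_mem hφ).2 x⟩⟩
  exact hD.2 R (hR.trans inf_le_left) φ (hNF _ hφ) x

theorem zj_map_sub {H : Type*} [Group H] {V D : Subgroup Ω} (hDV : D ≤ V) (ψ : V →* H)
    (hψ : Function.Injective ψ) :
    centerThompsonAOf ((D.subgroupOf V).map ψ) = ((centerThompsonAOf D).subgroupOf V).map ψ := by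
  obtain ⟨f, hf⟩ : ∃ f : D →* H, f = ψ.comp (Subgroup.inclusion hDV) := ⟨_, rfl⟩
  have hfinj : Function.Injective f := by
    rw [hf]; exact hψ.comp (Subgroup.inclusion_injective hDV)
  have hr : f.range = (D.subgroupOf V).map ψ := by
    ext y
    constructor
    · rintro ⟨d, rfl⟩
      exact ⟨Subgroup.inclusion hDV d, Subgroup.mem_subgroupOf.mpr d.2, by rw [hf]; rfl⟩
    · rintro ⟨v, hv, rfl⟩
      exact ⟨⟨v, Subgroup.mem_subgroupOf.mp hv⟩, by rw [hf]; rfl⟩
  rw [← hr, centerThompsonAOf_range f hfinj, centerThompsonAOf_eq D]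
  ext y
  constructor
  · rintro ⟨z, hz, rfl⟩
    exact ⟨Subgroup.inclusion hDV z, Subgroup.mem_subgroupOf.mpr ⟨z, hz, rfl⟩, by rw [hf]; rfl⟩
  · rintro ⟨v, hv, rfl⟩
    obtain ⟨z, hz, hzv⟩ := Subgroup.mem_subgroupOf.mp hv
    refine ⟨z, hz, ?_⟩
    rw [hf]
    show ψ (Subgroup.inclusion hDV z) = ψ v
    congr 1
    exact Subtype.ext hzv

theorem map_eq_of_stronglyClosed [Finite S] (F : FusionSystem S) {D V : Subgroup Ω}
    (hD : F.StronglyClosed D) (hDV : D ≤ V) {ψ : V →* Ω} (hψ : ψ ∈ F.Hom V) :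
    (D.subgroupOf V).map ψ = D := by
  haveI : Finite D := finite_of_le_finite hD.1
  have hle : (D.subgroupOf V).map ψ ≤ D := by
    rintro _ ⟨x, hx, rfl⟩
    have h1 := restrict_mem F hDV hψ
    exact hD.2 D le_rfl _ h1 ⟨(x : Ω), Subgroup.mem_subgroupOf.mp hx⟩
  apply Subgroup.eq_of_le_of_card_ge hle
  have e1 : Nat.card ((D.subgroupOf V).map ψ) = Nat.card (D.subgroupOf V) :=
    Nat.card_congr ((D.subgroupOf V).equivMapOfInjective ψ (F.injective_of_mem hψ)).toEquiv.symm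
  have e2 : Nat.card (D.subgroupOf V) = Nat.card D :=
    Nat.card_congr (Subgroup.subgroupOfEquivOfLe hDV).toEquiv
  rw [e1, e2]

theorem zj_map_eq [Finite S] (F : FusionSystem S) {D V : Subgroup Ω}
    (hD : F.StronglyClosed D) (hDV : D ≤ V) {ψ : V →* Ω} (hψ : ψ ∈ F.Hom V) :
    ((centerThompsonAOf D).subgroupOf V).map ψ = centerThompsonAOf D := by
  rw [← zj_map_sub hDV ψ (F.injective_of_mem hψ), map_eq_of_stronglyClosed F hD hDV hψ]

theorem le_normalizer_zj (F : FusionSystem S) {D : Subgroup Ω} (hD : F.StronglyClosed D) :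
    S ≤ Subgroup.normalizer ((centerThompsonAOf D : Subgroup Ω) : Set Ω) := by
  intro s hs
  exact normalizer_le_of_char (zjOf_le D) (zjOf_char D) (mem_normalizer_of_stronglyClosed hD hs)

/-- If `D ≤ Q` then `N_F(Q) ≤ N_F(Z(J(D)))`. -/
theorem normalizerHom_subset_zj [Finite S] (F : FusionSystem S) {D Q : Subgroup Ω}
    (hD : F.StronglyClosed D) (hDQ : D ≤ Q) (P : Subgroup Ω) :
    F.normalizerHom Q P ⊆ F.normalizerHom (centerThompsonAOf D) P := by
  rintro φ ⟨hφ, hPN, hφN, ψ, hψ, hψext, hψmap⟩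
  have hPS : P ≤ S := (F.le_of_mem hφ).1
  have hNW : normalizerIn S (centerThompsonAOf D) = S :=
    normalizerIn_eq_of_le (le_normalizer_zj F hD)
  have hWD : centerThompsonAOf D ≤ D := zjOf_le D
  have hle : P ⊔ centerThompsonAOf D ≤ P ⊔ Q := sup_le le_sup_left ((hWD.trans hDQ).trans le_sup_right)
  have h1 := zj_map_eq F hD (hDQ.trans le_sup_right) hψ
  have h1' : ∀ y : Ω, y ∈ ((centerThompsonAOf D).subgroupOf (P ⊔ Q)).map ψ ↔
      y ∈ centerThompsonAOf D := fun y => by rw [h1]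
  refine ⟨hφ, ?_, fun x => ?_,
    ψ.comp (Subgroup.inclusion hle), restrict_mem F hle hψ, fun x => ?_, ?_⟩
  · rw [hNW]; exact hPS
  · rw [hNW]; exact (F.le_of_mem hφ).2 x
  · rw [← hψext x]; rfl
  · ext y
    rw [mem_map_subgroupOf]
    constructor
    · rintro ⟨x, hxK, hxW, rfl⟩
      apply (h1' _).mp
      rw [mem_map_subgroupOf]
      exact ⟨x, hle hxK, hxW, rfl⟩
    · intro hy
      have hy' := (h1' y).mpr hy
      rw [mem_map_subgroupOf] at hy'
      obtain ⟨x, hxK, hxW, rfl⟩ := hy'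
      exact ⟨x, le_sup_right (a := P) hxW, hxW, rfl⟩

end Cfsg.Agent.Helper25.DGT
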