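import Mathlib
import Cfsg.Agent.Lib.Helper25.DGT2
import Cfsg.Agent.Lib.Helper3.KLSkeleton

/-!
# Glauberman--Thompson for strongly closed subgroups of fusion systems, part 3

Strongly closed subgroups in factor systems; the factor system modulo a normal subgroup not
containing `D` is inner (induction step).
-/

set_option autoImplicit false
set_option linter.style.haveILetI false
set_option linter.unusedSectionVars false

namespace Cfsg.Agent.Helper25.DGT

open Cfsg Cfsg.FusionSystem Cfsg.Agent.Helper25 Cfsg.Agent.Helper3.KL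

universe u

theorem stronglyClosed_factor {Ω : Type*} [Group Ω] {S : Subgroup Ω} {Ω' : Type*} [Group Ω']
    {S' : Subgroup Ω'} (N : FusionSystem S) (Q : Subgroup Ω)
    (θ : S →* Ω') (E : FusionSystem S') (hE : N.IsFactorSystem Q θ E) {D : Subgroup Ω}
    (hD : N.StronglyClosed D) : E.StronglyClosed ((D.subgroupOf S).map θ) := by
  obtain ⟨-, hker, hrange, hHom⟩ := hE
  refine ⟨?_, fun R' hR' φ' hφ' x' => ?_⟩
  · rintro _ ⟨s, -, rfl⟩
    rw [← hrange]; exact ⟨s, rfl⟩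
  · obtain ⟨hR'S, φ, hφ, hP, hφS, hP', hind⟩ := (hHom R' φ').mp hφ'
    obtain ⟨d, hd, hdx⟩ := hR' x'.2
    have hdD : (d : Ω) ∈ D := Subgroup.mem_subgroupOf.mp hd
    have hdR : (d : Ω) ∈ preimageAlong θ R' :=
      mem_preimageAlong.mpr ⟨d.2, by rw [Subtype.coe_eta, hdx]; exact x'.2⟩
    have h1 := hind ⟨d, hdR⟩
    have hφD : φ ⟨d, hdR⟩ ∈ D := by
      have hle : D ⊓ preimageAlong θ R' ≤ preimageAlong θ R' := inf_le_right
      have h2 := restrict_mem N hle hφ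
      exact hD.2 _ inf_le_left _ h2 ⟨d, hdD, hdR⟩
    have e : x' = ⟨θ ⟨d, hP hdR⟩, hP' ⟨d, hdR⟩⟩ := Subtype.ext hdx.symm
    rw [e, h1]
    exact ⟨⟨φ ⟨d, hdR⟩, hφS _⟩, Subgroup.mem_subgroupOf.mpr hφD, rfl⟩

variable {p : ℕ} [Fact p.Prime]

/-- The factor system modulo a nontrivial normal subgroup `Q` not containing `D` is inner,
provided the induction hypothesis holds and normalizers of larger normal subgroups are inner. -/
theorem exists_inner_factorD {Ω : Type u} [Group Ω] {T : Subgroup Ω}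
    [Finite T] (hT : IsPGroup p T)
    (ih : ∀ m < Nat.card T, ∀ {Ω' : Type u} [Group Ω'] {S' : Subgroup Ω'} [Finite S'],
      Nat.card S' = m → IsPGroup p S' → ∀ E : FusionSystem S', E.IsSaturated p →
      ∀ D' : Subgroup Ω', E.StronglyClosed D' → LocD E D' → IsInner E)
    (N : FusionSystem T) (hN : N.IsSaturated p) (D : Subgroup Ω) (hD : N.StronglyClosed D)
    (Q : Subgroup Ω)
    (hQ : N.IsNormal Q) (hQ1 : Q ≠ ⊥) (hQn : T ≤ Subgroup.normalizer (Q : Set Ω))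
    (hDQ : ¬ D ≤ Q)
    (KB : ∀ R : Subgroup Ω, Q ≤ R → R ≤ T → T ≤ Subgroup.normalizer (R : Set Ω) →
      Nat.card Q < Nat.card R → ∀ (K : Subgroup Ω) (hRK : R ≤ K) (ψ : K →* Ω), ψ ∈ N.Hom K →
      (∀ (x : Ω) (hx : x ∈ R), ψ ⟨x, hRK hx⟩ ∈ R) → ∃ g ∈ T, ∀ x : K, ψ x = g * (x : Ω) * g⁻¹) :
    ∃ (Ω' : Type u) (_ : Group Ω') (S' : Subgroup Ω') (θ : T →* Ω') (E : FusionSystem S'),
      N.IsFactorSystem Q θ E ∧ IsInner E := by
  have hQT : Q ≤ T := hQ.1
  haveI : (Q.subgroupOf T).Normal := (Subgroup.normal_subgroupOf_iff_le_normalizer hQT).mpr hQn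
  have hsc := stronglyClosed_of_isNormal N hQ
  obtain ⟨E, hE⟩ := Cfsg.Agent.S5132.result p hT N Q hsc
  set θ := QuotientGroup.mk' (Q.subgroupOf T) with hθ
  refine ⟨_, _, _, θ, E, hE, ?_⟩
  have hEsat : E.IsSaturated p :=
    Cfsg.Agent.S5133.result p hT N hN E θ (Cfsg.Agent.S5134.result p hT N hN Q hsc θ E hE)
  have hT' : IsPGroup p (⊤ : Subgroup (T ⧸ Q.subgroupOf T)) :=
    (hT.to_quotient _).to_subgroup _
  by_cases htop : (⊤ : Subgroup (T ⧸ Q.subgroupOf T)) = ⊥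
  · exact isInner_of_bot E htop
  haveI : Finite Q := finite_of_le_finite hQT
  have hcardQ : 1 < Nat.card Q := by
    rw [Finite.one_lt_card_iff_nontrivial]
    exact (Subgroup.nontrivial_iff_ne_bot Q).mpr hQ1
  have hcard : Nat.card (⊤ : Subgroup (T ⧸ Q.subgroupOf T)) < Nat.card T := by
    rw [Subgroup.card_top, Subgroup.card_eq_card_quotient_mul_card_subgroup (Q.subgroupOf T)]
    have h1 : Nat.card (Q.subgroupOf T) = Nat.card Q :=
      Nat.card_congr (Subgroup.subgroupOfEquivOfLe hQT).toEquiv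
    rw [h1]
    have h2 : 0 < Nat.card (T ⧸ Q.subgroupOf T) := Nat.card_pos
    nlinarith
  have hker : ∀ t : T, θ t = 1 ↔ (t : Ω) ∈ Q := hE.2.1
  -- the image of `D`
  set D' : Subgroup (T ⧸ Q.subgroupOf T) := (D.subgroupOf T).map θ with hD'
  have hD'sc : E.StronglyClosed D' := stronglyClosed_factor N Q θ E hE hD
  have hD'1 : D' ≠ ⊥ := by
    intro h
    apply hDQ
    intro d hd
    have hdT : d ∈ T := hD.1 hd
    have h1 : θ ⟨d, hdT⟩ ∈ D' := ⟨⟨d, hdT⟩, Subgroup.mem_subgroupOf.mpr hd, rfl⟩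
    rw [h, Subgroup.mem_bot] at h1
    exact (hker ⟨d, hdT⟩).mp h1
  have hD'p : IsPGroup p D' := (hT.to_quotient _).to_subgroup _
  apply ih _ hcard rfl hT' E hEsat D' hD'sc
  suffices key : ∀ X' : Subgroup (T ⧸ Q.subgroupOf T), X' ≤ D' → X' ≠ ⊥ →
      ((X'.subgroupOf D').Characteristic) →
      ∀ M : FusionSystem (normalizerIn (⊤ : Subgroup (T ⧸ Q.subgroupOf T)) X'),
        E.IsNormalizerSystem X' M → IsInner M by
    intro M hM
    exact key _ (zjOf_le D') (zjOf_ne_bot p hD'p hD'1) (zjOf_char D') M hM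
  intro X' hX'D hX'1 hX'c M hM
  have hX'n : ∀ (g y : T ⧸ Q.subgroupOf T), y ∈ X' → g * y * g⁻¹ ∈ X' := by
    intro g y hy
    have h1 : g ∈ Subgroup.normalizer (D' : Set (T ⧸ Q.subgroupOf T)) :=
      mem_normalizer_of_stronglyClosed hD'sc (Subgroup.mem_top g)
    have h2 := normalizer_le_of_char hX'D hX'c h1
    exact (Subgroup.mem_normalizer_iff.mp h2 y).mp hy
  apply isInner_normalizer_factor N Q θ E hE X' ?_ M hM
  set R := preimageAlong θ X' with hR
  have hQR : Q ≤ R := by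
    intro x hx
    rw [hR, mem_preimageAlong]
    refine ⟨hQT hx, ?_⟩
    rw [(hker ⟨x, hQT hx⟩).mpr hx]
    exact X'.one_mem
  have hRT : R ≤ T := preimageAlong_le θ X'
  have hRn : T ≤ Subgroup.normalizer (R : Set Ω) := by
    have key : ∀ t ∈ T, ∀ y ∈ R, t * y * t⁻¹ ∈ R := by
      intro t ht y hy
      obtain ⟨hyT, hy'⟩ := mem_preimageAlong.mp hy
      rw [hR, mem_preimageAlong]
      refine ⟨T.mul_mem (T.mul_mem ht hyT) (T.inv_mem ht), ?_⟩
      have e : (⟨t * y * t⁻¹, T.mul_mem (T.mul_mem ht hyT) (T.inv_mem ht)⟩ : T) =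
          ⟨t, ht⟩ * ⟨y, hyT⟩ * ⟨t, ht⟩⁻¹ := Subtype.ext rfl
      rw [e, map_mul, map_mul, map_inv]
      exact hX'n _ _ hy'
    intro t ht
    apply mem_normalizer_of_forall
    · exact key t ht
    · intro y hy
      have := key t⁻¹ (T.inv_mem ht) y hy
      rwa [inv_inv] at this
  have hlt : Nat.card Q < Nat.card R := by
    obtain ⟨x', hx'1⟩ := (Subgroup.ne_bot_iff_exists_ne_one.mp hX'1)
    have hx'' : (x' : T ⧸ Q.subgroupOf T) ≠ 1 := fun h => hx'1 (Subtype.ext h)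
    obtain ⟨t, ht⟩ := QuotientGroup.mk'_surjective (Q.subgroupOf T) (x' : T ⧸ Q.subgroupOf T)
    have htR : (t : Ω) ∈ R := by
      rw [hR, mem_preimageAlong]
      refine ⟨t.2, ?_⟩
      show θ t ∈ X'
      rw [hθ, ht]; exact x'.2
    have htQ : (t : Ω) ∉ Q := by
      intro h
      apply hx''
      rw [← ht]
      exact (hker t).mpr h
    exact card_lt_of_le_of_mem hRT hQR htR htQ
  intro K hRK ψ hψ hψR
  exact KB R hQR hRT hRn hlt K hRK ψ hψ hψR

end Cfsg.Agent.Helper25.DGT
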