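import Mathlib
import Cfsg.Agent.Lib.Helper25.DGT3
import Cfsg.Agent.Lib.Helper3.ModelTransport
import Cfsg.Agent.S3082

/-!
# Glauberman--Thompson for strongly closed subgroups of fusion systems, part 4

The constrained case (via the group theorem S3082) and the induction.
-/

set_option autoImplicit false
set_option linter.style.haveILetI false
set_option linter.unusedSectionVars false

namespace Cfsg.Agent.Helper25.DGT

open Cfsg Cfsg.FusionSystem Cfsg.Agent.Helper25 Cfsg.Agent.Helper3.KL Cfsg.Agent.Helper3.Model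

universe u

theorem isStronglyClosed_map {Ω : Type*} [Group Ω] {S : Subgroup Ω} (N : FusionSystem S)
    {G : Type*} [Group G] (ι : S →* G) (hreal : N.IsRealizedBy ι) {D : Subgroup Ω}
    (hD : N.StronglyClosed D) : IsStronglyClosed ((D.subgroupOf S).map ι) ι.range := by
  refine ⟨?_, ?_⟩
  · rintro _ ⟨s, -, rfl⟩; exact ⟨s, rfl⟩
  · rintro _ ⟨d, hd, rfl⟩ g hg
    have hdD : (d : Ω) ∈ D := Subgroup.mem_subgroupOf.mp hd
    have hP : Subgroup.zpowers (d : Ω) ≤ S := (Subgroup.zpowers_le).mpr d.2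
    have hPD : Subgroup.zpowers (d : Ω) ≤ D := (Subgroup.zpowers_le).mpr hdD
    have hconj : ∀ x : Subgroup.zpowers (d : Ω), g * ι ⟨x, hP x.2⟩ * g⁻¹ ∈ ι.range := by
      rintro ⟨x, k, rfl⟩
      have e : (⟨(d : Ω) ^ k, hP ⟨k, rfl⟩⟩ : S) = d ^ k := Subtype.ext (by simp)
      rw [e, map_zpow]
      have e2 : g * ι d ^ k * g⁻¹ = (g * ι d * g⁻¹) ^ k := by
        rw [← MulAut.conj_apply, map_zpow, MulAut.conj_apply]
      rw [e2]
      exact Subgroup.zpow_mem _ hg k
    obtain ⟨ψ, hψ, hψS, hιψ⟩ := exists_hom_of_conj N hreal hP g hconj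
    have hdz : (d : Ω) ∈ Subgroup.zpowers (d : Ω) := Subgroup.mem_zpowers _
    have h1 := hιψ ⟨d, hdz⟩
    have h2 : ψ ⟨d, hdz⟩ ∈ D := hD.2 _ hPD ψ hψ ⟨d, hdz⟩
    rw [Subtype.coe_eta] at h1
    rw [← h1]
    exact ⟨⟨ψ ⟨d, hdz⟩, hψS _⟩, Subgroup.mem_subgroupOf.mpr h2, rfl⟩

/-- The constrained case. -/
theorem isInner_of_constrained {Ω : Type u} [Group Ω] {S : Subgroup Ω} [Finite S] (p : ℕ)
    [Fact p.Prime] (hp : p ≠ 2) (hS : IsPGroup p S)
    (N : FusionSystem S) (hNsat : N.IsSaturated p) (Q : Subgroup Ω) (hQn : N.IsNormal Q)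
    (hQc : N.IsCentric Q) (D : Subgroup Ω) (hD : N.StronglyClosed D) (hloc : LocD N D) :
    IsInner N := by
  obtain ⟨G, _, ι, hm⟩ := exists_model p hS N ⟨hNsat, Q, hQn, hQc⟩
  apply isInner_of_isModel_of_npc p N ι hm
  obtain ⟨hfin, hreal, ⟨T, hT⟩, hcen⟩ := hm
  haveI := hfin
  have hsc : IsStronglyClosed ((D.subgroupOf S).map ι) (T : Subgroup G) := by
    rw [hT]; exact isStronglyClosed_map N ι hreal hD
  apply Cfsg.Agent.S3082.result hp T _ hsc
  left
  rw [zj_map_sub hD.1 ι hreal.1]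
  have hWS : centerThompsonAOf D ≤ S := (zjOf_le D).trans hD.1
  obtain ⟨M, hM⟩ := Cfsg.Agent.S5096.result N (centerThompsonAOf D) hWS
  exact npc_normalizer_of_inner p hS N ι hreal T hT _ hWS (le_normalizer_zj N hD) M hM (hloc M hM)

theorem locD_sub {Ω : Type*} [Group Ω] {S : Subgroup Ω} (F : FusionSystem S) {D : Subgroup Ω}
    (hD : F.StronglyClosed D)
    (hloc : LocD F D) (T : Subgroup Ω) (N : FusionSystem T) (hTS : T = S)
    (hNF : ∀ P : Subgroup Ω, N.Hom P ⊆ F.Hom P) : LocD N D := by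
  subst hTS
  intro M hM
  exact isInner_normalizer_of_subsystem hNF _ ((zjOf_le D).trans hD.1) hloc M hM

/-- every map of `F` lies in `N_F(⊥)` -/
theorem mem_normalizerHom_bot {Ω : Type*} [Group Ω] {S : Subgroup Ω} (F : FusionSystem S)
    {P : Subgroup Ω} {φ : P →* Ω} (hφ : φ ∈ F.Hom P) : φ ∈ F.normalizerHom ⊥ P := by
  have hPS := (F.le_of_mem hφ).1
  have hle : P ⊔ ⊥ ≤ P := sup_le le_rfl bot_le
  have hN : normalizerIn S (⊥ : Subgroup Ω) = S := by
    apply normalizerIn_eq_of_le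
    intro s _
    rw [Subgroup.mem_normalizer_iff]
    intro h
    simp only [Subgroup.mem_bot]
    constructor
    · rintro rfl; simp
    · intro h1
      have : h = s⁻¹ * (s * h * s⁻¹) * s := by group
      rw [this, h1]; simp
  refine ⟨hφ, ?_, fun x => ?_, φ.comp (Subgroup.inclusion hle), restrict_mem F hle hφ,
    fun x => rfl, ?_⟩
  · rw [hN]; exact hPS
  · rw [hN]; exact (F.le_of_mem hφ).2 x
  · rw [eq_bot_iff]
    rintro _ ⟨x, hx, rfl⟩
    have hx1 : (x : Ω) = 1 := Subgroup.mem_bot.mp (Subgroup.mem_subgroupOf.mp hx)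
    have hx2 : x = 1 := Subtype.ext hx1
    rw [hx2, map_one]
    exact Subgroup.one_mem _

theorem inf_normalizerIn_ne_bot {Ω : Type*} [Group Ω] {S : Subgroup Ω} [Finite S] (p : ℕ)
    [Fact p.Prime] (hS : IsPGroup p S) (F : FusionSystem S) {D : Subgroup Ω}
    (hD : F.StronglyClosed D) (hD1 : D ≠ ⊥) {P₀ : Subgroup Ω} (hP₀ : P₀ ≤ S) :
    D ⊓ normalizerIn S P₀ ≠ ⊥ := by
  have hDn : (D.subgroupOf S).Normal :=
    (Subgroup.normal_subgroupOf_iff_le_normalizer hD.1).2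
      (fun s hs => mem_normalizer_of_stronglyClosed hD hs)
  have hne : D.subgroupOf S ≠ ⊥ := by
    intro h
    apply hD1
    rw [eq_bot_iff]
    intro d hd
    have : (⟨d, hD.1 hd⟩ : S) ∈ D.subgroupOf S := Subgroup.mem_subgroupOf.2 hd
    rw [h, Subgroup.mem_bot] at this
    rw [Subgroup.mem_bot]
    exact congrArg Subtype.val this
  have h1 := Cfsg.Agent.Helper19.normal_inf_center_ne_bot hS (D.subgroupOf S) hne
  intro h0
  apply h1
  rw [eq_bot_iff]
  rintro ⟨z, hzS⟩ ⟨hzD, hzZ⟩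
  have hz : z ∈ D ⊓ normalizerIn S P₀ := by
    refine ⟨Subgroup.mem_subgroupOf.1 hzD, hzS, ?_⟩
    have hcomm : ∀ y ∈ S, z * y = y * z := by
      intro y hy
      have := Subgroup.mem_center_iff.1 hzZ ⟨y, hy⟩
      exact (congrArg Subtype.val this).symm
    apply mem_normalizer_of_forall
    · intro y hy
      have : z * y * z⁻¹ = y := by rw [hcomm y (hP₀ hy)]; group
      rw [this]; exact hy
    · intro y hy
      have : z⁻¹ * y * z = y := by rw [mul_assoc, ← hcomm y (hP₀ hy)]; group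
      rw [this]; exact hy
  rw [h0, Subgroup.mem_bot] at hz
  rw [Subgroup.mem_bot]
  exact Subtype.ext hz

theorem mem_normalizer_inf' {Ω : Type*} [Group Ω] {A B : Subgroup Ω} {g : Ω}
    (hA : g ∈ Subgroup.normalizer (A : Set Ω)) (hB : g ∈ Subgroup.normalizer (B : Set Ω)) :
    g ∈ Subgroup.normalizer ((A ⊓ B : Subgroup Ω) : Set Ω) := by
  rw [Subgroup.mem_normalizer_iff] at hA hB ⊢
  intro h
  rw [Subgroup.mem_inf, Subgroup.mem_inf, hA h, hB h]

end Cfsg.Agent.Helper25.DGT
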