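import Mathlib
import Cfsg.Agent.Lib.Helper25.DGT4

/-!
# Glauberman--Thompson for strongly closed subgroups of fusion systems, part 5

The induction (a `D`-version of helper3's Kessar--Linckelmann skeleton).
-/

set_option autoImplicit false
set_option linter.style.haveILetI false
set_option linter.unusedSectionVars false

namespace Cfsg.Agent.Helper25.DGT

open Cfsg Cfsg.FusionSystem Cfsg.Agent.Helper25 Cfsg.Agent.Helper3.KL Cfsg.Agent.Helper3.Model

universe u

variable {p : ℕ} [Fact p.Prime]

/-- **Glauberman--Thompson for strongly closed subgroups**, `p` odd: if `N_F(Z(J(D)))` is inner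
then `F` is inner. -/
theorem skeletonD (hp : p ≠ 2) : ∀ (n : ℕ) {Ω : Type u} [Group Ω] {S : Subgroup Ω}
    [Finite S], Nat.card S = n → IsPGroup p S → ∀ F : FusionSystem S, F.IsSaturated p →
    ∀ D : Subgroup Ω, F.StronglyClosed D → LocD F D → IsInner F := by
  intro n
  induction n using Nat.strong_induction_on with
  | _ n ih =>
  intro Ω _ S _ hcard hS F hF D hD hloc
  subst hcard
  have hWS : centerThompsonAOf D ≤ S := (zjOf_le D).trans hD.1
  obtain ⟨M₀, hM₀⟩ := Cfsg.Agent.S5096.result F (centerThompsonAOf D) hWS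
  have hM₀i : IsInner M₀ := hloc M₀ hM₀
  -- the trivial case
  by_cases hD1 : D = ⊥
  · intro P φ hφ
    have h1 := normalizerHom_subset_zj F hD (hD1 ▸ le_rfl : D ≤ ⊥) P (mem_normalizerHom_bot F hφ)
    rw [← hM₀ P] at h1
    obtain ⟨g, hg, hgφ⟩ := hM₀i P φ h1
    exact ⟨g, normalizerIn_le hg, hgφ⟩
  by_contra hni
  -- the bad subgroups
  let Bad : Set (Subgroup Ω) := {P | P ≠ ⊥ ∧ F.IsFullyNormalized P ∧
    ∃ N : FusionSystem (normalizerIn S P), F.IsNormalizerSystem P N ∧ ¬ IsInner N}
  have hex : Bad.Nonempty := by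
    by_contra hno
    apply hni
    apply isInner_of_local p hS F hF
    intro P hP hfn N hN
    by_contra hNi
    exact hno ⟨P, hP, hfn, N, hN, hNi⟩
  have hfin : Bad.Finite := (finite_subgroups_le S).subset fun P hP => hP.2.1.1
  obtain ⟨P₀, hP₀, hmax₀⟩ := Set.exists_max_image Bad (fun P => Nat.card (normalizerIn S P)) hfin hex
  by_cases hT : normalizerIn S P₀ = S
  swap
  · -- Case A: proper normalizer
    obtain ⟨hP1, hfn, N, hN, hNi⟩ := hP₀
    apply hNi
    have hTS : normalizerIn S P₀ ≤ S := normalizerIn_le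
    have hTp : IsPGroup p (normalizerIn S P₀) := hS.to_le hTS
    haveI : Finite (normalizerIn S P₀) := finite_of_le_finite hTS
    have hNsat := normalizerSystem_isSaturated p hS F hF hfn N hN
    have hlt : Nat.card (normalizerIn S P₀) < Nat.card S := by
      refine lt_of_le_of_ne (Subgroup.card_le_of_le hTS) (fun h => hT ?_)
      exact Subgroup.eq_of_le_of_card_ge hTS h.ge
    have hNF : ∀ P : Subgroup Ω, N.Hom P ⊆ F.Hom P := by
      intro P φ hφ
      rw [hN P] at hφ
      exact hφ.1
    have hDT : N.StronglyClosed (D ⊓ normalizerIn S P₀) := stronglyClosed_inf F N hNF hD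
    have hDT1 : D ⊓ normalizerIn S P₀ ≠ ⊥ := inf_normalizerIn_ne_bot p hS F hD hD1 hfn.1
    apply ih _ hlt rfl hTp N hNsat (D ⊓ normalizerIn S P₀) hDT
    intro M hM
    have hDTS : D ⊓ normalizerIn S P₀ ≤ S := inf_le_right.trans hTS
    haveI : Finite ↥(D ⊓ normalizerIn S P₀) := finite_of_le_finite hDTS
    have hXT : centerThompsonAOf (D ⊓ normalizerIn S P₀) ≤ normalizerIn S P₀ :=
      (zjOf_le _).trans inf_le_right
    have hX1 : centerThompsonAOf (D ⊓ normalizerIn S P₀) ≠ ⊥ :=
      zjOf_ne_bot p (hS.to_le hDTS) hDT1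
    have hXn : ∀ s ∈ S, s ∈ Subgroup.normalizer ((normalizerIn S P₀ : Subgroup Ω) : Set Ω) →
        s ∈ Subgroup.normalizer
          ((centerThompsonAOf (D ⊓ normalizerIn S P₀) : Subgroup Ω) : Set Ω) := by
      intro s hs hsT
      exact normalizer_le_of_char (zjOf_le _) (zjOf_char _)
        (mem_normalizer_inf' (mem_normalizer_of_stronglyClosed hD hs) hsT)
    have hXnT : normalizerIn S P₀ ≤ Subgroup.normalizer
        ((centerThompsonAOf (D ⊓ normalizerIn S P₀) : Subgroup Ω) : Set Ω) :=
      fun t ht => hXn t (hTS ht) (Subgroup.le_normalizer ht)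
    have hMsat := normalizerSystem_isSaturated p hTp N hNsat
      (isFullyNormalized_of_normal N hXT hXnT) M hM
    refine isInner_normalizer_of_normalized p hS F hF hTS hT N hNF ?_ _ hXT hX1 hXn M hM hMsat
    intro X' hX'1 hX'fn hX'lt N' hN'
    by_contra hN'i
    have := hmax₀ X' ⟨hX'1, hX'fn, N', hN', hN'i⟩
    exact absurd hX'lt (not_lt.mpr this)
  · -- Case B: normal subgroups
    let Bad' : Set (Subgroup Ω) := {P | P ∈ Bad ∧ normalizerIn S P = S}
    have hfin' : Bad'.Finite := hfin.subset fun P hP => hP.1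
    obtain ⟨Q, hQB, hmaxQ⟩ := Set.exists_max_image Bad' (fun P => Nat.card P) hfin' ⟨P₀, hP₀, hT⟩
    obtain ⟨⟨hQ1, hfn, N, hN, hNi⟩, hQN⟩ := hQB
    apply hNi
    have hQS : Q ≤ S := hfn.1
    have hTS : normalizerIn S Q ≤ S := normalizerIn_le
    have hTp : IsPGroup p (normalizerIn S Q) := hS.to_le hTS
    haveI : Finite (normalizerIn S Q) := finite_of_le_finite hTS
    have hNsat := normalizerSystem_isSaturated p hS F hF hfn N hN
    have hQnormal : N.IsNormal Q := normalizerSystem_isNormal F hQS N hN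
    have hQT : Q ≤ normalizerIn S Q := le_normalizerIn hQS
    have hQn : normalizerIn S Q ≤ Subgroup.normalizer (Q : Set Ω) := inf_le_right
    have hNF : ∀ P : Subgroup Ω, N.Hom P ⊆ F.Hom P := by
      intro P φ hφ
      rw [hN P] at hφ
      exact hφ.1
    have hcardT : Nat.card (normalizerIn S Q) = Nat.card S := by rw [hQN]
    have hDN : N.StronglyClosed D :=
      ⟨fun d hd => hQN.ge (hD.1 hd), fun R hR φ hφ x => hD.2 R hR φ (hNF _ hφ) x⟩
    -- the case `D ≤ Q`
    by_cases hDQ : D ≤ Q
    · intro P φ hφ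
      rw [hN P] at hφ
      have h1 := normalizerHom_subset_zj F hD hDQ P hφ
      rw [← hM₀ P] at h1
      obtain ⟨g, hg, hgφ⟩ := hM₀i P φ h1
      exact ⟨g, hQN.ge (normalizerIn_le hg), hgφ⟩
    -- normalizers of larger normal subgroups are inner
    have KB : ∀ R : Subgroup Ω, Q ≤ R → R ≤ normalizerIn S Q →
        normalizerIn S Q ≤ Subgroup.normalizer (R : Set Ω) →
        Nat.card Q < Nat.card R → ∀ (K : Subgroup Ω) (hRK : R ≤ K) (ψ : K →* Ω), ψ ∈ N.Hom K →
        (∀ (x : Ω) (hx : x ∈ R), ψ ⟨x, hRK hx⟩ ∈ R) →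
        ∃ g ∈ normalizerIn S Q, ∀ x : K, ψ x = g * (x : Ω) * g⁻¹ := by
      intro R hQR hRT hRn hlt K hRK ψ hψ hψR
      have hRS : R ≤ S := hRT.trans hTS
      have hRn' : S ≤ Subgroup.normalizer (R : Set Ω) := hQN ▸ hRn
      have hR1 : R ≠ ⊥ := by
        intro h; apply hQ1; rw [eq_bot_iff, ← h]; exact hQR
      have hRfn := isFullyNormalized_of_normal F hRS hRn'
      obtain ⟨NR, hNR⟩ := Cfsg.Agent.S5096.result F R hRS
      have hNRi : IsInner NR := by
        by_contra hcon
        have := hmaxQ R ⟨⟨hR1, hRfn, NR, hNR, hcon⟩, normalizerIn_eq_of_le hRn'⟩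
        exact absurd hlt (not_lt.mpr this)
      have hKS : K ≤ S := ((N.le_of_mem hψ).1).trans hTS
      have hKN : K ≤ normalizerIn S R := by rw [normalizerIn_eq_of_le hRn']; exact hKS
      obtain ⟨g, hg, hgψ⟩ := exists_conj_of_isInner_normalizer F NR hNR hNRi hRK hKN (hNF _ hψ) hψR
      exact ⟨g, hQN.ge (normalizerIn_le hg), hgψ⟩
    obtain ⟨Ω', _, S', θ, E, hE, hEi⟩ := exists_inner_factorD hTp
      (fun m hm => ih m (hcardT ▸ hm)) N hNsat D hDN Q hQnormal hQ1 hQn hDQ KB
    by_cases hcen : centralizerIn (normalizerIn S Q) Q ≤ Q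
    · -- centric: the constrained case
      have hQc : N.IsCentric Q := by
        refine ⟨hQT, ?_⟩
        rintro Q' ⟨φ, hφ, rfl⟩
        rw [normalizerSystem_range_eq F N hN hφ]
        exact hcen
      have hNloc := locD_sub F hD hloc _ N hQN hNF
      exact isInner_of_constrained p hp hTp N hNsat Q hQnormal hQc D hDN hNloc
    · -- non-centric
      apply isInner_of_factor p hTp N hNsat Q hQnormal θ E hE hEi
      apply aut_pow_of_centralizer p hTp N hNsat Q hQT hQn
      set C := centralizerIn (normalizerIn S Q) Q with hC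
      intro ψ hψ hmem
      have hCT : C ≤ normalizerIn S Q := centralizerIn_le
      have hlt : Nat.card Q < Nat.card ↥(Q ⊔ C) := by
        obtain ⟨c, hc, hcQ⟩ := SetLike.not_le_iff_exists.mp hcen
        exact card_lt_of_le_of_mem (sup_le hQT hCT) le_sup_left (le_sup_right (a := Q) hc) hcQ
      have hRn : normalizerIn S Q ≤ Subgroup.normalizer ((Q ⊔ C : Subgroup Ω) : Set Ω) := by
        have key : ∀ t ∈ normalizerIn S Q, ∀ y ∈ Q ⊔ C, t * y * t⁻¹ ∈ Q ⊔ C := by
          intro t ht
          apply conj_mem_sup_of_normalizes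
          · intro y hy
            exact (Subgroup.mem_normalizer_iff.mp (hQn ht) y).mp hy
          · intro y hy
            rw [hC, mem_centralizerIn] at hy ⊢
            refine ⟨Subgroup.mul_mem _ (Subgroup.mul_mem _ ht hy.1) (Subgroup.inv_mem _ ht), ?_⟩
            intro q hq
            have hq' : t⁻¹ * q * t ∈ Q := by
              have := (Subgroup.mem_normalizer_iff.mp (hQn (Subgroup.inv_mem _ ht)) q).mp hq
              simpa using this
            have h1 := hy.2 _ hq'
            calc q * (t * y * t⁻¹) = t * ((t⁻¹ * q * t) * y) * t⁻¹ := by group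
              _ = t * (y * (t⁻¹ * q * t)) * t⁻¹ := by rw [h1]
              _ = t * y * t⁻¹ * q := by group
        intro t ht
        apply mem_normalizer_of_forall
        · exact key t ht
        · intro y hy
          have := key t⁻¹ (Subgroup.inv_mem _ ht) y hy
          rwa [inv_inv] at this
      exact KB (Q ⊔ C) le_sup_left (sup_le hQT hCT) hRn hlt (Q ⊔ C) le_rfl ψ hψ
        (fun x hx => hmem ⟨x, hx⟩)

end Cfsg.Agent.Helper25.DGT
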