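import Mathlib
import Cfsg.Agent.Lib.Helper3.DPDefs

/-!
# S2205, piece BLK: a non-trivial block of the point stabilizer has size `p` (helper25)
-/

set_option autoImplicit false
set_option linter.unusedSectionVars false
set_option linter.style.haveILetI false
open scoped Pointwise
open MulAction

namespace Cfsg.Agent.Helper3.DP

variable {G Ω : Type*} [Group G] [Finite G] [Fintype Ω] [MulAction G Ω] [FaithfulSMul G Ω] {p : ℕ}

/-- PIECE BLK. -/
theorem exists_blk (hp : p.Prime) (hΩ : Fintype.card Ω = p ^ 2 + 1)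
    (h2 : IsMultiplyPretransitive G Ω 2) (a : Ω)
    (hnp : ¬ IsPreprimitive ↥(stabilizer G a) ↥(SubMulAction.ofStabilizer G a)) :
    ∃ B : Set Ω, IsBlk G p a B := by
  classical
  haveI : IsPretransitive G Ω := isPretransitive_of_is_two_pretransitive
  -- the stabilizer is transitive on the other points
  have h1 : IsMultiplyPretransitive ↥(stabilizer G a) ↥(SubMulAction.ofStabilizer G a) 1 :=
    (SubMulAction.ofStabilizer.isMultiplyPretransitive (G := G) (α := Ω) (n := 1) (a := a)).1 h2
  haveI hpt : IsPretransitive ↥(stabilizer G a) ↥(SubMulAction.ofStabilizer G a) :=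
    is_one_pretransitive_iff.1 h1
  -- a non-trivial block
  have hex : ∃ B' : Set ↥(SubMulAction.ofStabilizer G a),
      IsBlock ↥(stabilizer G a) B' ∧ ¬ IsTrivialBlock B' := by
    by_contra hcon
    push Not at hcon
    exact hnp (IsPreprimitive.mk fun {B} hB => hcon B hB)
  obtain ⟨B', hB', hnt⟩ := hex
  have hnsub : ¬ B'.Subsingleton := fun h => hnt (Or.inl h)
  have hnuniv : B' ≠ Set.univ := fun h => hnt (Or.inr h)
  have hne : B'.Nonempty := by
    rw [Set.nonempty_iff_ne_empty]
    intro h
    apply hnsub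
    rw [h]
    exact Set.subsingleton_empty
  -- the number of the other points
  have hcardΔ : Nat.card ↥(SubMulAction.ofStabilizer G a) = p ^ 2 := by
    have h3 : (SubMulAction.ofStabilizer G a).carrier = {a}ᶜ := rfl
    have h4 : Nat.card ↥(SubMulAction.ofStabilizer G a) = ({a}ᶜ : Set Ω).ncard := by
      rw [← Nat.card_coe_set_eq]
      rfl
    rw [h4, Set.ncard_compl, Set.ncard_singleton, Nat.card_eq_fintype_card, hΩ]
    omega
  have hdvd : B'.ncard ∣ p ^ 2 := by
    rw [← hcardΔ]
    exact hB'.ncard_dvd_card hne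
  obtain ⟨k, hk, hkc⟩ := (Nat.dvd_prime_pow hp).1 hdvd
  have hk1 : k = 1 := by
    interval_cases k
    · exfalso
      apply hnsub
      rw [pow_zero] at hkc
      exact (Set.ncard_eq_one.1 hkc).elim fun x hx => by rw [hx]; exact Set.subsingleton_singleton
    · rfl
    · exfalso
      apply hnuniv
      apply Set.eq_univ_of_forall
      have h5 : B'.ncard = (Set.univ : Set ↥(SubMulAction.ofStabilizer G a)).ncard := by
        rw [hkc, Set.ncard_univ, hcardΔ]
      have h6 := Set.eq_of_subset_of_ncard_le (Set.subset_univ B') h5.ge (Set.toFinite _)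
      intro x
      rw [h6]
      exact Set.mem_univ x
  rw [hk1, pow_one] at hkc
  refine ⟨Subtype.val '' B', ?_, ?_, ?_⟩
  · rintro ⟨x, _, hx⟩
    exact (SubMulAction.mem_ofStabilizer_iff G a).1 x.2 hx
  · rw [Set.ncard_image_of_injective _ Subtype.val_injective, hkc]
  · intro h hh
    have himg : h • (Subtype.val '' B' : Set Ω) =
        Subtype.val '' ((⟨h, hh⟩ : ↥(stabilizer G a)) • B') := by
      ext y
      constructor
      · rintro ⟨z, ⟨x, hx, rfl⟩, rfl⟩
        exact ⟨(⟨h, hh⟩ : ↥(stabilizer G a)) • x, Set.smul_mem_smul_set hx, rfl⟩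
      · rintro ⟨z, ⟨x, hx, rfl⟩, rfl⟩
        exact ⟨(x : Ω), ⟨x, hx, rfl⟩, rfl⟩
    rw [himg]
    rcases hB'.smul_eq_or_disjoint (⟨h, hh⟩ : ↥(stabilizer G a)) with h7 | h7
    · left
      rw [h7]
    · right
      exact (Set.disjoint_image_iff Subtype.val_injective).2 h7

end Cfsg.Agent.Helper3.DP
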