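import Mathlib
import Cfsg.Agent.Lib.Helper25.FusionSimpCrit2

/-!
# The simplicity criterion for a central quotient `G ⧸ Z(G)`

If the centre of `G` has no `p`-elements, the data `NoClosed`/`AutGen` for a Sylow `p`-subgroup
`U` of `G` (with self-centralising conditions modulo the centre) descend to `G ⧸ Z(G)`.
-/

set_option autoImplicit false
set_option linter.style.haveILetI false
set_option linter.unusedSectionVars false

namespace Cfsg.Agent.Helper25.SimpCrit

variable {G : Type*} [Group G]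

/-- good generators, with centralisers computed modulo the centre -/
def GoodZ (p : ℕ) (U : Subgroup G) : Set G :=
  {x | x ∈ U ∨ (x ∈ Subgroup.normalizer (U : Set G) ∧ ∃ R : Subgroup G, R ≤ U ∧
    (∀ g : G, (∀ a ∈ R, g * a = a * g) → ∃ z ∈ Subgroup.center G, ∃ a ∈ R, g = z * a) ∧
    x ∈ Subgroup.closure {y | y ∈ Subgroup.normalizer (R : Set G) ∧ ∃ k : ℕ, y ^ p ^ k = 1})}

section

variable (p : ℕ) (hZ : ∀ z ∈ Subgroup.center G, ∀ k : ℕ, z ^ p ^ k = 1 → z = 1)

include hZ in
/-- `p`-elements with the same image in `G ⧸ Z(G)` are equal. -/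
theorem eq_of_mk_eq {a b : G} (ha : ∃ k : ℕ, a ^ p ^ k = 1) (hb : ∃ k : ℕ, b ^ p ^ k = 1)
    (h : (QuotientGroup.mk' (Subgroup.center G)) a = (QuotientGroup.mk' (Subgroup.center G)) b) :
    a = b := by
  obtain ⟨k, hk⟩ := ha
  obtain ⟨l, hl⟩ := hb
  have hz : a⁻¹ * b ∈ Subgroup.center G := QuotientGroup.eq.mp h
  have hcomm : Commute a (a⁻¹ * b) := Subgroup.mem_center_iff.mp hz a
  have hb' : b = a * (a⁻¹ * b) := by rw [mul_inv_cancel_left]
  have h1 : b ^ p ^ (k + l) = a ^ p ^ (k + l) * (a⁻¹ * b) ^ p ^ (k + l) := by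
    conv_lhs => rw [hb']
    exact hcomm.mul_pow _
  have h2 : a ^ p ^ (k + l) = 1 := by rw [pow_add, pow_mul, hk, one_pow]
  have h3 : b ^ p ^ (k + l) = 1 := by rw [pow_add, mul_comm, pow_mul, hl, one_pow]
  rw [h2, h3, one_mul] at h1
  have h4 := hZ _ hz _ h1.symm
  rw [hb', h4, mul_one]

theorem exists_pow_conj' (p : ℕ) {u : G} (g : G)
    (hu : ∃ k : ℕ, u ^ p ^ k = 1) : ∃ k : ℕ, (g * u * g⁻¹) ^ p ^ k = 1 := by
  obtain ⟨k, hk⟩ := hu
  exact ⟨k, by rw [conj_pow, hk, mul_one, mul_inv_cancel]⟩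

theorem exists_pow_of_isPGroup {p : ℕ} {U : Subgroup G} (hU : IsPGroup p U) {u : G} (hu : u ∈ U) :
    ∃ k : ℕ, u ^ p ^ k = 1 := by
  obtain ⟨k, hk⟩ := hU ⟨u, hu⟩
  exact ⟨k, by simpa using congrArg Subtype.val hk⟩

include hZ in
theorem noClosed_map_mk {U : Subgroup G} (hU : IsPGroup p U) (h : NoClosed U) :
    NoClosed (U.map (QuotientGroup.mk' (Subgroup.center G))) := by
  intro T hTS hTne hTc
  have key : U ⊓ T.comap (QuotientGroup.mk' (Subgroup.center G)) = U := by
    apply h _ inf_le_left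
    · intro hbot
      apply hTne
      rw [eq_bot_iff]
      intro t ht
      obtain ⟨u, hu, rfl⟩ := hTS ht
      have : u ∈ U ⊓ T.comap (QuotientGroup.mk' (Subgroup.center G)) := ⟨hu, ht⟩
      rw [hbot, Subgroup.mem_bot] at this
      rw [this, map_one]
      exact Subgroup.one_mem _
    · intro x hx g hg
      refine ⟨hg, ?_⟩
      show (QuotientGroup.mk' (Subgroup.center G)) (g * x * g⁻¹) ∈ T
      rw [map_mul, map_mul, map_inv]
      apply hTc _ hx.2
      rw [← map_inv, ← map_mul, ← map_mul]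
      exact ⟨_, hg, rfl⟩
  apply le_antisymm hTS
  rw [Subgroup.map_le_iff_le_comap, ← key]
  exact inf_le_right

include hZ in
theorem conj_mem_of_mk {U : Subgroup G} (hU : IsPGroup p U) {g : G}
    (hg : (QuotientGroup.mk' (Subgroup.center G)) g ∈ Subgroup.normalizer
      ((U.map (QuotientGroup.mk' (Subgroup.center G)) : Subgroup _) : Set _))
    {u : G} (hu : u ∈ U) : g * u * g⁻¹ ∈ U := by
  have h1 : (QuotientGroup.mk' (Subgroup.center G)) g * (QuotientGroup.mk' (Subgroup.center G)) u *
      ((QuotientGroup.mk' (Subgroup.center G)) g)⁻¹ ∈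
      U.map (QuotientGroup.mk' (Subgroup.center G)) :=
    (Subgroup.mem_normalizer_iff.mp hg _).mp ⟨u, hu, rfl⟩
  obtain ⟨u', hu', hu'eq⟩ := h1
  have h2 : (QuotientGroup.mk' (Subgroup.center G)) u' =
      (QuotientGroup.mk' (Subgroup.center G)) (g * u * g⁻¹) := by
    rw [hu'eq, map_mul, map_mul, map_inv]
  have h3 := eq_of_mk_eq p hZ (exists_pow_of_isPGroup hU hu')
    (exists_pow_conj' p g (exists_pow_of_isPGroup hU hu)) h2
  rw [← h3]
  exact hu'

include hZ in
theorem mem_normalizer_of_mk {U : Subgroup G} (hU : IsPGroup p U) {g : G}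
    (hg : (QuotientGroup.mk' (Subgroup.center G)) g ∈ Subgroup.normalizer
      ((U.map (QuotientGroup.mk' (Subgroup.center G)) : Subgroup _) : Set _)) :
    g ∈ Subgroup.normalizer (U : Set G) := by
  rw [Subgroup.mem_normalizer_iff]
  intro u
  constructor
  · exact conj_mem_of_mk p hZ hU hg
  · intro h
    have hginv : (QuotientGroup.mk' (Subgroup.center G)) g⁻¹ ∈ Subgroup.normalizer
        ((U.map (QuotientGroup.mk' (Subgroup.center G)) : Subgroup _) : Set _) := by
      rw [map_inv]; exact Subgroup.inv_mem _ hg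
    have := conj_mem_of_mk p hZ hU hginv h
    rw [inv_inv] at this
    have e : g⁻¹ * (g * u * g⁻¹) * g = u := by group
    rwa [e] at this

theorem mk_mem_normalizer {R : Subgroup G} {y : G} (hy : y ∈ Subgroup.normalizer (R : Set G)) :
    (QuotientGroup.mk' (Subgroup.center G)) y ∈ Subgroup.normalizer
      ((R.map (QuotientGroup.mk' (Subgroup.center G)) : Subgroup _) : Set _) :=
  Subgroup.le_normalizer_map (QuotientGroup.mk' (Subgroup.center G)) ⟨y, hy, rfl⟩

include hZ in
theorem mk_goodZ {U : Subgroup G} (hU : IsPGroup p U) {x : G} (hx : x ∈ GoodZ p U) :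
    (QuotientGroup.mk' (Subgroup.center G)) x ∈
      GoodGen p (U.map (QuotientGroup.mk' (Subgroup.center G))) := by
  rcases hx with hx | ⟨hxN, R, hRU, hcent, hxc⟩
  · exact Or.inl ⟨x, hx, rfl⟩
  · right
    refine ⟨mk_mem_normalizer hxN, R.map (QuotientGroup.mk' (Subgroup.center G)),
      Subgroup.map_mono hRU, ?_, ?_⟩
    · intro gbar hgbar
      obtain ⟨g, rfl⟩ := QuotientGroup.mk'_surjective (Subgroup.center G) gbar
      have hcomm : ∀ a ∈ R, g * a = a * g := by
        intro a ha
        have h1 : (QuotientGroup.mk' (Subgroup.center G)) a *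
            (QuotientGroup.mk' (Subgroup.center G)) g =
            (QuotientGroup.mk' (Subgroup.center G)) g *
            (QuotientGroup.mk' (Subgroup.center G)) a :=
          Subgroup.mem_centralizer_iff.mp hgbar _ ⟨a, ha, rfl⟩
        have h2 : (QuotientGroup.mk' (Subgroup.center G)) (g * a * g⁻¹) =
            (QuotientGroup.mk' (Subgroup.center G)) a := by
          rw [map_mul, map_mul, map_inv, ← h1, mul_inv_cancel_right]
        have h3 := eq_of_mk_eq p hZ
          (exists_pow_conj' p g (exists_pow_of_isPGroup hU (hRU ha)))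
          (exists_pow_of_isPGroup hU (hRU ha)) h2
        calc g * a = (g * a * g⁻¹) * g := by rw [inv_mul_cancel_right]
          _ = a * g := by rw [h3]
      obtain ⟨z, hz, a, ha, hga⟩ := hcent g hcomm
      have hz1 : (QuotientGroup.mk' (Subgroup.center G)) z = 1 :=
        (QuotientGroup.eq_one_iff z).mpr hz
      rw [hga, map_mul, hz1, one_mul]
      exact ⟨a, ha, rfl⟩
    · have hle : Subgroup.closure {y | y ∈ Subgroup.normalizer (R : Set G) ∧
            ∃ k : ℕ, y ^ p ^ k = 1} ≤
          (Subgroup.closure {y | y ∈ Subgroup.normalizer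
            ((R.map (QuotientGroup.mk' (Subgroup.center G)) : Subgroup _) : Set _) ∧
              ∃ k : ℕ, y ^ p ^ k = 1}).comap (QuotientGroup.mk' (Subgroup.center G)) := by
        rw [Subgroup.closure_le]
        rintro y ⟨hy1, k, hy2⟩
        apply Subgroup.subset_closure
        refine ⟨mk_mem_normalizer hy1, k, ?_⟩
        rw [← map_pow, hy2, map_one]
      exact hle hxc

include hZ in
theorem autGen_map_mk {U : Subgroup G} (hU : IsPGroup p U)
    (h : Subgroup.normalizer (U : Set G) ≤ Subgroup.closure (GoodZ p U)) :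
    AutGen p (U.map (QuotientGroup.mk' (Subgroup.center G))) := by
  intro gbar hgbar
  obtain ⟨g, rfl⟩ := QuotientGroup.mk'_surjective (Subgroup.center G) gbar
  have hgc := h (mem_normalizer_of_mk p hZ hU hgbar)
  have hle : Subgroup.closure (GoodZ p U) ≤
      (Subgroup.closure (GoodGen p (U.map (QuotientGroup.mk' (Subgroup.center G))))).comap
        (QuotientGroup.mk' (Subgroup.center G)) := by
    rw [Subgroup.closure_le]
    intro x hx
    exact Subgroup.subset_closure (mk_goodZ p hZ hU hx)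
  exact hle hgc

include hZ in
theorem map_mk_ne_bot {U : Subgroup G} (hU : IsPGroup p U) (h : U ≠ ⊥) :
    U.map (QuotientGroup.mk' (Subgroup.center G)) ≠ ⊥ := by
  intro hbot
  apply h
  rw [eq_bot_iff]
  intro u hu
  have h1 : (QuotientGroup.mk' (Subgroup.center G)) u ∈
      U.map (QuotientGroup.mk' (Subgroup.center G)) := ⟨u, hu, rfl⟩
  rw [hbot, Subgroup.mem_bot] at h1
  have := eq_of_mk_eq p hZ (exists_pow_of_isPGroup hU hu) ⟨0, by rw [one_pow]⟩
    (h1.trans (map_one _).symm)
  rw [this]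
  exact Subgroup.one_mem _

end

/-- **The criterion for central quotients.** -/
theorem isSimple_of_central_quotient [Finite G] (p : ℕ) [Fact p.Prime] (U : Sylow p G)
    (hZ : ∀ z ∈ Subgroup.center G, ∀ k : ℕ, z ^ p ^ k = 1 → z = 1)
    (hU1 : (U : Subgroup G) ≠ ⊥) (h1 : NoClosed (U : Subgroup G))
    (h2 : Subgroup.normalizer ((U : Subgroup G) : Set G) ≤
      Subgroup.closure (GoodZ p (U : Subgroup G)))
    (S : Sylow p (G ⧸ Subgroup.center G)) :
    (groupFusionSystem (S : Subgroup (G ⧸ Subgroup.center G))).IsSimple p := by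
  have hcoe : ((U.mapSurjective (QuotientGroup.mk'_surjective (Subgroup.center G)) : Sylow p _) :
      Subgroup (G ⧸ Subgroup.center G)) =
      (U : Subgroup G).map (QuotientGroup.mk' (Subgroup.center G)) := rfl
  apply isSimple_of_data p (U.mapSurjective (QuotientGroup.mk'_surjective (Subgroup.center G)))
  · rw [hcoe]; exact map_mk_ne_bot p hZ U.isPGroup' hU1
  · rw [hcoe]; exact noClosed_map_mk p hZ U.isPGroup' h1
  · rw [hcoe]; exact autGen_map_mk p hZ U.isPGroup' h2

end Cfsg.Agent.Helper25.SimpCrit
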