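import Mathlib
import Cfsg.Agent.Lib.Helper25.FusionSimpCrit3

/-!
# Transport of the central-quotient simplicity criterion along a group isomorphism
-/

set_option autoImplicit false
set_option linter.style.haveILetI false
set_option linter.unusedSectionVars false

namespace Cfsg.Agent.Helper25.SimpCrit

open Cfsg Cfsg.FusionSystem Cfsg.Agent.Helper25

variable {G : Type*} [Group G] {H : Type*} [Group H] (e : G ≃* H)

theorem goodZ_map {p : ℕ} {S : Subgroup G} {x : G} (hx : x ∈ GoodZ p S) :
    e x ∈ GoodZ p (S.map e.toMonoidHom) := by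
  rcases hx with hx | ⟨hxN, R, hRS, hRc, hxc⟩
  · exact Or.inl ⟨x, hx, rfl⟩
  · right
    refine ⟨?_, R.map e.toMonoidHom, Subgroup.map_mono hRS, ?_, ?_⟩
    · rw [mem_normalizer_map_iff]; simpa using hxN
    · intro g hg
      obtain ⟨z, hz, a, ha, hga⟩ := hRc (e.symm g) (by
        intro a ha
        have := hg (e a) ⟨a, ha, rfl⟩
        apply e.injective
        rw [map_mul, map_mul]
        simpa using this)
      refine ⟨e z, ?_, e a, ⟨a, ha, rfl⟩, ?_⟩
      · rw [Subgroup.mem_center_iff] at hz ⊢
        intro y
        have := hz (e.symm y)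
        have h2 := congrArg e this
        rw [map_mul, map_mul] at h2
        simpa using h2
      · have h2 := congrArg e hga
        rw [map_mul] at h2
        simpa using h2
    · have hle : Subgroup.closure {y | y ∈ Subgroup.normalizer (R : Set G) ∧
          ∃ k : ℕ, y ^ p ^ k = 1} ≤ (Subgroup.closure {y | y ∈ Subgroup.normalizer
            ((R.map e.toMonoidHom : Subgroup H) : Set H) ∧ ∃ k : ℕ, y ^ p ^ k = 1}).comap
              e.toMonoidHom := by
        rw [Subgroup.closure_le]
        rintro y ⟨hyN, k, hk⟩
        apply Subgroup.subset_closure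
        refine ⟨?_, k, ?_⟩
        · rw [mem_normalizer_map_iff]; simpa using hyN
        · show (e y) ^ p ^ k = 1
          rw [← map_pow, hk, map_one]
      exact hle hxc

theorem closure_goodZ_map {p : ℕ} {S : Subgroup G}
    (h : Subgroup.normalizer (S : Set G) ≤ Subgroup.closure (GoodZ p S)) :
    Subgroup.normalizer ((S.map e.toMonoidHom : Subgroup H) : Set H) ≤
      Subgroup.closure (GoodZ p (S.map e.toMonoidHom)) := by
  intro y hy
  rw [mem_normalizer_map_iff] at hy
  have h1 := h hy
  have hle : Subgroup.closure (GoodZ p S) ≤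
      (Subgroup.closure (GoodZ p (S.map e.toMonoidHom))).comap e.toMonoidHom := by
    rw [Subgroup.closure_le]
    intro x hx
    exact Subgroup.subset_closure (goodZ_map e hx)
  have h2 := hle h1
  have h3 : e (e.symm y) ∈ Subgroup.closure (GoodZ p (S.map e.toMonoidHom)) := h2
  simpa using h3

include e in
/-- The central-quotient criterion, transported along an isomorphism `G ≃* H`. -/
theorem isSimple_of_central_quotient_equiv [Finite G] [Finite H] (p : ℕ) [Fact p.Prime]
    (U : Sylow p G)
    (hZ : ∀ z ∈ Subgroup.center G, ∀ k : ℕ, z ^ p ^ k = 1 → z = 1)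
    (hU1 : (U : Subgroup G) ≠ ⊥) (h1 : NoClosed (U : Subgroup G))
    (h2 : Subgroup.normalizer ((U : Subgroup G) : Set G) ≤
      Subgroup.closure (GoodZ p (U : Subgroup G)))
    (S : Sylow p (H ⧸ Subgroup.center H)) :
    (groupFusionSystem (S : Subgroup (H ⧸ Subgroup.center H))).IsSimple p := by
  have hsurj : Function.Surjective e.toMonoidHom := e.surjective
  set U' : Sylow p H := U.mapSurjective hsurj with hU'
  have hcoe : (U' : Subgroup H) = (U : Subgroup G).map e.toMonoidHom := Sylow.coe_mapSurjective _ _
  have hZ' : ∀ z ∈ Subgroup.center H, ∀ k : ℕ, z ^ p ^ k = 1 → z = 1 := by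
    intro z hz k hk
    have hz' : e.symm z ∈ Subgroup.center G := by
      rw [Subgroup.mem_center_iff] at hz ⊢
      intro g
      have := hz (e g)
      apply e.injective
      rw [map_mul, map_mul]
      simpa using this
    have := hZ _ hz' k (by rw [← map_pow, hk, map_one])
    have h3 := congrArg e this
    simpa using h3
  have hU1' : (U' : Subgroup H) ≠ ⊥ := by
    rw [hcoe]
    intro h
    exact hU1 ((Subgroup.map_eq_bot_iff_of_injective _ e.injective).mp h)
  exact isSimple_of_central_quotient p U' hZ' hU1' (by rw [hcoe]; exact NoClosed.map e h1)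
    (by rw [hcoe]; exact closure_goodZ_map e h2) S

end Cfsg.Agent.Helper25.SimpCrit
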