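import Mathlib
import Cfsg.Agent.Lib.Helper25.FusionSimpCrit4

/-!
# A simplicity criterion: no fusion-closed subgroups and `Aut_G(S) = Inn(S)`
-/

set_option autoImplicit false
set_option linter.style.haveILetI false
set_option linter.unusedSectionVars false

namespace Cfsg.Agent.Helper25.SimpCrit

open Cfsg Cfsg.FusionSystem Cfsg.Agent.Helper25

variable {G : Type*} [Group G]

/-- every automorphism of `S` induced by an element of `G` is inner -/
def InnNorm (S : Subgroup G) : Prop :=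
  ∀ g ∈ Subgroup.normalizer (S : Set G), ∃ s ∈ S, ∀ x ∈ S, g * x * g⁻¹ = s * x * s⁻¹

/-- **Criterion.** -/
theorem isSimple_of_noClosed_innNorm [Finite G] (p : ℕ) [Fact p.Prime] (S : Sylow p G)
    (hS1 : (S : Subgroup G) ≠ ⊥) (h1 : NoClosed (S : Subgroup G))
    (h2 : InnNorm (S : Subgroup G)) :
    (groupFusionSystem (S : Subgroup G)).IsSimple p := by
  have hF : (Cfsg.groupFusionSystem (S : Subgroup G)).IsSaturated p :=
    groupFusionSystem_isSaturated p S
  refine ⟨hF, hS1, fun T E hE => ?_⟩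
  obtain ⟨⟨hEsat, -, hinv⟩, -⟩ := hE
  have hTsc := hinv.2.1
  by_cases hT : T = ⊥
  · exact Or.inl hT
  right
  have hTS : T = (S : Subgroup G) := h1 T hTsc.1 hT (fusClosed_of_stronglyClosed hTsc)
  subst hTS
  refine ⟨rfl, fun P => ?_⟩
  apply hom_eq_of_autGroup_le hinv
  intro β hβ
  rw [groupFusionSystem_autGroup le_rfl] at hβ
  obtain ⟨g, -, hgβ⟩ := (mem_autInducedBy_iff β).mp hβ
  have hgN : g ∈ Subgroup.normalizer ((S : Subgroup G) : Set G) := by
    apply mem_normalizer_of_forall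
    · intro y hy
      have := hgβ ⟨y, hy⟩
      rw [← this]
      exact (β ⟨y, hy⟩).2
    · intro y hy
      have := hgβ (β⁻¹ ⟨y, hy⟩)
      rw [MulAut.apply_inv_self] at this
      have h3 : g⁻¹ * y * g = ((β⁻¹ ⟨y, hy⟩ : (S : Subgroup G)) : G) := by
        have h4 : y = g * ((β⁻¹ ⟨y, hy⟩ : (S : Subgroup G)) : G) * g⁻¹ := this
        calc g⁻¹ * y * g = g⁻¹ * (g * ((β⁻¹ ⟨y, hy⟩ : (S : Subgroup G)) : G) * g⁻¹) * g := by
              rw [← h4]
          _ = _ := by group
      rw [h3]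
      exact (β⁻¹ ⟨y, hy⟩).2
  obtain ⟨s, hs, hsx⟩ := h2 g hgN
  apply autInducedBy_le_autGroup E le_rfl
  refine (mem_autInducedBy_iff _).mpr ⟨s, hs, fun z => ?_⟩
  rw [hgβ z]
  exact hsx z.1 z.2

theorem InnNorm.map {H : Type*} [Group H] (e : G ≃* H) {S : Subgroup G} (h : InnNorm S) :
    InnNorm (S.map e.toMonoidHom) := by
  intro y hy
  rw [mem_normalizer_map_iff] at hy
  obtain ⟨s, hs, hsx⟩ := h _ hy
  refine ⟨e s, ⟨s, hs, rfl⟩, ?_⟩
  rintro _ ⟨x, hx, rfl⟩
  have h1 := congrArg e (hsx x hx)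
  simp only [map_mul, map_inv, MulEquiv.apply_symm_apply] at h1
  exact h1

/-- **Criterion, for all Sylow subgroups at once.** -/
theorem isSimple_of_data_inn [Finite G] (p : ℕ) [Fact p.Prime] (S₀ : Sylow p G)
    (hS1 : (S₀ : Subgroup G) ≠ ⊥) (h1 : NoClosed (S₀ : Subgroup G))
    (h2 : InnNorm (S₀ : Subgroup G)) (S : Sylow p G) :
    (groupFusionSystem (S : Subgroup G)).IsSimple p := by
  obtain ⟨g, rfl⟩ := MulAction.exists_smul_eq G S₀ S
  have hcoe : ((g • S₀ : Sylow p G) : Subgroup G) =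
      (S₀ : Subgroup G).map (MulAut.conj g).toMonoidHom := by
    rw [Sylow.coe_subgroup_smul, Subgroup.pointwise_smul_def]
    rfl
  apply isSimple_of_noClosed_innNorm
  · rw [hcoe]
    intro h
    apply hS1
    rw [eq_bot_iff] at h ⊢
    intro x hx
    have : (MulAut.conj g) x ∈ (S₀ : Subgroup G).map (MulAut.conj g).toMonoidHom := ⟨x, hx, rfl⟩
    have h3 := h this
    rw [Subgroup.mem_bot] at h3 ⊢
    have h5 : g * x * g⁻¹ = 1 := h3
    calc x = g⁻¹ * (g * x * g⁻¹) * g := by group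
      _ = 1 := by rw [h5]; group
  · rw [hcoe]; exact h1.map _
  · rw [hcoe]; exact h2.map _

theorem innNorm_map_mk (p : ℕ) (hZ : ∀ z ∈ Subgroup.center G, ∀ k : ℕ, z ^ p ^ k = 1 → z = 1)
    {U : Subgroup G} (hU : IsPGroup p U) (h : InnNorm U) :
    InnNorm (U.map (QuotientGroup.mk' (Subgroup.center G))) := by
  intro gbar hgbar
  obtain ⟨g, rfl⟩ := QuotientGroup.mk'_surjective (Subgroup.center G) gbar
  obtain ⟨s, hs, hsx⟩ := h g (mem_normalizer_of_mk p hZ hU hgbar)
  refine ⟨(QuotientGroup.mk' (Subgroup.center G)) s, ⟨s, hs, rfl⟩, ?_⟩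
  rintro _ ⟨x, hx, rfl⟩
  rw [← map_inv, ← map_mul, ← map_mul, hsx x hx, map_mul, map_mul, map_inv]

/-- **The criterion for central quotients.** -/
theorem isSimple_of_central_quotient_inn [Finite G] (p : ℕ) [Fact p.Prime] (U : Sylow p G)
    (hZ : ∀ z ∈ Subgroup.center G, ∀ k : ℕ, z ^ p ^ k = 1 → z = 1)
    (hU1 : (U : Subgroup G) ≠ ⊥) (h1 : NoClosed (U : Subgroup G))
    (h2 : InnNorm (U : Subgroup G))
    (S : Sylow p (G ⧸ Subgroup.center G)) :
    (groupFusionSystem (S : Subgroup (G ⧸ Subgroup.center G))).IsSimple p := by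
  have hcoe : ((U.mapSurjective (QuotientGroup.mk'_surjective (Subgroup.center G)) : Sylow p _) :
      Subgroup (G ⧸ Subgroup.center G)) =
      (U : Subgroup G).map (QuotientGroup.mk' (Subgroup.center G)) := rfl
  apply isSimple_of_data_inn p
    (U.mapSurjective (QuotientGroup.mk'_surjective (Subgroup.center G)))
  · rw [hcoe]; exact map_mk_ne_bot p hZ U.isPGroup' hU1
  · rw [hcoe]; exact noClosed_map_mk p hZ U.isPGroup' h1
  · rw [hcoe]; exact innNorm_map_mk p hZ U.isPGroup' h2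

/-- The central-quotient criterion, transported along an isomorphism `G ≃* H`. -/
theorem isSimple_of_central_quotient_equiv_inn {H : Type*} [Group H] (e : G ≃* H)
    [Finite G] [Finite H] (p : ℕ) [Fact p.Prime]
    (U : Sylow p G)
    (hZ : ∀ z ∈ Subgroup.center G, ∀ k : ℕ, z ^ p ^ k = 1 → z = 1)
    (hU1 : (U : Subgroup G) ≠ ⊥) (h1 : NoClosed (U : Subgroup G))
    (h2 : InnNorm (U : Subgroup G))
    (S : Sylow p (H ⧸ Subgroup.center H)) :
    (groupFusionSystem (S : Subgroup (H ⧸ Subgroup.center H))).IsSimple p := by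
  have hsurj : Function.Surjective e.toMonoidHom := e.surjective
  set U' : Sylow p H := U.mapSurjective hsurj with hU'
  have hcoe : (U' : Subgroup H) = (U : Subgroup G).map e.toMonoidHom := Sylow.coe_mapSurjective _ _
  have hZ' : ∀ z ∈ Subgroup.center H, ∀ k : ℕ, z ^ p ^ k = 1 → z = 1 := by
    intro z hz k hk
    have hz' : e.symm z ∈ Subgroup.center G := by
      rw [Subgroup.mem_center_iff] at hz ⊢
      intro g
      have := hz (e g)
      apply e.injective
      rw [map_mul, map_mul]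
      simpa using this
    have := hZ _ hz' k (by rw [← map_pow, hk, map_one])
    have h3 := congrArg e this
    simpa using h3
  have hU1' : (U' : Subgroup H) ≠ ⊥ := by
    rw [hcoe]
    intro h
    exact hU1 ((Subgroup.map_eq_bot_iff_of_injective _ e.injective).mp h)
  exact isSimple_of_central_quotient_inn p U' hZ' hU1' (by rw [hcoe]; exact NoClosed.map e h1)
    (by rw [hcoe]; exact InnNorm.map e h2) S

/-- A `p`-subgroup containing all `p`-elements of its normalizer is a Sylow `p`-subgroup. -/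
theorem exists_sylow_of_normalizer [Finite G] (p : ℕ) [Fact p.Prime] (U : Subgroup G)
    (hU : IsPGroup p U)
    (h : ∀ g ∈ Subgroup.normalizer (U : Set G), (∃ k : ℕ, g ^ p ^ k = 1) → g ∈ U) :
    ∃ S : Sylow p G, (S : Subgroup G) = U := by
  obtain ⟨S, hS⟩ := hU.exists_le_sylow
  refine ⟨S, ?_⟩
  by_contra hne
  have hlt : U.subgroupOf (S : Subgroup G) < ⊤ := by
    rw [lt_top_iff_ne_top]
    intro htop
    apply hne
    apply le_antisymm _ hS
    intro x hx
    have : (⟨x, hx⟩ : (S : Subgroup G)) ∈ U.subgroupOf (S : Subgroup G) := by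
      rw [htop]; exact Subgroup.mem_top _
    exact this
  haveI : Group.IsNilpotent (S : Subgroup G) := S.isPGroup'.isNilpotent
  have hnc := normalizerCondition_of_isNilpotent (G := (S : Subgroup G))
  have h2 := hnc _ hlt
  obtain ⟨x, hxN, hxU⟩ := Set.exists_of_ssubset h2
  apply hxU
  show x.1 ∈ U
  have hxN' : x ∈ Subgroup.normalizer ((U.subgroupOf (S : Subgroup G) :
      Subgroup (S : Subgroup G)) : Set (S : Subgroup G)) := hxN
  apply h
  · rw [Subgroup.mem_normalizer_iff] at hxN' ⊢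
    intro y
    constructor
    · intro hy
      have hyS : y ∈ (S : Subgroup G) := hS hy
      have := (hxN' ⟨y, hyS⟩).mp hy
      exact this
    · intro hy
      have hyS : y ∈ (S : Subgroup G) := by
        have h3 : x.1⁻¹ * (x.1 * y * x.1⁻¹) * x.1 ∈ (S : Subgroup G) :=
          Subgroup.mul_mem _ (Subgroup.mul_mem _ (Subgroup.inv_mem _ x.2) (hS hy)) x.2
        have e : x.1⁻¹ * (x.1 * y * x.1⁻¹) * x.1 = y := by group
        rwa [e] at h3
      exact (hxN' ⟨y, hyS⟩).mpr hy
  · obtain ⟨k, hk⟩ := S.isPGroup' x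
    exact ⟨k, by simpa using congrArg Subtype.val hk⟩

end Cfsg.Agent.Helper25.SimpCrit
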