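import Mathlib
import Cfsg.Agent.Lib.Helper25.FusionSimpCrit5

/-!
# Extensions of the `2`-part of an abelian group by an inverting-type involution

`T` abelian, `w` an involution normalising `T`, `D` the `2`-part of `T`, `U = D ∪ wD`.
If `N_G(U) ⊆ T ∪ wT` then `U` is a Sylow `2`-subgroup and `Aut_G(U) = Inn(U)`.
-/

set_option autoImplicit false
set_option linter.style.haveILetI false
set_option linter.unusedSectionVars false

namespace Cfsg.Agent.Helper25.DihExt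

open Cfsg.Agent.Helper25.SimpCrit

variable {G : Type*} [Group G]

/-- an abelian subgroup `T` and an involution `w ∉ T` normalising it -/
structure Data (T : Subgroup G) (w : G) : Prop where
  comm : ∀ a ∈ T, ∀ b ∈ T, a * b = b * a
  wsq : w * w = 1
  wT : ∀ t ∈ T, w * t * w ∈ T
  wnot : w ∉ T

variable {T : Subgroup G} {w : G}

theorem Data.w_inv (hd : Data T w) : w⁻¹ = w := inv_eq_of_mul_eq_one_right hd.wsq

theorem Data.conj_pow (hd : Data T w) (t : G) (n : ℕ) : (w * t * w) ^ n = w * t ^ n * w := by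
  induction n with
  | zero => rw [pow_zero, pow_zero, mul_one, hd.wsq]
  | succ n ih =>
    rw [pow_succ, ih, pow_succ]
    calc w * t ^ n * w * (w * t * w) = w * t ^ n * (w * w) * t * w := by group
      _ = w * (t ^ n * t) * w := by rw [hd.wsq]; group

theorem Data.conj_conj (hd : Data T w) (t : G) : w * (w * t * w) * w = t := by
  calc w * (w * t * w) * w = (w * w) * t * (w * w) := by group
    _ = t := by rw [hd.wsq, one_mul, mul_one]

theorem Data.w_w_mul (hd : Data T w) (t : G) : w * (w * t) = t := by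
  rw [← mul_assoc, hd.wsq, one_mul]

/-- the `2`-part of `T` -/
def D2 (hd : Data T w) : Subgroup G where
  carrier := {t | t ∈ T ∧ ∃ k : ℕ, t ^ 2 ^ k = 1}
  one_mem' := ⟨T.one_mem, 0, one_pow _⟩
  mul_mem' := by
    rintro a b ⟨ha, k, hk⟩ ⟨hb, l, hl⟩
    refine ⟨T.mul_mem ha hb, k + l, ?_⟩
    have hc : Commute a b := hd.comm a ha b hb
    rw [hc.mul_pow, pow_add, pow_mul, hk, one_pow, one_mul, mul_comm, pow_mul, hl, one_pow]
  inv_mem' := by
    rintro a ⟨ha, k, hk⟩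
    exact ⟨T.inv_mem ha, k, by rw [inv_pow, hk, inv_one]⟩

theorem mem_D2 (hd : Data T w) {t : G} : t ∈ D2 hd ↔ t ∈ T ∧ ∃ k : ℕ, t ^ 2 ^ k = 1 := Iff.rfl

theorem D2_le_T (hd : Data T w) : D2 hd ≤ T := fun _ h => h.1

theorem conj_mem_D2 (hd : Data T w) {t : G} (ht : t ∈ D2 hd) : w * t * w ∈ D2 hd := by
  obtain ⟨h1, k, hk⟩ := ht
  exact ⟨hd.wT t h1, k, by rw [hd.conj_pow, hk, mul_one, hd.wsq]⟩

/-- `U = D ∪ wD` -/
def U2 (hd : Data T w) : Subgroup G where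
  carrier := {g | g ∈ D2 hd ∨ w * g ∈ D2 hd}
  one_mem' := Or.inl (D2 hd).one_mem
  mul_mem' := by
    rintro a b (ha | ha) (hb | hb)
    · exact Or.inl ((D2 hd).mul_mem ha hb)
    · right
      have e : w * (a * b) = (w * a * w) * (w * b) := by
        calc w * (a * b) = w * a * (1 : G) * b := by group
          _ = w * a * (w * w) * b := by rw [hd.wsq]
          _ = _ := by group
      rw [e]
      exact (D2 hd).mul_mem (conj_mem_D2 hd ha) hb
    · right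
      rw [← mul_assoc]
      exact (D2 hd).mul_mem ha hb
    · left
      have e : a * b = (w * (w * a) * w) * (w * b) := by
        calc a * b = a * (w * w) * b := by rw [hd.wsq, mul_one]
          _ = (w * (w * a) * w) * (w * b) := by rw [hd.w_w_mul]; group
      rw [e]
      exact (D2 hd).mul_mem (conj_mem_D2 hd ha) hb
  inv_mem' := by
    rintro a (ha | ha)
    · exact Or.inl ((D2 hd).inv_mem ha)
    · right
      have e : w * a⁻¹ = w * (w * a)⁻¹ * w := by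
        calc w * a⁻¹ = w * a⁻¹ * (w * w) := by rw [hd.wsq, mul_one]
          _ = w * (w * a)⁻¹ * w := by rw [mul_inv_rev, hd.w_inv]; group
      rw [e]
      exact conj_mem_D2 hd ((D2 hd).inv_mem ha)

theorem mem_U2 (hd : Data T w) {g : G} : g ∈ U2 hd ↔ g ∈ D2 hd ∨ w * g ∈ D2 hd := Iff.rfl

theorem D2_le_U2 (hd : Data T w) : D2 hd ≤ U2 hd := fun _ h => Or.inl h

theorem w_mem_U2 (hd : Data T w) : w ∈ U2 hd := Or.inr (by rw [hd.wsq]; exact (D2 hd).one_mem)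

theorem U2_ne_bot (hd : Data T w) : U2 hd ≠ ⊥ := by
  intro h
  have h1 := w_mem_U2 hd
  rw [h, Subgroup.mem_bot] at h1
  apply hd.wnot
  rw [h1]
  exact T.one_mem

theorem U2_inf_T (hd : Data T w) {g : G} (hg : g ∈ U2 hd) (hgT : g ∈ T) : g ∈ D2 hd := by
  rcases hg with h | h
  · exact h
  · exfalso
    apply hd.wnot
    have : w = (w * g) * g⁻¹ := by group
    rw [this]
    exact T.mul_mem h.1 (T.inv_mem hgT)

theorem exists_pow_of_mem_U2 (hd : Data T w) {g : G} (hg : g ∈ U2 hd) :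
    ∃ k : ℕ, g ^ 2 ^ k = 1 := by
  rcases hg with h | h
  · exact h.2
  · have h2 : g * g ∈ D2 hd := by
      have e : g * g = (w * (w * g) * w) * (w * g) := by
        calc g * g = g * (w * w) * g := by rw [hd.wsq, mul_one]
          _ = (w * (w * g) * w) * (w * g) := by rw [hd.w_w_mul]; group
      rw [e]
      exact (D2 hd).mul_mem (conj_mem_D2 hd h) h
    obtain ⟨-, k, hk⟩ := h2
    refine ⟨k + 1, ?_⟩
    rw [pow_succ', pow_mul, pow_two, hk]

theorem U2_isPGroup (hd : Data T w) : IsPGroup 2 (U2 hd) := by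
  intro g
  obtain ⟨k, hk⟩ := exists_pow_of_mem_U2 hd g.2
  exact ⟨k, Subtype.ext (by simpa using hk)⟩

/-- commutators of elements of `U` have the form `[e, w]` with `e ∈ D` -/
theorem commutator_U2 (hd : Data T w) {a b : G} (ha : a ∈ U2 hd) (hb : b ∈ U2 hd) :
    ∃ e ∈ D2 hd, a * b * a⁻¹ * b⁻¹ = e * w * e⁻¹ * w := by
  have hcomm : ∀ x ∈ D2 hd, ∀ y ∈ D2 hd, x * y = y * x :=
    fun x hx y hy => hd.comm x hx.1 y hy.1
  rcases ha with ha | ha <;> rcases hb with hb | hb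
  · refine ⟨1, (D2 hd).one_mem, ?_⟩
    rw [hcomm a ha b hb]
    rw [one_mul, inv_one, mul_one, hd.wsq]
    group
  · -- b = w * d
    obtain ⟨d, hdD, rfl⟩ : ∃ d ∈ D2 hd, b = w * d := ⟨w * b, hb, (hd.w_w_mul b).symm⟩
    refine ⟨a, ha, ?_⟩
    have h1 : d * a⁻¹ = a⁻¹ * d := hcomm d hdD a⁻¹ ((D2 hd).inv_mem ha)
    calc a * (w * d) * a⁻¹ * (w * d)⁻¹ = a * w * (d * a⁻¹) * d⁻¹ * w⁻¹ := by group
      _ = a * w * (a⁻¹ * d) * d⁻¹ * w⁻¹ := by rw [h1]
      _ = a * w * a⁻¹ * w := by rw [hd.w_inv]; group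
  · obtain ⟨d, hdD, rfl⟩ : ∃ d ∈ D2 hd, a = w * d := ⟨w * a, ha, (hd.w_w_mul a).symm⟩
    refine ⟨b⁻¹, (D2 hd).inv_mem hb, ?_⟩
    have h1 : d * b = b * d := hcomm d hdD b hb
    have h2 : w * b * w * b⁻¹ = b⁻¹ * (w * b * w) :=
      hcomm _ (conj_mem_D2 hd hb) _ ((D2 hd).inv_mem hb)
    calc w * d * b * (w * d)⁻¹ * b⁻¹ = w * (d * b) * d⁻¹ * w⁻¹ * b⁻¹ := by group
      _ = w * (b * d) * d⁻¹ * w⁻¹ * b⁻¹ := by rw [h1]
      _ = w * b * w * b⁻¹ := by rw [hd.w_inv]; group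
      _ = b⁻¹ * (w * b * w) := h2
      _ = b⁻¹ * w * b⁻¹⁻¹ * w := by group
  · obtain ⟨d, hdD, rfl⟩ : ∃ d ∈ D2 hd, a = w * d := ⟨w * a, ha, (hd.w_w_mul a).symm⟩
    obtain ⟨d', hdD', rfl⟩ : ∃ d' ∈ D2 hd, b = w * d' := ⟨w * b, hb, (hd.w_w_mul b).symm⟩
    -- [wd, wd'] = [e, w] with e = d' d⁻¹ ... compute
    set e := d' * d⁻¹ with he
    have heD : e ∈ D2 hd := (D2 hd).mul_mem hdD' ((D2 hd).inv_mem hdD)
    have hweD : w * e * w ∈ D2 hd := conj_mem_D2 hd heD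
    refine ⟨e, heD, ?_⟩
    have h1 : d * (w * e * w) = (w * e * w) * d := hcomm _ hdD _ hweD
    have h2 : d * d'⁻¹ = e⁻¹ := by rw [he]; group
    have h3 : (w * e * w) * e⁻¹ = e⁻¹ * (w * e * w) := hcomm _ hweD _ ((D2 hd).inv_mem heD)
    calc w * d * (w * d') * (w * d)⁻¹ * (w * d')⁻¹
        = w * d * (w * (d' * d⁻¹) * w⁻¹) * d'⁻¹ * w⁻¹ := by group
      _ = w * (d * (w * e * w)) * d'⁻¹ * w := by rw [hd.w_inv, ← he]; group
      _ = w * ((w * e * w) * d) * d'⁻¹ * w := by rw [h1]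
      _ = (w * w) * e * w * (d * d'⁻¹) * w := by group
      _ = e * w * e⁻¹ * w := by rw [hd.wsq, h2, one_mul]

section main

variable [Finite G]

/-- CRT splitting of an element into its `2`-part and odd part -/
theorem exists_split (g : G) : ∃ e e' k m : ℕ, Odd m ∧ g ^ e * g ^ e' = g ∧
    (g ^ e) ^ 2 ^ k = 1 ∧ (g ^ e') ^ m = 1 := by
  have hn : orderOf g ≠ 0 := (orderOf_pos g).ne'
  obtain ⟨k, m, hm, hkm⟩ := Nat.exists_eq_two_pow_mul_odd hn
  have hco : Nat.Coprime (2 ^ k) m := Nat.Coprime.pow_left k (Nat.coprime_two_left.mpr hm)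
  obtain ⟨e, he1, he2⟩ := Nat.chineseRemainder hco 1 0
  obtain ⟨e', he1', he2'⟩ := Nat.chineseRemainder hco 0 1
  refine ⟨e, e', k, m, hm, ?_, ?_, ?_⟩
  · rw [← pow_add]
    conv_rhs => rw [← pow_one g]
    rw [pow_eq_pow_iff_modEq, hkm]
    rw [← Nat.modEq_and_modEq_iff_modEq_mul hco]
    constructor
    · have := Nat.ModEq.add he1 he1'
      simpa using this
    · have := Nat.ModEq.add he2 he2'
      simpa using this
  · rw [← pow_mul]
    apply orderOf_dvd_iff_pow_eq_one.mp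
    rw [hkm, mul_comm]
    exact Nat.mul_dvd_mul_right ((Nat.modEq_zero_iff_dvd).mp he2) _
  · rw [← pow_mul]
    apply orderOf_dvd_iff_pow_eq_one.mp
    rw [hkm]
    exact Nat.mul_dvd_mul_right ((Nat.modEq_zero_iff_dvd).mp he1') _

theorem eq_one_of_pow_two_of_odd {c : G} {l m : ℕ} (h1 : c ^ 2 ^ l = 1) (hm : Odd m)
    (h2 : c ^ m = 1) : c = 1 := by
  have d1 := orderOf_dvd_of_pow_eq_one h1
  have d2 := orderOf_dvd_of_pow_eq_one h2
  have hco : Nat.Coprime (2 ^ l) m := Nat.Coprime.pow_left l (Nat.coprime_two_left.mpr hm)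
  have := Nat.dvd_gcd d1 d2
  rw [hco.gcd_eq_one, Nat.dvd_one] at this
  exact orderOf_eq_one_iff.mp this

theorem split_of_mem_T (hd : Data T w) {g : G} (hgT : g ∈ T)
    (hgN : g ∈ Subgroup.normalizer ((U2 hd : Subgroup G) : Set G)) :
    ∃ s ∈ D2 hd, ∃ c, g = s * c ∧ (∀ x ∈ U2 hd, c * x = x * c) ∧ ∃ m : ℕ, Odd m ∧ c ^ m = 1 := by
  obtain ⟨e, e', k, m, hm, hsc, hs2, hcm⟩ := exists_split g
  refine ⟨g ^ e, ⟨T.pow_mem hgT e, k, hs2⟩, g ^ e', hsc.symm, ?_, m, hm, hcm⟩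
  have hcT : g ^ e' ∈ T := T.pow_mem hgT e'
  -- ψ(g) ∈ D2
  have hψg : g * (w * g⁻¹ * w) ∈ D2 hd := by
    apply U2_inf_T hd
    · have h1 : g * w * g⁻¹ ∈ U2 hd := (Subgroup.mem_normalizer_iff.mp hgN w).mp (w_mem_U2 hd)
      have h2 := (U2 hd).mul_mem h1 (w_mem_U2 hd)
      have e1 : g * w * g⁻¹ * w = g * (w * g⁻¹ * w) := by group
      rwa [e1] at h2
    · exact T.mul_mem hgT (hd.wT _ (T.inv_mem hgT))
  obtain ⟨-, l, hl⟩ := hψg
  have hcomm1 : Commute g (w * g⁻¹ * w) := hd.comm _ hgT _ (hd.wT _ (T.inv_mem hgT))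
  have hψc : g ^ e' * (w * (g ^ e')⁻¹ * w) = (g * (w * g⁻¹ * w)) ^ e' := by
    rw [hcomm1.mul_pow, hd.conj_pow, inv_pow]
  have h1 : (g ^ e' * (w * (g ^ e')⁻¹ * w)) ^ 2 ^ l = 1 := by
    rw [hψc, ← pow_mul, mul_comm, pow_mul, hl, one_pow]
  have hcomm2 : Commute (g ^ e') (w * (g ^ e')⁻¹ * w) :=
    hd.comm _ hcT _ (hd.wT _ (T.inv_mem hcT))
  have h2 : (g ^ e' * (w * (g ^ e')⁻¹ * w)) ^ m = 1 := by
    rw [hcomm2.mul_pow, hd.conj_pow, inv_pow, hcm, inv_one, mul_one, hd.wsq, one_mul]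
  have h3 := eq_one_of_pow_two_of_odd h1 hm h2
  have hcw : g ^ e' * w = w * g ^ e' := by
    have h4 : w * (g ^ e')⁻¹ * w = (g ^ e')⁻¹ := eq_inv_of_mul_eq_one_right h3
    calc g ^ e' * w = (w * w) * g ^ e' * w := by rw [hd.wsq, one_mul]
      _ = w * (w * (g ^ e')⁻¹ * w)⁻¹ := by rw [mul_inv_rev, mul_inv_rev, hd.w_inv, inv_inv]; group
      _ = w * g ^ e' := by rw [h4, inv_inv]
  intro x hx
  rcases hx with hx | hx
  · exact hd.comm _ hcT _ hx.1
  · have hx' : x = w * (w * x) := (hd.w_w_mul x).symm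
    have h5 : g ^ e' * (w * x) = (w * x) * g ^ e' := hd.comm _ hcT _ hx.1
    calc g ^ e' * x = g ^ e' * (w * (w * x)) := by rw [← hx']
      _ = (g ^ e' * w) * (w * x) := by group
      _ = w * (g ^ e' * (w * x)) := by rw [hcw]; group
      _ = w * ((w * x) * g ^ e') := by rw [h5]
      _ = (w * (w * x)) * g ^ e' := by group
      _ = x * g ^ e' := by rw [← hx']

/-- the normaliser of `U` splits as `U · (odd part of C(U))` -/
theorem split_of_mem_normalizer (hd : Data T w)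
    (hN : ∀ g ∈ Subgroup.normalizer ((U2 hd : Subgroup G) : Set G), g ∈ T ∨ w * g ∈ T)
    {g : G} (hgN : g ∈ Subgroup.normalizer ((U2 hd : Subgroup G) : Set G)) :
    ∃ s ∈ U2 hd, ∃ c, g = s * c ∧ (∀ x ∈ U2 hd, c * x = x * c) ∧ ∃ m : ℕ, Odd m ∧ c ^ m = 1 := by
  rcases hN g hgN with h | h
  · obtain ⟨s, hs, c, h1, h2, h3⟩ := split_of_mem_T hd h hgN
    exact ⟨s, D2_le_U2 hd hs, c, h1, h2, h3⟩
  · have hwN : w * g ∈ Subgroup.normalizer ((U2 hd : Subgroup G) : Set G) :=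
      Subgroup.mul_mem _ (Subgroup.le_normalizer (w_mem_U2 hd)) hgN
    obtain ⟨s, hs, c, h1, h2, h3⟩ := split_of_mem_T hd h hwN
    refine ⟨w * s, (U2 hd).mul_mem (w_mem_U2 hd) (D2_le_U2 hd hs), c, ?_, h2, h3⟩
    rw [mul_assoc, ← h1, hd.w_w_mul]

theorem innNorm_U2 (hd : Data T w)
    (hN : ∀ g ∈ Subgroup.normalizer ((U2 hd : Subgroup G) : Set G), g ∈ T ∨ w * g ∈ T) :
    InnNorm (U2 hd) := by
  intro g hgN
  obtain ⟨s, hs, c, h1, h2, -⟩ := split_of_mem_normalizer hd hN hgN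
  refine ⟨s, hs, fun x hx => ?_⟩
  rw [h1, mul_inv_rev]
  have := h2 x hx
  calc s * c * x * (c⁻¹ * s⁻¹) = s * (c * x) * c⁻¹ * s⁻¹ := by group
    _ = s * (x * c) * c⁻¹ * s⁻¹ := by rw [this]
    _ = s * x * s⁻¹ := by group

theorem mem_U2_of_pow (hd : Data T w)
    (hN : ∀ g ∈ Subgroup.normalizer ((U2 hd : Subgroup G) : Set G), g ∈ T ∨ w * g ∈ T)
    {g : G} (hgN : g ∈ Subgroup.normalizer ((U2 hd : Subgroup G) : Set G))
    (hg2 : ∃ k : ℕ, g ^ 2 ^ k = 1) : g ∈ U2 hd := by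
  obtain ⟨s, hs, c, h1, h2, m, hm, hcm⟩ := split_of_mem_normalizer hd hN hgN
  obtain ⟨l, hl⟩ := hg2
  obtain ⟨j, hj⟩ := exists_pow_of_mem_U2 hd hs
  have hsc : Commute s c := (h2 s hs).symm
  have hc : c = s⁻¹ * g := by rw [h1]; group
  have hcomm : Commute s⁻¹ g := by
    rw [h1]
    exact (Commute.refl s).inv_left.mul_right hsc.inv_left
  have hc2 : c ^ 2 ^ (l + j) = 1 := by
    have e1 : g ^ 2 ^ (l + j) = 1 := by rw [pow_add, pow_mul, hl, one_pow]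
    have e2 : s ^ 2 ^ (l + j) = 1 := by rw [pow_add, mul_comm, pow_mul, hj, one_pow]
    rw [hc, hcomm.mul_pow, inv_pow, e1, e2, inv_one, mul_one]
  have hc1 := eq_one_of_pow_two_of_odd hc2 hm hcm
  rw [h1, hc1, mul_one]
  exact hs

/-- **Main theorem**: `U` is a Sylow `2`-subgroup with `Aut_G(U) = Inn(U)`. -/
theorem exists_sylow (hd : Data T w)
    (hN : ∀ g ∈ Subgroup.normalizer ((U2 hd : Subgroup G) : Set G), g ∈ T ∨ w * g ∈ T) :
    ∃ S : Sylow 2 G, (S : Subgroup G) = U2 hd :=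
  exists_sylow_of_normalizer 2 (U2 hd) (U2_isPGroup hd)
    (fun _ hgN hg2 => mem_U2_of_pow hd hN hgN hg2)

end main

end Cfsg.Agent.Helper25.DihExt
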