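import Mathlib
import Cfsg.Agent.Lib.Helper25.DihExt

/-!
# Diagonal and antidiagonal `3 × 3` matrices
-/

set_option autoImplicit false
set_option linter.style.haveILetI false
set_option linter.unusedSectionVars false
set_option linter.unusedSimpArgs false

namespace Cfsg.Agent.Helper25.Mono3

open Matrix

variable {K : Type*} [Field K]

/-- diagonal matrix -/
def dg (x y z : K) : Matrix (Fin 3) (Fin 3) K := !![x, 0, 0; 0, y, 0; 0, 0, z]

/-- the antidiagonal involution -/
def Wm : Matrix (Fin 3) (Fin 3) K := !![0, 0, 1; 0, -1, 0; 1, 0, 0]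

theorem dg_mul (x y z x' y' z' : K) : dg x y z * dg x' y' z' = dg (x * x') (y * y') (z * z') := by
  ext i j
  fin_cases i <;> fin_cases j <;> simp [dg, Matrix.mul_apply, Fin.sum_univ_three]

theorem dg_one : dg (1 : K) 1 1 = 1 := by
  ext i j
  fin_cases i <;> fin_cases j <;> simp [dg, Matrix.one_apply]

theorem Wm_mul_Wm : (Wm : Matrix (Fin 3) (Fin 3) K) * Wm = 1 := by
  ext i j
  fin_cases i <;> fin_cases j <;> simp [Wm, Matrix.mul_apply, Fin.sum_univ_three, Matrix.one_apply]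

theorem Wm_dg_Wm (x y z : K) : Wm * dg x y z * Wm = dg z y x := by
  ext i j
  fin_cases i <;> fin_cases j <;> simp [dg, Wm, Matrix.mul_apply, Fin.sum_univ_three]

theorem det_dg (x y z : K) : (dg x y z).det = x * y * z := by
  rw [Matrix.det_fin_three]
  simp [dg]

theorem det_Wm : (Wm : Matrix (Fin 3) (Fin 3) K).det = 1 := by
  rw [Matrix.det_fin_three]
  simp [Wm]

theorem dg_inj {x y z x' y' z' : K} (h : dg x y z = dg x' y' z') : x = x' ∧ y = y' ∧ z = z' := by
  refine ⟨?_, ?_, ?_⟩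
  · simpa [dg] using congrFun (congrFun h 0) 0
  · simpa [dg] using congrFun (congrFun h 1) 1
  · simpa [dg] using congrFun (congrFun h 2) 2

theorem dg_pow (x y z : K) (n : ℕ) : dg x y z ^ n = dg (x ^ n) (y ^ n) (z ^ n) := by
  induction n with
  | zero => simp only [pow_zero]; exact dg_one.symm
  | succ n ih => rw [pow_succ, ih, dg_mul, ← pow_succ, ← pow_succ, ← pow_succ]

theorem eq_dg_of_offdiag {M : Matrix (Fin 3) (Fin 3) K} (h01 : M 0 1 = 0) (h02 : M 0 2 = 0)
    (h10 : M 1 0 = 0) (h12 : M 1 2 = 0) (h20 : M 2 0 = 0) (h21 : M 2 1 = 0) :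
    M = dg (M 0 0) (M 1 1) (M 2 2) := by
  ext i j
  fin_cases i <;> fin_cases j <;> simp [dg, h01, h02, h10, h12, h20, h21]

theorem Wm_mul_eq_dg_of {M : Matrix (Fin 3) (Fin 3) K} (h00 : M 0 0 = 0) (h01 : M 0 1 = 0)
    (h10 : M 1 0 = 0) (h12 : M 1 2 = 0) (h21 : M 2 1 = 0) (h22 : M 2 2 = 0) :
    Wm * M = dg (M 2 0) (-M 1 1) (M 0 2) := by
  ext i j
  fin_cases i <;> fin_cases j <;>
    simp [dg, Wm, Matrix.mul_apply, Fin.sum_univ_three, h00, h01, h10, h12, h21, h22]

/-- entry equations for `M * dg a b c = dg a' b' c' * M` -/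
theorem entry_eqs {M : Matrix (Fin 3) (Fin 3) K} {a b c a' b' c' : K}
    (h : M * dg a b c = dg a' b' c' * M) :
    (M 0 0 * a = a' * M 0 0 ∧ M 0 1 * b = a' * M 0 1 ∧ M 0 2 * c = a' * M 0 2) ∧
    (M 1 0 * a = b' * M 1 0 ∧ M 1 1 * b = b' * M 1 1 ∧ M 1 2 * c = b' * M 1 2) ∧
    (M 2 0 * a = c' * M 2 0 ∧ M 2 1 * b = c' * M 2 1 ∧ M 2 2 * c = c' * M 2 2) := by
  have key : ∀ i j, (M * dg a b c) i j = (dg a' b' c' * M) i j := fun i j => by rw [h]
  refine ⟨⟨?_, ?_, ?_⟩, ⟨?_, ?_, ?_⟩, ⟨?_, ?_, ?_⟩⟩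
  · simpa [dg, Matrix.mul_apply, Fin.sum_univ_three] using key 0 0
  · simpa [dg, Matrix.mul_apply, Fin.sum_univ_three] using key 0 1
  · simpa [dg, Matrix.mul_apply, Fin.sum_univ_three] using key 0 2
  · simpa [dg, Matrix.mul_apply, Fin.sum_univ_three] using key 1 0
  · simpa [dg, Matrix.mul_apply, Fin.sum_univ_three] using key 1 1
  · simpa [dg, Matrix.mul_apply, Fin.sum_univ_three] using key 1 2
  · simpa [dg, Matrix.mul_apply, Fin.sum_univ_three] using key 2 0
  · simpa [dg, Matrix.mul_apply, Fin.sum_univ_three] using key 2 1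
  · simpa [dg, Matrix.mul_apply, Fin.sum_univ_three] using key 2 2

theorem zero_of_mul_eq {a p q : K} (h : a * p = q * a) (hpq : p ≠ q) : a = 0 := by
  have h1 : a * (p - q) = 0 := by rw [mul_sub, h]; ring
  rcases mul_eq_zero.mp h1 with h2 | h2
  · exact h2
  · exact absurd (sub_eq_zero.mp h2) hpq

section imag

variable {i : K} (hi : i * i = -1) (h2 : (2 : K) ≠ 0)
include hi h2

theorem i_ne_zero : i ≠ 0 := by
  intro h
  rw [h, mul_zero] at hi
  exact one_ne_zero (neg_eq_zero.mp hi.symm)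

theorem i_ne_one : i ≠ 1 := by
  intro h
  rw [h, mul_one] at hi
  apply h2
  have : (2 : K) = 1 - (-1) := by ring
  rw [this, ← hi]; ring

theorem i_ne_neg_one : i ≠ -1 := by
  intro h
  rw [h] at hi
  apply h2
  have : (2 : K) = (-1) * (-1) - (-1) := by ring
  rw [this, hi]; ring

theorem i_ne_neg : i ≠ -i := by
  intro h
  have h3 : 2 * i = 0 := by
    have : 2 * i = i - (-i) := by ring
    rw [this, ← h]; ring
  rcases mul_eq_zero.mp h3 with h4 | h4
  · exact h2 h4
  · exact i_ne_zero hi h2 h4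

theorem neg_i_ne_one : -i ≠ 1 := by
  intro h
  apply i_ne_neg_one hi h2
  rw [← h, neg_neg]

/-- a matrix commuting with `dg i 1 (-i)` is diagonal -/
theorem diag_of_comm {M : Matrix (Fin 3) (Fin 3) K}
    (h : M * dg i 1 (-i) = dg i 1 (-i) * M) : M = dg (M 0 0) (M 1 1) (M 2 2) := by
  obtain ⟨⟨-, e01, e02⟩, ⟨e10, -, e12⟩, ⟨e20, e21, -⟩⟩ := entry_eqs h
  apply eq_dg_of_offdiag
  · exact zero_of_mul_eq e01 (i_ne_one hi h2).symm
  · exact zero_of_mul_eq e02 (i_ne_neg hi h2).symm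
  · exact zero_of_mul_eq e10 (i_ne_one hi h2)
  · exact zero_of_mul_eq e12 (neg_i_ne_one hi h2)
  · exact zero_of_mul_eq e20 (i_ne_neg hi h2)
  · exact zero_of_mul_eq e21 (neg_i_ne_one hi h2).symm

/-- a matrix conjugating `dg i 1 (-i)` to some `dg u 1 u⁻¹` is diagonal or antidiagonal -/
theorem shape_of_conj {M : Matrix (Fin 3) (Fin 3) K} (hdet : M.det ≠ 0) {u u' : K}
    (huu' : u * u' = 1) (h : M * dg i 1 (-i) = dg u 1 u' * M) :
    M = dg (M 0 0) (M 1 1) (M 2 2) ∨ Wm * M = dg (M 2 0) (-M 1 1) (M 0 2) := by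
  obtain ⟨⟨e00, e01, e02⟩, ⟨e10, -, e12⟩, ⟨e20, e21, e22⟩⟩ := entry_eqs h
  have h10 : M 1 0 = 0 := zero_of_mul_eq e10 (i_ne_one hi h2)
  have h12 : M 1 2 = 0 := zero_of_mul_eq e12 (neg_i_ne_one hi h2)
  have hdet' : M.det = M 1 1 * (M 0 0 * M 2 2 - M 0 2 * M 2 0) := by
    rw [Matrix.det_fin_three, h10, h12]; ring
  have hi0 := i_ne_zero hi h2
  by_cases h00 : M 0 0 = 0
  · by_cases h02 : M 0 2 = 0
    · exfalso
      apply hdet
      rw [hdet', h00, h02]; ring
    · right
      have hu : u = -i := by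
        have h3 : M 0 2 * (-i - u) = 0 := by rw [mul_sub, e02]; ring
        rcases mul_eq_zero.mp h3 with h4 | h4
        · exact absurd h4 h02
        · exact (sub_eq_zero.mp h4).symm
      have hu' : u' = i := by
        have h3 : u' = (u * u') * u' := by rw [huu', one_mul]
        have h4 : i * (u * u') = i := by rw [huu', mul_one]
        rw [hu] at h4
        have h5 : i * (-i * u') = u' := by
          calc i * (-i * u') = -(i * i) * u' := by ring
            _ = u' := by rw [hi]; ring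
        rw [← h5, h4]
      subst hu hu'
      apply Wm_mul_eq_dg_of h00
      · exact zero_of_mul_eq e01 (neg_i_ne_one hi h2).symm
      · exact h10
      · exact h12
      · exact zero_of_mul_eq e21 (i_ne_one hi h2).symm
      · exact zero_of_mul_eq e22 (i_ne_neg hi h2).symm
  · left
    have hu : u = i := by
      have h3 : M 0 0 * (i - u) = 0 := by rw [mul_sub, e00]; ring
      rcases mul_eq_zero.mp h3 with h4 | h4
      · exact absurd h4 h00
      · exact (sub_eq_zero.mp h4).symm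
    have hu' : u' = -i := by
      have h4 : -i * (u * u') = -i := by rw [huu', mul_one]
      rw [hu] at h4
      have h5 : -i * (i * u') = u' := by
        calc -i * (i * u') = -(i * i) * u' := by ring
          _ = u' := by rw [hi]; ring
      rw [← h5, h4]
    subst hu hu'
    apply eq_dg_of_offdiag
    · exact zero_of_mul_eq e01 (i_ne_one hi h2).symm
    · exact zero_of_mul_eq e02 (i_ne_neg hi h2).symm
    · exact h10
    · exact h12
    · exact zero_of_mul_eq e20 (i_ne_neg hi h2)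
    · exact zero_of_mul_eq e21 (neg_i_ne_one hi h2).symm

end imag

end Cfsg.Agent.Helper25.Mono3
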