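import Mathlib
import Cfsg.Agent.Lib.Helper25.Mono3a
import Cfsg.Agent.Lib.Helper19.PGroupBasic

/-!
# Monomial `2`-subgroups of subgroups of `SL₃(K)`
-/

set_option autoImplicit false
set_option linter.style.haveILetI false
set_option linter.unusedSectionVars false
set_option linter.unusedSimpArgs false

namespace Cfsg.Agent.Helper25.Mono3

open Matrix Cfsg.Agent.Helper25.SimpCrit Cfsg.Agent.Helper25.DihExt

variable {K : Type*} [Field K]

/-- the antidiagonal involution in `SL₃` -/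
def wS : SpecialLinearGroup (Fin 3) K := ⟨Wm, det_Wm⟩

variable (G : Subgroup (SpecialLinearGroup (Fin 3) K))

theorem val_mul (a b : G) : (a * b).1.1 = a.1.1 * b.1.1 := rfl

theorem val_one : (1 : G).1.1 = 1 := rfl

theorem val_pow (a : G) (n : ℕ) : (a ^ n).1.1 = a.1.1 ^ n := by
  induction n with
  | zero => rfl
  | succ n ih => rw [pow_succ, pow_succ, val_mul, ih]

theorem g_ext {a b : G} (h : a.1.1 = b.1.1) : a = b := Subtype.ext (Subtype.ext h)

theorem val_det (a : G) : a.1.1.det = 1 := a.1.2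

theorem val_inv_mul (a : G) : (a⁻¹).1.1 * a.1.1 = 1 := by
  rw [← val_mul, inv_mul_cancel, val_one]

theorem val_mul_inv (a : G) : a.1.1 * (a⁻¹).1.1 = 1 := by
  rw [← val_mul, mul_inv_cancel, val_one]

theorem ne_zero_of_dg {a : G} {x y z : K} (h : a.1.1 = dg x y z) : x ≠ 0 ∧ y ≠ 0 ∧ z ≠ 0 := by
  have h1 := val_det G a
  rw [h, det_dg] at h1
  refine ⟨?_, ?_, ?_⟩ <;> (intro h0; rw [h0] at h1; simp at h1)

theorem val_inv_of_dg {a : G} {x y z : K} (h : a.1.1 = dg x y z) :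
    (a⁻¹).1.1 = dg x⁻¹ y⁻¹ z⁻¹ := by
  obtain ⟨hx, hy, hz⟩ := ne_zero_of_dg G h
  have h1 : a.1.1 * dg x⁻¹ y⁻¹ z⁻¹ = 1 := by
    rw [h, dg_mul, mul_inv_cancel₀ hx, mul_inv_cancel₀ hy, mul_inv_cancel₀ hz, dg_one]
  calc (a⁻¹).1.1 = (a⁻¹).1.1 * (a.1.1 * dg x⁻¹ y⁻¹ z⁻¹) := by rw [h1, Matrix.mul_one]
    _ = dg x⁻¹ y⁻¹ z⁻¹ := by rw [← Matrix.mul_assoc, val_inv_mul, Matrix.one_mul]

/-- the diagonal torus of `G` -/
def TG : Subgroup G where
  carrier := {g | ∃ x y z, g.1.1 = dg x y z}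
  one_mem' := ⟨1, 1, 1, dg_one.symm⟩
  mul_mem' := by
    rintro a b ⟨x, y, z, ha⟩ ⟨x', y', z', hb⟩
    exact ⟨_, _, _, by rw [val_mul, ha, hb, dg_mul]⟩
  inv_mem' := by
    rintro a ⟨x, y, z, ha⟩
    exact ⟨_, _, _, val_inv_of_dg G ha⟩

theorem mem_TG {g : G} : g ∈ TG G ↔ ∃ x y z, g.1.1 = dg x y z := Iff.rfl

variable {G}
variable (hW : (wS : SpecialLinearGroup (Fin 3) K) ∈ G)

/-- `w` as an element of `G` -/
def wG : G := ⟨wS, hW⟩

theorem wG_val : (wG hW).1.1 = Wm := rfl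

theorem one_ne_zero_of_two (h2 : (2 : K) ≠ 0) : (1 : K) ≠ 0 := one_ne_zero

theorem data : Data (TG G) (wG hW) where
  comm := by
    rintro a ⟨x, y, z, ha⟩ b ⟨x', y', z', hb⟩
    apply g_ext
    rw [val_mul, val_mul, ha, hb, dg_mul, dg_mul, mul_comm x, mul_comm y, mul_comm z]
  wsq := by
    apply g_ext
    rw [val_mul, wG_val, Wm_mul_Wm, val_one]
  wT := by
    rintro t ⟨x, y, z, ht⟩
    exact ⟨_, _, _, by rw [val_mul, val_mul, wG_val, ht, Wm_dg_Wm]⟩
  wnot := by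
    rintro ⟨x, y, z, h⟩
    have := congrFun (congrFun h 0) 2
    simp [wG_val, Wm, dg] at this

/-- the `2`-part of the torus -/
abbrev DG : Subgroup G := D2 (data hW)

/-- the monomial `2`-group -/
abbrev UG : Subgroup G := U2 (data hW)

theorem mem_DG_iff {g : G} : g ∈ DG hW ↔ ∃ x y z, g.1.1 = dg x y z ∧
    ∃ k : ℕ, x ^ 2 ^ k = 1 ∧ y ^ 2 ^ k = 1 ∧ z ^ 2 ^ k = 1 := by
  constructor
  · rintro ⟨⟨x, y, z, h⟩, k, hk⟩
    refine ⟨x, y, z, h, k, ?_⟩
    have h1 := congrArg (fun a : G => a.1.1) hk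
    simp only [val_pow, val_one, h, dg_pow, ← dg_one] at h1
    exact dg_inj h1
  · rintro ⟨x, y, z, h, k, hx, hy, hz⟩
    refine ⟨⟨x, y, z, h⟩, k, ?_⟩
    apply g_ext
    rw [val_pow, h, dg_pow, hx, hy, hz, dg_one, val_one]

/-- the commutator `[d, w]` of a diagonal element with `w` -/
theorem comm_w_val {d : G} {x y z : K} (h : d.1.1 = dg x y z) :
    (d * wG hW * d⁻¹ * wG hW).1.1 = dg (x * z⁻¹) 1 (z * x⁻¹) := by
  obtain ⟨hx, hy, hz⟩ := ne_zero_of_dg G h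
  rw [val_mul, val_mul, val_mul, wG_val, val_inv_of_dg G h, h, Matrix.mul_assoc, Matrix.mul_assoc,
    ← Matrix.mul_assoc Wm, Wm_dg_Wm, dg_mul, mul_inv_cancel₀ hy]

section normalizer

variable {i : K} (hi : i * i = -1) (h2 : (2 : K) ≠ 0)
include hi h2 hW

/-- **(N)**: the normaliser of `U` consists of monomial matrices -/
theorem normalizer_shape {d : G} (hd : d ∈ DG hW)
    (hdw : (d * wG hW * d⁻¹ * wG hW).1.1 = dg i 1 (-i))
    {g : G} (hg : g ∈ Subgroup.normalizer ((UG hW : Subgroup G) : Set G)) :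
    g ∈ TG G ∨ wG hW * g ∈ TG G := by
  have hD := data hW
  have ha : g * d * g⁻¹ ∈ UG hW :=
    (Subgroup.mem_normalizer_iff.mp hg d).mp (D2_le_U2 hD hd)
  have hb : g * wG hW * g⁻¹ ∈ UG hW :=
    (Subgroup.mem_normalizer_iff.mp hg _).mp (w_mem_U2 hD)
  obtain ⟨e, he, hcomm⟩ := commutator_U2 hD ha hb
  obtain ⟨x, y, z, hexyz⟩ := he.1
  obtain ⟨hx, hy, hz⟩ := ne_zero_of_dg G hexyz
  have h1 : g * (d * wG hW * d⁻¹ * (wG hW)⁻¹) = (e * wG hW * e⁻¹ * wG hW) * g := by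
    rw [← hcomm]
    group
  rw [hD.w_inv] at h1
  have h3 := congrArg (fun a : G => a.1.1) h1
  simp only [val_mul G g, val_mul G _ g] at h3
  rw [hdw, comm_w_val hW hexyz] at h3
  have hdet : g.1.1.det ≠ 0 := by rw [val_det]; exact one_ne_zero
  have huu : x * z⁻¹ * (z * x⁻¹) = 1 := by field_simp
  rcases shape_of_conj hi h2 hdet huu h3 with h4 | h4
  · exact Or.inl ⟨_, _, _, h4⟩
  · exact Or.inr ⟨_, _, _, by rw [val_mul, wG_val]; exact h4⟩

/-- the centre of `G` has no `2`-torsion -/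
theorem center_no_two_torsion {t : G} (ht : t.1.1 = dg i 1 (-i)) {g₀ : G} (hg₀ : g₀.1.1 1 0 ≠ 0)
    {z : G} (hz : z ∈ Subgroup.center G) {k : ℕ} (hk : z ^ 2 ^ k = 1) : z = 1 := by
  rw [Subgroup.mem_center_iff] at hz
  have h1 : z.1.1 * dg i 1 (-i) = dg i 1 (-i) * z.1.1 := by
    rw [← ht, ← val_mul, ← val_mul, hz t]
  have h3 := diag_of_comm hi h2 h1
  set x := z.1.1 0 0
  set y := z.1.1 1 1
  set x' := z.1.1 2 2
  -- commute with w
  have h4 : Wm * z.1.1 * Wm = z.1.1 := by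
    have := hz (wG hW)
    have h5 : (wG hW * z * wG hW).1.1 = z.1.1 := by
      rw [this, mul_assoc, (data hW).wsq, mul_one]
    calc Wm * z.1.1 * Wm = (wG hW * z * wG hW).1.1 := rfl
      _ = z.1.1 := h5
  rw [h3, Wm_dg_Wm] at h4
  obtain ⟨hx'x, -, -⟩ := dg_inj h4
  -- commute with g₀
  have h6 : (g₀.1.1 * z.1.1) 1 0 = (z.1.1 * g₀.1.1) 1 0 := by
    rw [← val_mul, ← val_mul, hz g₀]
  rw [h3] at h6
  simp only [Matrix.mul_apply, Fin.sum_univ_three, dg] at h6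
  simp at h6
  have hyx : y = x := by
    have h7 : g₀.1.1 1 0 * (y - x) = 0 := by
      first | linear_combination h6 | linear_combination -h6
    rcases mul_eq_zero.mp h7 with h8 | h8
    · exact absurd h8 hg₀
    · exact sub_eq_zero.mp h8
  have hdet := val_det G z
  rw [h3, det_dg, hx'x, hyx] at hdet
  have hx3 : x ^ 3 = 1 := by rw [← hdet]; ring
  have hxk : x ^ 2 ^ k = 1 := by
    have h7 := congrArg (fun a : G => a.1.1) hk
    simp only [val_pow, val_one, h3, dg_pow, ← dg_one] at h7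
    exact (dg_inj h7).1
  have hx1 : x = 1 := by
    have d1 := orderOf_dvd_of_pow_eq_one hx3
    have d2 := orderOf_dvd_of_pow_eq_one hxk
    have hco : Nat.Coprime 3 (2 ^ k) := Nat.Coprime.pow_right k (by norm_num)
    have := Nat.dvd_gcd d1 d2
    rw [hco.gcd_eq_one, Nat.dvd_one] at this
    exact orderOf_eq_one_iff.mp this
  apply g_ext
  rw [h3, hx'x, hyx, hx1, dg_one, val_one]

/-- a central involution of `U` is `diag(-1, 1, -1)` -/
theorem central_involution_val {t : G} (ht : t.1.1 = dg i 1 (-i)) (htU : t ∈ UG hW)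
    {u : G} (hu : u ∈ UG hW) (hcent : ∀ x ∈ UG hW, u * x = x * u) (hu2 : u * u = 1)
    (hu1 : u ≠ 1) : u.1.1 = dg (-1) 1 (-1) := by
  have h1 : u.1.1 * dg i 1 (-i) = dg i 1 (-i) * u.1.1 := by
    rw [← ht, ← val_mul, ← val_mul, hcent t htU]
  have h3 := diag_of_comm hi h2 h1
  set x := u.1.1 0 0
  set y := u.1.1 1 1
  set x' := u.1.1 2 2
  have h4 : Wm * u.1.1 * Wm = u.1.1 := by
    have := hcent (wG hW) (w_mem_U2 (data hW))
    have h5 : (wG hW * u * wG hW).1.1 = u.1.1 := by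
      rw [mul_assoc, this, ← mul_assoc, (data hW).wsq, one_mul]
    calc Wm * u.1.1 * Wm = (wG hW * u * wG hW).1.1 := rfl
      _ = u.1.1 := h5
  rw [h3, Wm_dg_Wm] at h4
  obtain ⟨hx'x, -, -⟩ := dg_inj h4
  have h6 := congrArg (fun a : G => a.1.1) hu2
  simp only [val_mul, val_one, h3, dg_mul, ← dg_one] at h6
  obtain ⟨hxx, hyy, -⟩ := dg_inj h6
  have hdet := val_det G u
  rw [h3, det_dg, hx'x] at hdet
  have hy1 : y = 1 := by
    have : x * y * x = (x * x) * y := by ring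
    rw [this, hxx, one_mul] at hdet
    exact hdet
  have hx : x = 1 ∨ x = -1 := mul_self_eq_one_iff.mp hxx
  rcases hx with hx | hx
  · exfalso
    apply hu1
    apply g_ext
    rw [h3, hx'x, hx, hy1, dg_one, val_one]
  · rw [h3, hx'x, hx, hy1]

end normalizer

end Cfsg.Agent.Helper25.Mono3
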