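import Mathlib
import Cfsg.Agent.Lib.Helper25.Mono3b

/-!
# Monomial `2`-subgroups of subgroups of `SL₃(K)`: fusion-closed subgroups and the assembly
-/

set_option autoImplicit false
set_option linter.style.haveILetI false
set_option linter.unusedSectionVars false
set_option linter.unusedSimpArgs false

namespace Cfsg.Agent.Helper25.Mono3

open Matrix Cfsg Cfsg.FusionSystem Cfsg.Agent.Helper25.SimpCrit Cfsg.Agent.Helper25.DihExt

/-- a nontrivial subgroup of a finite `2`-group `U` normalised by `U` contains a central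
involution of `U` -/
theorem exists_central_involution {G : Type*} [Group G] [Finite G] {U T' : Subgroup G}
    (hU : IsPGroup 2 U) (hT'U : T' ≤ U) (hne : T' ≠ ⊥)
    (hnorm : ∀ x ∈ T', ∀ u ∈ U, u * x * u⁻¹ ∈ T') :
    ∃ z ∈ T', z ≠ 1 ∧ z * z = 1 ∧ ∀ x ∈ U, z * x = x * z := by
  haveI : Fact (Nat.Prime 2) := ⟨Nat.prime_two⟩
  haveI : (T'.subgroupOf U).Normal := by
    constructor
    intro n hn g
    show ((g * n * g⁻¹ : U) : G) ∈ T'
    exact hnorm _ hn _ g.2
  have hne' : T'.subgroupOf U ≠ ⊥ := by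
    intro h
    apply hne
    rw [eq_bot_iff]
    intro x hx
    have : (⟨x, hT'U hx⟩ : U) ∈ T'.subgroupOf U := hx
    rw [h, Subgroup.mem_bot] at this
    rw [Subgroup.mem_bot]
    exact congrArg Subtype.val this
  have h1 := Cfsg.Agent.Helper19.normal_inf_center_ne_bot hU (T'.subgroupOf U) hne'
  obtain ⟨⟨v, hv⟩, hv1⟩ := (Subgroup.ne_bot_iff_exists_ne_one).mp h1
  obtain ⟨hvT, hvZ⟩ := hv
  have hv1' : (v : U) ≠ 1 := fun h => hv1 (Subtype.ext h)
  obtain ⟨k, hk⟩ := (IsPGroup.iff_orderOf.mp hU) (v : U)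
  have hk0 : k ≠ 0 := by
    intro h0
    rw [h0, pow_zero, orderOf_eq_one_iff] at hk
    exact hv1' hk
  obtain ⟨k', rfl⟩ : ∃ k', k = k' + 1 := ⟨k - 1, by omega⟩
  refine ⟨(((v : U) ^ 2 ^ k' : U) : G), ?_, ?_, ?_, ?_⟩
  · exact Subgroup.pow_mem _ hvT _
  · intro h
    have h2 : (v : U) ^ 2 ^ k' = 1 := Subtype.ext h
    have h3 := orderOf_dvd_of_pow_eq_one h2
    rw [hk] at h3
    have := (Nat.pow_dvd_pow_iff_le_right (by norm_num : 1 < 2)).mp h3
    omega
  · have h2 : ((v : U) ^ 2 ^ k') * ((v : U) ^ 2 ^ k') = 1 := by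
      rw [← pow_add, ← two_mul, ← pow_succ', ← hk, pow_orderOf_eq_one]
    exact congrArg Subtype.val h2
  · intro x hx
    have h2 : ((v : U) ^ 2 ^ k') ∈ Subgroup.center U := Subgroup.pow_mem _ hvZ _
    have h3 := (Subgroup.mem_center_iff.mp h2) ⟨x, hx⟩
    exact (congrArg Subtype.val h3).symm

theorem fus_step {G : Type*} [Group G] {S T' : Subgroup G} (hfc : FusClosed S T') {x g y : G}
    (hx : x ∈ T') (hy : y ∈ S) (h : g * x = y * g) : y ∈ T' := by
  have e : y = g * x * g⁻¹ := by rw [h]; group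
  rw [e]
  apply hfc x hx g
  rw [← e]
  exact hy

variable {K : Type*} [Field K]
variable {G : Subgroup (SpecialLinearGroup (Fin 3) K)}
variable (hW : (wS : SpecialLinearGroup (Fin 3) K) ∈ G)

section

variable {i : K} (hi : i * i = -1) (h2 : (2 : K) ≠ 0)
include hi h2 hW

/-- a nontrivial fusion-closed subgroup of `U` contains `diag(-1,1,-1)` -/
theorem z_mem_of_fusClosed [Finite G] {t : G} (ht : t.1.1 = dg i 1 (-i)) (htU : t ∈ UG hW)
    {T' : Subgroup G} (hT'U : T' ≤ UG hW) (hne : T' ≠ ⊥) (hfc : FusClosed (UG hW) T') :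
    ∃ z ∈ T', z.1.1 = dg (-1) 1 (-1) := by
  obtain ⟨z, hzT, hz1, hz2, hzc⟩ := exists_central_involution (U2_isPGroup (data hW)) hT'U hne
    (fun x hx u hu => hfc x hx u ((UG hW).mul_mem ((UG hW).mul_mem hu (hT'U hx))
      ((UG hW).inv_mem hu)))
  exact ⟨z, hzT, central_involution_val hW hi h2 ht htU (hT'U hzT) hzc hz2 hz1⟩

end

/-- commutators with `w` lie in a fusion-closed subgroup containing `w` -/
theorem comm_w_mem {T' : Subgroup G} (hfc : FusClosed (UG hW) T')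
    (hw : wG hW ∈ T') {d : G} (hd : d ∈ DG hW) : d * wG hW * d⁻¹ * wG hW ∈ T' := by
  apply T'.mul_mem _ hw
  apply hfc _ hw
  exact (UG hW).mul_mem ((UG hW).mul_mem (D2_le_U2 _ hd) (w_mem_U2 _))
    ((UG hW).inv_mem (D2_le_U2 _ hd))

theorem eq_UG_of_le {T' : Subgroup G} (hT'U : T' ≤ UG hW) (hw : wG hW ∈ T')
    (hD : DG hW ≤ T') : T' = UG hW := by
  apply le_antisymm hT'U
  intro x hx
  rcases hx with h | h
  · exact hD h
  · have := T'.mul_mem hw (hD h)
    rwa [(data hW).w_w_mul] at this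

/-- **Assembly.** -/
theorem fusion_simple_of_data [Finite G] {H : Type*} [Group H] [Finite H] (e : G ≃* H)
    {i : K} (hi : i * i = -1) (h2 : (2 : K) ≠ 0) {d₀ : G} (hd₀ : d₀ ∈ DG hW)
    (hdw : (d₀ * wG hW * d₀⁻¹ * wG hW).1.1 = dg i 1 (-i))
    {g₀ : G} (hg₀ : g₀.1.1 1 0 ≠ 0) (hNC : NoClosed (UG hW))
    (S : Sylow 2 (H ⧸ Subgroup.center H)) :
    (groupFusionSystem (S : Subgroup (H ⧸ Subgroup.center H))).IsSimple 2 := by
  haveI : Fact (Nat.Prime 2) := ⟨Nat.prime_two⟩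
  have hN : ∀ g ∈ Subgroup.normalizer ((UG hW : Subgroup G) : Set G),
      g ∈ TG G ∨ wG hW * g ∈ TG G := fun g hg => normalizer_shape hW hi h2 hd₀ hdw hg
  obtain ⟨U, hU⟩ := exists_sylow (data hW) hN
  apply isSimple_of_central_quotient_equiv_inn e 2 U
  · intro z hz k hk
    exact center_no_two_torsion hW hi h2 hdw hg₀ hz hk
  · rw [hU]; exact U2_ne_bot _
  · rw [hU]; exact hNC
  · rw [hU]; exact innNorm_U2 _ hN

end Cfsg.Agent.Helper25.Mono3
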