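import Mathlib
import Cfsg.Agent.Lib.Helper25.Mono3c

/-!
# Assembly of the simplicity criterion for `U = O₂(T)⟨w⟩`
-/

set_option autoImplicit false
set_option linter.style.haveILetI false
set_option linter.unusedSectionVars false

namespace Cfsg.Agent.Helper25.DihExt

open Cfsg Cfsg.FusionSystem Cfsg.Agent.Helper25.SimpCrit

variable {G : Type*} [Group G] {T : Subgroup G} {w : G}

/-- **Assembly** for an abstract group. -/
theorem fusion_simple [Finite G] (hd : Data T w)
    (hN : ∀ g ∈ Subgroup.normalizer ((U2 hd : Subgroup G) : Set G), g ∈ T ∨ w * g ∈ T)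
    (hZ : ∀ z ∈ Subgroup.center G, ∀ k : ℕ, z ^ 2 ^ k = 1 → z = 1)
    (hNC : NoClosed (U2 hd)) {H : Type*} [Group H] [Finite H] (e : G ≃* H)
    (S : Sylow 2 (H ⧸ Subgroup.center H)) :
    (groupFusionSystem (S : Subgroup (H ⧸ Subgroup.center H))).IsSimple 2 := by
  haveI : Fact (Nat.Prime 2) := ⟨Nat.prime_two⟩
  obtain ⟨U, hU⟩ := exists_sylow hd hN
  apply isSimple_of_central_quotient_equiv_inn e 2 U hZ
  · rw [hU]; exact U2_ne_bot _
  · rw [hU]; exact hNC
  · rw [hU]; exact innNorm_U2 _ hN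

/-- existence of `2`-elements: the odd-part power of an element -/
theorem exists_two_part [Finite G] (g : G) : ∃ m k : ℕ, Odd m ∧ (g ^ m) ^ 2 ^ k = 1 := by
  have hn : orderOf g ≠ 0 := (orderOf_pos g).ne'
  obtain ⟨k, m, hm, hkm⟩ := Nat.exists_eq_two_pow_mul_odd hn
  refine ⟨m, k, hm, ?_⟩
  rw [← pow_mul, mul_comm, ← hkm, pow_orderOf_eq_one]

end Cfsg.Agent.Helper25.DihExt
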