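import Mathlib
import Cfsg.Prelude.Def_FischerSpaces

/-!
# The involutions `t(x)` of a partial linear space with three-point lines
-/

set_option autoImplicit false

namespace Cfsg.Agent.Helper25.FM

open Cfsg Cfsg.LineSystem

variable {X : Type*} {L : Set (Set X)}

/-- `z` is the third point of a line through the different points `x, y`. -/
def Third (L : Set (Set X)) (x y z : X) : Prop :=
  z ≠ x ∧ z ≠ y ∧ x ≠ y ∧ ({x, y, z} : Set X) ∈ L

theorem Third.unique (hL : IsPartialLinear L) {x y z z' : X} (h1 : Third L x y z)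
    (h2 : Third L x y z') : z = z' := by
  obtain ⟨hzx, hzy, hxy, hl⟩ := h1
  obtain ⟨hzx', hzy', -, hl'⟩ := h2
  have := hL _ hl _ hl' x y hxy (by simp) (by simp) (by simp) (by simp)
  have hz : z' ∈ ({x, y, z} : Set X) := by rw [this]; simp
  simp only [Set.mem_insert_iff, Set.mem_singleton_iff] at hz
  rcases hz with h | h | h
  · exact absurd h hzx'
  · exact absurd h hzy'
  · exact h.symm

theorem Third.symm {x y z : X} (h : Third L x y z) : Third L y x z := by
  obtain ⟨hzx, hzy, hxy, hl⟩ := h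
  refine ⟨hzy, hzx, hxy.symm, ?_⟩
  rwa [Set.insert_comm]

theorem Third.rot {x y z : X} (h : Third L x y z) : Third L x z y := by
  obtain ⟨hzx, hzy, hxy, hl⟩ := h
  refine ⟨hxy.symm, hzy.symm, hzx.symm, ?_⟩
  rwa [Set.pair_comm z y]

theorem lineMap_of_third (hL : IsPartialLinear L) {x y z : X} (h : Third L x y z) :
    lineMap L x y = z := by
  have hex : ∃ z : X, z ≠ x ∧ z ≠ y ∧ x ≠ y ∧ ({x, y, z} : Set X) ∈ L := ⟨z, h⟩
  unfold lineMap
  rw [dif_pos hex]
  exact Third.unique hL hex.choose_spec h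

theorem lineMap_of_not {x y : X} (h : ¬ ∃ z, Third L x y z) : lineMap L x y = y := by
  have h' : ¬ ∃ z : X, z ≠ x ∧ z ≠ y ∧ x ≠ y ∧ ({x, y, z} : Set X) ∈ L := h
  unfold lineMap
  rw [dif_neg h']

/-- The relation describing `lineMap`. -/
def TRel (L : Set (Set X)) (x y y' : X) : Prop :=
  Third L x y y' ∨ ((¬ ∃ z, Third L x y z) ∧ y' = y)

theorem lineMap_eq_iff (hL : IsPartialLinear L) {x y y' : X} :
    lineMap L x y = y' ↔ TRel L x y y' := by
  constructor
  · rintro rfl
    by_cases h : ∃ z, Third L x y z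
    · obtain ⟨z, hz⟩ := h
      left
      rw [lineMap_of_third hL hz]; exact hz
    · right
      exact ⟨h, lineMap_of_not h⟩
  · rintro (h | ⟨h, rfl⟩)
    · exact lineMap_of_third hL h
    · exact lineMap_of_not h

theorem lineMap_self (x : X) : lineMap L x x = x := by
  apply lineMap_of_not
  rintro ⟨z, -, -, h, -⟩
  exact h rfl

theorem lineMap_involutive (hL : IsPartialLinear L) (x : X) :
    Function.Involutive (lineMap L x) := by
  intro y
  by_cases h : ∃ z, Third L x y z
  · obtain ⟨z, hz⟩ := h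
    rw [lineMap_of_third hL hz, lineMap_of_third hL hz.rot]
  · rw [lineMap_of_not h, lineMap_of_not h]

/-- The permutation `t(x)`. -/
noncomputable def tPerm (hL : IsPartialLinear L) (x : X) : Equiv.Perm X :=
  (lineMap_involutive hL x).toPerm

theorem coe_tPerm (hL : IsPartialLinear L) (x : X) : ⇑(tPerm hL x) = lineMap L x := rfl

theorem tPerm_sq (hL : IsPartialLinear L) (x : X) : tPerm hL x * tPerm hL x = 1 := by
  ext y
  exact lineMap_involutive hL x y

theorem eq_tPerm (hL : IsPartialLinear L) {σ : Equiv.Perm X} {x : X} (h : ⇑σ = lineMap L x) :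
    σ = tPerm hL x := by
  ext y
  rw [h]; rfl

/-- A line through `x` can be written with `x` first. -/
theorem exists_third_of_mem (h3 : ∀ l ∈ L, l.ncard = 3) {l : Set X} (hl : l ∈ L) {x : X}
    (hx : x ∈ l) : ∃ y z, Third L x y z ∧ l = {x, y, z} := by
  obtain ⟨a, b, c, hab, hac, hbc, rfl⟩ := Set.ncard_eq_three.mp (h3 l hl)
  simp only [Set.mem_insert_iff, Set.mem_singleton_iff] at hx
  rcases hx with rfl | rfl | rfl
  · exact ⟨b, c, ⟨hac.symm, hbc.symm, hab, hl⟩, rfl⟩
  · have e : ({a, x, c} : Set X) = {x, a, c} := Set.insert_comm a x {c}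
    exact ⟨a, c, ⟨hbc.symm, hac.symm, hab.symm, e ▸ hl⟩, e⟩
  · have e : ({a, b, x} : Set X) = {x, a, b} := by
      ext w; simp only [Set.mem_insert_iff, Set.mem_singleton_iff]; tauto
    exact ⟨a, b, ⟨hbc, hab.symm, hac.symm, e ▸ hl⟩, e⟩

theorem orderOf_tPerm (hL : IsPartialLinear L) (h3 : ∀ l ∈ L, l.ncard = 3)
    (hnd : IsNondegenerate L) (x : X) : orderOf (tPerm hL x) = 2 := by
  have : Fact (Nat.Prime 2) := ⟨Nat.prime_two⟩
  apply orderOf_eq_prime
  · rw [pow_two]; exact tPerm_sq hL x
  · intro h1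
    obtain ⟨l, hl, hxl⟩ := hnd x
    obtain ⟨y, z, hyz, -⟩ := exists_third_of_mem h3 hl hxl
    have : tPerm hL x y = y := by rw [h1]; rfl
    rw [coe_tPerm, lineMap_of_third hL hyz] at this
    exact hyz.2.1 this

/-- The image of a line through `x` under `t(x)` is the line itself. -/
theorem image_of_mem (hL : IsPartialLinear L) (h3 : ∀ l ∈ L, l.ncard = 3) {l : Set X} (hl : l ∈ L)
    {x : X} (hx : x ∈ l) : lineMap L x '' l = l := by
  obtain ⟨y, z, hyz, rfl⟩ := exists_third_of_mem h3 hl hx
  rw [Set.image_insert_eq, Set.image_insert_eq, Set.image_singleton, lineMap_self,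
    lineMap_of_third hL hyz, lineMap_of_third hL hyz.rot]
  rw [Set.pair_comm z y]

/-- Automorphisms conjugate `t(y)` to `t(σ y)`. -/
theorem map_lineMap (hL : IsPartialLinear L) {σ : Equiv.Perm X} (hσ : IsIso L L σ) (y w : X) :
    σ (lineMap L y w) = lineMap L (σ y) (σ w) := by
  have himg : ∀ a b c : X, σ '' ({a, b, c} : Set X) = {σ a, σ b, σ c} := by
    intro a b c
    rw [Set.image_insert_eq, Set.image_insert_eq, Set.image_singleton]
  by_cases h : ∃ v, Third L y w v
  · obtain ⟨v, hv⟩ := h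
    have hv' : Third L (σ y) (σ w) (σ v) := by
      obtain ⟨h1, h2, h3, h4⟩ := hv
      refine ⟨fun hh => h1 (σ.injective hh), fun hh => h2 (σ.injective hh),
        fun hh => h3 (σ.injective hh), ?_⟩
      rw [← himg]
      exact (hσ _).mp h4
    rw [lineMap_of_third hL hv, lineMap_of_third hL hv']
  · have h' : ¬ ∃ v', Third L (σ y) (σ w) v' := by
      rintro ⟨v', h1, h2, h3, h4⟩
      apply h
      refine ⟨σ.symm v', ?_, ?_, ?_, ?_⟩
      · intro hh; apply h1; rw [← hh]; simp
      · intro hh; apply h2; rw [← hh]; simp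
      · intro hh; apply h3; rw [hh]
      · apply (hσ _).mpr
        rw [himg]
        simpa using h4
    rw [lineMap_of_not h, lineMap_of_not h']

theorem tPerm_conj (hL : IsPartialLinear L) {σ : Equiv.Perm X} (hσ : IsIso L L σ) (y : X) :
    σ * tPerm hL y * σ⁻¹ = tPerm hL (σ y) := by
  ext w
  simp only [Equiv.Perm.coe_mul, Function.comp_apply, coe_tPerm]
  rw [map_lineMap hL hσ]
  simp

/-- If every `t(x)` maps lines to lines, it is an automorphism. -/
theorem isIso_tPerm (hL : IsPartialLinear L) (hC : ∀ x : X, ∀ l ∈ L, lineMap L x '' l ∈ L) (x : X) :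
    IsIso L L (tPerm hL x) := by
  intro l
  constructor
  · intro hl
    exact hC x l hl
  · intro hl
    have := hC x _ hl
    rw [coe_tPerm, Set.image_image] at this
    have e : (fun y => lineMap L x (lineMap L x y)) = id := by
      funext y; exact lineMap_involutive hL x y
    rwa [e, Set.image_id] at this

theorem three_transp (hL : IsPartialLinear L) (hC : ∀ x : X, ∀ l ∈ L, lineMap L x '' l ∈ L)
    (x y : X) : (tPerm hL x * tPerm hL y) ^ 2 = 1 ∨ (tPerm hL x * tPerm hL y) ^ 3 = 1 := by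
  have hx := isIso_tPerm hL hC x
  have hy := isIso_tPerm hL hC y
  have hxinv : (tPerm hL x)⁻¹ = tPerm hL x := inv_eq_of_mul_eq_one_left (tPerm_sq hL x)
  have hyinv : (tPerm hL y)⁻¹ = tPerm hL y := inv_eq_of_mul_eq_one_left (tPerm_sq hL y)
  have c1 := tPerm_conj hL hx y
  have c2 := tPerm_conj hL hy x
  rw [hxinv] at c1
  rw [hyinv] at c2
  by_cases h : ∃ z, Third L x y z
  · obtain ⟨z, hz⟩ := h
    right
    rw [coe_tPerm, lineMap_of_third hL hz] at c1
    rw [coe_tPerm, lineMap_of_third hL hz.symm] at c2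
    calc (tPerm hL x * tPerm hL y) ^ 3
        = (tPerm hL x * tPerm hL y * tPerm hL x) * (tPerm hL y * tPerm hL x * tPerm hL y) := by
          simp only [pow_succ, pow_zero, one_mul, mul_assoc]
      _ = 1 := by rw [c1, c2, tPerm_sq]
  · left
    rw [coe_tPerm, lineMap_of_not h] at c1
    calc (tPerm hL x * tPerm hL y) ^ 2
        = (tPerm hL x * tPerm hL y * tPerm hL x) * tPerm hL y := by
          simp only [pow_succ, pow_zero, one_mul, mul_assoc]
      _ = 1 := by rw [c1, tPerm_sq]

end Cfsg.Agent.Helper25.FM
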