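import Mathlib
import Cfsg.Agent.Lib.Helper25.FischerMap1

/-!
# Transporting the action of `t(x)` on a line through an isomorphism of a plane with a model
-/

set_option autoImplicit false

namespace Cfsg.Agent.Helper25.FM

open Cfsg Cfsg.LineSystem

variable {X Y : Type*} {L : Set (Set X)} {M : Set (Set Y)}

/-- In the model, the image of a line under every `t(x₀)` (described relationally) is a line. -/
def ModelAuto (M : Set (Set Y)) : Prop :=
  ∀ x₀ : Y, ∀ l₀ ∈ M, ∃ l₁ ∈ M, ∀ y', y' ∈ l₁ ↔ ∃ y ∈ l₀, TRel M x₀ y y'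

theorem span_isSubspace (L : Set (Set X)) (S : Set X) : IsSubspace L (span L S) := by
  intro l hl x hx y hy hxy hxl hyl z hz
  rw [span, Set.mem_sInter] at hx hy ⊢
  rintro T ⟨hST, hT⟩
  exact hT l hl x (hx T ⟨hST, hT⟩) y (hy T ⟨hST, hT⟩) hxy hxl hyl hz

theorem subset_span (L : Set (Set X)) (S : Set X) : S ⊆ span L S := by
  intro x hx
  rw [span, Set.mem_sInter]
  rintro T ⟨hST, -⟩
  exact hST hx

section

variable {π : Set X} (e : ↥π ≃ Y) (he : IsIso (restrict L π) M e)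

include he

theorem mem_pull (a b c : ↥π) :
    ({(a : X), (b : X), (c : X)} : Set X) ∈ L ↔ ({e a, e b, e c} : Set Y) ∈ M := by
  have himg : e '' ({a, b, c} : Set ↥π) = {e a, e b, e c} := by
    rw [Set.image_insert_eq, Set.image_insert_eq, Set.image_singleton]
  rw [← himg, ← he]
  constructor
  · intro hl
    refine ⟨_, hl, ?_, ?_⟩
    · intro y hy
      simp only [Set.mem_insert_iff, Set.mem_singleton_iff] at hy
      rcases hy with rfl | rfl | rfl
      · exact a.2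
      · exact b.2
      · exact c.2
    · ext x
      simp only [Set.mem_insert_iff, Set.mem_singleton_iff, Set.mem_ofPred_eq, Subtype.ext_iff]
  · rintro ⟨l', hl', hsub, hlam⟩
    have : l' = {(a : X), (b : X), (c : X)} := by
      ext y
      constructor
      · intro hy
        have h1 : (⟨y, hsub hy⟩ : ↥π) ∈ ({a, b, c} : Set ↥π) := by rw [hlam]; exact hy
        simp only [Set.mem_insert_iff, Set.mem_singleton_iff, Subtype.ext_iff] at h1
        simpa using h1
      · intro hy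
        simp only [Set.mem_insert_iff, Set.mem_singleton_iff] at hy
        have ha : a ∈ ({a, b, c} : Set ↥π) := by simp
        have hb : b ∈ ({a, b, c} : Set ↥π) := by simp
        have hc : c ∈ ({a, b, c} : Set ↥π) := by simp
        rw [hlam] at ha hb hc
        rcases hy with rfl | rfl | rfl
        · exact ha
        · exact hb
        · exact hc
    rw [← this]; exact hl'

theorem third_pull (a b c : ↥π) :
    Third L (a : X) (b : X) (c : X) ↔ Third M (e a) (e b) (e c) := by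
  unfold Third
  rw [mem_pull e he a b c]
  have h1 : ∀ u v : ↥π, (u : X) ≠ v ↔ e u ≠ e v := by
    intro u v
    rw [Ne, Ne, e.apply_eq_iff_eq, Subtype.ext_iff]
  rw [h1 c a, h1 c b, h1 a b]

theorem exists_third_pull (hπ : IsSubspace L π) (a b : ↥π) :
    (∃ z, Third L (a : X) (b : X) z) ↔ ∃ z₀, Third M (e a) (e b) z₀ := by
  constructor
  · rintro ⟨z, hz⟩
    have hzπ : z ∈ π := by
      obtain ⟨-, -, hab, hl⟩ := hz
      exact hπ _ hl a a.2 b b.2 hab (by simp) (by simp) (by simp)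
    exact ⟨e ⟨z, hzπ⟩, (third_pull e he a b ⟨z, hzπ⟩).mp hz⟩
  · rintro ⟨z₀, hz⟩
    refine ⟨(e.symm z₀ : ↥π), (third_pull e he a b (e.symm z₀)).mpr ?_⟩
    rwa [e.apply_symm_apply]

theorem trel_pull (hπ : IsSubspace L π) (a b b' : ↥π) :
    TRel L (a : X) (b : X) (b' : X) ↔ TRel M (e a) (e b) (e b') := by
  unfold TRel
  rw [third_pull e he a b b', exists_third_pull e he hπ a b, e.apply_eq_iff_eq, Subtype.ext_iff]

theorem image_mem_of_iso (hL : IsPartialLinear L) (hπ : IsSubspace L π) (hM : ModelAuto M)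
    {x : X} (hx : x ∈ π) {l : Set X} (hl : l ∈ L) (hlπ : l ⊆ π) : lineMap L x '' l ∈ L := by
  have hl₀ : e '' {a : ↥π | (a : X) ∈ l} ∈ M := (he _).mp ⟨l, hl, hlπ, rfl⟩
  obtain ⟨l₁, hl₁, hchar⟩ := hM (e ⟨x, hx⟩) _ hl₀
  have hlam : e.symm '' l₁ ∈ restrict L π := by
    rw [he]
    rw [Set.image_image]
    simpa using hl₁
  obtain ⟨l', hl', hsub, hlam'⟩ := hlam
  have hmem : ∀ y' : ↥π, (y' : X) ∈ l' ↔ e y' ∈ l₁ := by
    intro y'
    have : y' ∈ e.symm '' l₁ ↔ (y' : X) ∈ l' := by rw [hlam']; rfl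
    rw [← this]
    constructor
    · rintro ⟨z, hz, rfl⟩; simpa using hz
    · intro h; exact ⟨e y', h, by simp⟩
  have himgπ : ∀ y ∈ l, lineMap L x y ∈ π := by
    intro y hy
    by_cases h : ∃ z, Third L x y z
    · obtain ⟨z, hz⟩ := h
      rw [lineMap_of_third hL hz]
      obtain ⟨-, -, hxy, hl2⟩ := hz
      exact hπ _ hl2 x hx y (hlπ hy) hxy (by simp) (by simp) (by simp)
    · rw [lineMap_of_not h]; exact hlπ hy
  have : lineMap L x '' l = l' := by
    ext y'
    constructor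
    · rintro ⟨y, hy, rfl⟩
      have h1 : TRel L x y (lineMap L x y) := (lineMap_eq_iff hL).mp rfl
      have h2 := (trel_pull e he hπ ⟨x, hx⟩ ⟨y, hlπ hy⟩ ⟨_, himgπ y hy⟩).mp h1
      have h3 : e ⟨_, himgπ y hy⟩ ∈ l₁ := (hchar _).mpr ⟨e ⟨y, hlπ hy⟩, ⟨⟨y, hlπ hy⟩, hy, rfl⟩, h2⟩
      exact (hmem ⟨_, himgπ y hy⟩).mpr h3
    · intro hy'
      have hy'π : y' ∈ π := hsub hy'
      have h1 : e ⟨y', hy'π⟩ ∈ l₁ := (hmem ⟨y', hy'π⟩).mp hy'
      obtain ⟨y₀, ⟨y, hy, rfl⟩, hT⟩ := (hchar _).mp h1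
      have h2 := (trel_pull e he hπ ⟨x, hx⟩ y ⟨y', hy'π⟩).mpr hT
      exact ⟨y, hy, (lineMap_eq_iff hL).mpr h2⟩
  rw [this]; exact hl'

end

end Cfsg.Agent.Helper25.FM
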