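import Mathlib

/-!
# Nine involutions forming an affine plane of order three: the group-theoretic computation
-/

set_option autoImplicit false

namespace Cfsg.Agent.Helper25.FS

variable {G : Type*} [Group G]

theorem forall_zmod3 {P : ZMod 3 → Prop} (h0 : P 0) (h1 : P 1) (h2 : P 2) : ∀ k, P k := by
  intro k; fin_cases k
  · exact h0
  · exact h1
  · exact h2

/-- The relations among three involutions `p, a, b` all of whose relevant products have order three. -/
structure AffRel (p a b : G) : Prop where
  pp : p * p = 1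
  aa : a * a = 1
  bb : b * b = 1
  pa : p * a * p = a * p * a
  pb : p * b * p = b * p * b
  ab : a * b * a = b * a * b
  ab' : a * (p * b * p) * a = (p * b * p) * a * (p * b * p)
  a'b : (p * a * p) * b * (p * a * p) = b * (p * a * p) * b

/-- The nine points. -/
def pt (p a b : G) : ZMod 3 → ZMod 3 → G
  | 0, 0 => p
  | 1, 0 => a
  | 2, 0 => p * a * p
  | 0, 1 => b
  | 0, 2 => p * b * p
  | 2, 2 => a * b * a
  | 1, 1 => p * (a * b * a) * p
  | 1, 2 => b * (p * a * p) * b
  | 2, 1 => a * (p * b * p) * a

def neg3 : ZMod 3 → ZMod 3 | 0 => 0 | 1 => 2 | 2 => 1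
def ref1 : ZMod 3 → ZMod 3 | 0 => 2 | 1 => 1 | 2 => 0

theorem neg3_eq : ∀ k : ZMod 3, neg3 k = 2 * 0 - k := by decide
theorem ref1_eq : ∀ k : ZMod 3, ref1 k = 2 * 1 - k := by decide

variable {p a b : G}

theorem conj_symm {s X Y : G} (hs : s * s = 1) (h : s * X * s = Y) : s * Y * s = X := by
  rw [← h]
  calc s * (s * X * s) * s = (s * s) * X * (s * s) := by simp only [mul_assoc]
    _ = X := by rw [hs, one_mul, mul_one]

theorem good_p (h : AffRel p a b) :
    ∀ k l, p * pt p a b k l * p = pt p a b (neg3 k) (neg3 l) := by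
  have hp' : ∀ x, p * (p * x) = x := fun x => by rw [← mul_assoc, h.pp, one_mul]
  have e12 : p * (b * (p * a * p) * b) * p = a * (p * b * p) * a := by
    calc p * (b * (p * a * p) * b) * p = (p * b * p) * a * (p * b * p) := by simp only [mul_assoc]
      _ = a * (p * b * p) * a := h.ab'.symm
  apply forall_zmod3 <;> apply forall_zmod3
  · show p * p * p = p
    rw [h.pp, one_mul]
  · show p * b * p = p * b * p
    rfl
  · show p * (p * b * p) * p = b
    simp only [mul_assoc, hp', h.pp, mul_one]
  · show p * a * p = p * a * p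
    rfl
  · show p * (p * (a * b * a) * p) * p = a * b * a
    simp only [mul_assoc, hp', h.pp, mul_one]
  · exact e12
  · show p * (p * a * p) * p = a
    simp only [mul_assoc, hp', h.pp, mul_one]
  · exact conj_symm h.pp e12
  · show p * (a * b * a) * p = p * (a * b * a) * p
    rfl

theorem good_a (h : AffRel p a b) :
    ∀ k l, a * pt p a b k l * a = pt p a b (ref1 k) (neg3 l) := by
  have ha' : ∀ x, a * (a * x) = x := fun x => by rw [← mul_assoc, h.aa, one_mul]
  have e11 : a * (p * (a * b * a) * p) * a = b * (p * a * p) * b := by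
    calc a * (p * (a * b * a) * p) * a = (a * p * a) * b * (a * p * a) := by simp only [mul_assoc]
      _ = (p * a * p) * b * (p * a * p) := by rw [h.pa]
      _ = b * (p * a * p) * b := h.a'b
  apply forall_zmod3 <;> apply forall_zmod3
  · show a * p * a = p * a * p
    exact h.pa.symm
  · show a * b * a = a * b * a
    rfl
  · show a * (p * b * p) * a = a * (p * b * p) * a
    rfl
  · show a * a * a = a
    rw [h.aa, one_mul]
  · exact e11
  · exact conj_symm h.aa e11
  · show a * (p * a * p) * a = p
    rw [h.pa]
    simp only [mul_assoc, ha', h.aa, mul_one]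
  · show a * (a * (p * b * p) * a) * a = p * b * p
    simp only [mul_assoc, ha', h.aa, mul_one]
  · show a * (a * b * a) * a = b
    simp only [mul_assoc, ha', h.aa, mul_one]

theorem good_b (h : AffRel p a b) :
    ∀ k l, b * pt p a b k l * b = pt p a b (neg3 k) (ref1 l) := by
  have hb' : ∀ x, b * (b * x) = x := fun x => by rw [← mul_assoc, h.bb, one_mul]
  have e11 : b * (p * (a * b * a) * p) * b = a * (p * b * p) * a := by
    calc b * (p * (a * b * a) * p) * b = b * (p * (b * a * b) * p) * b := by rw [h.ab]
      _ = (b * p * b) * a * (b * p * b) := by simp only [mul_assoc]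
      _ = (p * b * p) * a * (p * b * p) := by rw [h.pb]
      _ = a * (p * b * p) * a := h.ab'.symm
  apply forall_zmod3 <;> apply forall_zmod3
  · show b * p * b = p * b * p
    exact h.pb.symm
  · show b * b * b = b
    rw [h.bb, one_mul]
  · show b * (p * b * p) * b = p
    rw [h.pb]
    simp only [mul_assoc, hb', h.bb, mul_one]
  · show b * a * b = a * b * a
    exact h.ab.symm
  · exact e11
  · show b * (b * (p * a * p) * b) * b = p * a * p
    simp only [mul_assoc, hb', h.bb, mul_one]
  · show b * (p * a * p) * b = b * (p * a * p) * b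
    rfl
  · exact conj_symm h.bb e11
  · show b * (a * b * a) * b = a
    rw [h.ab]
    simp only [mul_assoc, hb', h.bb, mul_one]

/-- Conjugation by the point `(i, j)` acts on the nine points as the point reflection. -/
def Good (p a b : G) (i j : ZMod 3) : Prop :=
  ∀ k l : ZMod 3, pt p a b i j * pt p a b k l * (pt p a b i j)⁻¹ = pt p a b (2 * i - k) (2 * j - l)

theorem Good.inv {i j : ZMod 3} (h : Good p a b i j) (k l : ZMod 3) :
    (pt p a b i j)⁻¹ * pt p a b k l * pt p a b i j = pt p a b (2 * i - k) (2 * j - l) := by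
  have := h (2 * i - k) (2 * j - l)
  rw [show 2 * i - (2 * i - k) = k by ring, show 2 * j - (2 * j - l) = l by ring] at this
  rw [← this]
  simp [mul_assoc]

theorem Good.closure {i j k l : ZMod 3} (h1 : Good p a b i j) (h2 : Good p a b k l) :
    Good p a b (2 * i - k) (2 * j - l) := by
  intro m n
  have e := h1 k l
  rw [← e]
  have e1 := h1.inv m n
  have e2 := h2 (2 * i - m) (2 * j - n)
  have e3 := h1 (2 * k - (2 * i - m)) (2 * l - (2 * j - n))
  rw [show 2 * (2 * i - k) - m = 2 * i - (2 * k - (2 * i - m)) by ring,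
    show 2 * (2 * j - l) - n = 2 * j - (2 * l - (2 * j - n)) by ring, ← e3, ← e2, ← e1]
  simp only [mul_inv_rev, inv_inv, mul_assoc]

theorem good00 (h : AffRel p a b) : Good p a b 0 0 := by
  intro k l
  have hinv : (p : G)⁻¹ = p := inv_eq_of_mul_eq_one_left h.pp
  show p * pt p a b k l * p⁻¹ = _
  rw [hinv, good_p h, neg3_eq, neg3_eq]

theorem good10 (h : AffRel p a b) : Good p a b 1 0 := by
  intro k l
  have hinv : (a : G)⁻¹ = a := inv_eq_of_mul_eq_one_left h.aa
  show a * pt p a b k l * a⁻¹ = _
  rw [hinv, good_a h, ref1_eq, neg3_eq]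

theorem good01 (h : AffRel p a b) : Good p a b 0 1 := by
  intro k l
  have hinv : (b : G)⁻¹ = b := inv_eq_of_mul_eq_one_left h.bb
  show b * pt p a b k l * b⁻¹ = _
  rw [hinv, good_b h, neg3_eq, ref1_eq]

theorem good_all (h : AffRel p a b) : ∀ i j : ZMod 3, Good p a b i j := by
  have g00 := good00 h
  have g10 := good10 h
  have g01 := good01 h
  have g20 : Good p a b 2 0 := by
    have := g10.closure g00
    rwa [show (2 * 1 - 0 : ZMod 3) = 2 by decide, show (2 * 0 - 0 : ZMod 3) = 0 by decide] at this
  have g02 : Good p a b 0 2 := by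
    have := g01.closure g00
    rwa [show (2 * 1 - 0 : ZMod 3) = 2 by decide, show (2 * 0 - 0 : ZMod 3) = 0 by decide] at this
  have g22 : Good p a b 2 2 := by
    have := g10.closure g01
    rwa [show (2 * 1 - 0 : ZMod 3) = 2 by decide, show (2 * 0 - 1 : ZMod 3) = 2 by decide] at this
  have g11 : Good p a b 1 1 := by
    have := g00.closure g22
    rwa [show (2 * 0 - 2 : ZMod 3) = 1 by decide] at this
  have g12 : Good p a b 1 2 := by
    have := g20.closure g01
    rwa [show (2 * 2 - 0 : ZMod 3) = 1 by decide, show (2 * 0 - 1 : ZMod 3) = 2 by decide] at this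
  have g21 : Good p a b 2 1 := by
    have := g00.closure g12
    rwa [show (2 * 0 - 1 : ZMod 3) = 2 by decide, show (2 * 0 - 2 : ZMod 3) = 1 by decide] at this
  apply forall_zmod3 <;> apply forall_zmod3 <;> assumption

end Cfsg.Agent.Helper25.FS
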