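import Mathlib
import Cfsg.Agent.Lib.Helper25.FischerMap2
import Cfsg.Agent.Lib.Helper25.FischerSp4

/-!
# In the two model planes every `t(x₀)` maps lines to lines
-/

set_option autoImplicit false

namespace Cfsg.Agent.Helper25.FM

open Cfsg Cfsg.LineSystem

/-! ### The dual affine plane of order two -/

abbrev ThirdDec (x y z : DualAffinePoint) : Prop :=
  z ≠ x ∧ z ≠ y ∧ x ≠ y ∧ ∃ k : Fin 4, k ∉ x.1 ∧ k ∉ y.1 ∧ k ∉ z.1

abbrev TRelDec (x y y' : DualAffinePoint) : Prop :=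
  ThirdDec x y y' ∨ ((¬ ∃ z, ThirdDec x y z) ∧ y' = y)

set_option maxRecDepth 100000 in
theorem dual_three : ∀ (k : Fin 4) (a b c : DualAffinePoint), a ≠ b → a ≠ c → b ≠ c →
    k ∉ a.1 → k ∉ b.1 → k ∉ c.1 → ∀ s : DualAffinePoint, k ∉ s.1 ↔ (s = a ∨ s = b ∨ s = c) := by
  decide

set_option synthInstance.maxSize 4000 in
set_option synthInstance.maxHeartbeats 800000 in
set_option maxRecDepth 100000 in
set_option maxHeartbeats 1600000 in
theorem dual_auto_dec : ∀ (x₀ : DualAffinePoint) (i : Fin 4), ∃ j : Fin 4,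
    ∀ y' : DualAffinePoint, j ∉ y'.1 ↔ ∃ y : DualAffinePoint, i ∉ y.1 ∧ TRelDec x₀ y y' := by
  decide

theorem mem_dual_iff (a b c : DualAffinePoint) (hab : a ≠ b) (hac : a ≠ c) (hbc : b ≠ c) :
    ({a, b, c} : Set DualAffinePoint) ∈ dualAffinePlaneTwo ↔
      ∃ k : Fin 4, k ∉ a.1 ∧ k ∉ b.1 ∧ k ∉ c.1 := by
  constructor
  · rintro ⟨k, hk⟩
    have ha : a ∈ ({a, b, c} : Set DualAffinePoint) := by simp
    have hb : b ∈ ({a, b, c} : Set DualAffinePoint) := by simp
    have hc : c ∈ ({a, b, c} : Set DualAffinePoint) := by simp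
    rw [hk] at ha hb hc
    exact ⟨k, ha, hb, hc⟩
  · rintro ⟨k, ha, hb, hc⟩
    refine ⟨k, ?_⟩
    ext s
    simp only [Set.mem_insert_iff, Set.mem_singleton_iff, Set.mem_ofPred_eq]
    exact (dual_three k a b c hab hac hbc ha hb hc s).symm

theorem third_dual_iff (x y z : DualAffinePoint) :
    Third dualAffinePlaneTwo x y z ↔ ThirdDec x y z := by
  unfold Third
  constructor
  · rintro ⟨h1, h2, h3, h4⟩
    exact ⟨h1, h2, h3, (mem_dual_iff x y z h3 h1.symm h2.symm).mp h4⟩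
  · rintro ⟨h1, h2, h3, h4⟩
    exact ⟨h1, h2, h3, (mem_dual_iff x y z h3 h1.symm h2.symm).mpr h4⟩

theorem trel_dual_iff (x y y' : DualAffinePoint) :
    TRel dualAffinePlaneTwo x y y' ↔ TRelDec x y y' := by
  unfold TRel
  simp only [third_dual_iff]

theorem modelAuto_dual : ModelAuto dualAffinePlaneTwo := by
  rintro x₀ l₀ ⟨i, rfl⟩
  obtain ⟨j, hj⟩ := dual_auto_dec x₀ i
  refine ⟨_, ⟨j, rfl⟩, ?_⟩
  intro y'
  simp only [trel_dual_iff]
  exact hj y'

/-! ### The affine plane of order three -/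

theorem third_affine_iff (x y z : Fin 2 → ZMod 3) :
    Third affinePlaneThree x y z ↔ x ≠ y ∧ z = -x - y := by
  constructor
  · rintro ⟨hzx, hzy, hxy, ⟨v, w, hw, hset⟩⟩
    refine ⟨hxy, ?_⟩
    have hx : x ∈ ({x, y, z} : Set (Fin 2 → ZMod 3)) := by simp
    have hy : y ∈ ({x, y, z} : Set (Fin 2 → ZMod 3)) := by simp
    have hz : z ∈ ({x, y, z} : Set (Fin 2 → ZMod 3)) := by simp
    rw [hset] at hx hy hz
    obtain ⟨c₁, h1⟩ := hx
    obtain ⟨c₂, h2⟩ := hy
    obtain ⟨c₃, h3⟩ := hz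
    have d12 : c₁ ≠ c₂ := by rintro rfl; exact hxy (h1.trans h2.symm)
    have d13 : c₁ ≠ c₃ := by rintro rfl; exact hzx (h3.trans h1.symm)
    have d23 : c₂ ≠ c₃ := by rintro rfl; exact hzy (h3.trans h2.symm)
    have hsum : ∀ c₁ c₂ c₃ : ZMod 3, c₁ ≠ c₂ → c₁ ≠ c₃ → c₂ ≠ c₃ → c₁ + c₂ + c₃ = 0 := by decide
    have hs := hsum c₁ c₂ c₃ d12 d13 d23
    have h30 : (3 : ZMod 3) = 0 := by decide
    ext i
    rw [h1, h2, h3]
    simp only [Pi.add_apply, Pi.smul_apply, smul_eq_mul, Pi.sub_apply, Pi.neg_apply]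
    linear_combination (w i) * hs + (v i) * h30
  · rintro ⟨hxy, rfl⟩
    have e1 : ∀ s t : ZMod 3, -s - t = s → s = t := by decide
    have e2 : ∀ s t : ZMod 3, -s - t = t → s = t := by decide
    have e3 : ∀ s t : ZMod 3, s + 2 * (t - s) = -s - t := by decide
    refine ⟨?_, ?_, hxy, ?_⟩
    · intro hh
      apply hxy
      ext i
      have := congrFun hh i
      simp only [Pi.sub_apply, Pi.neg_apply] at this
      exact e1 _ _ this
    · intro hh
      apply hxy
      ext i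
      have := congrFun hh i
      simp only [Pi.sub_apply, Pi.neg_apply] at this
      exact e2 _ _ this
    · refine ⟨x, y - x, sub_ne_zero.mpr hxy.symm, ?_⟩
      ext u
      simp only [Set.mem_insert_iff, Set.mem_singleton_iff, Set.mem_ofPred_eq]
      constructor
      · rintro (rfl | rfl | rfl)
        · exact ⟨0, by simp⟩
        · exact ⟨1, by simp⟩
        · refine ⟨2, ?_⟩
          ext i
          simp only [Pi.add_apply, Pi.smul_apply, smul_eq_mul, Pi.sub_apply, Pi.neg_apply]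
          exact (e3 _ _).symm
      · rintro ⟨c, rfl⟩
        revert c
        apply FS.forall_zmod3
        · left; simp
        · right; left; simp
        · right; right
          ext i
          simp only [Pi.add_apply, Pi.smul_apply, smul_eq_mul, Pi.sub_apply, Pi.neg_apply]
          exact e3 _ _

theorem trel_affine_iff (x y y' : Fin 2 → ZMod 3) :
    TRel affinePlaneThree x y y' ↔ y' = -x - y := by
  unfold TRel
  have hex : (∃ z, Third affinePlaneThree x y z) ↔ x ≠ y := by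
    constructor
    · rintro ⟨z, hz⟩; exact ((third_affine_iff x y z).mp hz).1
    · intro h; exact ⟨-x - y, (third_affine_iff x y _).mpr ⟨h, rfl⟩⟩
  rw [third_affine_iff, hex]
  have e : ∀ t : ZMod 3, -t - t = t := by decide
  constructor
  · rintro (⟨-, h⟩ | ⟨h, rfl⟩)
    · exact h
    · rw [not_not] at h
      rw [h]
      ext i
      simp only [Pi.sub_apply, Pi.neg_apply]
      exact (e _).symm
  · intro h
    by_cases hxy : x = y
    · right
      refine ⟨not_not.mpr hxy, ?_⟩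
      rw [h, hxy]
      ext i
      simp only [Pi.sub_apply, Pi.neg_apply]
      exact e _
    · left; exact ⟨hxy, h⟩

theorem modelAuto_affine : ModelAuto affinePlaneThree := by
  rintro x₀ l₀ ⟨v, w, hw, rfl⟩
  refine ⟨{u | ∃ c : ZMod 3, u = (-x₀ - v) + c • (-w)}, ⟨_, _, neg_ne_zero.mpr hw, rfl⟩, ?_⟩
  intro y'
  simp only [trel_affine_iff, Set.mem_ofPred_eq]
  constructor
  · rintro ⟨c, rfl⟩
    refine ⟨v + c • w, ⟨c, rfl⟩, ?_⟩
    ext i
    simp only [Pi.add_apply, Pi.smul_apply, smul_eq_mul, Pi.sub_apply, Pi.neg_apply]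
    ring
  · rintro ⟨y, ⟨c, rfl⟩, rfl⟩
    refine ⟨c, ?_⟩
    ext i
    simp only [Pi.add_apply, Pi.smul_apply, smul_eq_mul, Pi.sub_apply, Pi.neg_apply]
    ring

end Cfsg.Agent.Helper25.FM
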