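import Mathlib
import Cfsg.Prelude.Def_FischerSpaces

/-!
# Line systems: an embedding of a model line system whose image is a subspace gives an isomorphism
-/

set_option autoImplicit false

namespace Cfsg.Agent.Helper25.FS

open Cfsg Cfsg.LineSystem

variable {X Y : Type*} {L : Set (Set X)} {M : Set (Set Y)}

/-- The image of `f` is a subspace when `f` maps lines to lines and reflects collinearity. -/
theorem isSubspace_range (hL : IsPartialLinear L) (f : Y → X)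
    (h1 : ∀ μ ∈ M, f '' μ ∈ L)
    (h3 : ∀ x y : Y, x ≠ y → (∃ l ∈ L, f x ∈ l ∧ f y ∈ l) → ∃ μ ∈ M, x ∈ μ ∧ y ∈ μ) :
    IsSubspace L (Set.range f) := by
  rintro l hl _ ⟨x, rfl⟩ _ ⟨y, rfl⟩ hxy hxl hyl
  have hxy' : x ≠ y := fun h => hxy (by rw [h])
  obtain ⟨μ, hμ, hxμ, hyμ⟩ := h3 x y hxy' ⟨l, hl, hxl, hyl⟩
  have : f '' μ = l := hL _ (h1 μ hμ) _ hl (f x) (f y) hxy ⟨x, hxμ, rfl⟩ ⟨y, hyμ, rfl⟩ hxl hyl
  rw [← this]
  exact Set.image_subset_range f μ

theorem span_eq_range (hL : IsPartialLinear L) (f : Y → X)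
    (h1 : ∀ μ ∈ M, f '' μ ∈ L)
    (h3 : ∀ x y : Y, x ≠ y → (∃ l ∈ L, f x ∈ l ∧ f y ∈ l) → ∃ μ ∈ M, x ∈ μ ∧ y ∈ μ)
    (hf : Function.Injective f)
    (A : Set Y) (hA : span M A = Set.univ) : span L (f '' A) = Set.range f := by
  apply Set.Subset.antisymm
  · apply Set.sInter_subset_of_mem
    exact ⟨Set.image_subset_range f A, isSubspace_range hL f h1 h3⟩
  · rintro _ ⟨y, rfl⟩
    rw [span, Set.mem_sInter]
    rintro T ⟨hAT, hT⟩
    have hsub : IsSubspace M (f ⁻¹' T) := by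
      intro μ hμ x hx y hy hxy hxμ hyμ z hz
      have := hT (f '' μ) (h1 μ hμ) (f x) hx (f y) hy (fun h => hxy (hf h)) ⟨x, hxμ, rfl⟩
        ⟨y, hyμ, rfl⟩
      exact this ⟨z, hz, rfl⟩
    have hA' : A ⊆ f ⁻¹' T := fun a ha => hAT ⟨a, ha, rfl⟩
    have : y ∈ span M A := by rw [hA]; trivial
    rw [span, Set.mem_sInter] at this
    exact this _ ⟨hA', hsub⟩

/-- The isomorphism between the line system induced on the image and the model. -/
theorem isomorphic_restrict_range (hL : IsPartialLinear L) (f : Y → X) (hf : Function.Injective f)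
    (h1 : ∀ μ ∈ M, f '' μ ∈ L)
    (h3 : ∀ x y : Y, x ≠ y → (∃ l ∈ L, f x ∈ l ∧ f y ∈ l) → ∃ μ ∈ M, x ∈ μ ∧ y ∈ μ)
    (hL2 : ∀ l ∈ L, ∃ x ∈ l, ∃ y ∈ l, x ≠ y)
    (S : Set X) (hS : S = Set.range f) :
    Isomorphic (restrict L S) M := by
  subst hS
  let e : Set.range f ≃ Y := (Equiv.ofInjective f hf).symm
  have he : ∀ x : Set.range f, f (e x) = x.1 := fun x => Equiv.apply_ofInjective_symm hf x
  have he' : ∀ y : Y, e ⟨f y, y, rfl⟩ = y := by
    intro y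
    apply hf
    rw [he]
  refine ⟨e, ?_⟩
  intro l
  constructor
  · rintro ⟨l', hl', hsub, rfl⟩
    obtain ⟨x, hx, y, hy, hxy⟩ := hL2 l' hl'
    obtain ⟨x₀, rfl⟩ := hsub hx
    obtain ⟨y₀, rfl⟩ := hsub hy
    have hxy' : x₀ ≠ y₀ := fun h => hxy (by rw [h])
    obtain ⟨μ, hμ, hxμ, hyμ⟩ := h3 x₀ y₀ hxy' ⟨l', hl', hx, hy⟩
    have hμl : f '' μ = l' :=
      hL _ (h1 μ hμ) _ hl' (f x₀) (f y₀) hxy ⟨x₀, hxμ, rfl⟩ ⟨y₀, hyμ, rfl⟩ hx hy
    have : e '' {x : Set.range f | (x : X) ∈ l'} = μ := by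
      ext y
      constructor
      · rintro ⟨x, hx, rfl⟩
        have hx' : (x : X) ∈ l' := hx
        rw [← hμl, ← he x] at hx'
        obtain ⟨z, hz, hzz⟩ := hx'
        rw [← hf hzz]; exact hz
      · intro hy
        refine ⟨⟨f y, y, rfl⟩, ?_, he' y⟩
        show f y ∈ l'
        rw [← hμl]; exact ⟨y, hy, rfl⟩
    rw [this]; exact hμ
  · intro hμ
    refine ⟨f '' (e '' l), h1 _ hμ, ?_, ?_⟩
    · rintro _ ⟨y, -, rfl⟩; exact ⟨y, rfl⟩
    · ext x
      constructor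
      · intro hx
        show (x : X) ∈ f '' (e '' l)
        exact ⟨e x, ⟨x, hx, rfl⟩, he x⟩
      · intro hx
        have hx' : (x : X) ∈ f '' (e '' l) := hx
        obtain ⟨y, ⟨x', hx'l, rfl⟩, hy⟩ := hx'
        rw [he x'] at hy
        have : x' = x := Subtype.ext hy
        rw [← this]; exact hx'l

/-- Combined form: the subspace generated by the image of a generating set. -/
theorem isomorphic_restrict_span (hL : IsPartialLinear L) (f : Y → X) (hf : Function.Injective f)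
    (h1 : ∀ μ ∈ M, f '' μ ∈ L)
    (h3 : ∀ x y : Y, x ≠ y → (∃ l ∈ L, f x ∈ l ∧ f y ∈ l) → ∃ μ ∈ M, x ∈ μ ∧ y ∈ μ)
    (hL2 : ∀ l ∈ L, ∃ x ∈ l, ∃ y ∈ l, x ≠ y)
    (A : Set Y) (hA : span M A = Set.univ) (B : Set X) (hB : B = f '' A) :
    Isomorphic (restrict L (span L B)) M := by
  subst hB
  exact isomorphic_restrict_range hL f hf h1 h3 hL2 _ (span_eq_range hL f h1 h3 hf A hA)

end Cfsg.Agent.Helper25.FS
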