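import Mathlib
import Cfsg.Prelude.Def_FischerSpaces
import Cfsg.Agent.S5344
import Cfsg.Agent.S0199
import Cfsg.Agent.Lib.Helper25.StronglyEmbedded

/-!
# 3-transpositions: basic facts, the relation "same commuting partners", and `d v ∈ O₂(G)`
-/

set_option autoImplicit false

namespace Cfsg.Agent.Helper25.TT

open Cfsg Equiv

variable {G : Type*} [Group G] {D : Set G}

theorem mul_self (hD : IsThreeTranspositionSet D) {x : G} (hx : x ∈ D) : x * x = 1 := by
  have := hD.1 x hx
  rw [← pow_two, ← this]; exact pow_orderOf_eq_one x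

theorem inv_eq (hD : IsThreeTranspositionSet D) {x : G} (hx : x ∈ D) : x⁻¹ = x :=
  inv_eq_of_mul_eq_one_left (mul_self hD hx)

theorem ne_one (hD : IsThreeTranspositionSet D) {x : G} (hx : x ∈ D) : x ≠ 1 := by
  intro h
  have := hD.1 x hx
  rw [h, orderOf_one] at this
  omega

theorem commute_of_sq (hD : IsThreeTranspositionSet D) {x y : G} (hx : x ∈ D) (hy : y ∈ D)
    (h : (x * y) ^ 2 = 1) : Commute x y := by
  have h1 : x * y * (x * y) = 1 := by rw [← pow_two]; exact h
  have h2 : x * y = (x * y)⁻¹ := eq_inv_of_mul_eq_one_left h1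
  rw [mul_inv_rev, inv_eq hD hx, inv_eq hD hy] at h2
  exact h2

theorem sq_of_commute (hD : IsThreeTranspositionSet D) {x y : G} (hx : x ∈ D) (hy : y ∈ D)
    (h : Commute x y) : (x * y) ^ 2 = 1 := by
  rw [h.mul_pow, pow_two, pow_two, mul_self hD hx, mul_self hD hy, one_mul]

theorem cube_of_not_commute (hD : IsThreeTranspositionSet D) {x y : G} (hx : x ∈ D) (hy : y ∈ D)
    (h : ¬ Commute x y) : (x * y) ^ 3 = 1 := by
  rcases hD.2 x hx y hy with h2 | h3
  · exact absurd (commute_of_sq hD hx hy h2) h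
  · exact h3

theorem braid (hD : IsThreeTranspositionSet D) {x y : G} (hx : x ∈ D) (hy : y ∈ D)
    (h : ¬ Commute x y) : x * y * x = y * x * y :=
  Cfsg.Agent.S5344.braid_of (mul_self hD hx) (mul_self hD hy) (hD.2 x hx y hy) h

theorem ne_of_not_commute {x y : G} (h : ¬ Commute x y) : x ≠ y := by
  rintro rfl; exact h (Commute.refl _)

/-- A class of 3-transpositions is closed under conjugation. -/
theorem conj_mem (hD : IsThreeTranspositionClass D) (g : G) {x : G} (hx : x ∈ D) :
    g * x * g⁻¹ ∈ D := by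
  obtain ⟨d₀, -, hd₀⟩ := hD.2.1
  rw [hd₀] at hx ⊢
  have hx' : IsConj d₀ x := hx
  show IsConj d₀ (g * x * g⁻¹)
  exact hx'.trans (isConj_iff.mpr ⟨g, rfl⟩)

theorem isConj_of_mem (hD : IsThreeTranspositionClass D) {x y : G} (hx : x ∈ D) (hy : y ∈ D) :
    ∃ g : G, g * x * g⁻¹ = y := by
  obtain ⟨d₀, -, hd₀⟩ := hD.2.1
  rw [hd₀] at hx hy
  have hx' : IsConj d₀ x := hx
  have hy' : IsConj d₀ y := hy
  exact isConj_iff.mp (hx'.symm.trans hy')

/-- A member of a class with at least two members fails to commute with some member. -/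
theorem exists_not_commute (hD : IsThreeTranspositionClass D) (hD2 : ∃ a ∈ D, ∃ b ∈ D, a ≠ b)
    {d : G} (hd : d ∈ D) : ∃ e ∈ D, ¬ Commute d e := by
  by_contra hcon
  push Not at hcon
  have hcen : d ∈ Subgroup.center G := by
    have h1 : Subgroup.closure D ≤ Subgroup.centralizer {d} := by
      rw [Subgroup.closure_le]
      intro e he
      rw [SetLike.mem_coe, Subgroup.mem_centralizer_iff]
      intro y hy
      rw [Set.mem_singleton_iff] at hy
      rw [hy]; exact (hcon e he)
    rw [hD.2.2] at h1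
    rw [Subgroup.mem_center_iff]
    intro g
    have := h1 (Subgroup.mem_top g)
    rw [Subgroup.mem_centralizer_iff] at this
    exact (this d rfl).symm
  obtain ⟨a, ha, b, hb, hab⟩ := hD2
  have h1 : ∀ x ∈ D, x = d := by
    intro x hx
    obtain ⟨g, hg⟩ := isConj_of_mem hD hd hx
    rw [← hg]
    rw [Subgroup.mem_center_iff] at hcen
    rw [hcen g, mul_assoc, mul_inv_cancel, mul_one]
  exact hab ((h1 a ha).trans (h1 b hb).symm)

/-! ### The relation "commutes with the same members of `D`" -/

/-- `v` and `x` commute with exactly the same members of `D`. -/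
def Sim (D : Set G) (v x : G) : Prop := ∀ e ∈ D, Commute v e ↔ Commute x e

theorem Sim.refl (x : G) : Sim D x x := fun _ _ => Iff.rfl

theorem Sim.symm {v x : G} (h : Sim D v x) : Sim D x v := fun e he => (h e he).symm

theorem Sim.trans {u v x : G} (h1 : Sim D u v) (h2 : Sim D v x) : Sim D u x :=
  fun e he => (h1 e he).trans (h2 e he)

theorem commute_conj_iff (g x e : G) : Commute (g * x * g⁻¹) e ↔ Commute x (g⁻¹ * e * g) := by
  unfold Commute SemiconjBy
  constructor
  · intro h
    have : g⁻¹ * (g * x * g⁻¹ * e) * g = g⁻¹ * (e * (g * x * g⁻¹)) * g := by rw [h]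
    simpa [mul_assoc] using this
  · intro h
    have : g * (x * (g⁻¹ * e * g)) * g⁻¹ = g * (g⁻¹ * e * g * x) * g⁻¹ := by rw [h]
    simpa [mul_assoc] using this

theorem Sim.conj (hconj : ∀ g : G, ∀ x ∈ D, g * x * g⁻¹ ∈ D) {v x : G} (h : Sim D v x) (g : G) :
    Sim D (g * v * g⁻¹) (g * x * g⁻¹) := by
  intro e he
  rw [commute_conj_iff, commute_conj_iff]
  have : g⁻¹ * e * g ∈ D := by
    have := hconj g⁻¹ e he
    rwa [inv_inv] at this
  exact h _ this

theorem Sim.commute {v x : G} (hxD : x ∈ D) (h : Sim D v x) : Commute v x :=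
  (h x hxD).mpr (Commute.refl x)

theorem Sim.commute' {u v x : G} (huD : u ∈ D) (hxD : x ∈ D) (h1 : Sim D u x) (h2 : Sim D v x) :
    Commute u v := by
  have h3 : Commute v x := (h2 x hxD).mpr (Commute.refl x)
  have h4 : Commute x v := h3.symm
  have h5 : Commute u v ↔ Commute x v := by
    constructor
    · intro h
      have : Commute v u := h.symm
      have := (h2 u huD).mp this
      have := (h1 x hxD).mpr (Commute.refl x)
      exact h4
    · intro _
      -- Commute v u ↔ Commute x u ; Commute x u ← Commute u x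
      have hux : Commute u x := (h1 x hxD).mpr (Commute.refl x)
      have : Commute v u := (h2 u huD).mpr hux.symm
      exact this.symm
  exact h5.mpr h4

/-- The members of `D` with the same commuting partners as `x`. -/
def V (D : Set G) (x : G) : Set G := {v | v ∈ D ∧ Sim D v x}

theorem V_eq_of_sim {x y : G} (h : Sim D x y) : V D x = V D y := by
  ext v
  constructor
  · rintro ⟨hv, hvx⟩; exact ⟨hv, hvx.trans h⟩
  · rintro ⟨hv, hvy⟩; exact ⟨hv, hvy.trans h.symm⟩

theorem mem_V_self {x : G} (hx : x ∈ D) : x ∈ V D x := ⟨hx, Sim.refl x⟩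

/-- The subgroup generated by the members of `D` equivalent to `x`. -/
def E (D : Set G) (x : G) : Subgroup G := Subgroup.closure (V D x)

theorem E_comm {x : G} (hx : x ∈ D) :
    ∀ a ∈ E D x, ∀ b ∈ E D x, a * b = b * a := by
  have hcomm : ∀ a ∈ V D x, ∀ b ∈ V D x, a * b = b * a := by
    intro a ha b hb
    exact Sim.commute' ha.1 hx ha.2 hb.2
  have := Subgroup.isMulCommutative_closure hcomm
  intro a ha b hb
  have h1 := this.is_comm.comm ⟨a, ha⟩ ⟨b, hb⟩
  exact congrArg Subtype.val h1

theorem E_sq (hD : IsThreeTranspositionSet D) {x : G} (hx : x ∈ D) :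
    ∀ g ∈ E D x, g * g = 1 := by
  intro g hg
  unfold E at hg
  induction hg using Subgroup.closure_induction with
  | mem a ha => exact mul_self hD ha.1
  | one => simp
  | mul a b ha hb pa pb =>
    have hc := E_comm hx a ha b hb
    calc a * b * (a * b) = a * (b * a) * b := by simp only [mul_assoc]
      _ = a * (a * b) * b := by rw [hc]
      _ = (a * a) * (b * b) := by simp only [mul_assoc]
      _ = 1 := by rw [pa, pb, one_mul]
  | inv a ha pa =>
    have : a⁻¹ = a := inv_eq_of_mul_eq_one_left pa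
    rw [this, pa]

theorem E_isPGroup (hD : IsThreeTranspositionSet D) {x : G} (hx : x ∈ D) : IsPGroup 2 (E D x) := by
  intro g
  refine ⟨1, ?_⟩
  rw [pow_one, pow_two]
  exact Subtype.ext (E_sq hD hx g.1 g.2)

/-- Conjugation carries `E D x` to `E D (g x g⁻¹)`. -/
theorem conj_mem_E (hconj : ∀ g : G, ∀ x ∈ D, g * x * g⁻¹ ∈ D) (g : G) {x y : G} (hy : y ∈ E D x) :
    g * y * g⁻¹ ∈ E D (g * x * g⁻¹) := by
  unfold E at hy ⊢
  induction hy using Subgroup.closure_induction with
  | mem a ha => exact Subgroup.subset_closure ⟨hconj g a ha.1, ha.2.conj hconj g⟩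
  | one => simp
  | mul a b _ _ pa pb =>
    have := Subgroup.mul_mem _ pa pb
    simpa [mul_assoc] using this
  | inv a _ pa =>
    have := Subgroup.inv_mem _ pa
    simpa [mul_assoc] using this

/-- The key normalization property: if `z x z⁻¹` is equivalent to `x` then `z` normalizes `E D x`. -/
theorem mem_normalizer_E (hconj : ∀ g : G, ∀ x ∈ D, g * x * g⁻¹ ∈ D) {z x : G}
    (h1 : Sim D (z * x * z⁻¹) x) (h2 : Sim D (z⁻¹ * x * z) x) :
    z ∈ Subgroup.normalizer (E D x : Set G) := by
  rw [Subgroup.mem_normalizer_iff]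
  intro y
  constructor
  · intro hy
    have := conj_mem_E hconj z hy
    unfold E at this ⊢
    rwa [V_eq_of_sim h1] at this
  · intro hy
    have := conj_mem_E hconj z⁻¹ hy
    rw [inv_inv] at this
    unfold E at this ⊢
    rw [V_eq_of_sim h2] at this
    simpa [mul_assoc] using this

end Cfsg.Agent.Helper25.TT
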