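import Mathlib
import Cfsg.Agent.Lib.Helper25.FischerSp1
import Cfsg.Agent.Lib.Helper25.ThreeTransp1

/-!
# The line system of a set of 3-transpositions: partial linearity and three-point lines
-/

set_option autoImplicit false

namespace Cfsg.Agent.Helper25.FS

open Cfsg Cfsg.LineSystem

variable {G : Type*} [Group G] {D : Set G}

/-- A conjugation-invariant set of 3-transpositions. -/
structure TSet (D : Set G) : Prop where
  set : IsThreeTranspositionSet D
  conj : ∀ g : G, ∀ d ∈ D, g * d * g⁻¹ ∈ D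

/-- The set of members of `D` equal to one of three given elements. -/
def Line3 (D : Set G) (x y t : G) : Set D := {z | (z : G) = x ∨ (z : G) = y ∨ (z : G) = t}

theorem Line3_swap (x y t : G) : Line3 D x y t = Line3 D y x t := by
  ext z; simp only [Line3, Set.mem_setOf_eq]; tauto

theorem Line3_rot (x y t : G) : Line3 D x y t = Line3 D x t y := by
  ext z; simp only [Line3, Set.mem_setOf_eq]; tauto

theorem mem_lines_iff {l : Set D} : l ∈ threeTranspositionLines D ↔
    ∃ x y : D, ¬ Commute (x : G) (y : G) ∧ l = Line3 D x y ((y : G) * x * (y : G)⁻¹) := Iff.rfl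

/-- `x, y` do not commute and `t` is the third involution of the `S₃` they generate. -/
def IsTri (D : Set G) (x y t : G) : Prop := x ∈ D ∧ y ∈ D ∧ ¬ Commute x y ∧ t = y * x * y⁻¹

theorem IsTri.swap (h : TSet D) {x y t : G} (ht : IsTri D x y t) : IsTri D y x t := by
  obtain ⟨hx, hy, hxy, rfl⟩ := ht
  refine ⟨hy, hx, fun h => hxy h.symm, ?_⟩
  rw [TT.inv_eq h.set hx, TT.inv_eq h.set hy]
  exact (TT.braid h.set hx hy hxy).symm

theorem IsTri.mem (h : TSet D) {x y t : G} (ht : IsTri D x y t) : t ∈ D := by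
  obtain ⟨hx, hy, -, rfl⟩ := ht
  exact h.conj y x hx

theorem IsTri.rot (h : TSet D) {x y t : G} (ht : IsTri D x y t) : IsTri D x t y := by
  have htD := ht.mem h
  obtain ⟨hx, hy, hxy, rfl⟩ := ht
  have hxx := TT.mul_self h.set hx
  have hyy := TT.mul_self h.set hy
  have hb := TT.braid h.set hx hy hxy
  rw [TT.inv_eq h.set hy] at htD ⊢
  refine ⟨hx, htD, ?_, ?_⟩
  · intro hc
    apply hxy
    have h1 : x * (x * y * x) = (x * y * x) * x := by rw [hb]; exact hc
    have h2 : y * x = x * y := by
      calc y * x = (x * x) * y * x := by rw [hxx, one_mul]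
        _ = x * (x * y * x) := by simp only [mul_assoc]
        _ = x * y * x * x := h1
        _ = x * y * (x * x) := by simp only [mul_assoc]
        _ = x * y := by rw [hxx, mul_one]
    exact h2.symm
  · rw [TT.inv_eq h.set htD]
    calc y = y * ((y * x * y) * (y * x * y)) := by
          have : (y * x * y) * (y * x * y) = 1 := by
            calc (y * x * y) * (y * x * y) = y * x * (y * y) * x * y := by simp only [mul_assoc]
              _ = y * (x * x) * y := by rw [hyy, mul_one]; simp only [mul_assoc]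
              _ = 1 := by rw [hxx, mul_one, hyy]
          rw [this, mul_one]
      _ = y * ((x * y * x) * (y * x * y)) := by rw [hb]
      _ = y * x * y * x * (y * x * y) := by simp only [mul_assoc]

theorem Line3_eq_of_mem (h : TSet D) {x y t : G} (ht : IsTri D x y t) {a b : D} (hab : a ≠ b)
    (ha : a ∈ Line3 D x y t) (hb : b ∈ Line3 D x y t) :
    ∃ c : G, IsTri D a b c ∧ Line3 D a b c = Line3 D x y t := by
  have hab' : (a : G) ≠ b := fun h => hab (Subtype.ext h)
  have t1 := ht
  have t2 := ht.swap h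
  have t3 := ht.rot h
  have t4 := t3.swap h
  have t5 := t2.rot h
  have t6 := t5.swap h
  rcases ha with ha | ha | ha <;> rcases hb with hb | hb | hb
  · exact absurd (ha.trans hb.symm) hab'
  · exact ⟨t, by rw [ha, hb]; exact t1, by rw [ha, hb]⟩
  · exact ⟨y, by rw [ha, hb]; exact t3, by rw [ha, hb]; exact (Line3_rot x t y)⟩
  · exact ⟨t, by rw [ha, hb]; exact t2, by rw [ha, hb]; exact (Line3_swap y x t)⟩
  · exact absurd (ha.trans hb.symm) hab'
  · exact ⟨x, by rw [ha, hb]; exact t5, by
      rw [ha, hb, Line3_rot y t x, Line3_swap y x t]⟩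
  · exact ⟨y, by rw [ha, hb]; exact t4, by
      rw [ha, hb, Line3_swap t x y, Line3_rot x t y]⟩
  · exact ⟨x, by rw [ha, hb]; exact t6, by
      rw [ha, hb, Line3_swap t y x, Line3_rot y t x, Line3_swap y x t]⟩
  · exact absurd (ha.trans hb.symm) hab'

/-- Two different points on a common line do not commute, and the line is the one they span. -/
theorem line_of_mem (h : TSet D) {l : Set D} (hl : l ∈ threeTranspositionLines D) {a b : D}
    (hab : a ≠ b) (ha : a ∈ l) (hb : b ∈ l) :
    ¬ Commute (a : G) (b : G) ∧ l = Line3 D a b ((b : G) * a * (b : G)⁻¹) := by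
  obtain ⟨x, y, hxy, rfl⟩ := hl
  obtain ⟨c, hc, hcl⟩ := Line3_eq_of_mem h ⟨x.2, y.2, hxy, rfl⟩ hab ha hb
  refine ⟨hc.2.2.1, ?_⟩
  show Line3 D (x : G) y ((y : G) * x * (y : G)⁻¹) = _
  rw [← hcl, hc.2.2.2]

theorem isPartialLinear (h : TSet D) : IsPartialLinear (threeTranspositionLines D) := by
  intro l hl m hm x y hxy hxl hyl hxm hym
  rw [(line_of_mem h hl hxy hxl hyl).2, (line_of_mem h hm hxy hxm hym).2]

theorem line_mem {x y : D} (hxy : ¬ Commute (x : G) (y : G)) :
    Line3 D x y ((y : G) * x * (y : G)⁻¹) ∈ threeTranspositionLines D := ⟨x, y, hxy, rfl⟩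

theorem ncard_line (h : TSet D) {l : Set D} (hl : l ∈ threeTranspositionLines D) : l.ncard = 3 := by
  obtain ⟨x, y, hxy, rfl⟩ := hl
  have ht : IsTri D (x : G) y ((y : G) * x * (y : G)⁻¹) := ⟨x.2, y.2, hxy, rfl⟩
  have h3 := ht.rot h
  have h5 := (ht.swap h).rot h
  rw [Set.ncard_eq_three]
  refine ⟨x, y, ⟨(y : G) * x * (y : G)⁻¹, ht.mem h⟩, ?_, ?_, ?_, ?_⟩
  · intro hh; apply hxy; rw [hh]
  · intro hh; apply h3.2.2.1
    have := congrArg Subtype.val hh
    simp only at this
    rw [← this]
  · intro hh; apply h5.2.2.1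
    have := congrArg Subtype.val hh
    simp only at this
    rw [← this]
  · ext z
    simp only [Set.mem_ofPred_eq, Set.mem_insert_iff, Set.mem_singleton_iff, Subtype.ext_iff]

theorem two_points {l : Set D} (hl : l ∈ threeTranspositionLines D) :
    ∃ x ∈ l, ∃ y ∈ l, x ≠ y := by
  obtain ⟨x, y, hxy, rfl⟩ := hl
  refine ⟨x, Or.inl rfl, y, Or.inr (Or.inl rfl), ?_⟩
  intro hh; apply hxy; rw [hh]

end Cfsg.Agent.Helper25.FS
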