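import Mathlib
import Cfsg.Agent.Lib.Helper25.ThreeTransp1

/-!
# 3-transpositions: if `v` has the same commuting partners as `d` then `d v ∈ O₂(G)`
-/

set_option autoImplicit false

namespace Cfsg.Agent.Helper25.TT

open Cfsg Equiv

variable {G : Type*} [Group G] {D : Set G}

/-- The S₄ attached to a 3-string `(d, x, v)`. -/
theorem exists_S4 (hD : IsThreeTranspositionSet D) {d x v : G} (hd : d ∈ D) (hx : x ∈ D) (hv : v ∈ D)
    (hne : d ≠ v) (hc : Commute d v) (h1 : ¬ Commute d x) (h2 : ¬ Commute x v) :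
    ∃ φ : Perm (Fin 4) →* G, Function.Injective φ ∧ φ (swap 0 1) = d ∧ φ (swap 1 2) = x ∧
      φ (swap 2 3) = v :=
  Cfsg.Agent.S5344.result hD hd hx hv hne hc h1 h2

theorem conj_sim (hD : IsThreeTranspositionSet D) (hconj : ∀ g : G, ∀ x ∈ D, g * x * g⁻¹ ∈ D)
    {d v : G} (hd : d ∈ D) (hv : v ∈ D) (hs : Sim D v d) (hne : v ≠ d) {x : G} (hx : x ∈ D) :
    Sim D ((d * v) * x * (d * v)⁻¹) x := by
  have hcdv : Commute d v := (hs.commute hd).symm
  by_cases hdx : Commute d x
  · have hvx : Commute v x := (hs x hx).mpr hdx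
    have : (d * v) * x * (d * v)⁻¹ = x := by
      have h1 : (d * v) * x = x * (d * v) := (hdx.mul_left hvx).eq
      rw [h1, mul_assoc, mul_inv_cancel, mul_one]
    rw [this]
    exact Sim.refl x
  · have hvx : ¬ Commute v x := fun h => hdx ((hs x hx).mp h)
    have hxv : ¬ Commute x v := fun h => hvx h.symm
    obtain ⟨φ, -, h0, h1, h2⟩ := exists_S4 hD hd hx hv hne.symm hcdv hdx hxv
    have e1 : (d * v) * x * (d * v)⁻¹ = φ (swap 0 3) := by
      rw [← h0, ← h1, ← h2, ← map_mul, ← map_mul, ← map_inv, ← map_mul]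
      congr 1
      decide
    have e2 : v * (x * v * x⁻¹) * v⁻¹ = x := by
      have : v * (x * v * x⁻¹) * v⁻¹ = φ (swap 1 2) := by
        rw [← h1, ← h2]
        simp only [← map_mul, ← map_inv]
        congr 1
        decide
      rw [this, h1]
    have e3 : v * (x * d * x⁻¹) * v⁻¹ = φ (swap 0 3) := by
      rw [← h0, ← h1, ← h2]
      simp only [← map_mul, ← map_inv]
      congr 1
      decide
    have h3 := (hs.conj hconj x).conj hconj v
    rw [e2, e3] at h3
    rw [e1]
    exact h3.symm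

theorem mul_mem_pCore [Finite G] (hD : IsThreeTranspositionSet D)
    (hconj : ∀ g : G, ∀ x ∈ D, g * x * g⁻¹ ∈ D)
    {d v : G} (hd : d ∈ D) (hv : v ∈ D) (hs : Sim D v d) (hne : v ≠ d) :
    d * v ∈ Cfsg.pCore 2 G := by
  have : Fact (Nat.Prime 2) := ⟨Nat.prime_two⟩
  set z := d * v with hz
  have hzE : z ∈ E D d := by
    refine Subgroup.mul_mem _ (Subgroup.subset_closure (mem_V_self hd))
      (Subgroup.subset_closure ⟨hv, hs⟩)
  have hXE : Subgroup.zpowers z ≤ E D d := by
    rw [Subgroup.zpowers_le]; exact hzE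
  have hX : IsPGroup 2 (Subgroup.zpowers z) := (E_isPGroup hD hd).to_le hXE
  have hzinv : z⁻¹ = v * d := by
    rw [hz, mul_inv_rev, inv_eq hD hd, inv_eq hD hv]
  have key : ∀ g : G, IsPGroup 2 ↥(Subgroup.zpowers z ⊔
      (Subgroup.zpowers z).map (MulAut.conj g).toMonoidHom) := by
    intro g
    have hd' : g * d * g⁻¹ ∈ D := hconj g d hd
    have hnorm : z ∈ Subgroup.normalizer (E D (g * d * g⁻¹) : Set G) := by
      apply mem_normalizer_E hconj
      · exact conj_sim hD hconj hd hv hs hne hd'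
      · have := conj_sim hD hconj hv hd hs.symm hne.symm hd'
        rw [← hzinv, inv_inv] at this
        exact this
    have h1 : Subgroup.zpowers z ≤ Subgroup.normalizer (E D (g * d * g⁻¹) : Set G) := by
      rw [Subgroup.zpowers_le]; exact hnorm
    have h2 : IsPGroup 2 ↥(Subgroup.zpowers z ⊔ E D (g * d * g⁻¹)) :=
      IsPGroup.to_sup_of_normal_right' hX (E_isPGroup hD hd') h1
    refine h2.to_le (sup_le le_sup_left ?_)
    refine le_trans ?_ le_sup_right
    rw [MonoidHom.map_zpowers, Subgroup.zpowers_le]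
    exact conj_mem_E hconj g hzE
  obtain ⟨N, hN, hNp, hXN⟩ := Cfsg.Agent.S0199.result (Subgroup.zpowers z) hX key
  exact le_pCore' hN hNp (hXN (Subgroup.mem_zpowers z))

end Cfsg.Agent.Helper25.TT
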