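import Mathlib
import Cfsg.Agent.Lib.Helper25.ThreeTransp2

/-!
# 3-transpositions: when every member commutes with exactly one other member, an `S₄` is everything
-/

set_option autoImplicit false

namespace Cfsg.Agent.Helper25.TT

open Cfsg Equiv

variable {G : Type*} [Group G] {D : Set G}

/-- The images of the six transpositions under `φ`. -/
def Tset (φ : Perm (Fin 4) →* G) : Set G := {t | ∃ i j : Fin 4, i ≠ j ∧ t = φ (swap i j)}

theorem Tset_sub (hconj : ∀ g : G, ∀ x ∈ D, g * x * g⁻¹ ∈ D) {φ : Perm (Fin 4) →* G}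
    (h0 : φ (swap 0 1) ∈ D) : Tset φ ⊆ D := by
  rintro t ⟨i, j, hij, rfl⟩
  have h : ∀ i j : Fin 4, i ≠ j → ∃ σ : Perm (Fin 4), σ 0 = i ∧ σ 1 = j := by decide
  obtain ⟨σ, h1, h2⟩ := h i j hij
  rw [← h1, ← h2, swap_apply_apply, map_mul, map_mul, map_inv]
  exact hconj _ _ h0

theorem Tset_conj {φ : Perm (Fin 4) →* G} (σ : Perm (Fin 4)) {t : G} (ht : t ∈ Tset φ) :
    φ σ * t * (φ σ)⁻¹ ∈ Tset φ := by
  obtain ⟨i, j, hij, rfl⟩ := ht
  refine ⟨σ i, σ j, fun h => hij (σ.injective h), ?_⟩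
  rw [swap_apply_apply, map_mul, map_mul, map_inv]

/-- The two global hypotheses: commuting members are equivalent, and every member commutes with at most one
other member. -/
structure Pairs (D : Set G) : Prop where
  sim : ∀ y ∈ D, ∀ w ∈ D, Commute y w → Sim D w y
  uniq : ∀ y ∈ D, ∀ w ∈ D, ∀ w' ∈ D, Commute y w → Commute y w' → w ≠ y → w' ≠ y → w = w'

theorem Tset_closed (hP : Pairs D) (hconj : ∀ g : G, ∀ x ∈ D, g * x * g⁻¹ ∈ D)
    {φ : Perm (Fin 4) →* G} (hφ : Function.Injective φ) (h0 : φ (swap 0 1) ∈ D)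
    {t w : G} (ht : t ∈ Tset φ) (hw : w ∈ D) (hc : Commute t w) : w ∈ Tset φ := by
  have hT := Tset_sub hconj h0
  obtain ⟨i, j, hij, rfl⟩ := ht
  have h : ∀ i j : Fin 4, i ≠ j → ∃ k l : Fin 4, k ≠ l ∧ swap k l ≠ swap i j ∧
      swap i j * swap k l = swap k l * swap i j := by decide
  obtain ⟨k, l, hkl, hne, hcomm⟩ := h i j hij
  by_cases hwt : w = φ (swap i j)
  · exact ⟨i, j, hij, hwt⟩
  · have h1 : φ (swap k l) ∈ D := hT ⟨k, l, hkl, rfl⟩
    have h2 : Commute (φ (swap i j)) (φ (swap k l)) := by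
      show φ (swap i j) * φ (swap k l) = φ (swap k l) * φ (swap i j)
      rw [← map_mul, ← map_mul, hcomm]
    have h3 : φ (swap k l) ≠ φ (swap i j) := fun h => hne (hφ h)
    have := hP.uniq _ (hT ⟨i, j, hij, rfl⟩) w hw _ h1 hc h2 hwt h3
    exact ⟨k, l, hkl, this⟩

theorem sub_Tset (hD : IsThreeTranspositionSet D) (hP : Pairs D)
    (hconj : ∀ g : G, ∀ x ∈ D, g * x * g⁻¹ ∈ D)
    {φ : Perm (Fin 4) →* G} (hφ : Function.Injective φ) (h0 : φ (swap 0 1) ∈ D) :
    D ⊆ Tset φ := by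
  intro x hx
  by_contra hxT
  have hT := Tset_sub hconj h0
  have hcl := fun {t w : G} => Tset_closed hP hconj hφ h0 (t := t) (w := w)
  -- names
  set d := φ (swap 0 1) with hd
  set e := φ (swap 1 2) with he
  set v := φ (swap 2 3) with hv
  set e' := φ (swap 0 3) with he'
  have hdT : d ∈ Tset φ := ⟨0, 1, by decide, rfl⟩
  have heT : e ∈ Tset φ := ⟨1, 2, by decide, rfl⟩
  have hvT : v ∈ Tset φ := ⟨2, 3, by decide, rfl⟩
  have he'T : e' ∈ Tset φ := ⟨0, 3, by decide, rfl⟩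
  have hdD := hT hdT
  have heD := hT heT
  have hvD := hT hvT
  have he'D := hT he'T
  have ncomm : ∀ t ∈ Tset φ, ¬ Commute t x := fun t ht hc => hxT (hcl ht hx hc)
  -- the string (e, x, e')
  have hee' : Commute e e' := by
    show φ (swap 1 2) * φ (swap 0 3) = φ (swap 0 3) * φ (swap 1 2)
    rw [← map_mul, ← map_mul]; congr 1; decide
  have hene : e ≠ e' := fun h => absurd (hφ h) (by decide)
  obtain ⟨χ, hχ, c0, c1, c2⟩ := exists_S4 hD heD hx he'D hene hee' (ncomm e heT)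
    (fun h => ncomm e' he'T h.symm)
  -- the string (d, x, v)
  have hdv : Commute d v := by
    show φ (swap 0 1) * φ (swap 2 3) = φ (swap 2 3) * φ (swap 0 1)
    rw [← map_mul, ← map_mul]; congr 1; decide
  have hdvne : d ≠ v := fun h => absurd (hφ h) (by decide)
  obtain ⟨ψ, hψ, p0, p1, p2⟩ := exists_S4 hD hdD hx hvD hdvne hdv (ncomm d hdT)
    (fun h => ncomm v hvT h.symm)
  -- the partner of x
  have hχD : ∀ i j : Fin 4, i ≠ j → χ (swap i j) ∈ D := fun i j hij =>
    Tset_sub hconj (by rw [c0]; exact heD) ⟨i, j, hij, rfl⟩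
  have hψD : ∀ i j : Fin 4, i ≠ j → ψ (swap i j) ∈ D := fun i j hij =>
    Tset_sub hconj (by rw [p0]; exact hdD) ⟨i, j, hij, rfl⟩
  have hpart : χ (swap 0 3) = ψ (swap 0 3) := by
    apply hP.uniq x hx _ (hχD 0 3 (by decide)) _ (hψD 0 3 (by decide))
    · rw [← c1]
      show χ (swap 1 2) * χ (swap 0 3) = χ (swap 0 3) * χ (swap 1 2)
      rw [← map_mul, ← map_mul]; congr 1; decide
    · rw [← p1]
      show ψ (swap 1 2) * ψ (swap 0 3) = ψ (swap 0 3) * ψ (swap 1 2)
      rw [← map_mul, ← map_mul]; congr 1; decide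
    · rw [← c1]; exact fun h => absurd (hχ h) (by decide)
    · rw [← p1]; exact fun h => absurd (hψ h) (by decide)
  -- f, f'
  set f := χ (swap 0 2) with hf
  set f' := χ (swap 1 3) with hf'
  have hfD : f ∈ D := hχD 0 2 (by decide)
  have hf'D : f' ∈ D := hχD 1 3 (by decide)
  have hff' : Commute f f' := by
    show χ (swap 0 2) * χ (swap 1 3) = χ (swap 1 3) * χ (swap 0 2)
    rw [← map_mul, ← map_mul]; congr 1; decide
  have hffne : f ≠ f' := fun h => absurd (hχ h) (by decide)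
  have hfT : f ∉ Tset φ := by
    intro hfT
    apply hxT
    have h1 : x = e * f * e⁻¹ := by
      rw [hf, ← c0, ← c1, ← map_inv, ← map_mul, ← map_mul]; congr 1; decide
    rw [h1]
    exact Tset_conj (swap 1 2) hfT
  have hf'T : f' ∉ Tset φ := fun h => hfT (hcl h hfD hff'.symm)
  have hdf : ¬ Commute d f := fun h => hfT (hcl hdT hfD h)
  have hdf' : ¬ Commute d f' := fun h => hf'T (hcl hdT hf'D h)
  obtain ⟨ω, hω, w0, w1, w2⟩ := exists_S4 hD hfD hdD hf'D hffne hff' (fun h => hdf h.symm) hdf'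
  -- d commutes with f f'
  have hu : f * f' = (e * e') * (x * ψ (swap 0 3)) := by
    rw [← hpart, hf, hf', ← c0, ← c1, ← c2]
    simp only [← map_mul]
    congr 1; decide
  have h1 : d * (e * e') * d⁻¹ = (e * e') * (d * v) := by
    simp only [hd, he, he', hv, ← map_mul, ← map_inv]
    congr 1; decide
  have h2 : d * (x * ψ (swap 0 3)) * d⁻¹ = (x * ψ (swap 0 3)) * (d * v) := by
    rw [← p0, ← p1, ← p2]
    simp only [← map_mul, ← map_inv]
    congr 1; decide
  have h3 : (d * v) * (x * ψ (swap 0 3)) = (x * ψ (swap 0 3)) * (d * v) := by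
    rw [← p0, ← p1, ← p2]
    simp only [← map_mul]
    congr 1; decide
  have h4 : (d * v) * (d * v) = 1 := by
    rw [← p0, ← p2]
    simp only [← map_mul]
    rw [← map_one ψ]
    congr 1; decide
  have hcu : d * (f * f') * d⁻¹ = f * f' := by
    rw [hu]
    calc d * (e * e' * (x * ψ (swap 0 3))) * d⁻¹
        = (d * (e * e') * d⁻¹) * (d * (x * ψ (swap 0 3)) * d⁻¹) := by simp [mul_assoc]
      _ = (e * e') * (d * v) * ((x * ψ (swap 0 3)) * (d * v)) := by rw [h1, h2]
      _ = (e * e') * ((d * v) * (x * ψ (swap 0 3))) * (d * v) := by simp only [mul_assoc]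
      _ = (e * e') * ((x * ψ (swap 0 3)) * (d * v)) * (d * v) := by rw [h3]
      _ = (e * e') * (x * ψ (swap 0 3)) * ((d * v) * (d * v)) := by simp only [mul_assoc]
      _ = e * e' * (x * ψ (swap 0 3)) := by rw [h4, mul_one]
  -- contradiction inside ω
  rw [← w0, ← w1, ← w2] at hcu
  simp only [← map_mul, ← map_inv] at hcu
  exact absurd (hω hcu) (by decide)

end Cfsg.Agent.Helper25.TT
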