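import Mathlib
import Cfsg.Agent.Lib.Helper25.FischerSp2
import Cfsg.Agent.Lib.Helper25.ThreeTransp3

/-!
# The line system of a set of 3-transpositions: two lines through a point with commuting outer points
generate a dual affine plane of order two
-/

set_option autoImplicit false

namespace Cfsg.Agent.Helper25.FS

open Cfsg Cfsg.LineSystem Equiv

/-- The transposition attached to a two-element subset of `Fin 4`. -/
def tau (s : DualAffinePoint) : Perm (Fin 4) :=
  if 0 ∈ s.1 then (if 1 ∈ s.1 then swap 0 1 else if 2 ∈ s.1 then swap 0 2 else swap 0 3)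
  else if 1 ∈ s.1 then (if 2 ∈ s.1 then swap 1 2 else swap 1 3) else swap 2 3

set_option maxRecDepth 100000 in
theorem tau_inj : ∀ s t : DualAffinePoint, tau s = tau t → s = t := by decide

set_option maxRecDepth 100000 in
theorem tau_swap : ∀ s : DualAffinePoint, ∃ i j : Fin 4, i ≠ j ∧ tau s = swap i j := by decide

set_option maxRecDepth 100000 in
theorem tau_lines : ∀ i : Fin 4, ∃ s₁ s₂ s₃ : DualAffinePoint,
    (∀ s : DualAffinePoint, i ∉ s.1 ↔ (s = s₁ ∨ s = s₂ ∨ s = s₃)) ∧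
      tau s₃ = tau s₂ * tau s₁ * (tau s₂)⁻¹ ∧ ¬ (tau s₁ * tau s₂ = tau s₂ * tau s₁) := by decide

set_option maxRecDepth 100000 in
theorem tau_noncomm : ∀ x y : DualAffinePoint, ¬ (tau x * tau y = tau y * tau x) →
    ∃ i, i ∉ x.1 ∧ i ∉ y.1 := by decide

set_option maxRecDepth 100000 in
theorem dual_last : ∀ s : DualAffinePoint, 3 ∈ s.1 → 0 ∈ s.1 → 1 ∉ s.1 := by decide

def s01 : DualAffinePoint := ⟨{0, 1}, by decide⟩
def s12 : DualAffinePoint := ⟨{1, 2}, by decide⟩
def s23 : DualAffinePoint := ⟨{2, 3}, by decide⟩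
def s02 : DualAffinePoint := ⟨{0, 2}, by decide⟩

theorem tau_s01 : tau s01 = swap 0 1 := by decide
theorem tau_s12 : tau s12 = swap 1 2 := by decide
theorem tau_s23 : tau s23 = swap 2 3 := by decide

theorem span_dual :
    span dualAffinePlaneTwo ({s : DualAffinePoint | 3 ∉ s.1} ∪ {s : DualAffinePoint | 0 ∉ s.1})
      = Set.univ := by
  rw [Set.eq_univ_iff_forall]
  intro s
  rw [span, Set.mem_sInter]
  rintro T ⟨hAT, hT⟩
  by_cases h3 : 3 ∈ s.1
  · by_cases h0 : 0 ∈ s.1
    · have h1 := dual_last s h3 h0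
      have hμ : {s : DualAffinePoint | 1 ∉ s.1} ∈ dualAffinePlaneTwo := ⟨1, rfl⟩
      have ha : s02 ∈ T := hAT (Or.inl (by decide))
      have hb : s23 ∈ T := hAT (Or.inr (by decide))
      have hne : s02 ≠ s23 := by decide
      exact hT _ hμ s02 ha s23 hb hne (by decide) (by decide) h1
    · exact hAT (Or.inr h0)
  · exact hAT (Or.inl h3)

variable {G : Type*} [Group G] {D : Set G}

theorem dual_case (h : TSet D) {p a b : D} (hpa : ¬ Commute (p : G) a) (hpb : ¬ Commute (p : G) b)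
    (hab : Commute (a : G) b) (hne : a ≠ b) :
    Isomorphic (restrict (threeTranspositionLines D) (span (threeTranspositionLines D)
      (Line3 D p a ((a : G) * p * (a : G)⁻¹) ∪ Line3 D p b ((b : G) * p * (b : G)⁻¹))))
      dualAffinePlaneTwo := by
  have hne' : (a : G) ≠ b := fun hh => hne (Subtype.ext hh)
  obtain ⟨φ, hφ, h0, h1, h2⟩ := TT.exists_S4 h.set a.2 p.2 b.2 hne' hab
    (fun hh => hpa hh.symm) hpb
  have hφD : ∀ s : DualAffinePoint, φ (tau s) ∈ D := by
    intro s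
    obtain ⟨i, j, hij, hs⟩ := tau_swap s
    rw [hs]
    exact TT.Tset_sub h.conj (by rw [h0]; exact a.2) ⟨i, j, hij, rfl⟩
  let f : DualAffinePoint → D := fun s => ⟨φ (tau s), hφD s⟩
  have hf : Function.Injective f := by
    intro s t hst
    have : φ (tau s) = φ (tau t) := congrArg Subtype.val hst
    exact tau_inj s t (hφ this)
  have hcomm : ∀ s t : DualAffinePoint, Commute ((f s : D) : G) (f t) →
      tau s * tau t = tau t * tau s := by
    intro s t hc
    apply hφ
    rw [map_mul, map_mul]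
    exact hc
  have hL := isPartialLinear h
  have hline : ∀ μ ∈ dualAffinePlaneTwo, f '' μ ∈ threeTranspositionLines D := by
    rintro μ ⟨i, rfl⟩
    obtain ⟨s₁, s₂, s₃, hs, h3, hnc⟩ := tau_lines i
    refine ⟨f s₁, f s₂, fun hc => hnc (hcomm s₁ s₂ hc), ?_⟩
    have h3' : ((f s₃ : D) : G) = (f s₂ : G) * (f s₁ : G) * (f s₂ : G)⁻¹ := by
      show φ (tau s₃) = φ (tau s₂) * φ (tau s₁) * (φ (tau s₂))⁻¹
      rw [h3, map_mul, map_mul, map_inv]
    ext z
    constructor
    · rintro ⟨s, hs', rfl⟩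
      rcases (hs s).mp hs' with rfl | rfl | rfl
      · exact Or.inl rfl
      · exact Or.inr (Or.inl rfl)
      · exact Or.inr (Or.inr h3')
    · rintro (hz | hz | hz)
      · exact ⟨s₁, (hs s₁).mpr (Or.inl rfl), (Subtype.ext hz).symm⟩
      · exact ⟨s₂, (hs s₂).mpr (Or.inr (Or.inl rfl)), (Subtype.ext hz).symm⟩
      · exact ⟨s₃, (hs s₃).mpr (Or.inr (Or.inr rfl)), (Subtype.ext (hz.trans h3'.symm)).symm⟩
  have hcol : ∀ x y : DualAffinePoint, x ≠ y →
      (∃ l ∈ threeTranspositionLines D, f x ∈ l ∧ f y ∈ l) →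
      ∃ μ ∈ dualAffinePlaneTwo, x ∈ μ ∧ y ∈ μ := by
    rintro x y hxy ⟨l, hl, hxl, hyl⟩
    have hnc := (line_of_mem h hl (fun hh => hxy (hf hh)) hxl hyl).1
    obtain ⟨i, hix, hiy⟩ := tau_noncomm x y (fun hh => hnc (by
      show φ (tau x) * φ (tau y) = φ (tau y) * φ (tau x)
      rw [← map_mul, ← map_mul, hh]))
    exact ⟨_, ⟨i, rfl⟩, hix, hiy⟩
  refine isomorphic_restrict_span hL f hf hline hcol (fun l hl => two_points hl) _ span_dual _ ?_
  rw [Set.image_union]
  have hp : f s12 = p := Subtype.ext (by show φ (tau s12) = p; rw [tau_s12, h1])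
  have ha : f s01 = a := Subtype.ext (by show φ (tau s01) = a; rw [tau_s01, h0])
  have hb : f s23 = b := Subtype.ext (by show φ (tau s23) = b; rw [tau_s23, h2])
  have hpa' : p ≠ a := fun hh => hpa (by rw [hh])
  have hpb' : p ≠ b := fun hh => hpb (by rw [hh])
  have e1 := (line_of_mem h (hline _ ⟨3, rfl⟩) hpa'
    (by rw [← hp]; exact ⟨s12, by decide, rfl⟩) (by rw [← ha]; exact ⟨s01, by decide, rfl⟩)).2
  have e2 := (line_of_mem h (hline _ ⟨0, rfl⟩) hpb'
    (by rw [← hp]; exact ⟨s12, by decide, rfl⟩) (by rw [← hb]; exact ⟨s23, by decide, rfl⟩)).2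
  rw [e1, e2]

end Cfsg.Agent.Helper25.FS
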