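import Mathlib
import Cfsg.Agent.Lib.Helper25.FischerSp2
import Cfsg.Agent.Lib.Helper25.FischerSp4

/-!
# The line system of a set of 3-transpositions: two lines through a point with no commuting outer points
generate an affine plane of order three
-/

set_option autoImplicit false

namespace Cfsg.Agent.Helper25.FS

open Cfsg Cfsg.LineSystem

variable {G : Type*} [Group G] {D : Set G}

theorem conj_self_mem (h : TSet D) {x y : G} (hx : x ∈ D) (hy : y ∈ D) : x * y * x ∈ D := by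
  have := h.conj x y hy
  rwa [TT.inv_eq h.set hx] at this

theorem pt_mem (h : TSet D) {p a b : G} (hp : p ∈ D) (ha : a ∈ D) (hb : b ∈ D) :
    ∀ i j : ZMod 3, pt p a b i j ∈ D := by
  have c := fun {x y : G} (hx : x ∈ D) (hy : y ∈ D) => conj_self_mem h hx hy
  apply forall_zmod3 <;> apply forall_zmod3
  · exact hp
  · exact hb
  · exact c hp hb
  · exact ha
  · exact c hp (c ha hb)
  · exact c hb (c hp ha)
  · exact c hp ha
  · exact c ha (c hp hb)
  · exact c ha hb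

theorem pt_inj {p a b : G} (h : AffRel p a b) (h1 : p ≠ a) (h2 : p ≠ b) (h3 : a ≠ b)
    (h4 : a ≠ p * b * p) :
    ∀ i j i' j' : ZMod 3, pt p a b i j = pt p a b i' j' → i = i' ∧ j = j' := by
  intro i j i' j' heq
  by_contra hne
  have T : ∀ m n : ZMod 3, pt p a b m n = pt p a b (m - (i' - i)) (n - (j' - j)) := by
    intro m n
    have g := good_all h (2 * (m + i)) (2 * (n + j))
    have g1 := g i j
    have g2 := g i' j'
    rw [heq, g2] at g1
    have e1 : ∀ m i : ZMod 3, 2 * (2 * (m + i)) - i = m := by decide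
    have e2 : ∀ m i i' : ZMod 3, 2 * (2 * (m + i)) - i' = m - (i' - i) := by decide
    rw [e1, e1, e2, e2] at g1
    exact g1.symm
  have key : ∀ d₁ d₂ : ZMod 3, ¬ (d₁ = 0 ∧ d₂ = 0) →
      ((0 - d₁ = 1 ∧ 0 - d₂ = 0) ∨ (0 - d₁ - d₁ = 1 ∧ 0 - d₂ - d₂ = 0)) ∨
      ((0 - d₁ = 0 ∧ 0 - d₂ = 1) ∨ (0 - d₁ - d₁ = 0 ∧ 0 - d₂ - d₂ = 1)) ∨
      ((1 - d₁ = 0 ∧ 0 - d₂ = 2) ∨ (1 - d₁ - d₁ = 0 ∧ 0 - d₂ - d₂ = 2)) ∨
      ((1 - d₁ = 0 ∧ 0 - d₂ = 1) ∨ (1 - d₁ - d₁ = 0 ∧ 0 - d₂ - d₂ = 1)) := by decide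
  have hd : ¬ (i' - i = 0 ∧ j' - j = 0) := by
    rintro ⟨hi, hj⟩
    exact hne ⟨(sub_eq_zero.mp hi).symm, (sub_eq_zero.mp hj).symm⟩
  have T2 : ∀ m n : ZMod 3, pt p a b m n = pt p a b (m - (i' - i) - (i' - i)) (n - (j' - j) - (j' - j)) :=
    fun m n => (T m n).trans (T _ _)
  rcases key _ _ hd with (⟨e1, e2⟩ | ⟨e1, e2⟩) | (⟨e1, e2⟩ | ⟨e1, e2⟩) | (⟨e1, e2⟩ | ⟨e1, e2⟩) |
    (⟨e1, e2⟩ | ⟨e1, e2⟩)
  · have := T 0 0; rw [e1, e2] at this; exact h1 this
  · have := T2 0 0; rw [e1, e2] at this; exact h1 this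
  · have := T 0 0; rw [e1, e2] at this; exact h2 this
  · have := T2 0 0; rw [e1, e2] at this; exact h2 this
  · have := T 1 0; rw [e1, e2] at this; exact h4 this
  · have := T2 1 0; rw [e1, e2] at this; exact h4 this
  · have := T 1 0; rw [e1, e2] at this; exact h3 this
  · have := T2 1 0; rw [e1, e2] at this; exact h3 this

theorem span_affine :
    span affinePlaneThree
      ({x : Fin 2 → ZMod 3 | ∃ c : ZMod 3, x = 0 + c • ![1, 0]} ∪
        {x : Fin 2 → ZMod 3 | ∃ c : ZMod 3, x = 0 + c • ![0, 1]}) = Set.univ := by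
  rw [Set.eq_univ_iff_forall]
  intro z
  rw [span, Set.mem_sInter]
  rintro T ⟨hAT, hT⟩
  have hu : (![-(z 0), 0] : Fin 2 → ZMod 3) ∈ T := by
    apply hAT; left
    refine ⟨-(z 0), ?_⟩
    ext i; fin_cases i <;> simp
  have hu' : (![0, -(z 1)] : Fin 2 → ZMod 3) ∈ T := by
    apply hAT; right
    refine ⟨-(z 1), ?_⟩
    ext i; fin_cases i <;> simp
  by_cases hz : z 0 = 0 ∧ z 1 = 0
  · apply hAT; left
    refine ⟨0, ?_⟩
    ext i; fin_cases i <;> simp [hz.1, hz.2]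
  · have hne : (![-(z 0), 0] : Fin 2 → ZMod 3) ≠ ![0, -(z 1)] := by
      intro hh
      apply hz
      have h0 := congrFun hh 0
      have h1 := congrFun hh 1
      simp at h0 h1
      exact ⟨h0, h1⟩
    have hμ : {x : Fin 2 → ZMod 3 | ∃ c : ZMod 3, x = ![-(z 0), 0] + c • (![0, -(z 1)] - ![-(z 0), 0])}
        ∈ affinePlaneThree := ⟨_, _, sub_ne_zero.mpr hne.symm, rfl⟩
    refine hT _ hμ _ hu _ hu' hne ⟨0, by simp⟩ ⟨1, by simp⟩ ⟨2, ?_⟩
    have e : ∀ j : ZMod 3, 2 * -j = j := by decide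
    ext i; fin_cases i
    · simp; ring
    · simp [e]

theorem affine_case (h : TSet D) {p a b : D} (hpa : ¬ Commute (p : G) a) (hpb : ¬ Commute (p : G) b)
    (hab : ¬ Commute (a : G) b) (hab' : ¬ Commute (a : G) ((b : G) * p * (b : G)⁻¹))
    (ha'b : ¬ Commute ((a : G) * p * (a : G)⁻¹) (b : G)) :
    Isomorphic (restrict (threeTranspositionLines D) (span (threeTranspositionLines D)
      (Line3 D p a ((a : G) * p * (a : G)⁻¹) ∪ Line3 D p b ((b : G) * p * (b : G)⁻¹))))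
      affinePlaneThree := by
  have hS := h.set
  have hpD := p.2
  have haD := a.2
  have hbD := b.2
  have ea : (a : G) * p * (a : G)⁻¹ = p * a * p := by
    rw [TT.inv_eq hS haD]; exact (TT.braid hS hpD haD hpa).symm
  have eb : (b : G) * p * (b : G)⁻¹ = p * b * p := by
    rw [TT.inv_eq hS hbD]; exact (TT.braid hS hpD hbD hpb).symm
  rw [eb] at hab'
  rw [ea] at ha'b
  have hR : AffRel (p : G) a b :=
    { pp := TT.mul_self hS hpD
      aa := TT.mul_self hS haD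
      bb := TT.mul_self hS hbD
      pa := TT.braid hS hpD haD hpa
      pb := TT.braid hS hpD hbD hpb
      ab := TT.braid hS haD hbD hab
      ab' := TT.braid hS haD (conj_self_mem h hpD hbD) hab'
      a'b := TT.braid hS (conj_self_mem h hpD haD) hbD ha'b }
  have hinj := pt_inj hR (TT.ne_of_not_commute hpa) (TT.ne_of_not_commute hpb)
    (TT.ne_of_not_commute hab) (TT.ne_of_not_commute hab')
  have hgood := good_all hR
  let f : (Fin 2 → ZMod 3) → D := fun w => ⟨pt (p : G) a b (w 0) (w 1), pt_mem h hpD haD hbD _ _⟩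
  have hf : Function.Injective f := by
    intro w w' hww
    have : pt (p : G) a b (w 0) (w 1) = pt (p : G) a b (w' 0) (w' 1) := congrArg Subtype.val hww
    obtain ⟨h0, h1⟩ := hinj _ _ _ _ this
    ext i; fin_cases i
    · exact h0
    · exact h1
  have hnc : ∀ w w' : Fin 2 → ZMod 3, w ≠ w' → ¬ Commute ((f w : D) : G) (f w') := by
    intro w w' hww hc
    have g := hgood (w' 0) (w' 1) (w 0) (w 1)
    have hc' : pt (p : G) a b (w' 0) (w' 1) * pt (p : G) a b (w 0) (w 1) =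
        pt (p : G) a b (w 0) (w 1) * pt (p : G) a b (w' 0) (w' 1) := hc.symm.eq
    rw [hc', mul_assoc, mul_inv_cancel, mul_one] at g
    obtain ⟨h0, h1⟩ := hinj _ _ _ _ g
    have e : ∀ x y : ZMod 3, x = 2 * y - x → x = y := by decide
    apply hww
    ext i; fin_cases i
    · exact e _ _ h0
    · exact e _ _ h1
  have hL := isPartialLinear h
  have hline : ∀ μ ∈ affinePlaneThree, f '' μ ∈ threeTranspositionLines D := by
    rintro μ ⟨v, w, hw, rfl⟩
    have hvw : v ≠ v + w := fun hh => hw (by simpa using hh.symm)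
    refine ⟨f v, f (v + w), hnc _ _ hvw, ?_⟩
    have h3' : ((f (v + (2 : ZMod 3) • w) : D) : G) = (f (v + w) : G) * (f v : G) * (f (v + w) : G)⁻¹ := by
      have g := hgood ((v + w) 0) ((v + w) 1) (v 0) (v 1)
      show pt (p : G) a b ((v + (2 : ZMod 3) • w) 0) ((v + (2 : ZMod 3) • w) 1) = _
      rw [show ((f (v + w) : D) : G) = pt (p : G) a b ((v + w) 0) ((v + w) 1) from rfl,
        show ((f v : D) : G) = pt (p : G) a b (v 0) (v 1) from rfl, g]
      congr 1
      · simp only [Pi.add_apply, Pi.smul_apply, smul_eq_mul]; ring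
      · simp only [Pi.add_apply, Pi.smul_apply, smul_eq_mul]; ring
    ext z
    constructor
    · rintro ⟨x, ⟨c, rfl⟩, rfl⟩
      revert c
      apply forall_zmod3
      · left; simp
      · right; left; simp
      · right; right
        rw [← h3']
    · rintro (hz | hz | hz)
      · exact ⟨v, ⟨0, by simp⟩, (Subtype.ext hz).symm⟩
      · exact ⟨v + w, ⟨1, by simp⟩, (Subtype.ext hz).symm⟩
      · refine ⟨v + (2 : ZMod 3) • w, ⟨2, ?_⟩, (Subtype.ext (hz.trans h3'.symm)).symm⟩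
        ext i
        simp only [Pi.add_apply, Pi.smul_apply, smul_eq_mul]
  have hcol : ∀ x y : Fin 2 → ZMod 3, x ≠ y →
      (∃ l ∈ threeTranspositionLines D, f x ∈ l ∧ f y ∈ l) →
      ∃ μ ∈ affinePlaneThree, x ∈ μ ∧ y ∈ μ := by
    rintro x y hxy -
    exact ⟨_, ⟨x, y - x, sub_ne_zero.mpr hxy.symm, rfl⟩, ⟨0, by simp⟩, ⟨1, by simp⟩⟩
  refine isomorphic_restrict_span hL f hf hline hcol (fun l hl => two_points hl) _ span_affine _ ?_
  rw [Set.image_union]
  have hp : f 0 = p := Subtype.ext rfl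
  have ha : f ![1, 0] = a := Subtype.ext rfl
  have hb : f ![0, 1] = b := Subtype.ext rfl
  have hpa' : p ≠ a := fun hh => hpa (by rw [hh])
  have hpb' : p ≠ b := fun hh => hpb (by rw [hh])
  have e1 := (line_of_mem h (hline _ ⟨0, ![1, 0], by decide, rfl⟩) hpa'
    (by rw [← hp]; exact ⟨0, ⟨0, by simp⟩, rfl⟩)
    (by rw [← ha]; exact ⟨![1, 0], ⟨1, by simp⟩, rfl⟩)).2
  have e2 := (line_of_mem h (hline _ ⟨0, ![0, 1], by decide, rfl⟩) hpb'
    (by rw [← hp]; exact ⟨0, ⟨0, by simp⟩, rfl⟩)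
    (by rw [← hb]; exact ⟨![0, 1], ⟨1, by simp⟩, rfl⟩)).2
  rw [e1, e2]

end Cfsg.Agent.Helper25.FS
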