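import Mathlib
import Cfsg.Prelude.Def_FusionSystem
import Cfsg.Agent.Lib.Helper25.Fusion
import Cfsg.Agent.Lib.Helper25.FusionRealized
import Cfsg.Agent.Lib.Helper25.FusionAlperin
import Cfsg.Agent.Lib.Helper25.FusionAut

set_option autoImplicit false

namespace Cfsg.Agent.Helper25.Cyc

open Cfsg Cfsg.FusionSystem Cfsg.Agent.Helper25

variable {Ω : Type*} [Group Ω]

/-- The fusion system over `T` of the semidirect product of `T` by the cyclic group generated by an
automorphism `β` of `T`: its maps are the restrictions of the automorphisms `c_g ∘ β ^ k`. -/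
def cycSys (T : Subgroup Ω) (β : MulAut T) : FusionSystem T where
  Hom P := {φ | ∃ hP : P ≤ T, ∃ g : T, ∃ k : ℤ,
    ∀ y : P, φ y = ((g * (β ^ k) ⟨y, hP y.2⟩ * g⁻¹ : T) : Ω)}
  le_of_mem := by
    rintro P φ ⟨hP, g, k, h⟩
    exact ⟨hP, fun x => by rw [h x]; exact Subtype.property _⟩
  injective_of_mem := by
    rintro P φ ⟨hP, g, k, h⟩ a b hab
    rw [h a, h b] at hab
    have h1 := Subtype.ext hab
    have h2 : (β ^ k) ⟨a, hP a.2⟩ = (β ^ k) ⟨b, hP b.2⟩ := by
      have := mul_left_cancel (mul_right_cancel h1)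
      exact this
    have h3 := (β ^ k).injective h2
    exact Subtype.ext (congrArg (fun t : T => (t : Ω)) h3)
  conj_mem := by
    intro P g hP hg
    refine ⟨hP, ⟨g, hg⟩, 0, fun y => ?_⟩
    simp [conjHom_apply]
  comp_mem := by
    rintro P Q φ ψ ⟨hP, g, k, h⟩ ⟨hQ, g', k', h'⟩ hφQ
    refine ⟨hP, g' * (β ^ k') g, k' + k, fun y => ?_⟩
    show ψ ⟨φ y, hφQ y⟩ = _
    rw [h']
    have e : (⟨φ y, hQ (hφQ y)⟩ : T) = g * (β ^ k) ⟨y, hP y.2⟩ * g⁻¹ := Subtype.ext (h y)
    have e' : (⟨((⟨φ y, hφQ y⟩ : Q) : Ω), hQ (⟨φ y, hφQ y⟩ : Q).2⟩ : T) =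
        g * (β ^ k) ⟨y, hP y.2⟩ * g⁻¹ := e
    rw [e']
    congr 1
    rw [map_mul, map_mul, map_inv, zpow_add, MulAut.mul_apply]
    group
  inv_mem := by
    rintro P φ ⟨hP, g, k, h⟩
    have hr : φ.range ≤ T := by
      rintro _ ⟨x, rfl⟩
      rw [h x]; exact Subtype.property _
    refine ⟨T.subtype.comp ((β ^ (-k)).toMonoidHom.comp ((MulAut.conj g⁻¹).toMonoidHom.comp
      (Subgroup.inclusion hr))), ⟨hr, (β ^ (-k)) g⁻¹, -k, fun z => ?_⟩, fun x => ?_⟩
    · show (((β ^ (-k)) (g⁻¹ * ⟨z, hr z.2⟩ * g⁻¹⁻¹) : T) : Ω) = _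
      congr 1
      rw [map_mul, map_mul, map_inv, map_inv, map_inv]
    · show (((β ^ (-k)) (g⁻¹ * ⟨φ x, hr ⟨x, rfl⟩⟩ * g⁻¹⁻¹) : T) : Ω) = _
      have e : (⟨φ x, hr ⟨x, rfl⟩⟩ : T) = g * (β ^ k) ⟨x, hP x.2⟩ * g⁻¹ := Subtype.ext (h x)
      rw [e]
      have : g⁻¹ * (g * (β ^ k) ⟨x, hP x.2⟩ * g⁻¹) * g⁻¹⁻¹ = (β ^ k) ⟨x, hP x.2⟩ := by group
      rw [this, zpow_neg, MulAut.inv_apply_self]

theorem mem_cycSys {T : Subgroup Ω} {β : MulAut T} {P : Subgroup Ω} {φ : P →* Ω} :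
    φ ∈ (cycSys T β).Hom P ↔ ∃ hP : P ≤ T, ∃ g : T, ∃ k : ℤ,
      ∀ y : P, φ y = ((g * (β ^ k) ⟨y, hP y.2⟩ * g⁻¹ : T) : Ω) := Iff.rfl

/-- The semidirect product realizing `cycSys`. -/
abbrev cycGroup (T : Subgroup Ω) (β : MulAut T) : Type _ :=
  T ⋊[(Subgroup.zpowers β).subtype] (Subgroup.zpowers β)

theorem conj_inl {T : Subgroup Ω} {β : MulAut T} (g : T) (b : Subgroup.zpowers β) (x : T) :
    (SemidirectProduct.inl g * SemidirectProduct.inr b : cycGroup T β) * SemidirectProduct.inl x *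
      (SemidirectProduct.inl g * SemidirectProduct.inr b : cycGroup T β)⁻¹ =
    SemidirectProduct.inl (g * (b : MulAut T) x * g⁻¹) := by
  rw [map_mul, map_mul, map_inv]
  have := SemidirectProduct.inl_aut (φ := (Subgroup.zpowers β).subtype) b x
  rw [Subgroup.coe_subtype] at this
  rw [this, map_inv]
  group

theorem cycSys_isRealizedBy (T : Subgroup Ω) (β : MulAut T) :
    (cycSys T β).IsRealizedBy (SemidirectProduct.inl : T →* cycGroup T β) := by
  refine ⟨SemidirectProduct.inl_injective, fun P hP φ hφ => ⟨?_, ?_⟩⟩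
  · rintro ⟨hP', g, k, h⟩
    refine ⟨SemidirectProduct.inl g * SemidirectProduct.inr ⟨β ^ k, Subgroup.zpow_mem_zpowers β k⟩,
      fun x => ?_⟩
    rw [conj_inl]
    congr 1
    exact Subtype.ext (h x)
  · rintro ⟨w, hw⟩
    obtain ⟨k, hk⟩ := Subgroup.mem_zpowers_iff.mp w.right.2
    refine ⟨hP, w.left, k, fun x => ?_⟩
    have h1 := hw x
    rw [← SemidirectProduct.inl_left_mul_inr_right w, conj_inl] at h1
    have h2 := SemidirectProduct.inl_injective h1
    rw [hk]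
    exact congrArg (fun t : T => (t : Ω)) h2

theorem cycSys_isSaturated {T : Subgroup Ω} [Finite T] {p : ℕ} [Fact p.Prime] (hT : IsPGroup p T)
    (β : MulAut T) (hβ : Nat.Coprime (orderOf β) p) : (cycSys T β).IsSaturated p := by
  haveI : Finite (Subgroup.zpowers β) := inferInstance
  haveI : Finite (cycGroup T β) := Finite.of_equiv _ SemidirectProduct.equivProd.symm
  have hp : p.Prime := Fact.out
  have hpg : IsPGroup p (SemidirectProduct.inl : T →* cycGroup T β).range := by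
    have e := MonoidHom.ofInjective (f := (SemidirectProduct.inl : T →* cycGroup T β))
      SemidirectProduct.inl_injective
    exact hT.of_equiv e
  have hidx : ¬ p ∣ (SemidirectProduct.inl : T →* cycGroup T β).range.index := by
    rw [SemidirectProduct.range_inl_eq_ker_rightHom, Subgroup.index_ker,
      MonoidHom.range_eq_top.mpr SemidirectProduct.rightHom_surjective]
    rw [Nat.card_congr (Subgroup.topEquiv (G := Subgroup.zpowers β)).toEquiv, Nat.card_zpowers]
    intro hdvd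
    have := Nat.Coprime.eq_one_of_dvd hβ.symm hdvd
    exact hp.one_lt.ne' this
  exact isSaturated_of_realized (cycSys T β) _ (cycSys_isRealizedBy T β) (hpg.toSylow hidx)
    (IsPGroup.toSylow_coe hpg hidx)

/-- `cycSys T β` is a subsystem of `F` when `β ∈ Aut_F(T)`. -/
theorem cycSys_sub {S : Subgroup Ω} (F : FusionSystem S) {T : Subgroup Ω} (hTS : T ≤ S) {β : MulAut T}
    (hβ : β ∈ F.autGroup T) : (cycSys T β).IsSubsystemOf F := by
  rintro P φ ⟨hP, g, k, h⟩
  have hg : MulAut.conj g ∈ F.autGroup T :=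
    autInducedBy_le_autGroup F hTS (inn_le_autInducedBy hTS ⟨g, rfl⟩)
  have hγ : MulAut.conj g * β ^ k ∈ F.autGroup T := (F.autGroup T).mul_mem hg ((F.autGroup T).zpow_mem hβ k)
  have h1 := (mem_autGroup_iff F hTS _).mp hγ
  have h2 := restrict_mem F hP h1
  have e : φ = (T.subtype.comp (MulAut.conj g * β ^ k).toMonoidHom).comp (Subgroup.inclusion hP) := by
    ext y
    rw [h y]
    rfl
  rw [e]; exact h2

/-- A coprime automorphism of a `p`-group fixing `z⁻¹ β(z)` fixes `z`. -/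
theorem coprime_fix {P : Type*} [Group P] {p : ℕ} (hP : IsPGroup p P) (β : MulAut P) {m : ℕ}
    (hm : β ^ m = 1) (hcop : Nat.Coprime m p) (z : P) (hfix : β (z⁻¹ * β z) = z⁻¹ * β z) : β z = z := by
  set η : P := z⁻¹ * β z with hη
  have hβz : β z = z * η := by rw [hη]; group
  have hpow : ∀ k : ℕ, (β ^ k) z = z * η ^ k := by
    intro k
    induction k with
    | zero => simp
    | succ k ih =>
      rw [pow_succ', MulAut.mul_apply, ih, map_mul, map_pow, hfix, hβz, pow_succ', mul_assoc]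
  have h1 := hpow m
  rw [hm, MulAut.one_apply] at h1
  have hηm : η ^ m = 1 := by
    have := congrArg (z⁻¹ * ·) h1
    simpa using this.symm
  obtain ⟨k, hk⟩ := hP η
  have hgcd : η ^ Nat.gcd m (p ^ k) = 1 := pow_gcd_eq_one.mpr ⟨hηm, hk⟩
  have hc : Nat.gcd m (p ^ k) = 1 := Nat.Coprime.pow_right k hcop
  rw [hc, pow_one] at hgcd
  rw [hβz, hgcd, mul_one]

/-- `cycSys T β` is not the inner system when `β` has prime order `q ≠ p`. -/
theorem cycSys_not_inner {T : Subgroup Ω} [Finite T] {p : ℕ} [Fact p.Prime] (hT : IsPGroup p T)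
    {β : MulAut T} {q : ℕ} (hq : q.Prime) (hqp : q ≠ p) (hβq : orderOf β = q) :
    ¬ ∀ P : Subgroup Ω, (cycSys T β).Hom P = (innerFusionSystem T).Hom P := by
  intro h
  have hp : p.Prime := Fact.out
  have h1 : T.subtype.comp β.toMonoidHom ∈ (cycSys T β).Hom T :=
    ⟨le_rfl, 1, 1, fun y => by simp⟩
  rw [h T] at h1
  obtain ⟨-, g, hg, hgβ⟩ := h1
  have e : β = MulAut.conj (⟨g, hg⟩ : T) := by
    ext y
    exact hgβ y
  obtain ⟨k, hk⟩ := hT ⟨g, hg⟩
  have h2 : β ^ p ^ k = 1 := by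
    rw [e, ← map_pow, hk, map_one]
  have h3 : q ∣ p ^ k := hβq ▸ orderOf_dvd_of_pow_eq_one h2
  have h4 := (Nat.prime_dvd_prime_iff_eq hq hp).mp (hq.dvd_of_dvd_pow h3)
  exact hqp h4

/-- A finite group that is not a `p`-group has an element of prime order `q ≠ p`. -/
theorem exists_prime_order_of_not_isPGroup {A : Type*} [Group A] [Finite A] {p : ℕ} [Fact p.Prime]
    (h : ¬ IsPGroup p A) : ∃ (q : ℕ) (b : A), q.Prime ∧ q ≠ p ∧ orderOf b = q := by
  have hp : p.Prime := Fact.out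
  unfold IsPGroup at h
  push_neg at h
  obtain ⟨a, ha⟩ := h
  have hn : orderOf a ≠ 0 := (orderOf_pos a).ne'
  have : ∃ q : ℕ, q.Prime ∧ q ∣ orderOf a ∧ q ≠ p := by
    by_contra hcon
    push_neg at hcon
    have h1 : ∀ q : ℕ, q.Prime → q ∣ orderOf a → q = p := hcon
    by_cases hone : orderOf a = 1
    · exact ha 0 (by rw [pow_zero, pow_one]; exact orderOf_eq_one_iff.mp hone)
    · have hpd : p ∣ orderOf a := by
        obtain ⟨r, hr, hrd⟩ := Nat.exists_prime_and_dvd hone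
        rw [← h1 r hr hrd]; exact hrd
      have := Nat.eq_prime_pow_of_unique_prime_dvd hn (fun {q} hq hqd => h1 q hq hqd)
      exact ha _ (by rw [← this]; exact pow_orderOf_eq_one a)
  obtain ⟨q, hq, hqd, hqp⟩ := this
  exact ⟨q, a ^ (orderOf a / q), hq, hqp, orderOf_pow_orderOf_div hn hqd⟩

end Cfsg.Agent.Helper25.Cyc
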