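import Mathlib
import Cfsg.Agent.Lib.Helper3.BisetExtend

/-!
# `G`-sets whose marks depend only on the order of the subgroup

For a finite group `G` and a family `TT` of subgroups closed under conjugation and under passing to
subgroups, there is a finite `G`-set `Om c` with all point stabilizers in `TT`, containing a
prescribed orbit type, and such that the number of fixed points of `E ∈ TT` only depends on the
order of `E`.
-/

set_option autoImplicit false
set_option linter.style.haveILetI false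
set_option linter.unusedSectionVars false

namespace Cfsg.Agent.Helper25.Park

open MulAction Cfsg.Agent.Helper3.Biset

universe u

section Uniform

variable {G : Type u} [Group G] [Finite G]

theorem marks_nsmul (n : ℕ) (c : Subgroup G → ℕ) (E : Subgroup G) :
    marks (n • c) E = n * marks c E := by
  classical
  haveI : Fintype (Subgroup G) := Fintype.ofFinite _
  rw [marks_eq, marks_eq, finsum_eq_sum_of_fintype, finsum_eq_sum_of_fintype, Finset.mul_sum]
  refine Finset.sum_congr rfl fun D _ => ?_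
  rw [Pi.smul_apply, smul_eq_mul, mul_assoc]

variable (TT : Set (Subgroup G))

/-- Stability of the marks of `Om c` on subgroups in `TT` of order at least `k`. -/
def UStable (c : Subgroup G → ℕ) (k : ℕ) : Prop :=
  ∀ E E' : Subgroup G, E ∈ TT → E' ∈ TT → Nat.card E = Nat.card E' → k ≤ Nat.card E →
    marks c E = marks c E'

open Classical in
/-- The multiplicities added at level `k`. -/
noncomputable def uAdd (c : Subgroup G → ℕ) (k : ℕ) (D : Subgroup G) : ℕ :=
  if D ∈ TT ∧ Nat.card D = k ∧ crep D = D then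
    (Nat.card G / StabSys.idx D) * (Nat.card (Om c) - marks c D)
  else 0

variable {TT}

theorem uAdd_ne_zero {c : Subgroup G → ℕ} {k : ℕ} {D : Subgroup G} (h : uAdd TT c k D ≠ 0) :
    D ∈ TT ∧ Nat.card D = k ∧ crep D = D := by
  classical
  by_contra hcon
  exact h (by unfold uAdd; rw [if_neg hcon])

theorem uAdd_mul_idx {c : Subgroup G → ℕ} {k : ℕ} {D : Subgroup G}
    (hD : D ∈ TT) (hk : Nat.card D = k) (hrep : crep D = D) :
    uAdd TT c k D * StabSys.idx D = Nat.card G * (Nat.card (Om c) - marks c D) := by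
  classical
  unfold uAdd
  rw [if_pos ⟨hD, hk, hrep⟩, mul_assoc, mul_comm (Nat.card (Om c) - marks c D), ← mul_assoc,
    Nat.div_mul_cancel (StabSys.idx_dvd_card D)]

theorem marks_uAdd_of_lt (c : Subgroup G → ℕ) {k : ℕ} {E : Subgroup G} (hE : k < Nat.card E) :
    marks (uAdd TT c k) E = 0 := by
  apply marks_eq_zero
  intro D hD g hle
  obtain ⟨-, hk, -⟩ := uAdd_ne_zero hD
  have h1 := Subgroup.card_le_of_le hle
  rw [card_map_conj, hk] at h1
  omega

theorem marks_uAdd_of_notMem (hconj : ∀ D ∈ TT, ∀ g : G, D.map (MulAut.conj g).toMonoidHom ∈ TT)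
    (hle : ∀ {E D : Subgroup G}, E ≤ D → D ∈ TT → E ∈ TT)
    (c : Subgroup G → ℕ) (k : ℕ) {E : Subgroup G} (hE : E ∉ TT) :
    marks (uAdd TT c k) E = 0 := by
  apply marks_eq_zero
  intro D hD g hle'
  obtain ⟨hT, -, -⟩ := uAdd_ne_zero hD
  exact hE (hle hle' (hconj D hT g))

theorem marks_uAdd_of_mem (hconj : ∀ D ∈ TT, ∀ g : G, D.map (MulAut.conj g).toMonoidHom ∈ TT)
    {c : Subgroup G → ℕ} {k : ℕ} {E : Subgroup G} (hE : E ∈ TT) (hk : Nat.card E = k) :
    marks (uAdd TT c k) E = Nat.card G * (Nat.card (Om c) - marks c E) := by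
  rw [marks_eq, finsum_eq_single _ (crep E)]
  · obtain ⟨g, hg⟩ := crep_spec E
    have hE' : E = (crep E).map (MulAut.conj g⁻¹).toMonoidHom := by
      rw [hg, map_conj_mul, inv_mul_cancel, map_conj_one]
    have hT : crep E ∈ TT := hg ▸ hconj E hE g
    have hk' : Nat.card (crep E) = k := by rw [hg, card_map_conj, hk]
    have h1 : Nat.card (fix E (G ⧸ crep E)) = StabSys.idx (crep E) := by
      have h0 : fix E (G ⧸ crep E) =
          fix ((crep E).map (MulAut.conj g⁻¹).toMonoidHom) (G ⧸ crep E) := by rw [← hE']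
      rw [h0]
      exact StabSys.card_fix_eq_idx (crep E) g⁻¹
    rw [h1, uAdd_mul_idx hT hk' (crep_crep E)]
    have h3 : marks c (crep E) = marks c E := by rw [hg, marks_conj]
    rw [h3]
  · intro D hD
    by_cases hc : uAdd TT c k D = 0
    · rw [hc, zero_mul]
    · obtain ⟨-, hkD, hrep⟩ := uAdd_ne_zero hc
      have hempty : fix E (G ⧸ D) = ∅ := by
        by_contra hne
        obtain ⟨g, hg⟩ := exists_conj_of_fix_nonempty (hk.trans hkD.symm)
          (Set.nonempty_iff_ne_empty.2 hne)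
        apply hD
        rw [hg, crep_conj, hrep]
      rw [hempty]; simp

/-- One step of the downward induction. -/
theorem ustep (hconj : ∀ D ∈ TT, ∀ g : G, D.map (MulAut.conj g).toMonoidHom ∈ TT)
    (hle : ∀ {E D : Subgroup G}, E ≤ D → D ∈ TT → E ∈ TT)
    {c : Subgroup G → ℕ} {k : ℕ} (hc : ∀ D, c D ≠ 0 → D ∈ TT) (hΦ : UStable TT c (k + 1)) :
    ∃ c' : Subgroup G → ℕ, (∀ D, c' D ≠ 0 → D ∈ TT) ∧ (∀ D, c D ≠ 0 → c' D ≠ 0) ∧
      UStable TT c' k := by
  have hpos : 0 < Nat.card G := Nat.card_pos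
  refine ⟨Nat.card G • c + uAdd TT c k, ?_, ?_, ?_⟩
  · intro D hD
    by_cases h : c D = 0
    · have : uAdd TT c k D ≠ 0 := by
        intro h0; apply hD
        rw [Pi.add_apply, Pi.smul_apply, h, h0, smul_zero]
      exact (uAdd_ne_zero this).1
    · exact hc D h
  · intro D hD
    rw [Pi.add_apply, Pi.smul_apply, smul_eq_mul]
    have : Nat.card G * c D ≠ 0 := Nat.mul_ne_zero hpos.ne' hD
    omega
  · intro E E' hE hE' hcard hk
    rw [marks_add, marks_add, marks_nsmul, marks_nsmul]
    rcases Nat.lt_or_ge k (Nat.card E) with hlt | hge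
    · rw [marks_uAdd_of_lt c hlt, marks_uAdd_of_lt c (hcard ▸ hlt), add_zero, add_zero,
        hΦ E E' hE hE' hcard hlt]
    · have hkE : Nat.card E = k := le_antisymm hge hk
      rw [marks_uAdd_of_mem hconj hE hkE, marks_uAdd_of_mem hconj hE' (hcard ▸ hkE)]
      have h1 := marks_le_card c E
      have h2 := marks_le_card c E'
      rw [← Nat.mul_add, ← Nat.mul_add, Nat.add_sub_cancel' h1, Nat.add_sub_cancel' h2]

/-- **Uniform marks.**  There is a `G`-set with point stabilizers in `TT`, containing an orbit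
of type `G ⧸ D₀`, whose marks on `TT` only depend on the order of the subgroup. -/
theorem exists_uniform (hconj : ∀ D ∈ TT, ∀ g : G, D.map (MulAut.conj g).toMonoidHom ∈ TT)
    (hle : ∀ {E D : Subgroup G}, E ≤ D → D ∈ TT → E ∈ TT) {D₀ : Subgroup G} (hD₀ : D₀ ∈ TT) :
    ∃ c : Subgroup G → ℕ, (∀ D, c D ≠ 0 → D ∈ TT) ∧ c D₀ ≠ 0 ∧
      ∀ E E' : Subgroup G, E ∈ TT → E' ∈ TT → Nat.card E = Nat.card E' →
        marks c E = marks c E' := by
  classical
  set c₀ : Subgroup G → ℕ := fun D => if D = D₀ then 1 else 0 with hc₀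
  have hc₀supp : ∀ D, c₀ D ≠ 0 → D ∈ TT := by
    intro D hD
    by_cases h : D = D₀
    · rw [h]; exact hD₀
    · exact (hD (by rw [hc₀]; simp [h])).elim
  have hc₀D₀ : c₀ D₀ ≠ 0 := by rw [hc₀]; simp
  have key : ∀ j : ℕ, j ≤ Nat.card G + 1 → ∃ c : Subgroup G → ℕ, (∀ D, c D ≠ 0 → D ∈ TT) ∧
      c D₀ ≠ 0 ∧ UStable TT c (Nat.card G + 1 - j) := by
    intro j
    induction j with
    | zero =>
      intro _
      refine ⟨c₀, hc₀supp, hc₀D₀, ?_⟩
      intro E E' _ _ _ hk
      have := Subgroup.card_le_card_group E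
      omega
    | succ j ih =>
      intro hj
      obtain ⟨c, hc1, hc2, hc3⟩ := ih (by omega)
      have e : Nat.card G + 1 - j = (Nat.card G + 1 - (j + 1)) + 1 := by omega
      rw [e] at hc3
      obtain ⟨c', h1, h2, h3⟩ := ustep hconj hle hc1 hc3
      exact ⟨c', h1, h2 D₀ hc2, h3⟩
  obtain ⟨c, h1, h2, h3⟩ := key (Nat.card G + 1) le_rfl
  rw [Nat.sub_self] at h3
  exact ⟨c, h1, h2, fun E E' hE hE' hcard => h3 E E' hE hE' hcard (Nat.zero_le _)⟩

end Uniform

end Cfsg.Agent.Helper25.Park
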