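import Mathlib
import Cfsg.Prelude.Def_FusionSystem
import Cfsg.Agent.Lib.Helper25.Fusion
import Cfsg.Agent.Lib.Helper3.BisetTwisted
import Cfsg.Agent.Lib.Helper25.UniformMarks

/-!
# Every fusion system on a finite group `T` is realized inside a finite group

The finite group is the group of permutations of a suitable `(T × T)`-set commuting with the action
of the left factor; `T` embeds via the action of the right factor.
-/

set_option autoImplicit false
set_option linter.style.haveILetI false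
set_option linter.unusedSectionVars false

namespace Cfsg.Agent.Helper25.Park

open MulAction Cfsg Cfsg.FusionSystem Cfsg.Agent.Helper25 Cfsg.Agent.Helper3.Biset

universe u

section Top

variable {T : Type u} [Group T] [Finite T] (F : FusionSystem (⊤ : Subgroup T))

/-- A `(T × T)`-set with twisted diagonal stabilizers, containing the orbit of the diagonal,
and with marks invariant under products of maps of the system. -/
theorem exists_stable : ∃ c : Subgroup (T × T) → ℕ, (∀ D, c D ≠ 0 → D ∈ TD F) ∧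
    c (graph ⊤ (⊤ : Subgroup T).subtype) ≠ 0 ∧
    ∀ E E' : Subgroup (T × T), FFConj F E E' → marks c E = marks c E' := by
  have hconj : ∀ D ∈ TD F, ∀ g : T × T, D.map (MulAut.conj g).toMonoidHom ∈ TD F :=
    fun D hD g => (FFConj.conj (F := F) D g).mem_TD hD
  have hle : ∀ {E D : Subgroup (T × T)}, E ≤ D → D ∈ TD F → E ∈ TD F :=
    fun h hD => TD_of_le h hD
  have hD₀ : graph ⊤ (⊤ : Subgroup T).subtype ∈ TD F :=
    ⟨⊤, (⊤ : Subgroup T).subtype, subtype_mem F le_rfl, rfl⟩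
  obtain ⟨c, hc1, hc2, hc3⟩ := exists_uniform hconj hle hD₀
  refine ⟨c, hc1, hc2, fun E E' h => ?_⟩
  by_cases hE : E ∈ TD F
  · exact hc3 E E' hE (h.mem_TD hE) h.card_eq
  · have hE' : E' ∉ TD F := fun h' => hE (h.mem_TD_iff.2 h')
    rw [marks_eq_zero c E fun D hD g hl => hE (hle hl (hconj D (hc1 D hD) g)),
      marks_eq_zero c E' fun D hD g hl => hE' (hle hl (hconj D (hc1 D hD) g))]

/-- The stabilizer of a point of `Om c` lies in the family containing the support of `c`. -/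
theorem exists_fix_of_smul_eq {c : Subgroup (T × T) → ℕ} (hc : ∀ D, c D ≠ 0 → D ∈ TD F)
    (y : Om c) : ∃ D ∈ TD F, ∀ k : T × T, k • y = y → k ∈ D := by
  obtain ⟨⟨D, j⟩, x⟩ := y
  have hcD : c D ≠ 0 := by
    intro h0
    rw [h0] at j
    exact j.elim0
  obtain ⟨g, rfl⟩ := QuotientGroup.mk_surjective x
  refine ⟨D.map (MulAut.conj g).toMonoidHom, (FFConj.conj (F := F) D g).mem_TD (hc D hcD),
    fun k hk => ?_⟩
  have h' : (⟨⟨D, j⟩, k • (g : (T × T) ⧸ D)⟩ :
      Σ i : (Σ D : Subgroup (T × T), Fin (c D)), (T × T) ⧸ i.1) = ⟨⟨D, j⟩, ↑g⟩ := hk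
  have h1 : k • (g : (T × T) ⧸ D) = (g : (T × T) ⧸ D) := by
    have := Sigma.mk.inj_iff.1 h'
    exact eq_of_heq this.2
  rw [MulAction.Quotient.smul_coe, QuotientGroup.eq] at h1
  refine ⟨g⁻¹ * k * g, ?_, ?_⟩
  · have h2 := D.inv_mem h1
    simpa [mul_assoc] using h2
  · simp [mul_assoc]

/-- **Park's theorem on the top subgroup.** -/
theorem park_top : ∃ (G : Type u) (_ : Group G) (_ : Finite G) (ι : T →* G),
    Function.Injective ι ∧ ∀ (P : Subgroup T) (φ : P →* T),
      φ ∈ F.Hom P ↔ ∃ g : G, ∀ x : P, ι (φ x) = g * ι x * g⁻¹ := by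
  classical
  obtain ⟨c, hc1, hc2, hc3⟩ := exists_stable F
  set Δ : Subgroup (T × T) := graph ⊤ (⊤ : Subgroup T).subtype with hΔ
  -- the two actions of `T`
  set L : T →* Equiv.Perm (Om c) :=
    (MulAction.toPermHom (T × T) (Om c)).comp (MonoidHom.inl T T) with hL
  set R : T →* Equiv.Perm (Om c) :=
    (MulAction.toPermHom (T × T) (Om c)).comp (MonoidHom.inr T T) with hR
  have hLx : ∀ (a : T) (x : Om c), L a x = ((a, (1 : T)) : T × T) • x := fun a x => rfl
  have hRx : ∀ (b : T) (x : Om c), R b x = (((1 : T), b) : T × T) • x := fun b x => rfl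
  set G : Subgroup (Equiv.Perm (Om c)) := Subgroup.centralizer (Set.range L) with hG
  have hRG : ∀ b : T, R b ∈ G := by
    intro b
    rw [hG, Subgroup.mem_centralizer_iff]
    rintro _ ⟨a, rfl⟩
    ext x
    rw [Equiv.Perm.mul_apply, Equiv.Perm.mul_apply, hLx, hRx, hLx, hRx, smul_smul, smul_smul]
    congr 1
    simp
  set ι : T →* G := R.codRestrict G hRG with hι
  have hιx : ∀ (b : T) (x : Om c), ((ι b : G) : Equiv.Perm (Om c)) x = (((1 : T), b) : T × T) • x :=
    fun b x => rfl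
  -- the base point
  have hpos : 0 < c Δ := Nat.pos_of_ne_zero hc2
  set x₀ : Om c := ⟨⟨Δ, ⟨0, hpos⟩⟩, ((1 : T × T) : (T × T) ⧸ Δ)⟩ with hx₀
  have hx₀fix : ∀ k : T × T, k ∈ Δ → k • x₀ = x₀ := by
    intro k hk
    show (⟨⟨Δ, ⟨0, hpos⟩⟩, k • ((1 : T × T) : (T × T) ⧸ Δ)⟩ : Om c) = x₀
    rw [hx₀]
    congr 1
    rw [MulAction.Quotient.smul_coe, QuotientGroup.eq]
    simpa using Δ.inv_mem hk
  have hx₀stab : ∀ k : T × T, k • x₀ = x₀ → k ∈ Δ := by
    intro k hk
    have h' : (⟨⟨Δ, ⟨0, hpos⟩⟩, k • ((1 : T × T) : (T × T) ⧸ Δ)⟩ :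
        Σ i : (Σ D : Subgroup (T × T), Fin (c D)), (T × T) ⧸ i.1) =
        ⟨⟨Δ, ⟨0, hpos⟩⟩, ((1 : T × T) : (T × T) ⧸ Δ)⟩ := hk
    have h1 : k • ((1 : T × T) : (T × T) ⧸ Δ) = ((1 : T × T) : (T × T) ⧸ Δ) := by
      have := Sigma.mk.inj_iff.1 h'
      exact eq_of_heq this.2
    rw [MulAction.Quotient.smul_coe, QuotientGroup.eq] at h1
    have h2 := Δ.inv_mem h1
    simpa using h2
  have hdiag : ∀ u : T, ((u, u) : T × T) ∈ Δ := by
    intro u
    rw [hΔ, mem_graph]
    exact ⟨Subgroup.mem_top u, rfl⟩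
  refine ⟨G, inferInstance, inferInstance, ι, ?_, fun P φ => ⟨fun hφ => ?_, ?_⟩⟩
  · -- injectivity
    rw [injective_iff_map_eq_one]
    intro b hb
    have h1 : (((1 : T), b) : T × T) • x₀ = x₀ := by
      rw [← hιx, hb]; rfl
    have h2 := hx₀stab _ h1
    rw [hΔ, mem_graph] at h2
    obtain ⟨_, h3⟩ := h2
    exact h3.symm
  · -- maps of the system are induced by `G`
    set ι₁ : T × ↥P →* T × T := (MonoidHom.id T).prodMap P.subtype with hι₁
    set ι₂ : T × ↥P →* T × T := (MonoidHom.id T).prodMap φ with hι₂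
    have hmarks : ∀ H : Subgroup (T × ↥P), Nat.card (fix H (Pull ι₁ (Om c))) =
        Nat.card (fix H (Pull ι₂ (Om c))) := by
      intro H
      rw [card_fix_pull, card_fix_pull]
      refine hc3 _ _ ⟨⊤, P, (⊤ : Subgroup T).subtype, φ, subtype_mem F le_rfl, hφ, ?_, ?_⟩
      · rintro _ ⟨h, -, rfl⟩
        exact Subgroup.mem_prod.2 ⟨Subgroup.mem_top _, h.2.2⟩
      · ext x'
        rw [mem_ffimg]
        constructor
        · rintro ⟨h, hh, rfl⟩
          exact ⟨ι₁ h, ⟨h, hh, rfl⟩, Subgroup.mem_top _, h.2.2, rfl, rfl⟩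
        · rintro ⟨_, ⟨h, hh, rfl⟩, h₁, h₂, e₁, e₂⟩
          exact ⟨h, hh, Prod.ext e₁ e₂⟩
    obtain ⟨f, hf⟩ := exists_equiv_of_marks hmarks
    obtain ⟨g, hf'⟩ : ∃ g : Equiv.Perm (Om c), ∀ (a : T) (u : P) (x : Om c),
        g (((a, (u : T)) : T × T) • x) = ((a, φ u) : T × T) • g x :=
      ⟨f, fun a u x => hf (a, u) x⟩
    have hgG : g ∈ G := by
      rw [hG, Subgroup.mem_centralizer_iff]
      rintro _ ⟨a, rfl⟩
      ext x
      rw [Equiv.Perm.mul_apply, Equiv.Perm.mul_apply, hLx, hLx]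
      have := hf' a 1 x
      rw [map_one] at this
      exact this.symm
    refine ⟨⟨g, hgG⟩, fun u => ?_⟩
    rw [eq_mul_inv_iff_mul_eq]
    apply Subtype.ext
    ext x
    show ((ι (φ u) : G) : Equiv.Perm (Om c)) (g x) = g (((ι u : G) : Equiv.Perm (Om c)) x)
    rw [hιx, hιx]
    exact (hf' 1 u x).symm
  · -- maps induced by `G` belong to the system
    rintro ⟨⟨g, hgG⟩, hg⟩
    rw [hG, Subgroup.mem_centralizer_iff] at hgG
    obtain ⟨D, hD, hDstab⟩ := exists_fix_of_smul_eq F hc1 (g x₀)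
    obtain ⟨Q, χ, hχ, rfl⟩ := hD
    have hmem : ∀ u : P, (((u : T), φ u) : T × T) ∈ graph Q χ := by
      intro u
      apply hDstab
      have h1 := hg u
      rw [eq_mul_inv_iff_mul_eq] at h1
      have h2 : ((ι (φ u) : G) : Equiv.Perm (Om c)) (g x₀) =
          g (((ι u : G) : Equiv.Perm (Om c)) x₀) := by
        have := congrArg (fun z : G => (z : Equiv.Perm (Om c)) x₀) h1
        exact this
      rw [hιx, hιx] at h2
      have h3 : (((1 : T), (u : T)) : T × T) • x₀ = (((u : T)⁻¹, (1 : T)) : T × T) • x₀ := by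
        have h4 : (((1 : T), (u : T)) : T × T) =
            (((u : T)⁻¹, (1 : T)) : T × T) * (((u : T), (u : T)) : T × T) := by
          simp
        rw [h4, mul_smul, hx₀fix _ (hdiag u)]
      have h5 : g ((((u : T)⁻¹, (1 : T)) : T × T) • x₀) =
          (((u : T)⁻¹, (1 : T)) : T × T) • g x₀ := by
        have := hgG (L (u : T)⁻¹) ⟨_, rfl⟩
        have h6 := congrArg (fun z : Equiv.Perm (Om c) => z x₀) this
        exact h6.symm
      rw [h3, h5] at h2
      have h7 : (((u : T), φ u) : T × T) =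
          (((u : T), (1 : T)) : T × T) * (((1 : T), φ u) : T × T) := by simp
      rw [h7, mul_smul, h2, smul_smul]
      have h8 : (((u : T), (1 : T)) : T × T) * (((u : T)⁻¹, (1 : T)) : T × T) = 1 := by
        simp
      rw [h8, one_smul]
    have hPQ : P ≤ Q := fun u hu => (mem_graph.1 (hmem ⟨u, hu⟩)).1
    have hres := restrict_mem F hPQ hχ
    have : φ = χ.comp (Subgroup.inclusion hPQ) := by
      ext u
      obtain ⟨h, he⟩ := mem_graph.1 (hmem u)
      exact he.symm
    rw [this]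
    exact hres

end Top

end Cfsg.Agent.Helper25.Park
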