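import Mathlib
import Cfsg.Prelude.Def_FusionComponents
import Cfsg.Agent.Lib.Helper25.Fusion
import Cfsg.Agent.Lib.Helper25.FusionRecept
import Cfsg.Agent.Lib.Helper25.FusionSat
import Cfsg.Agent.Lib.Helper25.FusionSat2

/-!
# Direct products of fusion systems: receptive subgroups
-/

set_option autoImplicit false
set_option linter.style.haveILetI false
set_option linter.unusedSectionVars false

namespace Cfsg.Agent.Helper25.ProdSat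

open Cfsg Cfsg.FusionSystem Cfsg.Agent.Helper25

variable {Ω₁ Ω₂ : Type*} [Group Ω₁] [Group Ω₂] {S₁ : Subgroup Ω₁} {S₂ : Subgroup Ω₂}

theorem fst_mem {P : Subgroup (Ω₁ × Ω₂)} {x : Ω₁ × Ω₂} (hx : x ∈ P) :
    x.1 ∈ P.map (MonoidHom.fst Ω₁ Ω₂) := ⟨x, hx, rfl⟩

theorem snd_mem {P : Subgroup (Ω₁ × Ω₂)} {x : Ω₁ × Ω₂} (hx : x ∈ P) :
    x.2 ∈ P.map (MonoidHom.snd Ω₁ Ω₂) := ⟨x, hx, rfl⟩

/-- The restriction to `P` of the product of two homomorphisms defined on the projections. -/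
def prodRes (P : Subgroup (Ω₁ × Ω₂)) (φ₁ : ↥(P.map (MonoidHom.fst Ω₁ Ω₂)) →* Ω₁)
    (φ₂ : ↥(P.map (MonoidHom.snd Ω₁ Ω₂)) →* Ω₂) : P →* Ω₁ × Ω₂ :=
  (φ₁.comp ((MonoidHom.fst Ω₁ Ω₂).subgroupMap P)).prod
    (φ₂.comp ((MonoidHom.snd Ω₁ Ω₂).subgroupMap P))

theorem prodRes_apply (P : Subgroup (Ω₁ × Ω₂)) (φ₁ : ↥(P.map (MonoidHom.fst Ω₁ Ω₂)) →* Ω₁)
    (φ₂ : ↥(P.map (MonoidHom.snd Ω₁ Ω₂)) →* Ω₂) (x : P) :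
    prodRes P φ₁ φ₂ x = (φ₁ ⟨(x : Ω₁ × Ω₂).1, fst_mem x.2⟩, φ₂ ⟨(x : Ω₁ × Ω₂).2, snd_mem x.2⟩) :=
  rfl

variable {F₁ : FusionSystem S₁} {F₂ : FusionSystem S₂} {E : FusionSystem (S₁.prod S₂)}

theorem mem_hom_iff (hE : IsProductSystem F₁ F₂ E) {P : Subgroup (Ω₁ × Ω₂)}
    {φ : P →* Ω₁ × Ω₂} : φ ∈ E.Hom P ↔ P ≤ S₁.prod S₂ ∧
      ∃ φ₁ ∈ F₁.Hom (P.map (MonoidHom.fst Ω₁ Ω₂)), ∃ φ₂ ∈ F₂.Hom (P.map (MonoidHom.snd Ω₁ Ω₂)),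
        φ = prodRes P φ₁ φ₂ := by
  rw [hE P φ]
  constructor
  · rintro ⟨hP, φ₁, hφ₁, φ₂, hφ₂, h⟩
    refine ⟨hP, φ₁, hφ₁, φ₂, hφ₂, ?_⟩
    ext x
    · rw [h x (fst_mem x.2) (snd_mem x.2)]; rfl
    · rw [h x (fst_mem x.2) (snd_mem x.2)]; rfl
  · rintro ⟨hP, φ₁, hφ₁, φ₂, hφ₂, rfl⟩
    exact ⟨hP, φ₁, hφ₁, φ₂, hφ₂, fun x h₁ h₂ => rfl⟩

theorem map_fst_le {P : Subgroup (Ω₁ × Ω₂)} (hP : P ≤ S₁.prod S₂) :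
    P.map (MonoidHom.fst Ω₁ Ω₂) ≤ S₁ := by
  rintro _ ⟨x, hx, rfl⟩
  exact (Subgroup.mem_prod.mp (hP hx)).1

theorem map_snd_le {P : Subgroup (Ω₁ × Ω₂)} (hP : P ≤ S₁.prod S₂) :
    P.map (MonoidHom.snd Ω₁ Ω₂) ≤ S₂ := by
  rintro _ ⟨x, hx, rfl⟩
  exact (Subgroup.mem_prod.mp (hP hx)).2

/-- The range of the first component. -/
theorem range_fst {P : Subgroup (Ω₁ × Ω₂)} (φ₁ : ↥(P.map (MonoidHom.fst Ω₁ Ω₂)) →* Ω₁)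
    (φ₂ : ↥(P.map (MonoidHom.snd Ω₁ Ω₂)) →* Ω₂) :
    (prodRes P φ₁ φ₂).range.map (MonoidHom.fst Ω₁ Ω₂) = φ₁.range := by
  ext y
  constructor
  · rintro ⟨_, ⟨x, rfl⟩, rfl⟩
    exact ⟨_, rfl⟩
  · rintro ⟨⟨_, x, hx, rfl⟩, rfl⟩
    exact ⟨_, ⟨⟨x, hx⟩, rfl⟩, rfl⟩

theorem range_snd {P : Subgroup (Ω₁ × Ω₂)} (φ₁ : ↥(P.map (MonoidHom.fst Ω₁ Ω₂)) →* Ω₁)
    (φ₂ : ↥(P.map (MonoidHom.snd Ω₁ Ω₂)) →* Ω₂) :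
    (prodRes P φ₁ φ₂).range.map (MonoidHom.snd Ω₁ Ω₂) = φ₂.range := by
  ext y
  constructor
  · rintro ⟨_, ⟨x, rfl⟩, rfl⟩
    exact ⟨_, rfl⟩
  · rintro ⟨⟨_, x, hx, rfl⟩, rfl⟩
    exact ⟨_, ⟨⟨x, hx⟩, rfl⟩, rfl⟩

/-- The projection of the extender lies in the extender of the component. -/
theorem map_fst_extender_le {P : Subgroup (Ω₁ × Ω₂)}
    (φ₁ : ↥(P.map (MonoidHom.fst Ω₁ Ω₂)) →* Ω₁) (φ₂ : ↥(P.map (MonoidHom.snd Ω₁ Ω₂)) →* Ω₂) :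
    (extender (S₁.prod S₂) P (prodRes P φ₁ φ₂)).map (MonoidHom.fst Ω₁ Ω₂) ≤
      extender S₁ (P.map (MonoidHom.fst Ω₁ Ω₂)) φ₁ := by
  rintro _ ⟨g, hg, rfl⟩
  obtain ⟨hgS, hgN, h, hhS, hh⟩ := (mem_extender_iff _ g).mp hg
  have hgP : ∀ x ∈ P, g * x * g⁻¹ ∈ P := fun x hx => (Subgroup.mem_normalizer_iff.mp hgN x).mp hx
  have hgP' : ∀ x ∈ P, g⁻¹ * x * g ∈ P := fun x hx => by
    have := (Subgroup.mem_normalizer_iff.mp (Subgroup.inv_mem _ hgN) x).mp hx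
    simpa using this
  rw [mem_extender_iff]
  refine ⟨(Subgroup.mem_prod.mp hgS).1, ?_, h.1, (Subgroup.mem_prod.mp hhS).1, ?_⟩
  · apply mem_normalizer_of_forall
    · rintro _ ⟨x, hx, rfl⟩
      exact ⟨g * x * g⁻¹, hgP x hx, rfl⟩
    · rintro _ ⟨x, hx, rfl⟩
      exact ⟨g⁻¹ * x * g, hgP' x hx, rfl⟩
  · rintro ⟨_, x, hx, rfl⟩ hy
    have h1 := hh ⟨x, hx⟩ (hgP x hx)
    rw [prodRes_apply, prodRes_apply] at h1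
    have h2 := congrArg Prod.fst h1
    exact h2

theorem map_snd_extender_le {P : Subgroup (Ω₁ × Ω₂)}
    (φ₁ : ↥(P.map (MonoidHom.fst Ω₁ Ω₂)) →* Ω₁) (φ₂ : ↥(P.map (MonoidHom.snd Ω₁ Ω₂)) →* Ω₂) :
    (extender (S₁.prod S₂) P (prodRes P φ₁ φ₂)).map (MonoidHom.snd Ω₁ Ω₂) ≤
      extender S₂ (P.map (MonoidHom.snd Ω₁ Ω₂)) φ₂ := by
  rintro _ ⟨g, hg, rfl⟩
  obtain ⟨hgS, hgN, h, hhS, hh⟩ := (mem_extender_iff _ g).mp hg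
  have hgP : ∀ x ∈ P, g * x * g⁻¹ ∈ P := fun x hx => (Subgroup.mem_normalizer_iff.mp hgN x).mp hx
  have hgP' : ∀ x ∈ P, g⁻¹ * x * g ∈ P := fun x hx => by
    have := (Subgroup.mem_normalizer_iff.mp (Subgroup.inv_mem _ hgN) x).mp hx
    simpa using this
  rw [mem_extender_iff]
  refine ⟨(Subgroup.mem_prod.mp hgS).2, ?_, h.2, (Subgroup.mem_prod.mp hhS).2, ?_⟩
  · apply mem_normalizer_of_forall
    · rintro _ ⟨x, hx, rfl⟩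
      exact ⟨g * x * g⁻¹, hgP x hx, rfl⟩
    · rintro _ ⟨x, hx, rfl⟩
      exact ⟨g⁻¹ * x * g, hgP' x hx, rfl⟩
  · rintro ⟨_, x, hx, rfl⟩ hy
    have h1 := hh ⟨x, hx⟩ (hgP x hx)
    rw [prodRes_apply, prodRes_apply] at h1
    have h2 := congrArg Prod.snd h1
    exact h2

/-- **Receptivity in a product.**  A subgroup whose projections are receptive is receptive. -/
theorem isReceptive_of_proj (hE : IsProductSystem F₁ F₂ E) {Q : Subgroup (Ω₁ × Ω₂)}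
    (hQ : Q ≤ S₁.prod S₂) (h₁ : F₁.IsReceptive (Q.map (MonoidHom.fst Ω₁ Ω₂)))
    (h₂ : F₂.IsReceptive (Q.map (MonoidHom.snd Ω₁ Ω₂))) : E.IsReceptive Q := by
  refine ⟨hQ, fun P φ hφ hrange => ?_⟩
  obtain ⟨hP, φ₁, hφ₁, φ₂, hφ₂, rfl⟩ := (mem_hom_iff hE).mp hφ
  have hr₁ : φ₁.range = Q.map (MonoidHom.fst Ω₁ Ω₂) := by rw [← hrange, range_fst]
  have hr₂ : φ₂.range = Q.map (MonoidHom.snd Ω₁ Ω₂) := by rw [← hrange, range_snd]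
  obtain ⟨ψ₁, hψ₁, hext₁⟩ := h₁.2 _ φ₁ hφ₁ hr₁
  obtain ⟨ψ₂, hψ₂, hext₂⟩ := h₂.2 _ φ₂ hφ₂ hr₂
  set N := extender (S₁.prod S₂) P (prodRes P φ₁ φ₂) with hN
  have hle₁ := map_fst_extender_le (S₁ := S₁) (S₂ := S₂) φ₁ φ₂
  have hle₂ := map_snd_extender_le (S₁ := S₁) (S₂ := S₂) φ₁ φ₂
  refine ⟨prodRes N (ψ₁.comp (Subgroup.inclusion hle₁)) (ψ₂.comp (Subgroup.inclusion hle₂)),
    (mem_hom_iff hE).mpr ⟨extender_le _ _, _, restrict_mem F₁ hle₁ hψ₁, _,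
      restrict_mem F₂ hle₂ hψ₂, rfl⟩, fun x hxP hxN => ?_⟩
  rw [prodRes_apply, prodRes_apply]
  apply Prod.ext
  · exact hext₁ x.1 (fst_mem hxP) (hle₁ (fst_mem hxN))
  · exact hext₂ x.2 (snd_mem hxP) (hle₂ (snd_mem hxN))

end Cfsg.Agent.Helper25.ProdSat
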