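import Mathlib
import Cfsg.Prelude.Def_FusionComponents
import Cfsg.Agent.Lib.Helper25.FusionProdSat
import Cfsg.Agent.Lib.Helper25.FusionProduct2

/-!
# Direct products of fusion systems: fully normalized subgroups are receptive
-/

set_option autoImplicit false
set_option linter.style.haveILetI false
set_option linter.unusedSectionVars false

namespace Cfsg.Agent.Helper25.ProdSat

open Cfsg Cfsg.FusionSystem Cfsg.Agent.Helper25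

variable {Ω₁ Ω₂ : Type*} [Group Ω₁] [Group Ω₂] {S₁ : Subgroup Ω₁} {S₂ : Subgroup Ω₂}

instance finite_prod [Finite S₁] [Finite S₂] : Finite ↥(S₁.prod S₂) :=
  Finite.of_equiv _ (Subgroup.prodEquiv S₁ S₂).symm.toEquiv

theorem map_fst_normalizerIn_le {P : Subgroup (Ω₁ × Ω₂)} :
    (normalizerIn (S₁.prod S₂) P).map (MonoidHom.fst Ω₁ Ω₂) ≤
      normalizerIn S₁ (P.map (MonoidHom.fst Ω₁ Ω₂)) := by
  rintro _ ⟨g, hg, rfl⟩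
  obtain ⟨hgS, hgN⟩ := mem_normalizerIn.mp hg
  have hgP : ∀ x ∈ P, g * x * g⁻¹ ∈ P := fun x hx => (Subgroup.mem_normalizer_iff.mp hgN x).mp hx
  have hgP' : ∀ x ∈ P, g⁻¹ * x * g ∈ P := fun x hx => by
    have := (Subgroup.mem_normalizer_iff.mp (Subgroup.inv_mem _ hgN) x).mp hx
    simpa using this
  rw [mem_normalizerIn]
  refine ⟨(Subgroup.mem_prod.mp hgS).1, ?_⟩
  apply mem_normalizer_of_forall
  · rintro _ ⟨x, hx, rfl⟩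
    exact ⟨g * x * g⁻¹, hgP x hx, rfl⟩
  · rintro _ ⟨x, hx, rfl⟩
    exact ⟨g⁻¹ * x * g, hgP' x hx, rfl⟩

theorem map_snd_normalizerIn_le {P : Subgroup (Ω₁ × Ω₂)} :
    (normalizerIn (S₁.prod S₂) P).map (MonoidHom.snd Ω₁ Ω₂) ≤
      normalizerIn S₂ (P.map (MonoidHom.snd Ω₁ Ω₂)) := by
  rintro _ ⟨g, hg, rfl⟩
  obtain ⟨hgS, hgN⟩ := mem_normalizerIn.mp hg
  have hgP : ∀ x ∈ P, g * x * g⁻¹ ∈ P := fun x hx => (Subgroup.mem_normalizer_iff.mp hgN x).mp hx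
  have hgP' : ∀ x ∈ P, g⁻¹ * x * g ∈ P := fun x hx => by
    have := (Subgroup.mem_normalizer_iff.mp (Subgroup.inv_mem _ hgN) x).mp hx
    simpa using this
  rw [mem_normalizerIn]
  refine ⟨(Subgroup.mem_prod.mp hgS).2, ?_⟩
  apply mem_normalizer_of_forall
  · rintro _ ⟨x, hx, rfl⟩
    exact ⟨g * x * g⁻¹, hgP x hx, rfl⟩
  · rintro _ ⟨x, hx, rfl⟩
    exact ⟨g⁻¹ * x * g, hgP' x hx, rfl⟩

variable {F₁ : FusionSystem S₁} {F₂ : FusionSystem S₂} {E : FusionSystem (S₁.prod S₂)}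

/-- The main step: for `P` fully normalized in the product, if `ψᵢ : N_{Sᵢ}(Pᵢ) → N_{Sᵢ}(Qᵢ)` are
maps of the factors carrying `Pᵢ` onto `Qᵢ`, then `C_{S₁}(Q₁) ≤ ψ₁(C_{S₁}(P₁))`. -/
theorem centralizerIn_le_map_of_fullyNormalized [Finite S₁] [Finite S₂]
    (hE : IsProductSystem F₁ F₂ E) {P : Subgroup (Ω₁ × Ω₂)} (hP : E.IsFullyNormalized P)
    {Q₁ : Subgroup Ω₁} {Q₂ : Subgroup Ω₂}
    {ψ₁ : ↥(normalizerIn S₁ (P.map (MonoidHom.fst Ω₁ Ω₂))) →* Ω₁}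
    (hψ₁ : ψ₁ ∈ F₁.Hom (normalizerIn S₁ (P.map (MonoidHom.fst Ω₁ Ω₂))))
    (hψ₁img : ((P.map (MonoidHom.fst Ω₁ Ω₂)).subgroupOf
      (normalizerIn S₁ (P.map (MonoidHom.fst Ω₁ Ω₂)))).map ψ₁ = Q₁)
    {ψ₂ : ↥(normalizerIn S₂ (P.map (MonoidHom.snd Ω₁ Ω₂))) →* Ω₂}
    (hψ₂ : ψ₂ ∈ F₂.Hom (normalizerIn S₂ (P.map (MonoidHom.snd Ω₁ Ω₂))))
    (hψ₂img : ((P.map (MonoidHom.snd Ω₁ Ω₂)).subgroupOf
      (normalizerIn S₂ (P.map (MonoidHom.snd Ω₁ Ω₂)))).map ψ₂ = Q₂) :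
    centralizerIn S₁ Q₁ ≤ ((centralizerIn S₁ (P.map (MonoidHom.fst Ω₁ Ω₂))).subgroupOf
      (normalizerIn S₁ (P.map (MonoidHom.fst Ω₁ Ω₂)))).map ψ₁ := by
  have hPS : P ≤ S₁.prod S₂ := hP.1
  have hP₁S : P.map (MonoidHom.fst Ω₁ Ω₂) ≤ S₁ := map_fst_le hPS
  have hP₂S : P.map (MonoidHom.snd Ω₁ Ω₂) ≤ S₂ := map_snd_le hPS
  set N := normalizerIn (S₁.prod S₂) P with hN
  have hN₁ : N.map (MonoidHom.fst Ω₁ Ω₂) ≤ normalizerIn S₁ (P.map (MonoidHom.fst Ω₁ Ω₂)) := map_fst_normalizerIn_le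
  have hN₂ : N.map (MonoidHom.snd Ω₁ Ω₂) ≤ normalizerIn S₂ (P.map (MonoidHom.snd Ω₁ Ω₂)) := map_snd_normalizerIn_le
  set ψ := prodRes N (ψ₁.comp (Subgroup.inclusion hN₁)) (ψ₂.comp (Subgroup.inclusion hN₂)) with hψdef
  have hNS : N ≤ S₁.prod S₂ := normalizerIn_le
  have hψ : ψ ∈ E.Hom N := (mem_hom_iff hE).mpr ⟨hNS, _, restrict_mem F₁ hN₁ hψ₁, _,
    restrict_mem F₂ hN₂ hψ₂, rfl⟩
  have hψapply : ∀ n : N, ψ n = (ψ₁ ⟨(n : Ω₁ × Ω₂).1, hN₁ (fst_mem n.2)⟩,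
      ψ₂ ⟨(n : Ω₁ × Ω₂).2, hN₂ (snd_mem n.2)⟩) := fun n => rfl
  have hPN : P ≤ N := le_normalizerIn hPS
  set P' := (P.subgroupOf N).map ψ with hP'
  have hconj : E.IsConj P P' :=
    ⟨ψ.comp (Subgroup.inclusion hPN), restrict_mem E hPN hψ, range_comp_inclusion hPN ψ⟩
  have hcard := hP.2 P' hconj
  have hψinj := E.injective_of_mem hψ
  have hψS := (E.le_of_mem hψ).2
  -- elements of P' have first coordinate in Q₁
  have hP'1 : ∀ y ∈ P', y.1 ∈ Q₁ := by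
    rintro _ ⟨n, hn, rfl⟩
    rw [hψapply, ← hψ₁img]
    exact ⟨_, Subgroup.mem_subgroupOf.mpr (fst_mem (Subgroup.mem_subgroupOf.mp hn)), rfl⟩
  -- the image of N normalizes P'
  have hrange : ψ.range ≤ normalizerIn (S₁.prod S₂) P' := by
    rintro _ ⟨n, rfl⟩
    rw [mem_normalizerIn]
    refine ⟨hψS n, ?_⟩
    have hnN : (n : Ω₁ × Ω₂) ∈ Subgroup.normalizer (P : Set (Ω₁ × Ω₂)) := (mem_normalizerIn.mp n.2).2
    apply mem_normalizer_of_forall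
    · rintro _ ⟨x, hx, rfl⟩
      have hx' : (x : Ω₁ × Ω₂) ∈ P := Subgroup.mem_subgroupOf.mp hx
      have h1 : (n : Ω₁ × Ω₂) * x * (n : Ω₁ × Ω₂)⁻¹ ∈ P :=
        (Subgroup.mem_normalizer_iff.mp hnN x).mp hx'
      refine ⟨n * x * n⁻¹, Subgroup.mem_subgroupOf.mpr h1, ?_⟩
      rw [map_mul, map_mul, map_inv]
    · rintro _ ⟨x, hx, rfl⟩
      have hx' : (x : Ω₁ × Ω₂) ∈ P := Subgroup.mem_subgroupOf.mp hx
      have h1 : (n : Ω₁ × Ω₂)⁻¹ * x * (n : Ω₁ × Ω₂) ∈ P := by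
        have := (Subgroup.mem_normalizer_iff.mp (Subgroup.inv_mem _ hnN) x).mp hx'
        simpa using this
      refine ⟨n⁻¹ * x * n, Subgroup.mem_subgroupOf.mpr h1, ?_⟩
      rw [map_mul, map_mul, map_inv]
  haveI : Finite ↥(normalizerIn (S₁.prod S₂) P') := finite_of_le_finite normalizerIn_le
  have hrange_eq : ψ.range = normalizerIn (S₁.prod S₂) P' := by
    apply Subgroup.eq_of_le_of_card_ge hrange
    rw [← Nat.card_congr (MonoidHom.ofInjective hψinj).toEquiv]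
    exact hcard
  -- now the main claim
  intro d hd
  obtain ⟨hdS, hdc⟩ := mem_centralizerIn.mp hd
  have hmem : ((d, 1) : Ω₁ × Ω₂) ∈ normalizerIn (S₁.prod S₂) P' := by
    rw [mem_normalizerIn]
    refine ⟨Subgroup.mem_prod.mpr ⟨hdS, S₂.one_mem⟩, ?_⟩
    have hcomm : ∀ y ∈ P', ((d, 1) : Ω₁ × Ω₂) * y * ((d, 1) : Ω₁ × Ω₂)⁻¹ = y := by
      intro y hy
      have h1 := hdc y.1 (hP'1 y hy)
      apply Prod.ext
      · show d * y.1 * d⁻¹ = y.1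
        rw [← h1, mul_inv_cancel_right]
      · show 1 * y.2 * 1⁻¹ = y.2
        simp
    apply mem_normalizer_of_forall
    · intro y hy; rw [hcomm y hy]; exact hy
    · intro y hy
      have h2 : ((d, 1) : Ω₁ × Ω₂)⁻¹ * y * ((d, 1) : Ω₁ × Ω₂) = y := by
        have := hcomm y hy
        calc ((d, 1) : Ω₁ × Ω₂)⁻¹ * y * ((d, 1) : Ω₁ × Ω₂)
            = ((d, 1) : Ω₁ × Ω₂)⁻¹ * (((d, 1) : Ω₁ × Ω₂) * y * ((d, 1) : Ω₁ × Ω₂)⁻¹) *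
              ((d, 1) : Ω₁ × Ω₂) := by rw [this]
          _ = y := by group
      rw [h2]; exact hy
  rw [← hrange_eq] at hmem
  obtain ⟨n, hn⟩ := hmem
  rw [hψapply] at hn
  have hn1 : ψ₁ ⟨(n : Ω₁ × Ω₂).1, hN₁ (fst_mem n.2)⟩ = d := congrArg Prod.fst hn
  refine ⟨⟨(n : Ω₁ × Ω₂).1, hN₁ (fst_mem n.2)⟩, ?_, hn1⟩
  rw [SetLike.mem_coe, Subgroup.mem_subgroupOf, mem_centralizerIn]
  refine ⟨(Subgroup.mem_prod.mp (hNS n.2)).1, fun y hy => ?_⟩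
  have hyN : y ∈ normalizerIn S₁ (P.map (MonoidHom.fst Ω₁ Ω₂)) := le_normalizerIn hP₁S hy
  have hψ₁inj := F₁.injective_of_mem hψ₁
  have hψy : ψ₁ ⟨y, hyN⟩ ∈ Q₁ := by
    rw [← hψ₁img]
    exact ⟨_, Subgroup.mem_subgroupOf.mpr hy, rfl⟩
  have h1 := hdc _ hψy
  rw [← hn1] at h1
  have h2 : ψ₁ (⟨y, hyN⟩ * ⟨(n : Ω₁ × Ω₂).1, hN₁ (fst_mem n.2)⟩) =
      ψ₁ (⟨(n : Ω₁ × Ω₂).1, hN₁ (fst_mem n.2)⟩ * ⟨y, hyN⟩) := by
    rw [map_mul, map_mul]; exact h1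
  have h3 := hψ₁inj h2
  exact congrArg Subtype.val h3

end Cfsg.Agent.Helper25.ProdSat
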