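import Mathlib
import Cfsg.Prelude.Def_FusionComponents
import Cfsg.Agent.Lib.Helper25.FusionProdSat3
import Cfsg.Agent.Lib.Helper25.FusionProduct3
import Cfsg.Agent.Lib.Helper25.FusionRS
import Cfsg.Agent.Lib.Helper25.KNorm3

/-!
# Direct products of fusion systems: the Sylow group is fully automized
-/

set_option autoImplicit false
set_option linter.style.haveILetI false
set_option linter.unusedSectionVars false

namespace Cfsg.Agent.Helper25.ProdSat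

open Cfsg Cfsg.FusionSystem Cfsg.Agent.Helper25

section generic

variable {G₁ G₂ : Type*} [Group G₁] [Group G₂]

theorem isPGroup_prod {p : ℕ} {A₁ : Subgroup G₁} {A₂ : Subgroup G₂} (h₁ : IsPGroup p A₁)
    (h₂ : IsPGroup p A₂) : IsPGroup p ↥(A₁.prod A₂) := by
  rintro ⟨⟨a, b⟩, hab⟩
  obtain ⟨ha, hb⟩ := Subgroup.mem_prod.mp hab
  obtain ⟨n, hn⟩ := h₁ ⟨a, ha⟩
  obtain ⟨m, hm⟩ := h₂ ⟨b, hb⟩
  have hn' : a ^ p ^ n = 1 := by simpa using congrArg Subtype.val hn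
  have hm' : b ^ p ^ m = 1 := by simpa using congrArg Subtype.val hm
  refine ⟨n + m, ?_⟩
  apply Subtype.ext
  show ((a, b) : G₁ × G₂) ^ p ^ (n + m) = 1
  apply Prod.ext
  · show a ^ p ^ (n + m) = 1
    rw [pow_add, pow_mul, hn', one_pow]
  · show b ^ p ^ (n + m) = 1
    rw [pow_add, mul_comm, pow_mul, hm', one_pow]

/-- A product of Sylow subgroups is a Sylow subgroup of the product. -/
theorem isSylowIn_prod {p : ℕ} {A₁ K₁ : Subgroup G₁} {A₂ K₂ : Subgroup G₂}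
    (h₁ : IsSylowIn p A₁ K₁) (h₂ : IsSylowIn p A₂ K₂) :
    IsSylowIn p (A₁.prod A₂) (K₁.prod K₂) := by
  refine ⟨Subgroup.prod_mono h₁.1 h₂.1, isPGroup_prod h₁.2.1 h₂.2.1, fun L hLK hL hAL => ?_⟩
  have e₁ : L.map (MonoidHom.fst G₁ G₂) = A₁ := by
    apply h₁.2.2
    · rintro _ ⟨x, hx, rfl⟩
      exact (Subgroup.mem_prod.mp (hLK hx)).1
    · exact hL.map _
    · intro a ha
      exact ⟨(a, 1), hAL (Subgroup.mem_prod.mpr ⟨ha, A₂.one_mem⟩), rfl⟩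
  have e₂ : L.map (MonoidHom.snd G₁ G₂) = A₂ := by
    apply h₂.2.2
    · rintro _ ⟨x, hx, rfl⟩
      exact (Subgroup.mem_prod.mp (hLK hx)).2
    · exact hL.map _
    · intro a ha
      exact ⟨(1, a), hAL (Subgroup.mem_prod.mpr ⟨A₁.one_mem, ha⟩), rfl⟩
  apply le_antisymm _ hAL
  intro x hx
  rw [Subgroup.mem_prod, ← e₁, ← e₂]
  exact ⟨⟨x, hx, rfl⟩, ⟨x, hx, rfl⟩⟩

end generic

variable {Ω₁ Ω₂ : Type*} [Group Ω₁] [Group Ω₂] {S₁ : Subgroup Ω₁} {S₂ : Subgroup Ω₂}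

/-- The product of two automorphisms, as an automorphism of `S₁ × S₂ ≤ Ω₁ × Ω₂`. -/
def autProd (S₁ : Subgroup Ω₁) (S₂ : Subgroup Ω₂) :
    MulAut S₁ × MulAut S₂ →* MulAut ↥(S₁.prod S₂) where
  toFun ab := ((Subgroup.prodEquiv S₁ S₂).trans (MulEquiv.prodCongr ab.1 ab.2)).trans
    (Subgroup.prodEquiv S₁ S₂).symm
  map_one' := by
    ext x <;> rfl
  map_mul' a b := by
    ext x <;> rfl

theorem autProd_apply_fst (a : MulAut S₁) (b : MulAut S₂) (x : ↥(S₁.prod S₂)) :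
    ((autProd S₁ S₂ (a, b) x : ↥(S₁.prod S₂)) : Ω₁ × Ω₂).1 =
      a ⟨(x : Ω₁ × Ω₂).1, (Subgroup.mem_prod.mp x.2).1⟩ := rfl

theorem autProd_apply_snd (a : MulAut S₁) (b : MulAut S₂) (x : ↥(S₁.prod S₂)) :
    ((autProd S₁ S₂ (a, b) x : ↥(S₁.prod S₂)) : Ω₁ × Ω₂).2 =
      b ⟨(x : Ω₁ × Ω₂).2, (Subgroup.mem_prod.mp x.2).2⟩ := rfl

theorem map_fst_prod_self : (S₁.prod S₂).map (MonoidHom.fst Ω₁ Ω₂) = S₁ := by
  apply le_antisymm (map_fst_le le_rfl)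
  intro a ha
  exact ⟨(a, 1), Subgroup.mem_prod.mpr ⟨ha, S₂.one_mem⟩, rfl⟩

theorem map_snd_prod_self : (S₁.prod S₂).map (MonoidHom.snd Ω₁ Ω₂) = S₂ := by
  apply le_antisymm (map_snd_le le_rfl)
  intro a ha
  exact ⟨(1, a), Subgroup.mem_prod.mpr ⟨S₁.one_mem, ha⟩, rfl⟩

/-- `Aut_S(S)` for the product. -/
theorem map_autProd_autInducedBy :
    ((autInducedBy S₁ S₁).prod (autInducedBy S₂ S₂)).map (autProd S₁ S₂) =
      autInducedBy (S₁.prod S₂) (S₁.prod S₂) := by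
  ext α
  rw [mem_autInducedBy_iff]
  constructor
  · rintro ⟨⟨a, b⟩, hab, rfl⟩
    obtain ⟨ha, hb⟩ := Subgroup.mem_prod.mp hab
    obtain ⟨g₁, hg₁, h1⟩ := (mem_autInducedBy_iff a).mp ha
    obtain ⟨g₂, hg₂, h2⟩ := (mem_autInducedBy_iff b).mp hb
    refine ⟨(g₁, g₂), Subgroup.mem_prod.mpr ⟨hg₁, hg₂⟩, fun x => ?_⟩
    apply Prod.ext
    · rw [autProd_apply_fst, h1]; rfl
    · rw [autProd_apply_snd, h2]; rfl
  · rintro ⟨⟨g₁, g₂⟩, hg, h⟩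
    obtain ⟨hg₁, hg₂⟩ := Subgroup.mem_prod.mp hg
    refine ⟨(MulAut.conj ⟨g₁, hg₁⟩, MulAut.conj ⟨g₂, hg₂⟩), Subgroup.mem_prod.mpr ⟨?_, ?_⟩, ?_⟩
    · exact (mem_autInducedBy_iff _).mpr ⟨g₁, hg₁, fun x => rfl⟩
    · exact (mem_autInducedBy_iff _).mpr ⟨g₂, hg₂, fun x => rfl⟩
    · ext x
      · rw [autProd_apply_fst, h x]; rfl
      · rw [autProd_apply_snd, h x]; rfl

variable {F₁ : FusionSystem S₁} {F₂ : FusionSystem S₂} {E : FusionSystem (S₁.prod S₂)}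

/-- `Aut_E(S)` for the product. -/
theorem map_autProd_autGroup [Finite S₁] [Finite S₂] (hE : IsProductSystem F₁ F₂ E) :
    ((F₁.autGroup S₁).prod (F₂.autGroup S₂)).map (autProd S₁ S₂) = E.autGroup (S₁.prod S₂) := by
  ext α
  rw [mem_autGroup_iff E le_rfl, mem_hom_iff hE]
  constructor
  · rintro ⟨⟨a, b⟩, hab, rfl⟩
    obtain ⟨ha, hb⟩ := Subgroup.mem_prod.mp hab
    have ha' := (mem_autGroup_iff F₁ le_rfl a).mp ha
    have hb' := (mem_autGroup_iff F₂ le_rfl b).mp hb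
    refine ⟨le_rfl, _, restrict_mem F₁ (map_fst_le le_rfl) ha', _,
      restrict_mem F₂ (map_snd_le le_rfl) hb', ?_⟩
    ext x
    · rfl
    · rfl
  · rintro ⟨-, φ₁, hφ₁, φ₂, hφ₂, h⟩
    have hle₁ : S₁ ≤ (S₁.prod S₂).map (MonoidHom.fst Ω₁ Ω₂) := map_fst_prod_self.ge
    have hle₂ : S₂ ≤ (S₁.prod S₂).map (MonoidHom.snd Ω₁ Ω₂) := map_snd_prod_self.ge
    have h1 := restrict_mem F₁ hle₁ hφ₁
    have h2 := restrict_mem F₂ hle₂ hφ₂
    obtain ⟨β₁, hβ₁, hβ₁x⟩ := exists_aut_of_hom F₁ h1 (fun x => (F₁.le_of_mem h1).2 x)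
    obtain ⟨β₂, hβ₂, hβ₂x⟩ := exists_aut_of_hom F₂ h2 (fun x => (F₂.le_of_mem h2).2 x)
    refine ⟨(β₁, β₂), Subgroup.mem_prod.mpr ⟨hβ₁, hβ₂⟩, ?_⟩
    have hx : ∀ x : ↥(S₁.prod S₂), ((α x : ↥(S₁.prod S₂)) : Ω₁ × Ω₂) =
        prodRes (S₁.prod S₂) φ₁ φ₂ x := fun x => by rw [← h]; rfl
    ext x
    · rw [autProd_apply_fst, hβ₁x, hx, prodRes_apply]; rfl
    · rw [autProd_apply_snd, hβ₂x, hx, prodRes_apply]; rfl

/-- In a product of saturated fusion systems, the Sylow group is fully automized. -/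
theorem isFullyAutomized_prod [Finite S₁] [Finite S₂] (p : ℕ) [Fact p.Prime]
    (hF₁ : F₁.IsSaturated p) (hF₂ : F₂.IsSaturated p) (hE : IsProductSystem F₁ F₂ E) :
    E.IsFullyAutomized p (S₁.prod S₂) := by
  rw [isFullyAutomized_iff E p le_rfl]
  have s₁ := (isFullyAutomized_iff F₁ p le_rfl).mp (isFullyAutomized_self p F₁ hF₁)
  have s₂ := (isFullyAutomized_iff F₂ p le_rfl).mp (isFullyAutomized_self p F₂ hF₂)
  have := (isSylowIn_prod s₁ s₂).map_hom (autProd S₁ S₂)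
  rwa [map_autProd_autInducedBy, map_autProd_autGroup hE] at this

end Cfsg.Agent.Helper25.ProdSat
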