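import Mathlib
import Cfsg.Agent.Lib.Helper25.Mono3c

/-!
# The simplicity criterion for `G ⧸ Z(G)` when `Z(G)` is a `p`-group
-/

set_option autoImplicit false
set_option linter.style.haveILetI false
set_option linter.unusedSectionVars false

namespace Cfsg.Agent.Helper25.SimpCrit

open Cfsg Cfsg.FusionSystem Cfsg.Agent.Helper25

variable {G : Type*} [Group G]

/-- no fusion-closed subgroup strictly between the centre and `S` -/
def NoClosedAbove (S : Subgroup G) : Prop :=
  ∀ T : Subgroup G, Subgroup.center G ≤ T → T ≤ S → T ≠ Subgroup.center G → FusClosed S T → T = S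

/-- good generators modulo the centre -/
def GoodQ (p : ℕ) (S : Subgroup G) : Set G :=
  {x | x ∈ S ∨ (x ∈ Subgroup.normalizer (S : Set G) ∧ ∃ R : Subgroup G,
    Subgroup.center G ≤ R ∧ R ≤ S ∧
    (∀ g : G, (∀ a ∈ R, g * a * g⁻¹ * a⁻¹ ∈ Subgroup.center G) → g ∈ R) ∧
    x ∈ Subgroup.closure {y | y ∈ Subgroup.normalizer (R : Set G) ∧ ∃ k : ℕ, y ^ p ^ k = 1})}

local notation "π" => QuotientGroup.mk' (Subgroup.center G)

theorem mem_of_mk_mem_map {S : Subgroup G} (hZS : Subgroup.center G ≤ S) {x : G}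
    (hx : (π) x ∈ S.map (π)) : x ∈ S := by
  obtain ⟨y, hy, hyx⟩ := hx
  have hz : y⁻¹ * x ∈ Subgroup.center G := QuotientGroup.eq.mp hyx
  have : x = y * (y⁻¹ * x) := by group
  rw [this]
  exact S.mul_mem hy (hZS hz)

theorem noClosed_map_mk_above {S : Subgroup G} (hZS : Subgroup.center G ≤ S)
    (h : NoClosedAbove S) : NoClosed (S.map (π)) := by
  intro T hTS hTne hTc
  have key : S ⊓ T.comap (π) = S := by
    apply h _ _ inf_le_left
    · intro hbot
      apply hTne
      rw [eq_bot_iff]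
      intro t ht
      obtain ⟨u, hu, rfl⟩ := hTS ht
      have : u ∈ S ⊓ T.comap (π) := ⟨hu, ht⟩
      rw [hbot] at this
      rw [Subgroup.mem_bot]
      exact (QuotientGroup.eq_one_iff u).mpr this
    · intro x hx g hg
      refine ⟨hg, ?_⟩
      show (π) (g * x * g⁻¹) ∈ T
      rw [map_mul, map_mul, map_inv]
      apply hTc _ hx.2
      rw [← map_inv, ← map_mul, ← map_mul]
      exact ⟨_, hg, rfl⟩
    · intro z hz
      refine ⟨hZS hz, ?_⟩
      show (π) z ∈ T
      have : (π) z = 1 := (QuotientGroup.eq_one_iff z).mpr hz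
      rw [this]
      exact T.one_mem
  apply le_antisymm hTS
  rw [Subgroup.map_le_iff_le_comap, ← key]
  exact inf_le_right

theorem mem_normalizer_of_mk_above {S : Subgroup G} (hZS : Subgroup.center G ≤ S) {g : G}
    (hg : (π) g ∈ Subgroup.normalizer ((S.map (π) : Subgroup _) : Set _)) :
    g ∈ Subgroup.normalizer (S : Set G) := by
  rw [Subgroup.mem_normalizer_iff]
  intro u
  constructor
  · intro hu
    apply mem_of_mk_mem_map hZS
    rw [map_mul, map_mul, map_inv]
    exact (Subgroup.mem_normalizer_iff.mp hg _).mp ⟨u, hu, rfl⟩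
  · intro hu
    apply mem_of_mk_mem_map hZS
    have h1 : (π) g * (π) u * ((π) g)⁻¹ ∈ S.map (π) := by
      rw [← map_inv, ← map_mul, ← map_mul]
      exact ⟨_, hu, rfl⟩
    exact (Subgroup.mem_normalizer_iff.mp hg _).mpr h1

theorem mk_goodQ {p : ℕ} {S : Subgroup G} {x : G} (hx : x ∈ GoodQ p S) :
    (π) x ∈ GoodGen p (S.map (π)) := by
  rcases hx with hx | ⟨hxN, R, hZR, hRS, hcent, hxc⟩
  · exact Or.inl ⟨x, hx, rfl⟩
  · right
    refine ⟨mk_mem_normalizer hxN, R.map (π), Subgroup.map_mono hRS, ?_, ?_⟩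
    · intro gbar hgbar
      obtain ⟨g, rfl⟩ := QuotientGroup.mk'_surjective (Subgroup.center G) gbar
      refine ⟨g, hcent g (fun a ha => ?_), rfl⟩
      have h1 : (π) a * (π) g = (π) g * (π) a :=
        Subgroup.mem_centralizer_iff.mp hgbar _ ⟨a, ha, rfl⟩
      apply (QuotientGroup.eq_one_iff _).mp
      show (π) (g * a * g⁻¹ * a⁻¹) = 1
      rw [map_mul, map_mul, map_mul, map_inv, map_inv, ← h1]
      group
    · have hle : Subgroup.closure {y | y ∈ Subgroup.normalizer (R : Set G) ∧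
            ∃ k : ℕ, y ^ p ^ k = 1} ≤
          (Subgroup.closure {y | y ∈ Subgroup.normalizer
            ((R.map (π) : Subgroup _) : Set _) ∧ ∃ k : ℕ, y ^ p ^ k = 1}).comap (π) := by
        rw [Subgroup.closure_le]
        rintro y ⟨hy1, k, hy2⟩
        apply Subgroup.subset_closure
        refine ⟨mk_mem_normalizer hy1, k, ?_⟩
        rw [← map_pow, hy2, map_one]
      exact hle hxc

theorem autGen_map_mk_above {p : ℕ} {S : Subgroup G} (hZS : Subgroup.center G ≤ S)
    (h : Subgroup.normalizer (S : Set G) ≤ Subgroup.closure (GoodQ p S)) :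
    AutGen p (S.map (π)) := by
  intro gbar hgbar
  obtain ⟨g, rfl⟩ := QuotientGroup.mk'_surjective (Subgroup.center G) gbar
  have hgc := h (mem_normalizer_of_mk_above hZS hgbar)
  have hle : Subgroup.closure (GoodQ p S) ≤
      (Subgroup.closure (GoodGen p (S.map (π)))).comap (π) := by
    rw [Subgroup.closure_le]
    intro x hx
    exact Subgroup.subset_closure (mk_goodQ hx)
  exact hle hgc

/-- **The criterion for `G ⧸ Z(G)` with `Z(G) ≤ S`.** -/
theorem isSimple_of_central_quotient_above [Finite G] (p : ℕ) [Fact p.Prime] (U : Sylow p G)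
    (hZS : Subgroup.center G ≤ (U : Subgroup G))
    (hU1 : ∃ x ∈ (U : Subgroup G), x ∉ Subgroup.center G)
    (h1 : NoClosedAbove (U : Subgroup G))
    (h2 : Subgroup.normalizer ((U : Subgroup G) : Set G) ≤
      Subgroup.closure (GoodQ p (U : Subgroup G)))
    (S : Sylow p (G ⧸ Subgroup.center G)) :
    (groupFusionSystem (S : Subgroup (G ⧸ Subgroup.center G))).IsSimple p := by
  have hcoe : ((U.mapSurjective (QuotientGroup.mk'_surjective (Subgroup.center G)) : Sylow p _) :
      Subgroup (G ⧸ Subgroup.center G)) = (U : Subgroup G).map (π) := rfl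
  apply isSimple_of_data p (U.mapSurjective (QuotientGroup.mk'_surjective (Subgroup.center G)))
  · rw [hcoe]
    intro hbot
    obtain ⟨x, hx, hxZ⟩ := hU1
    apply hxZ
    have : (π) x ∈ (U : Subgroup G).map (π) := ⟨x, hx, rfl⟩
    rw [hbot, Subgroup.mem_bot] at this
    exact (QuotientGroup.eq_one_iff x).mp this
  · rw [hcoe]; exact noClosed_map_mk_above hZS h1
  · rw [hcoe]; exact autGen_map_mk_above hZS h2

/-- a subgroup strictly above the centre, normalised by the `p`-group `S`, contains a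
non-central element which is central modulo the centre -/
theorem exists_central_mod [Finite G] (p : ℕ) [Fact p.Prime] {S T : Subgroup G}
    (hS : IsPGroup p S) (hZT : Subgroup.center G ≤ T) (hTS : T ≤ S)
    (hne : T ≠ Subgroup.center G) (hnorm : ∀ x ∈ T, ∀ u ∈ S, u * x * u⁻¹ ∈ T) :
    ∃ x ∈ T, x ∉ Subgroup.center G ∧ ∀ s ∈ S, x * s * x⁻¹ * s⁻¹ ∈ Subgroup.center G := by
  -- work in the image of `S`
  set Sb : Subgroup (G ⧸ Subgroup.center G) := S.map (π) with hSb
  set Tb : Subgroup (G ⧸ Subgroup.center G) := T.map (π) with hTb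
  have hSbp : IsPGroup p Sb := hS.map (π)
  haveI : ((Tb.subgroupOf Sb)).Normal := by
    constructor
    rintro ⟨n, hnS⟩ hn ⟨g, hgS⟩
    show g * n * g⁻¹ ∈ Tb
    obtain ⟨x, hx, rfl⟩ := (hn : n ∈ Tb)
    obtain ⟨u, hu, rfl⟩ := hgS
    rw [← map_inv, ← map_mul, ← map_mul]
    exact ⟨_, hnorm x hx u hu, rfl⟩
  have hne' : Tb.subgroupOf Sb ≠ ⊥ := by
    intro hbot
    apply hne
    apply le_antisymm _ hZT
    intro x hx
    have h1 : (⟨(π) x, ⟨x, hTS hx, rfl⟩⟩ : Sb) ∈ Tb.subgroupOf Sb := ⟨x, hx, rfl⟩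
    rw [hbot, Subgroup.mem_bot] at h1
    have h2 : (π) x = 1 := congrArg Subtype.val h1
    exact (QuotientGroup.eq_one_iff x).mp h2
  have h1 := Cfsg.Agent.Helper19.normal_inf_center_ne_bot hSbp (Tb.subgroupOf Sb) hne'
  obtain ⟨⟨⟨v, hvS⟩, hv⟩, hv1⟩ := (Subgroup.ne_bot_iff_exists_ne_one).mp h1
  obtain ⟨hvT, hvZ⟩ := hv
  obtain ⟨x, hx, hxv'⟩ := (hvT : v ∈ Tb)
  have hxv : (π) x = v := hxv'
  refine ⟨x, hx, ?_, ?_⟩
  · intro hxZ
    apply hv1
    apply Subtype.ext
    apply Subtype.ext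
    show v = 1
    rw [← hxv]
    exact (QuotientGroup.eq_one_iff x).mpr hxZ
  · intro s hs
    apply (QuotientGroup.eq_one_iff _).mp
    show (π) (x * s * x⁻¹ * s⁻¹) = 1
    have h3 := (Subgroup.mem_center_iff.mp hvZ) ⟨(π) s, ⟨s, hs, rfl⟩⟩
    have h4 : (π) s * v = v * (π) s := congrArg Subtype.val h3
    rw [map_mul, map_mul, map_mul, map_inv, map_inv, hxv, ← h4]
    group

end Cfsg.Agent.Helper25.SimpCrit
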