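import Mathlib
import Cfsg.Prelude.Def_Solvable
import Cfsg.Agent.Lib.Helper21.GAG39Defs

/-!
# S4839 piece G39-IDX: `index_eq_card`
-/

set_option autoImplicit false
set_option linter.unusedSectionVars false
set_option linter.unusedVariables false

namespace Cfsg.Agent.Helper21.GAG39

open Cfsg
open scoped Pointwise

variable {G : Type*} [Group G] [Finite G] {p : ℕ} [Fact p.Prime] (N : Subgroup G) [N.Normal]

/-- PIECE G39-IDX [L0]. -/
theorem index_eq_card (C : Subgroup G) (hNC : ∀ g : G, ∃ v ∈ N, ∃ c ∈ C, g = v * c)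
    (hint : N ⊓ C = ⊥) : N.index = Nat.card C := by
  have hcompl : Subgroup.IsComplement' N C := by
    apply Subgroup.isComplement'_of_disjoint_and_mul_eq_univ
    · exact disjoint_iff.2 hint
    · rw [Set.eq_univ_iff_forall]
      intro g
      obtain ⟨v, hv, c, hc, rfl⟩ := hNC g
      exact Set.mul_mem_mul hv hc
  exact hcompl.symm.index_eq_card

end Cfsg.Agent.Helper21.GAG39
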