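import Mathlib
import Cfsg.Agent.Lib.Helper8.GRDefs
import Cfsg.Agent.Lib.Helper1.GRDECOMP

/-!
# S3085 piece GR-CENTCARD (helper25): the centralizer of a noncommuting pair has index at most 4.
-/

set_option autoImplicit false
set_option linter.unusedVariables false

namespace Cfsg.Agent.Helper8.GR

open Cfsg.Agent.Helper8.XS

/-- aux: a finite set covered by four translates of a finite set `T` has at most `4 |T|` elements -/
theorem centcard_cover {Q : Type*} [Group Q] [DecidableEq Q] (S : Set Q) (T : Finset Q) (u₁ u₂ u₃ u₄ : Q)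
    (hS : ∀ x ∈ S, x * u₁ ∈ T ∨ x * u₂ ∈ T ∨ x * u₃ ∈ T ∨ x * u₄ ∈ T) : S.ncard ≤ 4 * T.card := by
  have hsub : S ⊆ ↑(T.image (fun t => t * u₁⁻¹) ∪ T.image (fun t => t * u₂⁻¹) ∪
      T.image (fun t => t * u₃⁻¹) ∪ T.image (fun t => t * u₄⁻¹)) := by
    intro x hx
    rw [Finset.mem_coe]
    simp only [Finset.mem_union, Finset.mem_image]
    rcases hS x hx with h | h | h | h
    · exact Or.inl (Or.inl (Or.inl ⟨x * u₁, h, by group⟩))
    · exact Or.inl (Or.inl (Or.inr ⟨x * u₂, h, by group⟩))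
    · exact Or.inl (Or.inr ⟨x * u₃, h, by group⟩)
    · exact Or.inr ⟨x * u₄, h, by group⟩
  have h1 := Set.ncard_le_ncard hsub (Finset.finite_toSet _)
  rw [Set.ncard_coe_finset] at h1
  have h2 : (T.image (fun t => t * u₁⁻¹) ∪ T.image (fun t => t * u₂⁻¹) ∪
      T.image (fun t => t * u₃⁻¹) ∪ T.image (fun t => t * u₄⁻¹)).card ≤
      T.card + T.card + T.card + T.card := by
    refine (Finset.card_union_le _ _).trans ?_
    refine Nat.add_le_add ?_ Finset.card_image_le
    refine (Finset.card_union_le _ _).trans ?_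
    refine Nat.add_le_add ?_ Finset.card_image_le
    refine (Finset.card_union_le _ _).trans ?_
    exact Nat.add_le_add Finset.card_image_le Finset.card_image_le
  omega

/-! ### PIECE GR-CENTCARD : index of that centralizer is at most 4 -/
theorem centcard {Q : Type*} [Group Q] [Finite Q] {z : Q} (C : Subgroup Q) (h : XSp C z)
    (a b : Q) (ha : a ∈ C) (hb : b ∈ C) (hab : a * b ≠ b * a) :
    Nat.card C ≤ 4 * Nat.card ↥(C ⊓ Subgroup.centralizer ({a, b} : Set Q)) := by
  classical
  haveI : Fintype Q := Fintype.ofFinite Q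
  set D : Subgroup Q := C ⊓ Subgroup.centralizer ({a, b} : Set Q) with hD
  have hfin : (D : Set Q).Finite := Set.toFinite _
  set T : Finset Q := hfin.toFinset with hT
  have hTmem : ∀ x, x ∈ T ↔ x ∈ D := by
    intro x
    rw [hT, Set.Finite.mem_toFinset]
    rfl
  have hTcard : T.card = Nat.card D := by
    have e1 : Nat.card D = (D : Set Q).ncard := Nat.card_coe_set_eq (D : Set Q)
    have e2 : (T : Set Q).ncard = T.card := Set.ncard_coe_finset T
    have e3 : (T : Set Q) = (D : Set Q) := by rw [hT, Set.Finite.coe_toFinset]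
    rw [e1, ← e2, e3]
  have hcov : ∀ x ∈ (C : Set Q), x * 1 ∈ T ∨ x * a ∈ T ∨ x * b ∈ T ∨ x * (a * b) ∈ T := by
    intro x hx
    obtain ⟨u, hu, hxu⟩ := decomp C h a b ha hb hab x hx
    rcases hu with rfl | rfl | rfl | rfl
    · exact Or.inl ((hTmem _).2 hxu)
    · exact Or.inr (Or.inl ((hTmem _).2 hxu))
    · exact Or.inr (Or.inr (Or.inl ((hTmem _).2 hxu)))
    · exact Or.inr (Or.inr (Or.inr ((hTmem _).2 hxu)))
  have h1 := centcard_cover (C : Set Q) T 1 a b (a * b) hcov
  rw [hTcard] at h1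
  calc Nat.card C = (C : Set Q).ncard := Nat.card_coe_set_eq (C : Set Q)
    _ ≤ _ := h1

end Cfsg.Agent.Helper8.GR
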