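import Mathlib
import Cfsg.Agent.Lib.Helper25.FusionNormal

set_option autoImplicit false

namespace Cfsg.Agent.Helper25
namespace GroupAux

open scoped commutatorElement

variable {G : Type*} [Group G]

theorem commute_sup_right {P Q : Subgroup G} {x : G} (hP : ∀ p ∈ P, x * p = p * x)
    (hQ : ∀ q ∈ Q, x * q = q * x) : ∀ y ∈ P ⊔ Q, x * y = y * x := by
  intro y hy
  refine sup_induction (Q := P) (R := Q) (C := fun y => x * y = y * x) hP hQ ?_ hy
  intro a b _ _ ha hb
  rw [← mul_assoc, ha, mul_assoc, hb, mul_assoc]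

theorem commute_sup_sup {P Q R T : Subgroup G} (h1 : ∀ p ∈ P, ∀ r ∈ R, p * r = r * p)
    (h2 : ∀ p ∈ P, ∀ t ∈ T, p * t = t * p) (h3 : ∀ q ∈ Q, ∀ r ∈ R, q * r = r * q)
    (h4 : ∀ q ∈ Q, ∀ t ∈ T, q * t = t * q) :
    ∀ x ∈ P ⊔ Q, ∀ y ∈ R ⊔ T, x * y = y * x := by
  intro x hx y hy
  have key : ∀ y ∈ R ⊔ T, ∀ x ∈ P ⊔ Q, y * x = x * y := by
    intro y hy
    apply commute_sup_right
    · intro p hp
      exact (commute_sup_right (h1 p hp) (h2 p hp) y hy).symm
    · intro q hq
      exact (commute_sup_right (h3 q hq) (h4 q hq) y hy).symm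
  exact (key y hy x hx).symm

/-- every element of `closure U` normalizes `Z` if the generators (and inverses) do -/
theorem conj_mem_of_gens {Z : Subgroup G} {U : Set G}
    (hZ : ∀ u ∈ U, ∀ z ∈ Z, u * z * u⁻¹ ∈ Z ∧ u⁻¹ * z * u ∈ Z) :
    ∀ g ∈ Subgroup.closure U, ∀ z ∈ Z, g * z * g⁻¹ ∈ Z ∧ g⁻¹ * z * g ∈ Z := by
  intro g hg
  induction hg using Subgroup.closure_induction with
  | mem u hu => exact hZ u hu
  | one => intro z hz; simpa using hz
  | mul a b _ _ ha hb =>
    intro z hz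
    constructor
    · have h1 := (hb z hz).1
      have h2 := (ha _ h1).1
      have e : a * b * z * (a * b)⁻¹ = a * (b * z * b⁻¹) * a⁻¹ := by group
      rw [e]; exact h2
    · have h1 := (ha z hz).2
      have h2 := (hb _ h1).2
      have e : (a * b)⁻¹ * z * (a * b) = b⁻¹ * (a⁻¹ * z * a) * b := by group
      rw [e]; exact h2
  | inv a _ ha =>
    intro z hz
    constructor
    · have := (ha z hz).2
      simpa using this
    · have := (ha z hz).1
      simpa using this

/-- commutators of generators in a normalized subgroup `Z` ⇒ all commutators in `Z` -/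
theorem commutator_mem_of_gens {Z : Subgroup G} {T U : Set G}
    (hZ : ∀ u ∈ U, ∀ z ∈ Z, u * z * u⁻¹ ∈ Z ∧ u⁻¹ * z * u ∈ Z)
    (hT : T ⊆ Subgroup.closure U)
    (h : ∀ t ∈ T, ∀ u ∈ U, ⁅t, u⁆ ∈ Z) :
    ∀ x ∈ Subgroup.closure T, ∀ g ∈ Subgroup.closure U, ⁅x, g⁆ ∈ Z := by
  have hn := conj_mem_of_gens hZ
  have step1 : ∀ t ∈ T, ∀ g ∈ Subgroup.closure U, ⁅t, g⁆ ∈ Z := by
    intro t ht g hg
    induction hg using Subgroup.closure_induction with
    | mem u hu => exact h t ht u hu
    | one => simp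
    | mul a b ha _ iha ihb =>
      rw [commutatorElement_mul_right_eq_mul_conj]
      have := (hn a ha _ ihb).1
      have e : ⁅t, a⁆ * a * ⁅t, b⁆ * a⁻¹ = ⁅t, a⁆ * (a * ⁅t, b⁆ * a⁻¹) := by group
      rw [e]
      exact Z.mul_mem iha this
    | inv a ha iha =>
      rw [commutatorElement_inv_right]
      have h1 : ⁅a, t⁆ ∈ Z := by rw [← commutatorElement_inv]; exact Z.inv_mem iha
      exact (hn a ha _ h1).2
  intro x hx
  induction hx using Subgroup.closure_induction with
  | mem t ht => exact step1 t ht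
  | one => intro g _; simp
  | mul a b ha _ iha ihb =>
    intro g hg
    rw [commutatorElement_mul_left_eq_conj_mul]
    have ha' : a ∈ Subgroup.closure U := (Subgroup.closure_le _).2 hT ha
    exact Z.mul_mem (hn a ha' _ (ihb g hg)).1 (iha g hg)
  | inv a ha iha =>
    intro g hg
    rw [commutatorElement_inv_left]
    have ha' : a ∈ Subgroup.closure U := (Subgroup.closure_le _).2 hT ha
    have h1 : ⁅g, a⁆ ∈ Z := by rw [← commutatorElement_inv]; exact Z.inv_mem (iha g hg)
    exact (hn a ha' _ h1).2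

/-- Nilpotency of a subgroup from a descending series of subgroups of the ambient group. -/
theorem isNilpotent_of_series {R : Subgroup G} (K : ℕ → Subgroup G) (n : ℕ) (h0 : R ≤ K 0)
    (hn : K n = ⊥)
    (hstep : ∀ i, ∀ x ∈ K i, x ∈ R → ∀ g ∈ R, ⁅x, g⁆ ∈ K (i + 1)) : Group.IsNilpotent R := by
  rw [Subgroup.nilpotent_iff_finite_descending_central_series]
  refine ⟨n, fun i => (K i).subgroupOf R, ⟨?_, ?_⟩, ?_⟩
  · rw [eq_top_iff]
    intro x _
    rw [Subgroup.mem_subgroupOf]
    exact h0 x.2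
  · intro x i hx g
    rw [Subgroup.mem_subgroupOf] at hx ⊢
    have := hstep i x hx x.2 g g.2
    simpa [commutatorElement_def] using this
  · show (K n).subgroupOf R = ⊥
    rw [hn]
    exact Subgroup.bot_subgroupOf R

end GroupAux
end Cfsg.Agent.Helper25
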