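import Mathlib

/-!
# Involutions acting on groups of odd order (helper25)

`exists_sylow_fixed`: an involutory automorphism of a finite group of odd order fixes a Sylow
`p`-subgroup.  `exists_inv_sylow`: version inside an ambient group.  `exists_inv_sylow_ge`:
every invariant `p`-subgroup lies in an invariant Sylow `p`-subgroup.
-/

set_option autoImplicit false

namespace Cfsg.Agent.Helper25.InvOdd

open scoped Pointwise

theorem exists_sylow_fixed {N : Type*} [Group N] [Finite N] (hodd : Odd (Nat.card N))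
    (φ : MulAut N) (hφ : φ * φ = 1) (p : ℕ) [Fact p.Prime] :
    ∃ Q : Sylow p N, ∀ x ∈ Q, φ x ∈ Q := by
  classical
  haveI : Fintype (Sylow p N) := Fintype.ofFinite _
  have hcard : ¬ 2 ∣ Fintype.card (Sylow p N) := by
    obtain ⟨P⟩ : Nonempty (Sylow p N) := inferInstance
    have h1 : Nat.card (Sylow p N) ∣ (P : Subgroup N).index := Sylow.card_dvd_index P
    have h2 : (P : Subgroup N).index ∣ Nat.card N := Subgroup.index_dvd_card _
    rw [← Nat.card_eq_fintype_card]
    intro h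
    exact (Nat.not_even_iff_odd.mpr hodd) (even_iff_two_dvd.mpr (h.trans (h1.trans h2)))
  haveI : Fact (Nat.Prime 2) := ⟨Nat.prime_two⟩
  obtain ⟨Q, hQ⟩ := Equiv.Perm.exists_fixed_point_of_prime (p := 2) (n := 1) hcard
    (σ := MulAction.toPerm φ) (by
      ext Q : 1
      simp only [pow_one, pow_two, Equiv.Perm.coe_mul, Function.comp_apply, MulAction.toPerm_apply,
        Equiv.Perm.coe_one, id_eq]
      rw [← mul_smul, hφ, one_smul])
  refine ⟨Q, fun x hx => ?_⟩
  have h1 : φ • Q = Q := hQ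
  have h2 : φ • x ∈ φ • (Q : Subgroup N) := Subgroup.smul_mem_pointwise_smul x φ Q hx
  rw [← Sylow.pointwise_smul_def, h1] at h2
  exact h2

/-- conjugation by an involution `d` normalizing `H`, as an automorphism of `H`. -/
def conjAut {G : Type*} [Group G] {d : G} (hd : d * d = 1) (H : Subgroup G)
    (hH : ∀ x ∈ H, d * x * d⁻¹ ∈ H) : MulAut H where
  toFun x := ⟨d * x * d⁻¹, hH x x.2⟩
  invFun x := ⟨d * x * d⁻¹, hH x x.2⟩
  left_inv x := by
    apply Subtype.ext
    show d * (d * (x : G) * d⁻¹) * d⁻¹ = x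
    rw [show d * (d * (x : G) * d⁻¹) * d⁻¹ = (d * d) * x * (d * d)⁻¹ by group, hd]; simp
  right_inv x := by
    apply Subtype.ext
    show d * (d * (x : G) * d⁻¹) * d⁻¹ = x
    rw [show d * (d * (x : G) * d⁻¹) * d⁻¹ = (d * d) * x * (d * d)⁻¹ by group, hd]; simp
  map_mul' x y := by
    apply Subtype.ext
    show d * ((x : G) * y) * d⁻¹ = (d * x * d⁻¹) * (d * y * d⁻¹)
    group

theorem conjAut_apply {G : Type*} [Group G] {d : G} (hd : d * d = 1) (H : Subgroup G)
    (hH : ∀ x ∈ H, d * x * d⁻¹ ∈ H) (x : H) : ((conjAut hd H hH x : H) : G) = d * x * d⁻¹ := rfl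

theorem exists_inv_sylow {G : Type*} [Group G] [Finite G] {d : G} (hd : d * d = 1)
    (H : Subgroup G) (hH : ∀ x ∈ H, d * x * d⁻¹ ∈ H) (hodd : Odd (Nat.card H))
    (p : ℕ) [Fact p.Prime] :
    ∃ Q : Subgroup G, Q ≤ H ∧ IsPGroup p Q ∧ Nat.card Q = p ^ (Nat.card H).factorization p ∧
      ∀ x ∈ Q, d * x * d⁻¹ ∈ Q := by
  have hφ : conjAut hd H hH * conjAut hd H hH = 1 := by
    ext x
    show d * (d * (x : G) * d⁻¹) * d⁻¹ = x
    rw [show d * (d * (x : G) * d⁻¹) * d⁻¹ = (d * d) * x * (d * d)⁻¹ by group, hd]; simp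
  obtain ⟨Q, hQ⟩ := exists_sylow_fixed hodd (conjAut hd H hH) hφ p
  refine ⟨(Q : Subgroup H).map H.subtype, ?_, ?_, ?_, ?_⟩
  · rintro _ ⟨x, -, rfl⟩
    exact x.2
  · exact Q.isPGroup'.map _
  · rw [Subgroup.card_map_of_injective H.subtype_injective]
    exact Q.card_eq_multiplicity
  · rintro _ ⟨x, hx, rfl⟩
    exact ⟨conjAut hd H hH x, hQ x hx, rfl⟩

end Cfsg.Agent.Helper25.InvOdd
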