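import Mathlib
import Cfsg.Agent.Lib.Helper25.InvOdd1

/-!
# Invariant Sylow subgroups containing a given invariant `p`-subgroup (helper25)
-/

set_option autoImplicit false

namespace Cfsg.Agent.Helper25.InvOdd

theorem conj_mem_iff {G : Type*} [Group G] {d : G} (hd : d * d = 1) {X : Subgroup G}
    (hX : ∀ x ∈ X, d * x * d⁻¹ ∈ X) (y : G) : d * y * d⁻¹ ∈ X ↔ y ∈ X := by
  refine ⟨fun h => ?_, hX y⟩
  have := hX _ h
  rwa [show d * (d * y * d⁻¹) * d⁻¹ = (d * d) * y * (d * d)⁻¹ by group, hd, one_mul, inv_one,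
    mul_one] at this

theorem normalizer_inv {G : Type*} [Group G] {d : G} (hd : d * d = 1) {X : Subgroup G}
    (hX : ∀ x ∈ X, d * x * d⁻¹ ∈ X) (x : G) (hx : x ∈ Subgroup.normalizer (X : Set G)) :
    d * x * d⁻¹ ∈ Subgroup.normalizer (X : Set G) := by
  rw [Subgroup.mem_normalizer_iff] at hx ⊢
  intro y
  have hdi : d⁻¹ = d := inv_eq_of_mul_eq_one_right hd
  have e : d * x * d⁻¹ * y * (d * x * d⁻¹)⁻¹ = d * (x * (d * y * d⁻¹) * x⁻¹) * d⁻¹ := by
    rw [hdi]; simp only [mul_inv_rev, hdi, mul_assoc]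
  rw [e, conj_mem_iff hd hX, ← hx, conj_mem_iff hd hX]

/-- a normal `p`-subgroup of `H` lies in every subgroup of `H` of Sylow order. -/
theorem le_of_card_sylow {G : Type*} [Group G] [Finite G] {p : ℕ} [Fact p.Prime]
    {H Y Q : Subgroup G} (hYH : Y ≤ H) (hYp : IsPGroup p Y)
    (hnorm : H ≤ Subgroup.normalizer (Y : Set G)) (hQH : Q ≤ H) (hQp : IsPGroup p Q)
    (hQc : Nat.card Q = p ^ (Nat.card H).factorization p) : Y ≤ Q := by
  have hp : IsPGroup p (Y ⊔ Q : Subgroup G) :=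
    IsPGroup.to_sup_of_normal_left' hYp hQp (hQH.trans hnorm)
  have hle : Y ⊔ Q ≤ H := sup_le hYH hQH
  obtain ⟨k, hk⟩ := IsPGroup.iff_card.mp hp
  have hdvd : p ^ k ∣ Nat.card H := hk ▸ Subgroup.card_dvd_of_le hle
  have hHpos : Nat.card H ≠ 0 := Nat.card_pos.ne'
  have hkle : k ≤ (Nat.card H).factorization p :=
    (Nat.Prime.pow_dvd_iff_le_factorization (Fact.out) hHpos).mp hdvd
  have hcard : Nat.card (Y ⊔ Q : Subgroup G) ≤ Nat.card Q := by
    rw [hk, hQc]; exact Nat.pow_le_pow_right (Nat.Prime.pos Fact.out) hkle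
  have heq : Q = Y ⊔ Q := Subgroup.eq_of_le_of_card_ge le_sup_right hcard
  rw [heq]; exact le_sup_left

theorem exists_inv_sylow_ge {G : Type*} [Group G] [Finite G] {d : G} (hd : d * d = 1)
    (N : Subgroup G) (hN : ∀ x ∈ N, d * x * d⁻¹ ∈ N) (hodd : Odd (Nat.card N))
    (p : ℕ) [Fact p.Prime] (X : Subgroup G) (hXN : X ≤ N) (hXp : IsPGroup p X)
    (hX : ∀ x ∈ X, d * x * d⁻¹ ∈ X) :
    ∃ Q : Subgroup G, X ≤ Q ∧ Q ≤ N ∧ IsPGroup p Q ∧
      Nat.card Q = p ^ (Nat.card N).factorization p ∧ ∀ x ∈ Q, d * x * d⁻¹ ∈ Q := by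
  induction' h : Nat.card N - Nat.card X using Nat.strong_induction_on with k ih generalizing X
  have hpp : p.Prime := Fact.out
  obtain ⟨n, hn⟩ := IsPGroup.iff_card.mp hXp
  have hNpos : Nat.card N ≠ 0 := Nat.card_pos.ne'
  have hXdvd : p ^ n ∣ Nat.card N := hn ▸ Subgroup.card_dvd_of_le hXN
  have hnle : n ≤ (Nat.card N).factorization p :=
    (Nat.Prime.pow_dvd_iff_le_factorization hpp hNpos).mp hXdvd
  rcases hnle.eq_or_lt with heq | hlt
  · exact ⟨X, le_rfl, hXN, hXp, by rw [hn, heq], hX⟩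
  -- `X` is not Sylow: its normalizer in `N` has more `p`-part
  set H : Subgroup G := N ⊓ Subgroup.normalizer (X : Set G) with hHdef
  have hHinv : ∀ x ∈ H, d * x * d⁻¹ ∈ H := fun x hx =>
    ⟨hN x hx.1, normalizer_inv hd hX x hx.2⟩
  have hHodd : Odd (Nat.card H) := by
    have : Nat.card H ∣ Nat.card N := Subgroup.card_dvd_of_le inf_le_left
    exact Odd.of_dvd_nat hodd this
  obtain ⟨Q₀, hQ₀H, hQ₀p, hQ₀c, hQ₀inv⟩ := exists_inv_sylow hd H hHinv hHodd p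
  have hXH : X ≤ H := le_inf hXN Subgroup.le_normalizer
  have hXQ₀ : X ≤ Q₀ := le_of_card_sylow hXH hXp inf_le_right hQ₀H hQ₀p hQ₀c
  -- the `p`-part of `H` is larger than `|X|`
  have hdvd : p ^ (n + 1) ∣ Nat.card H := by
    have hX' : Nat.card (X.subgroupOf N) = p ^ n := by
      rw [← hn]; exact Nat.card_congr (Subgroup.subgroupOfEquivOfLe hXN).toEquiv
    have hmod := Sylow.card_normalizer_modEq_card (G := N) hX'
    have h1 : p ^ (n + 1) ∣ Nat.card N :=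
      (Nat.Prime.pow_dvd_iff_le_factorization hpp hNpos).mpr hlt
    have h2 : p ^ (n + 1) ∣ Nat.card (Subgroup.normalizer ((X.subgroupOf N : Subgroup N) : Set N)) :=
      (Nat.modEq_zero_iff_dvd.mp (hmod.trans (Nat.modEq_zero_iff_dvd.mpr h1)))
    rw [← Subgroup.subgroupOf_normalizer_eq hXN] at h2
    have h3 : Nat.card ((Subgroup.normalizer (X : Set G)).subgroupOf N) = Nat.card H := by
      rw [hHdef, inf_comm, ← Subgroup.inf_subgroupOf_right]
      exact Nat.card_congr (Subgroup.subgroupOfEquivOfLe inf_le_right).toEquiv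
    rwa [h3] at h2
  have hHpos : Nat.card H ≠ 0 := Nat.card_pos.ne'
  have hlt2 : n + 1 ≤ (Nat.card H).factorization p :=
    (Nat.Prime.pow_dvd_iff_le_factorization hpp hHpos).mp hdvd
  have hcardlt : Nat.card X < Nat.card Q₀ := by
    rw [hn, hQ₀c]
    exact Nat.pow_lt_pow_right hpp.one_lt hlt2
  have hQ₀N : Q₀ ≤ N := hQ₀H.trans inf_le_left
  have hQ₀le : Nat.card Q₀ ≤ Nat.card N := Subgroup.card_le_of_le hQ₀N
  obtain ⟨Q, hQ₀Q, hQN, hQp, hQc, hQinv⟩ :=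
    ih (Nat.card N - Nat.card Q₀) (by omega) Q₀ hQ₀N hQ₀p hQ₀inv rfl
  exact ⟨Q, hXQ₀.trans hQ₀Q, hQN, hQp, hQc, hQinv⟩

end Cfsg.Agent.Helper25.InvOdd
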