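import Mathlib
import Cfsg.Prelude.Def_Solvable
import Cfsg.Agent.Lib.Helper25.InvOdd3
import Cfsg.Agent.Lib.Helper25.StronglyEmbedded

/-!
# The case `p = 3` of the `Z*`-type theorem, modulo Glauberman's `Z*` (helper25)

`isolated_of_prod`: an involution all of whose products with conjugates have `3`-power order
is isolated in every Sylow `2`-subgroup containing it.
`prod_mem_pCore_of_zstar`: the conclusion of the `Z*`-theorem for `d` gives that all products of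
two conjugates lie in `O₃(G)`.
-/

set_option autoImplicit false

namespace Cfsg.Agent.Helper25.InvOdd

theorem isolated_of_prod {G : Type*} [Group G] [Finite G] (d : G) (hd : orderOf d = 2)
    (hprod : ∀ g : G, ∃ k : ℕ, orderOf (d * (g * d * g⁻¹)) = 3 ^ k)
    (P : Sylow 2 G) (hdP : d ∈ P) (g : G) (hg : g * d * g⁻¹ ∈ P) : g * d * g⁻¹ = d := by
  have hdd : d * d = 1 := by rw [← pow_two, ← hd, pow_orderOf_eq_one]
  have hdi : d⁻¹ = d := inv_eq_of_mul_eq_one_right hdd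
  have hy : d * (g * d * g⁻¹) ∈ (P : Subgroup G) := (P : Subgroup G).mul_mem hdP hg
  obtain ⟨k, hk⟩ := hprod g
  obtain ⟨j, hj⟩ := P.isPGroup' ⟨_, hy⟩
  have hj' : (d * (g * d * g⁻¹)) ^ 2 ^ j = 1 := by
    have := congrArg Subtype.val hj
    simpa using this
  have hdvd : 3 ^ k ∣ 2 ^ j := hk ▸ orderOf_dvd_of_pow_eq_one hj'
  have hk0 : k = 0 := by
    by_contra hne
    have h3 : 3 ∣ 2 ^ j := (dvd_pow_self 3 hne).trans hdvd
    have h3r : 3 ∣ 2 := Nat.Prime.dvd_of_dvd_pow Nat.prime_three h3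
    omega
  rw [hk0, pow_zero, orderOf_eq_one_iff] at hk
  have : g * d * g⁻¹ = d⁻¹ := eq_inv_of_mul_eq_one_right hk
  rw [this, hdi]

theorem prod_mem_pCore_of_zstar {G : Type*} [Group G] [Finite G] (d : G) (hd : orderOf d = 2)
    (hprod : ∀ a ∈ conjugatesOf d, ∀ b ∈ conjugatesOf d, ∃ k : ℕ, orderOf (a * b) = 3 ^ k)
    (hZ : ∃ N : Subgroup G, N.Normal ∧ Odd (Nat.card N) ∧ ∀ g : G, d * g * d⁻¹ * g⁻¹ ∈ N) :
    ∀ a ∈ conjugatesOf d, ∀ b ∈ conjugatesOf d, a * b ∈ Cfsg.pCore 3 G := by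
  have hdd : d * d = 1 := by rw [← pow_two, ← hd, pow_orderOf_eq_one]
  have hprod' : ∀ g : G, ∃ k : ℕ, orderOf (d * (g * d * g⁻¹)) = 3 ^ k := by
    intro g
    apply hprod d (mem_conjugatesOf_self) (g * d * g⁻¹)
    exact isConj_iff.mpr ⟨g, rfl⟩
  obtain ⟨N, hNn, hNodd, hN⟩ := hZ
  obtain ⟨T, hTn, hTp, hT⟩ := exists_normal_three d hdd hprod' N hNodd hN
  have hTle : T ≤ Cfsg.pCore 3 G := Cfsg.Agent.Helper25.le_pCore' hTn hTp
  intro a ha b hb
  obtain ⟨g, rfl⟩ := isConj_iff.mp ha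
  obtain ⟨h, rfl⟩ := isConj_iff.mp hb
  apply hTle
  have e : g * d * g⁻¹ * (h * d * h⁻¹) = g * (d * ((g⁻¹ * h) * d * (g⁻¹ * h)⁻¹)) * g⁻¹ := by group
  rw [e]
  exact hTn.conj_mem _ (hT _) g

end Cfsg.Agent.Helper25.InvOdd
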