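import Mathlib
import Cfsg.Agent.Lib.Helper3.J1SpecDefs

/-!
# S3627 piece ASM (helper25): the assembly for an abstract group `J` with spectrum `specJ1`.
-/

set_option autoImplicit false

namespace Cfsg.Agent.Helper3.J1Spec

/-- aux: the order of a quadruple -/
theorem asm_orderOf4 {A B C D : Type*} [Monoid A] [Monoid B] [Monoid C] [Monoid D] (x : A × B × C × D) :
    orderOf x = Nat.lcm (orderOf x.1) (Nat.lcm (orderOf x.2.1) (Nat.lcm (orderOf x.2.2.1) (orderOf x.2.2.2))) := by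
  rw [Prod.orderOf, Prod.orderOf x.2, Prod.orderOf x.2.2]

theorem main_of {J : Type} [Group J] [Finite J]
    (hup : ∀ g : J, orderOf g ∈ specJ1)
    (hex : ∀ n ∈ specJ1, ∃ g : J, orderOf g = n)
    (hgd : ∀ N : ℕ, ∃ (K : Type) (_ : Group K) (_ : Fintype K), N < Fintype.card K ∧
      (∀ x : K, orderOf x = 1 ∨ orderOf x = 2 ∨ orderOf x = 7) ∧
      (∃ x : K, orderOf x = 2) ∧ (∃ x : K, orderOf x = 7))
    (hcomb : ∀ a b c d : ℕ, a ∈ specJ1 → b ∈ specJ1 → c ∈ specJ1 → d ∈ specJ1 →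
      ∃ e a' b' c' : ℕ, (e = 1 ∨ e = 2 ∨ e = 7) ∧ a' ∈ specJ1 ∧ b' ∈ specJ1 ∧ c' ∈ specJ1 ∧
        Nat.lcm e (Nat.lcm a' (Nat.lcm b' c')) = Nat.lcm a (Nat.lcm b (Nat.lcm c d)))
    (N : ℕ) :
    ∃ (H : Type) (_ : Group H) (_ : Fintype H), N < Fintype.card H ∧
      Set.range (orderOf : H → ℕ) = Set.range (orderOf : J × J × J × J → ℕ) := by
  classical
  obtain ⟨K, iK, iF, hN, hord, ⟨x2, hx2⟩, ⟨x7, hx7⟩⟩ := hgd N
  haveI : Fintype J := Fintype.ofFinite J
  refine ⟨K × J × J × J, inferInstance, inferInstance, ?_, ?_⟩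
  · have h1 : 0 < Fintype.card (J × J × J) := Fintype.card_pos
    calc N < Fintype.card K := hN
      _ = Fintype.card K * 1 := (Nat.mul_one _).symm
      _ ≤ Fintype.card K * Fintype.card (J × J × J) := Nat.mul_le_mul_left _ h1
      _ = Fintype.card (K × J × J × J) := (Fintype.card_prod _ _).symm
  · have h1 : (1 : ℕ) ∈ specJ1 := by decide
    have h2 : (2 : ℕ) ∈ specJ1 := by decide
    have h7 : (7 : ℕ) ∈ specJ1 := by decide
    ext n
    simp only [Set.mem_range]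
    constructor
    · rintro ⟨⟨k, a, b, c⟩, rfl⟩
      have hk : orderOf k ∈ specJ1 := by
        rcases hord k with h | h | h <;> rw [h] <;> assumption
      obtain ⟨d, hd⟩ := hex _ hk
      refine ⟨(d, a, b, c), ?_⟩
      rw [asm_orderOf4, asm_orderOf4]
      simp only
      rw [hd]
    · rintro ⟨⟨a, b, c, d⟩, rfl⟩
      obtain ⟨e, a', b', c', he, ha', hb', hc', hl⟩ :=
        hcomb (orderOf a) (orderOf b) (orderOf c) (orderOf d) (hup a) (hup b) (hup c) (hup d)
      obtain ⟨ja, hja⟩ := hex a' ha'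
      obtain ⟨jb, hjb⟩ := hex b' hb'
      obtain ⟨jc, hjc⟩ := hex c' hc'
      have hk : ∃ k : K, orderOf k = e := by
        rcases he with rfl | rfl | rfl
        · exact ⟨1, orderOf_one⟩
        · exact ⟨x2, hx2⟩
        · exact ⟨x7, hx7⟩
      obtain ⟨k, hk⟩ := hk
      refine ⟨(k, ja, jb, jc), ?_⟩
      rw [asm_orderOf4, asm_orderOf4]
      simp only
      rw [hk, hja, hjb, hjc, hl]

end Cfsg.Agent.Helper3.J1Spec
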