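import Mathlib
import Cfsg.Prelude.Def_JComponents
import Cfsg.Agent.Lib.Helper13.JCFFDefs
import Cfsg.Agent.Lib.Helper25.JCF5Core
import Cfsg.Agent.Lib.Helper24.JCF4
import Cfsg.Agent.Lib.Helper26.JCF4B

/-!
# KS12, PIECE F5 (helper25 for helper13): `KS.comp_eq_Kc` with the exact skeleton signature
(from `JCF5Core.f5_comp_eq_Kc` + pieces F4, F4B).
-/

set_option autoImplicit false

namespace Cfsg.Agent.Helper13.JCFF

open Cfsg

variable {X : Type*} [Group X] [Finite X]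

/-- PIECE F5 -/
theorem KS.comp_eq_Kc {T : Subgroup X} (h : KS X T) (F : FFData X (VX X)) {K : Subgroup X}
    (hK : IsJComponent T K) : ∃ i : Fin F.r, K = Kc F i ∧ wOf K = ⁅VX X, F.D i⁆ :=
  f5_comp_eq_Kc h F hK (h.J_inf_C_le F) (h.VX_le_JT F)

end Cfsg.Agent.Helper13.JCFF
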