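import Mathlib
import Cfsg.Prelude.Def_Characters
import Cfsg.Agent.Lib.Helper8.KGVDefs

/-!
# Piece A of S4958 (helper8's Knörr farm-out): the decomposition of the faithful abelian
`p'`-group `C` acting on the abelian `p`-group `V` (helper25)
-/

set_option autoImplicit false
set_option linter.unusedVariables false
set_option linter.style.haveILetI false
set_option linter.unusedSectionVars false
set_option linter.deprecated false

namespace Cfsg.Agent.Helper8.KGV

open Cfsg
open scoped Classical IsMulCommutative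

universe u

section Abstract

variable {A : Type*} [Group A] {H : Type*} [Group H] [MulDistribMulAction H A]

/-- the fixed points of `c`. -/
def fixS (c : H) : Subgroup A where
  carrier := {a | c • a = a}
  one_mem' := smul_one c
  mul_mem' := fun {a b} ha hb => by
    have ha' : c • a = a := ha
    have hb' : c • b = b := hb
    show c • (a * b) = a * b
    rw [smul_mul', ha', hb']
  inv_mem' := fun {a} ha => by
    have ha' : c • a = a := ha
    show c • a⁻¹ = a⁻¹
    rw [smul_inv', ha']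

theorem mem_fixS {c : H} {a : A} : a ∈ fixS c ↔ c • a = a := Iff.rfl

theorem fixS_one : fixS (1 : H) = (⊤ : Subgroup A) := by
  rw [eq_top_iff]
  intro a _
  rw [mem_fixS, one_smul]

variable (H) in
/-- `H`-invariant subgroups. -/
def IsInv (U : Subgroup A) : Prop := ∀ c : H, ∀ u ∈ U, c • u ∈ U

/-- the pointwise stabilizer. -/
def centS (U : Subgroup A) : Subgroup H where
  carrier := {c | ∀ u ∈ U, c • u = u}
  one_mem' := fun u _ => one_smul H u
  mul_mem' := fun {a b} ha hb u hu => by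
    rw [mul_smul, hb u hu, ha u hu]
  inv_mem' := fun {a} ha u hu => by
    have := ha u hu
    calc a⁻¹ • u = a⁻¹ • (a • u) := by rw [this]
      _ = u := inv_smul_smul a u

theorem mem_centS {U : Subgroup A} {c : H} : c ∈ centS U ↔ ∀ u ∈ U, c • u = u := Iff.rfl

theorem mem_centS_iff_le {U : Subgroup A} {c : H} : c ∈ centS U ↔ U ≤ fixS c := Iff.rfl

theorem smul_eq_one_imp {c : H} {a : A} (h : c • a = 1) : a = 1 := by
  calc a = c⁻¹ • (c • a) := (inv_smul_smul c a).symm
    _ = 1 := by rw [h, smul_one]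

end Abstract

section AbstractComm

variable {A : Type*} [Group A] [IsMulCommutative A] {H : Type*} [Group H] [IsMulCommutative H]
  [MulDistribMulAction H A]

/-- the commutator map `a ↦ a⁻¹ * c • a`. -/
def phiS (c : H) : A →* A :=
  MonoidHom.mk' (fun a => a⁻¹ * c • a) (by
    intro a b
    rw [smul_mul', mul_inv_rev]
    calc b⁻¹ * a⁻¹ * (c • a * c • b) = (a⁻¹ * c • a) * (b⁻¹ * c • b) := by
          rw [mul_comm b⁻¹ a⁻¹, mul_mul_mul_comm])

theorem phiS_apply (c : H) (a : A) : phiS c a = a⁻¹ * c • a := rfl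

theorem smul_smul_comm' (c c' : H) (a : A) : c • c' • a = c' • c • a := by
  rw [← mul_smul, ← mul_smul, mul_comm]

/-- the range of `phiS c` is invariant. -/
theorem phiS_range_inv (c₀ : H) : IsInv H (phiS c₀ : A →* A).range := by
  intro c x hx
  obtain ⟨a, rfl⟩ := hx
  refine ⟨c • a, ?_⟩
  rw [phiS_apply, phiS_apply, smul_mul', smul_inv', smul_smul_comm']

/-- (F1). -/
theorem phiS_fix_trivial [Finite H] (p : ℕ) [Fact p.Prime] (hAp : IsPGroup p A)
    (hcop : ¬ p ∣ Nat.card H) (c₀ : H) {x : A} (hx : x ∈ (phiS c₀ : A →* A).range)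
    (hfix : c₀ • x = x) : x = 1 := by
  have hp : p.Prime := Fact.out
  obtain ⟨a, rfl⟩ := hx
  rw [phiS_apply] at hfix ⊢
  set u := a⁻¹ * c₀ • a with hu
  have h1 : c₀ • a = a * u := by rw [hu]; group
  have h2 : ∀ j : ℕ, c₀ ^ j • a = a * u ^ j := by
    intro j
    induction j with
    | zero => simp
    | succ j ih =>
      rw [pow_succ', mul_smul, ih, smul_mul', h1, smul_pow', hfix, pow_succ', mul_assoc]
  have h3 : u ^ Nat.card H = 1 := by
    have := h2 (Nat.card H)
    rw [pow_card_eq_one', one_smul] at this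
    exact (mul_eq_left.1 this.symm)
  obtain ⟨k, hk⟩ := hAp u
  have hcop' : Nat.Coprime (p ^ k) (Nat.card H) :=
    Nat.Coprime.pow_left k ((Nat.Prime.coprime_iff_not_dvd hp).2 hcop)
  have h4 := (pow_gcd_eq_one (a := u) (m := p ^ k) (n := Nat.card H)).2 ⟨hk, h3⟩
  rw [hcop'] at h4
  simpa using h4

/-- (F3): a minimal invariant subgroup inside `[A, c₀]`. -/
theorem exists_minimal_W [Finite A] [Finite H] (p : ℕ) [Fact p.Prime] (hAp : IsPGroup p A)
    (hcop : ¬ p ∣ Nat.card H) (hfaith : ∀ c : H, (∀ a : A, c • a = a) → c = 1)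
    (c₀ : H) (hc₀ : c₀ ≠ 1) :
    ∃ W : Subgroup A, IsInv H W ∧ W ≠ ⊥ ∧ W ⊓ fixS c₀ = ⊥ ∧
      (∀ c : H, W ⊓ fixS c = ⊥ ∨ W ≤ fixS c) := by
  set R : Subgroup A := (phiS c₀ : A →* A).range with hR
  have hRne : R ≠ ⊥ := by
    intro h
    apply hc₀
    apply hfaith
    intro a
    have h1 : phiS c₀ a ∈ R := ⟨a, rfl⟩
    rw [h, Subgroup.mem_bot, phiS_apply] at h1
    calc c₀ • a = a * (a⁻¹ * c₀ • a) := by group
      _ = a := by rw [h1, mul_one]
  set F : Set (Subgroup A) := {W | IsInv H W ∧ W ≠ ⊥ ∧ W ≤ R} with hF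
  have hFne : F.Nonempty := ⟨R, phiS_range_inv c₀, hRne, le_refl _⟩
  obtain ⟨W, hWF, hWmin⟩ := Set.exists_min_image F (fun W => Nat.card W) (Set.toFinite _) hFne
  obtain ⟨hWinv, hWne, hWR⟩ := hWF
  refine ⟨W, hWinv, hWne, ?_, ?_⟩
  · rw [eq_bot_iff]
    intro x hx
    rw [Subgroup.mem_bot]
    exact phiS_fix_trivial p hAp hcop c₀ (hWR hx.1) hx.2
  · intro c
    by_cases hbot : W ⊓ fixS c = ⊥
    · exact Or.inl hbot
    · right
      have hmem : W ⊓ fixS c ∈ F := by
        refine ⟨?_, hbot, inf_le_left.trans hWR⟩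
        intro c' x hx
        refine ⟨hWinv c' x hx.1, ?_⟩
        show c • c' • x = c' • x
        rw [smul_smul_comm', mem_fixS.1 hx.2]
      have hcard := hWmin _ hmem
      have heq : W ⊓ fixS c = W := Subgroup.eq_of_le_of_card_ge inf_le_left hcard
      exact inf_eq_left.1 heq

end AbstractComm

section Orbits

variable {A : Type*} [Group A] {H : Type*} [Group H] [MulDistribMulAction H A]

/-- orbit counting: `|H : C_H(W)|` divides `|W| - 1`. -/
theorem index_centS_dvd [Finite A] [Finite H] (W : Subgroup A) (hW : IsInv H W)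
    (hdich : ∀ c : H, W ⊓ fixS c = ⊥ ∨ W ≤ fixS c) :
    (centS W : Subgroup H).index ∣ Nat.card W - 1 := by
  letI : MulAction H ↥((W : Set A) \ {1}) :=
    { smul := fun c x => ⟨c • (x : A), ⟨hW c x x.2.1, fun h => x.2.2 (smul_eq_one_imp h)⟩⟩
      one_smul := fun x => Subtype.ext (one_smul H (x : A))
      mul_smul := fun c c' x => Subtype.ext (mul_smul c c' (x : A)) }
  have hsmul : ∀ (c : H) (x : ↥((W : Set A) \ {1})), ((c • x : ↥((W : Set A) \ {1})) : A) = c • (x : A) :=
    fun c x => rfl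
  have hstab : ∀ x : ↥((W : Set A) \ {1}), MulAction.stabilizer H x = centS W := by
    intro x
    ext c
    rw [MulAction.mem_stabilizer_iff]
    constructor
    · intro h
      have h1 : c • (x : A) = (x : A) := by rw [← hsmul, h]
      rcases hdich c with h2 | h2
      · exfalso
        have h3 : (x : A) ∈ W ⊓ fixS c := ⟨x.2.1, h1⟩
        rw [h2, Subgroup.mem_bot] at h3
        exact x.2.2 h3
      · exact h2
    · intro h
      apply Subtype.ext
      rw [hsmul]
      exact h _ x.2.1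
  have hcard : Nat.card ↥((W : Set A) \ {1}) = Nat.card W - 1 := by
    rw [Nat.card_coe_set_eq, Set.ncard_diff_singleton_of_mem (W.one_mem), ← Nat.card_coe_set_eq]
    rfl
  rw [← hcard]
  letI : Fintype (Quotient (MulAction.orbitRel H ↥((W : Set A) \ {1}))) := Fintype.ofFinite _
  rw [Nat.card_congr (MulAction.selfEquivSigmaOrbitsQuotientStabilizer H ↥((W : Set A) \ {1})),
    Nat.card_sigma]
  have : ∀ ω : Quotient (MulAction.orbitRel H ↥((W : Set A) \ {1})),
      Nat.card (H ⧸ MulAction.stabilizer H ω.out) = (centS W : Subgroup H).index := by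
    intro ω
    rw [hstab]
    rfl
  rw [Finset.sum_congr rfl fun ω _ => this ω, Finset.sum_const, smul_eq_mul]
  exact Dvd.intro_left _ rfl

end Orbits

section Induction

variable {A : Type*} [Group A] [IsMulCommutative A] {H : Type*} [Group H] [IsMulCommutative H]
  [MulDistribMulAction H A]

/-- fixed points in an internal direct product of invariant subgroups. -/
theorem card_sup_inf_fixS [Finite A] (U W : Subgroup A) (hU : IsInv H U) (hW : IsInv H W)
    (hUW : U ⊓ W = ⊥) (c : H) :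
    Nat.card ↥((U ⊔ W) ⊓ fixS c) = Nat.card ↥(U ⊓ fixS c) * Nat.card ↥(W ⊓ fixS c) := by
  have hdisj : ∀ x, x ∈ U → x ∈ W → x = 1 := fun x hxU hxW => by
    have : x ∈ U ⊓ W := ⟨hxU, hxW⟩
    rw [hUW, Subgroup.mem_bot] at this
    exact this
  let g : ↥(U ⊓ fixS c) × ↥(W ⊓ fixS c) → ↥((U ⊔ W) ⊓ fixS c) := fun uw =>
    ⟨(uw.1 : A) * (uw.2 : A), ⟨Subgroup.mul_mem_sup uw.1.2.1 uw.2.2.1,
      (fixS c).mul_mem uw.1.2.2 uw.2.2.2⟩⟩
  have hinj : Function.Injective g := by
    rintro ⟨u, w⟩ ⟨u', w'⟩ h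
    have h1 : (u : A) * (w : A) = (u' : A) * (w' : A) := congrArg Subtype.val h
    have h2 : (u' : A)⁻¹ * (u : A) = (w' : A) * (w : A)⁻¹ := by
      calc (u' : A)⁻¹ * u = (u' : A)⁻¹ * (u * w) * (w : A)⁻¹ := by group
        _ = (u' : A)⁻¹ * (u' * w') * (w : A)⁻¹ := by rw [h1]
        _ = w' * (w : A)⁻¹ := by group
    have h3 := hdisj _ (U.mul_mem (U.inv_mem u'.2.1) u.2.1)
      (by rw [h2]; exact W.mul_mem w'.2.1 (W.inv_mem w.2.1))
    have h4 : (u : A) = u' := by
      calc (u : A) = u' * ((u' : A)⁻¹ * u) := by group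
        _ = u' := by rw [h3, mul_one]
    have h5 : (w : A) = w' := by
      rw [h4] at h1
      exact mul_left_cancel h1
    exact Prod.ext (Subtype.ext h4) (Subtype.ext h5)
  have hsurj : Function.Surjective g := by
    rintro ⟨x, hx1, hx2⟩
    obtain ⟨u, hu, w, hw, rfl⟩ := Subgroup.mem_sup.1 hx1
    have hx2' : c • (u * w) = u * w := hx2
    rw [smul_mul'] at hx2'
    have h2 : u⁻¹ * c • u = w * (c • w)⁻¹ := by
      calc u⁻¹ * c • u = u⁻¹ * (c • u * c • w) * (c • w)⁻¹ := by group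
        _ = u⁻¹ * (u * w) * (c • w)⁻¹ := by rw [hx2']
        _ = w * (c • w)⁻¹ := by group
    have h3 := hdisj _ (U.mul_mem (U.inv_mem hu) (hU c u hu))
      (by rw [h2]; exact W.mul_mem hw (W.inv_mem (hW c w hw)))
    have h4 : c • u = u := by
      calc c • u = u * (u⁻¹ * c • u) := by group
        _ = u := by rw [h3, mul_one]
    have h5 : c • w = w := by
      rw [h4] at hx2'
      exact mul_left_cancel hx2'
    exact ⟨(⟨u, hu, h4⟩, ⟨w, hw, h5⟩), Subtype.ext rfl⟩
  rw [← Nat.card_prod]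
  exact (Nat.card_congr (Equiv.ofBijective g ⟨hinj, hsurj⟩)).symm

theorem card_sup_of_disj [Finite A] (U W : Subgroup A) (hU : IsInv H U) (hW : IsInv H W)
    (hUW : U ⊓ W = ⊥) : Nat.card ↥(U ⊔ W) = Nat.card U * Nat.card W := by
  have := card_sup_inf_fixS U W hU hW hUW (1 : H)
  rw [fixS_one, inf_top_eq, inf_top_eq, inf_top_eq] at this
  exact this

theorem isInv_sup (U W : Subgroup A) (hU : IsInv H U) (hW : IsInv H W) : IsInv H (U ⊔ W) := by
  intro c x hx
  obtain ⟨u, hu, w, hw, rfl⟩ := Subgroup.mem_sup.1 hx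
  rw [smul_mul']
  exact Subgroup.mul_mem_sup (hU c u hu) (hW c w hw)

variable (H) in
/-- the invariant of the induction. -/
def GoodS (p : ℕ) (U : Subgroup A) : Prop :=
  IsInv H U ∧ ∃ l : List (Subgroup H × ℕ),
    (∀ Kq ∈ l, 0 < Kq.2 ∧ p ∣ Kq.2 ∧ Kq.1.index ∣ Kq.2 - 1 ∧ Kq.1 ≠ ⊤) ∧
    (∀ c : H, (∀ Kq ∈ l, c ∈ Kq.1) ↔ c ∈ centS U) ∧
    (∀ c : H, (l.map (fun Kq => if c ∈ Kq.1 then 1 else Kq.2)).prod *
      Nat.card ↥(U ⊓ fixS c) = Nat.card U)

theorem goodS_extend [Finite A] [Finite H] (p : ℕ) [Fact p.Prime] (hAp : IsPGroup p A)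
    (hcop : ¬ p ∣ Nat.card H) (hfaith : ∀ c : H, (∀ a : A, c • a = a) → c = 1)
    {U : Subgroup A} (hU : GoodS H p U) {c₀ : H} (hc₀ : c₀ ≠ 1) (hc₀U : c₀ ∈ centS U) :
    ∃ U' : Subgroup A, GoodS H p U' ∧ U < U' := by
  obtain ⟨W, hWinv, hWne, hWc₀, hdich⟩ := exists_minimal_W p hAp hcop hfaith c₀ hc₀
  obtain ⟨hUinv, l, hl1, hl2, hl3⟩ := hU
  have hUW : U ⊓ W = ⊥ := by
    rw [eq_bot_iff]
    intro x hx
    have : x ∈ W ⊓ fixS c₀ := ⟨hx.2, hc₀U x hx.1⟩
    rwa [hWc₀] at this
  refine ⟨U ⊔ W, ⟨isInv_sup U W hUinv hWinv, (centS W, Nat.card W) :: l, ?_, ?_, ?_⟩, ?_⟩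
  · intro Kq hKq
    rw [List.mem_cons] at hKq
    rcases hKq with rfl | hKq
    · refine ⟨Nat.card_pos, ?_, index_centS_dvd W hWinv hdich, ?_⟩
      · rcases (hAp.to_subgroup W).card_eq_or_dvd with h | h
        · exact absurd (Subgroup.card_eq_one.1 h) hWne
        · exact h
      · intro h
        have h' : (centS W : Subgroup H) = ⊤ := h
        have h1 : c₀ ∈ (centS W : Subgroup H) := by
          rw [h']
          exact Subgroup.mem_top _
        have h2 : W ≤ fixS c₀ := mem_centS_iff_le.1 h1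
        apply hWne
        rw [← hWc₀]
        exact (inf_eq_left.2 h2).symm
    · exact hl1 Kq hKq
  · intro c
    rw [List.forall_mem_cons]
    show (c ∈ centS W ∧ ∀ Kq ∈ l, c ∈ Kq.1) ↔ c ∈ centS (U ⊔ W)
    rw [hl2 c, mem_centS_iff_le, mem_centS_iff_le, mem_centS_iff_le, sup_le_iff, and_comm]
  · intro c
    rw [List.map_cons, List.prod_cons, card_sup_inf_fixS U W hUinv hWinv hUW,
      card_sup_of_disj U W hUinv hWinv hUW]
    have hW' : (if c ∈ centS W then 1 else Nat.card W) * Nat.card ↥(W ⊓ fixS c) =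
        Nat.card W := by
      split_ifs with h
      · rw [one_mul, inf_eq_left.2 (mem_centS_iff_le.1 h)]
      · rcases hdich c with h2 | h2
        · rw [h2, Subgroup.card_bot, mul_one]
        · exact absurd h2 h
    calc (if c ∈ centS W then 1 else Nat.card W) *
          (l.map (fun Kq => if c ∈ Kq.1 then 1 else Kq.2)).prod *
          (Nat.card ↥(U ⊓ fixS c) * Nat.card ↥(W ⊓ fixS c))
        = ((l.map (fun Kq => if c ∈ Kq.1 then 1 else Kq.2)).prod * Nat.card ↥(U ⊓ fixS c)) *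
          ((if c ∈ centS W then 1 else Nat.card W) * Nat.card ↥(W ⊓ fixS c)) := by ring
      _ = Nat.card U * Nat.card W := by rw [hl3 c, hW']
  · refine lt_of_le_of_ne le_sup_left (fun h => hWne ?_)
    have h1 : W ≤ U := by
      rw [h]
      exact le_sup_right
    rw [eq_bot_iff, ← hUW]
    exact le_inf h1 le_rfl

/-- the abstract form of piece A. -/
theorem abs_decomp [Finite A] [Finite H] (p : ℕ) [Fact p.Prime] (hAp : IsPGroup p A)
    (hcop : ¬ p ∣ Nat.card H) (hfaith : ∀ c : H, (∀ a : A, c • a = a) → c = 1) :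
    ∃ (n : ℕ) (K : Fin n → Subgroup H) (q : Fin n → ℕ),
      (∀ i, 0 < q i) ∧ (∀ i, p ∣ q i) ∧ (∀ i, (K i).index ∣ q i - 1) ∧ (∀ i, K i ≠ ⊤) ∧
      (⨅ i, K i = ⊥) ∧
      ∀ c : H, (∏ i, (if c ∈ K i then 1 else q i)) *
        Nat.card ↥(fixS c : Subgroup A) ≤ Nat.card A := by
  have hbot : GoodS H p (⊥ : Subgroup A) := by
    refine ⟨?_, [], ?_, ?_, ?_⟩
    · intro c u hu
      rw [Subgroup.mem_bot] at hu ⊢
      rw [hu, smul_one]
    · intro Kq hKq
      simp at hKq
    · intro c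
      constructor
      · intro _ u hu
        rw [Subgroup.mem_bot] at hu
        rw [hu, smul_one]
      · intro _ Kq hKq
        simp at hKq
    · intro c
      rw [List.map_nil, List.prod_nil, one_mul, bot_inf_eq]
  obtain ⟨U, hUmax⟩ := Set.Finite.exists_maximal (s := {U : Subgroup A | GoodS H p U})
    (Set.toFinite _) ⟨⊥, hbot⟩
  have hcent : (centS U : Subgroup H) = ⊥ := by
    rw [Subgroup.eq_bot_iff_forall]
    intro c hc
    by_contra hc1
    obtain ⟨U', hU', hlt⟩ := goodS_extend p hAp hcop hfaith hUmax.prop hc1 hc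
    exact absurd (hUmax.le_of_ge hU' hlt.le) (not_le_of_gt hlt)
  obtain ⟨hUinv, l, hl1, hl2, hl3⟩ := hUmax.prop
  refine ⟨l.length, fun i => (l.get i).1, fun i => (l.get i).2,
    fun i => (hl1 _ (l.get_mem i)).1, fun i => (hl1 _ (l.get_mem i)).2.1,
    fun i => (hl1 _ (l.get_mem i)).2.2.1, fun i => (hl1 _ (l.get_mem i)).2.2.2, ?_, ?_⟩
  · rw [eq_bot_iff]
    intro c hc
    rw [Subgroup.mem_iInf] at hc
    have : c ∈ centS U := (hl2 c).1 (fun Kq hKq => by
      obtain ⟨i, rfl⟩ := List.mem_iff_get.1 hKq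
      exact hc i)
    rwa [hcent] at this
  · intro c
    have hprod : (∏ i : Fin l.length, (if c ∈ (l.get i).1 then 1 else (l.get i).2)) =
        (l.map (fun Kq => if c ∈ Kq.1 then 1 else Kq.2)).prod :=
      Fin.prod_univ_fun_getElem l (fun Kq => if c ∈ Kq.1 then 1 else Kq.2)
    rw [hprod]
    have h1 := hl3 c
    have h2 : Nat.card U * Nat.card ↥(fixS c : Subgroup A) ≤
        Nat.card A * Nat.card ↥(U ⊓ fixS c) := by
      have e1 : Nat.card ↥(U ⊓ fixS c) * (fixS c : Subgroup A).relIndex U = Nat.card U := by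
        have := Subgroup.relIndex_mul_relIndex (H := (⊥ : Subgroup A)) (K := U ⊓ fixS c) (L := U)
          bot_le inf_le_left
        rw [Subgroup.relIndex_bot_left, Subgroup.relIndex_bot_left,
          Subgroup.inf_relIndex_left] at this
        exact this
      have e2 : (fixS c : Subgroup A).relIndex U ≤ (fixS c : Subgroup A).index :=
        Nat.le_of_dvd (Nat.pos_of_ne_zero Subgroup.index_ne_zero_of_finite)
          (Subgroup.relIndex_dvd_index_of_normal _ _)
      have e3 : Nat.card ↥(fixS c : Subgroup A) * (fixS c : Subgroup A).index = Nat.card A :=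
        Subgroup.card_mul_index _
      calc Nat.card U * Nat.card ↥(fixS c : Subgroup A)
          = Nat.card ↥(U ⊓ fixS c) * (fixS c : Subgroup A).relIndex U *
            Nat.card ↥(fixS c : Subgroup A) := by rw [e1]
        _ ≤ Nat.card ↥(U ⊓ fixS c) * (fixS c : Subgroup A).index *
            Nat.card ↥(fixS c : Subgroup A) := by
              apply Nat.mul_le_mul_right
              exact Nat.mul_le_mul_left _ e2
        _ = Nat.card A * Nat.card ↥(U ⊓ fixS c) := by rw [← e3]; ring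
    have hpos : 0 < Nat.card ↥(U ⊓ fixS c) := Nat.card_pos
    apply Nat.le_of_mul_le_mul_right _ hpos
    calc (l.map (fun Kq => if c ∈ Kq.1 then 1 else Kq.2)).prod *
          Nat.card ↥(fixS c : Subgroup A) * Nat.card ↥(U ⊓ fixS c)
        = ((l.map (fun Kq => if c ∈ Kq.1 then 1 else Kq.2)).prod * Nat.card ↥(U ⊓ fixS c)) *
          Nat.card ↥(fixS c : Subgroup A) := by ring
      _ = Nat.card U * Nat.card ↥(fixS c : Subgroup A) := by rw [h1]
      _ ≤ Nat.card A * Nat.card ↥(U ⊓ fixS c) := h2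

end Induction

/-- PIECE A. -/
theorem exists_decomp {X : Type u} [Group X] [Finite X] (p : ℕ) [Fact p.Prime] (V : Subgroup X)
    [V.Normal] (hVp : IsPGroup p V) (hVab : ∀ a ∈ V, ∀ b ∈ V, a * b = b * a)
    (hself : Subgroup.centralizer (V : Set X) = V) (C : Subgroup X)
    (hCab : ∀ a ∈ C, ∀ b ∈ C, a * b = b * a) (hcop : ¬ p ∣ Nat.card C) :
    ∃ (n : ℕ) (K : Fin n → Subgroup ↥C) (q : Fin n → ℕ),
      (∀ i, 0 < q i) ∧ (∀ i, p ∣ q i) ∧ (∀ i, (K i).index ∣ q i - 1) ∧ (∀ i, K i ≠ ⊤) ∧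
      (⨅ i, K i = ⊥) ∧
      ∀ c : ↥C, (∏ i, (if c ∈ K i then 1 else q i)) *
        Nat.card ↥(V ⊓ Subgroup.centralizer ({(c : X)} : Set X)) ≤ Nat.card V := by
  have hp : p.Prime := Fact.out
  haveI : IsMulCommutative ↥V := ⟨⟨fun a b => Subtype.ext (hVab a a.2 b b.2)⟩⟩
  haveI : IsMulCommutative ↥C := ⟨⟨fun a b => Subtype.ext (hCab a a.2 b b.2)⟩⟩
  letI act : MulDistribMulAction ↥C ↥V :=
    MulDistribMulAction.compHom ↥V ((MulAut.conjNormal (H := V)).comp C.subtype)
  have hact : ∀ (c : ↥C) (w : ↥V), ((c • w : ↥V) : X) = (c : X) * (w : X) * (c : X)⁻¹ :=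
    fun c w => rfl
  have hfaith : ∀ c : ↥C, (∀ a : ↥V, c • a = a) → c = 1 := by
    intro c hc
    have h1 : (c : X) ∈ Subgroup.centralizer (V : Set X) := by
      rw [Subgroup.mem_centralizer_iff]
      intro w hw
      have h2 := congrArg Subtype.val (hc ⟨w, hw⟩)
      rw [hact] at h2
      simp only at h2
      calc w * (c : X) = ((c : X) * w * (c : X)⁻¹) * (c : X) := by rw [h2]
        _ = (c : X) * w := by group
    rw [hself] at h1
    obtain ⟨k, hk⟩ := hVp ⟨(c : X), h1⟩
    have hk' : (c : X) ^ p ^ k = 1 := congrArg Subtype.val hk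
    have h3 : (c : X) ^ Nat.card C = 1 := by
      have := pow_card_eq_one' (x := c)
      exact congrArg Subtype.val this
    have hcop' : Nat.Coprime (p ^ k) (Nat.card C) :=
      Nat.Coprime.pow_left k ((Nat.Prime.coprime_iff_not_dvd hp).2 hcop)
    have h4 := (pow_gcd_eq_one (a := (c : X)) (m := p ^ k) (n := Nat.card C)).2 ⟨hk', h3⟩
    rw [hcop', pow_one] at h4
    exact Subtype.ext h4
  obtain ⟨n, K, q, h1, h2, h3, h4, h5, h6⟩ := abs_decomp (A := ↥V) (H := ↥C) p hVp hcop hfaith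
  refine ⟨n, K, q, h1, h2, h3, h4, h5, ?_⟩
  intro c
  have hcard : Nat.card ↥(V ⊓ Subgroup.centralizer ({(c : X)} : Set X)) =
      Nat.card ↥(fixS c : Subgroup ↥V) := by
    refine Nat.card_congr
      { toFun := fun y => ⟨⟨(y : X), y.2.1⟩, ?_⟩
        invFun := fun x => ⟨((x : ↥V) : X), ⟨(x : ↥V).2, ?_⟩⟩
        left_inv := fun y => rfl
        right_inv := fun x => rfl }
    · rw [mem_fixS]
      apply Subtype.ext
      rw [hact]
      have := Subgroup.mem_centralizer_singleton_iff.1 y.2.2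
      show (c : X) * (y : X) * (c : X)⁻¹ = (y : X)
      rw [← this]
      group
    · show ((x : ↥V) : X) ∈ Subgroup.centralizer ({(c : X)} : Set X)
      rw [Subgroup.mem_centralizer_singleton_iff]
      have := congrArg Subtype.val (mem_fixS.1 x.2)
      rw [hact] at this
      calc ((x : ↥V) : X) * (c : X) = ((c : X) * ((x : ↥V) : X) * (c : X)⁻¹) * (c : X) := by
            rw [this]
        _ = (c : X) * ((x : ↥V) : X) := by group
  rw [hcard]
  exact h6 c

end Cfsg.Agent.Helper8.KGV
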