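import Mathlib
import Cfsg.Prelude.Def_Characters
import Cfsg.Agent.Lib.Helper8.KGVDefs
import Cfsg.Agent.Lib.Helper24.CharComplete

/-!
# Piece D of S4958 (helper8's Knörr farm-out): second orthogonality on a section (helper25)
-/

set_option autoImplicit false
set_option linter.unusedVariables false
set_option linter.style.haveILetI false
set_option linter.unusedSectionVars false

namespace Cfsg.Agent.Helper8.KGV

open Cfsg Cfsg.Agent.Helper24
open scoped ComplexConjugate Classical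

universe u

section D

variable {X : Type u} [Group X]

/-- exponents splitting a product of commuting elements of coprime orders. -/
theorem sd_exists_exp {p m : ℕ} (hpm : Nat.Coprime p m) :
    ∃ e e' : ℕ, ∀ a b : X, a * b = b * a → a ^ p = 1 → b ^ m = 1 →
      (a * b) ^ e = b ∧ (a * b) ^ e' = a := by
  obtain ⟨e, he0, he1⟩ := Nat.chineseRemainder hpm 0 1
  obtain ⟨e', he1', he0'⟩ := Nat.chineseRemainder hpm 1 0
  refine ⟨e, e', ?_⟩
  intro a b hab ha hb
  have hc : Commute a b := hab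
  constructor
  · rw [hc.mul_pow]
    have h1 : a ^ e = 1 := by
      rw [pow_eq_pow_mod e ha, he0, Nat.zero_mod, pow_zero]
    have h2 : b ^ e = b := by
      rw [pow_eq_pow_mod e hb, he1, ← pow_eq_pow_mod 1 hb, pow_one]
    rw [h1, h2, one_mul]
  · rw [hc.mul_pow]
    have h1 : a ^ e' = a := by
      rw [pow_eq_pow_mod e' ha, he1', ← pow_eq_pow_mod 1 ha, pow_one]
    have h2 : b ^ e' = 1 := by
      rw [pow_eq_pow_mod e' hb, he0', Nat.zero_mod, pow_zero]
    rw [h1, h2, mul_one]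

/-- `v` is a power of `v ^ k`. -/
theorem sd_pow_back {p : ℕ} (hp : p.Prime) {k : ℕ} (hk : ¬ p ∣ k) {v : X} (hv : v ^ p = 1) :
    ∃ k' : ℕ, (v ^ k) ^ k' = v := by
  have hcop : Nat.Coprime k p := ((Nat.Prime.coprime_iff_not_dvd hp).2 hk).symm
  obtain ⟨k', -, hk'⟩ := Nat.exists_mul_mod_eq_one_of_coprime hcop hp.one_lt
  refine ⟨k', ?_⟩
  rw [← pow_mul, pow_eq_pow_mod (k * k') hv, hk', pow_one]

/-- the `G`-part of an element of `V G` centralizing `v ∈ V` centralizes `v`. -/
theorem sd_mem_C {V : Subgroup X} [V.Normal] (hVab : ∀ a ∈ V, ∀ b ∈ V, a * b = b * a)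
    {v : X} (hv : v ∈ V) {w g : X} (hw : w ∈ V) (hx : (w * g) * v = v * (w * g)) :
    g * v = v * g := by
  have h1 : g * v * g⁻¹ ∈ V := (inferInstance : V.Normal).conj_mem v hv g
  have h2 : w * (g * v * g⁻¹) = (g * v * g⁻¹) * w := hVab _ hw _ h1
  have h3 : w * (g * v * g⁻¹) = v * w := by
    calc w * (g * v * g⁻¹) = (w * g * v) * g⁻¹ := by group
      _ = v * (w * g) * g⁻¹ := by rw [hx]
      _ = v * w := by group
  have h4 : g * v * g⁻¹ * w = v * w := h2.symm.trans h3
  have h5 : g * v * g⁻¹ = v := mul_right_cancel h4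
  calc g * v = g * v * g⁻¹ * g := by group
    _ = v * g := by rw [h5]

end D

section D12

variable {X : Type u} [Group X] [Finite X] (p : ℕ) [Fact p.Prime] (V : Subgroup X) [V.Normal]
  (hVexp : ∀ w ∈ V, w ^ p = 1) (hidx : ¬ p ∣ V.index)
  (hVab : ∀ a ∈ V, ∀ b ∈ V, a * b = b * a) (G : Subgroup X)
  (hGV : Subgroup.IsComplement' V G) (v : X) (hv : v ∈ V)
  (hab : ∀ a ∈ G ⊓ Subgroup.centralizer ({v} : Set X),
    ∀ b ∈ G ⊓ Subgroup.centralizer ({v} : Set X), a * b = b * a)
  (k : ℕ) (hk : ¬ p ∣ k)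

include hVexp hidx hVab hGV hv hab hk

/-- the exponents. -/
theorem sd_exps : ∃ e e' : ℕ, ∀ c ∈ G ⊓ Subgroup.centralizer ({v} : Set X),
    (v ^ k * c) ^ e = c ∧ (v ^ k * c) ^ e' = v ^ k := by
  have hp : p.Prime := Fact.out
  have hGcard : V.index = Nat.card G := hGV.symm.index_eq_card
  have hcop : Nat.Coprime p (Nat.card ↥(G ⊓ Subgroup.centralizer ({v} : Set X))) := by
    rw [Nat.Prime.coprime_iff_not_dvd hp]
    intro h
    apply hidx
    rw [hGcard]
    exact h.trans (Subgroup.card_dvd_of_le inf_le_left)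
  obtain ⟨e, e', hee⟩ := sd_exists_exp (X := X) hcop
  refine ⟨e, e', ?_⟩
  intro c hc
  have hcv : c * v = v * c := Subgroup.mem_centralizer_singleton_iff.1 hc.2
  have h1 : v ^ k * c = c * v ^ k := by
    have : Commute c v := hcv
    exact (this.pow_right k).symm
  have h2 : (v ^ k) ^ p = 1 := by
    rw [← pow_mul, mul_comm, pow_mul, hVexp v hv, one_pow]
  have h3 : c ^ Nat.card ↥(G ⊓ Subgroup.centralizer ({v} : Set X)) = 1 := by
    have := pow_card_eq_one' (x := (⟨c, hc⟩ : ↥(G ⊓ Subgroup.centralizer ({v} : Set X))))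
    exact congrArg Subtype.val this
  exact hee (v ^ k) c h1 h2 h3

/-- commuting with `v ^ k * c` is commuting with `v` and `c`. -/
theorem sd_comm_iff {c : X} (hc : c ∈ G ⊓ Subgroup.centralizer ({v} : Set X)) (x : X) :
    x * (v ^ k * c) = (v ^ k * c) * x ↔ (x * v = v * x ∧ x * c = c * x) := by
  have hp : p.Prime := Fact.out
  obtain ⟨e, e', hee⟩ := sd_exps p V hVexp hidx hVab G hGV v hv hab k hk
  obtain ⟨k', hk'⟩ := sd_pow_back hp hk (hVexp v hv)
  constructor
  · intro h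
    have hc1 : Commute x (v ^ k * c) := h
    have h1 : Commute x c := by
      have := hc1.pow_right e
      rwa [(hee c hc).1] at this
    have h2 : Commute x (v ^ k) := by
      have := hc1.pow_right e'
      rwa [(hee c hc).2] at this
    have h3 : Commute x v := by
      have := h2.pow_right k'
      rwa [hk'] at this
    exact ⟨h3, h1⟩
  · rintro ⟨h1, h2⟩
    have h3 : Commute x v := h1
    have h4 : Commute x c := h2
    exact (h3.pow_right k).mul_right h4

/-- (D1). -/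
theorem sd_D1 {c c' : X} (hc : c ∈ G ⊓ Subgroup.centralizer ({v} : Set X))
    (hc' : c' ∈ G ⊓ Subgroup.centralizer ({v} : Set X))
    (h : IsConj (v ^ k * c') (v ^ k * c)) : c' = c := by
  have hp : p.Prime := Fact.out
  obtain ⟨e, e', hee⟩ := sd_exps p V hVexp hidx hVab G hGV v hv hab k hk
  obtain ⟨k', hk'⟩ := sd_pow_back hp hk (hVexp v hv)
  obtain ⟨x, hx⟩ := isConj_iff.1 h
  have h1 : x * c' * x⁻¹ = c := by
    have := congrArg (· ^ e) hx
    beta_reduce at this
    rwa [conj_pow, (hee c' hc').1, (hee c hc).1] at this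
  have h2 : x * v ^ k * x⁻¹ = v ^ k := by
    have := congrArg (· ^ e') hx
    beta_reduce at this
    rwa [conj_pow, (hee c' hc').2, (hee c hc).2] at this
  have h3 : x * v * x⁻¹ = v := by
    have := congrArg (· ^ k') h2
    beta_reduce at this
    rwa [conj_pow, hk'] at this
  have h4 : x * v = v * x := by
    calc x * v = x * v * x⁻¹ * x := by group
      _ = v * x := by rw [h3]
  obtain ⟨⟨⟨w, hw⟩, ⟨g, hg⟩⟩, hwg, -⟩ := hGV.existsUnique x
  simp only at hwg
  have hw' : w ∈ V := hw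
  have hg' : g ∈ G := hg
  subst hwg
  have hgv : g * v = v * g := sd_mem_C hVab hv hw' h4
  have hgC : g ∈ G ⊓ Subgroup.centralizer ({v} : Set X) :=
    ⟨hg', Subgroup.mem_centralizer_singleton_iff.2 hgv⟩
  have h5 : g * c' = c' * g := hab g hgC c' hc'
  have h6 : w * c' * w⁻¹ = c := by
    rw [← h1]
    calc w * c' * w⁻¹ = w * (c' * g) * g⁻¹ * w⁻¹ := by group
      _ = w * (g * c') * g⁻¹ * w⁻¹ := by rw [h5]
      _ = w * g * c' * (w * g)⁻¹ := by group
  have h7 : c'⁻¹ * c ∈ V := by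
    rw [← h6]
    have : c'⁻¹ * (w * c' * w⁻¹) = (c'⁻¹ * w * c'⁻¹⁻¹) * w⁻¹ := by group
    rw [this]
    exact V.mul_mem ((inferInstance : V.Normal).conj_mem w hw' _) (V.inv_mem hw')
  have h8 : c'⁻¹ * c ∈ G := G.mul_mem (G.inv_mem hc'.1) hc.1
  have h9 := (Subgroup.disjoint_def.1 hGV.disjoint) h7 h8
  calc c' = c' * (c'⁻¹ * c) := by rw [h9, mul_one]
    _ = c := by group

/-- (D2). -/
theorem sd_D2 {c : X} (hc : c ∈ G ⊓ Subgroup.centralizer ({v} : Set X)) :
    Nat.card ↥(Subgroup.centralizer ({v ^ k * c} : Set X)) =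
      Nat.card ↥(G ⊓ Subgroup.centralizer ({v} : Set X)) *
        Nat.card ↥(V ⊓ Subgroup.centralizer ({c} : Set X)) := by
  have hiff := sd_comm_iff p V hVexp hidx hVab G hGV v hv hab k hk hc
  have hmem : ∀ (w : ↥(V ⊓ Subgroup.centralizer ({c} : Set X)))
      (g : ↥(G ⊓ Subgroup.centralizer ({v} : Set X))),
      (w : X) * (g : X) ∈ Subgroup.centralizer ({v ^ k * c} : Set X) := by
    intro w g
    rw [Subgroup.mem_centralizer_singleton_iff, hiff]
    have hwV : (w : X) ∈ V := w.2.1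
    have hwc : (w : X) * c = c * (w : X) := Subgroup.mem_centralizer_singleton_iff.1 w.2.2
    have hgv : (g : X) * v = v * (g : X) := Subgroup.mem_centralizer_singleton_iff.1 g.2.2
    have hgc : (g : X) * c = c * (g : X) := hab _ g.2 c hc
    have hwv : (w : X) * v = v * (w : X) := hVab _ hwV v hv
    constructor
    · rw [mul_assoc, hgv, ← mul_assoc, hwv, mul_assoc]
    · rw [mul_assoc, hgc, ← mul_assoc, hwc, mul_assoc]
  let f : ↥(V ⊓ Subgroup.centralizer ({c} : Set X)) × ↥(G ⊓ Subgroup.centralizer ({v} : Set X)) →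
      ↥(Subgroup.centralizer ({v ^ k * c} : Set X)) := fun wg => ⟨(wg.1 : X) * (wg.2 : X), hmem wg.1 wg.2⟩
  have hinj : Function.Injective f := by
    rintro ⟨w, g⟩ ⟨w', g'⟩ h
    have h1 : (w : X) * (g : X) = (w' : X) * (g' : X) := congrArg Subtype.val h
    have h2 : (w' : X)⁻¹ * (w : X) = (g' : X) * (g : X)⁻¹ := by
      calc (w' : X)⁻¹ * (w : X) = (w' : X)⁻¹ * ((w : X) * (g : X)) * (g : X)⁻¹ := by group
        _ = (w' : X)⁻¹ * ((w' : X) * (g' : X)) * (g : X)⁻¹ := by rw [h1]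
        _ = (g' : X) * (g : X)⁻¹ := by group
    have h3 : (w' : X)⁻¹ * (w : X) ∈ V := V.mul_mem (V.inv_mem w'.2.1) w.2.1
    have h4 : (w' : X)⁻¹ * (w : X) ∈ G := by
      rw [h2]
      exact G.mul_mem g'.2.1 (G.inv_mem g.2.1)
    have h5 := (Subgroup.disjoint_def.1 hGV.disjoint) h3 h4
    have h6 : (w : X) = (w' : X) := by
      calc (w : X) = (w' : X) * ((w' : X)⁻¹ * (w : X)) := by group
        _ = (w' : X) := by rw [h5, mul_one]
    have h7 : (g : X) = (g' : X) := by
      rw [h6] at h1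
      exact mul_left_cancel h1
    exact Prod.ext (Subtype.ext h6) (Subtype.ext h7)
  have hsurj : Function.Surjective f := by
    rintro ⟨x, hx⟩
    rw [Subgroup.mem_centralizer_singleton_iff, hiff] at hx
    obtain ⟨hxv, hxc⟩ := hx
    obtain ⟨⟨⟨w, hw⟩, ⟨g, hg⟩⟩, hwg, -⟩ := hGV.existsUnique x
    simp only at hwg
    have hw' : w ∈ V := hw
    have hg' : g ∈ G := hg
    subst hwg
    have hgv : g * v = v * g := sd_mem_C hVab hv hw' hxv
    have hgC : g ∈ G ⊓ Subgroup.centralizer ({v} : Set X) :=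
      ⟨hg', Subgroup.mem_centralizer_singleton_iff.2 hgv⟩
    have hgc : g * c = c * g := hab g hgC c hc
    have hwc : w * c = c * w := by
      have h1 : w * c * g = c * w * g := by
        calc w * c * g = w * (c * g) := by group
          _ = w * (g * c) := by rw [hgc]
          _ = w * g * c := by group
          _ = c * (w * g) := hxc
          _ = c * w * g := by group
      exact mul_right_cancel h1
    refine ⟨(⟨w, ⟨hw', Subgroup.mem_centralizer_singleton_iff.2 hwc⟩⟩, ⟨g, hgC⟩), ?_⟩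
    exact Subtype.ext rfl
  rw [← Nat.card_congr (Equiv.ofBijective f ⟨hinj, hsurj⟩), Nat.card_prod, mul_comm]

end D12

/-- PIECE D. -/
theorem section_orthogonality {X : Type u} [Group X] [Fintype X] [Fintype (IrrCharacter X)]
    (p : ℕ) [Fact p.Prime] (V : Subgroup X) [V.Normal] (hVexp : ∀ w ∈ V, w ^ p = 1)
    (hidx : ¬ p ∣ V.index) (hVab : ∀ a ∈ V, ∀ b ∈ V, a * b = b * a) (G : Subgroup X)
    (hGV : Subgroup.IsComplement' V G) (v : X) (hv : v ∈ V)
    (hab : ∀ a ∈ G ⊓ Subgroup.centralizer ({v} : Set X),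
      ∀ b ∈ G ⊓ Subgroup.centralizer ({v} : Set X), a * b = b * a)
    [Fintype ↥(G ⊓ Subgroup.centralizer ({v} : Set X))]
    (k : ℕ) (hk : ¬ p ∣ k) (δ : ↥(G ⊓ Subgroup.centralizer ({v} : Set X)) → ℂ) :
    ∑ χ : IrrCharacter X,
        ‖(Fintype.card ↥(G ⊓ Subgroup.centralizer ({v} : Set X)) : ℂ)⁻¹ *
          ∑ c : ↥(G ⊓ Subgroup.centralizer ({v} : Set X)),
            (χ : X → ℂ) (v ^ k * (c : X)) * δ c‖ ^ 2 =
      (Fintype.card ↥(G ⊓ Subgroup.centralizer ({v} : Set X)) : ℝ)⁻¹ *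
        ∑ c : ↥(G ⊓ Subgroup.centralizer ({v} : Set X)),
          (Nat.card ↥(V ⊓ Subgroup.centralizer ({(c : X)} : Set X)) : ℝ) * ‖δ c‖ ^ 2 := by
  set m : ℕ := Fintype.card ↥(G ⊓ Subgroup.centralizer ({v} : Set X)) with hm
  have hmcard : Nat.card ↥(G ⊓ Subgroup.centralizer ({v} : Set X)) = m :=
    Nat.card_eq_fintype_card
  have hmpos : 0 < m := Fintype.card_pos
  have hmR : (m : ℝ) ≠ 0 := by exact_mod_cast hmpos.ne'
  set S : IrrCharacter X → ℂ := fun χ =>
    ∑ c : ↥(G ⊓ Subgroup.centralizer ({v} : Set X)), (χ : X → ℂ) (v ^ k * (c : X)) * δ c with hS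
  have step1 : ∀ χ : IrrCharacter X, ‖(m : ℂ)⁻¹ * S χ‖ ^ 2 = ((m : ℝ)⁻¹) ^ 2 * ‖S χ‖ ^ 2 := by
    intro χ
    rw [norm_mul, norm_inv, Complex.norm_natCast, mul_pow]
  have key : ∑ χ : IrrCharacter X, ‖S χ‖ ^ 2 =
      (m : ℝ) * ∑ c : ↥(G ⊓ Subgroup.centralizer ({v} : Set X)),
        (Nat.card ↥(V ⊓ Subgroup.centralizer ({(c : X)} : Set X)) : ℝ) * ‖δ c‖ ^ 2 := by
    have hC : ((∑ χ : IrrCharacter X, ‖S χ‖ ^ 2 : ℝ) : ℂ) =
        (((m : ℝ) * ∑ c : ↥(G ⊓ Subgroup.centralizer ({v} : Set X)),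
          (Nat.card ↥(V ⊓ Subgroup.centralizer ({(c : X)} : Set X)) : ℝ) * ‖δ c‖ ^ 2 : ℝ) : ℂ) := by
      have h1 : ∀ χ : IrrCharacter X, ((‖S χ‖ : ℝ) : ℂ) ^ 2 =
          ∑ c : ↥(G ⊓ Subgroup.centralizer ({v} : Set X)),
            ∑ c' : ↥(G ⊓ Subgroup.centralizer ({v} : Set X)),
              (δ c * conj (δ c')) * ((χ : X → ℂ) (v ^ k * (c : X)) *
                conj ((χ : X → ℂ) (v ^ k * (c' : X)))) := by
        intro χ
        rw [← Complex.ofReal_pow, ← Complex.normSq_eq_norm_sq, ← Complex.mul_conj, hS]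
        simp only [map_sum]
        rw [Finset.sum_mul_sum]
        refine Finset.sum_congr rfl fun c _ => Finset.sum_congr rfl fun c' _ => ?_
        rw [map_mul]
        ring
      push_cast
      rw [Finset.sum_congr rfl fun χ _ => h1 χ]
      rw [Finset.sum_comm]
      rw [Finset.mul_sum]
      refine Finset.sum_congr rfl fun c _ => ?_
      rw [Finset.sum_comm]
      have h2 : ∀ c' : ↥(G ⊓ Subgroup.centralizer ({v} : Set X)),
          ∑ χ : IrrCharacter X, (δ c * conj (δ c')) * ((χ : X → ℂ) (v ^ k * (c : X)) *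
                conj ((χ : X → ℂ) (v ^ k * (c' : X)))) =
            if c' = c then (δ c * conj (δ c)) * ((m : ℂ) *
              (Nat.card ↥(V ⊓ Subgroup.centralizer ({(c : X)} : Set X)) : ℂ)) else 0 := by
        intro c'
        rw [← Finset.mul_sum, second_orthogonality']
        by_cases hcc : c' = c
        · subst hcc
          rw [if_pos rfl, if_pos (IsConj.refl _),
            sd_D2 p V hVexp hidx hVab G hGV v hv hab k hk c'.2, hmcard]
          push_cast
          ring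
        · rw [if_neg hcc, if_neg, mul_zero]
          intro hconj
          apply hcc
          exact Subtype.ext (sd_D1 p V hVexp hidx hVab G hGV v hv hab k hk c.2 c'.2 hconj)
      rw [Finset.sum_congr rfl fun c' _ => h2 c']
      rw [Finset.sum_ite_eq' Finset.univ c, if_pos (Finset.mem_univ c)]
      rw [Complex.mul_conj, Complex.normSq_eq_norm_sq]
      push_cast
      ring
    exact_mod_cast hC
  rw [Finset.sum_congr rfl fun χ _ => step1 χ, ← Finset.mul_sum, key]
  field_simp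

end Cfsg.Agent.Helper8.KGV
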