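import Mathlib
import Cfsg.Prelude.Def_Sporadic
import Cfsg.Prelude.Def_Spor_Mathieu
import Cfsg.Agent.Lib.Helper17.M11Asm2

/-!
# M11Rec, piece MIDX: indices of the centralizers of elements of prime order in a simple group of
order `7920` (from helper17's M11 library).
-/

set_option autoImplicit false

universe u

namespace Cfsg.Agent.Helper6.M11Rec

namespace MIDX

/-- the centralizer of an element is the centralizer of the cyclic group it generates -/
theorem centralizer_singleton_eq_zpowers {G : Type*} [Group G] (w : G) :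
    Subgroup.centralizer ({w} : Set G) =
      Subgroup.centralizer ((Subgroup.zpowers w : Subgroup G) : Set G) := by
  ext g
  rw [Subgroup.mem_centralizer_iff, Subgroup.mem_centralizer_iff]
  constructor
  · intro h x hx
    obtain ⟨k, rfl⟩ := Subgroup.mem_zpowers_iff.1 hx
    have hc : Commute w g := h w (Set.mem_singleton w)
    exact (hc.zpow_left k).eq
  · intro h x hx
    rw [Set.mem_singleton_iff] at hx
    subst hx
    exact h x (Subgroup.mem_zpowers x)

/-- index from the order -/
theorem index_of_card {G : Type*} [Group G] [Finite G] (H : Subgroup G) (n c d : ℕ)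
    (hG : Nat.card G = n) (hH : Nat.card H = c) (hc : 0 < c) (hn : n = c * d) : H.index = d := by
  have h := H.card_mul_index
  rw [hG, hH, hn] at h
  exact Nat.eq_of_mul_eq_mul_left hc h

/-- a cyclic group of prime order `p` generated by `w` is equal to any Sylow `p`-subgroup of order
`p` containing it -/
theorem zpowers_eq_sylow {G : Type*} [Group G] [Finite G] (p : ℕ) [Fact p.Prime] (w : G)
    (hw : orderOf w = p) (hS : ∀ Q : Sylow p G, Nat.card (Q : Subgroup G) = p) :
    ∃ Q : Sylow p G, (Q : Subgroup G) = Subgroup.zpowers w := by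
  have hp : IsPGroup p (Subgroup.zpowers w) := by
    apply IsPGroup.of_card (n := 1)
    rw [Nat.card_zpowers, hw, pow_one]
  obtain ⟨Q, hQ⟩ := hp.exists_le_sylow
  refine ⟨Q, ?_⟩
  symm
  apply Subgroup.eq_of_le_of_card_ge hQ
  rw [hS Q, Nat.card_zpowers, hw]

end MIDX

open Cfsg Cfsg.Agent.Helper24 Cfsg.Agent.Helper17.M11 in
/-- PIECE MIDX. -/
theorem index_centralizer_facts {M : Type u} [Group M] [Fintype M] (hs : IsSimpleGroup M)
    (hM : Nat.card M = 7920) :
    (∀ w : M, orderOf w = 2 → (Subgroup.centralizer ({w} : Set M)).index = 165) ∧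
    (∀ w : M, orderOf w = 3 → (Subgroup.centralizer ({w} : Set M)).index = 440) ∧
    (∀ w : M, orderOf w = 5 → (Subgroup.centralizer ({w} : Set M)).index = 1584) ∧
    (∀ w : M, orderOf w = 11 → (Subgroup.centralizer ({w} : Set M)).index = 720) := by
  classical
  have h11 : ∀ P' : Sylow 11 M,
      Subgroup.centralizer ((P' : Subgroup M) : Set M) = (P' : Subgroup M) :=
    fun P' => (syl11 hs hM P').2.1
  have h5 : ∀ Q' : Sylow 5 M,
      Subgroup.centralizer ((Q' : Subgroup M) : Set M) = (Q' : Subgroup M) :=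
    fun Q' => (syl5_all hs hM Q').2.1
  refine ⟨?_, ?_, ?_, ?_⟩
  · intro w hw
    exact MIDX.index_of_card _ 7920 48 165 hM (card_centralizer_invol_main hs hM hw)
      (by norm_num) (by norm_num)
  · intro w hw
    obtain ⟨P⟩ : Nonempty (Sylow 11 M) := inferInstance
    obtain ⟨Q⟩ : Nonempty (Sylow 5 M) := inferInstance
    obtain ⟨T⟩ := main_ct hs hM P Q
    have h18 := (ord3_values hM h11 h5 T hw).1
    exact MIDX.index_of_card _ 7920 18 440 hM h18 (by norm_num) (by norm_num)
  · intro w hw
    haveI : Fact (Nat.Prime 5) := ⟨by norm_num⟩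
    obtain ⟨Q, hQ⟩ := MIDX.zpowers_eq_sylow 5 w hw (fun Q => (syl5_all hs hM Q).1)
    have hc : Nat.card (Subgroup.centralizer ({w} : Set M)) = 5 := by
      rw [MIDX.centralizer_singleton_eq_zpowers, ← hQ, h5 Q]
      exact (syl5_all hs hM Q).1
    exact MIDX.index_of_card _ 7920 5 1584 hM hc (by norm_num) (by norm_num)
  · intro w hw
    haveI : Fact (Nat.Prime 11) := ⟨by norm_num⟩
    obtain ⟨P, hP⟩ := MIDX.zpowers_eq_sylow 11 w hw (fun P => (syl11 hs hM P).1)
    have hc : Nat.card (Subgroup.centralizer ({w} : Set M)) = 11 := by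
      rw [MIDX.centralizer_singleton_eq_zpowers, ← hP, h11 P]
      exact (syl11 hs hM P).1
    exact MIDX.index_of_card _ 7920 11 720 hM hc (by norm_num) (by norm_num)

end Cfsg.Agent.Helper6.M11Rec
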