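import Mathlib
import Cfsg.Agent.Lib.Helper3.M24IdxDefs

/-!
# S1589 piece IDX-F11 (helper25): an element of order 11 of the group of the length-24 code
fixes exactly two points.  Same pattern as `IdxTools.ord7_fixed_card` / `S5604.exists_conj`.
-/

set_option autoImplicit false
open Cfsg

namespace Cfsg.Agent.Helper3.M24Idx

open Cfsg.Agent.Helper27 Cfsg.Agent.Helper29 Cfsg.Agent.Helper29.M24
open Cfsg.Agent.Helper29.M23Idx
open Cfsg.Agent.Helper29.IdxTools
open Cfsg.Agent.S0358 (idx)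
open scoped Pointwise

/-- a word for an element of order eleven -/
def m24idx_f11_w : List ℕ := [3]

theorem m24idx_f11_w_lt : ∀ l ∈ m24idx_f11_w, l < ngen := by decide

/-- the standard element of order eleven -/
def m24idx_f11_s : Equiv.Perm GolayPt := evalW m24idx_f11_w

theorem m24idx_f11_s_mem : m24idx_f11_s ∈ Cfsg.M24 := evalW_mem_M24 m24idx_f11_w m24idx_f11_w_lt

theorem m24idx_f11_fix :
    ∀ x < 24, (appW m24idx_f11_w x = x ↔ (8388609 : ℕ).testBit x = true) := by
  decide +kernel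

theorem m24idx_f11_fixed :
    (Finset.univ.filter fun p => m24idx_f11_s p = p) = maskSet 8388609 := by
  ext p
  unfold m24idx_f11_s
  rw [Finset.mem_filter, mem_maskSet, evalW_apply_eq_iff m24idx_f11_w m24idx_f11_w_lt]
  simp only [Finset.mem_univ, true_and]
  exact m24idx_f11_fix _ (M24.idx_lt p)

theorem m24idx_f11_fixed_card : (Finset.univ.filter fun p => m24idx_f11_s p = p).card = 2 := by
  rw [m24idx_f11_fixed, card_maskSet]
  decide +kernel

theorem m24idx_f11_fact : Fact (Nat.Prime 11) := ⟨by norm_num⟩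

theorem m24idx_f11_factorization : (244823040 : ℕ).factorization 11 = 1 := by
  have h : (244823040 : ℕ) = 11 * 22256640 := by norm_num
  rw [h, Nat.factorization_mul (by norm_num) (by norm_num)]
  have h11 : Nat.Prime 11 := by norm_num
  rw [Finsupp.add_apply, h11.factorization_self,
    Nat.factorization_eq_zero_of_not_dvd (by norm_num)]

theorem m24idx_f11_s_pow : m24idx_f11_s ^ 11 = 1 := by
  unfold m24idx_f11_s
  rw [← evalW_powW]
  have := evalW_eq_of_appW (powW m24idx_f11_w 11) []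
    (powW_lt m24idx_f11_w m24idx_f11_w_lt 11) (fun l hl => by simp at hl)
    (by decide +kernel)
  rw [this]
  rfl

theorem m24idx_f11_s_ne_one : m24idx_f11_s ≠ 1 := by
  intro h
  have h1 := m24idx_f11_fixed_card
  rw [h] at h1
  have h2 : (Finset.univ.filter fun p : GolayPt => (1 : Equiv.Perm GolayPt) p = p) =
      Finset.univ := by
    ext p
    simp
  rw [h2, card_univ_pt] at h1
  omega

/-- the standard element of order eleven, in the group -/
def m24idx_f11_s0 : ↥Cfsg.M24 := ⟨m24idx_f11_s, m24idx_f11_s_mem⟩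

theorem m24idx_f11_orderOf_s0 : orderOf m24idx_f11_s0 = 11 := by
  have := m24idx_f11_fact
  apply orderOf_eq_prime
  · apply Subtype.ext
    exact m24idx_f11_s_pow
  · intro h
    exact m24idx_f11_s_ne_one (congrArg Subtype.val h)

/-- a subgroup of order eleven is generated by a conjugate of the standard element -/
theorem m24idx_f11_exists_conj (S : Subgroup ↥Cfsg.M24) (hS : Nat.card S = 11) :
    ∃ g : ↥Cfsg.M24, g * m24idx_f11_s0 * g⁻¹ ∈ S ∧
      S = Subgroup.zpowers (g * m24idx_f11_s0 * g⁻¹) := by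
  have := m24idx_f11_fact
  have := Cfsg.Agent.S5604.finite_M24
  have hc0 : Nat.card (Subgroup.zpowers m24idx_f11_s0) = 11 := by
    rw [Nat.card_zpowers, m24idx_f11_orderOf_s0]
  let P0 : Sylow 11 ↥Cfsg.M24 := Sylow.ofCard (Subgroup.zpowers m24idx_f11_s0)
    (by rw [hc0, card_M24, m24idx_f11_factorization, pow_one])
  let P : Sylow 11 ↥Cfsg.M24 := Sylow.ofCard S
    (by rw [hS, card_M24, m24idx_f11_factorization, pow_one])
  obtain ⟨g, hg⟩ := MulAction.exists_smul_eq ↥Cfsg.M24 P0 P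
  have h1 : (P : Subgroup ↥Cfsg.M24) = MulAut.conj g • (P0 : Subgroup ↥Cfsg.M24) := by
    rw [← hg]
    exact Sylow.coe_subgroup_smul
  have h2 : (P : Subgroup ↥Cfsg.M24) = S := rfl
  have h3 : (P0 : Subgroup ↥Cfsg.M24) = Subgroup.zpowers m24idx_f11_s0 := rfl
  rw [h2, h3] at h1
  have hmem : g * m24idx_f11_s0 * g⁻¹ ∈ S := by
    rw [h1]
    have : MulAut.conj g • m24idx_f11_s0 ∈ MulAut.conj g • Subgroup.zpowers m24idx_f11_s0 :=
      Subgroup.smul_mem_pointwise_smul _ _ _ (Subgroup.mem_zpowers m24idx_f11_s0)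
    exact this
  refine ⟨g, hmem, ?_⟩
  have hord : orderOf (g * m24idx_f11_s0 * g⁻¹) = 11 := by
    have := orderOf_injective (MulAut.conj g).toMonoidHom (MulAut.conj g).injective
      m24idx_f11_s0
    rw [← m24idx_f11_orderOf_s0, ← this]
    rfl
  symm
  apply Subgroup.eq_of_le_of_card_ge
  · rw [Subgroup.zpowers_le]
    exact hmem
  · rw [hS, Nat.card_zpowers, hord]

/-- IDX-F11 -/
theorem ord11_fixed_card (t : Equiv.Perm GolayPt) (ht : t ∈ Cfsg.M24) (h11 : orderOf t = 11) :
    (fixF t).card = 2 := by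
  have := m24idx_f11_fact
  have := Cfsg.Agent.S5604.finite_M24
  have ho : orderOf (⟨t, ht⟩ : ↥Cfsg.M24) = 11 := by
    rw [← h11]
    exact Subgroup.orderOf_mk t ht
  have hc : Nat.card (Subgroup.zpowers (⟨t, ht⟩ : ↥Cfsg.M24)) = 11 := by
    rw [Nat.card_zpowers, ho]
  obtain ⟨g, hgm, hS⟩ := m24idx_f11_exists_conj (Subgroup.zpowers (⟨t, ht⟩ : ↥Cfsg.M24)) hc
  have h1 : (⟨t, ht⟩ : ↥Cfsg.M24) ∈ Subgroup.zpowers (g * m24idx_f11_s0 * g⁻¹) := by
    rw [← hS]
    exact Subgroup.mem_zpowers _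
  obtain ⟨k, hk⟩ := Subgroup.mem_zpowers_iff.1 hgm
  obtain ⟨l, hl⟩ := Subgroup.mem_zpowers_iff.1 h1
  have hk' : t ^ k =
      (g : Equiv.Perm GolayPt) * m24idx_f11_s * (g : Equiv.Perm GolayPt)⁻¹ := by
    have := congrArg (Subtype.val : ↥Cfsg.M24 → Equiv.Perm GolayPt) hk
    simpa [m24idx_f11_s0] using this
  have hl' : ((g : Equiv.Perm GolayPt) * m24idx_f11_s * (g : Equiv.Perm GolayPt)⁻¹) ^ l = t := by
    have := congrArg (Subtype.val : ↥Cfsg.M24 → Equiv.Perm GolayPt) hl
    simpa [m24idx_f11_s0] using this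
  have e : fixF t =
      fixF ((g : Equiv.Perm GolayPt) * m24idx_f11_s * (g : Equiv.Perm GolayPt)⁻¹) := by
    ext p
    rw [mem_fixF, mem_fixF]
    constructor
    · intro h
      rw [← hk']
      exact Equiv.Perm.zpow_apply_eq_self_of_apply_eq_self h k
    · intro h
      rw [← hl']
      exact Equiv.Perm.zpow_apply_eq_self_of_apply_eq_self h l
  rw [e, fixF_conj, Finset.card_smul_finset]
  exact m24idx_f11_fixed_card

end Cfsg.Agent.Helper3.M24Idx
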