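import Mathlib
import Cfsg.Agent.Lib.Helper25.MANNA4Core
import Cfsg.Agent.Lib.Helper10.MannChain

/-!
# S4009 (Mann's bound), piece MANN-A4 (helper25): `cyc_of_minimal`
-/

set_option autoImplicit false

namespace Cfsg.Agent.Helper10.Mann

open scoped commutatorElement

variable {G : Type*} [Group G]

section level

variable [Finite G] {p : ℕ} [Fact p.Prime]

theorem cyc_of_minimal (hG : IsPGroup p G) (H : Subgroup G) [H.Normal] (e : ℕ)
    (hH : H ≤ (⊤ : Subgroup G).lowerCentralSeries e) (hne : ⁅H, H⁆ ≠ ⊥)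
    (hcard : (⁅H, H⁆).relIndex H = p ^ (e + 2)) :
    ∃ w ∈ ⁅H, H⁆, ⁅H, H⁆ = Subgroup.zpowers w ⊔ ⁅⁅H, H⁆, (⊤ : Subgroup G)⁆ :=
  cyc_of_minimal_core hG (fun H N _ _ i j hij h => chain_dvd hG H N i j hij h)
    (fun H _ h => top_dvd_of_not_cycTop hG H h)
    (fun hAB h => exists_gen_of_relIndex_prime hAB h)
    (fun hAB h => exists_two_gen_of_relIndex_sq hAB h) H e hH hne hcard

end level

end Cfsg.Agent.Helper10.Mann
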