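import Mathlib
import Cfsg.Agent.Lib.Helper8.MXDefs
import Cfsg.Agent.Lib.Helper1.FpfPair
import Cfsg.Agent.Lib.Helper1.CyclicCriterion

/-!
# S4756 piece CYC (helper25 for helper8): an abelian `p'`-group acting fixed-point-freely on a
nontrivial normal `p`-subgroup is cyclic.
-/

set_option autoImplicit false

namespace Cfsg.Agent.Helper8.MX

universe u

variable {G : Type u} [Group G] [Finite G]

/-- PIECE CYC. An abelian `p'`-group acting (by conjugation) on a nontrivial normal `p`-subgroup
`D` with every nonidentity element fixed-point-free is cyclic. -/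
theorem isCyclic_of_fpf (p : ℕ) [Fact p.Prime] (A D : Subgroup G) [D.Normal]
    (hA : ∀ a ∈ A, ∀ b ∈ A, a * b = b * a) (hD : IsPGroup p D) (hDne : D ≠ ⊥)
    (hcop : (Nat.card A).Coprime p)
    (hfpf : ∀ a ∈ A, a ≠ 1 → ∀ d ∈ D, a * d = d * a → d = 1) : IsCyclic A := by
  classical
  apply Cfsg.Agent.Helper1.isCyclic_of_comm_of_unique
  · intro a b
    exact Subtype.ext (hA a.1 a.2 b.1 b.2)
  · intro r hr x y hx hy
    by_contra hy'
    haveI : Fact r.Prime := ⟨hr⟩
    -- r ≠ p
    have hrp : p ≠ r := by
      intro h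
      have h1 : r ∣ Nat.card A := hx ▸ orderOf_dvd_natCard x
      have h2 : p ∣ Nat.card A := h ▸ h1
      have h3 := Nat.dvd_gcd h2 (dvd_refl p)
      rw [show Nat.gcd (Nat.card A) p = 1 from hcop] at h3
      exact (Fact.out : p.Prime).one_lt.ne' (Nat.dvd_one.mp h3)
    have hxr : x ^ r = 1 := hx ▸ pow_orderOf_eq_one x
    have hyr : y ^ r = 1 := hy ▸ pow_orderOf_eq_one y
    have hy1 : y ≠ 1 := by
      intro h
      rw [h, orderOf_one] at hy
      exact hr.one_lt.ne' hy.symm
    -- the two automorphisms
    let f : G →* MulAut D := MulAut.conjNormal (H := D)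
    have hfx : ∀ (g : G) (u : D), ((f g) u : G) = g * u * g⁻¹ := fun g u =>
      MulAut.conjNormal_apply g u
    have hcomm : f x.1 * f y.1 = f y.1 * f x.1 := by
      rw [← map_mul, ← map_mul, hA x.1 x.2 y.1 y.2]
    have hαr : f x.1 ^ r = 1 := by
      rw [← map_pow]
      have : (x.1 : G) ^ r = 1 := by
        have := congrArg Subtype.val hxr
        simpa using this
      rw [this, map_one]
    have hβr : f y.1 ^ r = 1 := by
      rw [← map_pow]
      have : (y.1 : G) ^ r = 1 := by
        have := congrArg Subtype.val hyr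
        simpa using this
      rw [this, map_one]
    have hfix : ∀ a b : ℕ, ¬ r ∣ a → ∀ u : D, (f x.1 ^ a) ((f y.1 ^ b) u) = u → u = 1 := by
      intro a b ha u hu
      -- the element x^a y^b ∈ A is nontrivial
      have hne : x ^ a * y ^ b ≠ 1 := by
        intro h
        apply hy'
        have h1 : x ^ a ∈ Subgroup.zpowers y := by
          have : x ^ a = (y ^ b)⁻¹ := eq_inv_of_mul_eq_one_left h
          rw [this]
          exact inv_mem (pow_mem (Subgroup.mem_zpowers y) b)
        have h2 : x ∈ Subgroup.zpowers y :=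
          Cfsg.Agent.Helper1.Fpf.mem_of_pow_mem hr hxr ha _ h1
        -- zpowers x = zpowers y
        have h3 : Subgroup.zpowers x ≤ Subgroup.zpowers y := by
          rw [Subgroup.zpowers_le]; exact h2
        have h4 : Subgroup.zpowers x = Subgroup.zpowers y := by
          apply Subgroup.eq_of_le_of_card_ge h3
          rw [Nat.card_zpowers, Nat.card_zpowers, hx, hy]
        rw [h4]
        exact Subgroup.mem_zpowers y
      have hmem : ((x ^ a * y ^ b : A) : G) ∈ A := (x ^ a * y ^ b).2
      have hne' : ((x ^ a * y ^ b : A) : G) ≠ 1 := by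
        intro h
        exact hne (Subtype.ext h)
      have hu' : ((f ((x ^ a * y ^ b : A) : G)) u) = u := by
        have : f ((x ^ a * y ^ b : A) : G) = f x.1 ^ a * f y.1 ^ b := by
          rw [← map_pow, ← map_pow, ← map_mul]
          congr 1
        rw [this]
        exact hu
      have h5 := congrArg Subtype.val hu'
      rw [hfx] at h5
      have h6 : ((x ^ a * y ^ b : A) : G) * u = u * ((x ^ a * y ^ b : A) : G) := by
        calc ((x ^ a * y ^ b : A) : G) * u
            = (((x ^ a * y ^ b : A) : G) * u * ((x ^ a * y ^ b : A) : G)⁻¹) *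
                ((x ^ a * y ^ b : A) : G) := by group
          _ = u * ((x ^ a * y ^ b : A) : G) := by rw [h5]
      have := hfpf _ hmem hne' u.1 u.2 h6
      exact Subtype.ext this
    have key := Cfsg.Agent.Helper1.Fpf.pair_trivial (p := r) (q := p) hr hrp hD (f x.1) (f y.1)
      hcomm hαr hβr hfix
    -- so y centralizes D, hence D = ⊥
    apply hDne
    rw [Subgroup.eq_bot_iff_forall]
    intro d hd
    have h7 := congrArg Subtype.val (key ⟨d, hd⟩)
    rw [hfx] at h7
    simp only at h7
    have h8 : (y.1 : G) * d = d * y.1 := by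
      calc (y.1 : G) * d = (y.1 * d * (y.1)⁻¹) * y.1 := by group
        _ = d * y.1 := by rw [h7]
    have hy1' : (y.1 : G) ≠ 1 := fun h => hy1 (Subtype.ext h)
    exact hfpf y.1 y.2 hy1' d hd h8

end Cfsg.Agent.Helper8.MX
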