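import Mathlib
import Cfsg.Prelude.Def_Solvable

set_option autoImplicit false

namespace Cfsg.Agent.Helper25

open Cfsg

/-- Rigidity: in a finite group `G` with `C_G(O_p(G)) ≤ O_p(G)`, an automorphism fixing a Sylow `p`-subgroup
elementwise is conjugation by an element of the centre of that Sylow subgroup. -/
theorem aut_eq_conj_of_fix_sylow {G : Type*} [Group G] [Finite G] (p : ℕ) [Fact p.Prime] (T : Sylow p G)
    (hcen : Subgroup.centralizer ((pCore p G : Subgroup G) : Set G) ≤ pCore p G)
    (ψ : G ≃* G) (hψ : ∀ t ∈ (T : Subgroup G), ψ t = t) :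
    ∃ w ∈ (T : Subgroup G), (∀ t ∈ (T : Subgroup G), w * t = t * w) ∧ ∀ g, ψ g = w * g * w⁻¹ := by
  classical
  haveI := Fintype.ofFinite G
  have hp : p.Prime := Fact.out
  set Q : Subgroup G := pCore p G with hQdef
  have hQn : Q.Normal := Subgroup.sSup_normal _ (fun _ hH => hH.1)
  have hQp : IsPGroup p Q := Sylow.sSup_of_normal _ (fun _ h => h.2) (fun _ h => h.1)
  have hQT : Q ≤ (T : Subgroup G) := hQp.le_sylow_of_normal T
  set A : Subgroup G := Subgroup.centralizer (Q : Set G) with hAdef
  haveI hAn : A.Normal := by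
    haveI := hQn
    exact Subgroup.normal_centralizer
  have hAQ : A ≤ Q := hcen
  have hAT : A ≤ (T : Subgroup G) := hAQ.trans hQT
  have hAcomm : ∀ a b : A, a * b = b * a := by
    intro a b
    apply Subtype.ext
    have := (Subgroup.mem_centralizer_iff.mp b.2) a (hAQ a.2)
    exact this
  letI : CommGroup A := { (inferInstance : Group A) with mul_comm := hAcomm }
  have hAp : IsPGroup p A := hQp.to_le hAQ
  -- step 2: ψ g * g⁻¹ ∈ A
  have hmem : ∀ g : G, ψ g * g⁻¹ ∈ A := by
    intro g
    rw [hAdef, Subgroup.mem_centralizer_iff]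
    intro q hq
    have h1 : g⁻¹ * q * g ∈ Q := by
      have := hQn.conj_mem q hq g⁻¹
      simpa using this
    have h2 : ψ (g⁻¹ * q * g) = g⁻¹ * q * g := hψ _ (hQT h1)
    have h3 : ψ q = q := hψ _ (hQT hq)
    rw [map_mul, map_mul, map_inv, h3] at h2
    -- (ψ g)⁻¹ q ψ g = g⁻¹ q g
    calc q * (ψ g * g⁻¹) = ψ g * ((ψ g)⁻¹ * q * ψ g) * g⁻¹ := by group
      _ = ψ g * (g⁻¹ * q * g) * g⁻¹ := by rw [h2]
      _ = ψ g * g⁻¹ * q := by group
  let z : G → A := fun g => ⟨ψ g * g⁻¹, hmem g⟩
  have hz_coe : ∀ g, ((z g : A) : G) = ψ g * g⁻¹ := fun g => rfl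
  -- cocycle identity
  have hcoc : ∀ g h : G, z (g * h) = z g * MulAut.conjNormal g (z h) := by
    intro g h
    apply Subtype.ext
    rw [Subgroup.coe_mul, MulAut.conjNormal_apply, hz_coe, hz_coe, hz_coe, map_mul]
    group
  have hzT : ∀ t ∈ (T : Subgroup G), z t = 1 := by
    intro t ht
    apply Subtype.ext
    rw [hz_coe, hψ t ht, mul_inv_cancel]; rfl
  have hzmulT : ∀ g : G, ∀ t ∈ (T : Subgroup G), z (g * t) = z g := by
    intro g t ht
    rw [hcoc, hzT t ht, map_one, mul_one]
  -- the product over cosets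
  set c : A := ∏ q : G ⧸ (T : Subgroup G), z q.out with hc
  set m : ℕ := Fintype.card (G ⧸ (T : Subgroup G)) with hm
  have hkey : ∀ h : G, z h ^ m = c * (MulAut.conjNormal h c)⁻¹ := by
    intro h
    have h1 : ∏ q : G ⧸ (T : Subgroup G), z (h * q.out) = c := by
      have h2 : ∀ q : G ⧸ (T : Subgroup G), z (h * q.out) = z ((h • q).out) := by
        intro q
        have hq : (QuotientGroup.mk (h * q.out) : G ⧸ (T : Subgroup G)) = h • q := by
          conv_rhs => rw [← QuotientGroup.out_eq' q]
          rfl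
        have h3 : ((h • q).out)⁻¹ * (h * q.out) ∈ (T : Subgroup G) := by
          rw [← QuotientGroup.eq, QuotientGroup.out_eq', hq]
        have h4 := hzmulT ((h • q).out) _ h3
        rw [mul_inv_cancel_left] at h4
        exact h4
      simp only [h2]
      exact Equiv.prod_comp (MulAction.toPerm h) (fun q : G ⧸ (T : Subgroup G) => z q.out)
    have h5 : ∏ q : G ⧸ (T : Subgroup G), z (h * q.out) = z h ^ m * MulAut.conjNormal h c := by
      simp only [hcoc]
      rw [Finset.prod_mul_distrib, Finset.prod_const, Finset.card_univ, hc, map_prod]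
    rw [h1] at h5
    rw [eq_mul_inv_iff_mul_eq]
    exact h5.symm
  -- m is coprime to |A|
  obtain ⟨k, hk⟩ := IsPGroup.iff_card.mp hAp
  have hmidx : m = (T : Subgroup G).index := by
    rw [hm, Subgroup.index_eq_card, Nat.card_eq_fintype_card]
  have hcop : Nat.Coprime m (p ^ k) := by
    rw [hmidx]
    exact Nat.Coprime.pow_right k ((Nat.Prime.coprime_iff_not_dvd hp).mpr T.not_dvd_index).symm
  -- inverse of m mod p^k
  obtain ⟨m', hm'⟩ : ∃ m' : ℕ, ∀ a : A, a ^ (m * m') = a := by
    by_cases hk0 : p ^ k = 1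
    · refine ⟨0, fun a => ?_⟩
      have : Nat.card A = 1 := hk.trans hk0
      have hsub : Subsingleton A := (Nat.card_eq_one_iff_unique.mp this).1
      exact Subsingleton.elim _ _
    · have h1lt : 1 < p ^ k := lt_of_le_of_ne (Nat.one_le_pow _ _ hp.pos) (Ne.symm hk0)
      obtain ⟨m', -, hm'⟩ := Nat.exists_mul_mod_eq_one_of_coprime hcop h1lt
      refine ⟨m', fun a => ?_⟩
      have hdiv : m * m' = p ^ k * (m * m' / p ^ k) + 1 := by
        have := Nat.div_add_mod (m * m') (p ^ k)
        rw [hm'] at this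
        exact this.symm
      have hpow : a ^ (p ^ k) = 1 := by
        rw [← hk]; exact pow_card_eq_one'
      rw [hdiv, pow_succ, pow_mul, hpow, one_pow, one_mul]
  set w : A := c ^ m' with hw
  have hzw : ∀ h : G, z h = w * (MulAut.conjNormal h w)⁻¹ := by
    intro h
    have := congrArg (fun a => a ^ m') (hkey h)
    rw [← pow_mul, hm' (z h), mul_pow, inv_pow, ← map_pow] at this
    exact this
  refine ⟨(w : G), hAT w.2, ?_, ?_⟩
  · intro t ht
    have h1 := hzw t
    rw [hzT t ht] at h1
    have h2 : MulAut.conjNormal t w = w := by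
      have := congrArg (fun a => a * MulAut.conjNormal t w) h1
      simp only [one_mul, inv_mul_cancel_right] at this
      exact this
    have h3 := congrArg (fun a : A => (a : G)) h2
    simp only [MulAut.conjNormal_apply] at h3
    -- t w t⁻¹ = w
    calc (w : G) * t = (t * w * t⁻¹) * t := by rw [h3]
      _ = t * w := by group
  · intro g
    have h1 := congrArg (fun a : A => (a : G)) (hzw g)
    simp only [hz_coe, Subgroup.coe_mul, Subgroup.coe_inv, MulAut.conjNormal_apply] at h1
    calc ψ g = (ψ g * g⁻¹) * g := by group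
      _ = ((w : G) * (g * w * g⁻¹)⁻¹) * g := by rw [h1]
      _ = w * g * (w : G)⁻¹ := by group

end Cfsg.Agent.Helper25
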