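import Mathlib
import Cfsg.Agent.Lib.Lead.NC2Defs
import Cfsg.Agent.Lib.Helper3.NilpotentCoprime

/-!
# S3894 (n = 2) piece N2-EXTRA, core: the extra element, with the lower pieces as hypotheses.
-/

set_option autoImplicit false

namespace Cfsg.Agent.Lead.NC2

open Matrix

variable {F : Type*} [Field F]

section fin

variable [Fintype F]

/-- core of `exists_extra`: `d` plays the role of `dg a ha`. -/
theorem nc2_extra_core
    (hTeq : ∀ {H : Subgroup (PGL2 F)}, Group.IsNilpotent H → ∀ {x₁ x₂ : GL (Fin 2) F},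
      Good x₁ → Good x₂ → pr x₁ ∈ H → pr x₂ ∈ H → T x₁ = T x₂)
    (hleT : ∀ {H : Subgroup (PGL2 F)}, Group.IsNilpotent H → ∀ {x : GL (Fin 2) F},
      UniType x → pr x ∈ H → H ≤ T x)
    (hmemT : ∀ x g : GL (Fin 2) F, pr g ∈ T x ↔ g * x = x * g)
    (hF3 : ∀ {x g : GL (Fin 2) F}, Good x → pr g * pr x = pr x * pr g → g * x = x * g)
    (d : GL (Fin 2) F) (hd1 : pr d ∈ (slImage : Subgroup (PGL2 F)))
    (hd2 : ∀ (N : Matrix (Fin 2) (Fin 2) F) (hN : N * N = 0), N ≠ 0 → pr d ∉ T (uni N hN))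
    (hd3 : ∀ x : GL (Fin 2) F, NoEig x → pr d ∉ T x)
    (hd45 : (Fintype.card F ≠ 5 ∧ Good d) ∨
      (Fintype.card F = 5 ∧ (pr d : PGL2 F) ^ 2 = 1 ∧ (pr d : PGL2 F) ≠ 1)) :
    ∃ t ∈ (slImage : Subgroup (PGL2 F)), ∀ H : Subgroup (PGL2 F), Group.IsNilpotent H → t ∈ H →
      ∀ A ∈ (Iall : Set (Subgroup (PGL2 F))), ∀ w : PGL2 F, IsWit A w → w ∉ H := by
  refine ⟨pr d, hd1, ?_⟩
  intro H hH ht A hA w hw hwH
  -- `pr d ∉ A`
  have hnot : pr d ∉ A := by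
    rcases hA with ⟨N, hN, hN0, rfl⟩ | ⟨x, hx, rfl⟩
    · exact hd2 N hN hN0
    · exact hd3 x hx
  obtain ⟨y, rfl, hyG, hTy, -, h5⟩ := hw
  rcases hd45 with ⟨-, hdG⟩ | ⟨hq5, hsq, hne⟩
  · -- q ≠ 5
    have h1 : T d = T y := hTeq hH hdG hyG ht hwH
    have h2 : pr d ∈ T d := (hmemT d d).mpr rfl
    rw [h1, hTy] at h2
    exact hnot h2
  · -- q = 5
    rcases h5 hq5 with hyU | hy3
    · have h1 : H ≤ T y := hleT hH hyU hwH
      rw [hTy] at h1
      exact hnot (h1 ht)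
    · -- coprime orders commute
      haveI : Group.IsNilpotent ↥H := hH
      have ha2 : (⟨pr d, ht⟩ : ↥H) ^ 2 = 1 := Subtype.ext (by simpa using hsq)
      have hb3 : (⟨pr y, hwH⟩ : ↥H) ^ 3 = 1 := by
        apply Subtype.ext
        have : (pr y : PGL2 F) ^ 3 = 1 := by rw [← map_pow, hy3, map_one]
        simpa using this
      have hoa : orderOf (⟨pr d, ht⟩ : ↥H) ∣ 2 := orderOf_dvd_of_pow_eq_one ha2
      have hob : orderOf (⟨pr y, hwH⟩ : ↥H) ∣ 3 := orderOf_dvd_of_pow_eq_one hb3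
      have hcop : (orderOf (⟨pr d, ht⟩ : ↥H)).Coprime (orderOf (⟨pr y, hwH⟩ : ↥H)) :=
        Nat.Coprime.coprime_dvd_left hoa (Nat.Coprime.coprime_dvd_right hob (by norm_num))
      have hcomm := Cfsg.Agent.Helper3.mul_comm_of_coprime_of_isNilpotent ↥H
        (⟨pr d, ht⟩ : ↥H) (⟨pr y, hwH⟩ : ↥H)
        (isOfFinOrder_iff_pow_eq_one.mpr ⟨2, by norm_num, ha2⟩)
        (isOfFinOrder_iff_pow_eq_one.mpr ⟨3, by norm_num, hb3⟩) hcop
      have hcomm' : pr d * pr y = pr y * pr d := congrArg Subtype.val hcomm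
      have h3 : d * y = y * d := hF3 hyG hcomm'
      have h4 : pr d ∈ T y := (hmemT y d).mpr h3
      rw [hTy] at h4
      exact hnot h4

end fin

end Cfsg.Agent.Lead.NC2
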