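import Mathlib
import Cfsg.Agent.Lib.Lead.NC2Defs
import Cfsg.Agent.Lib.Helper25.NC2EXTRACore
import Cfsg.Agent.Lib.Helper1.NC2CEN
import Cfsg.Agent.Lib.Helper28.NC2F3
import Cfsg.Agent.Lib.Helper19.NC2LEMN
import Cfsg.Agent.Lib.Helper7.NC2FIELD
import Cfsg.Agent.Lib.Helper3.NC2DG

/-!
# S3894 (n = 2) piece N2-EXTRA: the extra element `t` (a split-torus element).
-/

set_option autoImplicit false

namespace Cfsg.Agent.Lead.NC2

open Matrix

variable {F : Type*} [Field F]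

section fin

variable [Fintype F]

theorem exists_extra (hq : 4 ≤ Fintype.card F) :
    ∃ t ∈ (slImage : Subgroup (PGL2 F)), ∀ H : Subgroup (PGL2 F), Group.IsNilpotent H → t ∈ H →
      ∀ A ∈ (Iall : Set (Subgroup (PGL2 F))), ∀ w : PGL2 F, IsWit A w → w ∉ H := by
  by_cases h5 : Fintype.card F = 5
  · obtain ⟨a, ha, hsq, hne⟩ := exists_sq_eq_neg_one (F := F) h5
    obtain ⟨hd1, hd2, hd3, -, hd5⟩ := dg_facts a ha hne
    exact nc2_extra_core (fun hH _ _ h₁ h₂ m₁ m₂ => T_eq_of_nilpotent hH h₁ h₂ m₁ m₂)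
      (fun hH _ hx m => le_T_of_nilpotent_uni hH hx m) pr_mem_T_iff
      (fun hx h => commute_of_pr_commute hx h) (dg a ha) hd1 hd2 hd3
      (Or.inr ⟨h5, hd5 hsq⟩)
  · obtain ⟨a, ha, ha4⟩ := exists_pow_four_ne_one (F := F) hq h5
    have hne : a ^ 2 ≠ 1 := by
      intro h
      apply ha4
      have : a ^ 4 = (a ^ 2) ^ 2 := by ring
      rw [this, h, one_pow]
    obtain ⟨hd1, hd2, hd3, hd4, -⟩ := dg_facts a ha hne
    exact nc2_extra_core (fun hH _ _ h₁ h₂ m₁ m₂ => T_eq_of_nilpotent hH h₁ h₂ m₁ m₂)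
      (fun hH _ hx m => le_T_of_nilpotent_uni hH hx m) pr_mem_T_iff
      (fun hx h => commute_of_pr_commute hx h) (dg a ha) hd1 hd2 hd3
      (Or.inl ⟨h5, hd4 ha4⟩)

end fin

end Cfsg.Agent.Lead.NC2
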