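import Mathlib
import Cfsg.Prelude.Def_Characters
import Cfsg.Agent.Lib.Helper24.DetTrace

/-!
# S0978 piece INV (helper25): `inverted_value`

If `u` inverts `a` (of odd order dividing `n`) and `a` has no fixed vectors in the representation affording `χ`,
then `χ u = 0`: all `u a^k` are conjugate to `u`, and `∑_k ρ(a)^k = 0`.
-/

set_option autoImplicit false
set_option linter.unusedSectionVars false
set_option linter.unusedVariables false
open Cfsg

namespace Cfsg.Agent.Helper28.Ord5040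

namespace INV

open Cfsg.Agent.Helper24.DetTrace

/-- an endomorphism with `A ^ n = 1` and `∑ tr A^i = 0` has `∑ A^i = 0` -/
theorem sum_pow_eq_zero {V : Type*} [AddCommGroup V] [Module ℂ V] [FiniteDimensional ℂ V]
    (A : V →ₗ[ℂ] V) {n : ℕ} (hn : 0 < n) (hA : A ^ n = 1)
    (htr : ∑ i ∈ Finset.range n, LinearMap.trace ℂ V (A ^ i) = 0) :
    ∑ i ∈ Finset.range n, A ^ i = 0 := by
  have hn0 : (n : ℂ) ≠ 0 := Nat.cast_ne_zero.mpr hn.ne'
  have h1 := finrank_range_specIdem A hn hA (ζ := 1) (one_pow n)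
  have h2 : ∑ i ∈ Finset.range n, ((1 : ℂ)⁻¹) ^ i * LinearMap.trace ℂ V (A ^ i) = 0 := by
    rw [← htr]
    apply Finset.sum_congr rfl
    intro i _
    rw [inv_one, one_pow, one_mul]
  rw [h2, mul_zero] at h1
  have h3 : Module.finrank ℂ (LinearMap.range (specIdem A n 1)) = 0 := by exact_mod_cast h1
  have h4 : LinearMap.range (specIdem A n 1) = ⊥ := Submodule.finrank_eq_zero.mp h3
  have h5 : specIdem A n 1 = 0 := LinearMap.range_eq_bot.mp h4
  unfold specIdem at h5
  have h6 : ∑ i ∈ Finset.range n, ((1 : ℂ)⁻¹) ^ i • A ^ i = 0 := by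
    rcases smul_eq_zero.mp h5 with h | h
    · exact absurd (inv_eq_zero.mp h) hn0
    · exact h
  rw [← h6]
  apply Finset.sum_congr rfl
  intro i _
  rw [inv_one, one_pow, one_smul]

/-- all the `u a^k` are conjugate to `u` -/
theorem conj_eq {G : Type*} [Group G] (a u : G) (n : ℕ) (hn : Odd n) (ha : a ^ n = 1)
    (hu : u * a * u⁻¹ = a⁻¹) (k : ℕ) :
    ∃ h : G, h * (u * a ^ k) * h⁻¹ = u := by
  obtain ⟨m, hm⟩ := hn
  -- `j = k (m + 1)`, `2 j = k (n + 1)`
  refine ⟨a ^ (k * (m + 1)), ?_⟩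
  have h1 : ∀ j : ℕ, a ^ j * u = u * (a ^ j)⁻¹ := by
    intro j
    have h2 : u * a ^ j * u⁻¹ = (a ^ j)⁻¹ := by
      rw [← conj_pow, hu, inv_pow]
    have h3 : u * ((a ^ j)⁻¹ * u⁻¹) = a ^ j := by
      have := congrArg (·⁻¹) h2
      simpa only [mul_inv_rev, inv_inv] using this
    calc a ^ j * u = (u * ((a ^ j)⁻¹ * u⁻¹)) * u := by rw [h3]
      _ = u * (a ^ j)⁻¹ := by group
  have h4 : a ^ (k * (m + 1)) * a ^ (k * (m + 1)) = a ^ k := by
    rw [← pow_add]
    have : k * (m + 1) + k * (m + 1) = n * k + k := by rw [hm]; ring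
    rw [this, pow_add, pow_mul, ha, one_pow, one_mul]
  calc a ^ (k * (m + 1)) * (u * a ^ k) * (a ^ (k * (m + 1)))⁻¹
      = (a ^ (k * (m + 1)) * u) * a ^ k * (a ^ (k * (m + 1)))⁻¹ := by group
    _ = u * (a ^ (k * (m + 1)))⁻¹ * a ^ k * (a ^ (k * (m + 1)))⁻¹ := by rw [h1]
    _ = u * ((a ^ (k * (m + 1)))⁻¹ * (a ^ (k * (m + 1)) * a ^ (k * (m + 1))) *
          (a ^ (k * (m + 1)))⁻¹) := by rw [h4]; group
    _ = u := by group

end INV

/-- INV: if `u` inverts `a` (odd order `n`) and `a` has no fixed vectors, then `χ(u) = 0`. -/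
theorem inverted_value {G : Type*} [Group G] [Finite G] {χ : G → ℂ} (hχ : IsCharacter G χ)
    (a u : G) (n : ℕ) (hn : Odd n) (ha : a ^ n = 1) (hu : u * a * u⁻¹ = a⁻¹)
    (hsum : ∑ i ∈ Finset.range n, χ (a ^ i) = 0) : χ u = 0 := by
  obtain ⟨d, ρ, rfl⟩ := hχ
  have hn0 : 0 < n := hn.pos
  have hnc : (n : ℂ) ≠ 0 := Nat.cast_ne_zero.mpr hn0.ne'
  have hA : (ρ a) ^ n = 1 := by rw [← map_pow, ha, map_one]
  have htr : ∑ i ∈ Finset.range n, LinearMap.trace ℂ (Fin d → ℂ) ((ρ a) ^ i) = 0 := by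
    rw [← hsum]
    apply Finset.sum_congr rfl
    intro i _
    rw [← map_pow]
    rfl
  have hS := INV.sum_pow_eq_zero (ρ a) hn0 hA htr
  -- the sum of the `χ (u a^k)`
  have h1 : ∑ k ∈ Finset.range n, ρ.character (u * a ^ k) = 0 := by
    have h2 : ∑ k ∈ Finset.range n, ρ.character (u * a ^ k) =
        LinearMap.trace ℂ (Fin d → ℂ) (ρ u * ∑ k ∈ Finset.range n, (ρ a) ^ k) := by
      rw [Finset.mul_sum, map_sum]
      apply Finset.sum_congr rfl
      intro k _
      unfold Representation.character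
      rw [map_mul, map_pow]
    rw [h2, hS, mul_zero, map_zero]
  have h3 : ∀ k ∈ Finset.range n, ρ.character (u * a ^ k) = ρ.character u := by
    intro k _
    obtain ⟨h, hh⟩ := INV.conj_eq a u n hn ha hu k
    calc ρ.character (u * a ^ k) = ρ.character (h * (u * a ^ k) * h⁻¹) :=
          (Representation.char_conj ρ _ _).symm
      _ = ρ.character u := by rw [hh]
  rw [Finset.sum_congr rfl h3, Finset.sum_const, Finset.card_range, nsmul_eq_mul] at h1
  rcases mul_eq_zero.mp h1 with h | h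
  · exact absurd h hnc
  · exact h

end Cfsg.Agent.Helper28.Ord5040
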