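import Mathlib
import Cfsg.Prelude.Def_Blocks
import Cfsg.Agent.Lib.Helper24.CharLinear
import Cfsg.Agent.Lib.Helper24.CharComplete
import Cfsg.Agent.Lib.Helper24.O5040DET2
import Cfsg.Agent.Lib.Helper25.O5040INV

/-!
# S0978 piece B3NO (helper25): `b3_no_six`

An involution `u` of `N(P)` (order 42) does not centralize `P` (`|C(P)| = 7`), so it inverts `P`; then `χ(u) = 0`
(`inverted_value`), against `χ(1) - χ(u) ≡ 0 (mod 4)` (`inv_value_mod_four`).
-/

set_option autoImplicit false
set_option linter.unusedSectionVars false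
set_option linter.unusedVariables false
set_option linter.style.haveILetI false
open Cfsg

namespace Cfsg.Agent.Helper28.Ord5040

namespace B3NO

open Cfsg.Agent.Helper24
open scoped commutatorElement

/-- a nonabelian simple group is perfect -/
theorem perfect {G : Type*} [Group G] [IsSimpleGroup G] (hG : ∃ x y : G, x * y ≠ y * x) :
    commutator G = ⊤ := by
  rcases (inferInstance : (commutator G).Normal).eq_bot_or_eq_top with h | h
  · exfalso
    obtain ⟨x, y, hxy⟩ := hG
    apply hxy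
    have h1 : ⁅x, y⁆ ∈ commutator G := by
      rw [commutator_def]
      exact Subgroup.commutator_mem_commutator (Subgroup.mem_top x) (Subgroup.mem_top y)
    rw [h, Subgroup.mem_bot, commutatorElement_def] at h1
    calc x * y = (x * y * x⁻¹ * y⁻¹) * (y * x) := by group
      _ = y * x := by rw [h1, one_mul]
  · exact h

/-- an involution normalizing a subgroup `P` of order `7` with `|C(P)| = 7` inverts `P` -/
theorem inverts {G : Type*} [Group G] [Finite G] (P : Subgroup G) (hP : Nat.card P = 7)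
    (hc : Nat.card (Subgroup.centralizer (P : Set G)) = 7) (u : G) (hu : orderOf u = 2)
    (huN : u ∈ Subgroup.normalizer (P : Set G)) (a : G) (ha : a ∈ P) :
    u * a * u⁻¹ = a⁻¹ := by
  have hu2 : u * u = 1 := by
    have := pow_orderOf_eq_one u
    rwa [hu, pow_two] at this
  have huinv : u⁻¹ = u := inv_eq_of_mul_eq_one_left hu2
  have hconj : ∀ x ∈ P, u * x * u⁻¹ ∈ P := fun x hx =>
    (Subgroup.mem_normalizer_iff.mp huN x).mp hx
  -- `P` is commutative
  have hcomm : ∀ x ∈ P, ∀ y ∈ P, x * y = y * x := by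
    haveI : Fact (Nat.Prime 7) := ⟨by norm_num⟩
    haveI : IsCyclic P := isCyclic_of_prime_card hP
    intro x hx y hy
    have := IsCyclic.commGroup.mul_comm (⟨x, hx⟩ : P) ⟨y, hy⟩
    exact congrArg Subtype.val this
  by_contra hne
  -- `b = a * (u a u⁻¹) ≠ 1` is centralized by `u`
  have hb : a * (u * a * u⁻¹) ∈ P := P.mul_mem ha (hconj a ha)
  have hb1 : a * (u * a * u⁻¹) ≠ 1 := by
    intro h1
    apply hne
    exact (eq_inv_of_mul_eq_one_right h1)
  have hub : u * (a * (u * a * u⁻¹)) * u⁻¹ = a * (u * a * u⁻¹) := by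
    have h1 : u * (a * (u * a * u⁻¹)) * u⁻¹ = (u * a * u⁻¹) * ((u * u) * a * (u * u)⁻¹) := by
      group
    rw [h1, hu2, one_mul, inv_one, mul_one]
    exact hcomm _ (hconj a ha) _ ha
  -- `P = ⟨b⟩`
  have hzp : Subgroup.zpowers (a * (u * a * u⁻¹)) = P := by
    apply Subgroup.eq_of_le_of_card_ge ((Subgroup.zpowers_le).mpr hb)
    rw [Nat.card_zpowers, hP]
    have hdvd : orderOf (a * (u * a * u⁻¹)) ∣ 7 := by
      rw [← hP]
      exact Subgroup.orderOf_dvd_natCard P hb
    rcases (Nat.dvd_prime (by norm_num : Nat.Prime 7)).mp hdvd with h | h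
    · exact absurd (orderOf_eq_one_iff.mp h) hb1
    · rw [h]
  -- `u` centralizes `P`
  have hucent : u ∈ Subgroup.centralizer (P : Set G) := by
    rw [Subgroup.mem_centralizer_iff]
    intro x hx
    have hx' : x ∈ Subgroup.zpowers (a * (u * a * u⁻¹)) := by rw [hzp]; exact hx
    obtain ⟨i, rfl⟩ := Subgroup.mem_zpowers_iff.mp hx'
    have h1 : u * (a * (u * a * u⁻¹)) ^ i * u⁻¹ = (a * (u * a * u⁻¹)) ^ i := by
      rw [← conj_zpow, hub]
    calc (a * (u * a * u⁻¹)) ^ i * u = (u * (a * (u * a * u⁻¹)) ^ i * u⁻¹) * u := by rw [h1]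
      _ = u * (a * (u * a * u⁻¹)) ^ i := by group
  have h2 : orderOf u ∣ 7 := by
    rw [← hc]
    exact Subgroup.orderOf_dvd_natCard _ hucent
  rw [hu] at h2
  omega

end B3NO

variable {G : Type*} [Group G] [Finite G] [IsSimpleGroup G]

/-- B3, step (iii)+(iv): a character of degree 6 with value `-1` on `P ∖ 1` is impossible. -/
theorem b3_no_six (h : Nat.card G = 5040) (hG : ∃ x y : G, x * y ≠ y * x) (P : Sylow 7 G)
    (hP : Nat.card (P : Subgroup G) = 7)
    (hN : Nat.card (Subgroup.normalizer ((P : Subgroup G) : Set G)) = 42)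
    (hc : Nat.card (Subgroup.centralizer ((P : Subgroup G) : Set G)) = 7)
    (χ : IrrCharacter G) (hχ : charDegree (χ : G → ℂ) = 6)
    (hval : ∀ a : G, a ∈ (P : Subgroup G) → a ≠ 1 → (χ : G → ℂ) a = -1) : False := by
  classical
  -- an involution of `N(P)`
  haveI : Fact (Nat.Prime 2) := ⟨Nat.prime_two⟩
  obtain ⟨u', hu'⟩ := exists_prime_orderOf_dvd_card' (G := ↥(Subgroup.normalizer ((P : Subgroup G) : Set G)))
    2 (by rw [hN]; norm_num)
  have hu : orderOf (u' : G) = 2 := by rw [Subgroup.orderOf_coe]; exact hu'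
  -- a generator of `P`
  obtain ⟨a, haP, ha1⟩ : ∃ a : G, a ∈ (P : Subgroup G) ∧ a ≠ 1 := by
    by_contra hcon
    push Not at hcon
    have hbot : (P : Subgroup G) = ⊥ := (Subgroup.eq_bot_iff_forall _).mpr hcon
    rw [hbot, Subgroup.card_bot] at hP
    omega
  have hao : orderOf a = 7 := by
    have hdvd : orderOf a ∣ 7 := by
      rw [← hP]
      exact Subgroup.orderOf_dvd_natCard _ haP
    rcases (Nat.dvd_prime (by norm_num : Nat.Prime 7)).mp hdvd with h1 | h1
    · exact absurd (orderOf_eq_one_iff.mp h1) ha1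
    · exact h1
  have hinv := B3NO.inverts (P : Subgroup G) hP hc (u' : G) hu u'.2 a haP
  have hχc := Cfsg.Agent.Helper24.isCharacter_of_isIrrCharacter χ.2
  -- the sum over `⟨a⟩`
  have hsum : ∑ i ∈ Finset.range 7, (χ : G → ℂ) (a ^ i) = 0 := by
    rw [Finset.sum_range_succ' _ 6]
    have h1 : ∀ i ∈ Finset.range 6, (χ : G → ℂ) (a ^ (i + 1)) = -1 := by
      intro i hi
      have hi6 : i < 6 := Finset.mem_range.mp hi
      apply hval _ ((P : Subgroup G).pow_mem haP _)
      apply pow_ne_one_of_lt_orderOf (by omega)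
      rw [hao]; omega
    rw [Finset.sum_congr rfl h1, pow_zero, Cfsg.Agent.Helper24.irr_one_eq_charDegree χ.2, hχ]
    simp
  have h0 : (χ : G → ℂ) (u' : G) = 0 :=
    inverted_value hχc a (u' : G) 7 (by decide) (by rw [← hao]; exact pow_orderOf_eq_one a) hinv hsum
  have hu2 : (u' : G) ^ 2 = 1 := by rw [← hu]; exact pow_orderOf_eq_one _
  obtain ⟨m, hm⟩ := inv_value_mod_four (B3NO.perfect hG) hχc (u' : G) hu2
  rw [h0, Cfsg.Agent.Helper24.irr_one_eq_charDegree χ.2, hχ] at hm
  have h4 : ((4 * m : ℕ) : ℂ) = ((6 : ℕ) : ℂ) := by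
    push_cast
    linear_combination hm
  have h5 : 4 * m = 6 := by exact_mod_cast h4
  omega

end Cfsg.Agent.Helper28.Ord5040
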