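import Mathlib
import Cfsg.Agent.Lib.Helper25.OInvDefs
import Cfsg.Agent.Lib.Helper25.InvNTABP

/-!
# OINV-S1 piece DATA (helper25): the certificate lists for `F₄` and `E₈`, checked in the kernel through the packed
reflection tables.
-/

set_option autoImplicit false
set_option linter.unusedSectionVars false
set_option linter.unusedVariables false

namespace Cfsg.Agent.Helper25.OInv

open Cfsg Cfsg.Lie Cfsg.Agent.Lead.Chev Cfsg.Agent.Helper13.InvN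

/-- the image of a root and the sign, in one pass through the packed tables -/
def sgnP (D : ChevalleyDatum) (Ws : List ℕ) : List ℕ → ℕ → ℕ × ℤ
  | [], s => (s, 1)
  | i :: w, s => (unpack8 (Ws.getD i 0) (sgnP D Ws w s).1, etaOf D i (sgnP D Ws w s).1 * (sgnP D Ws w s).2)

/-- the check of one certificate through the packed tables (`neg r = nroots - 1 - r`) -/
def entryChkOP (D : ChevalleyDatum) (Ws : List ℕ) (Fr : List Frame) (S : Frame) (e : OEntry) : Bool :=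
  (frameWord S).all (fun j => decide (j < D.rank)) && e.c.all (fun j => decide (j < D.rank)) &&
  decide (e.i < D.rank) && e.v.all (fun j => decide (j < D.rank)) && decide (e.aux < D.nroots) &&
  decide (e.tgt < Fr.length) && decide ((Fr.getD e.tgt []).length < S.length) &&
  (frameWord (Fr.getD e.tgt [])).all (fun j => decide (j < D.rank)) &&
  decide (reflWordP Ws (frameWord S) (reflWordP Ws e.c (D.simple e.i)) =
    D.nroots - 1 - reflWordP Ws e.c (D.simple e.i)) &&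
  (if e.kindA then
    decide (reflWordP Ws (frameWord S) e.aux = D.nroots - 1 - e.aux) &&
    decide (corSum D e.aux (D.nroots - 1 - reflWordP Ws e.c (D.simple e.i)) % 2 ≠ 0)
  else
    decide ((sgnP D Ws (frameWord S) (sgnP D Ws (frameWord S) e.aux).1).1 = e.aux) &&
    ((List.range D.rank).all fun i =>
      decide ((D.cartan i e.aux + D.cartan i (sgnP D Ws (frameWord S) e.aux).1 -
        D.cartan i (D.nroots - 1 - reflWordP Ws e.c (D.simple e.i))) % 2 = 0)) &&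
    decide ((sgnP D Ws (frameWord S) e.aux).2 *
      (sgnP D Ws (frameWord S) (sgnP D Ws (frameWord S) e.aux).1).2 *
      (sgnP D Ws (frameWord S) (reflWordP Ws e.c (D.simple e.i))).2 = 1)) &&
  ((List.range D.rank).all fun j =>
    decide (reflWordP Ws (e.v ++ refWord e.c e.i ++ frameWord S ++ e.v.reverse) (D.simple j) =
      reflWordP Ws (frameWord (Fr.getD e.tgt [])) (D.simple j)))

/-- the check of the list of certificates -/
def oddChkP (D : ChevalleyDatum) (Ws : List ℕ) (Fr : List Frame) (E : List OEntry) : Bool :=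
  decide (E.length = Fr.length) && (Fr.zip E).all fun p => p.1.isEmpty || entryChkOP D Ws Fr p.1 p.2

section sound

variable {D : ChevalleyDatum} (hF : ChevFacts D ℚ) (Ws : List ℕ)
  (hWs : ∀ i < D.rank, ∀ v < D.nroots, unpack8 (Ws.getD i 0) v = D.reflectRoot i v)
  (hnegf : ∀ r < D.nroots, D.neg r = D.nroots - 1 - r)
include hF hWs

theorem data_rP (w : List ℕ) (hw : WOK D w) (s : ℕ) (hs : s < D.nroots) :
    reflWordP Ws w s = reflWord D w s :=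
  reflWordP_eq D (etaOf D) hF.facts Ws hWs w hw s hs

theorem data_lt (w : List ℕ) (hw : WOK D w) (s : ℕ) (hs : s < D.nroots) : reflWord D w s < D.nroots :=
  reflWord_lt D (etaOf D) hF.facts w hw s hs

theorem data_sgnP (w : List ℕ) (hw : WOK D w) (s : ℕ) (hs : s < D.nroots) :
    sgnP D Ws w s = (reflWord D w s, signWord D (etaOf D) w s) := by
  induction w with
  | nil => rfl
  | cons i w ih =>
    have hw' : WOK D w := fun j hj => hw j (List.mem_cons_of_mem _ hj)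
    have hi : i < D.rank := hw i List.mem_cons_self
    simp only [sgnP, reflWord, signWord]
    rw [ih hw']
    simp only
    rw [hWs i hi _ (data_lt hF Ws hWs w hw' s hs)]

omit hF hWs in
theorem data_wok (w : List ℕ) (h : w.all (fun j => decide (j < D.rank)) = true) : WOK D w := by
  intro j hj
  rw [List.all_eq_true] at h
  simpa using h j hj

include hnegf in
theorem entryOK_of_P (Fr : List Frame) (S : Frame) (e : OEntry) (h : entryChkOP D Ws Fr S e = true) :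
    EntryOK D Fr S e := by
  unfold entryChkOP at h
  simp only [Bool.and_eq_true, decide_eq_true_eq] at h
  obtain ⟨⟨⟨⟨⟨⟨⟨⟨⟨⟨hy0, hc0⟩, hi⟩, hv0⟩, haux⟩, htgt⟩, hlen⟩, hy'0⟩, hneg⟩, hkind⟩, hcert⟩ := h
  have hy := data_wok (D := D) _ hy0
  have hc := data_wok (D := D) _ hc0
  have hv := data_wok (D := D) _ hv0
  have hy' := data_wok (D := D) _ hy'0
  have hsi := hF.simple_lt e.i hi
  have hβe : reflWordP Ws e.c (D.simple e.i) = froot D (e.c, e.i) := by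
    unfold froot
    exact data_rP hF Ws hWs e.c hc _ hsi
  have hβ : froot D (e.c, e.i) < D.nroots := by
    unfold froot
    exact data_lt hF Ws hWs e.c hc _ hsi
  rw [hβe] at hneg hkind
  rw [data_rP hF Ws hWs _ hy _ hβ, ← hnegf _ hβ] at hneg
  refine ⟨hy, hc, hi, hv, haux, htgt, hlen, hy', hneg, ?_, ?_⟩
  · by_cases hk : e.kindA = true
    · left
      rw [if_pos hk] at hkind
      simp only [Bool.and_eq_true, decide_eq_true_eq] at hkind
      obtain ⟨h1, h2⟩ := hkind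
      rw [data_rP hF Ws hWs _ hy _ haux, ← hnegf _ haux] at h1
      rw [← hnegf _ hβ] at h2
      exact ⟨hk, h1, h2⟩
    · right
      rw [if_neg hk] at hkind
      have hs1 : reflWord D (frameWord S) e.aux < D.nroots := data_lt hF Ws hWs _ hy _ haux
      rw [data_sgnP hF Ws hWs _ hy _ haux] at hkind
      simp only at hkind
      rw [data_sgnP hF Ws hWs _ hy _ hs1, data_sgnP hF Ws hWs _ hy _ hβ] at hkind
      simp only [Bool.and_eq_true, decide_eq_true_eq, List.all_eq_true, List.mem_range] at hkind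
      obtain ⟨⟨h1, h2⟩, h3⟩ := hkind
      refine ⟨by simpa using hk, h1, ?_, h3⟩
      intro i hi'
      have := h2 i hi'
      rw [← hnegf _ hβ] at this
      exact this
  · intro j hj
    rw [List.all_eq_true] at hcert
    have h1 := hcert j (List.mem_range.2 hj)
    rw [decide_eq_true_eq] at h1
    have hw1 : WOK D (e.v ++ refWord e.c e.i ++ frameWord S ++ e.v.reverse) := by
      unfold refWord
      exact (((hv.append ((hc.snoc hi).append hc.reverse)).append hy).append hv.reverse)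
    rw [data_rP hF Ws hWs _ hw1 _ (hF.simple_lt j hj), data_rP hF Ws hWs _ hy' _ (hF.simple_lt j hj)] at h1
    exact h1

include hnegf in
theorem oddOK_of_P (Fr : List Frame) (E : List OEntry) (h : oddChkP D Ws Fr E = true) : OddOK D Fr E := by
  unfold oddChkP at h
  rw [Bool.and_eq_true, decide_eq_true_eq, List.all_eq_true] at h
  refine ⟨h.1, ?_⟩
  intro p hp hne
  have h1 := h.2 p hp
  rw [Bool.or_eq_true] at h1
  rcases h1 with h1 | h1
  · exact absurd (List.isEmpty_iff.1 h1) hne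
  · exact entryOK_of_P hF Ws hWs hnegf Fr p.1 p.2 h1

end sound

def oddF4 : List OEntry := [
  ⟨true, [], 3, 0, [], 7⟩,
  ⟨true, [], 3, 0, [], 8⟩,
  ⟨true, [], 3, 0, [], 9⟩,
  ⟨true, [], 0, 3, [], 4⟩,
  ⟨false, [1, 2, 1], 0, 12, [], 6⟩,
  ⟨true, [3, 2], 1, 0, [], 10⟩,
  ⟨false, [3, 2, 1, 2, 3, 0, 1], 2, 1, [], 11⟩,
  ⟨true, [], 1, 2, [], 9⟩,
  ⟨false, [2, 3, 1, 2, 1], 0, 11, [3, 2], 6⟩,
  ⟨false, [2, 3, 1], 2, 0, [], 10⟩,
  ⟨false, [0, 1, 2, 3, 1, 2, 1], 0, 7, [], 11⟩,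
  ⟨true, [], 0, 0, [], 0⟩]
def oddE8 : List OEntry := [
  ⟨true, [1, 3, 4, 5, 2, 3, 4, 1, 3, 2, 0], 0, 2, [4, 3, 2, 1, 3, 4, 0, 2, 3, 1], 15⟩,
  ⟨true, [5, 2, 3, 4, 1, 3, 2, 0], 0, 2, [4, 3, 2, 1, 3, 0, 2], 17⟩,
  ⟨true, [2, 0], 0, 9, [0], 5⟩,
  ⟨true, [], 7, 0, [], 43⟩,
  ⟨true, [1, 3, 2, 0], 0, 4, [2, 1, 0], 7⟩,
  ⟨true, [], 7, 0, [], 45⟩,
  ⟨true, [1, 3, 2, 0], 0, 6, [3, 1, 0], 5⟩,
  ⟨true, [], 7, 0, [], 47⟩,
  ⟨true, [2, 0], 0, 5, [0], 12⟩,
  ⟨true, [], 7, 0, [], 49⟩,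
  ⟨true, [], 7, 0, [], 50⟩,
  ⟨true, [], 7, 0, [], 51⟩,
  ⟨true, [], 7, 0, [], 52⟩,
  ⟨true, [], 7, 0, [], 53⟩,
  ⟨true, [], 7, 0, [], 54⟩,
  ⟨true, [2, 0], 0, 5, [0], 19⟩,
  ⟨true, [], 7, 0, [], 56⟩,
  ⟨true, [], 7, 0, [], 57⟩,
  ⟨true, [], 7, 0, [], 58⟩,
  ⟨true, [], 7, 0, [], 59⟩,
  ⟨true, [], 7, 0, [], 60⟩,
  ⟨true, [], 7, 0, [], 61⟩,
  ⟨true, [], 7, 0, [], 62⟩,
  ⟨true, [2, 0], 0, 5, [0], 27⟩,
  ⟨true, [], 4, 3, [], 32⟩,
  ⟨true, [], 4, 3, [], 33⟩,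
  ⟨true, [], 4, 3, [], 34⟩,
  ⟨true, [], 4, 3, [], 35⟩,
  ⟨true, [], 4, 3, [], 36⟩,
  ⟨true, [], 0, 6, [], 30⟩,
  ⟨true, [7, 6], 5, 0, [6, 5], 62⟩,
  ⟨true, [], 2, 5, [], 35⟩,
  ⟨true, [], 1, 5, [], 34⟩,
  ⟨true, [], 2, 20, [], 36⟩,
  ⟨false, [2, 3, 4, 1, 3, 2], 0, 69, [0, 2], 37⟩,
  ⟨true, [], 1, 14, [], 36⟩,
  ⟨false, [3, 4, 2, 3], 1, 91, [], 37⟩,
  ⟨false, [5, 6, 4, 5, 3, 4, 2, 3], 1, 82, [], 38⟩,
  ⟨false, [0, 2, 3, 4, 5, 6, 1, 3, 4, 5, 2, 3, 4, 1, 3, 2], 0, 20, [], 39⟩,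
  ⟨false, [7, 6, 5, 4, 3, 2, 1, 3, 4, 5, 6, 7, 0, 2, 3, 4, 5, 6, 1, 3, 4, 5, 2, 3, 4, 1, 3, 2], 0, 1, [], 63⟩,
  ⟨true, [2, 0], 0, 5, [0], 44⟩,
  ⟨true, [], 5, 2, [], 56⟩,
  ⟨true, [], 5, 2, [], 57⟩,
  ⟨true, [], 5, 2, [], 58⟩,
  ⟨true, [], 5, 2, [], 59⟩,
  ⟨true, [], 5, 2, [], 60⟩,
  ⟨true, [], 5, 2, [], 61⟩,
  ⟨true, [], 5, 2, [], 62⟩,
  ⟨true, [], 2, 5, [], 52⟩,
  ⟨true, [], 1, 5, [], 51⟩,
  ⟨true, [], 2, 18, [], 53⟩,
  ⟨false, [2, 3, 4, 1, 3, 2], 0, 69, [0, 2], 54⟩,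
  ⟨true, [], 1, 14, [], 53⟩,
  ⟨false, [3, 4, 2, 3], 1, 91, [], 54⟩,
  ⟨false, [6, 7, 5, 6, 4, 5, 3, 4, 2, 3], 1, 81, [7, 6], 38⟩,
  ⟨true, [], 3, 4, [], 61⟩,
  ⟨true, [], 3, 4, [], 62⟩,
  ⟨true, [], 2, 16, [], 60⟩,
  ⟨false, [4, 5, 2, 3, 4, 1, 3, 2], 0, 68, [5, 4, 0, 2], 54⟩,
  ⟨true, [], 1, 14, [], 60⟩,
  ⟨false, [4, 5, 3, 4, 2, 3], 1, 90, [5, 4], 54⟩,
  ⟨true, [], 0, 6, [], 62⟩,
  ⟨false, [1, 3, 4, 5, 2, 3, 4, 1, 3, 2], 0, 64, [5, 4, 0, 2, 3, 1], 54⟩,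
  ⟨true, [], 0, 0, [], 0⟩]
theorem data_neg_F4 : ∀ r < chevF4.nroots, chevF4.neg r = chevF4.nroots - 1 - r := by decide +kernel

set_option maxRecDepth 100000 in
theorem data_neg_E8 : ∀ r < chevE8.nroots, chevE8.neg r = chevE8.nroots - 1 - r := by decide +kernel

set_option maxRecDepth 100000 in
theorem data_chk_F4 : oddChkP chevF4 commWs_F4 tabF4.frames oddF4 = true := by decide +kernel

set_option maxRecDepth 100000 in
theorem data_chk_E8 : oddChkP chevE8 commWs_E8 tabE8.frames oddE8 = true := by decide +kernel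

/-- DATA (1) -/
theorem oddF4_ok : OddOK chevF4 tabF4.frames oddF4 :=
  oddOK_of_P (chevFacts_of_mem chevF4 (by simp)) commWs_F4 wsTab_F4 data_neg_F4 _ _ data_chk_F4

/-- DATA (2) -/
theorem oddE8_ok : OddOK chevE8 tabE8.frames oddE8 :=
  oddOK_of_P (chevFacts_of_mem chevE8 (by simp)) commWs_E8 wsTab_E8 data_neg_E8 _ _ data_chk_E8

end Cfsg.Agent.Helper25.OInv
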