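import Mathlib
import Cfsg.Agent.Lib.Helper25.OInvDATA
import Cfsg.Agent.Lib.Helper19.OInvMAIN
import Cfsg.Agent.Lib.Lead.ChevFactsAll
import Cfsg.Agent.Lib.Lead.ChevBruhat2
import Cfsg.Agent.Lib.Lead.ChevOrderAll
import Cfsg.Agent.S1024

/-!
# OINV-S1 (helper25): the instances for `F₄(q)` and `E₈(q)`, `q` odd: every element of square `1` of the Chevalley group
is conjugate into the diagonal subgroup (STEP 1 of S4280 / S4281, for helper13).
-/

set_option autoImplicit false

namespace Cfsg.Agent.Helper25.OInv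

open Cfsg Cfsg.Lie Cfsg.Agent.Lead.Chev Cfsg.Agent.Helper13.InvN Cfsg.Agent.Helper6.ChevL

theorem xInj_of_mem {F : Type*} [Field F] (D : ChevalleyDatum)
    (hD : D ∈ [chevG2, chevB2, chevD4, chevF4, chevE6, chevE7, chevE8]) : XInj D F :=
  fun r hr a h => (Cfsg.Agent.S1024.result D hD r hr a).1 h

theorem conj_into_H_F4 {F : Type*} [Field F] [Fintype F] (hodd : Odd (Fintype.card F)) (g : GL chevF4.Idx F)
    (hg : g ∈ chevF4.group F) (hgg : g * g = 1) :
    ∃ c ∈ chevF4.group F, c * g * c⁻¹ ∈ chevF4.diagonalSubgroup F :=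
  conj_into_H (chevFacts_of_mem chevF4 (by simp)) hodd (xInj_of_mem chevF4 (by simp))
    (corSize_of_mem chevF4 (by simp)) (corInj_of_mem chevF4 (by simp)) diag2_F4 tabF4 tabF4_ok oddF4 oddF4_ok
    g hg hgg

theorem conj_into_H_E8 {F : Type*} [Field F] [Fintype F] (hodd : Odd (Fintype.card F)) (g : GL chevE8.Idx F)
    (hg : g ∈ chevE8.group F) (hgg : g * g = 1) :
    ∃ c ∈ chevE8.group F, c * g * c⁻¹ ∈ chevE8.diagonalSubgroup F :=
  conj_into_H (chevFacts_of_mem chevE8 (by simp)) hodd (xInj_of_mem chevE8 (by simp))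
    (corSize_of_mem chevE8 (by simp)) (corInj_of_mem chevE8 (by simp)) diag2_E8 tabE8 tabE8_ok oddE8 oddE8_ok
    g hg hgg

end Cfsg.Agent.Helper25.OInv
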