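import Mathlib
import Cfsg.Agent.Lib.Helper21.Ord720B1
import Cfsg.Agent.Lib.Helper25.Ord720B3

/-!
# S0496, order 720, pieces B2 and B3 (helper25): wrappers with the exact skeleton signatures
-/

set_option autoImplicit false
open Cfsg

namespace Cfsg.Agent.Helper3.SmallOrd

variable {G : Type*} [Group G] [Finite G] [IsSimpleGroup G]

/-- B2: in the TI case, an involution normalizing two distinct Sylow 3-subgroups `P`, `R` centralizes
no nontrivial element of `P`. -/
theorem c720_B2 (h : Nat.card G = 720)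
    (hTI : ∀ P R : Sylow 3 G, P ≠ R → (P : Subgroup G) ⊓ (R : Subgroup G) = ⊥)
    (P R : Sylow 3 G) (hPR : P ≠ R) (q : G) (hq : orderOf q = 2) (hqP : q • P = P) (hqR : q • R = R)
    (x : G) (hxP : x ∈ (P : Subgroup G)) (hx : Commute q x) : x = 1 := by
  obtain ⟨h10, hreg⟩ := c720_B1 h hTI
  exact Cfsg.Agent.Helper25.Ord720.B2_aux h h10 hreg P R hPR q hq hqP hqR x hxP hx

/-- B3: in the TI case the action on Sylow 3-subgroups is a Zassenhaus action. -/
theorem c720_B3 (h : Nat.card G = 720)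
    (hTI : ∀ P R : Sylow 3 G, P ≠ R → (P : Subgroup G) ⊓ (R : Subgroup G) = ⊥) :
    Cfsg.IsZassenhausGroup G (Sylow 3 G) ∧
    ∀ P R : Sylow 3 G, P ≠ R →
      Nat.card ↥(MulAction.stabilizer G P ⊓ MulAction.stabilizer G R) = 8 := by
  obtain ⟨h10, hreg⟩ := c720_B1 h hTI
  exact Cfsg.Agent.Helper25.Ord720.B3_aux h h10 hreg

end Cfsg.Agent.Helper3.SmallOrd
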