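import Mathlib
import Cfsg.Prelude.Def_RootSubgroups

set_option autoImplicit false

namespace Cfsg.Agent.Helper25
namespace OrthRoot

open Matrix

variable {κ : Type*} [Fintype κ] [DecidableEq κ] {F : Type*} [Field F]

/-- swap the two halves of the coordinates. -/
def sw (v : κ ⊕ κ → F) : κ ⊕ κ → F := fun i => v i.swap

/-- the hyperbolic quadratic form. -/
def Qf (v : κ ⊕ κ → F) : F := ∑ i : κ, v (Sum.inl i) * v (Sum.inr i)

/-- its polar form. -/
def Bf (v w : κ ⊕ κ → F) : F := v ⬝ᵥ sw w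

theorem sw_add (v w : κ ⊕ κ → F) : sw (v + w) = sw v + sw w := rfl

theorem sw_smul (c : F) (v : κ ⊕ κ → F) : sw (c • v) = c • sw v := rfl

theorem sw_sw (v : κ ⊕ κ → F) : sw (sw v) = v := by
  ext i; simp [sw]

theorem Bf_eq (v w : κ ⊕ κ → F) :
    Bf v w = ∑ i : κ, (v (Sum.inl i) * w (Sum.inr i) + v (Sum.inr i) * w (Sum.inl i)) := by
  unfold Bf dotProduct sw
  rw [Fintype.sum_sum_type, Finset.sum_add_distrib]
  rfl

theorem Bf_symm (v w : κ ⊕ κ → F) : Bf v w = Bf w v := by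
  rw [Bf_eq, Bf_eq]
  apply Finset.sum_congr rfl
  intro i _
  ring

theorem Bf_add_left (u v w : κ ⊕ κ → F) : Bf (u + v) w = Bf u w + Bf v w := add_dotProduct _ _ _

theorem Bf_smul_left (c : F) (v w : κ ⊕ κ → F) : Bf (c • v) w = c * Bf v w := by
  unfold Bf; rw [smul_dotProduct, smul_eq_mul]

theorem Bf_add_right (u v w : κ ⊕ κ → F) : Bf u (v + w) = Bf u v + Bf u w := by
  unfold Bf; rw [sw_add, dotProduct_add]

theorem Bf_smul_right (c : F) (v w : κ ⊕ κ → F) : Bf v (c • w) = c * Bf v w := by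
  unfold Bf; rw [sw_smul, dotProduct_smul, smul_eq_mul]

theorem Bf_sub_left (u v w : κ ⊕ κ → F) : Bf (u - v) w = Bf u w - Bf v w := sub_dotProduct _ _ _

theorem Bf_sub_right (u v w : κ ⊕ κ → F) : Bf u (v - w) = Bf u v - Bf u w := by
  rw [Bf_symm, Bf_sub_left, Bf_symm v, Bf_symm w]

theorem Bf_neg_left (v w : κ ⊕ κ → F) : Bf (-v) w = -Bf v w := neg_dotProduct _ _

theorem Bf_neg_right (v w : κ ⊕ κ → F) : Bf v (-w) = -Bf v w := by
  rw [Bf_symm, Bf_neg_left, Bf_symm]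

theorem Bf_zero_left (w : κ ⊕ κ → F) : Bf 0 w = 0 := zero_dotProduct _

theorem Bf_zero_right (v : κ ⊕ κ → F) : Bf v 0 = 0 := by
  rw [Bf_symm, Bf_zero_left]

theorem Qf_add (v w : κ ⊕ κ → F) : Qf (v + w) = Qf v + Qf w + Bf v w := by
  rw [Bf_eq]
  unfold Qf
  rw [← Finset.sum_add_distrib, ← Finset.sum_add_distrib]
  apply Finset.sum_congr rfl
  intro i _
  simp only [Pi.add_apply]
  ring

theorem Qf_smul (c : F) (v : κ ⊕ κ → F) : Qf (c • v) = c * c * Qf v := by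
  unfold Qf
  rw [Finset.mul_sum]
  apply Finset.sum_congr rfl
  intro i _
  simp only [Pi.smul_apply, smul_eq_mul]
  ring

theorem Qf_zero : Qf (0 : κ ⊕ κ → F) = 0 := by
  unfold Qf; simp

theorem Qf_neg (v : κ ⊕ κ → F) : Qf (-v) = Qf v := by
  have := Qf_smul (-1 : F) v
  rw [neg_one_smul] at this
  rw [this]; ring

theorem Bf_self (v : κ ⊕ κ → F) : Bf v v = Qf v + Qf v := by
  rw [Bf_eq]
  unfold Qf
  rw [← Finset.sum_add_distrib]
  apply Finset.sum_congr rfl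
  intro i _
  ring

theorem Bf_self_of_singular {v : κ ⊕ κ → F} (h : Qf v = 0) : Bf v v = 0 := by
  rw [Bf_self, h, add_zero]

theorem polar_eq (v p : κ ⊕ κ → F) : Qf (v + p) - Qf v - Qf p = Bf v p := by
  rw [Qf_add]; ring

theorem Qf_sub (v w : κ ⊕ κ → F) : Qf (v - w) = Qf v + Qf w - Bf v w := by
  rw [sub_eq_add_neg, Qf_add, Qf_neg, Bf_neg_right]; ring

/-- the value of the polar form against a basis vector. -/
theorem Bf_single (i : κ ⊕ κ) (c : F) (w : κ ⊕ κ → F) : Bf (Pi.single i c) w = c * w i.swap := by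
  unfold Bf
  rw [single_dotProduct]
  rfl

theorem Bf_nondeg {w : κ ⊕ κ → F} (h : ∀ v, Bf v w = 0) : w = 0 := by
  ext i
  have := h (Pi.single i.swap 1)
  rw [Bf_single, one_mul, Sum.swap_swap] at this
  exact this

theorem eq_of_Bf_eq {w w' : κ ⊕ κ → F} (h : ∀ v, Bf v w = Bf v w') : w = w' := by
  rw [← sub_eq_zero]
  apply Bf_nondeg
  intro v
  rw [Bf_sub_right, h v, sub_self]

theorem exists_Bf_eq_one {w : κ ⊕ κ → F} (hw : w ≠ 0) : ∃ v, Bf v w = 1 := by
  obtain ⟨i, hi⟩ := Function.ne_iff.1 hw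
  refine ⟨Pi.single i.swap (w i)⁻¹, ?_⟩
  rw [Bf_single, Sum.swap_swap]
  exact inv_mul_cancel₀ hi

/-- a vector dual to `p` against `r`. -/
theorem exists_dual {p r : κ ⊕ κ → F}
    (hind : ∀ s t : F, s • p + t • r = 0 → s = 0 ∧ t = 0) :
    ∃ v, Bf v p = 1 ∧ Bf v r = 0 := by
  have hr : r ≠ 0 := by
    rintro rfl
    have := (hind 0 1 (by simp)).2
    exact one_ne_zero this
  obtain ⟨j, hj⟩ := Function.ne_iff.1 hr
  simp only [Pi.zero_apply] at hj
  have hp' : p - (p j / r j) • r ≠ 0 := by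
    intro h
    have := (hind 1 (-(p j / r j)) (by rw [one_smul, neg_smul, ← sub_eq_add_neg]; exact h)).1
    exact one_ne_zero this
  obtain ⟨i, hi⟩ := Function.ne_iff.1 hp'
  simp only [Pi.sub_apply, Pi.smul_apply, smul_eq_mul, Pi.zero_apply] at hi
  refine ⟨(p i - p j / r j * r i)⁻¹ • (Pi.single i.swap 1 - (r i / r j) • Pi.single j.swap 1), ?_, ?_⟩
  · rw [Bf_smul_left, Bf_sub_left, Bf_smul_left, Bf_single, Bf_single, Sum.swap_swap,
      Sum.swap_swap, one_mul, one_mul]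
    have : p i - r i / r j * p j = p i - p j / r j * r i := by ring
    rw [this]
    exact inv_mul_cancel₀ hi
  · rw [Bf_smul_left, Bf_sub_left, Bf_smul_left, Bf_single, Bf_single, Sum.swap_swap,
      Sum.swap_swap, one_mul, one_mul]
    have : r i - r i / r j * r j = 0 := by
      rw [div_mul_cancel₀ _ hj, sub_self]
    rw [this, mul_zero]

/-- the polar form in terms of matrices. -/
theorem Bf_mulVec_eq (M : Matrix (κ ⊕ κ) (κ ⊕ κ) F)
    (hM : ∀ v, Qf (M *ᵥ v) = Qf v) (v w : κ ⊕ κ → F) : Bf (M *ᵥ v) (M *ᵥ w) = Bf v w := by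
  rw [← polar_eq, ← polar_eq, ← mulVec_add, hM, hM, hM]

end OrthRoot
end Cfsg.Agent.Helper25
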