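import Mathlib
import Cfsg.Prelude.Def_RootSubgroups
import Cfsg.Agent.Lib.Helper25.OrthRoot1
import Cfsg.Agent.Lib.Helper25.ConjBy

set_option autoImplicit false

namespace Cfsg.Agent.Helper25
namespace OrthRoot

open Matrix

variable {κ : Type} [Fintype κ] [DecidableEq κ] {F : Type*} [Field F]

/-- the Siegel transformation on vectors. -/
def sg (p r : κ ⊕ κ → F) (c : F) (v : κ ⊕ κ → F) : κ ⊕ κ → F :=
  v + c • (Bf v p • r - Bf v r • p)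

/-- the Siegel matrix. -/
def smat (p r : κ ⊕ κ → F) (c : F) : Matrix (κ ⊕ κ) (κ ⊕ κ) F :=
  1 + c • (vecMulVec r (sw p) - vecMulVec p (sw r))

theorem sw_dot (p v : κ ⊕ κ → F) : sw p ⬝ᵥ v = Bf v p := dotProduct_comm _ _

theorem smat_mulVec (p r : κ ⊕ κ → F) (c : F) (v : κ ⊕ κ → F) :
    smat p r c *ᵥ v = sg p r c v := by
  unfold smat sg
  rw [add_mulVec, one_mulVec, smul_mulVec, sub_mulVec, vecMulVec_mulVec, vecMulVec_mulVec,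
    op_smul_eq_smul, op_smul_eq_smul, sw_dot, sw_dot]

theorem smat_zero (p r : κ ⊕ κ → F) : smat p r 0 = 1 := by
  unfold smat; rw [zero_smul, add_zero]

/-- a singular line with a chosen basis. -/
structure SLine (p r : κ ⊕ κ → F) : Prop where
  hp : Qf p = 0
  hr : Qf r = 0
  hpr : Bf p r = 0
  dual : ∃ v₁ v₂ : κ ⊕ κ → F, Bf v₁ p = 1 ∧ Bf v₁ r = 0 ∧ Bf v₂ p = 0 ∧ Bf v₂ r = 1

namespace SLine

variable {p r : κ ⊕ κ → F}

theorem hpp (h : SLine p r) : Bf p p = 0 := Bf_self_of_singular h.hp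
theorem hrr (h : SLine p r) : Bf r r = 0 := Bf_self_of_singular h.hr
theorem hrp (h : SLine p r) : Bf r p = 0 := by rw [Bf_symm]; exact h.hpr

theorem symm (h : SLine p r) : SLine r p := by
  obtain ⟨v₁, v₂, h1, h2, h3, h4⟩ := h.dual
  exact ⟨h.hr, h.hp, h.hrp, v₂, v₁, h4, h3, h2, h1⟩

theorem p_ne_zero (h : SLine p r) : p ≠ 0 := by
  obtain ⟨v₁, v₂, h1, h2, h3, h4⟩ := h.dual
  rintro rfl
  rw [Bf_zero_right] at h1
  exact zero_ne_one h1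

theorem r_ne_zero (h : SLine p r) : r ≠ 0 := h.symm.p_ne_zero

theorem indep (h : SLine p r) (s t : F) (hst : s • p + t • r = 0) : s = 0 ∧ t = 0 := by
  obtain ⟨v₁, v₂, h1, h2, h3, h4⟩ := h.dual
  constructor
  · have := congrArg (Bf v₁) hst
    rw [Bf_add_right, Bf_smul_right, Bf_smul_right, h1, h2, Bf_zero_right] at this
    simpa using this
  · have := congrArg (Bf v₂) hst
    rw [Bf_add_right, Bf_smul_right, Bf_smul_right, h3, h4, Bf_zero_right] at this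
    simpa using this

/-- vectors of the line are singular. -/
theorem Qf_comb (h : SLine p r) (a b : F) : Qf (a • r - b • p) = 0 := by
  rw [Qf_sub, Qf_smul, Qf_smul, h.hp, h.hr, Bf_smul_left, Bf_smul_right, h.hrp]
  ring

theorem Bf_sg_p (h : SLine p r) (c : F) (v : κ ⊕ κ → F) : Bf (sg p r c v) p = Bf v p := by
  unfold sg
  rw [Bf_add_left, Bf_smul_left, Bf_sub_left, Bf_smul_left, Bf_smul_left, h.hrp, h.hpp]
  ring

theorem Bf_sg_r (h : SLine p r) (c : F) (v : κ ⊕ κ → F) : Bf (sg p r c v) r = Bf v r := by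
  unfold sg
  rw [Bf_add_left, Bf_smul_left, Bf_sub_left, Bf_smul_left, Bf_smul_left, h.hrr, h.hpr]
  ring

theorem Qf_sg (h : SLine p r) (c : F) (v : κ ⊕ κ → F) : Qf (sg p r c v) = Qf v := by
  unfold sg
  rw [Qf_add, Qf_smul, h.Qf_comb, Bf_smul_right, Bf_sub_right, Bf_smul_right, Bf_smul_right]
  ring

theorem sg_sg (h : SLine p r) (c d : F) (v : κ ⊕ κ → F) :
    sg p r c (sg p r d v) = sg p r (c + d) v := by
  have e1 := h.Bf_sg_p d v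
  have e2 := h.Bf_sg_r d v
  have e3 : sg p r c (sg p r d v) =
      sg p r d v + c • (Bf (sg p r d v) p • r - Bf (sg p r d v) r • p) := rfl
  rw [e3, e1, e2]
  unfold sg
  rw [add_smul]
  abel

theorem smat_mul (h : SLine p r) (c d : F) : smat p r c * smat p r d = smat p r (c + d) := by
  apply Matrix.ext_iff_mulVec.2
  intro v
  rw [← mulVec_mulVec, smat_mulVec, smat_mulVec, smat_mulVec, h.sg_sg]

theorem smat_mul_neg (h : SLine p r) (c : F) : smat p r c * smat p r (-c) = 1 := by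
  rw [h.smat_mul, add_neg_cancel, smat_zero]

theorem smat_neg_mul (h : SLine p r) (c : F) : smat p r (-c) * smat p r c = 1 := by
  rw [h.smat_mul, neg_add_cancel, smat_zero]

end SLine

/-- the group `H` is the isometry group of the quadratic form. -/
def IsOrth (H : Subgroup (GL (κ ⊕ κ) F)) : Prop :=
  ∀ g : GL (κ ⊕ κ) F, g ∈ H ↔
    ∀ v : κ ⊕ κ → F, Qf ((g : Matrix (κ ⊕ κ) (κ ⊕ κ) F) *ᵥ v) = Qf v

/-- the Siegel transformation as an invertible matrix. -/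
def sGL {p r : κ ⊕ κ → F} (h : SLine p r) (c : F) : GL (κ ⊕ κ) F :=
  ⟨smat p r c, smat p r (-c), h.smat_mul_neg c, h.smat_neg_mul c⟩

theorem sGL_val {p r : κ ⊕ κ → F} (h : SLine p r) (c : F) :
    ((sGL h c : GL (κ ⊕ κ) F) : Matrix (κ ⊕ κ) (κ ⊕ κ) F) = smat p r c := rfl

variable {H : Subgroup (GL (κ ⊕ κ) F)}

theorem sGL_mem (hH : IsOrth H) {p r : κ ⊕ κ → F} (h : SLine p r) (c : F) : sGL h c ∈ H := by
  rw [hH]
  intro v
  rw [sGL_val, smat_mulVec, h.Qf_sg]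

theorem gl_val_mul (g g' : GL (κ ⊕ κ) F) :
    ((g * g' : GL (κ ⊕ κ) F) : Matrix (κ ⊕ κ) (κ ⊕ κ) F) =
      (g : Matrix (κ ⊕ κ) (κ ⊕ κ) F) * (g' : Matrix (κ ⊕ κ) (κ ⊕ κ) F) := rfl

theorem gl_val_one : ((1 : GL (κ ⊕ κ) F) : Matrix (κ ⊕ κ) (κ ⊕ κ) F) = 1 := rfl

theorem gl_inv_mulVec (g : GL (κ ⊕ κ) F) (v : κ ⊕ κ → F) :
    ((g⁻¹ : GL (κ ⊕ κ) F) : Matrix (κ ⊕ κ) (κ ⊕ κ) F) *ᵥ
      ((g : Matrix (κ ⊕ κ) (κ ⊕ κ) F) *ᵥ v) = v := by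
  rw [mulVec_mulVec, ← gl_val_mul, inv_mul_cancel, gl_val_one, one_mulVec]

theorem gl_mulVec_inv (g : GL (κ ⊕ κ) F) (v : κ ⊕ κ → F) :
    (g : Matrix (κ ⊕ κ) (κ ⊕ κ) F) *ᵥ
      (((g⁻¹ : GL (κ ⊕ κ) F) : Matrix (κ ⊕ κ) (κ ⊕ κ) F) *ᵥ v) = v := by
  rw [mulVec_mulVec, ← gl_val_mul, mul_inv_cancel, gl_val_one, one_mulVec]

theorem gl_ext {g g' : GL (κ ⊕ κ) F}
    (h : ∀ v, (g : Matrix (κ ⊕ κ) (κ ⊕ κ) F) *ᵥ v = (g' : Matrix (κ ⊕ κ) (κ ⊕ κ) F) *ᵥ v) :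
    g = g' := by
  apply Units.ext
  exact Matrix.ext_iff_mulVec.2 h

/-- the Siegel root group of a singular line. -/
def RO (H : Subgroup (GL (κ ⊕ κ) F)) (p r : κ ⊕ κ → F) (h : SLine p r) : Subgroup ↥H where
  carrier := {g | ∃ c : F, ((g : GL (κ ⊕ κ) F) : Matrix (κ ⊕ κ) (κ ⊕ κ) F) = smat p r c}
  mul_mem' := by
    rintro a b ⟨c, hc⟩ ⟨d, hd⟩
    refine ⟨c + d, ?_⟩
    show ((a : GL (κ ⊕ κ) F) : Matrix (κ ⊕ κ) (κ ⊕ κ) F) *
      ((b : GL (κ ⊕ κ) F) : Matrix (κ ⊕ κ) (κ ⊕ κ) F) = _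
    rw [hc, hd, h.smat_mul]
  one_mem' := ⟨0, by rw [smat_zero]; rfl⟩
  inv_mem' := by
    rintro a ⟨c, hc⟩
    refine ⟨-c, ?_⟩
    have : (a : GL (κ ⊕ κ) F) = sGL h c := Units.ext hc
    show (((a : GL (κ ⊕ κ) F)⁻¹ : GL (κ ⊕ κ) F) : Matrix (κ ⊕ κ) (κ ⊕ κ) F) = _
    rw [this]
    rfl

theorem mem_RO {p r : κ ⊕ κ → F} {h : SLine p r} {g : ↥H} :
    g ∈ RO H p r h ↔
      ∃ c : F, ((g : GL (κ ⊕ κ) F) : Matrix (κ ⊕ κ) (κ ⊕ κ) F) = smat p r c := Iff.rfl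

/-- the Siegel transformation as an element of `H`. -/
def sH (hH : IsOrth H) {p r : κ ⊕ κ → F} (h : SLine p r) (c : F) : ↥H :=
  ⟨sGL h c, sGL_mem hH h c⟩

theorem sH_mem (hH : IsOrth H) {p r : κ ⊕ κ → F} (h : SLine p r) (c : F) :
    sH hH h c ∈ RO H p r h := ⟨c, rfl⟩

theorem sH_val (hH : IsOrth H) {p r : κ ⊕ κ → F} (h : SLine p r) (c : F) :
    (((sH hH h c : ↥H) : GL (κ ⊕ κ) F) : Matrix (κ ⊕ κ) (κ ⊕ κ) F) = smat p r c := rfl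

theorem mem_RO' (hH : IsOrth H) {p r : κ ⊕ κ → F} {h : SLine p r} {g : ↥H} :
    g ∈ RO H p r h ↔ ∃ c : F, g = sH hH h c := by
  rw [mem_RO]
  constructor
  · rintro ⟨c, hc⟩
    exact ⟨c, Subtype.ext (Units.ext hc)⟩
  · rintro ⟨c, rfl⟩
    exact ⟨c, rfl⟩

theorem sH_mul (hH : IsOrth H) {p r : κ ⊕ κ → F} (h : SLine p r) (c d : F) :
    sH hH h c * sH hH h d = sH hH h (c + d) := by
  apply Subtype.ext
  apply Units.ext
  exact h.smat_mul c d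

theorem sH_zero (hH : IsOrth H) {p r : κ ⊕ κ → F} (h : SLine p r) : sH hH h 0 = 1 := by
  apply Subtype.ext
  apply Units.ext
  exact smat_zero p r

theorem sH_inv (hH : IsOrth H) {p r : κ ⊕ κ → F} (h : SLine p r) (c : F) :
    (sH hH h c)⁻¹ = sH hH h (-c) := by
  apply inv_eq_of_mul_eq_one_left
  rw [sH_mul, neg_add_cancel, sH_zero]

theorem sH_mulVec (hH : IsOrth H) {p r : κ ⊕ κ → F} (h : SLine p r) (c : F) (v : κ ⊕ κ → F) :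
    (((sH hH h c : ↥H) : GL (κ ⊕ κ) F) : Matrix (κ ⊕ κ) (κ ⊕ κ) F) *ᵥ v = sg p r c v := by
  rw [sH_val, smat_mulVec]

theorem h_ext {g g' : ↥H}
    (h : ∀ v, ((g : GL (κ ⊕ κ) F) : Matrix (κ ⊕ κ) (κ ⊕ κ) F) *ᵥ v =
      ((g' : GL (κ ⊕ κ) F) : Matrix (κ ⊕ κ) (κ ⊕ κ) F) *ᵥ v) : g = g' :=
  Subtype.ext (gl_ext h)

theorem RO_comm {p r : κ ⊕ κ → F} (h : SLine p r) : IsMulCommutative (RO H p r h) := by
  refine ⟨⟨?_⟩⟩
  rintro ⟨a, c, hc⟩ ⟨b, d, hd⟩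
  apply Subtype.ext
  apply Subtype.ext
  apply Units.ext
  show ((a : GL (κ ⊕ κ) F) : Matrix (κ ⊕ κ) (κ ⊕ κ) F) *
      ((b : GL (κ ⊕ κ) F) : Matrix (κ ⊕ κ) (κ ⊕ κ) F) =
    ((b : GL (κ ⊕ κ) F) : Matrix (κ ⊕ κ) (κ ⊕ κ) F) *
      ((a : GL (κ ⊕ κ) F) : Matrix (κ ⊕ κ) (κ ⊕ κ) F)
  rw [hc, hd, h.smat_mul, h.smat_mul, add_comm]

theorem sH_eq_one_iff (hH : IsOrth H) {p r : κ ⊕ κ → F} (h : SLine p r) (c : F) :
    sH hH h c = 1 ↔ c = 0 := by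
  constructor
  · intro h1
    obtain ⟨v₁, v₂, h1p, h1r, h2p, h2r⟩ := h.dual
    have h2 := sH_mulVec hH h c v₁
    rw [h1] at h2
    have h3 : ((((1 : ↥H) : GL (κ ⊕ κ) F) : Matrix (κ ⊕ κ) (κ ⊕ κ) F)) *ᵥ v₁ = v₁ := by
      show (1 : Matrix (κ ⊕ κ) (κ ⊕ κ) F) *ᵥ v₁ = v₁
      exact one_mulVec v₁
    rw [h3] at h2
    unfold sg at h2
    rw [h1p, h1r, one_smul, zero_smul, sub_zero, left_eq_add] at h2
    rcases smul_eq_zero.1 h2 with h4 | h4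
    · exact h4
    · exact absurd h4 h.r_ne_zero
  · rintro rfl
    exact sH_zero hH h

theorem RO_ne_bot (hH : IsOrth H) {p r : κ ⊕ κ → F} (h : SLine p r) : RO H p r h ≠ ⊥ := by
  intro hb
  have h1 : sH hH h 1 ∈ RO H p r h := sH_mem hH h 1
  rw [hb, Subgroup.mem_bot, sH_eq_one_iff] at h1
  exact one_ne_zero h1

end OrthRoot
end Cfsg.Agent.Helper25
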