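import Mathlib
import Cfsg.Prelude.Def_RootSubgroups
import Cfsg.Agent.Lib.Helper25.OrthRoot2

set_option autoImplicit false

namespace Cfsg.Agent.Helper25
namespace OrthRoot

open Matrix

variable {κ : Type} [Fintype κ] [DecidableEq κ] {F : Type*} [Field F]
variable {H : Subgroup (GL (κ ⊕ κ) F)}

theorem SLine.Qf_comb' {p r : κ ⊕ κ → F} (h : SLine p r) (a b : F) : Qf (a • p + b • r) = 0 := by
  rw [Qf_add, Qf_smul, Qf_smul, h.hp, h.hr, Bf_smul_left, Bf_smul_right, h.hpr]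
  ring

theorem mem_H_Bf (hH : IsOrth H) (g : ↥H) (u w : κ ⊕ κ → F) :
    Bf (((g : GL (κ ⊕ κ) F) : Matrix (κ ⊕ κ) (κ ⊕ κ) F) *ᵥ u)
      (((g : GL (κ ⊕ κ) F) : Matrix (κ ⊕ κ) (κ ⊕ κ) F) *ᵥ w) = Bf u w :=
  Bf_mulVec_eq _ ((hH _).1 g.2) u w

theorem mem_H_Qf (hH : IsOrth H) (g : ↥H) (u : κ ⊕ κ → F) :
    Qf (((g : GL (κ ⊕ κ) F) : Matrix (κ ⊕ κ) (κ ⊕ κ) F) *ᵥ u) = Qf u :=
  (hH _).1 g.2 u

/-- the isometries fixing the perpendicular space of a singular line pointwise are the Siegel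
transformations. -/
theorem gen_set_eq (hH : IsOrth H) {p r : κ ⊕ κ → F} (h : SLine p r) :
    {g : ↥H | ∀ v : κ ⊕ κ → F, Bf v p = 0 → Bf v r = 0 →
      ((g : GL (κ ⊕ κ) F) : Matrix (κ ⊕ κ) (κ ⊕ κ) F) *ᵥ v = v} = (RO H p r h : Set ↥H) := by
  ext g
  constructor
  · intro hg
    obtain ⟨v₁, v₂, h1p, h1r, h2p, h2r⟩ := h.dual
    -- the matrix
    have hperp : ∀ v : κ ⊕ κ → F, Bf (v - Bf v p • v₁ - Bf v r • v₂) p = 0 ∧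
        Bf (v - Bf v p • v₁ - Bf v r • v₂) r = 0 := by
      intro v
      constructor
      · rw [Bf_sub_left, Bf_sub_left, Bf_smul_left, Bf_smul_left, h1p, h2p]; ring
      · rw [Bf_sub_left, Bf_sub_left, Bf_smul_left, Bf_smul_left, h1r, h2r]; ring
    have step1 : ∀ v : κ ⊕ κ → F,
        ((g : GL (κ ⊕ κ) F) : Matrix (κ ⊕ κ) (κ ⊕ κ) F) *ᵥ v =
          v + Bf v p • (((g : GL (κ ⊕ κ) F) : Matrix (κ ⊕ κ) (κ ⊕ κ) F) *ᵥ v₁ - v₁) +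
            Bf v r • (((g : GL (κ ⊕ κ) F) : Matrix (κ ⊕ κ) (κ ⊕ κ) F) *ᵥ v₂ - v₂) := by
      intro v
      have h3 := hg _ (hperp v).1 (hperp v).2
      rw [mulVec_sub, mulVec_sub, mulVec_smul, mulVec_smul] at h3
      rw [smul_sub, smul_sub]
      have h4 : ((g : GL (κ ⊕ κ) F) : Matrix (κ ⊕ κ) (κ ⊕ κ) F) *ᵥ v =
          (v - Bf v p • v₁ - Bf v r • v₂) +
            Bf v p • (((g : GL (κ ⊕ κ) F) : Matrix (κ ⊕ κ) (κ ⊕ κ) F) *ᵥ v₁) +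
            Bf v r • (((g : GL (κ ⊕ κ) F) : Matrix (κ ⊕ κ) (κ ⊕ κ) F) *ᵥ v₂) := by
        rw [← h3]; abel
      rw [h4]; abel
    have step2 : ∀ (u w : κ ⊕ κ → F), Bf w p = 0 → Bf w r = 0 →
        Bf (((g : GL (κ ⊕ κ) F) : Matrix (κ ⊕ κ) (κ ⊕ κ) F) *ᵥ u - u) w = 0 := by
      intro u w hwp hwr
      rw [Bf_sub_left]
      nth_rewrite 1 [← hg w hwp hwr]
      rw [mem_H_Bf hH, sub_self]
    have step3 : ∀ (u : κ ⊕ κ → F),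
        ((g : GL (κ ⊕ κ) F) : Matrix (κ ⊕ κ) (κ ⊕ κ) F) *ᵥ u - u =
          Bf (((g : GL (κ ⊕ κ) F) : Matrix (κ ⊕ κ) (κ ⊕ κ) F) *ᵥ u - u) v₁ • p +
          Bf (((g : GL (κ ⊕ κ) F) : Matrix (κ ⊕ κ) (κ ⊕ κ) F) *ᵥ u - u) v₂ • r := by
      intro u
      apply eq_of_Bf_eq
      intro w
      have h5 := step2 u _ (hperp w).1 (hperp w).2
      rw [Bf_sub_right, Bf_sub_right, Bf_smul_right, Bf_smul_right] at h5
      rw [Bf_add_right, Bf_smul_right, Bf_smul_right,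
        Bf_symm w (((g : GL (κ ⊕ κ) F) : Matrix (κ ⊕ κ) (κ ⊕ κ) F) *ᵥ u - u)]
      linear_combination h5
    -- name the displacement vectors
    obtain ⟨d₁, hd₁⟩ : ∃ d₁, d₁ = ((g : GL (κ ⊕ κ) F) : Matrix (κ ⊕ κ) (κ ⊕ κ) F) *ᵥ v₁ - v₁ :=
      ⟨_, rfl⟩
    obtain ⟨d₂, hd₂⟩ : ∃ d₂, d₂ = ((g : GL (κ ⊕ κ) F) : Matrix (κ ⊕ κ) (κ ⊕ κ) F) *ᵥ v₂ - v₂ :=
      ⟨_, rfl⟩
    have e1 : d₁ = Bf d₁ v₁ • p + Bf d₁ v₂ • r := by rw [hd₁]; exact step3 v₁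
    have e2 : d₂ = Bf d₂ v₁ • p + Bf d₂ v₂ • r := by rw [hd₂]; exact step3 v₂
    have hM : ∀ v : κ ⊕ κ → F,
        ((g : GL (κ ⊕ κ) F) : Matrix (κ ⊕ κ) (κ ⊕ κ) F) *ᵥ v = v + Bf v p • d₁ + Bf v r • d₂ := by
      intro v
      rw [hd₁, hd₂]
      exact step1 v
    have q1 : Qf d₁ = 0 := by rw [e1]; exact h.Qf_comb' _ _
    have q2 : Qf d₂ = 0 := by rw [e2]; exact h.Qf_comb' _ _
    have q12 : Bf d₁ d₂ = 0 := by
      rw [e1, e2]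
      simp only [Bf_add_left, Bf_add_right, Bf_smul_left, Bf_smul_right, h.hpp, h.hrr, h.hpr,
        h.hrp]
      ring
    -- a₁ = 0
    have a1 : Bf d₁ v₁ = 0 := by
      have h6 := mem_H_Qf hH g v₁
      rw [hM v₁, h1p, h1r, one_smul, zero_smul, add_zero, Qf_add, q1, Bf_symm] at h6
      linear_combination h6
    have b2 : Bf d₂ v₂ = 0 := by
      have h6 := mem_H_Qf hH g v₂
      rw [hM v₂, h2p, h2r, one_smul, zero_smul, add_zero, Qf_add, q2, Bf_symm] at h6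
      linear_combination h6
    have ab : Bf d₂ v₁ + Bf d₁ v₂ = 0 := by
      have h6 := mem_H_Qf hH g (v₁ + v₂)
      rw [hM (v₁ + v₂), Bf_add_left, Bf_add_left, h1p, h1r, h2p, h2r, add_zero, zero_add,
        one_smul, one_smul, add_assoc, Qf_add (v₁ + v₂), Qf_add d₁, q1, q2, q12,
        Bf_add_left, Bf_add_right, Bf_add_right, Bf_symm v₁ d₁, Bf_symm v₂ d₂, a1, b2,
        Bf_symm v₁ d₂, Bf_symm v₂ d₁] at h6
      linear_combination h6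
    refine ⟨Bf d₁ v₂, ?_⟩
    apply Matrix.ext_iff_mulVec.2
    intro v
    rw [hM v, smat_mulVec]
    unfold sg
    have e1' : d₁ = Bf d₁ v₂ • r := by
      conv_lhs => rw [e1, a1, zero_smul, zero_add]
    have e2' : d₂ = -Bf d₁ v₂ • p := by
      conv_lhs => rw [e2, b2, zero_smul, add_zero]
      rw [eq_neg_of_add_eq_zero_left ab]
    rw [e2']
    nth_rewrite 1 [e1']
    module
  · rintro ⟨c, hc⟩ v hvp hvr
    rw [hc, smat_mulVec]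
    unfold sg
    rw [hvp, hvr, zero_smul, zero_smul, sub_zero, smul_zero, add_zero]

theorem RO_eq_closure (hH : IsOrth H) {p r : κ ⊕ κ → F} (h : SLine p r) :
    Subgroup.closure {g : ↥H | ∀ v : κ ⊕ κ → F, Bf v p = 0 → Bf v r = 0 →
      ((g : GL (κ ⊕ κ) F) : Matrix (κ ⊕ κ) (κ ⊕ κ) F) *ᵥ v = v} = RO H p r h := by
  rw [gen_set_eq hH h]
  exact Subgroup.closure_eq _

/-- the root group only depends on the line. -/
theorem RO_congr (hH : IsOrth H) {p r p' r' : κ ⊕ κ → F} (h : SLine p r) (h' : SLine p' r')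
    (hperp : ∀ v : κ ⊕ κ → F, (Bf v p = 0 ∧ Bf v r = 0) ↔ (Bf v p' = 0 ∧ Bf v r' = 0)) :
    RO H p r h = RO H p' r' h' := by
  apply SetLike.coe_injective
  rw [← gen_set_eq hH h, ← gen_set_eq hH h']
  ext g
  constructor
  · intro hg v hv1 hv2
    have := (hperp v).2 ⟨hv1, hv2⟩
    exact hg v this.1 this.2
  · intro hg v hv1 hv2
    have := (hperp v).1 ⟨hv1, hv2⟩
    exact hg v this.1 this.2

theorem RO_swap (hH : IsOrth H) {p r : κ ⊕ κ → F} (h : SLine p r) :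
    RO H r p h.symm = RO H p r h :=
  RO_congr hH h.symm h (fun v => ⟨fun ⟨a, b⟩ => ⟨b, a⟩, fun ⟨a, b⟩ => ⟨b, a⟩⟩)

/-- the image of a singular line under an isometry. -/
theorem SLine.map (hH : IsOrth H) {p r : κ ⊕ κ → F} (h : SLine p r) (g : ↥H) :
    SLine (((g : GL (κ ⊕ κ) F) : Matrix (κ ⊕ κ) (κ ⊕ κ) F) *ᵥ p)
      (((g : GL (κ ⊕ κ) F) : Matrix (κ ⊕ κ) (κ ⊕ κ) F) *ᵥ r) := by
  obtain ⟨v₁, v₂, h1p, h1r, h2p, h2r⟩ := h.dual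
  refine ⟨by rw [mem_H_Qf hH, h.hp], by rw [mem_H_Qf hH, h.hr], by rw [mem_H_Bf hH, h.hpr],
    ((g : GL (κ ⊕ κ) F) : Matrix (κ ⊕ κ) (κ ⊕ κ) F) *ᵥ v₁,
    ((g : GL (κ ⊕ κ) F) : Matrix (κ ⊕ κ) (κ ⊕ κ) F) *ᵥ v₂, ?_, ?_, ?_, ?_⟩
  · rw [mem_H_Bf hH, h1p]
  · rw [mem_H_Bf hH, h1r]
  · rw [mem_H_Bf hH, h2p]
  · rw [mem_H_Bf hH, h2r]

theorem conj_sH (hH : IsOrth H) {p r : κ ⊕ κ → F} (h : SLine p r) (g : ↥H) (c : F) :
    g * sH hH h c * g⁻¹ = sH hH (h.map hH g) c := by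
  apply h_ext
  intro v
  rw [sH_mulVec]
  show (((g : GL (κ ⊕ κ) F) : Matrix (κ ⊕ κ) (κ ⊕ κ) F) *
    (((sH hH h c : ↥H) : GL (κ ⊕ κ) F) : Matrix (κ ⊕ κ) (κ ⊕ κ) F) *
    (((g : GL (κ ⊕ κ) F)⁻¹ : GL (κ ⊕ κ) F) : Matrix (κ ⊕ κ) (κ ⊕ κ) F)) *ᵥ v = _
  rw [← mulVec_mulVec, ← mulVec_mulVec, sH_mulVec]
  have e : ∀ w : κ ⊕ κ → F,
      Bf ((((g : GL (κ ⊕ κ) F)⁻¹ : GL (κ ⊕ κ) F) : Matrix (κ ⊕ κ) (κ ⊕ κ) F) *ᵥ v) w =
        Bf v (((g : GL (κ ⊕ κ) F) : Matrix (κ ⊕ κ) (κ ⊕ κ) F) *ᵥ w) := by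
    intro w
    rw [← mem_H_Bf hH g, gl_mulVec_inv]
  unfold sg
  rw [mulVec_add, gl_mulVec_inv, mulVec_smul, mulVec_sub, mulVec_smul, mulVec_smul, e, e]

theorem conjBy_RO (hH : IsOrth H) {p r : κ ⊕ κ → F} (h : SLine p r) (g : ↥H) :
    Cfsg.conjBy (RO H p r h) g = RO H _ _ (h.map hH g) := by
  ext x
  rw [mem_conjBy, mem_RO' hH, mem_RO' hH]
  constructor
  · rintro ⟨c, hc⟩
    refine ⟨c, ?_⟩
    rw [← conj_sH hH h g c, ← hc]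
    group
  · rintro ⟨c, rfl⟩
    refine ⟨c, ?_⟩
    rw [← conj_sH hH h g c]
    group

end OrthRoot
end Cfsg.Agent.Helper25
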