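import Mathlib
import Cfsg.Prelude.Def_RootSubgroups
import Cfsg.Agent.Lib.Helper25.OrthRoot3

set_option autoImplicit false

namespace Cfsg.Agent.Helper25
namespace OrthRoot

open Matrix
open scoped commutatorElement

variable {κ : Type} [Fintype κ] [DecidableEq κ] {F : Type*} [Field F]
variable {H : Subgroup (GL (κ ⊕ κ) F)}

theorem Bf_sg (p r : κ ⊕ κ → F) (c : F) (v w : κ ⊕ κ → F) :
    Bf (sg p r c v) w = Bf v w + c * (Bf v p * Bf r w - Bf v r * Bf p w) := by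
  unfold sg
  rw [Bf_add_left, Bf_smul_left, Bf_sub_left, Bf_smul_left, Bf_smul_left]

/-- perpendicular lines give commuting transformations. -/
theorem sH_commute_of_perp (hH : IsOrth H) {p₁ r₁ p₂ r₂ : κ ⊕ κ → F} (h₁ : SLine p₁ r₁)
    (h₂ : SLine p₂ r₂) (h11 : Bf p₁ p₂ = 0) (h12 : Bf p₁ r₂ = 0) (h21 : Bf r₁ p₂ = 0)
    (h22 : Bf r₁ r₂ = 0) (c d : F) :
    sH hH h₁ c * sH hH h₂ d = sH hH h₂ d * sH hH h₁ c := by
  apply h_ext
  intro v
  show ((((sH hH h₁ c : ↥H) : GL (κ ⊕ κ) F) : Matrix (κ ⊕ κ) (κ ⊕ κ) F) *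
    (((sH hH h₂ d : ↥H) : GL (κ ⊕ κ) F) : Matrix (κ ⊕ κ) (κ ⊕ κ) F)) *ᵥ v =
    ((((sH hH h₂ d : ↥H) : GL (κ ⊕ κ) F) : Matrix (κ ⊕ κ) (κ ⊕ κ) F) *
    (((sH hH h₁ c : ↥H) : GL (κ ⊕ κ) F) : Matrix (κ ⊕ κ) (κ ⊕ κ) F)) *ᵥ v
  rw [← mulVec_mulVec, ← mulVec_mulVec, sH_mulVec, sH_mulVec, sH_mulVec, sH_mulVec]
  have e1 : sg p₁ r₁ c (sg p₂ r₂ d v) =
      sg p₂ r₂ d v + c • (Bf (sg p₂ r₂ d v) p₁ • r₁ - Bf (sg p₂ r₂ d v) r₁ • p₁) := rfl
  have e2 : sg p₂ r₂ d (sg p₁ r₁ c v) =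
      sg p₁ r₁ c v + d • (Bf (sg p₁ r₁ c v) p₂ • r₂ - Bf (sg p₁ r₁ c v) r₂ • p₂) := rfl
  rw [e1, e2, Bf_sg, Bf_sg, Bf_sg, Bf_sg, Bf_symm r₂ p₁, Bf_symm p₂ p₁, Bf_symm r₂ r₁,
    Bf_symm p₂ r₁, h11, h12, h21, h22]
  unfold sg
  simp only [mul_zero, sub_zero, add_zero]
  abel

theorem comm_eq_bot_of_perp (hH : IsOrth H) {p₁ r₁ p₂ r₂ : κ ⊕ κ → F} (h₁ : SLine p₁ r₁)
    (h₂ : SLine p₂ r₂) (h11 : Bf p₁ p₂ = 0) (h12 : Bf p₁ r₂ = 0) (h21 : Bf r₁ p₂ = 0)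
    (h22 : Bf r₁ r₂ = 0) : ⁅RO H p₁ r₁ h₁, RO H p₂ r₂ h₂⁆ = ⊥ := by
  rw [eq_bot_iff, Subgroup.commutator_le]
  intro a ha b hb
  obtain ⟨c, rfl⟩ := (mem_RO' hH).1 ha
  obtain ⟨d, rfl⟩ := (mem_RO' hH).1 hb
  rw [Subgroup.mem_bot, commutatorElement_eq_one_iff_mul_comm]
  exact sH_commute_of_perp hH h₁ h₂ h11 h12 h21 h22 c d

/-- normalized data for a pair of lines with Gram matrix of rank one. -/
structure Rank1 (x a y b : κ ⊕ κ → F) : Prop where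
  h₁ : SLine x a
  h₂ : SLine y b
  hxy : Bf x y = 0
  hxb : Bf x b = 0
  hay : Bf a y = 0
  hab : Bf a b = 1

/-- the commutator relation, on vectors. -/
theorem Rank1.sg_rel {x a y b : κ ⊕ κ → F} (R : Rank1 x a y b) (c d : F) (v : κ ⊕ κ → F) :
    sg x a c (sg y b d v) = sg x y (c * d) (sg y b d (sg x a c v)) := by
  have e1 : sg x a c (sg y b d v) =
      sg y b d v + c • (Bf (sg y b d v) x • a - Bf (sg y b d v) a • x) := rfl
  have e2 : sg y b d (sg x a c v) =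
      sg x a c v + d • (Bf (sg x a c v) y • b - Bf (sg x a c v) b • y) := rfl
  have e3 : sg x y (c * d) (sg y b d (sg x a c v)) = sg y b d (sg x a c v) +
      (c * d) • (Bf (sg y b d (sg x a c v)) x • y - Bf (sg y b d (sg x a c v)) y • x) := rfl
  rw [e3, e1]
  simp only [Bf_sg]
  rw [e2]
  simp only [Bf_sg]
  have s1 : Bf b x = 0 := by rw [Bf_symm]; exact R.hxb
  have s2 : Bf y x = 0 := by rw [Bf_symm]; exact R.hxy
  have s3 : Bf b a = 1 := by rw [Bf_symm]; exact R.hab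
  have s4 : Bf y a = 0 := by rw [Bf_symm]; exact R.hay
  simp only [s1, s2, s3, s4, R.hxy, R.hxb, R.hay, R.hab, R.h₁.hpp, R.h₁.hpr, R.h₁.hrp,
    R.h₂.hpp, R.h₂.hrp, R.h₂.hpr, R.h₂.hrr, R.h₁.hrr]
  unfold sg
  simp only [mul_zero, sub_zero, add_zero, mul_one, zero_sub, zero_mul]
  module

theorem mul_mulVec (g g' : ↥H) (v : κ ⊕ κ → F) :
    (((g * g' : ↥H) : GL (κ ⊕ κ) F) : Matrix (κ ⊕ κ) (κ ⊕ κ) F) *ᵥ v =
      ((g : GL (κ ⊕ κ) F) : Matrix (κ ⊕ κ) (κ ⊕ κ) F) *ᵥ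
        (((g' : GL (κ ⊕ κ) F) : Matrix (κ ⊕ κ) (κ ⊕ κ) F) *ᵥ v) := by
  rw [mulVec_mulVec]
  rfl

/-- the commutator relation in the group. -/
theorem Rank1.comm_rel (hH : IsOrth H) {x a y b : κ ⊕ κ → F} (R : Rank1 x a y b)
    (hxy : SLine x y) (c d : F) :
    ⁅sH hH R.h₁ c, sH hH R.h₂ d⁆ = sH hH hxy (c * d) := by
  have h : sH hH R.h₁ c * sH hH R.h₂ d = sH hH hxy (c * d) * sH hH R.h₂ d * sH hH R.h₁ c := by
    apply h_ext
    intro v
    rw [mul_mulVec, mul_mulVec, mul_mulVec, sH_mulVec, sH_mulVec, sH_mulVec, sH_mulVec,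
      sH_mulVec, R.sg_rel]
  rw [commutatorElement_def, h]
  group

theorem Rank1.commute_of_dep (hH : IsOrth H) {x a y b : κ ⊕ κ → F} (R : Rank1 x a y b)
    {l : F} (hy : y = l • x) (c d : F) :
    sH hH R.h₁ c * sH hH R.h₂ d = sH hH R.h₂ d * sH hH R.h₁ c := by
  apply h_ext
  intro v
  rw [mul_mulVec, mul_mulVec, sH_mulVec, sH_mulVec, sH_mulVec, sH_mulVec, R.sg_rel]
  have : ∀ w : κ ⊕ κ → F, sg x y (c * d) w = w := by
    intro w
    unfold sg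
    rw [hy, Bf_smul_right, smul_smul, mul_comm (Bf w x) l, sub_self, smul_zero,
      add_zero]
  rw [this]

theorem Rank1.comm_eq_bot_of_dep (hH : IsOrth H) {x a y b : κ ⊕ κ → F} (R : Rank1 x a y b)
    {l : F} (hy : y = l • x) : ⁅RO H x a R.h₁, RO H y b R.h₂⁆ = ⊥ := by
  rw [eq_bot_iff, Subgroup.commutator_le]
  intro a' ha b' hb
  obtain ⟨c, rfl⟩ := (mem_RO' hH).1 ha
  obtain ⟨d, rfl⟩ := (mem_RO' hH).1 hb
  rw [Subgroup.mem_bot, commutatorElement_eq_one_iff_mul_comm]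
  exact R.commute_of_dep hH hy c d

theorem Rank1.comm_eq (hH : IsOrth H) {x a y b : κ ⊕ κ → F} (R : Rank1 x a y b)
    (hxy : SLine x y) : ⁅RO H x a R.h₁, RO H y b R.h₂⁆ = RO H x y hxy := by
  apply le_antisymm
  · rw [Subgroup.commutator_le]
    intro a' ha b' hb
    obtain ⟨c, rfl⟩ := (mem_RO' hH).1 ha
    obtain ⟨d, rfl⟩ := (mem_RO' hH).1 hb
    rw [R.comm_rel hH hxy]
    exact sH_mem hH hxy _
  · intro g hg
    obtain ⟨e, rfl⟩ := (mem_RO' hH).1 hg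
    have := R.comm_rel hH hxy e 1
    rw [mul_one] at this
    rw [← this]
    exact Subgroup.commutator_mem_commutator (sH_mem hH R.h₁ e) (sH_mem hH R.h₂ 1)

/-- the commutator case. -/
theorem Rank1.commCase (hH : IsOrth H) {x a y b : κ ⊕ κ → F} (R : Rank1 x a y b)
    (hxy : SLine x y) {S : Set (Subgroup ↥H)} (hS : RO H x y hxy ∈ S) :
    Cfsg.RootCommutatorCase S (RO H x a R.h₁) (RO H y b R.h₂) := by
  have hcomm := R.comm_eq hH hxy
  have hyx : Bf y x = 0 := by rw [Bf_symm]; exact R.hxy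
  have hya : Bf y a = 0 := by rw [Bf_symm]; exact R.hay
  refine ⟨by rw [hcomm]; exact hS, ?_, ?_, ?_⟩
  · intro c hc z hz
    rw [hcomm] at hc
    obtain ⟨e, rfl⟩ := (mem_RO' hH).1 hc
    have hle : RO H x a R.h₁ ⊔ RO H y b R.h₂ ≤ Subgroup.centralizer {sH hH hxy e} := by
      apply sup_le
      · intro g hg
        obtain ⟨c', rfl⟩ := (mem_RO' hH).1 hg
        rw [Subgroup.mem_centralizer_iff]
        intro k hk
        rw [Set.mem_singleton_iff] at hk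
        rw [hk]
        exact sH_commute_of_perp hH hxy R.h₁ R.h₁.hpp R.h₁.hpr hyx hya e c'
      · intro g hg
        obtain ⟨c', rfl⟩ := (mem_RO' hH).1 hg
        rw [Subgroup.mem_centralizer_iff]
        intro k hk
        rw [Set.mem_singleton_iff] at hk
        rw [hk]
        exact sH_commute_of_perp hH hxy R.h₂ R.hxy R.hxb R.h₂.hpp R.h₂.hpr e c'
    have := hle hz
    rw [Subgroup.mem_centralizer_iff] at this
    exact this _ rfl
  · intro a' ha ha1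
    obtain ⟨c, rfl⟩ := (mem_RO' hH).1 ha
    have hc0 : c ≠ 0 := fun h => ha1 ((sH_eq_one_iff hH R.h₁ c).2 h)
    rw [hcomm]
    have hset : (fun b' : ↥H => sH hH R.h₁ c * b' * (sH hH R.h₁ c)⁻¹ * b'⁻¹) ''
        (RO H y b R.h₂ : Set ↥H) = (RO H x y hxy : Set ↥H) := by
      ext g
      constructor
      · rintro ⟨b', hb', rfl⟩
        obtain ⟨d, rfl⟩ := (mem_RO' hH).1 hb'
        have := R.comm_rel hH hxy c d
        rw [commutatorElement_def] at this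
        beta_reduce
        rw [this]
        exact sH_mem hH hxy _
      · intro hg
        obtain ⟨e, rfl⟩ := (mem_RO' hH).1 hg
        refine ⟨sH hH R.h₂ (c⁻¹ * e), sH_mem hH R.h₂ _, ?_⟩
        have := R.comm_rel hH hxy c (c⁻¹ * e)
        rw [commutatorElement_def, mul_inv_cancel_left₀ hc0 e] at this
        exact this
    rw [hset]
    exact Subgroup.closure_eq _
  · intro b' hb hb1
    obtain ⟨d, rfl⟩ := (mem_RO' hH).1 hb
    have hd0 : d ≠ 0 := fun h => hb1 ((sH_eq_one_iff hH R.h₂ d).2 h)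
    rw [hcomm]
    have hset : (fun a' : ↥H => a' * sH hH R.h₂ d * a'⁻¹ * (sH hH R.h₂ d)⁻¹) ''
        (RO H x a R.h₁ : Set ↥H) = (RO H x y hxy : Set ↥H) := by
      ext g
      constructor
      · rintro ⟨a', ha', rfl⟩
        obtain ⟨c, rfl⟩ := (mem_RO' hH).1 ha'
        have := R.comm_rel hH hxy c d
        rw [commutatorElement_def] at this
        beta_reduce
        rw [this]
        exact sH_mem hH hxy _
      · intro hg
        obtain ⟨e, rfl⟩ := (mem_RO' hH).1 hg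
        refine ⟨sH hH R.h₁ (e * d⁻¹), sH_mem hH R.h₁ _, ?_⟩
        have := R.comm_rel hH hxy (e * d⁻¹) d
        rw [commutatorElement_def, inv_mul_cancel_right₀ hd0 e] at this
        exact this
    rw [hset]
    exact Subgroup.closure_eq _

end OrthRoot
end Cfsg.Agent.Helper25
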