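import Mathlib
import Cfsg.Prelude.Def_RootSubgroups
import Cfsg.Agent.Lib.Helper25.ConjBy

/-!
# `SL₂(k)` as a special rank one group (helper25)
-/

set_option autoImplicit false

namespace Cfsg.Agent.Helper25.SL2

open Matrix Cfsg

variable {k : Type*} [Field k]

/-- The lower unitriangular matrix with entry `t`. -/
def L (t : k) : SpecialLinearGroup (Fin 2) k := ⟨!![1, 0; t, 1], by simp [det_fin_two]⟩

/-- The upper unitriangular matrix with entry `s`. -/
def U (s : k) : SpecialLinearGroup (Fin 2) k := ⟨!![1, s; 0, 1], by simp [det_fin_two]⟩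

theorem L_val (t : k) : (L t : Matrix (Fin 2) (Fin 2) k) = !![1, 0; t, 1] := rfl
theorem U_val (s : k) : (U s : Matrix (Fin 2) (Fin 2) k) = !![1, s; 0, 1] := rfl

theorem L_mul (t u : k) : L t * L u = L (t + u) := by
  ext i j
  fin_cases i <;> fin_cases j <;>
    simp [L_val, SpecialLinearGroup.coe_mul, Matrix.mul_apply, Fin.sum_univ_two, add_comm]

theorem U_mul (s r : k) : U s * U r = U (s + r) := by
  ext i j
  fin_cases i <;> fin_cases j <;>
    simp [U_val, SpecialLinearGroup.coe_mul, Matrix.mul_apply, Fin.sum_univ_two, add_comm]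

theorem L_zero : L (0 : k) = 1 := by
  ext i j
  fin_cases i <;> fin_cases j <;> simp [L_val]

theorem U_zero : U (0 : k) = 1 := by
  ext i j
  fin_cases i <;> fin_cases j <;> simp [U_val]

theorem L_inv (t : k) : (L t)⁻¹ = L (-t) := by
  rw [inv_eq_iff_mul_eq_one, L_mul, add_neg_cancel, L_zero]

theorem U_inv (s : k) : (U s)⁻¹ = U (-s) := by
  rw [inv_eq_iff_mul_eq_one, U_mul, add_neg_cancel, U_zero]

theorem L_injective : Function.Injective (L : k → SpecialLinearGroup (Fin 2) k) := by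
  intro t u h
  have := congrArg (fun M : SpecialLinearGroup (Fin 2) k => (M : Matrix (Fin 2) (Fin 2) k) 1 0) h
  simpa [L_val] using this

theorem U_injective : Function.Injective (U : k → SpecialLinearGroup (Fin 2) k) := by
  intro t u h
  have := congrArg (fun M : SpecialLinearGroup (Fin 2) k => (M : Matrix (Fin 2) (Fin 2) k) 0 1) h
  simpa [U_val] using this

theorem L_eq_one_iff (t : k) : L t = 1 ↔ t = 0 := by
  rw [← L_zero]
  exact L_injective.eq_iff

theorem U_eq_one_iff (s : k) : U s = 1 ↔ s = 0 := by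
  rw [← U_zero]
  exact U_injective.eq_iff

/-- The lower unitriangular subgroup, explicitly. -/
def lowerSub (k : Type*) [Field k] : Subgroup (SpecialLinearGroup (Fin 2) k) where
  carrier := Set.range L
  mul_mem' := by
    rintro _ _ ⟨t, rfl⟩ ⟨u, rfl⟩
    exact ⟨t + u, (L_mul t u).symm⟩
  one_mem' := ⟨0, L_zero⟩
  inv_mem' := by
    rintro _ ⟨t, rfl⟩
    exact ⟨-t, (L_inv t).symm⟩

/-- The upper unitriangular subgroup, explicitly. -/
def upperSub (k : Type*) [Field k] : Subgroup (SpecialLinearGroup (Fin 2) k) where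
  carrier := Set.range U
  mul_mem' := by
    rintro _ _ ⟨t, rfl⟩ ⟨u, rfl⟩
    exact ⟨t + u, (U_mul t u).symm⟩
  one_mem' := ⟨0, U_zero⟩
  inv_mem' := by
    rintro _ ⟨t, rfl⟩
    exact ⟨-t, (U_inv t).symm⟩

theorem lower_set_eq : {g : SpecialLinearGroup (Fin 2) k | (g : Matrix (Fin 2) (Fin 2) k) 0 1 = 0 ∧
    (g : Matrix (Fin 2) (Fin 2) k) 0 0 = 1 ∧ (g : Matrix (Fin 2) (Fin 2) k) 1 1 = 1} =
    Set.range L := by
  ext g
  constructor
  · rintro ⟨h1, h2, h3⟩
    refine ⟨(g : Matrix (Fin 2) (Fin 2) k) 1 0, ?_⟩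
    ext i j
    fin_cases i <;> fin_cases j <;> simp [L_val, h1, h2, h3]
  · rintro ⟨t, rfl⟩
    simp [L_val]

theorem upper_set_eq : {g : SpecialLinearGroup (Fin 2) k | (g : Matrix (Fin 2) (Fin 2) k) 1 0 = 0 ∧
    (g : Matrix (Fin 2) (Fin 2) k) 0 0 = 1 ∧ (g : Matrix (Fin 2) (Fin 2) k) 1 1 = 1} =
    Set.range U := by
  ext g
  constructor
  · rintro ⟨h1, h2, h3⟩
    refine ⟨(g : Matrix (Fin 2) (Fin 2) k) 0 1, ?_⟩
    ext i j
    fin_cases i <;> fin_cases j <;> simp [U_val, h1, h2, h3]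
  · rintro ⟨t, rfl⟩
    simp [U_val]

theorem lower_eq : lowerUnipotentSL2 k = lowerSub k := by
  rw [lowerUnipotentSL2, lower_set_eq]
  exact Subgroup.closure_eq (lowerSub k)

theorem upper_eq : upperUnipotentSL2 k = upperSub k := by
  rw [upperUnipotentSL2, upper_set_eq]
  exact Subgroup.closure_eq (upperSub k)

theorem mem_lower_iff {g : SpecialLinearGroup (Fin 2) k} :
    g ∈ lowerUnipotentSL2 k ↔ ∃ t, L t = g := by
  rw [lower_eq]
  rfl

theorem mem_upper_iff {g : SpecialLinearGroup (Fin 2) k} :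
    g ∈ upperUnipotentSL2 k ↔ ∃ s, U s = g := by
  rw [upper_eq]
  rfl

theorem L_mem (t : k) : L t ∈ lowerUnipotentSL2 k := mem_lower_iff.mpr ⟨t, rfl⟩
theorem U_mem (s : k) : U s ∈ upperUnipotentSL2 k := mem_upper_iff.mpr ⟨s, rfl⟩

theorem ULU_val (x c y : k) : ((U x * L c * U y : SpecialLinearGroup (Fin 2) k) :
    Matrix (Fin 2) (Fin 2) k) = !![1 + x * c, y + x * (c * y + 1); c, c * y + 1] := by
  ext i j
  fin_cases i <;> fin_cases j <;>
    simp [L_val, U_val, SpecialLinearGroup.coe_mul, Matrix.mul_apply, Fin.sum_univ_two] <;> ring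

theorem LUL_val (x c y : k) : ((L x * U c * L y : SpecialLinearGroup (Fin 2) k) :
    Matrix (Fin 2) (Fin 2) k) = !![c * y + 1, c; y + x * (c * y + 1), 1 + x * c] := by
  ext i j
  fin_cases i <;> fin_cases j <;>
    simp [L_val, U_val, SpecialLinearGroup.coe_mul, Matrix.mul_apply, Fin.sum_univ_two] <;> ring

/-- The basic identity: for `s t = 1`, `U(-s) L(u) U(s) = L(-t) U(-s²u) L(t)`. -/
theorem key (s t u : k) (h : s * t = 1) :
    U (-s) * L u * U s = L (-t) * U (-(s ^ 2 * u)) * L t := by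
  apply Subtype.ext
  rw [ULU_val, LUL_val]
  ext i j
  fin_cases i <;> fin_cases j <;> simp
  · linear_combination (s * u) * h
  · ring
  · linear_combination (-u * (s * t + 1)) * h
  · linear_combination (-(u * s)) * h

theorem mem_conjBy_inv {G : Type*} [Group G] {A : Subgroup G} {g x : G} :
    x ∈ conjBy A g⁻¹ ↔ ∃ a ∈ A, x = g⁻¹ * a * g := by
  rw [Cfsg.Agent.Helper25.mem_conjBy]
  constructor
  · intro h
    exact ⟨_, h, by group⟩
  · rintro ⟨a, ha, rfl⟩
    have : g⁻¹⁻¹ * (g⁻¹ * a * g) * g⁻¹ = a := by group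
    rw [this]
    exact ha

/-- For `s t = 1`: `U(s)⁻¹ A U(s) = L(t)⁻¹ B L(t)`, `A` lower, `B` upper unitriangular. -/
theorem conjBy_eq (s t : k) (h : s * t = 1) :
    conjBy (lowerUnipotentSL2 k) (U s)⁻¹ = conjBy (upperUnipotentSL2 k) (L t)⁻¹ := by
  ext x
  rw [mem_conjBy_inv, mem_conjBy_inv]
  constructor
  · rintro ⟨a, ha, rfl⟩
    obtain ⟨u, rfl⟩ := mem_lower_iff.mp ha
    refine ⟨U (-(s ^ 2 * u)), U_mem _, ?_⟩
    rw [U_inv, L_inv]
    exact key s t u h
  · rintro ⟨b, hb, rfl⟩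
    obtain ⟨v, rfl⟩ := mem_upper_iff.mp hb
    refine ⟨L (-(t ^ 2 * v)), L_mem _, ?_⟩
    rw [U_inv, L_inv, key s t _ h]
    have : -(s ^ 2 * -(t ^ 2 * v)) = v := by
      linear_combination (v * (s * t + 1)) * h
    rw [this]

/-- `SL₂(k)` is generated by the two unitriangular subgroups. -/
theorem sup_eq_top : lowerUnipotentSL2 k ⊔ upperUnipotentSL2 k = ⊤ := by
  rw [eq_top_iff]
  have hL : ∀ t : k, L t ∈ lowerUnipotentSL2 k ⊔ upperUnipotentSL2 k := fun t =>
    Subgroup.mem_sup_left (L_mem t)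
  have hU : ∀ t : k, U t ∈ lowerUnipotentSL2 k ⊔ upperUnipotentSL2 k := fun t =>
    Subgroup.mem_sup_right (U_mem t)
  have main : ∀ g : SpecialLinearGroup (Fin 2) k, (g : Matrix (Fin 2) (Fin 2) k) 1 0 ≠ 0 →
      g ∈ lowerUnipotentSL2 k ⊔ upperUnipotentSL2 k := by
    intro g hc
    have hdet : (g : Matrix (Fin 2) (Fin 2) k) 0 0 * (g : Matrix (Fin 2) (Fin 2) k) 1 1 -
        (g : Matrix (Fin 2) (Fin 2) k) 0 1 * (g : Matrix (Fin 2) (Fin 2) k) 1 0 = 1 := by
      have := g.det_coe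
      rwa [det_fin_two] at this
    have hg : g = U (((g : Matrix (Fin 2) (Fin 2) k) 0 0 - 1) / (g : Matrix (Fin 2) (Fin 2) k) 1 0) *
        L ((g : Matrix (Fin 2) (Fin 2) k) 1 0) *
        U (((g : Matrix (Fin 2) (Fin 2) k) 1 1 - 1) / (g : Matrix (Fin 2) (Fin 2) k) 1 0) := by
      apply Subtype.ext
      rw [ULU_val]
      ext i j
      fin_cases i <;> fin_cases j <;> simp
      · field_simp
        ring
      · field_simp
        linear_combination (-1 : k) * hdet
      · field_simp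
        ring
    rw [hg]
    exact Subgroup.mul_mem _ (Subgroup.mul_mem _ (hU _) (hL _)) (hU _)
  intro g _
  by_cases hc : (g : Matrix (Fin 2) (Fin 2) k) 1 0 = 0
  · have hdet : (g : Matrix (Fin 2) (Fin 2) k) 0 0 * (g : Matrix (Fin 2) (Fin 2) k) 1 1 -
        (g : Matrix (Fin 2) (Fin 2) k) 0 1 * (g : Matrix (Fin 2) (Fin 2) k) 1 0 = 1 := by
      have := g.det_coe
      rwa [det_fin_two] at this
    have ha : (g : Matrix (Fin 2) (Fin 2) k) 0 0 ≠ 0 := by
      intro h0
      rw [h0, hc] at hdet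
      simp at hdet
    have h1 : L 1 * g ∈ lowerUnipotentSL2 k ⊔ upperUnipotentSL2 k := by
      apply main
      simp [L_val, SpecialLinearGroup.coe_mul, Matrix.mul_apply, Fin.sum_univ_two, hc, ha]
    have h2 : g = (L 1)⁻¹ * (L 1 * g) := by group
    rw [h2]
    exact Subgroup.mul_mem _ (Subgroup.inv_mem _ (hL 1)) h1
  · exact main g hc

end Cfsg.Agent.Helper25.SL2
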