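import Mathlib
import Cfsg.Prelude.Def_RootSubgroups
import Cfsg.Agent.Lib.Helper25.ConjBy
import Cfsg.Agent.Lib.Helper25.SylowIn
import Cfsg.Agent.Lib.Helper25.FusionNormal

set_option autoImplicit false

namespace Cfsg.Agent.Helper25
namespace RankOne

variable {G : Type*} [Group G] {A B : Subgroup G}

/-- `N_A(B) = 1` in a rank one pair. -/
theorem eq_one_of_normalizes (h : Cfsg.IsRankOnePair A B) {a : G} (ha : a ∈ A)
    (hn : Cfsg.conjBy B a = B) : a = 1 := by
  by_contra ha1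
  obtain ⟨b, hb, _, hE⟩ := h.cond_left a ha ha1
  have h1 : Cfsg.conjBy B a⁻¹ = B := by
    have := (conjBy_eq_iff (A := B) (B := B) (g := a)).1 hn
    exact this.symm
  rw [h1] at hE
  have h2 : A = Cfsg.conjBy B b := by
    have := (conjBy_eq_iff (A := A) (B := B) (g := b⁻¹)).1 hE
    simpa using this
  rw [conjBy_of_mem hb] at h2
  exact h.ne h2

theorem ne_bot_left (h : Cfsg.IsRankOnePair A B) : A ≠ ⊥ := by
  intro hA
  have hB : B ≠ ⊥ := fun hB => h.ne (hA.trans hB.symm)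
  rcases B.bot_or_exists_ne_one with hB' | ⟨b, hb, hb1⟩
  · exact hB hB'
  · obtain ⟨a, ha, ha1, _⟩ := h.cond_right b hb hb1
    rw [hA, Subgroup.mem_bot] at ha
    exact ha1 ha

theorem ne_bot_right (h : Cfsg.IsRankOnePair A B) : B ≠ ⊥ :=
  ne_bot_left (Cfsg.RankOnePair_symm h)

theorem exists_ne_one_left (h : Cfsg.IsRankOnePair A B) : ∃ a ∈ A, a ≠ 1 := by
  rcases A.bot_or_exists_ne_one with hA | h'
  · exact absurd hA (ne_bot_left h)
  · exact h'

theorem exists_ne_one_right (h : Cfsg.IsRankOnePair A B) : ∃ b ∈ B, b ≠ 1 :=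
  exists_ne_one_left (Cfsg.RankOnePair_symm h)

theorem left_mem (A B : Subgroup G) : A ∈ Cfsg.unipotentSubgroups A B :=
  ⟨1, Subgroup.one_mem _, (conjBy_one A).symm⟩

theorem conjBy_mem {C : Subgroup G} (hC : C ∈ Cfsg.unipotentSubgroups A B) {x : G} (hx : x ∈ A ⊔ B) :
    Cfsg.conjBy C x ∈ Cfsg.unipotentSubgroups A B := by
  obtain ⟨g, hg, rfl⟩ := hC
  exact ⟨x * g, Subgroup.mul_mem _ hx hg, conjBy_conjBy A g x⟩

theorem right_mem (h : Cfsg.IsRankOnePair A B) : B ∈ Cfsg.unipotentSubgroups A B := by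
  obtain ⟨a, ha, ha1⟩ := exists_ne_one_left h
  obtain ⟨b, hb, _, hE⟩ := h.cond_left a ha ha1
  refine ⟨a * b⁻¹, Subgroup.mul_mem _ (le_sup_left (a := A) ha)
    (Subgroup.inv_mem _ (le_sup_right (a := A) hb)), ?_⟩
  rw [← conjBy_conjBy, hE, conjBy_conjBy]
  simp [conjBy_one]

/-- Conjugating `A` by a non-identity element of `B` gives an `A`-conjugate of `B`. -/
theorem conjBy_left_of_mem_right (h : Cfsg.IsRankOnePair A B) {b : G} (hb : b ∈ B) (hb1 : b ≠ 1) :
    ∃ a ∈ A, a ≠ 1 ∧ Cfsg.conjBy A b = Cfsg.conjBy B a := by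
  obtain ⟨a, ha, ha1, hE⟩ := h.cond_right b⁻¹ (B.inv_mem hb) (by simpa using hb1)
  refine ⟨a⁻¹, A.inv_mem ha, by simpa using ha1, ?_⟩
  rw [inv_inv] at hE
  exact hE.symm

/-- `Ω = {A} ∪ B^A`. -/
theorem cases_of_mem (h : Cfsg.IsRankOnePair A B) {C : Subgroup G}
    (hC : C ∈ Cfsg.unipotentSubgroups A B) : C = A ∨ ∃ a ∈ A, C = Cfsg.conjBy B a := by
  obtain ⟨x, hx, rfl⟩ := hC
  -- invariance of Δ under A ⊔ B
  have key : ∀ x ∈ A ⊔ B, ∀ C : Subgroup G, (C = A ∨ ∃ a ∈ A, C = Cfsg.conjBy B a) →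
      (Cfsg.conjBy C x = A ∨ ∃ a ∈ A, Cfsg.conjBy C x = Cfsg.conjBy B a) := by
    intro x hx
    refine sup_induction (Q := A) (R := B)
      (C := fun x => ∀ C : Subgroup G, (C = A ∨ ∃ a ∈ A, C = Cfsg.conjBy B a) →
      (Cfsg.conjBy C x = A ∨ ∃ a ∈ A, Cfsg.conjBy C x = Cfsg.conjBy B a)) ?_ ?_ ?_ hx
    · intro a ha C hC
      rcases hC with rfl | ⟨a', ha', rfl⟩
      · exact Or.inl (conjBy_of_mem ha)
      · exact Or.inr ⟨a * a', A.mul_mem ha ha', conjBy_conjBy B a' a⟩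
    · intro b hb
      -- first the case C = A
      have hA : ∀ b ∈ B, (Cfsg.conjBy A b = A ∨ ∃ a ∈ A, Cfsg.conjBy A b = Cfsg.conjBy B a) := by
        intro b hb
        by_cases hb1 : b = 1
        · left; rw [hb1, conjBy_one]
        · obtain ⟨a, ha, _, hE⟩ := conjBy_left_of_mem_right h hb hb1
          exact Or.inr ⟨a, ha, hE⟩
      intro C hC
      rcases hC with rfl | ⟨a', ha', rfl⟩
      · exact hA b hb
      · by_cases ha1 : a' = 1
        · right
          refine ⟨1, A.one_mem, ?_⟩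
          rw [ha1, conjBy_conjBy, conjBy_one, mul_one, conjBy_of_mem hb]
        · obtain ⟨b', hb', _, hE⟩ := h.cond_left a'⁻¹ (A.inv_mem ha') (by simpa using ha1)
          rw [inv_inv] at hE
          rw [← hE, conjBy_conjBy]
          exact hA _ (B.mul_mem hb (B.inv_mem hb'))
    · intro x y _ _ hx hy C hC
      rw [← conjBy_conjBy]
      exact hx _ (hy C hC)
  exact key x hx A (Or.inl rfl)

theorem conjBy_right_ne_left (h : Cfsg.IsRankOnePair A B) {a : G} (ha : a ∈ A) :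
    Cfsg.conjBy B a ≠ A := by
  intro hE
  have : B = Cfsg.conjBy A a⁻¹ := conjBy_eq_iff.1 hE
  rw [conjBy_of_mem (A.inv_mem ha)] at this
  exact h.ne this.symm

/-- Double transitivity, normal form: any ordered pair of distinct unipotent subgroups can be
moved to `(A, B)`. -/
theorem exists_conj_pair (h : Cfsg.IsRankOnePair A B) {C D : Subgroup G}
    (hC : C ∈ Cfsg.unipotentSubgroups A B) (hD : D ∈ Cfsg.unipotentSubgroups A B) (hne : C ≠ D) :
    ∃ x ∈ A ⊔ B, Cfsg.conjBy C x = A ∧ Cfsg.conjBy D x = B := by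
  obtain ⟨g, hg, rfl⟩ := hC
  have hD' : Cfsg.conjBy D g⁻¹ ∈ Cfsg.unipotentSubgroups A B := conjBy_mem hD (Subgroup.inv_mem _ hg)
  rcases cases_of_mem h hD' with hDA | ⟨a, ha, hDa⟩
  · exfalso
    apply hne
    have := conjBy_eq_iff.1 hDA
    rw [inv_inv] at this
    exact this.symm
  · refine ⟨a⁻¹ * g⁻¹, Subgroup.mul_mem _ (Subgroup.inv_mem _ (le_sup_left (a := A) ha))
      (Subgroup.inv_mem _ hg), ?_, ?_⟩
    · rw [conjBy_conjBy]
      have : a⁻¹ * g⁻¹ * g = a⁻¹ := by group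
      rw [this]
      exact conjBy_of_mem (A.inv_mem ha)
    · rw [← conjBy_conjBy, hDa, conjBy_conjBy]
      simp [conjBy_one]

theorem two_transitive (h : Cfsg.IsRankOnePair A B) {C₁ C₂ D₁ D₂ : Subgroup G}
    (hC₁ : C₁ ∈ Cfsg.unipotentSubgroups A B) (hC₂ : C₂ ∈ Cfsg.unipotentSubgroups A B)
    (hD₁ : D₁ ∈ Cfsg.unipotentSubgroups A B) (hD₂ : D₂ ∈ Cfsg.unipotentSubgroups A B)
    (hC : C₁ ≠ C₂) (hD : D₁ ≠ D₂) :
    ∃ x ∈ A ⊔ B, Cfsg.conjBy C₁ x = D₁ ∧ Cfsg.conjBy C₂ x = D₂ := by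
  obtain ⟨x, hx, hx1, hx2⟩ := exists_conj_pair h hC₁ hC₂ hC
  obtain ⟨y, hy, hy1, hy2⟩ := exists_conj_pair h hD₁ hD₂ hD
  refine ⟨y⁻¹ * x, Subgroup.mul_mem _ (Subgroup.inv_mem _ hy) hx, ?_, ?_⟩
  · rw [← conjBy_conjBy, hx1, ← hy1, conjBy_conjBy]; simp [conjBy_one]
  · rw [← conjBy_conjBy, hx2, ← hy2, conjBy_conjBy]; simp [conjBy_one]

/-- General regularity: for distinct unipotent subgroups `C`, `D`, `N_C(D) = 1`. -/
theorem eq_one_of_normalizes' (h : Cfsg.IsRankOnePair A B) {C D : Subgroup G}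
    (hC : C ∈ Cfsg.unipotentSubgroups A B) (hD : D ∈ Cfsg.unipotentSubgroups A B) (hne : C ≠ D)
    {c : G} (hc : c ∈ C) (hn : Cfsg.conjBy D c = D) : c = 1 := by
  obtain ⟨x, hx, hx1, hx2⟩ := exists_conj_pair h hC hD hne
  have ha : x * c * x⁻¹ ∈ A := by
    rw [← hx1, mem_conjBy]
    simpa [mul_assoc] using hc
  have hn' : Cfsg.conjBy B (x * c * x⁻¹) = B := by
    rw [← hx2, conjBy_conjBy]
    have : x * c * x⁻¹ * x = x * c := by group
    rw [this, ← conjBy_conjBy, hn]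
  have := eq_one_of_normalizes h ha hn'
  have h2 : c = x⁻¹ * (x * c * x⁻¹) * x := by group
  rw [h2, this]; group

theorem inf_eq_bot (h : Cfsg.IsRankOnePair A B) {C D : Subgroup G}
    (hC : C ∈ Cfsg.unipotentSubgroups A B) (hD : D ∈ Cfsg.unipotentSubgroups A B) (hne : C ≠ D) :
    C ⊓ D = ⊥ := by
  rw [Subgroup.eq_bot_iff_forall]
  intro c hc
  exact eq_one_of_normalizes' h hC hD hne hc.1 (conjBy_of_mem hc.2)

/-- `A` is transitive on the unipotent subgroups other than `A`. -/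
theorem exists_conj_of_ne_left (h : Cfsg.IsRankOnePair A B) {C D : Subgroup G}
    (hC : C ∈ Cfsg.unipotentSubgroups A B) (hD : D ∈ Cfsg.unipotentSubgroups A B)
    (hCA : C ≠ A) (hDA : D ≠ A) : ∃ a ∈ A, Cfsg.conjBy C a = D := by
  rcases cases_of_mem h hC with hC' | ⟨c, hc, rfl⟩
  · exact absurd hC' hCA
  rcases cases_of_mem h hD with hD' | ⟨d, hd, rfl⟩
  · exact absurd hD' hDA
  refine ⟨d * c⁻¹, A.mul_mem hd (A.inv_mem hc), ?_⟩
  rw [conjBy_conjBy]; simp

open scoped commutatorElement in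
/-- An element normalizing every unipotent subgroup centralizes `A ⊔ B`. -/
theorem commute_of_normalizes_all (h : Cfsg.IsRankOnePair A B) {y : G}
    (hy : ∀ C ∈ Cfsg.unipotentSubgroups A B, Cfsg.conjBy C y = C) :
    ∀ x ∈ A ⊔ B, x * y = y * x := by
  have hy' : ∀ C ∈ Cfsg.unipotentSubgroups A B, Cfsg.conjBy C y⁻¹ = C := by
    intro C hC
    have := (conjBy_eq_iff (A := C) (B := C) (g := y)).1 (hy C hC)
    exact this.symm
  -- for c in a unipotent subgroup C, the commutator y c y⁻¹ c⁻¹ lies in C and normalizes everything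
  have key : ∀ C ∈ Cfsg.unipotentSubgroups A B, ∀ D ∈ Cfsg.unipotentSubgroups A B, C ≠ D →
      ∀ c ∈ C, c * y = y * c := by
    intro C hC D hD hne c hc
    have h1 : y * c * y⁻¹ * c⁻¹ ∈ C := by
      refine C.mul_mem ?_ (C.inv_mem hc)
      rw [← hy C hC, mem_conjBy]
      simpa [mul_assoc] using hc
    have h2 : Cfsg.conjBy D (y * c * y⁻¹ * c⁻¹) = D := by
      have e : y * c * y⁻¹ * c⁻¹ = y * (c * (y⁻¹ * c⁻¹)) := by group
      rw [e, ← conjBy_conjBy, ← conjBy_conjBy, ← conjBy_conjBy]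
      have hcX : c ∈ A ⊔ B := by
        obtain ⟨g, hg, rfl⟩ := hC
        rw [mem_conjBy] at hc
        have : c = g * (g⁻¹ * c * g) * g⁻¹ := by group
        rw [this]
        exact Subgroup.mul_mem _ (Subgroup.mul_mem _ hg (le_sup_left (a := A) hc))
          (Subgroup.inv_mem _ hg)
      have hD1 : Cfsg.conjBy D c⁻¹ ∈ Cfsg.unipotentSubgroups A B :=
        conjBy_mem hD (Subgroup.inv_mem _ hcX)
      rw [hy' _ hD1, conjBy_conjBy_inv, hy D hD]
    have h3 := eq_one_of_normalizes' h hC hD hne h1 h2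
    have : c * y = (y * c * y⁻¹ * c⁻¹)⁻¹ * (y * c) := by group
    rw [this, h3]; group
  intro x hx
  refine sup_induction (Q := A) (R := B) (C := fun x => x * y = y * x) ?_ ?_ ?_ hx
  · intro a ha
    exact key A (left_mem A B) B (right_mem h) h.ne a ha
  · intro b hb
    exact key B (right_mem h) A (left_mem A B) h.ne.symm b hb
  · intro a b _ _ ha hb
    rw [mul_assoc, hb, ← mul_assoc, ha, mul_assoc]

/-- In a rank one group, a normal subgroup normalizing `A` is central. -/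
theorem normal_le_center (h : Cfsg.IsRankOnePair A B) (htop : A ⊔ B = ⊤) {N : Subgroup G}
    (hNn : N.Normal) (hN : ∀ n ∈ N, Cfsg.conjBy A n = A) : N ≤ Subgroup.center G := by
  intro n hn
  rw [Subgroup.mem_center_iff]
  intro g
  refine commute_of_normalizes_all h ?_ g (by rw [htop]; exact Subgroup.mem_top g)
  rintro C ⟨x, _, rfl⟩
  rw [conjBy_conjBy]
  have e : n * x = x * (x⁻¹ * n * x) := by group
  rw [e, ← conjBy_conjBy]
  have hm : x⁻¹ * n * x ∈ N := by
    have := hNn.conj_mem n hn x⁻¹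
    simpa using this
  rw [hN _ hm]

/-- In a rank one group, every term of the upper central series normalizes `A`. -/
theorem upperCentralSeries_normalizes (h : Cfsg.IsRankOnePair A B) (htop : A ⊔ B = ⊤) (i : ℕ) :
    ∀ z ∈ Subgroup.upperCentralSeries G i, Cfsg.conjBy A z = A := by
  induction i with
  | zero =>
    intro z hz
    rw [Subgroup.upperCentralSeries_zero, Subgroup.mem_bot] at hz
    rw [hz, conjBy_one]
  | succ i ih =>
    intro z hz
    by_contra hne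
    rw [Subgroup.mem_upperCentralSeries_succ_iff] at hz
    obtain ⟨a, ha, ha1⟩ := exists_ne_one_left h
    have hC : Cfsg.conjBy A z ∈ Cfsg.unipotentSubgroups A B :=
      ⟨z, by rw [htop]; exact Subgroup.mem_top z, rfl⟩
    have h1 : z * a * z⁻¹ ∈ Cfsg.conjBy A z := by
      rw [mem_conjBy]; simpa [mul_assoc] using ha
    have h2 : Cfsg.conjBy A (z * a * z⁻¹) = A := by
      have e : z * a * z⁻¹ = (z * a * z⁻¹ * a⁻¹) * a := by group
      rw [e, ← conjBy_conjBy, conjBy_of_mem ha]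
      exact ih _ (hz a)
    have h3 := eq_one_of_normalizes' h hC (left_mem A B) hne h1 h2
    apply ha1
    have : a = z⁻¹ * (z * a * z⁻¹) * z := by group
    rw [this, h3]; group

end RankOne
end Cfsg.Agent.Helper25
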