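import Mathlib
import Cfsg.Prelude.Def_RootSubgroups
import Cfsg.Agent.Lib.Helper25.RankOne

set_option autoImplicit false

namespace Cfsg.Agent.Helper25
namespace RankOne

open scoped commutatorElement

variable {G : Type*} [Group G] {A B : Subgroup G}

theorem le_sup_of_mem {E : Subgroup G} (hE : E ∈ Cfsg.unipotentSubgroups A B) : E ≤ A ⊔ B := by
  obtain ⟨g, hg, rfl⟩ := hE
  intro x hx
  rw [mem_conjBy] at hx
  have : x = g * (g⁻¹ * x * g) * g⁻¹ := by group
  rw [this]
  exact Subgroup.mul_mem _ (Subgroup.mul_mem _ hg (le_sup_left (a := A) hx)) (Subgroup.inv_mem _ hg)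

theorem commute_of_commutator_eq_bot {C D : Subgroup G} (h : ⁅C, D⁆ = ⊥) {c d : G} (hc : c ∈ C)
    (hd : d ∈ D) : c * d = d * c := by
  have h1 : ⁅c, d⁆ ∈ ⁅C, D⁆ := Subgroup.commutator_mem_commutator hc hd
  rw [h, Subgroup.mem_bot, commutatorElement_eq_one_iff_mul_comm] at h1
  exact h1

/-- conjugation by an element commuting elementwise with `D` fixes `D`. -/
theorem conjBy_eq_of_commute {D : Subgroup G} {z : G} (hz : ∀ d ∈ D, z * d = d * z) :
    Cfsg.conjBy D z = D := by
  ext x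
  rw [mem_conjBy]
  constructor
  · intro hx
    have h1 := hz _ hx
    have : x = z * (z⁻¹ * x * z) * z⁻¹ := by group
    rw [this, h1]
    simpa [mul_assoc] using hx
  · intro hx
    have h1 := hz x hx
    have : z⁻¹ * x * z = x := by rw [mul_assoc, ← h1, ← mul_assoc, inv_mul_cancel, one_mul]
    rw [this]; exact hx

/-- If `E` and `gEg⁻¹` are different unipotent subgroups and all the commutators `[g, e]`
centralize `E`, then `E` is trivial. -/
theorem eq_bot_of_commutators_commute (h : Cfsg.IsRankOnePair A B) {E : Subgroup G}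
    (hE : E ∈ Cfsg.unipotentSubgroups A B) {g : G} (hg : Cfsg.conjBy E g ∈ Cfsg.unipotentSubgroups A B)
    (hne : Cfsg.conjBy E g ≠ E)
    (hcomm : ∀ e ∈ E, ∀ e' ∈ E, (g * e * g⁻¹ * e⁻¹) * e' = e' * (g * e * g⁻¹ * e⁻¹)) : E = ⊥ := by
  rw [Subgroup.eq_bot_iff_forall]
  intro e he
  have h1 : g * e * g⁻¹ ∈ Cfsg.conjBy E g := by
    rw [mem_conjBy]; simpa [mul_assoc] using he
  have h2 : Cfsg.conjBy E (g * e * g⁻¹) = E := by
    have e1 : g * e * g⁻¹ = (g * e * g⁻¹ * e⁻¹) * e := by group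
    rw [e1, ← conjBy_conjBy, conjBy_of_mem he]
    exact conjBy_eq_of_commute (hcomm e he)
  have h3 := eq_one_of_normalizes' h hg hE hne h1 h2
  have : e = g⁻¹ * (g * e * g⁻¹) * g := by group
  rw [this, h3]; group

/-- Key lemma: if `C ∈ S` contains `z * a` where `a ∈ A#` and `z` commutes with `a` and centralizes `B`,
then `C` is a `B`-conjugate of `A`. -/
theorem exists_eq_conjBy_of_mul_mem {S : Set (Subgroup G)} (hS : Cfsg.IsRootSubgroupSet S)
    {C : Subgroup G} (hB : B ∈ S) (hC : C ∈ S) (hp : Cfsg.IsRankOnePair A B) {a z : G}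
    (ha : a ∈ A) (ha1 : a ≠ 1) (hza : z * a = a * z) (hzB : ∀ b ∈ B, z * b = b * z)
    (hc : z * a ∈ C) : ∃ b ∈ B, C = Cfsg.conjBy A b := by
  have hzinv : ∀ b ∈ B, z⁻¹ * b = b * z⁻¹ := by
    intro b hb
    have := hzB b hb
    calc z⁻¹ * b = z⁻¹ * (b * z) * z⁻¹ := by group
      _ = z⁻¹ * (z * b) * z⁻¹ := by rw [this]
      _ = b * z⁻¹ := by group
  have hBa : Cfsg.conjBy B a ≠ B := fun hE => ha1 (eq_one_of_normalizes hp ha hE)
  -- action of z * a on B agrees with that of a
  have hact : ∀ b ∈ B, (z * a) * b * (z * a)⁻¹ = a * b * a⁻¹ := by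
    intro b hb
    have h1 := hzB b hb
    calc (z * a) * b * (z * a)⁻¹ = (z * a) * b * (a⁻¹ * z⁻¹) := by group
      _ = (a * z) * b * (a⁻¹ * z⁻¹) := by rw [hza]
      _ = a * (z * b) * a⁻¹ * z⁻¹ := by group
      _ = a * (b * z) * a⁻¹ * z⁻¹ := by rw [h1]
      _ = a * b * (z * a⁻¹) * z⁻¹ := by group
      _ = a * b * (a⁻¹ * z) * z⁻¹ := by
          have : z * a⁻¹ = a⁻¹ * z := by
            calc z * a⁻¹ = a⁻¹ * (a * z) * a⁻¹ := by group
              _ = a⁻¹ * (z * a) * a⁻¹ := by rw [hza]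
              _ = a⁻¹ * z := by group
          rw [this]
      _ = a * b * a⁻¹ := by group
  rcases hS.pair C hC B hB with hcom | hro | hcc
  · -- commuting case
    exfalso
    apply hBa
    apply conjBy_eq_of_commute
    intro b hb
    have h1 := commute_of_commutator_eq_bot hcom hc hb
    have h2 := hact b hb
    have h3 : (z * a) * b * (z * a)⁻¹ = b := by rw [h1]; group
    rw [h3] at h2
    calc a * b = (a * b * a⁻¹) * a := by group
      _ = b * a := by rw [← h2]
  · -- rank one pair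
    have hc1 : z * a ≠ 1 := by
      intro h1
      apply hBa
      have : a = z⁻¹ := by
        calc a = z⁻¹ * (z * a) := by group
          _ = z⁻¹ := by rw [h1, mul_one]
      rw [this]
      exact conjBy_eq_of_commute hzinv
    obtain ⟨b', hb', _, hE⟩ := hro.cond_left (z * a) hc hc1
    obtain ⟨b₀, hb₀, _, hE₀⟩ := hp.cond_left a ha ha1
    have h1 : Cfsg.conjBy B (z * a)⁻¹ = Cfsg.conjBy B a⁻¹ := by
      have : (z * a)⁻¹ = a⁻¹ * z⁻¹ := by group
      rw [this, ← conjBy_conjBy, conjBy_eq_of_commute hzinv]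
    rw [h1, ← hE₀] at hE
    refine ⟨b' * b₀⁻¹, B.mul_mem hb' (B.inv_mem hb₀), ?_⟩
    rw [← conjBy_conjBy, ← hE, conjBy_conjBy]
    simp [conjBy_one]
  · -- commutator case
    exfalso
    obtain ⟨_, hcen, _, _⟩ := hcc
    apply ne_bot_right hp
    refine eq_bot_of_commutators_commute hp (right_mem hp) (g := a)
      (conjBy_mem (right_mem hp) (le_sup_left (a := A) ha)) hBa ?_
    intro b hb b' hb'
    have h1 : ⁅z * a, b⁆ ∈ ⁅C, B⁆ := Subgroup.commutator_mem_commutator hc hb
    have h2 := hcen _ h1 b' (le_sup_right (a := C) hb')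
    have h3 : ⁅z * a, b⁆ = a * b * a⁻¹ * b⁻¹ := by
      rw [commutatorElement_def, hact b hb]
    rw [h3] at h2
    exact h2

end RankOne
end Cfsg.Agent.Helper25
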