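import Mathlib
import Cfsg.Prelude.Def_RootSubgroups
import Cfsg.Agent.Lib.Helper25.RankOne2
import Cfsg.Agent.S5025

set_option autoImplicit false

namespace Cfsg.Agent.Helper25
namespace RankOne

open scoped commutatorElement

variable {G : Type*} [Group G] {A B : Subgroup G}

/-- Rank one pairs are preserved by conjugation. -/
theorem conj_pair (hp : Cfsg.IsRankOnePair A B) (g : G) :
    Cfsg.IsRankOnePair (Cfsg.conjBy A g) (Cfsg.conjBy B g) := by
  have hcond : ∀ {A B : Subgroup G}, Cfsg.RankOneCondition A B →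
      Cfsg.RankOneCondition (Cfsg.conjBy A g) (Cfsg.conjBy B g) := by
    intro A B hc x hx hx1
    rw [mem_conjBy] at hx
    have ha1 : g⁻¹ * x * g ≠ 1 := by
      intro h
      apply hx1
      calc x = g * (g⁻¹ * x * g) * g⁻¹ := by group
        _ = 1 := by rw [h]; group
    obtain ⟨b, hb, hb1, hE⟩ := hc _ hx ha1
    refine ⟨g * b * g⁻¹, ?_, ?_, ?_⟩
    · rw [mem_conjBy]; simpa [mul_assoc] using hb
    · intro h
      apply hb1
      calc b = g⁻¹ * (g * b * g⁻¹) * g := by group
        _ = 1 := by rw [h]; group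
    · rw [conjBy_conjBy, conjBy_conjBy]
      have e1 : (g * b * g⁻¹)⁻¹ * g = g * b⁻¹ := by group
      have e2 : x⁻¹ * g = g * (g⁻¹ * x * g)⁻¹ := by group
      rw [e1, e2, ← conjBy_conjBy, ← conjBy_conjBy B, hE]
  refine ⟨?_, ?_, ?_, hcond hp.cond_left, hcond hp.cond_right⟩
  · intro h
    exact hp.ne (conjBy_injective g h)
  · have e : A ≃* Cfsg.conjBy A g := A.equivMapOfInjective _ (MulAut.conj g).injective
    exact (Group.isNilpotent_congr e).1 hp.nilpotent_left
  · have e : B ≃* Cfsg.conjBy B g := B.equivMapOfInjective _ (MulAut.conj g).injective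
    exact (Group.isNilpotent_congr e).1 hp.nilpotent_right

/-- A member of `S` with a rank one partner in `S` meets every other member trivially. -/
theorem inf_eq_bot_or_eq {S : Set (Subgroup G)} (hS : Cfsg.IsRootSubgroupSet S) {C : Subgroup G}
    (hBS : B ∈ S) (hp : Cfsg.IsRankOnePair A B) (hC : C ∈ S) : A ⊓ C = ⊥ ∨ A = C := by
  by_cases hAC : A = C
  · exact Or.inr hAC
  · left
    rw [Subgroup.eq_bot_iff_forall]
    intro x hx
    by_contra hx1
    obtain ⟨b, hb, hCb⟩ := exists_eq_conjBy_of_mul_mem hS hBS hC hp (a := x) (z := 1)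
      hx.1 hx1 (by simp) (by simp) (by simpa using hx.2)
    have hCΩ : C ∈ Cfsg.unipotentSubgroups A B := ⟨b, le_sup_right (a := A) hb, hCb⟩
    have := inf_eq_bot hp (left_mem A B) hCΩ hAC
    rw [Subgroup.eq_bot_iff_forall] at this
    exact hx1 (this x hx)

/-- If `z ≠ 1` centralizes `A ⊔ B` (a rank one pair of members of `S`) then `z * a` is in no member
of `S`, for `a ∈ A#`. -/
theorem mul_not_mem_of_centralizes {S : Set (Subgroup G)} (hS : Cfsg.IsRootSubgroupSet S)
    (hAS : A ∈ S) (hBS : B ∈ S) (hp : Cfsg.IsRankOnePair A B) {z : G}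
    (hz : ∀ x ∈ A ⊔ B, z * x = x * z) (hz1 : z ≠ 1) {a : G} (ha : a ∈ A) (ha1 : a ≠ 1)
    {C : Subgroup G} (hC : C ∈ S) : z * a ∉ C := by
  intro hmem
  have hcen : z ∈ Subgroup.centralizer ((A ⊔ B : Subgroup G) : Set G) := by
    rw [Subgroup.mem_centralizer_iff]
    intro x hx
    exact (hz x hx).symm
  apply Cfsg.Agent.S5025.result hS hAS ⟨hBS, hp⟩ hcen hz1 a ha ha1
  refine ⟨?_, C, hC, hmem⟩
  intro h1
  -- z = a⁻¹ ∈ A centralizes B
  apply hz1
  have hzA : z ∈ A := by
    have : z = a⁻¹ := by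
      calc z = (z * a) * a⁻¹ := by group
        _ = a⁻¹ := by rw [h1, one_mul]
    rw [this]; exact A.inv_mem ha
  exact eq_one_of_normalizes hp hzA
    (conjBy_eq_of_commute (fun b hb => hz b (le_sup_right (a := A) hb)))

end RankOne
end Cfsg.Agent.Helper25
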