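import Mathlib
import Cfsg.Prelude.Def_RootSubgroups
import Cfsg.Agent.Lib.Helper25.RankOne3

set_option autoImplicit false

namespace Cfsg.Agent.Helper25
namespace RootComm

open scoped commutatorElement

variable {G : Type*} [Group G] {S : Set (Subgroup G)} {A B : Subgroup G}

theorem symm (h : Cfsg.RootCommutatorCase S A B) : Cfsg.RootCommutatorCase S B A := by
  obtain ⟨h1, h2, h3, h4⟩ := h
  have key : ∀ (T : Subgroup G) (f g : G → G), (∀ x ∈ T, g x = (f x)⁻¹) →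
      Subgroup.closure (g '' (T : Set G)) = Subgroup.closure (f '' (T : Set G)) := by
    intro T f g hfg
    apply le_antisymm
    · rw [Subgroup.closure_le]
      rintro _ ⟨x, hx, rfl⟩
      rw [hfg x hx]
      exact Subgroup.inv_mem _ (Subgroup.subset_closure ⟨x, hx, rfl⟩)
    · rw [Subgroup.closure_le]
      rintro _ ⟨x, hx, rfl⟩
      have : f x = (g x)⁻¹ := by rw [hfg x hx, inv_inv]
      rw [this]
      exact Subgroup.inv_mem _ (Subgroup.subset_closure ⟨x, hx, rfl⟩)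
  refine ⟨by rw [Subgroup.commutator_comm]; exact h1, ?_, ?_, ?_⟩
  · intro c hc x hx
    rw [Subgroup.commutator_comm] at hc
    rw [sup_comm] at hx
    exact h2 c hc x hx
  · intro b hb hb1
    rw [Subgroup.commutator_comm, ← h4 b hb hb1]
    apply key
    intro x _
    group
  · intro a ha ha1
    rw [Subgroup.commutator_comm, ← h3 a ha ha1]
    apply key
    intro x _
    group

theorem comm_mem (_h : Cfsg.RootCommutatorCase S A B) {a b : G} (ha : a ∈ A) (hb : b ∈ B) :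
    ⁅a, b⁆ ∈ ⁅A, B⁆ := Subgroup.commutator_mem_commutator ha hb

theorem central (h : Cfsg.RootCommutatorCase S A B) {c x : G} (hc : c ∈ ⁅A, B⁆) (hx : x ∈ A ⊔ B) :
    c * x = x * c := h.2.1 c hc x hx

theorem comm_mul_right (h : Cfsg.RootCommutatorCase S A B) {a b b' : G} (ha : a ∈ A) (hb : b ∈ B)
    (hb' : b' ∈ B) : ⁅a, b * b'⁆ = ⁅a, b⁆ * ⁅a, b'⁆ := by
  rw [commutatorElement_mul_right_eq_mul_conj]
  have h1 := central h (comm_mem h ha hb') (le_sup_right (a := A) hb)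
  calc ⁅a, b⁆ * b * ⁅a, b'⁆ * b⁻¹ = ⁅a, b⁆ * (b * ⁅a, b'⁆) * b⁻¹ := by group
    _ = ⁅a, b⁆ * (⁅a, b'⁆ * b) * b⁻¹ := by rw [h1]
    _ = ⁅a, b⁆ * ⁅a, b'⁆ := by group

/-- For `a ∈ A`, the map `b ↦ ⁅a, b⁆` is a homomorphism on `B`. -/
def commHom (h : Cfsg.RootCommutatorCase S A B) {a : G} (ha : a ∈ A) : B →* G where
  toFun b := ⁅a, (b : G)⁆
  map_one' := commutatorElement_one_right a
  map_mul' b b' := comm_mul_right h ha b.2 b'.2

theorem commHom_apply (h : Cfsg.RootCommutatorCase S A B) {a : G} (ha : a ∈ A) (b : B) :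
    commHom h ha b = ⁅a, (b : G)⁆ := rfl

theorem exists_comm_eq (h : Cfsg.RootCommutatorCase S A B) {a : G} (ha : a ∈ A) (ha1 : a ≠ 1)
    {c : G} (hc : c ∈ ⁅A, B⁆) : ∃ b ∈ B, ⁅a, b⁆ = c := by
  have hle : ⁅A, B⁆ ≤ (commHom h ha).range := by
    rw [← h.2.2.1 a ha ha1, Subgroup.closure_le]
    rintro _ ⟨b, hb, rfl⟩
    exact ⟨⟨b, hb⟩, by rw [commHom_apply, commutatorElement_def]⟩
  obtain ⟨b, hb⟩ := hle hc
  exact ⟨b, b.2, hb⟩

theorem exists_comm_eq_left (h : Cfsg.RootCommutatorCase S A B) {b : G} (hb : b ∈ B) (hb1 : b ≠ 1)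
    {c : G} (hc : c ∈ ⁅A, B⁆) : ∃ a ∈ A, ⁅a, b⁆ = c := by
  have hc' : c⁻¹ ∈ ⁅B, A⁆ := by
    rw [Subgroup.commutator_comm]; exact Subgroup.inv_mem _ hc
  obtain ⟨a, ha, hE⟩ := exists_comm_eq (symm h) hb hb1 hc'
  refine ⟨a, ha, ?_⟩
  rw [← commutatorElement_inv, hE, inv_inv]

/-- `A` is not the commutator `⁅A, B⁆` in the commutator case. -/
theorem left_ne_comm (hS : Cfsg.IsRootSubgroupSet S) (hAS : A ∈ S)
    (h : Cfsg.RootCommutatorCase S A B) : A ≠ ⁅A, B⁆ := by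
  intro hE
  apply hS.ne_bot A hAS
  have hbot : ⁅A, B⁆ = ⊥ := by
    rw [eq_bot_iff, Subgroup.commutator_le]
    intro a ha b hb
    rw [Subgroup.mem_bot, commutatorElement_eq_one_iff_mul_comm]
    have ha' : a ∈ ⁅A, B⁆ := hE ▸ ha
    exact central h ha' (le_sup_right (a := A) hb)
  rw [hE, hbot]

section WithPartner

variable {D : Subgroup G}

theorem left_inf_comm (hS : Cfsg.IsRootSubgroupSet S) (hAS : A ∈ S) (hDS : D ∈ S)
    (hAD : Cfsg.IsRankOnePair A D) (h : Cfsg.RootCommutatorCase S A B) : A ⊓ ⁅A, B⁆ = ⊥ := by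
  rcases RankOne.inf_eq_bot_or_eq hS hDS hAD h.1 with h1 | h1
  · exact h1
  · exact absurd h1 (left_ne_comm hS hAS h)

/-- `C_B(a) = 1` for `a ∈ A#`. -/
theorem eq_one_of_commute (hS : Cfsg.IsRootSubgroupSet S) (hAS : A ∈ S) (hDS : D ∈ S)
    (hAD : Cfsg.IsRankOnePair A D) (h : Cfsg.RootCommutatorCase S A B)
    {a b : G} (ha : a ∈ A) (ha1 : a ≠ 1) (hb : b ∈ B) (hab : a * b = b * a) : b = 1 := by
  by_contra hb1
  -- a ∈ A ∩ conjBy A b so b normalizes A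
  have haAb : a ∈ Cfsg.conjBy A b := by
    rw [mem_conjBy]
    have : b⁻¹ * a * b = a := by
      calc b⁻¹ * a * b = b⁻¹ * (a * b) := by group
        _ = b⁻¹ * (b * a) := by rw [hab]
        _ = a := by group
    rw [this]; exact ha
  have hnorm : A = Cfsg.conjBy A b := by
    rcases RankOne.inf_eq_bot_or_eq hS hDS hAD (hS.conj_mem A hAS b) with h1 | h1
    · exfalso
      rw [Subgroup.eq_bot_iff_forall] at h1
      exact ha1 (h1 a ⟨ha, haAb⟩)
    · exact h1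
  -- then all commutators ⁅a', b⁆ lie in A ∩ C = 1
  have hinf := left_inf_comm hS hAS hDS hAD h
  have hall : ∀ a' ∈ A, a' * b * a'⁻¹ * b⁻¹ = 1 := by
    intro a' ha'
    have h1 : a' * b * a'⁻¹ * b⁻¹ ∈ A := by
      have h2 : b * a'⁻¹ * b⁻¹ ∈ A := by
        rw [hnorm, mem_conjBy]
        have : b⁻¹ * (b * a'⁻¹ * b⁻¹) * b = a'⁻¹ := by group
        rw [this]; exact A.inv_mem ha'
      have : a' * b * a'⁻¹ * b⁻¹ = a' * (b * a'⁻¹ * b⁻¹) := by group
      rw [this]; exact A.mul_mem ha' h2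
    have h2 : a' * b * a'⁻¹ * b⁻¹ ∈ ⁅A, B⁆ := by
      rw [← commutatorElement_def]; exact comm_mem h ha' hb
    rw [Subgroup.eq_bot_iff_forall] at hinf
    exact hinf _ ⟨h1, h2⟩
  have hbot : ⁅A, B⁆ = ⊥ := by
    rw [← h.2.2.2 b hb hb1, eq_bot_iff, Subgroup.closure_le]
    rintro _ ⟨a', ha', rfl⟩
    rw [SetLike.mem_coe, Subgroup.mem_bot]
    exact hall a' ha'
  exact hS.ne_bot _ h.1 hbot

theorem conjBy_le_sup (h : Cfsg.RootCommutatorCase S A B) {b : G} (hb : b ∈ B) :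
    Cfsg.conjBy A b ≤ A ⊔ ⁅A, B⁆ := by
  intro x hx
  rw [mem_conjBy] at hx
  -- x = b a b⁻¹ = ⁅b, a⁆ a
  have e : x = (⁅b⁻¹ * x * b, b⁆)⁻¹ * (b⁻¹ * x * b) := by
    rw [commutatorElement_def]; group
  rw [e]
  exact Subgroup.mul_mem _ (Subgroup.inv_mem _ (le_sup_right (a := A) (comm_mem h hx hb)))
    (le_sup_left (a := A) hx)

/-- every element `a * c` with `a ∈ A#`, `c ∈ ⁅A,B⁆` lies in some `B`-conjugate of `A`. -/
theorem exists_mem_conjBy (h : Cfsg.RootCommutatorCase S A B) {a c : G} (ha : a ∈ A) (ha1 : a ≠ 1)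
    (hc : c ∈ ⁅A, B⁆) : ∃ b ∈ B, a * c ∈ Cfsg.conjBy A b := by
  obtain ⟨b, hb, hE⟩ := exists_comm_eq h ha ha1 (Subgroup.inv_mem _ hc)
  refine ⟨b, hb, ?_⟩
  rw [mem_conjBy]
  -- b a b⁻¹ = ⁅b, a⁆ a = c a = a c
  have h1 : c = ⁅b, a⁆ := by rw [← commutatorElement_inv, hE, inv_inv]
  have h2 : a * c = c * a := (central h hc (le_sup_left (a := A) ha)).symm
  have h3 : b⁻¹ * (a * c) * b = a := by
    rw [h2, h1, commutatorElement_def]; group
  rw [h3]; exact ha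

theorem exists_mul_of_mem_sup_comm (h : Cfsg.RootCommutatorCase S A B) {x : G}
    (hx : x ∈ A ⊔ ⁅A, B⁆) : ∃ a ∈ A, ∃ c ∈ ⁅A, B⁆, x = a * c := by
  refine sup_induction (Q := A) (R := ⁅A, B⁆) (C := fun x => ∃ a ∈ A, ∃ c ∈ ⁅A, B⁆, x = a * c)
    ?_ ?_ ?_ hx
  · intro a ha
    exact ⟨a, ha, 1, Subgroup.one_mem _, by simp⟩
  · intro c hc
    exact ⟨1, Subgroup.one_mem _, c, hc, by simp⟩
  · rintro x y _ _ ⟨a, ha, c, hc, rfl⟩ ⟨a', ha', c', hc', rfl⟩
    refine ⟨a * a', A.mul_mem ha ha', c * c', Subgroup.mul_mem _ hc hc', ?_⟩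
    have h1 := central h hc (le_sup_left (a := A) ha')
    calc a * c * (a' * c') = a * (c * a') * c' := by group
      _ = a * (a' * c) * c' := by rw [h1]
      _ = a * a' * (c * c') := by group

end WithPartner

end RootComm
end Cfsg.Agent.Helper25
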