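import Mathlib
import Cfsg.Prelude.Def_RootSubgroups
import Cfsg.Agent.Lib.Helper25.RootComm

set_option autoImplicit false

namespace Cfsg.Agent.Helper25
namespace RootComm

open scoped commutatorElement

variable {G : Type*} [Group G] {S : Set (Subgroup G)} {A B D : Subgroup G}

/-- A member of `S` inside `⁅A, B⁆` does not commute with a rank one partner `D` of `A`. -/
theorem comm_partner_ne_bot (hS : Cfsg.IsRootSubgroupSet S) (hAS : A ∈ S) (hDS : D ∈ S)
    (hAD : Cfsg.IsRankOnePair A D) (h : Cfsg.RootCommutatorCase S A B) {E : Subgroup G}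
    (hE : E ∈ S) (hle : E ≤ ⁅A, B⁆) : ⁅E, D⁆ ≠ ⊥ := by
  intro hcom
  rcases E.bot_or_exists_ne_one with hbot | ⟨e, he, he1⟩
  · exact hS.ne_bot E hE hbot
  obtain ⟨a, ha, ha1⟩ := RankOne.exists_ne_one_left hAD
  have hz : ∀ x ∈ A ⊔ D, e * x = x * e := by
    intro x hx
    refine sup_induction (Q := A) (R := D) (C := fun x => e * x = x * e) ?_ ?_ ?_ hx
    · intro a' ha'
      exact central h (hle he) (le_sup_left (a := A) ha')
    · intro d hd
      exact RankOne.commute_of_commutator_eq_bot hcom he hd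
    · intro x y _ _ hx hy
      rw [← mul_assoc, hx, mul_assoc, hy, mul_assoc]
  obtain ⟨b, hb, hmem⟩ := exists_mem_conjBy h ha ha1 (hle he)
  have hcomm : a * e = e * a := (central h (hle he) (le_sup_left (a := A) ha)).symm
  rw [hcomm] at hmem
  exact RankOne.mul_not_mem_of_centralizes hS hAS hDS hAD hz he1 ha ha1 (hS.conj_mem A hAS b) hmem

/-- A member of `S` inside `⁅A, B⁆` is all of `⁅A, B⁆` (when `A` has a rank one partner). -/
theorem eq_of_le_comm (hS : Cfsg.IsRootSubgroupSet S) (hAS : A ∈ S) (hDS : D ∈ S)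
    (hAD : Cfsg.IsRankOnePair A D) (h : Cfsg.RootCommutatorCase S A B) {E : Subgroup G}
    (hE : E ∈ S) (hle : E ≤ ⁅A, B⁆) : E = ⁅A, B⁆ := by
  have hC : ⁅A, B⁆ ∈ S := h.1
  rcases hS.pair ⁅A, B⁆ hC D hDS with hcom | hro | hcc'
  · exact absurd hcom (comm_partner_ne_bot hS hAS hDS hAD h hC le_rfl)
  · rcases RankOne.inf_eq_bot_or_eq hS hDS hro hE with h1 | h1
    · exfalso
      apply hS.ne_bot E hE
      rw [eq_bot_iff, ← h1]
      exact le_inf hle le_rfl
    · exact h1.symm
  · rcases hS.pair E hE D hDS with h1 | h2 | h3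
    · exact absurd h1 (comm_partner_ne_bot hS hAS hDS hAD h hE hle)
    · exfalso
      obtain ⟨e, he, he1⟩ := RankOne.exists_ne_one_left h2
      apply RankOne.ne_bot_right h2
      refine RankOne.eq_bot_of_commutators_commute h2 (RankOne.right_mem h2) (g := e)
        (RankOne.conjBy_mem (RankOne.right_mem h2) (le_sup_left (a := E) he)) ?_ ?_
      · intro hEq
        exact he1 (RankOne.eq_one_of_normalizes h2 he hEq)
      · intro d hd d' hd'
        have hm : ⁅e, d⁆ ∈ ⁅⁅A, B⁆, D⁆ := Subgroup.commutator_mem_commutator (hle he) hd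
        have := central hcc' hm (le_sup_right (a := ⁅A, B⁆) hd')
        rw [commutatorElement_def] at this
        exact this
    · -- both in the commutator case
      obtain ⟨e₀, he₀, he₀1⟩ : ∃ e ∈ E, e ≠ 1 := by
        rcases E.bot_or_exists_ne_one with hbot | hex
        · exact absurd hbot (hS.ne_bot E hE)
        · exact hex
      have hFF : ⁅E, D⁆ = ⁅⁅A, B⁆, D⁆ := by
        rw [← h3.2.2.1 e₀ he₀ he₀1, ← hcc'.2.2.1 e₀ (hle he₀) he₀1]
      obtain ⟨d₀, hd₀, hd₀1⟩ := RankOne.exists_ne_one_right hAD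
      have hDC := symm hcc'
      apply le_antisymm hle
      intro c hc
      have hm : ⁅c, d₀⁆ ∈ ⁅E, D⁆ := by
        rw [hFF]; exact Subgroup.commutator_mem_commutator hc hd₀
      obtain ⟨e, he, hEq⟩ := exists_comm_eq_left h3 hd₀ hd₀1 hm
      -- d₀ commutes with c * e⁻¹
      have hce : c * e⁻¹ ∈ ⁅A, B⁆ := Subgroup.mul_mem _ hc (Subgroup.inv_mem _ (hle he))
      have h5 : ⁅d₀, c * e⁻¹⁆ = 1 := by
        have e1 := (commHom hDC hd₀).map_mul ⟨c, hc⟩ ⟨e⁻¹, Subgroup.inv_mem _ (hle he)⟩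
        have e2 := (commHom hDC hd₀).map_inv ⟨e, hle he⟩
        simp only [commHom_apply] at e1 e2
        have e3 : (⟨c, hc⟩ * ⟨e⁻¹, Subgroup.inv_mem _ (hle he)⟩ : ↥(⁅A, B⁆ : Subgroup G)) =
            ⟨c * e⁻¹, hce⟩ := rfl
        have e4 : ((⟨e, hle he⟩ : ↥(⁅A, B⁆ : Subgroup G))⁻¹ : ↥(⁅A, B⁆ : Subgroup G)) =
            ⟨e⁻¹, Subgroup.inv_mem _ (hle he)⟩ := rfl
        rw [e3] at e1
        rw [e4] at e2
        simp only at e1 e2
        rw [e1, e2, ← commutatorElement_inv c d₀, ← hEq, commutatorElement_inv]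
        exact mul_inv_cancel _
      rw [commutatorElement_eq_one_iff_mul_comm] at h5
      have h6 := eq_one_of_commute hS hDS hAS (Cfsg.RankOnePair_symm hAD) hDC hd₀ hd₀1 hce h5
      have : c = e := by
        calc c = (c * e⁻¹) * e := by group
          _ = e := by rw [h6, one_mul]
      rw [this]; exact he

/-- Auxiliary: a member `C ≤ A ⊔ B` of `S` normalized by `A` and different from `A` commutes with `A`. -/
theorem comm_eq_bot_of_normalized (hS : Cfsg.IsRootSubgroupSet S) (hAS : A ∈ S) (hBS : B ∈ S)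
    (hp : Cfsg.IsRankOnePair A B) {C : Subgroup G} (hC : C ∈ S) (hCle : C ≤ A ⊔ B)
    (hnA : ∀ a ∈ A, Cfsg.conjBy C a = C) (hAC : A ≠ C) : ⁅C, A⁆ = ⊥ := by
  have hinf : A ⊓ C = ⊥ := by
    rcases RankOne.inf_eq_bot_or_eq hS hBS hp hC with h1 | h1
    · exact h1
    · exact absurd h1 hAC
  rcases hS.pair C hC A hAS with hcom | hro | hcc
  · exact hcom
  · exfalso
    obtain ⟨a, ha, ha1⟩ := RankOne.exists_ne_one_left hp
    exact ha1 (RankOne.eq_one_of_normalizes (Cfsg.RankOnePair_symm hro) ha (hnA a ha))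
  · -- commutator case: all commutators are trivial
    rw [eq_bot_iff, Subgroup.commutator_le]
    intro c hc a ha
    rw [Subgroup.mem_bot]
    by_cases ha1 : a = 1
    · rw [ha1, commutatorElement_one_right]
    by_cases hall : ∀ c' ∈ C, Cfsg.conjBy A c' = A
    · -- commutator in A ∩ C
      have h1 : ⁅c, a⁆ ∈ A := by
        rw [commutatorElement_def]
        have h2 : c * a * c⁻¹ ∈ A := by
          have h3 : c * a * c⁻¹ ∈ Cfsg.conjBy A c := by
            rw [mem_conjBy]; simpa [mul_assoc] using ha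
          rw [hall c hc] at h3
          exact h3
        exact A.mul_mem h2 (A.inv_mem ha)
      have h2 : ⁅c, a⁆ ∈ C := by
        rw [commutatorElement_def]
        have h3 : a * c⁻¹ * a⁻¹ ∈ C := by
          have h4 : a * c⁻¹ * a⁻¹ ∈ Cfsg.conjBy C a := by
            rw [mem_conjBy]
            have : a⁻¹ * (a * c⁻¹ * a⁻¹) * a = c⁻¹ := by group
            rw [this]; exact C.inv_mem hc
          rw [hnA a ha] at h4
          exact h4
        have : c * a * c⁻¹ * a⁻¹ = c * (a * c⁻¹ * a⁻¹) := by group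
        rw [this]; exact C.mul_mem hc h3
      rw [Subgroup.eq_bot_iff_forall] at hinf
      exact hinf _ ⟨h1, h2⟩
    · push Not at hall
      obtain ⟨c₀, hc₀, hne⟩ := hall
      have hΩ : Cfsg.conjBy A c₀ ∈ Cfsg.unipotentSubgroups A B :=
        RankOne.conjBy_mem (RankOne.left_mem A B) (hCle hc₀)
      obtain ⟨a₁, ha₁, hE⟩ := RankOne.exists_conj_of_ne_left hp hΩ (RankOne.right_mem hp) hne hp.ne.symm
      -- B = conjBy A n with n = a₁ c₀ a₁⁻¹ ∈ C
      have hn : a₁ * c₀ * a₁⁻¹ ∈ C := by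
        have h4 : a₁ * c₀ * a₁⁻¹ ∈ Cfsg.conjBy C a₁ := by
          rw [mem_conjBy]
          have : a₁⁻¹ * (a₁ * c₀ * a₁⁻¹) * a₁ = c₀ := by group
          rw [this]; exact hc₀
        rw [hnA a₁ ha₁] at h4
        exact h4
      have hB : B = Cfsg.conjBy A (a₁ * c₀ * a₁⁻¹) := by
        rw [← hE, conjBy_conjBy]
        have e : a₁ * c₀ = (a₁ * c₀ * a₁⁻¹) * a₁ := by group
        rw [e, ← conjBy_conjBy, conjBy_of_mem ha₁]
        congr 1; group
      have hBle : B ≤ C ⊔ A := by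
        intro b hb
        rw [hB, mem_conjBy] at hb
        have e : b = (a₁ * c₀ * a₁⁻¹) * ((a₁ * c₀ * a₁⁻¹)⁻¹ * b * (a₁ * c₀ * a₁⁻¹)) *
            (a₁ * c₀ * a₁⁻¹)⁻¹ := by group
        rw [e]
        exact Subgroup.mul_mem _ (Subgroup.mul_mem _ (le_sup_left (a := C) hn)
          (le_sup_right (a := C) hb)) (Subgroup.inv_mem _ (le_sup_left (a := C) hn))
      by_contra hz1
      have hzm : ⁅c, a⁆ ∈ ⁅C, A⁆ := Subgroup.commutator_mem_commutator hc ha
      have hz : ∀ x ∈ A ⊔ B, ⁅c, a⁆ * x = x * ⁅c, a⁆ := by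
        intro x hx
        exact central hcc hzm (sup_le (le_sup_right (a := C)) hBle hx)
      apply RankOne.mul_not_mem_of_centralizes hS hAS hBS hp hz hz1 ha ha1 (hS.conj_mem A hAS c)
      rw [mem_conjBy, commutatorElement_def]
      have : c⁻¹ * (c * a * c⁻¹ * a⁻¹ * a) * c = a := by group
      rw [this]; exact ha

/-- If `(A, B)` is a rank one pair of members of `S` then `⁅A, B⁆ ∉ S`. -/
theorem comm_not_mem_of_rankOne (hS : Cfsg.IsRootSubgroupSet S) (hAS : A ∈ S) (hBS : B ∈ S)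
    (hp : Cfsg.IsRankOnePair A B) : ⁅A, B⁆ ∉ S := by
  intro hC
  have hnA : ∀ a ∈ A, Cfsg.conjBy ⁅A, B⁆ a = ⁅A, B⁆ := fun a ha =>
    mem_normalizer_iff_conjBy.1 (Subgroup.normalizer_commutator_ge_left A B ha)
  have hnB : ∀ b ∈ B, Cfsg.conjBy ⁅A, B⁆ b = ⁅A, B⁆ := fun b hb =>
    mem_normalizer_iff_conjBy.1 (Subgroup.normalizer_commutator_ge_right A B hb)
  have hAC : A ≠ ⁅A, B⁆ := by
    intro hE
    obtain ⟨b, hb, hb1⟩ := RankOne.exists_ne_one_right hp
    apply hb1
    apply RankOne.eq_one_of_normalizes (Cfsg.RankOnePair_symm hp) hb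
    have := hnB b hb
    rw [← hE] at this
    exact this
  have hBC : B ≠ ⁅A, B⁆ := by
    intro hE
    obtain ⟨a, ha, ha1⟩ := RankOne.exists_ne_one_left hp
    apply ha1
    apply RankOne.eq_one_of_normalizes hp ha
    have := hnA a ha
    rw [← hE] at this
    exact this
  have h1 := comm_eq_bot_of_normalized hS hAS hBS hp hC (Subgroup.commutator_le_sup A B) hnA hAC
  have h2 := comm_eq_bot_of_normalized hS hBS hAS (Cfsg.RankOnePair_symm hp) hC
    (by rw [sup_comm]; exact Subgroup.commutator_le_sup A B) hnB hBC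
  obtain ⟨a, ha, ha1⟩ := RankOne.exists_ne_one_left hp
  apply RankOne.ne_bot_right hp
  refine RankOne.eq_bot_of_commutators_commute hp (RankOne.right_mem hp) (g := a)
    (RankOne.conjBy_mem (RankOne.right_mem hp) (le_sup_left (a := A) ha)) ?_ ?_
  · intro hEq
    exact ha1 (RankOne.eq_one_of_normalizes hp ha hEq)
  · intro b hb b' hb'
    have hm : ⁅a, b⁆ ∈ ⁅A, B⁆ := Subgroup.commutator_mem_commutator ha hb
    have := RankOne.commute_of_commutator_eq_bot h2 hm hb'
    rw [commutatorElement_def] at this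
    exact this

/-- If `⁅A, B⁆ ∈ S` then `(A, B)` is in the commutator case. -/
theorem commCase_of_comm_mem (hS : Cfsg.IsRootSubgroupSet S) (hAS : A ∈ S) (hBS : B ∈ S)
    (hC : ⁅A, B⁆ ∈ S) : Cfsg.RootCommutatorCase S A B := by
  rcases hS.pair A hAS B hBS with h | h | h
  · exact absurd h (hS.ne_bot _ hC)
  · exact absurd hC (comm_not_mem_of_rankOne hS hAS hBS h)
  · exact h

end RootComm
end Cfsg.Agent.Helper25
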