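import Mathlib
import Cfsg.Prelude.Def_RootSubgroups
import Cfsg.Agent.Lib.Helper25.RootComm2

set_option autoImplicit false

namespace Cfsg.Agent.Helper25
namespace RankOne

open scoped commutatorElement

variable {G : Type*} [Group G] {A B : Subgroup G}

/-- Any two distinct unipotent subgroups generate the whole rank one group. -/
theorem sup_eq_of_mem (hp : Cfsg.IsRankOnePair A B) {C D : Subgroup G}
    (hC : C ∈ Cfsg.unipotentSubgroups A B) (hD : D ∈ Cfsg.unipotentSubgroups A B) (hne : C ≠ D) :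
    C ⊔ D = A ⊔ B := by
  obtain ⟨x, hx, hx1, hx2⟩ := exists_conj_pair hp hC hD hne
  apply le_antisymm (sup_le (le_sup_of_mem hC) (le_sup_of_mem hD))
  -- A ⊔ B = conjBy (C ⊔ D) x
  have h1 : Cfsg.conjBy (C ⊔ D) x = A ⊔ B := by
    unfold Cfsg.conjBy at hx1 hx2 ⊢
    rw [Subgroup.map_sup, hx1, hx2]
  intro y hy
  have h2 : x * y * x⁻¹ ∈ A ⊔ B :=
    Subgroup.mul_mem _ (Subgroup.mul_mem _ hx hy) (Subgroup.inv_mem _ hx)
  rw [← h1, mem_conjBy] at h2
  have : x⁻¹ * (x * y * x⁻¹) * x = y := by group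
  rw [this] at h2
  exact h2

/-- Any two distinct unipotent subgroups form a rank one pair. -/
theorem pair_of_mem (hp : Cfsg.IsRankOnePair A B) {C D : Subgroup G}
    (hC : C ∈ Cfsg.unipotentSubgroups A B) (hD : D ∈ Cfsg.unipotentSubgroups A B) (hne : C ≠ D) :
    Cfsg.IsRankOnePair C D := by
  obtain ⟨x, _, hx1, hx2⟩ := exists_conj_pair hp hC hD hne
  have h := conj_pair hp x⁻¹
  have e1 : Cfsg.conjBy A x⁻¹ = C := by rw [← hx1, conjBy_conjBy]; simp [conjBy_one]
  have e2 : Cfsg.conjBy B x⁻¹ = D := by rw [← hx2, conjBy_conjBy]; simp [conjBy_one]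
  rw [e1, e2] at h
  exact h

end RankOne
end Cfsg.Agent.Helper25
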