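import Mathlib
import Cfsg.Prelude.Def_RootSubgroups
import Cfsg.Agent.Lib.Helper25.RootSL1
import Cfsg.Agent.Lib.Helper25.SL2RankOne
import Cfsg.Agent.S5016
import Cfsg.Agent.S5035

set_option autoImplicit false

namespace Cfsg.Agent.Helper25
namespace RootSL

open Matrix

variable {ι : Type*} [Fintype ι] [DecidableEq ι] {k : Type*} [Field k]

/-- the `ι × 2` matrix with columns `v`, `w`. -/
def Umat (v w : ι → k) : Matrix ι (Fin 2) k := Matrix.of fun i j => ![v i, w i] j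

/-- the `2 × ι` matrix with rows `h`, `f`. -/
def Vmat (h f : ι → k) : Matrix (Fin 2) ι k := Matrix.of fun j i => ![h i, f i] j

theorem Vmat_mul_Umat (v w h f : ι → k) :
    Vmat h f * Umat v w = !![h ⬝ᵥ v, h ⬝ᵥ w; f ⬝ᵥ v, f ⬝ᵥ w] := by
  ext a b
  fin_cases a <;> fin_cases b <;> simp [Matrix.mul_apply, Umat, Vmat, dotProduct]

/-- normalized data for an embedding of `SL₂`. -/
structure Pairing (v w h f : ι → k) : Prop where
  hv : h ⬝ᵥ v = 1
  hw : h ⬝ᵥ w = 0
  fv : f ⬝ᵥ v = 0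
  fw : f ⬝ᵥ w = 1

theorem Pairing.VU {v w h f : ι → k} (P : Pairing v w h f) : Vmat h f * Umat v w = 1 := by
  rw [Vmat_mul_Umat, P.hv, P.hw, P.fv, P.fw]
  exact Matrix.one_fin_two.symm

/-- the matrix of the image of `M`. -/
def rhoMat (v w h f : ι → k) (M : Matrix (Fin 2) (Fin 2) k) : Matrix ι ι k :=
  1 + Umat v w * (M - 1) * Vmat h f

theorem Pairing.det_rhoMat {v w h f : ι → k} (P : Pairing v w h f) (M : Matrix (Fin 2) (Fin 2) k) :
    (rhoMat v w h f M).det = M.det := by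
  unfold rhoMat
  rw [Matrix.mul_assoc, det_one_add_mul_comm, Matrix.mul_assoc, P.VU, Matrix.mul_one,
    add_sub_cancel]

theorem Pairing.rhoMat_mul {v w h f : ι → k} (P : Pairing v w h f)
    (M M' : Matrix (Fin 2) (Fin 2) k) :
    rhoMat v w h f M * rhoMat v w h f M' = rhoMat v w h f (M * M') := by
  unfold rhoMat
  have key : Umat v w * (M - 1) * Vmat h f * (Umat v w * (M' - 1) * Vmat h f) =
      Umat v w * ((M - 1) * (M' - 1)) * Vmat h f := by
    calc Umat v w * (M - 1) * Vmat h f * (Umat v w * (M' - 1) * Vmat h f)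
        = Umat v w * (M - 1) * (Vmat h f * Umat v w) * (M' - 1) * Vmat h f := by
          simp only [Matrix.mul_assoc]
      _ = Umat v w * ((M - 1) * (M' - 1)) * Vmat h f := by
          rw [P.VU, Matrix.mul_one]; simp only [Matrix.mul_assoc]
  rw [Matrix.mul_add, Matrix.add_mul, Matrix.add_mul, Matrix.one_mul, Matrix.mul_one,
    Matrix.one_mul, key]
  have e : M * M' - 1 = (M - 1) + (M' - 1) + (M - 1) * (M' - 1) := by noncomm_ring
  rw [e, Matrix.mul_add, Matrix.mul_add, Matrix.add_mul, Matrix.add_mul]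
  abel

theorem rhoMat_one (v w h f : ι → k) : rhoMat v w h f 1 = 1 := by
  unfold rhoMat
  rw [sub_self, Matrix.mul_zero, Matrix.zero_mul, add_zero]

/-- the embedding of `SL₂(k)`. -/
def Pairing.rho {v w h f : ι → k} (P : Pairing v w h f) :
    SpecialLinearGroup (Fin 2) k →* SpecialLinearGroup ι k where
  toFun M := ⟨rhoMat v w h f (M : Matrix (Fin 2) (Fin 2) k), by rw [P.det_rhoMat]; exact M.2⟩
  map_one' := by
    apply Subtype.ext
    exact rhoMat_one v w h f
  map_mul' M M' := by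
    apply Subtype.ext
    exact (P.rhoMat_mul _ _).symm

theorem Pairing.rho_val {v w h f : ι → k} (P : Pairing v w h f) (M : SpecialLinearGroup (Fin 2) k) :
    ((P.rho M : SpecialLinearGroup ι k) : Matrix ι ι k) =
      rhoMat v w h f (M : Matrix (Fin 2) (Fin 2) k) := rfl

theorem Pairing.rho_injective {v w h f : ι → k} (P : Pairing v w h f) :
    Function.Injective P.rho := by
  rw [injective_iff_map_eq_one]
  intro M hM
  have h1 : rhoMat v w h f (M : Matrix (Fin 2) (Fin 2) k) = 1 := by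
    rw [← P.rho_val, hM]; rfl
  unfold rhoMat at h1
  have h2 : Umat v w * ((M : Matrix (Fin 2) (Fin 2) k) - 1) * Vmat h f = 0 := by
    have := congrArg (fun X => X - 1) h1
    simpa using this
  have h3 : Vmat h f * (Umat v w * ((M : Matrix (Fin 2) (Fin 2) k) - 1) * Vmat h f) * Umat v w = 0 := by
    rw [h2, Matrix.mul_zero, Matrix.zero_mul]
  have h4 : Vmat h f * (Umat v w * ((M : Matrix (Fin 2) (Fin 2) k) - 1) * Vmat h f) * Umat v w =
      (Vmat h f * Umat v w) * ((M : Matrix (Fin 2) (Fin 2) k) - 1) * (Vmat h f * Umat v w) := by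
    simp only [Matrix.mul_assoc]
  rw [h4, P.VU, Matrix.one_mul, Matrix.mul_one, sub_eq_zero] at h3
  apply Subtype.ext
  exact h3

theorem rhoMat_upper (v w h f : ι → k) (s : k) :
    rhoMat v w h f !![1, s; 0, 1] = tmat v f s := by
  unfold rhoMat tmat
  congr 1
  ext i j
  simp [Matrix.mul_apply, Fin.sum_univ_two, Umat, Vmat, vecMulVec_apply]
  ring

theorem rhoMat_lower (v w h f : ι → k) (t : k) :
    rhoMat v w h f !![1, 0; t, 1] = tmat w h t := by
  unfold rhoMat tmat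
  congr 1
  ext i j
  simp [Matrix.mul_apply, Fin.sum_univ_two, Umat, Vmat, vecMulVec_apply]
  ring

theorem Pairing.rho_U {v w h f : ι → k} (P : Pairing v w h f) (s : k) :
    P.rho (SL2.U s) = T v f P.fv s := by
  apply Subtype.ext
  rw [P.rho_val, SL2.U_val, rhoMat_upper]
  rfl

theorem Pairing.rho_L {v w h f : ι → k} (P : Pairing v w h f) (t : k) :
    P.rho (SL2.L t) = T w h P.hw t := by
  apply Subtype.ext
  rw [P.rho_val, SL2.L_val, rhoMat_lower]
  rfl

theorem Pairing.map_upper {v w h f : ι → k} (P : Pairing v w h f) :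
    (Cfsg.upperUnipotentSL2 k).map P.rho = R v f := by
  ext g
  rw [Subgroup.mem_map, mem_R' P.fv]
  constructor
  · rintro ⟨M, hM, rfl⟩
    obtain ⟨s, rfl⟩ := SL2.mem_upper_iff.mp hM
    exact ⟨s, P.rho_U s⟩
  · rintro ⟨c, rfl⟩
    exact ⟨SL2.U c, SL2.U_mem c, P.rho_U c⟩

theorem Pairing.map_lower {v w h f : ι → k} (P : Pairing v w h f) :
    (Cfsg.lowerUnipotentSL2 k).map P.rho = R w h := by
  ext g
  rw [Subgroup.mem_map, mem_R' P.hw]
  constructor
  · rintro ⟨M, hM, rfl⟩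
    obtain ⟨s, rfl⟩ := SL2.mem_lower_iff.mp hM
    exact ⟨s, P.rho_L s⟩
  · rintro ⟨c, rfl⟩
    exact ⟨SL2.L c, SL2.L_mem c, P.rho_L c⟩

theorem Pairing.range_rho {v w h f : ι → k} (P : Pairing v w h f) :
    P.rho.range = R v f ⊔ R w h := by
  rw [MonoidHom.range_eq_map, ← SL2.sup_eq_top, Subgroup.map_sup, P.map_lower, P.map_upper,
    sup_comm]

theorem Pairing.isPSL2 {v w h f : ι → k} (P : Pairing v w h f) :
    Cfsg.IsPSL2PairOver k (R v f) (R w h) := by
  refine ⟨P.rho, P.range_rho, ?_, P.map_upper, P.map_lower⟩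
  rw [(MonoidHom.ker_eq_bot_iff P.rho).2 P.rho_injective]
  exact bot_le

theorem Pairing.rankOne {v w h f : ι → k} (P : Pairing v w h f) :
    Cfsg.IsRankOnePair (R v f) (R w h) := by
  have hp := Cfsg.Agent.S5016.pair k
  rcases Cfsg.Agent.S5035.map_rankOne P.rho hp with h1 | h1
  · exact absurd (Subgroup.map_injective P.rho_injective h1) hp.ne
  · rw [P.map_lower, P.map_upper] at h1
    exact Cfsg.RankOnePair_symm h1

/-- the general (unnormalized) data. -/
theorem pairing_of {v w h f : ι → k} (hfv : f ⬝ᵥ v = 0) (hhw : h ⬝ᵥ w = 0)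
    (hfw : f ⬝ᵥ w ≠ 0) (hhv : h ⬝ᵥ v ≠ 0) :
    Pairing v w ((h ⬝ᵥ v)⁻¹ • h) ((f ⬝ᵥ w)⁻¹ • f) := by
  refine ⟨?_, ?_, ?_, ?_⟩
  · rw [smul_dotProduct, smul_eq_mul, inv_mul_cancel₀ hhv]
  · rw [smul_dotProduct, hhw, smul_zero]
  · rw [smul_dotProduct, hfv, smul_zero]
  · rw [smul_dotProduct, smul_eq_mul, inv_mul_cancel₀ hfw]

theorem rankOne_of {v w h f : ι → k} (hfv : f ⬝ᵥ v = 0) (hhw : h ⬝ᵥ w = 0)
    (hfw : f ⬝ᵥ w ≠ 0) (hhv : h ⬝ᵥ v ≠ 0) : Cfsg.IsRankOnePair (R v f) (R w h) := by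
  have := (pairing_of hfv hhw hfw hhv).rankOne
  rwa [R_smul_right _ _ (inv_ne_zero hfw), R_smul_right _ _ (inv_ne_zero hhv)] at this

theorem isPSL2_of {v w h f : ι → k} (hfv : f ⬝ᵥ v = 0) (hhw : h ⬝ᵥ w = 0)
    (hfw : f ⬝ᵥ w ≠ 0) (hhv : h ⬝ᵥ v ≠ 0) : Cfsg.IsPSL2PairOver k (R v f) (R w h) := by
  have := (pairing_of hfv hhw hfw hhv).isPSL2
  rwa [R_smul_right _ _ (inv_ne_zero hfw), R_smul_right _ _ (inv_ne_zero hhv)] at this

end RootSL
end Cfsg.Agent.Helper25
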