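import Mathlib
import Cfsg.Prelude.Def_RootSubgroups
import Cfsg.Agent.Lib.Helper25.OrthRoot4
import Cfsg.Agent.Lib.Helper25.RootSL2

set_option autoImplicit false

namespace Cfsg.Agent.Helper25
namespace OrthRoot

open Matrix
open scoped commutatorElement

variable {κ : Type} [Fintype κ] [DecidableEq κ] {F : Type*} [Field F]
variable {H : Subgroup (GL (κ ⊕ κ) F)}

/-- conjugation with `diag(1, -1)` on matrices. -/
def tauMat (M : Matrix (Fin 2) (Fin 2) F) : Matrix (Fin 2) (Fin 2) F :=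
  !![M 0 0, -M 0 1; -M 1 0, M 1 1]

theorem tauMat_mul (M M' : Matrix (Fin 2) (Fin 2) F) :
    tauMat (M * M') = tauMat M * tauMat M' := by
  unfold tauMat
  ext i j
  fin_cases i <;> fin_cases j <;> simp [Matrix.mul_apply, Fin.sum_univ_two] <;> ring

theorem tauMat_one : tauMat (1 : Matrix (Fin 2) (Fin 2) F) = 1 := by
  unfold tauMat
  ext i j
  fin_cases i <;> fin_cases j <;> simp

theorem det_tauMat (M : Matrix (Fin 2) (Fin 2) F) : (tauMat M).det = M.det := by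
  unfold tauMat
  rw [det_fin_two_of, det_fin_two]
  ring

/-- the automorphism of `SL₂` given by conjugation with `diag(1, -1)`. -/
def tau : SpecialLinearGroup (Fin 2) F →* SpecialLinearGroup (Fin 2) F where
  toFun M := ⟨tauMat (M : Matrix (Fin 2) (Fin 2) F), by rw [det_tauMat]; exact M.det_coe⟩
  map_one' := by
    apply Subtype.ext
    exact tauMat_one
  map_mul' M M' := by
    apply Subtype.ext
    exact tauMat_mul _ _

theorem tau_val (M : SpecialLinearGroup (Fin 2) F) :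
    ((tau M : SpecialLinearGroup (Fin 2) F) : Matrix (Fin 2) (Fin 2) F) =
      tauMat (M : Matrix (Fin 2) (Fin 2) F) := rfl

theorem tau_U (s : F) : tau (SL2.U s) = SL2.U (-s) := by
  apply Subtype.ext
  rw [tau_val, SL2.U_val, SL2.U_val]
  unfold tauMat
  ext i j
  fin_cases i <;> fin_cases j <;> simp

theorem tau_L (s : F) : tau (SL2.L s) = SL2.L (-s) := by
  apply Subtype.ext
  rw [tau_val, SL2.L_val, SL2.L_val]
  unfold tauMat
  ext i j
  fin_cases i <;> fin_cases j <;> simp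

/-- normalized data for a pair of opposite lines. -/
structure Opp (p₁ r₁ p₂ r₂ : κ ⊕ κ → F) : Prop where
  h₁ : SLine p₁ r₁
  h₂ : SLine p₂ r₂
  h11 : Bf p₁ p₂ = 1
  h12 : Bf p₁ r₂ = 0
  h21 : Bf r₁ p₂ = 0
  h22 : Bf r₁ r₂ = 1

namespace Opp

variable {p₁ r₁ p₂ r₂ : κ ⊕ κ → F}

theorem pairing₁ (O : Opp p₁ r₁ p₂ r₂) : RootSL.Pairing r₁ p₂ (sw r₂) (sw p₁) := by
  refine ⟨?_, ?_, ?_, ?_⟩
  · rw [sw_dot]; exact O.h22
  · rw [sw_dot]; exact O.h₂.hpr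
  · rw [sw_dot]; exact O.h₁.hrp
  · rw [sw_dot, Bf_symm]; exact O.h11

theorem pairing₂ (O : Opp p₁ r₁ p₂ r₂) : RootSL.Pairing p₁ r₂ (sw p₂) (sw r₁) := by
  refine ⟨?_, ?_, ?_, ?_⟩
  · rw [sw_dot]; exact O.h11
  · rw [sw_dot]; exact O.h₂.hrp
  · rw [sw_dot]; exact O.h₁.hpr
  · rw [sw_dot, Bf_symm]; exact O.h22

theorem VU₁₂ (O : Opp p₁ r₁ p₂ r₂) : RootSL.Vmat (sw r₂) (sw p₁) * RootSL.Umat p₁ r₂ = 0 := by
  rw [RootSL.Vmat_mul_Umat, sw_dot, sw_dot, sw_dot, sw_dot, O.h12, O.h₂.hrr, O.h₁.hpp,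
    Bf_symm, O.h12]
  ext i j
  fin_cases i <;> fin_cases j <;> simp

theorem VU₂₁ (O : Opp p₁ r₁ p₂ r₂) : RootSL.Vmat (sw p₂) (sw r₁) * RootSL.Umat r₁ p₂ = 0 := by
  rw [RootSL.Vmat_mul_Umat, sw_dot, sw_dot, sw_dot, sw_dot, O.h21, O.h₂.hpp, O.h₁.hrr,
    Bf_symm, O.h21]
  ext i j
  fin_cases i <;> fin_cases j <;> simp

theorem rhoMat_commute (O : Opp p₁ r₁ p₂ r₂) (M M' : Matrix (Fin 2) (Fin 2) F) :
    RootSL.rhoMat r₁ p₂ (sw r₂) (sw p₁) M * RootSL.rhoMat p₁ r₂ (sw p₂) (sw r₁) M' =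
      RootSL.rhoMat p₁ r₂ (sw p₂) (sw r₁) M' * RootSL.rhoMat r₁ p₂ (sw r₂) (sw p₁) M := by
  unfold RootSL.rhoMat
  have k1 : RootSL.Umat r₁ p₂ * (M - 1) * RootSL.Vmat (sw r₂) (sw p₁) *
      (RootSL.Umat p₁ r₂ * (M' - 1) * RootSL.Vmat (sw p₂) (sw r₁)) = 0 := by
    calc RootSL.Umat r₁ p₂ * (M - 1) * RootSL.Vmat (sw r₂) (sw p₁) *
        (RootSL.Umat p₁ r₂ * (M' - 1) * RootSL.Vmat (sw p₂) (sw r₁))
        = RootSL.Umat r₁ p₂ * (M - 1) * (RootSL.Vmat (sw r₂) (sw p₁) * RootSL.Umat p₁ r₂) *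
            (M' - 1) * RootSL.Vmat (sw p₂) (sw r₁) := by simp only [Matrix.mul_assoc]
      _ = 0 := by rw [O.VU₁₂]; simp
  have k2 : RootSL.Umat p₁ r₂ * (M' - 1) * RootSL.Vmat (sw p₂) (sw r₁) *
      (RootSL.Umat r₁ p₂ * (M - 1) * RootSL.Vmat (sw r₂) (sw p₁)) = 0 := by
    calc RootSL.Umat p₁ r₂ * (M' - 1) * RootSL.Vmat (sw p₂) (sw r₁) *
        (RootSL.Umat r₁ p₂ * (M - 1) * RootSL.Vmat (sw r₂) (sw p₁))
        = RootSL.Umat p₁ r₂ * (M' - 1) * (RootSL.Vmat (sw p₂) (sw r₁) * RootSL.Umat r₁ p₂) *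
            (M - 1) * RootSL.Vmat (sw r₂) (sw p₁) := by simp only [Matrix.mul_assoc]
      _ = 0 := by rw [O.VU₂₁]; simp
  rw [Matrix.add_mul, Matrix.mul_add, Matrix.mul_add, Matrix.add_mul, Matrix.mul_add,
    Matrix.mul_add, k1, k2]
  simp only [Matrix.one_mul, Matrix.mul_one]
  abel

/-- the two block representations commute. -/
theorem rho_commute (O : Opp p₁ r₁ p₂ r₂) (g g' : SpecialLinearGroup (Fin 2) F) :
    O.pairing₁.rho g * O.pairing₂.rho g' = O.pairing₂.rho g' * O.pairing₁.rho g := by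
  apply Subtype.ext
  rw [RootSL.val_mul, RootSL.val_mul, RootSL.Pairing.rho_val, RootSL.Pairing.rho_val]
  exact O.rhoMat_commute _ _

/-- the embedding of `SL₂` into the special linear group. -/
noncomputable def rhoSL (O : Opp p₁ r₁ p₂ r₂) :
    SpecialLinearGroup (Fin 2) F →* SpecialLinearGroup (κ ⊕ κ) F where
  toFun g := O.pairing₁.rho g * O.pairing₂.rho (tau g)
  map_one' := by rw [map_one, map_one, map_one, one_mul]
  map_mul' g g' := by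
    rw [map_mul, map_mul, map_mul]
    calc O.pairing₁.rho g * O.pairing₁.rho g' * (O.pairing₂.rho (tau g) * O.pairing₂.rho (tau g'))
        = O.pairing₁.rho g * (O.pairing₁.rho g' * O.pairing₂.rho (tau g)) *
            O.pairing₂.rho (tau g') := by group
      _ = O.pairing₁.rho g * (O.pairing₂.rho (tau g) * O.pairing₁.rho g') *
            O.pairing₂.rho (tau g') := by rw [O.rho_commute]
      _ = _ := by group

theorem rhoSL_apply (O : Opp p₁ r₁ p₂ r₂) (g : SpecialLinearGroup (Fin 2) F) :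
    O.rhoSL g = O.pairing₁.rho g * O.pairing₂.rho (tau g) := rfl

theorem rhoSL_U (O : Opp p₁ r₁ p₂ r₂) (c : F) :
    ((O.rhoSL (SL2.U c) : SpecialLinearGroup (κ ⊕ κ) F) : Matrix (κ ⊕ κ) (κ ⊕ κ) F) =
      smat p₁ r₁ c := by
  rw [rhoSL_apply, tau_U, RootSL.Pairing.rho_U, RootSL.Pairing.rho_U, RootSL.val_mul,
    RootSL.T_val, RootSL.T_val, RootSL.tmat_mul, sw_dot, O.h₁.hpp]
  unfold smat
  rw [mul_zero, zero_smul, add_zero, neg_smul, smul_sub]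
  abel

theorem rhoSL_L (O : Opp p₁ r₁ p₂ r₂) (c : F) :
    ((O.rhoSL (SL2.L c) : SpecialLinearGroup (κ ⊕ κ) F) : Matrix (κ ⊕ κ) (κ ⊕ κ) F) =
      smat p₂ r₂ (-c) := by
  rw [rhoSL_apply, tau_L, RootSL.Pairing.rho_L, RootSL.Pairing.rho_L, RootSL.val_mul,
    RootSL.T_val, RootSL.T_val, RootSL.tmat_mul, sw_dot, O.h₂.hrr]
  unfold smat
  rw [mul_zero, zero_smul, add_zero, neg_smul, neg_smul, smul_sub]
  abel

theorem rhoSL_injective (O : Opp p₁ r₁ p₂ r₂) : Function.Injective O.rhoSL := by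
  rw [injective_iff_map_eq_one]
  intro g hg
  have h1 : RootSL.rhoMat r₁ p₂ (sw r₂) (sw p₁) (g : Matrix (Fin 2) (Fin 2) F) *
      RootSL.rhoMat p₁ r₂ (sw p₂) (sw r₁) ((tau g : SpecialLinearGroup (Fin 2) F) :
        Matrix (Fin 2) (Fin 2) F) = 1 := by
    have := congrArg (fun x : SpecialLinearGroup (κ ⊕ κ) F => (x : Matrix (κ ⊕ κ) (κ ⊕ κ) F)) hg
    exact this
  have h2 : RootSL.Vmat (sw r₂) (sw p₁) *
      (RootSL.rhoMat r₁ p₂ (sw r₂) (sw p₁) (g : Matrix (Fin 2) (Fin 2) F) *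
      RootSL.rhoMat p₁ r₂ (sw p₂) (sw r₁) ((tau g : SpecialLinearGroup (Fin 2) F) :
        Matrix (Fin 2) (Fin 2) F)) * RootSL.Umat r₁ p₂ = 1 := by
    rw [h1, Matrix.mul_one, O.pairing₁.VU]
  have h3 : RootSL.rhoMat p₁ r₂ (sw p₂) (sw r₁) ((tau g : SpecialLinearGroup (Fin 2) F) :
        Matrix (Fin 2) (Fin 2) F) * RootSL.Umat r₁ p₂ = RootSL.Umat r₁ p₂ := by
    unfold RootSL.rhoMat
    rw [Matrix.add_mul, Matrix.one_mul, Matrix.mul_assoc, O.VU₂₁, Matrix.mul_zero, add_zero]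
  have h4 : RootSL.Vmat (sw r₂) (sw p₁) *
      RootSL.rhoMat r₁ p₂ (sw r₂) (sw p₁) (g : Matrix (Fin 2) (Fin 2) F) * RootSL.Umat r₁ p₂ =
      (g : Matrix (Fin 2) (Fin 2) F) := by
    unfold RootSL.rhoMat
    rw [Matrix.mul_add, Matrix.add_mul, Matrix.mul_one, O.pairing₁.VU]
    have : RootSL.Vmat (sw r₂) (sw p₁) *
        (RootSL.Umat r₁ p₂ * ((g : Matrix (Fin 2) (Fin 2) F) - 1) * RootSL.Vmat (sw r₂) (sw p₁)) *
        RootSL.Umat r₁ p₂ =
        (RootSL.Vmat (sw r₂) (sw p₁) * RootSL.Umat r₁ p₂) * ((g : Matrix (Fin 2) (Fin 2) F) - 1) *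
          (RootSL.Vmat (sw r₂) (sw p₁) * RootSL.Umat r₁ p₂) := by
      simp only [Matrix.mul_assoc]
    rw [this, O.pairing₁.VU, Matrix.one_mul, Matrix.mul_one, add_sub_cancel]
  apply Subtype.ext
  rw [← h4]
  rw [Matrix.mul_assoc, Matrix.mul_assoc, h3] at h2
  rw [Matrix.mul_assoc]
  exact h2

end Opp

end OrthRoot
end Cfsg.Agent.Helper25
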