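import Mathlib
import Cfsg.Prelude.Def_RootSubgroups
import Cfsg.Agent.Lib.Helper25.OrthRoot5
import Cfsg.Agent.S5016
import Cfsg.Agent.S5035

set_option autoImplicit false

namespace Cfsg.Agent.Helper25
namespace OrthRoot

open Matrix
open scoped commutatorElement

variable {κ : Type} [Fintype κ] [DecidableEq κ] {F : Type*} [Field F]
variable {H : Subgroup (GL (κ ⊕ κ) F)}

namespace Opp

variable {p₁ r₁ p₂ r₂ : κ ⊕ κ → F}

/-- the embedding of `SL₂` into the general linear group. -/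
noncomputable def phi0 (O : Opp p₁ r₁ p₂ r₂) : SpecialLinearGroup (Fin 2) F →* GL (κ ⊕ κ) F :=
  SpecialLinearGroup.toGL.comp O.rhoSL

theorem phi0_val (O : Opp p₁ r₁ p₂ r₂) (g : SpecialLinearGroup (Fin 2) F) :
    ((O.phi0 g : GL (κ ⊕ κ) F) : Matrix (κ ⊕ κ) (κ ⊕ κ) F) =
      ((O.rhoSL g : SpecialLinearGroup (κ ⊕ κ) F) : Matrix (κ ⊕ κ) (κ ⊕ κ) F) := rfl

theorem phi0_injective (O : Opp p₁ r₁ p₂ r₂) : Function.Injective O.phi0 := by
  intro g g' h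
  exact O.rhoSL_injective (SpecialLinearGroup.toGL_injective h)

theorem phi0_mem (O : Opp p₁ r₁ p₂ r₂) (hH : IsOrth H) (M : SpecialLinearGroup (Fin 2) F) :
    O.phi0 M ∈ H := by
  have hle : (⊤ : Subgroup (SpecialLinearGroup (Fin 2) F)) ≤ H.comap O.phi0 := by
    rw [← SL2.sup_eq_top]
    apply sup_le
    · intro M hM
      obtain ⟨s, rfl⟩ := SL2.mem_lower_iff.1 hM
      rw [Subgroup.mem_comap]
      have : O.phi0 (SL2.L s) = sGL O.h₂ (-s) := by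
        apply Units.ext
        rw [phi0_val, O.rhoSL_L]
        rfl
      rw [this]
      exact sGL_mem hH O.h₂ _
    · intro M hM
      obtain ⟨s, rfl⟩ := SL2.mem_upper_iff.1 hM
      rw [Subgroup.mem_comap]
      have : O.phi0 (SL2.U s) = sGL O.h₁ s := by
        apply Units.ext
        rw [phi0_val, O.rhoSL_U]
        rfl
      rw [this]
      exact sGL_mem hH O.h₁ _
  exact hle (Subgroup.mem_top M)

/-- the embedding of `SL₂` into the orthogonal group. -/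
noncomputable def phi (O : Opp p₁ r₁ p₂ r₂) (hH : IsOrth H) :
    SpecialLinearGroup (Fin 2) F →* ↥H :=
  O.phi0.codRestrict H (O.phi0_mem hH)

theorem phi_injective (O : Opp p₁ r₁ p₂ r₂) (hH : IsOrth H) :
    Function.Injective (O.phi hH) := by
  intro g g' h
  apply O.phi0_injective
  exact congrArg Subtype.val h

theorem phi_U (O : Opp p₁ r₁ p₂ r₂) (hH : IsOrth H) (c : F) :
    O.phi hH (SL2.U c) = sH hH O.h₁ c := by
  apply Subtype.ext
  apply Units.ext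
  show ((O.phi0 (SL2.U c) : GL (κ ⊕ κ) F) : Matrix (κ ⊕ κ) (κ ⊕ κ) F) = smat p₁ r₁ c
  rw [phi0_val, O.rhoSL_U]

theorem phi_L (O : Opp p₁ r₁ p₂ r₂) (hH : IsOrth H) (c : F) :
    O.phi hH (SL2.L c) = sH hH O.h₂ (-c) := by
  apply Subtype.ext
  apply Units.ext
  show ((O.phi0 (SL2.L c) : GL (κ ⊕ κ) F) : Matrix (κ ⊕ κ) (κ ⊕ κ) F) = smat p₂ r₂ (-c)
  rw [phi0_val, O.rhoSL_L]

theorem phi_map_upper (O : Opp p₁ r₁ p₂ r₂) (hH : IsOrth H) :
    (Cfsg.upperUnipotentSL2 F).map (O.phi hH) = RO H p₁ r₁ O.h₁ := by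
  ext g
  rw [Subgroup.mem_map, mem_RO' hH]
  constructor
  · rintro ⟨M, hM, rfl⟩
    obtain ⟨s, rfl⟩ := SL2.mem_upper_iff.1 hM
    exact ⟨s, O.phi_U hH s⟩
  · rintro ⟨c, rfl⟩
    exact ⟨SL2.U c, SL2.U_mem c, O.phi_U hH c⟩

theorem phi_map_lower (O : Opp p₁ r₁ p₂ r₂) (hH : IsOrth H) :
    (Cfsg.lowerUnipotentSL2 F).map (O.phi hH) = RO H p₂ r₂ O.h₂ := by
  ext g
  rw [Subgroup.mem_map, mem_RO' hH]
  constructor
  · rintro ⟨M, hM, rfl⟩
    obtain ⟨s, rfl⟩ := SL2.mem_lower_iff.1 hM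
    exact ⟨-s, O.phi_L hH s⟩
  · rintro ⟨c, rfl⟩
    refine ⟨SL2.L (-c), SL2.L_mem _, ?_⟩
    rw [O.phi_L hH, neg_neg]

theorem rankOne (O : Opp p₁ r₁ p₂ r₂) (hH : IsOrth H) :
    Cfsg.IsRankOnePair (RO H p₁ r₁ O.h₁) (RO H p₂ r₂ O.h₂) := by
  have hp := Cfsg.Agent.S5016.pair F
  rcases Cfsg.Agent.S5035.map_rankOne (O.phi hH) hp with h1 | h1
  · exact absurd (Subgroup.map_injective (O.phi_injective hH) h1) hp.ne
  · rw [O.phi_map_lower hH, O.phi_map_upper hH] at h1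
    exact Cfsg.RankOnePair_symm h1

theorem isPSL2 (O : Opp p₁ r₁ p₂ r₂) (hH : IsOrth H) :
    Cfsg.IsPSL2PairOver F (RO H p₁ r₁ O.h₁) (RO H p₂ r₂ O.h₂) := by
  refine ⟨O.phi hH, ?_, ?_, O.phi_map_upper hH, O.phi_map_lower hH⟩
  · rw [MonoidHom.range_eq_map, ← SL2.sup_eq_top, Subgroup.map_sup, O.phi_map_lower hH,
      O.phi_map_upper hH, sup_comm]
  · rw [(MonoidHom.ker_eq_bot_iff _).2 (O.phi_injective hH)]
    exact bot_le

end Opp

end OrthRoot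
end Cfsg.Agent.Helper25
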