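import Mathlib
import Cfsg.Prelude.Def_RootSubgroups
import Cfsg.Agent.Lib.Helper25.OrthRoot6

set_option autoImplicit false

namespace Cfsg.Agent.Helper25
namespace OrthRoot

open Matrix
open scoped commutatorElement

variable {κ : Type} [Fintype κ] [DecidableEq κ] {F : Type*} [Field F]
variable {H : Subgroup (GL (κ ⊕ κ) F)}

/-- change of basis of a singular line. -/
theorem SLine.gl {p r : κ ⊕ κ → F} (h : SLine p r) {α β γ δ : F} (hdet : α * δ - β * γ ≠ 0) :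
    SLine (α • p + β • r) (γ • p + δ • r) := by
  obtain ⟨v₁, v₂, h1p, h1r, h2p, h2r⟩ := h.dual
  have e1 : Bf (δ • v₁ - γ • v₂) (α • p + β • r) = α * δ - β * γ := by
    simp only [Bf_add_right, Bf_smul_left, Bf_smul_right, Bf_sub_left, h1p, h1r, h2p, h2r]
    ring
  have e2 : Bf (δ • v₁ - γ • v₂) (γ • p + δ • r) = 0 := by
    simp only [Bf_add_right, Bf_smul_left, Bf_smul_right, Bf_sub_left, h1p, h1r, h2p, h2r]
    ring
  have e3 : Bf (α • v₂ - β • v₁) (α • p + β • r) = 0 := by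
    simp only [Bf_add_right, Bf_smul_left, Bf_smul_right, Bf_sub_left, h1p, h1r, h2p, h2r]
    ring
  have e4 : Bf (α • v₂ - β • v₁) (γ • p + δ • r) = α * δ - β * γ := by
    simp only [Bf_add_right, Bf_smul_left, Bf_smul_right, Bf_sub_left, h1p, h1r, h2p, h2r]
    ring
  refine ⟨h.Qf_comb' _ _, h.Qf_comb' _ _, ?_,
    (α * δ - β * γ)⁻¹ • (δ • v₁ - γ • v₂), (α * δ - β * γ)⁻¹ • (α • v₂ - β • v₁), ?_, ?_, ?_, ?_⟩
  · simp only [Bf_add_left, Bf_add_right, Bf_smul_left, Bf_smul_right, h.hpp, h.hrr, h.hpr, h.hrp]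
    ring
  · rw [Bf_smul_left, e1, inv_mul_cancel₀ hdet]
  · rw [Bf_smul_left, e2, mul_zero]
  · rw [Bf_smul_left, e3, mul_zero]
  · rw [Bf_smul_left, e4, inv_mul_cancel₀ hdet]

theorem RO_gl (hH : IsOrth H) {p r : κ ⊕ κ → F} (h : SLine p r) {α β γ δ : F}
    (hdet : α * δ - β * γ ≠ 0) :
    RO H (α • p + β • r) (γ • p + δ • r) (h.gl hdet) = RO H p r h := by
  apply RO_congr hH
  intro v
  simp only [Bf_add_right, Bf_smul_right]
  constructor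
  · rintro ⟨e1, e2⟩
    constructor
    · have : (α * δ - β * γ) * Bf v p = 0 := by linear_combination δ * e1 - β * e2
      rcases mul_eq_zero.1 this with h3 | h3
      · exact absurd h3 hdet
      · exact h3
    · have : (α * δ - β * γ) * Bf v r = 0 := by linear_combination α * e2 - γ * e1
      rcases mul_eq_zero.1 this with h3 | h3
      · exact absurd h3 hdet
      · exact h3
  · rintro ⟨e1, e2⟩
    rw [e1, e2]
    simp

/-- the set of Siegel root groups. -/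
def OSet (H : Subgroup (GL (κ ⊕ κ) F)) : Set (Subgroup ↥H) :=
  {A | ∃ (p r : κ ⊕ κ → F) (h : SLine p r), A = RO H p r h}

/-- the core of the rank one Gram matrix case. -/
theorem rank1_core (hH : IsOrth H) {x a y b : κ ⊕ κ → F} (R : Rank1 x a y b) :
    ⁅RO H x a R.h₁, RO H y b R.h₂⁆ = ⊥ ∨
      Cfsg.RootCommutatorCase (OSet H) (RO H x a R.h₁) (RO H y b R.h₂) := by
  by_cases hdep : ∃ l : F, y = l • x
  · obtain ⟨l, hl⟩ := hdep
    exact Or.inl (R.comm_eq_bot_of_dep hH hl)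
  · right
    have hind : ∀ s t : F, s • x + t • y = 0 → s = 0 ∧ t = 0 := by
      intro s t hst
      have ht : t = 0 := by
        by_contra ht
        apply hdep
        refine ⟨-(s / t), ?_⟩
        have h1 : t • y = -(s • x) := eq_neg_of_add_eq_zero_right hst
        have h2 : y = t⁻¹ • (t • y) := by rw [smul_smul, inv_mul_cancel₀ ht, one_smul]
        rw [h2, h1, smul_neg, smul_smul, neg_smul, div_eq_inv_mul, mul_comm]
      refine ⟨?_, ht⟩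
      rw [ht, zero_smul, add_zero] at hst
      rcases smul_eq_zero.1 hst with h3 | h3
      · exact h3
      · exact absurd h3 R.h₁.p_ne_zero
    have hind' : ∀ s t : F, s • y + t • x = 0 → s = 0 ∧ t = 0 := by
      intro s t hst
      rw [add_comm] at hst
      exact (hind t s hst).symm
    obtain ⟨v₁, hv₁x, hv₁y⟩ := exists_dual hind
    obtain ⟨v₂, hv₂y, hv₂x⟩ := exists_dual hind'
    have hxy : SLine x y := ⟨R.h₁.hp, R.h₂.hp, R.hxy, v₁, v₂, hv₁x, hv₁y, hv₂x, hv₂y⟩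
    exact R.commCase hH hxy ⟨x, y, hxy, rfl⟩

/-- Gram matrix of rank one with non-zero last entry. -/
theorem rank1_22 (hH : IsOrth H) {p₁ r₁ p₂ r₂ : κ ⊕ κ → F} (h₁ : SLine p₁ r₁) (h₂ : SLine p₂ r₂)
    (hm : Bf r₁ r₂ ≠ 0) (hdet : Bf p₁ p₂ * Bf r₁ r₂ - Bf p₁ r₂ * Bf r₁ p₂ = 0) :
    ⁅RO H p₁ r₁ h₁, RO H p₂ r₂ h₂⁆ = ⊥ ∨
      Cfsg.RootCommutatorCase (OSet H) (RO H p₁ r₁ h₁) (RO H p₂ r₂ h₂) := by
  have d1 : (1 : F) * 1 - -(Bf p₁ r₂ / Bf r₁ r₂) * 0 ≠ 0 := by simp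
  have d2 : (1 : F) * (Bf r₁ r₂)⁻¹ - -(Bf r₁ p₂ / Bf r₁ r₂) * 0 ≠ 0 := by
    simp [hm]
  have R : Rank1 ((1 : F) • p₁ + -(Bf p₁ r₂ / Bf r₁ r₂) • r₁) ((0 : F) • p₁ + (1 : F) • r₁)
      ((1 : F) • p₂ + -(Bf r₁ p₂ / Bf r₁ r₂) • r₂) ((0 : F) • p₂ + (Bf r₁ r₂)⁻¹ • r₂) := by
    refine ⟨h₁.gl d1, h₂.gl d2, ?_, ?_, ?_, ?_⟩
    · simp only [Bf_add_left, Bf_add_right, Bf_smul_left, Bf_smul_right]
      field_simp
      linear_combination hdet
    · simp only [Bf_add_left, Bf_add_right, Bf_smul_left, Bf_smul_right]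
      field_simp
      ring
    · simp only [Bf_add_left, Bf_add_right, Bf_smul_left, Bf_smul_right]
      field_simp
      ring
    · simp only [Bf_add_left, Bf_add_right, Bf_smul_left, Bf_smul_right]
      field_simp
      ring
  have e1 := RO_gl hH h₁ d1
  have e2 := RO_gl hH h₂ d2
  have := rank1_core hH R
  rw [e1, e2] at this
  exact this

/-- Gram matrix of rank one. -/
theorem rank1_any (hH : IsOrth H) {p₁ r₁ p₂ r₂ : κ ⊕ κ → F} (h₁ : SLine p₁ r₁) (h₂ : SLine p₂ r₂)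
    (hdet : Bf p₁ p₂ * Bf r₁ r₂ - Bf p₁ r₂ * Bf r₁ p₂ = 0) :
    ⁅RO H p₁ r₁ h₁, RO H p₂ r₂ h₂⁆ = ⊥ ∨
      Cfsg.RootCommutatorCase (OSet H) (RO H p₁ r₁ h₁) (RO H p₂ r₂ h₂) := by
  by_cases h22 : Bf r₁ r₂ = 0
  · by_cases h21 : Bf r₁ p₂ = 0
    · by_cases h12 : Bf p₁ r₂ = 0
      · by_cases h11 : Bf p₁ p₂ = 0
        · exact Or.inl (comm_eq_bot_of_perp hH h₁ h₂ h11 h12 h21 h22)
        · have := rank1_22 hH h₁.symm h₂.symm h11 (by linear_combination hdet)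
          rwa [RO_swap hH h₁, RO_swap hH h₂] at this
      · have := rank1_22 hH h₁.symm h₂ h12 (by linear_combination -hdet)
        rwa [RO_swap hH h₁] at this
    · have := rank1_22 hH h₁ h₂.symm h21 (by linear_combination -hdet)
      rwa [RO_swap hH h₂] at this
  · exact rank1_22 hH h₁ h₂ h22 hdet

/-- opposite lines. -/
theorem opp_any (hH : IsOrth H) {p₁ r₁ p₂ r₂ : κ ⊕ κ → F} (h₁ : SLine p₁ r₁) (h₂ : SLine p₂ r₂)
    (hdet : Bf p₁ p₂ * Bf r₁ r₂ - Bf p₁ r₂ * Bf r₁ p₂ ≠ 0) :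
    Cfsg.IsRankOnePair (RO H p₁ r₁ h₁) (RO H p₂ r₂ h₂) ∧
      Cfsg.IsPSL2PairOver F (RO H p₁ r₁ h₁) (RO H p₂ r₂ h₂) := by
  obtain ⟨D, hD⟩ : ∃ D, D = Bf p₁ p₂ * Bf r₁ r₂ - Bf p₁ r₂ * Bf r₁ p₂ := ⟨_, rfl⟩
  have hD0 : D ≠ 0 := by rw [hD]; exact hdet
  have d2 : (Bf r₁ r₂ / D) * (Bf p₁ p₂ / D) - (-(Bf r₁ p₂) / D) * (-(Bf p₁ r₂) / D) ≠ 0 := by
    have : (Bf r₁ r₂ / D) * (Bf p₁ p₂ / D) - (-(Bf r₁ p₂) / D) * (-(Bf p₁ r₂) / D) = D⁻¹ := by
      field_simp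
      rw [hD]; ring
    rw [this]
    exact inv_ne_zero hD0
  have O : Opp p₁ r₁ ((Bf r₁ r₂ / D) • p₂ + (-(Bf r₁ p₂) / D) • r₂)
      ((-(Bf p₁ r₂) / D) • p₂ + (Bf p₁ p₂ / D) • r₂) := by
    refine ⟨h₁, h₂.gl d2, ?_, ?_, ?_, ?_⟩
    · simp only [Bf_add_right, Bf_smul_right]
      field_simp
      rw [hD]; ring
    · simp only [Bf_add_right, Bf_smul_right]
      field_simp
      ring
    · simp only [Bf_add_right, Bf_smul_right]
      field_simp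
      ring
    · simp only [Bf_add_right, Bf_smul_right]
      field_simp
      rw [hD]; ring
  have e2 := RO_gl hH h₂ d2
  have r1 := O.rankOne hH
  have r2 := O.isPSL2 hH
  rw [e2] at r1 r2
  exact ⟨r1, r2⟩

theorem pair_cases (hH : IsOrth H) {p₁ r₁ p₂ r₂ : κ ⊕ κ → F} (h₁ : SLine p₁ r₁)
    (h₂ : SLine p₂ r₂) :
    ⁅RO H p₁ r₁ h₁, RO H p₂ r₂ h₂⁆ = ⊥ ∨
      (Cfsg.IsRankOnePair (RO H p₁ r₁ h₁) (RO H p₂ r₂ h₂) ∧
        Cfsg.IsPSL2PairOver F (RO H p₁ r₁ h₁) (RO H p₂ r₂ h₂)) ∨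
      Cfsg.RootCommutatorCase (OSet H) (RO H p₁ r₁ h₁) (RO H p₂ r₂ h₂) := by
  by_cases hdet : Bf p₁ p₂ * Bf r₁ r₂ - Bf p₁ r₂ * Bf r₁ p₂ = 0
  · rcases rank1_any hH h₁ h₂ hdet with h | h
    · exact Or.inl h
    · exact Or.inr (Or.inr h)
  · exact Or.inr (Or.inl (opp_any hH h₁ h₂ hdet))

end OrthRoot
end Cfsg.Agent.Helper25
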