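import Mathlib
import Cfsg.Prelude.Def_RootSubgroups
import Cfsg.Agent.Lib.Helper25.ConjBy
import Cfsg.Agent.Lib.Helper25.RankOne4

set_option autoImplicit false

namespace Cfsg.Agent.Helper25
namespace RootOrder

variable {G : Type*} [Group G]

/-- a rank one pair does not commute elementwise. -/
theorem not_commute_of_rankOne {A B : Subgroup G} (hp : Cfsg.IsRankOnePair A B) :
    ¬ (∀ a ∈ A, ∀ b ∈ B, a * b = b * a) := by
  intro h
  obtain ⟨a, ha, ha1⟩ := RankOne.exists_ne_one_left hp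
  apply ha1
  apply RankOne.eq_one_of_normalizes hp ha
  exact RankOne.conjBy_eq_of_commute (fun b hb => h a ha b hb)

/-- conjugating the right member by a non-identity element of the left one gives a rank one pair. -/
theorem rankOne_conj_right {A T : Subgroup G} (hp : Cfsg.IsRankOnePair A T) {a : G} (ha : a ∈ A)
    (ha1 : a ≠ 1) : Cfsg.IsRankOnePair (Cfsg.conjBy T a) T := by
  have hp' := Cfsg.RankOnePair_symm hp
  have hne : Cfsg.conjBy T a ≠ T := by
    intro h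
    exact ha1 (RankOne.eq_one_of_normalizes hp ha h)
  exact RankOne.pair_of_mem hp' ⟨a, Subgroup.mem_sup_right ha, rfl⟩
    ⟨1, Subgroup.one_mem _, (conjBy_one T).symm⟩ hne

/-- **The conjugation trick.** A conjugation invariant transitive relation `R` on subgroups that
never relates the two members of a rank one pair is symmetric on commuting pairs with a common
rank one partner. -/
theorem trick {R : Subgroup G → Subgroup G → Prop}
    (htrans : ∀ X Y Z, R X Y → R Y Z → R X Z)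
    (hconj : ∀ X Y (g : G), R X Y → R (Cfsg.conjBy X g) (Cfsg.conjBy Y g))
    (hro : ∀ X Y, R X Y → ¬ Cfsg.IsRankOnePair X Y)
    {A C T : Subgroup G} (hcomm : ∀ a ∈ A, ∀ c ∈ C, a * c = c * a)
    (hAT : Cfsg.IsRankOnePair A T) (hCT : Cfsg.IsRankOnePair C T) (hR : R A C) : R C A := by
  obtain ⟨c, hc, hc1⟩ := RankOne.exists_ne_one_left hCT
  obtain ⟨t, ht, ht1, hct⟩ := hCT.cond_left c hc hc1
  obtain ⟨a, ha, ha1, hta⟩ := hAT.cond_right t ht ht1
  have h1 : R (Cfsg.conjBy T (c * a⁻¹)) T := by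
    have h := hconj _ _ c (hconj _ _ t⁻¹ hR)
    rw [← hta, hct, conjBy_conjBy, conjBy_conjBy, mul_inv_cancel, conjBy_one] at h
    exact h
  obtain ⟨t₂, ht₂, ht₂1, hct₂⟩ := hCT.cond_left c⁻¹ (C.inv_mem hc) (by simpa using hc1)
  obtain ⟨a₂, ha₂, ha₂1, hta₂⟩ := hAT.cond_right t₂ ht₂ ht₂1
  have h2 : R (Cfsg.conjBy T (c⁻¹ * a₂⁻¹)) T := by
    have h := hconj _ _ c⁻¹ (hconj _ _ t₂⁻¹ hR)
    rw [← hta₂, hct₂, conjBy_conjBy, conjBy_conjBy, mul_inv_cancel, conjBy_one] at h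
    exact h
  have hca : c * a⁻¹ = a⁻¹ * c := (hcomm a⁻¹ (A.inv_mem ha) c hc).symm
  have hca' : c⁻¹ * a = a * c⁻¹ := (hcomm a ha c⁻¹ (C.inv_mem hc)).symm
  have h3 : R (Cfsg.conjBy T (a⁻¹ * a₂⁻¹)) T := by
    have h := hconj _ _ (c * a⁻¹) h2
    rw [conjBy_conjBy] at h
    have e : c * a⁻¹ * (c⁻¹ * a₂⁻¹) = a⁻¹ * a₂⁻¹ := by
      rw [hca]; group
    rw [e] at h
    exact htrans _ _ _ h h1
  have ha₂ : a₂⁻¹ = a := by
    by_contra hne
    have hx1 : a⁻¹ * a₂⁻¹ ≠ 1 := by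
      intro h
      apply hne
      calc a₂⁻¹ = a * (a⁻¹ * a₂⁻¹) := by group
        _ = a := by rw [h, mul_one]
    exact hro _ _ h3 (rankOne_conj_right hAT (A.mul_mem (A.inv_mem ha) (A.inv_mem ha₂)) hx1)
  rw [ha₂] at h2
  have h4 : R T (Cfsg.conjBy T (c * a⁻¹)) := by
    have h := hconj _ _ (c * a⁻¹) h2
    rw [conjBy_conjBy] at h
    have e : c * a⁻¹ * (c⁻¹ * a) = 1 := by
      rw [hca]; group
    rw [e, conjBy_one] at h
    exact h
  -- transfer back
  have e1 : Cfsg.conjBy T (c * a⁻¹) = Cfsg.conjBy A (c * t⁻¹) := by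
    rw [← conjBy_conjBy, hta, conjBy_conjBy]
  have e2 : T = Cfsg.conjBy C (c * t⁻¹) := by
    rw [← conjBy_conjBy, hct, conjBy_conjBy, mul_inv_cancel, conjBy_one]
  rw [e1] at h4
  nth_rewrite 1 [e2] at h4
  have h5 := hconj _ _ (c * t⁻¹)⁻¹ h4
  rw [conjBy_conjBy, conjBy_conjBy, inv_mul_cancel, conjBy_one, conjBy_one] at h5
  exact h5

end RootOrder
end Cfsg.Agent.Helper25
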