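import Mathlib
import Cfsg.Prelude.Def_RootSubgroups
import Cfsg.Agent.Lib.Helper25.ConjBy

set_option autoImplicit false

namespace Cfsg.Agent.Helper25
namespace RootTransfer

variable {G H : Type*} [Group G] [Group H]

theorem map_conjBy (ψ : G →* H) (A : Subgroup G) (g : G) :
    (Cfsg.conjBy A g).map ψ = Cfsg.conjBy (A.map ψ) (ψ g) := by
  ext y
  constructor
  · rintro ⟨x, ⟨a, ha, rfl⟩, rfl⟩
    refine ⟨ψ a, ⟨a, ha, rfl⟩, ?_⟩
    simp [MulAut.conj_apply]
  · rintro ⟨_, ⟨a, ha, rfl⟩, rfl⟩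
    refine ⟨g * a * g⁻¹, ⟨a, ha, by simp [MulAut.conj_apply]⟩, ?_⟩
    simp [MulAut.conj_apply]

/-- pull back the rank one condition along an injective homomorphism. -/
theorem rankOneCondition_of_map {ψ : G →* H} (hψ : Function.Injective ψ) {A B : Subgroup G}
    (h : Cfsg.RankOneCondition (A.map ψ) (B.map ψ)) : Cfsg.RankOneCondition A B := by
  intro a ha ha1
  have ha1' : ψ a ≠ 1 := by
    intro h1
    apply ha1
    apply hψ
    rw [h1, map_one]
  obtain ⟨b', ⟨b, hb, rfl⟩, hb1, hEq⟩ := h (ψ a) ⟨a, ha, rfl⟩ ha1'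
  refine ⟨b, hb, ?_, ?_⟩
  · rintro rfl
    exact hb1 (map_one ψ)
  · apply Subgroup.map_injective hψ
    rw [map_conjBy, map_conjBy, map_inv, map_inv]
    exact hEq

theorem rankOnePair_of_map {ψ : G →* H} (hψ : Function.Injective ψ) {A B : Subgroup G}
    (h : Cfsg.IsRankOnePair (A.map ψ) (B.map ψ)) : Cfsg.IsRankOnePair A B := by
  refine ⟨?_, ?_, ?_, rankOneCondition_of_map hψ h.cond_left, rankOneCondition_of_map hψ h.cond_right⟩
  · intro hAB
    exact h.ne (by rw [hAB])
  · haveI := h.nilpotent_left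
    exact Group.nilpotent_of_mulEquiv (A.equivMapOfInjective ψ hψ).symm
  · haveI := h.nilpotent_right
    exact Group.nilpotent_of_mulEquiv (B.equivMapOfInjective ψ hψ).symm

/-- pull back a `(P)SL₂` pair along an injective homomorphism. -/
theorem isPSL2_of_map {k : Type*} [Field k] {ψ : G →* H} (hψ : Function.Injective ψ)
    {A B : Subgroup G} (h : Cfsg.IsPSL2PairOver k (A.map ψ) (B.map ψ)) :
    Cfsg.IsPSL2PairOver k A B := by
  obtain ⟨φ, hrange, hker, hup, hlow⟩ := h
  have hle : ∀ M, φ M ∈ ψ.range := by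
    intro M
    have : φ M ∈ A.map ψ ⊔ B.map ψ := by rw [← hrange]; exact ⟨M, rfl⟩
    have hle' : A.map ψ ⊔ B.map ψ ≤ ψ.range := by
      apply sup_le
      · rintro _ ⟨a, _, rfl⟩; exact ⟨a, rfl⟩
      · rintro _ ⟨b, _, rfl⟩; exact ⟨b, rfl⟩
    exact hle' this
  let e := MonoidHom.ofInjective hψ
  let φ' : Matrix.SpecialLinearGroup (Fin 2) k →* G :=
    e.symm.toMonoidHom.comp (φ.codRestrict ψ.range hle)
  have hcomp : ∀ M, ψ (φ' M) = φ M := by
    intro M
    have : (e (φ' M) : H) = φ M := by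
      show (e (e.symm (φ.codRestrict ψ.range hle M)) : H) = φ M
      rw [MulEquiv.apply_symm_apply]
      rfl
    exact this
  have hcomp' : ψ.comp φ' = φ := MonoidHom.ext hcomp
  refine ⟨φ', ?_, ?_, ?_, ?_⟩
  · apply Subgroup.map_injective hψ
    rw [Subgroup.map_sup, ← hrange, MonoidHom.range_eq_map, MonoidHom.range_eq_map,
      Subgroup.map_map, hcomp']
  · intro M hM
    apply hker
    rw [MonoidHom.mem_ker] at hM ⊢
    rw [← hcomp, hM, map_one]
  · apply Subgroup.map_injective hψ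
    rw [Subgroup.map_map, hcomp', hup]
  · apply Subgroup.map_injective hψ
    rw [Subgroup.map_map, hcomp', hlow]

theorem commutator_eq_bot_of_map {ψ : G →* H} (hψ : Function.Injective ψ) {A B : Subgroup G}
    (h : ⁅A.map ψ, B.map ψ⁆ = ⊥) : ⁅A, B⁆ = ⊥ := by
  rw [← Subgroup.map_commutator] at h
  exact (Subgroup.map_eq_bot_iff_of_injective _ hψ).1 h

end RootTransfer
end Cfsg.Agent.Helper25
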