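import Mathlib
import Cfsg.Prelude.Def_RootSubgroups
import Cfsg.Agent.Lib.Helper25.RootTransfer
import Cfsg.Agent.Lib.Helper25.RootComm2
import Cfsg.Agent.Lib.Helper25.RootOrder
import Cfsg.Agent.S5035

set_option autoImplicit false

namespace Cfsg.Agent.Helper25
namespace RootSubOf

open scoped commutatorElement

variable {G H : Type*} [Group G] [Group H]

/-- pull back the commutator case along an injective homomorphism. -/
theorem commCase_of_map {ψ : G →* H} (hψ : Function.Injective ψ) {S' : Set (Subgroup G)}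
    {S : Set (Subgroup H)} (hS : ∀ X : Subgroup G, X.map ψ ∈ S → X ∈ S') {A B : Subgroup G}
    (h : Cfsg.RootCommutatorCase S (A.map ψ) (B.map ψ)) : Cfsg.RootCommutatorCase S' A B := by
  obtain ⟨h1, h2, h3, h4⟩ := h
  refine ⟨?_, ?_, ?_, ?_⟩
  · apply hS
    rw [Subgroup.map_commutator]
    exact h1
  · intro c hc x hx
    apply hψ
    rw [map_mul, map_mul]
    apply h2
    · rw [← Subgroup.map_commutator]
      exact ⟨c, hc, rfl⟩
    · rw [← Subgroup.map_sup]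
      exact ⟨x, hx, rfl⟩
  · intro a ha ha1
    apply Subgroup.map_injective hψ
    rw [Subgroup.map_commutator, ← h3 (ψ a) ⟨a, ha, rfl⟩
      (fun h => ha1 (hψ (by rw [h, map_one]))), MonoidHom.map_closure]
    congr 1
    ext y
    constructor
    · rintro ⟨_, ⟨b, hb, rfl⟩, rfl⟩
      exact ⟨ψ b, ⟨b, hb, rfl⟩, by simp⟩
    · rintro ⟨_, ⟨b, hb, rfl⟩, rfl⟩
      exact ⟨_, ⟨b, hb, rfl⟩, by simp⟩
  · intro b hb hb1
    apply Subgroup.map_injective hψ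
    rw [Subgroup.map_commutator, ← h4 (ψ b) ⟨b, hb, rfl⟩
      (fun h => hb1 (hψ (by rw [h, map_one]))), MonoidHom.map_closure]
    congr 1
    ext y
    constructor
    · rintro ⟨_, ⟨a, ha, rfl⟩, rfl⟩
      exact ⟨ψ a, ⟨a, ha, rfl⟩, by simp⟩
    · rintro ⟨_, ⟨a, ha, rfl⟩, rfl⟩
      exact ⟨_, ⟨a, ha, rfl⟩, by simp⟩

variable (Sg : Set (Subgroup G))

theorem le_gen {A : Subgroup G} (hA : A ∈ Sg) : A ≤ ⨆ B ∈ Sg, B :=
  le_iSup₂ (f := fun (B : Subgroup G) (_ : B ∈ Sg) => B) A hA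

theorem map_sub {A : Subgroup G} (hA : A ∈ Sg) :
    (A.subgroupOf (⨆ B ∈ Sg, B)).map (⨆ B ∈ Sg, B).subtype = A :=
  Subgroup.map_subgroupOf_eq_of_le (le_gen Sg hA)

theorem mem_res_iff {X : Subgroup ↥(⨆ B ∈ Sg, B)} :
    X ∈ (fun A : Subgroup G => A.subgroupOf (⨆ B ∈ Sg, B)) '' Sg ↔
      X.map (⨆ B ∈ Sg, B).subtype ∈ Sg := by
  constructor
  · rintro ⟨A, hA, rfl⟩
    rw [map_sub Sg hA]
    exact hA
  · intro h
    exact ⟨_, h, Subgroup.comap_map_eq_self_of_injective (Subgroup.subtype_injective _) X⟩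

theorem subtype_inj : Function.Injective ((⨆ B ∈ Sg, B).subtype) :=
  Subgroup.subtype_injective _

theorem res_generates :
    (⨆ X ∈ (fun A : Subgroup G => A.subgroupOf (⨆ B ∈ Sg, B)) '' Sg, X) = ⊤ := by
  rw [eq_top_iff]
  have hle : (⨆ B ∈ Sg, B) ≤
      (⨆ X ∈ (fun A : Subgroup G => A.subgroupOf (⨆ B ∈ Sg, B)) '' Sg, X).map
        (⨆ B ∈ Sg, B).subtype := by
    apply iSup₂_le
    intro B hB b hb
    have hb' : b ∈ ⨆ B ∈ Sg, B := le_gen Sg hB hb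
    refine ⟨⟨b, hb'⟩, ?_, rfl⟩
    have hle2 : B.subgroupOf (⨆ B ∈ Sg, B) ≤
        ⨆ X ∈ (fun A : Subgroup G => A.subgroupOf (⨆ B ∈ Sg, B)) '' Sg, X :=
      le_iSup₂ (f := fun (X : Subgroup ↥(⨆ B ∈ Sg, B))
        (_ : X ∈ (fun A : Subgroup G => A.subgroupOf (⨆ B ∈ Sg, B)) '' Sg) => X) _ ⟨B, hB, rfl⟩
    apply hle2
    rw [Subgroup.mem_subgroupOf]
    exact hb
  intro x _
  obtain ⟨y, hy, hyx⟩ := hle x.2
  have : y = x := Subtype.ext hyx
  rw [← this]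
  exact hy

/-- the restricted family is a set of root subgroups of the generated subgroup. -/
theorem rootSet
    (hcomm : ∀ A ∈ Sg, IsMulCommutative A) (hne : ∀ A ∈ Sg, A ≠ ⊥)
    (hconj : ∀ A ∈ Sg, ∀ g ∈ (⨆ B ∈ Sg, B), Cfsg.conjBy A g ∈ Sg)
    (hpair : ∀ A ∈ Sg, ∀ B ∈ Sg, ⁅A, B⁆ = ⊥ ∨ Cfsg.IsRankOnePair A B ∨
      Cfsg.RootCommutatorCase Sg A B) :
    Cfsg.IsRootSubgroupSet ((fun A : Subgroup G => A.subgroupOf (⨆ B ∈ Sg, B)) '' Sg) where
  commutative := by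
    rintro _ ⟨A, hA, rfl⟩
    have hc := hcomm A hA
    refine ⟨⟨?_⟩⟩
    rintro ⟨x, hx⟩ ⟨y, hy⟩
    have hx' : x.1 ∈ A := Subgroup.mem_subgroupOf.1 hx
    have hy' : y.1 ∈ A := Subgroup.mem_subgroupOf.1 hy
    apply Subtype.ext
    apply Subtype.ext
    have := hc.is_comm.comm (⟨x.1, hx'⟩ : A) ⟨y.1, hy'⟩
    exact congrArg (fun z : A => (z : G)) this
  ne_bot := by
    rintro _ ⟨A, hA, rfl⟩ h
    have h' : A.subgroupOf (⨆ B ∈ Sg, B) = ⊥ := h
    apply hne A hA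
    rw [← map_sub Sg hA, h', Subgroup.map_bot]
  generates := res_generates Sg
  conj_mem := by
    rintro _ ⟨A, hA, rfl⟩ g
    rw [mem_res_iff, RootTransfer.map_conjBy, map_sub Sg hA]
    exact hconj A hA _ g.2
  pair := by
    rintro _ ⟨A, hA, rfl⟩ _ ⟨B, hB, rfl⟩
    rcases hpair A hA B hB with h | h | h
    · left
      apply RootTransfer.commutator_eq_bot_of_map (subtype_inj Sg)
      rw [map_sub Sg hA, map_sub Sg hB]
      exact h
    · right; left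
      apply RootTransfer.rankOnePair_of_map (subtype_inj Sg)
      rw [map_sub Sg hA, map_sub Sg hB]
      exact h
    · right; right
      apply commCase_of_map (subtype_inj Sg) (S := Sg)
      · intro X hX
        exact (mem_res_iff Sg).2 hX
      · rw [map_sub Sg hA, map_sub Sg hB]
        exact h

/-- rank one pairs of the restricted family come from rank one pairs. -/
theorem rankOne_of_res {A B : Subgroup G} (hA : A ∈ Sg) (hB : B ∈ Sg)
    (h : Cfsg.IsRankOnePair (A.subgroupOf (⨆ B ∈ Sg, B)) (B.subgroupOf (⨆ B ∈ Sg, B))) :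
    Cfsg.IsRankOnePair A B := by
  rcases Cfsg.Agent.S5035.map_rankOne (⨆ B ∈ Sg, B).subtype h with h1 | h1
  · exact absurd (Subgroup.map_injective (subtype_inj Sg) h1) h.ne
  · rwa [map_sub Sg hA, map_sub Sg hB] at h1

theorem res_rankOne {A B : Subgroup G} (hA : A ∈ Sg) (hB : B ∈ Sg)
    (h : Cfsg.IsRankOnePair A B) :
    Cfsg.IsRankOnePair (A.subgroupOf (⨆ B ∈ Sg, B)) (B.subgroupOf (⨆ B ∈ Sg, B)) := by
  apply RootTransfer.rankOnePair_of_map (subtype_inj Sg)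
  rw [map_sub Sg hA, map_sub Sg hB]
  exact h

theorem kRoot (k : Type*) [Field k]
    (hS : Cfsg.IsRootSubgroupSet ((fun A : Subgroup G => A.subgroupOf (⨆ B ∈ Sg, B)) '' Sg))
    (hk : ∀ A ∈ Sg, ∀ B ∈ Sg, Cfsg.IsRankOnePair A B → Cfsg.IsPSL2PairOver k A B) :
    Cfsg.IsKRootSubgroupSet k ((fun A : Subgroup G => A.subgroupOf (⨆ B ∈ Sg, B)) '' Sg) := by
  refine ⟨hS, ?_⟩
  rintro _ ⟨A, hA, rfl⟩ _ ⟨B, hB, rfl⟩ hro
  apply RootTransfer.isPSL2_of_map (subtype_inj Sg)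
  rw [map_sub Sg hA, map_sub Sg hB]
  exact hk A hA B hB (rankOne_of_res Sg hA hB hro)

theorem connected (h : Cfsg.IsConnectedFamily (Cfsg.FAdj Sg) Sg) :
    Cfsg.IsConnectedFamily
      (Cfsg.FAdj ((fun A : Subgroup G => A.subgroupOf (⨆ B ∈ Sg, B)) '' Sg))
      ((fun A : Subgroup G => A.subgroupOf (⨆ B ∈ Sg, B)) '' Sg) := by
  rintro _ ⟨A, hA, rfl⟩ _ ⟨B, hB, rfl⟩
  refine Relation.ReflTransGen.lift (fun A : Subgroup G => A.subgroupOf (⨆ B ∈ Sg, B)) ?_ _ _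
    (h A hA B hB)
  rintro X Y ⟨hX, hY, hXY⟩
  exact ⟨⟨X, hX, rfl⟩, ⟨Y, hY, rfl⟩, res_rankOne Sg hX hY hXY⟩

/-- no commutator case when the pairs commute or have rank one. -/
theorem degenerate
    (hS : Cfsg.IsRootSubgroupSet ((fun A : Subgroup G => A.subgroupOf (⨆ B ∈ Sg, B)) '' Sg))
    (hpair : ∀ A ∈ Sg, ∀ B ∈ Sg, ⁅A, B⁆ = ⊥ ∨ Cfsg.IsRankOnePair A B) :
    Cfsg.IsDegenerateRootSet ((fun A : Subgroup G => A.subgroupOf (⨆ B ∈ Sg, B)) '' Sg) := by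
  rintro _ ⟨A, hA, rfl⟩ _ ⟨B, hB, rfl⟩ hcc
  rcases hpair A hA B hB with h | h
  · have h0 : ⁅A.subgroupOf (⨆ B ∈ Sg, B), B.subgroupOf (⨆ B ∈ Sg, B)⁆ = ⊥ := by
      apply RootTransfer.commutator_eq_bot_of_map (subtype_inj Sg)
      rw [map_sub Sg hA, map_sub Sg hB]
      exact h
    have := hcc.1
    rw [h0] at this
    exact hS.ne_bot _ this rfl
  · exact RootComm.comm_not_mem_of_rankOne hS ⟨A, hA, rfl⟩ ⟨B, hB, rfl⟩
      (res_rankOne Sg hA hB h) hcc.1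

/-- a variant of `kRoot` allowing the commutator case in the hypothesis. -/
theorem kRoot' (k : Type*) [Field k]
    (hS : Cfsg.IsRootSubgroupSet ((fun A : Subgroup G => A.subgroupOf (⨆ B ∈ Sg, B)) '' Sg))
    (hk : ∀ A ∈ Sg, ∀ B ∈ Sg, ⁅A, B⁆ = ⊥ ∨ Cfsg.IsPSL2PairOver k A B ∨
      Cfsg.RootCommutatorCase Sg A B) :
    Cfsg.IsKRootSubgroupSet k ((fun A : Subgroup G => A.subgroupOf (⨆ B ∈ Sg, B)) '' Sg) := by
  refine ⟨hS, ?_⟩
  rintro _ ⟨A, hA, rfl⟩ _ ⟨B, hB, rfl⟩ hro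
  rcases hk A hA B hB with h | h | h
  · exfalso
    apply RootOrder.not_commute_of_rankOne (rankOne_of_res Sg hA hB hro)
    intro a ha b hb
    have : ⁅a, b⁆ ∈ ⁅A, B⁆ := Subgroup.commutator_mem_commutator ha hb
    rw [h, Subgroup.mem_bot, commutatorElement_eq_one_iff_mul_comm] at this
    exact this
  · apply RootTransfer.isPSL2_of_map (subtype_inj Sg)
    rw [map_sub Sg hA, map_sub Sg hB]
    exact h
  · exfalso
    apply RootComm.comm_not_mem_of_rankOne hS ⟨A, hA, rfl⟩ ⟨B, hB, rfl⟩ hro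
    rw [mem_res_iff, Subgroup.map_commutator, map_sub Sg hA, map_sub Sg hB]
    exact h.1

/-- commutators in the generated subgroup. -/
theorem comm_sub {A B C : Subgroup G} (hA : A ∈ Sg) (hB : B ∈ Sg) (hC : C ∈ Sg)
    (h : ⁅A, B⁆ = C) :
    ⁅A.subgroupOf (⨆ B ∈ Sg, B), B.subgroupOf (⨆ B ∈ Sg, B)⁆ = C.subgroupOf (⨆ B ∈ Sg, B) := by
  apply Subgroup.map_injective (subtype_inj Sg)
  rw [Subgroup.map_commutator, map_sub Sg hA, map_sub Sg hB, map_sub Sg hC, h]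

/-- connectivity of the restricted family gives connectivity of the family. -/
theorem connected_of_res
    (h : Cfsg.IsConnectedFamily
      (Cfsg.FAdj ((fun A : Subgroup G => A.subgroupOf (⨆ B ∈ Sg, B)) '' Sg))
      ((fun A : Subgroup G => A.subgroupOf (⨆ B ∈ Sg, B)) '' Sg)) :
    Cfsg.IsConnectedFamily (Cfsg.FAdj Sg) Sg := by
  intro A hA B hB
  have h1 : Relation.ReflTransGen
      (Cfsg.FAdj ((fun A : Subgroup G => A.subgroupOf (⨆ B ∈ Sg, B)) '' Sg))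
      (A.subgroupOf (⨆ B ∈ Sg, B)) (B.subgroupOf (⨆ B ∈ Sg, B)) :=
    h _ ⟨A, hA, rfl⟩ _ ⟨B, hB, rfl⟩
  have h2 : Relation.ReflTransGen (Cfsg.FAdj Sg)
      ((A.subgroupOf (⨆ B ∈ Sg, B)).map (⨆ B ∈ Sg, B).subtype)
      ((B.subgroupOf (⨆ B ∈ Sg, B)).map (⨆ B ∈ Sg, B).subtype) := by
    refine Relation.ReflTransGen.lift
      (fun X : Subgroup ↥(⨆ B ∈ Sg, B) => X.map (⨆ B ∈ Sg, B).subtype) ?_ _ _ h1
    rintro X Y ⟨hX, hY, hXY⟩
    refine ⟨(mem_res_iff Sg).1 hX, (mem_res_iff Sg).1 hY, ?_⟩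
    rcases Cfsg.Agent.S5035.map_rankOne (⨆ B ∈ Sg, B).subtype hXY with h3 | h3
    · exact absurd (Subgroup.map_injective (subtype_inj Sg) h3) hXY.ne
    · exact h3
  rw [map_sub Sg hA, map_sub Sg hB] at h2
  exact h2

end RootSubOf
end Cfsg.Agent.Helper25
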