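import Mathlib
import Cfsg.Prelude.Def_RootSubgroups
import Cfsg.Agent.Lib.Helper25.OrthRoot7
import Cfsg.Agent.Lib.Helper25.RootSubOf
import Cfsg.Agent.S5032

set_option autoImplicit false

namespace Cfsg.Agent.Helper25
namespace OrthRoot

open Matrix
open scoped commutatorElement

variable {κ : Type} [Fintype κ] [DecidableEq κ] {F : Type*} [Field F]
variable {H : Subgroup (GL (κ ⊕ κ) F)}

theorem RO_mem_OSet {p r : κ ⊕ κ → F} (h : SLine p r) : RO H p r h ∈ OSet H := ⟨p, r, h, rfl⟩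

/-- the restricted family is a set of root subgroups. -/
theorem rootSet (hH : IsOrth H) :
    Cfsg.IsRootSubgroupSet
      ((fun A : Subgroup ↥H => A.subgroupOf (⨆ B ∈ OSet H, B)) '' OSet H) := by
  apply RootSubOf.rootSet
  · rintro A ⟨p, r, h, rfl⟩
    exact RO_comm h
  · rintro A ⟨p, r, h, rfl⟩
    exact RO_ne_bot hH h
  · rintro A ⟨p, r, h, rfl⟩ g _
    exact ⟨_, _, h.map hH g, conjBy_RO hH h g⟩
  · rintro A ⟨p₁, r₁, h₁, rfl⟩ B ⟨p₂, r₂, h₂, rfl⟩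
    rcases pair_cases hH h₁ h₂ with h | h | h
    · exact Or.inl h
    · exact Or.inr (Or.inl h.1)
    · exact Or.inr (Or.inr h)

theorem kRoot (hH : IsOrth H) :
    Cfsg.IsKRootSubgroupSet F
      ((fun A : Subgroup ↥H => A.subgroupOf (⨆ B ∈ OSet H, B)) '' OSet H) := by
  apply RootSubOf.kRoot' (OSet H) F (rootSet hH)
  rintro A ⟨p₁, r₁, h₁, rfl⟩ B ⟨p₂, r₂, h₂, rfl⟩
  rcases pair_cases hH h₁ h₂ with h | h | h
  · exact Or.inl h
  · exact Or.inr (Or.inl h.2)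
  · exact Or.inr (Or.inr h)

/-- every singular line has an opposite line. -/
theorem exists_opp {p r : κ ⊕ κ → F} (h : SLine p r) : ∃ a b : κ ⊕ κ → F, Opp p r a b := by
  obtain ⟨v₁, v₂, h1p, h1r, h2p, h2r⟩ := h.dual
  obtain ⟨a, ha⟩ : ∃ a, a = v₁ - Qf v₁ • p := ⟨_, rfl⟩
  have qa : Qf a = 0 := by
    rw [ha, Qf_sub, Qf_smul, h.hp, Bf_smul_right, h1p]; ring
  have pa : Bf p a = 1 := by
    rw [ha, Bf_sub_right, Bf_smul_right, h.hpp, Bf_symm, h1p]; ring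
  have ra : Bf r a = 0 := by
    rw [ha, Bf_sub_right, Bf_smul_right, h.hrp, Bf_symm, h1r]; ring
  obtain ⟨b₀, hb₀⟩ : ∃ b₀, b₀ = v₂ - Bf a v₂ • p := ⟨_, rfl⟩
  have rb₀ : Bf r b₀ = 1 := by
    rw [hb₀, Bf_sub_right, Bf_smul_right, h.hrp, Bf_symm, h2r]; ring
  have pb₀ : Bf p b₀ = 0 := by
    rw [hb₀, Bf_sub_right, Bf_smul_right, h.hpp, Bf_symm, h2p]; ring
  have ab₀ : Bf a b₀ = 0 := by
    rw [hb₀, Bf_sub_right, Bf_smul_right, Bf_symm a p, pa]; ring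
  obtain ⟨b, hb⟩ : ∃ b, b = b₀ - Qf b₀ • r := ⟨_, rfl⟩
  have qb : Qf b = 0 := by
    rw [hb, Qf_sub, Qf_smul, h.hr, Bf_smul_right, Bf_symm, rb₀]; ring
  have rb : Bf r b = 1 := by
    rw [hb, Bf_sub_right, Bf_smul_right, h.hrr, rb₀]; ring
  have pb : Bf p b = 0 := by
    rw [hb, Bf_sub_right, Bf_smul_right, h.hpr, pb₀]; ring
  have ab : Bf a b = 0 := by
    rw [hb, Bf_sub_right, Bf_smul_right, Bf_symm a r, ra, ab₀]; ring
  have hab : SLine a b := ⟨qa, qb, ab, p, r, pa, pb, ra, rb⟩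
  exact ⟨a, b, h, hab, pa, pb, ra, rb⟩

theorem exists_partner (hH : IsOrth H) {p r : κ ⊕ κ → F} (h : SLine p r) :
    ∃ D ∈ OSet H, Cfsg.IsRankOnePair (RO H p r h) D := by
  obtain ⟨a, b, O⟩ := exists_opp h
  exact ⟨_, RO_mem_OSet O.h₂, O.rankOne hH⟩

/-- connectivity inside the generated subgroup. -/
def Conn (H : Subgroup (GL (κ ⊕ κ) F)) (A B : Subgroup ↥H) : Prop :=
  Relation.ReflTransGen
    (Cfsg.FAdj ((fun A : Subgroup ↥H => A.subgroupOf (⨆ B ∈ OSet H, B)) '' OSet H))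
    (A.subgroupOf (⨆ B ∈ OSet H, B)) (B.subgroupOf (⨆ B ∈ OSet H, B))

theorem Conn.refl (A : Subgroup ↥H) : Conn H A A := Relation.ReflTransGen.refl

theorem Conn.symm {A B : Subgroup ↥H} (h : Conn H A B) : Conn H B A :=
  Cfsg.Agent.S5031.reach_symm h

theorem Conn.trans {A B C : Subgroup ↥H} (h : Conn H A B) (h' : Conn H B C) : Conn H A C :=
  Relation.ReflTransGen.trans h h'

theorem Conn.of_rankOne {A B : Subgroup ↥H} (hA : A ∈ OSet H) (hB : B ∈ OSet H)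
    (h : Cfsg.IsRankOnePair A B) : Conn H A B :=
  Relation.ReflTransGen.single ⟨⟨A, hA, rfl⟩, ⟨B, hB, rfl⟩, RootSubOf.res_rankOne (OSet H) hA hB h⟩

/-- the commutator of a special pair is connected to the first member. -/
theorem Conn.of_comm (hH : IsOrth H) {p₁ r₁ p₂ r₂ p₃ r₃ : κ ⊕ κ → F} (h₁ : SLine p₁ r₁)
    (h₂ : SLine p₂ r₂) (h₃ : SLine p₃ r₃)
    (hc : ⁅RO H p₁ r₁ h₁, RO H p₂ r₂ h₂⁆ = RO H p₃ r₃ h₃) :
    Conn H (RO H p₃ r₃ h₃) (RO H p₁ r₁ h₁) := by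
  obtain ⟨D, hD, hAD⟩ := exists_partner hH h₁
  obtain ⟨D', hD', hCD'⟩ := exists_partner hH h₃
  have e := RootSubOf.comm_sub (OSet H) (RO_mem_OSet h₁) (RO_mem_OSet h₂) (RO_mem_OSet h₃) hc
  have hAD' := RootSubOf.res_rankOne (OSet H) (RO_mem_OSet h₁) hD hAD
  have hCD'' := RootSubOf.res_rankOne (OSet H) (RO_mem_OSet h₃) hD' hCD'
  rw [← e] at hCD''
  have := Cfsg.Agent.S5032.reach_comm (rootSet hH) ⟨_, RO_mem_OSet h₁, rfl⟩
    ⟨_, RO_mem_OSet h₂, rfl⟩ ⟨_, hD, rfl⟩ ⟨_, hD', rfl⟩ hAD'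
    (by rw [e]; exact ⟨_, RO_mem_OSet h₃, rfl⟩) hCD''
  unfold Conn
  rw [← e]
  exact this

/-- a vector outside a line is detected by a vector perpendicular to the line. -/
theorem exists_perp {x y a : κ ⊕ κ → F} (h : SLine x y) (ha : ∀ s t : F, a ≠ s • x + t • y) :
    ∃ w, Bf w x = 0 ∧ Bf w y = 0 ∧ Bf w a = 1 := by
  by_contra hno
  push Not at hno
  obtain ⟨v₁, v₂, h1x, h1y, h2x, h2y⟩ := h.dual
  have hzero : ∀ w, Bf w x = 0 → Bf w y = 0 → Bf w a = 0 := by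
    intro w hwx hwy
    by_contra hwa
    apply hno ((Bf w a)⁻¹ • w)
    · rw [Bf_smul_left, hwx, mul_zero]
    · rw [Bf_smul_left, hwy, mul_zero]
    · rw [Bf_smul_left, inv_mul_cancel₀ hwa]
  apply ha (Bf v₁ a) (Bf v₂ a)
  apply eq_of_Bf_eq
  intro w
  have h3 := hzero (w - Bf w x • v₁ - Bf w y • v₂)
    (by rw [Bf_sub_left, Bf_sub_left, Bf_smul_left, Bf_smul_left, h1x, h2x]; ring)
    (by rw [Bf_sub_left, Bf_sub_left, Bf_smul_left, Bf_smul_left, h1y, h2y]; ring)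
  rw [Bf_sub_left, Bf_sub_left, Bf_smul_left, Bf_smul_left] at h3
  rw [Bf_add_right, Bf_smul_right, Bf_smul_right]
  linear_combination h3

/-- the coplanar rule: two lines through a point spanning a singular plane are connected. -/
theorem conn_coplanar (hH : IsOrth H) {x a y : κ ⊕ κ → F} (hxa : SLine x a) (hxy : SLine x y)
    (hay : Bf a y = 0) (hnot : ∀ s t : F, a ≠ s • x + t • y) :
    Conn H (RO H x a hxa) (RO H x y hxy) := by
  obtain ⟨w, hwx, hwy, hwa⟩ := exists_perp hxy hnot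
  obtain ⟨v₁, v₂, h1x, h1y, h2x, h2y⟩ := hxy.dual
  obtain ⟨b, hb⟩ : ∃ b, b = w - Qf w • a := ⟨_, rfl⟩
  have qb : Qf b = 0 := by
    rw [hb, Qf_sub, Qf_smul, hxa.hr, Bf_smul_right, hwa]; ring
  have xb : Bf x b = 0 := by
    rw [hb, Bf_sub_right, Bf_smul_right, hxa.hpr, Bf_symm, hwx]; ring
  have yb : Bf y b = 0 := by
    rw [hb, Bf_sub_right, Bf_smul_right, Bf_symm y a, hay, Bf_symm, hwy]; ring
  have ab : Bf a b = 1 := by
    rw [hb, Bf_sub_right, Bf_smul_right, hxa.hrr, Bf_symm, hwa]; ring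
  have hyb : SLine y b := by
    refine ⟨hxy.hr, qb, yb, v₂ - Bf v₂ b • a, a, ?_, ?_, hay, ab⟩
    · rw [Bf_sub_left, Bf_smul_left, hay, h2y]; ring
    · rw [Bf_sub_left, Bf_smul_left, ab]; ring
  have R : Rank1 x a y b := ⟨hxa, hyb, hxy.hpr, xb, hay, ab⟩
  exact (Conn.of_comm hH hxa hyb hxy (R.comm_eq hH hxy)).symm

end OrthRoot
end Cfsg.Agent.Helper25
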