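import Mathlib
import Cfsg.Prelude.Def_RootSubgroups
import Cfsg.Agent.Lib.Helper25.OrthRoot8

set_option autoImplicit false

namespace Cfsg.Agent.Helper25
namespace OrthRoot

open Matrix

variable {κ : Type} [Fintype κ] [DecidableEq κ] {F : Type*} [Field F]

/-- two linear conditions in at least three unknowns have a non-zero solution. -/
theorem exists_two_conditions (hκ : 3 ≤ Fintype.card κ) (α β : κ → F) :
    ∃ t : κ → F, t ≠ 0 ∧ α ⬝ᵥ t = 0 ∧ β ⬝ᵥ t = 0 := by
  have hlt : Module.finrank F (Fin 2 → F) < Module.finrank F (κ → F) := by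
    rw [Module.finrank_fin_fun, Module.finrank_fintype_fun_eq_card]
    omega
  have hker := LinearMap.ker_ne_bot_of_finrank_lt (f := Matrix.mulVecLin (Matrix.of ![α, β])) hlt
  obtain ⟨t, ht, ht0⟩ := (Submodule.ne_bot_iff _).1 hker
  rw [LinearMap.mem_ker, Matrix.mulVecLin_apply] at ht
  refine ⟨t, ht0, ?_, ?_⟩
  · have := congrFun ht 0
    exact this
  · have := congrFun ht 1
    exact this

/-- a vector of the first standard maximal singular subspace. -/
def eL (t : κ → F) : κ ⊕ κ → F := Sum.elim t 0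

theorem eL_inl (t : κ → F) (i : κ) : eL t (Sum.inl i) = t i := rfl
theorem eL_inr (t : κ → F) (i : κ) : eL t (Sum.inr i) = 0 := rfl

theorem Qf_eL (t : κ → F) : Qf (eL t) = 0 := by
  unfold Qf
  simp [eL_inr]

theorem Bf_eL (t : κ → F) (u : κ ⊕ κ → F) : Bf (eL t) u = (fun i => u (Sum.inr i)) ⬝ᵥ t := by
  rw [Bf_eq]
  unfold dotProduct
  apply Finset.sum_congr rfl
  intro i _
  rw [eL_inl, eL_inr]
  ring

theorem Bf_eL_eL (t t' : κ → F) : Bf (eL t) (eL t') = 0 := by
  rw [Bf_eL]
  unfold dotProduct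
  simp [eL_inr]

theorem eL_ne_zero {t : κ → F} (ht : t ≠ 0) : eL t ≠ 0 := by
  obtain ⟨i, hi⟩ := Function.ne_iff.1 ht
  intro h
  apply hi
  have := congrFun h (Sum.inl i)
  exact this

theorem single_dot (i : κ) (t : κ → F) : (Pi.single i (1 : F) : κ → F) ⬝ᵥ t = t i := by
  rw [single_dotProduct, one_mul]

/-- a singular line with a vector in the standard subspace lies in a singular plane. -/
theorem plane_aux (hκ : 3 ≤ Fintype.card κ) {t₁ : κ → F} (ht₁ : t₁ ≠ 0) {d : κ ⊕ κ → F}
    (hind : ∀ s t : F, s • eL t₁ + t • d = 0 → s = 0 ∧ t = 0) :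
    ∃ y, Qf y = 0 ∧ Bf y (eL t₁) = 0 ∧ Bf y d = 0 ∧ ∀ s t : F, y ≠ s • eL t₁ + t • d := by
  obtain ⟨i₀, hi₀⟩ := Function.ne_iff.1 ht₁
  simp only [Pi.zero_apply] at hi₀
  obtain ⟨t₂, ht₂, h2d, h2i⟩ := exists_two_conditions hκ (fun i => d (Sum.inr i))
    (Pi.single i₀ (1 : F))
  rw [single_dot] at h2i
  by_cases hy : ∀ s t : F, eL t₂ ≠ s • eL t₁ + t • d
  · exact ⟨eL t₂, Qf_eL t₂, Bf_eL_eL _ _, by rw [Bf_eL]; exact h2d, hy⟩
  · push Not at hy
    obtain ⟨s', t', hst⟩ := hy
    have ht' : t' ≠ 0 := by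
      rintro rfl
      rw [zero_smul, add_zero] at hst
      have h1 := congrFun hst (Sum.inl i₀)
      rw [eL_inl, h2i, Pi.smul_apply, eL_inl, smul_eq_mul] at h1
      have hs' : s' = 0 := by
        rcases mul_eq_zero.1 h1.symm with h | h
        · exact h
        · exact absurd h hi₀
      rw [hs', zero_smul] at hst
      exact eL_ne_zero ht₂ hst
    -- d lies in the standard subspace
    have hd : ∀ i, d (Sum.inr i) = 0 := by
      intro i
      have h1 := congrFun hst (Sum.inr i)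
      rw [eL_inr, Pi.add_apply, Pi.smul_apply, Pi.smul_apply, eL_inr, smul_eq_mul, smul_eq_mul,
        mul_zero, zero_add] at h1
      rcases mul_eq_zero.1 h1.symm with h | h
      · exact absurd h ht'
      · exact h
    have hdE : d = eL (fun i => d (Sum.inl i)) := by
      ext j
      rcases j with i | i
      · rfl
      · rw [hd i]; rfl
    -- a non-vanishing minor
    have hminor : ∃ i₁, t₁ i₀ * d (Sum.inl i₁) - t₁ i₁ * d (Sum.inl i₀) ≠ 0 := by
      by_contra hno
      push Not at hno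
      have := hind (-(d (Sum.inl i₀))) (t₁ i₀) (by
        ext j
        rcases j with i | i
        · simp only [Pi.add_apply, Pi.smul_apply, eL_inl, smul_eq_mul, Pi.zero_apply]
          linear_combination hno i
        · simp only [Pi.add_apply, Pi.smul_apply, eL_inr, smul_eq_mul, Pi.zero_apply, hd i]
          ring)
      exact hi₀ this.2
    obtain ⟨i₁, hi₁⟩ := hminor
    obtain ⟨t₄, ht₄, h4a, h4b⟩ := exists_two_conditions hκ (Pi.single i₀ (1 : F))
      (Pi.single i₁ (1 : F))
    rw [single_dot] at h4a h4b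
    refine ⟨eL t₄, Qf_eL t₄, Bf_eL_eL _ _, by rw [hdE]; exact Bf_eL_eL _ _, ?_⟩
    intro s t hE
    have e0 := congrFun hE (Sum.inl i₀)
    have e1 := congrFun hE (Sum.inl i₁)
    simp only [Pi.add_apply, Pi.smul_apply, eL_inl, smul_eq_mul, h4a, h4b] at e0 e1
    have ht : t = 0 := by
      have : (t₁ i₀ * d (Sum.inl i₁) - t₁ i₁ * d (Sum.inl i₀)) * t = 0 := by
        linear_combination t₁ i₁ * e0 - t₁ i₀ * e1
      rcases mul_eq_zero.1 this with h | h
      · exact absurd h hi₁
      · exact h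
    have hs : s = 0 := by
      rw [ht, zero_mul, add_zero] at e0
      rcases mul_eq_zero.1 e0.symm with h | h
      · exact h
      · exact absurd h hi₀
    rw [hs, ht, zero_smul, zero_smul, add_zero] at hE
    exact eL_ne_zero ht₄ hE

/-- every singular line lies in a singular plane. -/
theorem exists_plane (hκ : 3 ≤ Fintype.card κ) {x a : κ ⊕ κ → F} (h : SLine x a) :
    ∃ y, Qf y = 0 ∧ Bf y x = 0 ∧ Bf y a = 0 ∧ ∀ s t : F, y ≠ s • x + t • a := by
  obtain ⟨t₁, ht₁, h1x, h1a⟩ := exists_two_conditions hκ (fun i => x (Sum.inr i))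
    (fun i => a (Sum.inr i))
  by_cases hc : ∀ s t : F, eL t₁ ≠ s • x + t • a
  · exact ⟨eL t₁, Qf_eL t₁, by rw [Bf_eL]; exact h1x, by rw [Bf_eL]; exact h1a, hc⟩
  · push Not at hc
    obtain ⟨s₀, t₀, hst⟩ := hc
    by_cases ht₀ : t₀ = 0
    · rw [ht₀, zero_smul, add_zero] at hst
      have hs₀ : s₀ ≠ 0 := by
        rintro rfl
        rw [zero_smul] at hst
        exact eL_ne_zero ht₁ hst
      have hx : x = s₀⁻¹ • eL t₁ := by
        rw [hst, smul_smul, inv_mul_cancel₀ hs₀, one_smul]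
      have hind : ∀ s t : F, s • eL t₁ + t • a = 0 → s = 0 ∧ t = 0 := by
        intro s t hE
        rw [hst, smul_smul] at hE
        obtain ⟨h1, h2⟩ := h.indep _ _ hE
        refine ⟨?_, h2⟩
        rcases mul_eq_zero.1 h1 with h3 | h3
        · exact h3
        · exact absurd h3 hs₀
      obtain ⟨y, hy1, hy2, hy3, hy4⟩ := plane_aux hκ ht₁ hind
      refine ⟨y, hy1, by rw [hx, Bf_smul_right, hy2, mul_zero], hy3, ?_⟩
      intro s t hE
      apply hy4 (s * s₀⁻¹) t
      rw [hE, hx, smul_smul]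
    · have ha : a = t₀⁻¹ • (eL t₁ - s₀ • x) := by
        rw [hst, add_sub_cancel_left, smul_smul, inv_mul_cancel₀ ht₀, one_smul]
      have hind : ∀ s t : F, s • eL t₁ + t • x = 0 → s = 0 ∧ t = 0 := by
        intro s t hE
        rw [hst, smul_add, smul_smul, smul_smul] at hE
        have hE' : (s * s₀ + t) • x + (s * t₀) • a = 0 := by
          rw [add_smul, ← hE]; abel
        obtain ⟨h1, h2⟩ := h.indep _ _ hE'
        have hs : s = 0 := by
          rcases mul_eq_zero.1 h2 with h3 | h3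
          · exact h3
          · exact absurd h3 ht₀
        rw [hs, zero_mul, zero_add] at h1
        exact ⟨hs, h1⟩
      obtain ⟨y, hy1, hy2, hy3, hy4⟩ := plane_aux hκ ht₁ hind
      refine ⟨y, hy1, hy3, ?_, ?_⟩
      · rw [ha, Bf_smul_right, Bf_sub_right, Bf_smul_right, hy2, hy3]; ring
      · intro s t hE
        apply hy4 (t * t₀⁻¹) (s - t * t₀⁻¹ * s₀)
        rw [hE, ha]
        module

end OrthRoot
end Cfsg.Agent.Helper25
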