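import Mathlib
import Cfsg.Prelude.Def_RootSubgroups
import Cfsg.Agent.Lib.Helper25.OrthRoot9

set_option autoImplicit false

namespace Cfsg.Agent.Helper25
namespace OrthRoot

open Matrix

variable {κ : Type} [Fintype κ] [DecidableEq κ] {F : Type*} [Field F]
variable {H : Subgroup (GL (κ ⊕ κ) F)}

theorem span_contra {x a y : κ ⊕ κ → F} (hy : ∀ s t : F, y ≠ s • x + t • a) {u v w : F}
    (h : u • x + v • a + w • y = 0) : w = 0 := by
  by_contra hw
  apply hy (-(w⁻¹ * u)) (-(w⁻¹ * v))
  have h1 : w • y = -(u • x + v • a) := eq_neg_of_add_eq_zero_right h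
  have h2 : y = w⁻¹ • (w • y) := by rw [smul_smul, inv_mul_cancel₀ hw, one_smul]
  rw [h2, h1]
  module

/-- a singular line from independent perpendicular singular vectors. -/
theorem SLine.of_indep {x c : κ ⊕ κ → F} (hx : Qf x = 0) (hc : Qf c = 0) (hxc : Bf x c = 0)
    (hind : ∀ s t : F, s • x + t • c = 0 → s = 0 ∧ t = 0) : SLine x c := by
  have hind' : ∀ s t : F, s • c + t • x = 0 → s = 0 ∧ t = 0 := by
    intro s t hst
    rw [add_comm] at hst
    exact (hind t s hst).symm
  obtain ⟨v₁, h1, h2⟩ := exists_dual hind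
  obtain ⟨v₂, h3, h4⟩ := exists_dual hind'
  exact ⟨hx, hc, hxc, v₁, v₂, h1, h2, h4, h3⟩

/-- two singular lines through a common point are connected. -/
theorem conn_concurrent (hκ : 3 ≤ Fintype.card κ) (hH : IsOrth H) {x a b : κ ⊕ κ → F}
    (hxa : SLine x a) (hxb : SLine x b) : Conn H (RO H x a hxa) (RO H x b hxb) := by
  by_cases hab : Bf a b = 0
  · by_cases hmem : ∃ s t : F, b = s • x + t • a
    · obtain ⟨s, t, hb⟩ := hmem
      have ht : t ≠ 0 := by
        rintro rfl
        rw [zero_smul, add_zero] at hb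
        have := (hxb.indep s (-1) (by rw [hb]; module)).2
        exact one_ne_zero (neg_eq_zero.1 this)
      have e : RO H x a hxa = RO H x b hxb := by
        apply RO_congr hH
        intro v
        constructor
        · rintro ⟨h1, h2⟩
          exact ⟨h1, by rw [hb, Bf_add_right, Bf_smul_right, Bf_smul_right, h1, h2]; ring⟩
        · rintro ⟨h1, h2⟩
          refine ⟨h1, ?_⟩
          rw [hb, Bf_add_right, Bf_smul_right, Bf_smul_right, h1, mul_zero, zero_add] at h2
          rcases mul_eq_zero.1 h2 with h3 | h3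
          · exact absurd h3 ht
          · exact h3
      rw [e]
      exact Conn.refl _
    · push Not at hmem
      have hba : Bf b a = 0 := by rw [Bf_symm]; exact hab
      exact (conn_coplanar hH hxb hxa hba hmem).symm
  · obtain ⟨y, hy1, hy2, hy3, hy4⟩ := exists_plane hκ hxa
    have hay : Bf a y = 0 := by rw [Bf_symm]; exact hy3
    have hxy : Bf x y = 0 := by rw [Bf_symm]; exact hy2
    have hba : Bf b a ≠ 0 := by rw [Bf_symm]; exact hab
    obtain ⟨c, hc⟩ : ∃ c, c = Bf b y • a - Bf b a • y := ⟨_, rfl⟩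
    have qc : Qf c = 0 := by
      rw [hc, Qf_sub, Qf_smul, Qf_smul, hxa.hr, hy1, Bf_smul_left, Bf_smul_right, hay]; ring
    have xc : Bf x c = 0 := by
      rw [hc, Bf_sub_right, Bf_smul_right, Bf_smul_right, hxa.hpr, hxy]; ring
    have ac : Bf a c = 0 := by
      rw [hc, Bf_sub_right, Bf_smul_right, Bf_smul_right, hxa.hrr, hay]; ring
    have cb : Bf c b = 0 := by
      rw [hc, Bf_sub_left, Bf_smul_left, Bf_smul_left, Bf_symm a b, Bf_symm y b]; ring
    have hind : ∀ s t : F, s • x + t • c = 0 → s = 0 ∧ t = 0 := by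
      intro s t hst
      have h1 : s • x + (t * Bf b y) • a + (-(t * Bf b a)) • y = 0 := by
        rw [← hst, hc]; module
      have h2 := span_contra hy4 h1
      have ht : t = 0 := by
        rcases mul_eq_zero.1 (neg_eq_zero.1 h2) with h3 | h3
        · exact h3
        · exact absurd h3 hba
      rw [ht, zero_smul, add_zero] at hst
      rcases smul_eq_zero.1 hst with h3 | h3
      · exact ⟨h3, ht⟩
      · exact absurd h3 hxa.p_ne_zero
    have hxc : SLine x c := SLine.of_indep hxa.hp qc xc hind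
    have notA : ∀ s t : F, a ≠ s • x + t • c := by
      intro s t hE
      have h1 : s • x + (t * Bf b y - 1) • a + (-(t * Bf b a)) • y = 0 := by
        have : s • x + t • c - a = 0 := by rw [← hE, sub_self]
        rw [← this, hc]; module
      have h2 := span_contra hy4 h1
      have ht : t = 0 := by
        rcases mul_eq_zero.1 (neg_eq_zero.1 h2) with h3 | h3
        · exact h3
        · exact absurd h3 hba
      rw [ht, zero_smul, add_zero] at hE
      have := (hxa.indep s (-1) (by rw [hE]; module)).2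
      exact one_ne_zero (neg_eq_zero.1 this)
    have notC : ∀ s t : F, c ≠ s • x + t • b := by
      intro s t hE
      have h0 : Bf a c = t * Bf a b := by
        rw [hE, Bf_add_right, Bf_smul_right, Bf_smul_right, hxa.hrp]; ring
      rw [ac] at h0
      have ht : t = 0 := by
        rcases mul_eq_zero.1 h0.symm with h3 | h3
        · exact h3
        · exact absurd h3 hab
      rw [ht, zero_smul, add_zero] at hE
      have h1 : (-s) • x + Bf b y • a + (-(Bf b a)) • y = 0 := by
        have : c - s • x = 0 := by rw [hE, sub_self]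
        rw [← this, hc]; module
      exact hba (neg_eq_zero.1 (span_contra hy4 h1))
    exact (conn_coplanar hH hxa hxc ac notA).trans (conn_coplanar hH hxc hxb cb notC)

/-- any two Siegel root groups are connected. -/
theorem conn_all (hκ : 3 ≤ Fintype.card κ) (hH : IsOrth H) {p₁ r₁ p₂ r₂ : κ ⊕ κ → F}
    (h₁ : SLine p₁ r₁) (h₂ : SLine p₂ r₂) :
    Conn H (RO H p₁ r₁ h₁) (RO H p₂ r₂ h₂) := by
  by_cases hB : Bf p₁ p₂ = 0
  · by_cases hdep : ∃ l : F, p₂ = l • p₁
    · obtain ⟨l, hl⟩ := hdep
      have hl0 : l ≠ 0 := by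
        rintro rfl
        rw [zero_smul] at hl
        exact h₂.p_ne_zero hl
      have d : l⁻¹ * 1 - 0 * 0 ≠ 0 := by simp [hl0]
      have h₂' := h₂.gl d
      have e1 : l⁻¹ • p₂ + (0 : F) • r₂ = p₁ := by
        rw [hl, smul_smul, inv_mul_cancel₀ hl0, one_smul, zero_smul, add_zero]
      have e2 : (0 : F) • p₂ + (1 : F) • r₂ = r₂ := by
        rw [zero_smul, one_smul, zero_add]
      have h₃ : SLine p₁ r₂ := by
        rw [e1, e2] at h₂'
        exact h₂'
      have e3 : RO H p₁ r₂ h₃ = RO H p₂ r₂ h₂ := by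
        apply RO_congr hH
        intro v
        rw [hl, Bf_smul_right]
        constructor
        · rintro ⟨k1, k2⟩
          exact ⟨by rw [k1, mul_zero], k2⟩
        · rintro ⟨k1, k2⟩
          refine ⟨?_, k2⟩
          rcases mul_eq_zero.1 k1 with k3 | k3
          · exact absurd k3 hl0
          · exact k3
      rw [← e3]
      exact conn_concurrent hκ hH h₁ h₃
    · push Not at hdep
      have hind : ∀ s t : F, s • p₁ + t • p₂ = 0 → s = 0 ∧ t = 0 := by
        intro s t hst
        have ht : t = 0 := by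
          by_contra ht
          apply hdep (-(t⁻¹ * s))
          have h1 : t • p₂ = -(s • p₁) := eq_neg_of_add_eq_zero_right hst
          have h2 : p₂ = t⁻¹ • (t • p₂) := by rw [smul_smul, inv_mul_cancel₀ ht, one_smul]
          rw [h2, h1]; module
        rw [ht, zero_smul, add_zero] at hst
        rcases smul_eq_zero.1 hst with h3 | h3
        · exact ⟨h3, ht⟩
        · exact absurd h3 h₁.p_ne_zero
      have h₁₂ : SLine p₁ p₂ := SLine.of_indep h₁.hp h₂.hp hB hind
      have c1 := conn_concurrent hκ hH h₁ h₁₂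
      have c2 := conn_concurrent hκ hH h₁₂.symm h₂
      rw [RO_swap hH h₁₂] at c2
      exact c1.trans c2
  · obtain ⟨z, hz⟩ : ∃ z, z = r₁ - (Bf r₁ p₂ / Bf p₁ p₂) • p₁ := ⟨_, rfl⟩
    have qz : Qf z = 0 := by
      rw [hz, Qf_sub, Qf_smul, h₁.hp, h₁.hr, Bf_smul_right, h₁.hrp]; ring
    have p₁z : Bf p₁ z = 0 := by
      rw [hz, Bf_sub_right, Bf_smul_right, h₁.hpr, h₁.hpp]; ring
    have zp₂ : Bf z p₂ = 0 := by
      rw [hz, Bf_sub_left, Bf_smul_left, div_mul_cancel₀ _ hB, sub_self]
    have hind1 : ∀ s t : F, s • p₁ + t • z = 0 → s = 0 ∧ t = 0 := by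
      intro s t hst
      have h1 : (s - t * (Bf r₁ p₂ / Bf p₁ p₂)) • p₁ + t • r₁ = 0 := by
        rw [← hst, hz]; module
      obtain ⟨h2, h3⟩ := h₁.indep _ _ h1
      rw [h3, zero_mul, sub_zero] at h2
      exact ⟨h2, h3⟩
    have hz0 : z ≠ 0 := by
      rintro rfl
      have := (hind1 0 1 (by simp)).2
      exact one_ne_zero this
    have hind2 : ∀ s t : F, s • z + t • p₂ = 0 → s = 0 ∧ t = 0 := by
      intro s t hst
      have h1 := congrArg (Bf p₁) hst
      rw [Bf_add_right, Bf_smul_right, Bf_smul_right, p₁z, Bf_zero_right, mul_zero, zero_add] at h1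
      have ht : t = 0 := by
        rcases mul_eq_zero.1 h1 with h3 | h3
        · exact h3
        · exact absurd h3 hB
      rw [ht, zero_smul, add_zero] at hst
      rcases smul_eq_zero.1 hst with h3 | h3
      · exact ⟨h3, ht⟩
      · exact absurd h3 hz0
    have h₁z : SLine p₁ z := SLine.of_indep h₁.hp qz p₁z hind1
    have hzp₂ : SLine z p₂ := SLine.of_indep qz h₂.hp zp₂ hind2
    have c1 := conn_concurrent hκ hH h₁ h₁z
    have c2 := conn_concurrent hκ hH h₁z.symm hzp₂
    have c3 := conn_concurrent hκ hH hzp₂.symm h₂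
    rw [RO_swap hH h₁z] at c2
    rw [RO_swap hH hzp₂] at c3
    exact (c1.trans c2).trans c3

/-- the main theorem in the abstract setting. -/
theorem main (hκ : 3 ≤ Fintype.card κ) (hH : IsOrth H) :
    Cfsg.IsKRootSubgroupSet F
      ((fun A : Subgroup ↥H => A.subgroupOf (⨆ B ∈ OSet H, B)) '' OSet H) ∧
    Cfsg.IsConnectedFamily (Cfsg.FAdj (OSet H)) (OSet H) := by
  refine ⟨kRoot hH, ?_⟩
  apply RootSubOf.connected_of_res
  rintro _ ⟨A, ⟨p₁, r₁, h₁, rfl⟩, rfl⟩ _ ⟨B, ⟨p₂, r₂, h₂, rfl⟩, rfl⟩
  exact conn_all hκ hH h₁ h₂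

end OrthRoot
end Cfsg.Agent.Helper25
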