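import Mathlib
import Cfsg.Agent.Lib.Helper28.PAQuot
import Cfsg.Agent.Lib.Helper28.PAGen
import Cfsg.Agent.Lib.Helper18.SylAbSL

/-!
# S4613 piece PA-PSL: common definitions (helper25)

`papsl_QA r` : the elements of `SL_n(F)` whose rows `a ≠ r` are those of the identity matrix
(`= 1 + e_r vᵀ`, `v_r = 0`): for `r` the last index this is the unipotent radical of the maximal parabolic
`[[A,0],[*,d]]`, contained in the lower unitriangular group.

`papsl_QB r` : the elements of `SL_n(F)` whose columns `b ≠ r` are those of the identity matrix: for `r = 0`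
this is the unipotent radical of the maximal parabolic `[[d,0],[*,A]]`.
-/

set_option autoImplicit false
set_option linter.unusedSectionVars false
set_option linter.unusedVariables false

namespace Cfsg.Agent.Helper28.PA

open Matrix

section papsl

variable {F : Type*} [Field F] {n : ℕ}

/-- matrices whose rows `a ≠ r` are identity rows -/
def papsl_RowP (r : Fin n) (M : Matrix (Fin n) (Fin n) F) : Prop :=
  ∀ a, a ≠ r → ∀ b, M a b = (1 : Matrix (Fin n) (Fin n) F) a b

/-- matrices whose columns `b ≠ r` are identity columns -/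
def papsl_ColP (r : Fin n) (M : Matrix (Fin n) (Fin n) F) : Prop :=
  ∀ b, b ≠ r → ∀ a, M a b = (1 : Matrix (Fin n) (Fin n) F) a b

theorem papsl_rowP_one (r : Fin n) : papsl_RowP r (1 : Matrix (Fin n) (Fin n) F) :=
  fun _ _ _ => rfl

theorem papsl_colP_one (r : Fin n) : papsl_ColP r (1 : Matrix (Fin n) (Fin n) F) :=
  fun _ _ _ => rfl

/-- a row vector with zero `r`-th entry is fixed by a `RowP` matrix -/
theorem papsl_rowP_vecMul {r : Fin n} {M : Matrix (Fin n) (Fin n) F} (hM : papsl_RowP r M)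
    (v : Fin n → F) (hv : v r = 0) : v ᵥ* M = v := by
  funext c
  have h1 : (v ᵥ* M) c = (v ᵥ* (1 : Matrix (Fin n) (Fin n) F)) c := by
    simp only [Matrix.vecMul, dotProduct]
    apply Finset.sum_congr rfl
    intro b _
    by_cases hb : b = r
    · subst hb
      rw [hv, zero_mul, zero_mul]
    · rw [hM b hb c]
  rw [h1, Matrix.vecMul_one]

/-- a column vector with zero `r`-th entry is fixed by a `ColP` matrix -/
theorem papsl_colP_mulVec {r : Fin n} {M : Matrix (Fin n) (Fin n) F} (hM : papsl_ColP r M)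
    (v : Fin n → F) (hv : v r = 0) : M *ᵥ v = v := by
  funext c
  have h1 : (M *ᵥ v) c = ((1 : Matrix (Fin n) (Fin n) F) *ᵥ v) c := by
    simp only [Matrix.mulVec, dotProduct]
    apply Finset.sum_congr rfl
    intro b _
    by_cases hb : b = r
    · subst hb
      rw [hv, mul_zero, mul_zero]
    · rw [hM b hb c]
  rw [h1, Matrix.one_mulVec]

theorem papsl_rowP_mul {r : Fin n} {M N : Matrix (Fin n) (Fin n) F} (hM : papsl_RowP r M)
    (hN : papsl_RowP r N) : papsl_RowP r (M * N) := by
  intro a ha b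
  have h1 : (M * N) a = M a ᵥ* N := Matrix.mul_apply_eq_vecMul M N a
  have h2 : M a = (1 : Matrix (Fin n) (Fin n) F) a := funext (hM a ha)
  have h3 : (1 : Matrix (Fin n) (Fin n) F) a r = 0 := Matrix.one_apply_ne ha
  rw [h1, h2, papsl_rowP_vecMul hN _ h3]

/-- the column `b` of a product -/
theorem papsl_col_mul (M N : Matrix (Fin n) (Fin n) F) (b : Fin n) :
    (fun a => (M * N) a b) = M *ᵥ (fun a => N a b) := by
  funext a
  simp only [Matrix.mul_apply, Matrix.mulVec, dotProduct]

theorem papsl_colP_mul {r : Fin n} {M N : Matrix (Fin n) (Fin n) F} (hM : papsl_ColP r M)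
    (hN : papsl_ColP r N) : papsl_ColP r (M * N) := by
  intro b hb a
  have h1 : (fun a => (M * N) a b) = M *ᵥ (fun a => N a b) := papsl_col_mul M N b
  have h2 : (fun a => N a b) = (fun a => (1 : Matrix (Fin n) (Fin n) F) a b) := funext (hN b hb)
  have h3 : (1 : Matrix (Fin n) (Fin n) F) r b = 0 := Matrix.one_apply_ne (Ne.symm hb)
  have h4 : (M * N) a b = (M *ᵥ (fun a => N a b)) a := congrFun h1 a
  rw [h4, h2, papsl_colP_mulVec hM _ h3]

variable [Fintype F]

/-- the subgroup of `SL_n(F)` with identity rows outside `r` -/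
def papsl_QA (F : Type*) [Field F] [Fintype F] {n : ℕ} (r : Fin n) :
    Subgroup (Matrix.SpecialLinearGroup (Fin n) F) where
  carrier := {g | papsl_RowP r g.1}
  mul_mem' := fun {a b} ha hb => by
    show papsl_RowP r (a * b : Matrix.SpecialLinearGroup (Fin n) F).1
    rw [Matrix.SpecialLinearGroup.coe_mul]
    exact papsl_rowP_mul ha hb
  one_mem' := by
    show papsl_RowP r (1 : Matrix.SpecialLinearGroup (Fin n) F).1
    exact papsl_rowP_one r
  inv_mem' := fun {g} hg => by
    show papsl_RowP r (g⁻¹ : Matrix.SpecialLinearGroup (Fin n) F).1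
    intro a ha b
    have h0 : g.1 * (g⁻¹ : Matrix.SpecialLinearGroup (Fin n) F).1 = 1 := by
      rw [← Matrix.SpecialLinearGroup.coe_mul, mul_inv_cancel, Matrix.SpecialLinearGroup.coe_one]
    have h1 : (g.1 * (g⁻¹ : Matrix.SpecialLinearGroup (Fin n) F).1) a
        = g.1 a ᵥ* (g⁻¹ : Matrix.SpecialLinearGroup (Fin n) F).1 := Matrix.mul_apply_eq_vecMul _ _ a
    have h2 : g.1 a = (1 : Matrix (Fin n) (Fin n) F) a := funext (hg a ha)
    have h3 : ((1 : Matrix (Fin n) (Fin n) F) * (g⁻¹ : Matrix.SpecialLinearGroup (Fin n) F).1) a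
        = (1 : Matrix (Fin n) (Fin n) F) a ᵥ* (g⁻¹ : Matrix.SpecialLinearGroup (Fin n) F).1 :=
      Matrix.mul_apply_eq_vecMul _ _ a
    rw [h0, h2, ← h3, Matrix.one_mul] at h1
    exact (congrFun h1 b).symm

/-- the subgroup of `SL_n(F)` with identity columns outside `r` -/
def papsl_QB (F : Type*) [Field F] [Fintype F] {n : ℕ} (r : Fin n) :
    Subgroup (Matrix.SpecialLinearGroup (Fin n) F) where
  carrier := {g | papsl_ColP r g.1}
  mul_mem' := fun {a b} ha hb => by
    show papsl_ColP r (a * b : Matrix.SpecialLinearGroup (Fin n) F).1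
    rw [Matrix.SpecialLinearGroup.coe_mul]
    exact papsl_colP_mul ha hb
  one_mem' := by
    show papsl_ColP r (1 : Matrix.SpecialLinearGroup (Fin n) F).1
    exact papsl_colP_one r
  inv_mem' := fun {g} hg => by
    show papsl_ColP r (g⁻¹ : Matrix.SpecialLinearGroup (Fin n) F).1
    intro b hb a
    have h0 : (g⁻¹ : Matrix.SpecialLinearGroup (Fin n) F).1 * g.1 = 1 := by
      rw [← Matrix.SpecialLinearGroup.coe_mul, inv_mul_cancel, Matrix.SpecialLinearGroup.coe_one]
    have h1 := papsl_col_mul (g⁻¹ : Matrix.SpecialLinearGroup (Fin n) F).1 g.1 b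
    have h2 : (fun a => g.1 a b) = (fun a => (1 : Matrix (Fin n) (Fin n) F) a b) := funext (hg b hb)
    have h3 := papsl_col_mul (g⁻¹ : Matrix.SpecialLinearGroup (Fin n) F).1 (1 : Matrix (Fin n) (Fin n) F) b
    rw [h0, h2, ← h3, Matrix.mul_one] at h1
    exact (congrFun h1 a).symm

theorem papsl_mem_QA {r : Fin n} (g : Matrix.SpecialLinearGroup (Fin n) F) :
    g ∈ papsl_QA F r ↔ papsl_RowP r g.1 := Iff.rfl

theorem papsl_mem_QB {r : Fin n} (g : Matrix.SpecialLinearGroup (Fin n) F) :
    g ∈ papsl_QB F r ↔ papsl_ColP r g.1 := Iff.rfl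

end papsl

end Cfsg.Agent.Helper28.PA
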