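import Mathlib
import Cfsg.Agent.Lib.Helper25.PAPSLDefs

/-!
# S4613 piece PA-PSL: matrices commuting with an elementary transvection; scalars in `SL_n` (helper25)
-/

set_option autoImplicit false
set_option linter.unusedSectionVars false
set_option linter.unusedVariables false

namespace Cfsg.Agent.Helper28.PA

open Matrix Cfsg.Agent.Helper14.SylAb

section papsl

variable {F : Type*} [Field F] {n : ℕ}

/-- a matrix commuting with `1 + E_jk` -/
theorem papsl_comm_single (g : Matrix (Fin n) (Fin n) F) (j k : Fin n)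
    (h : g * (1 + Matrix.single j k (1 : F)) = (1 + Matrix.single j k (1 : F)) * g) :
    (∀ a, a ≠ j → g a j = 0) ∧ (∀ b, b ≠ k → g k b = 0) ∧ g j j = g k k := by
  have h' : g * Matrix.single j k (1 : F) = Matrix.single j k (1 : F) * g := by
    rw [mul_add, add_mul, mul_one, one_mul] at h
    exact add_left_cancel h
  refine ⟨?_, ?_, ?_⟩
  · intro a ha
    have := congrFun (congrFun h' a) k
    rw [Matrix.mul_single_apply_same, Matrix.single_mul_apply_of_ne _ _ _ _ _ ha, mul_one] at this
    exact this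
  · intro b hb
    have := congrFun (congrFun h' j) b
    rw [Matrix.mul_single_apply_of_ne _ _ _ _ _ hb, Matrix.single_mul_apply_same, one_mul] at this
    exact this.symm
  · have := congrFun (congrFun h' j) k
    rw [Matrix.mul_single_apply_same, Matrix.single_mul_apply_same, mul_one, one_mul] at this
    exact this

variable [Fintype F]

/-- an element of `SL_n` commuting with the transvection `t_jk(1)` -/
theorem papsl_comm_t (g : Matrix.SpecialLinearGroup (Fin n) F) (j k : Fin n) (hjk : j ≠ k)
    (h : sylabsl_t j k hjk (1 : F) * g = g * sylabsl_t j k hjk (1 : F)) :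
    (∀ a, a ≠ j → g.1 a j = 0) ∧ (∀ b, b ≠ k → g.1 k b = 0) ∧ g.1 j j = g.1 k k := by
  apply papsl_comm_single g.1 j k
  have := congrArg Subtype.val h
  rw [Matrix.SpecialLinearGroup.coe_mul, Matrix.SpecialLinearGroup.coe_mul, sylabsl_t_coe] at this
  exact this.symm

/-- the scalar matrices of `SL_n` -/
def papsl_sc (l : F) (hl : l ^ n = 1) : Matrix.SpecialLinearGroup (Fin n) F :=
  ⟨Matrix.scalar (Fin n) l, by rw [Matrix.scalar_apply, Matrix.det_diagonal, Finset.prod_const, Finset.card_univ, Fintype.card_fin, hl]⟩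

theorem papsl_sc_mem_center (l : F) (hl : l ^ n = 1) :
    papsl_sc l hl ∈ Subgroup.center (Matrix.SpecialLinearGroup (Fin n) F) := by
  rw [Matrix.SpecialLinearGroup.mem_center_iff]
  exact ⟨l, by rw [Fintype.card_fin, hl], rfl⟩

theorem papsl_sc_mul_apply (l : F) (hl : l ^ n = 1) (g : Matrix.SpecialLinearGroup (Fin n) F)
    (a b : Fin n) : (papsl_sc l hl * g).1 a b = l * g.1 a b := by
  rw [Matrix.SpecialLinearGroup.coe_mul]
  show (Matrix.scalar (Fin n) l * g.1) a b = _
  rw [Matrix.scalar_apply, Matrix.diagonal_mul]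

theorem papsl_sc_mul_sc (l l' : F) (hl : l ^ n = 1) (hl' : l' ^ n = 1) (h : l * l' = 1) :
    papsl_sc l hl * papsl_sc l' hl' = 1 := by
  apply Subtype.ext
  rw [Matrix.SpecialLinearGroup.coe_mul]
  show Matrix.scalar (Fin n) l * Matrix.scalar (Fin n) l' = 1
  rw [← map_mul, h, map_one]

/-- an element of `SL_n` which is `l` times a lower unitriangular matrix lies in `U Z` -/
theorem papsl_mem_sup (hn : 0 < n) (g : Matrix.SpecialLinearGroup (Fin n) F) (l : F)
    (hdiag : ∀ a, g.1 a a = l) (hup : ∀ a b : Fin n, a < b → g.1 a b = 0) :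
    g ∈ sylabsl_U F n ⊔ Subgroup.center (Matrix.SpecialLinearGroup (Fin n) F) := by
  have hdet : l ^ n = 1 := by
    have h1 : g.1.det = ∏ i : Fin n, g.1 i i := by
      apply Matrix.det_of_isLowerTriangular
      intro i j hij
      exact hup i j hij
    rw [g.2] at h1
    simp only [hdiag, Finset.prod_const, Finset.card_univ, Fintype.card_fin] at h1
    exact h1.symm
  have hl0 : l ≠ 0 := by
    rintro rfl
    rw [zero_pow (by omega)] at hdet
    exact zero_ne_one hdet
  have hdet' : l⁻¹ ^ n = 1 := by rw [inv_pow, hdet, inv_one]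
  have hg : g = papsl_sc l hdet * (papsl_sc l⁻¹ hdet' * g) := by
    rw [← mul_assoc, papsl_sc_mul_sc l l⁻¹ hdet hdet' (mul_inv_cancel₀ hl0), one_mul]
  rw [hg, sup_comm]
  apply Subgroup.mul_mem_sup (papsl_sc_mem_center l hdet)
  rw [sylabsl_mem_U]
  constructor
  · intro i
    rw [papsl_sc_mul_apply, hdiag, inv_mul_cancel₀ hl0]
  · intro i j hij hlt
    rw [papsl_sc_mul_apply, hup i j, mul_zero]
    rw [Fin.lt_def]
    have : (i : ℕ) ≠ (j : ℕ) := fun h => hij (Fin.ext h)
    omega

end papsl

end Cfsg.Agent.Helper28.PA
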