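import Mathlib
import Cfsg.Agent.Lib.Helper25.PAPSLComm

/-!
# S4613 piece PA-PSL, sub-piece QA: the subgroup `papsl_QA F last` (helper25)
-/

set_option autoImplicit false
set_option linter.unusedSectionVars false
set_option linter.unusedVariables false

namespace Cfsg.Agent.Helper28.PA

open Matrix Cfsg.Agent.Helper14.SylAb

section papsl

variable {F : Type*} [Field F] [Fintype F]

theorem papsl_t_apply {n : ℕ} (i j : Fin n) (hij : i ≠ j) (c : F) (a b : Fin n) :
    (sylabsl_t i j hij c).1 a b = (1 : Matrix (Fin n) (Fin n) F) a b + Matrix.single i j c a b := by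
  rw [sylabsl_t_coe]
  rfl

theorem papsl_t_inv {n : ℕ} (i j : Fin n) (hij : i ≠ j) (c : F) :
    (sylabsl_t i j hij c)⁻¹ = sylabsl_t i j hij (-c) := by
  apply inv_eq_of_mul_eq_one_right
  rw [sylabsl_t_mul, add_neg_cancel, sylabsl_t_zero]

theorem papsl_QA_le_U (m : ℕ) : papsl_QA F (Fin.last (m + 1)) ≤ sylabsl_U F (m + 2) := by
  intro g hg
  rw [papsl_mem_QA] at hg
  rw [sylabsl_mem_U]
  have hup : ∀ a b : Fin (m + 2), a < b → g.1 a b = 0 := by
    intro a b hab
    have ha : a ≠ Fin.last (m + 1) := by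
      intro h
      rw [h] at hab
      exact absurd (Fin.le_last b) (not_le.mpr hab)
    rw [hg a ha b, Matrix.one_apply_ne (ne_of_lt hab)]
  have hdet : g.1.det = ∏ i : Fin (m + 2), g.1 i i := by
    apply Matrix.det_of_isLowerTriangular
    intro i j hij
    exact hup i j hij
  rw [g.2, Fin.prod_univ_castSucc] at hdet
  have h1 : ∏ i : Fin (m + 1), g.1 (Fin.castSucc i) (Fin.castSucc i) = 1 := by
    apply Finset.prod_eq_one
    intro i _
    rw [hg _ (Fin.castSucc_lt_last i).ne, Matrix.one_apply_eq]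
  rw [h1, one_mul] at hdet
  constructor
  · intro a
    by_cases ha : a = Fin.last (m + 1)
    · rw [ha]; exact hdet.symm
    · rw [hg a ha, Matrix.one_apply_eq]
  · intro a b hab hlt
    apply hup
    rw [Fin.lt_def]
    have : (a : ℕ) ≠ (b : ℕ) := fun h => hab (Fin.ext h)
    omega

theorem papsl_t_mem_QA {n : ℕ} (r k : Fin n) (hrk : r ≠ k) (c : F) :
    sylabsl_t r k hrk c ∈ papsl_QA F r := by
  rw [papsl_mem_QA]
  intro a ha b
  rw [papsl_t_apply, Matrix.single_apply_of_ne, add_zero]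
  rintro ⟨h1, -⟩
  exact ha h1.symm

theorem papsl_QA_cent (m : ℕ) :
    Subgroup.centralizer (papsl_QA F (Fin.last (m + 1)) : Set (Matrix.SpecialLinearGroup (Fin (m + 2)) F)) ≤
      sylabsl_U F (m + 2) ⊔ Subgroup.center (Matrix.SpecialLinearGroup (Fin (m + 2)) F) := by
  intro g hg
  rw [Subgroup.mem_centralizer_iff] at hg
  have key : ∀ k : Fin (m + 2), k ≠ Fin.last (m + 1) →
      (∀ b, b ≠ k → g.1 k b = 0) ∧ g.1 (Fin.last (m + 1)) (Fin.last (m + 1)) = g.1 k k := by
    intro k hk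
    have := papsl_comm_t g (Fin.last (m + 1)) k (Ne.symm hk)
      (hg _ (papsl_t_mem_QA (Fin.last (m + 1)) k (Ne.symm hk) 1))
    exact ⟨this.2.1, this.2.2⟩
  apply papsl_mem_sup (by omega) g (g.1 (Fin.last (m + 1)) (Fin.last (m + 1)))
  · intro a
    by_cases ha : a = Fin.last (m + 1)
    · rw [ha]
    · exact ((key a ha).2).symm
  · intro a b hab
    have ha : a ≠ Fin.last (m + 1) := by
      intro h
      rw [h] at hab
      exact absurd (Fin.le_last b) (not_le.mpr hab)
    exact (key a ha).1 b (ne_of_gt hab)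

/-- conjugation by an element preserving the span of the `e_a`, `a ≠ r` (row vectors) -/
theorem papsl_QA_conj {n : ℕ} (r : Fin n) (s s' : Matrix.SpecialLinearGroup (Fin n) F)
    (hs : ∀ a, a ≠ r → s.1 a r = 0) (hss' : s * s' = 1)
    (g : Matrix.SpecialLinearGroup (Fin n) F) (hg : g ∈ papsl_QA F r) :
    s * g * s' ∈ papsl_QA F r := by
  rw [papsl_mem_QA] at hg ⊢
  intro a ha b
  have h1 : (s * g * s').1 a = (s.1 a ᵥ* g.1) ᵥ* s'.1 := by
    rw [Matrix.SpecialLinearGroup.coe_mul, Matrix.SpecialLinearGroup.coe_mul,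
      Matrix.mul_apply_eq_vecMul, Matrix.mul_apply_eq_vecMul]
  have h2 : (s * s').1 a = s.1 a ᵥ* s'.1 := by
    rw [Matrix.SpecialLinearGroup.coe_mul, Matrix.mul_apply_eq_vecMul]
  rw [papsl_rowP_vecMul hg _ (hs a ha), ← h2, hss'] at h1
  exact congrFun h1 b

theorem papsl_QA_norm {n : ℕ} (r i j : Fin n) (hij : i ≠ j) (hj : j ≠ r) (c : F) :
    sylabsl_t i j hij c ∈
      Subgroup.normalizer (papsl_QA F r : Set (Matrix.SpecialLinearGroup (Fin n) F)) := by
  have hs : ∀ c : F, ∀ a, a ≠ r → (sylabsl_t i j hij c).1 a r = 0 := by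
    intro c a ha
    rw [papsl_t_apply, Matrix.one_apply_ne ha, Matrix.single_apply_of_ne, add_zero]
    rintro ⟨-, h2⟩
    exact hj h2
  rw [Subgroup.mem_normalizer_iff]
  intro g
  constructor
  · intro hg
    exact papsl_QA_conj r _ _ (hs c) (mul_inv_cancel _) g hg
  · intro hg
    have h1 := papsl_QA_conj r (sylabsl_t i j hij (-c)) (sylabsl_t i j hij c) (hs (-c))
      (by rw [sylabsl_t_mul, neg_add_cancel, sylabsl_t_zero]) _ hg
    rw [← papsl_t_inv] at h1
    have h2 : (sylabsl_t i j hij c)⁻¹ * (sylabsl_t i j hij c * g * (sylabsl_t i j hij c)⁻¹) *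
        sylabsl_t i j hij c = g := by group
    rw [h2] at h1
    exact h1

end papsl

end Cfsg.Agent.Helper28.PA
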