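import Mathlib
import Cfsg.Agent.Lib.Helper25.PAPSLQA
import Cfsg.Agent.Lib.Helper26.PAPSLQB
import Cfsg.Agent.Lib.Helper12.SLGen

/-!
# S4613 piece PA-PSL: `NoPAut p (PSL_n(F))`, `n ≥ 3` (helper25)

`n ≥ 3`: Route B.  `X = SL_n(F)`, `U` = lower unitriangular, `S` = the upper elementary transvections
`t_ij(c)`, `i < j`, `(i, j) ≠ (0, last)`; `t_ij(c)` normalises `QA last` (if `j ≠ last`) or `QB 0` (if `i ≠ 0`),
whose centralisers lie in `U Z`; `t_{0,last}(c) = [t_{01}(c), t_{1,last}(1)]`.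
`n = 2`: sub-piece `papsl_two` (rank one).
-/

set_option autoImplicit false
set_option linter.unusedSectionVars false
set_option linter.unusedVariables false

namespace Cfsg.Agent.Helper28.PA

open Matrix Cfsg.Agent.Helper14.SylAb

section papsl

variable {F : Type*} [Field F] [Fintype F]

/-- the upper elementary transvections, except those in position `(0, last)` -/
def papsl_S (F : Type*) [Field F] [Fintype F] (m : ℕ) :
    Set (Matrix.SpecialLinearGroup (Fin (m + 1 + 2)) F) :=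
  {s | ∃ (i j : Fin (m + 1 + 2)) (hij : i < j) (c : F), (j ≠ Fin.last (m + 1 + 1) ∨ i ≠ 0) ∧
    s = sylabsl_t i j (ne_of_lt hij) c}

theorem papsl_gen (m : ℕ) :
    Subgroup.closure ((sylabsl_U F (m + 1 + 2) : Set (Matrix.SpecialLinearGroup (Fin (m + 1 + 2)) F)) ∪
      papsl_S F m) = ⊤ := by
  apply Cfsg.Agent.Helper12.eq_top_of_forall_transvection
  intro i j hij c
  change sylabsl_t i j hij c ∈ _
  rcases lt_or_gt_of_ne hij with h | h
  · by_cases h0 : j ≠ Fin.last (m + 1 + 1) ∨ i ≠ 0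
    · exact Subgroup.subset_closure (Or.inr ⟨i, j, h, c, h0, rfl⟩)
    · push_neg at h0
      obtain ⟨rfl, rfl⟩ := h0
      have h01 : (0 : Fin (m + 1 + 2)) ≠ 1 := by
        intro h; have := congrArg Fin.val h; simp at this
      have h1l : (1 : Fin (m + 1 + 2)) ≠ Fin.last (m + 1 + 1) := by
        intro h; have := congrArg Fin.val h; simp at this
      have h01' : (0 : Fin (m + 1 + 2)) < 1 := by
        rw [Fin.lt_def]; simp
      have h1l' : (1 : Fin (m + 1 + 2)) < Fin.last (m + 1 + 1) := by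
        rw [Fin.lt_def]; simp
      have hrel := Cfsg.Agent.Helper12.tv_comm_rel (K := F) h01 h1l hij c 1
      rw [mul_one] at hrel
      change sylabsl_t _ _ h01 c * sylabsl_t _ _ h1l 1 * sylabsl_t _ _ h01 (-c) * sylabsl_t _ _ h1l (-1)
        = sylabsl_t _ _ hij c at hrel
      rw [← hrel]
      have m1 : ∀ d : F, sylabsl_t (0 : Fin (m + 1 + 2)) 1 h01 d ∈ Subgroup.closure
          ((sylabsl_U F (m + 1 + 2) : Set (Matrix.SpecialLinearGroup (Fin (m + 1 + 2)) F)) ∪ papsl_S F m) :=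
        fun d => Subgroup.subset_closure (Or.inr ⟨0, 1, h01', d, Or.inl h1l, rfl⟩)
      have m2 : ∀ d : F, sylabsl_t (1 : Fin (m + 1 + 2)) (Fin.last (m + 1 + 1)) h1l d ∈ Subgroup.closure
          ((sylabsl_U F (m + 1 + 2) : Set (Matrix.SpecialLinearGroup (Fin (m + 1 + 2)) F)) ∪ papsl_S F m) :=
        fun d => Subgroup.subset_closure (Or.inr ⟨1, _, h1l', d, Or.inr h01.symm, rfl⟩)
      exact mul_mem (mul_mem (mul_mem (m1 _) (m2 _)) (m1 _)) (m2 _)
  · apply Subgroup.subset_closure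
    left
    show sylabsl_t i j hij c ∈ sylabsl_U F (m + 1 + 2)
    rw [sylabsl_U_eq_closure]
    exact Subgroup.subset_closure ⟨i, j, h, c, rfl⟩

theorem papsl_pow_char (p : ℕ) [Fact p.Prime] [CharP F p] (r : F) (h : r ^ p = 1) : r = 1 := by
  have h1 : (r - 1) ^ p = 0 := by
    rw [sub_pow_char, h, one_pow, sub_self]
  exact sub_eq_zero.mp (pow_eq_zero_iff (Fact.out : p.Prime).ne_zero |>.mp h1)

theorem papsl_center (p : ℕ) [Fact p.Prime] [CharP F p] (n : ℕ) (hn : 0 < n) :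
    ∀ z ∈ Subgroup.center (Matrix.SpecialLinearGroup (Fin n) F), z ^ p = 1 → z = 1 := by
  intro z hz hzp
  rw [Matrix.SpecialLinearGroup.mem_center_iff] at hz
  obtain ⟨r, -, hrz⟩ := hz
  have : Nonempty (Fin n) := ⟨⟨0, hn⟩⟩
  have h1 : (z ^ p).1 = 1 := by rw [hzp]; rfl
  rw [Matrix.SpecialLinearGroup.coe_pow, ← hrz, ← map_pow, ← map_one (Matrix.scalar (Fin n)),
    Matrix.scalar_inj] at h1
  have h2 := papsl_pow_char p r h1
  apply Subtype.ext
  rw [← hrz, h2, map_one]
  rfl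

theorem papsl_pgroup (p : ℕ) [Fact p.Prime] [CharP F p] (n : ℕ) : IsPGroup p (sylabsl_U F n) := by
  obtain ⟨f, -, hqf⟩ := FiniteField.card F p
  apply IsPGroup.of_card (n := (f : ℕ) * (n * (n - 1) / 2))
  rw [sylabsl_card_U, hqf, pow_mul]

theorem papsl_ge3 (p : ℕ) [Fact p.Prime] [CharP F p] (m : ℕ) :
    NoPAut p (Matrix.ProjectiveSpecialLinearGroup (Fin (m + 1 + 2)) F) := by
  have : Finite (Matrix.SpecialLinearGroup (Fin (m + 1 + 2)) F) := by
    unfold Matrix.SpecialLinearGroup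
    infer_instance
  apply noPAut_of_good
  apply good_quotient_center p (papsl_center p (m + 1 + 2) (by omega))
  apply goodZ_of_gens p _ (sylabsl_U F (m + 1 + 2)) (papsl_pgroup p _) (papsl_S F m) (papsl_gen m)
  · exact le_trans (Subgroup.centralizer_le (papsl_QA_le_U (m + 1))) (papsl_QA_cent (m + 1))
  · rintro s ⟨i, j, hij, c, h0, rfl⟩
    rcases h0 with h | h
    · exact ⟨papsl_QA F (Fin.last (m + 1 + 1)), papsl_QA_le_U (m + 1), papsl_QA_cent (m + 1),
        papsl_QA_norm _ i j _ h c⟩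
    · exact ⟨papsl_QB F 0, papsl_QB_le_U (m + 1), papsl_QB_cent (m + 1),
        papsl_QB_norm _ i j _ h c⟩

end papsl

end Cfsg.Agent.Helper28.PA
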