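import Mathlib
import Cfsg.Agent.Lib.Helper25.PAPSLGe3
import Cfsg.Agent.Lib.Helper22.PAPSLN2

/-!
# S4613 piece PA-PSL: `NoPAut p (PSL_n(F))` (helper25): `n ≥ 3` from `PAPSLGe3`, `n = 2` from `PAPSLN2`.
-/

set_option autoImplicit false

namespace Cfsg.Agent.Helper28.PA

section papsl

variable {F : Type*} [Field F] [Fintype F]

/-- FAMILY PA-PSL -/
theorem noPAut_PSL (p : ℕ) [Fact p.Prime] [CharP F p] (n : ℕ) (hn : 2 ≤ n)
    (h2 : n = 2 → 4 ≤ Fintype.card F) :
    NoPAut p (Matrix.ProjectiveSpecialLinearGroup (Fin n) F) := by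
  rcases Nat.lt_or_ge n 3 with h | h
  · have h2' : n = 2 := by omega
    subst h2'
    exact papsl_two p (h2 rfl)
  · obtain ⟨m, rfl⟩ := Nat.exists_eq_add_of_le' h
    exact papsl_ge3 p m

end papsl

end Cfsg.Agent.Helper28.PA
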