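import Mathlib
import Cfsg.Prelude.Def_FusionSystem
import Cfsg.Prelude.Def_FusionComponents
import Cfsg.Agent.Lib.Helper3.PPowDefs
import Cfsg.Agent.Lib.Helper25.FusionSat4

/-!
# S5113, piece B12 (helper25): deep subgroups

`deep_of_isConj`, `Park.deep_of_receptive` (B1), `Park.ker_of_deep` (B2), and small helpers used by
pieces B3/B4 (`Park.realizer`, `Park.map_mem_iff`, `Park.hom_of_sys`).
-/

set_option autoImplicit false
set_option linter.style.haveILetI false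
set_option linter.unusedSectionVars false

namespace Cfsg.Agent.Helper3.PPow

open Cfsg Cfsg.FusionSystem Cfsg.Agent.Helper25

universe u v w

section PartIII

variable {Ω : Type u} [Group Ω] {S : Subgroup Ω} {p : ℕ} [Fact p.Prime] {F : FusionSystem S}
  {M : Subgroup Ω} {𝒢 : Type v} [Group 𝒢] {ι : S →* 𝒢} {C : Type w} [CommGroup C] {V : 𝒢 →* C}

/-- Every map of `F` is realized by an element of `𝒢`. -/
theorem Park.realizer (h : Park p F M ι V) {P : Subgroup Ω} {φ : P →* Ω} (hφ : φ ∈ F.Hom P) :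
    ∃ f : 𝒢, ∀ (x : P) (hx : (x : Ω) ∈ S) (hφx : φ x ∈ S),
      ι ⟨φ x, hφx⟩ = f * ι ⟨x, hx⟩ * f⁻¹ := by
  have hP := (F.le_of_mem hφ).1
  have hφS := (F.le_of_mem hφ).2
  obtain ⟨f, hf⟩ := (h.real.2 P hP φ hφS).mp hφ
  exact ⟨f, fun x hx hφx => hf x⟩

/-- A homomorphism realized by an element of `𝒢` is a map of `F`. -/
theorem Park.hom_of_realized (h : Park p F M ι V) {P : Subgroup Ω} (hP : P ≤ S) {φ : P →* Ω}
    (hφS : ∀ x : P, φ x ∈ S) (f : 𝒢)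
    (hf : ∀ (x : P) (hx : (x : Ω) ∈ S) (hφx : φ x ∈ S), ι ⟨φ x, hφx⟩ = f * ι ⟨x, hx⟩ * f⁻¹) :
    φ ∈ F.Hom P :=
  (h.real.2 P hP φ hφS).mpr ⟨f, fun x => hf x (hP x.2) (hφS x)⟩

/-- The maps of the subsystem are maps of `F`. -/
theorem Park.hom_of_sys (h : Park p F M ι V) {P : Subgroup Ω} {φ : P →* Ω}
    (hφ : φ ∈ h.sys.Hom P) : φ ∈ F.Hom P := by
  obtain ⟨hPM, hφM, k, -, hk⟩ := h.mem_sys.mp hφ
  exact h.hom_of_realized (hPM.trans h.le) (fun x => h.le (hφM x)) k hk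

/-- The maps of `F` preserve membership in `M` (both ways). -/
theorem Park.map_mem_iff (h : Park p F M ι V) {P : Subgroup Ω} {φ : P →* Ω} (hφ : φ ∈ F.Hom P)
    (x : P) : (x : Ω) ∈ M ↔ φ x ∈ M := by
  have hP := (F.le_of_mem hφ).1
  have hφS := (F.le_of_mem hφ).2
  obtain ⟨f, hf⟩ := h.realizer hφ
  have h1 := hf x (hP x.2) (hφS x)
  have h2 : V (ι ⟨φ x, hφS x⟩) = V (ι ⟨x, hP x.2⟩) := by
    rw [h1, map_mul, map_mul, map_inv, mul_comm, inv_mul_cancel_left]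
  rw [← h.mem_iff ⟨x, hP x.2⟩, ← h.mem_iff ⟨φ x, hφS x⟩, h2]

/-- `Deep` is invariant under `F`-conjugation. -/
theorem deep_of_isConj {Q R : Subgroup Ω} {θ : R →* Ω} (hθ : θ ∈ F.Hom R) (hθQ : θ.range = Q)
    (hd : Deep F M Q) : Deep F M R := by
  intro ρ hρ d hdS hdc
  obtain ⟨σ, hσ, hσinv, hσrange⟩ := exists_inv F hθ hθQ
  have hσR : ∀ y : Q, σ y ∈ R := by
    intro y
    rw [← hσrange]
    exact ⟨y, rfl⟩
  let ρ' : Q →* Ω := ρ.comp (σ.codRestrict R hσR)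
  have hρ' : ρ' ∈ F.Hom Q := comp_mem' F hσ hρ hσR (fun y => rfl)
  apply hd ρ' hρ' d hdS
  intro y
  exact hdc _

/-- PIECE B1. A receptive subgroup whose centralizer lies in `M` is deep. -/
theorem Park.deep_of_receptive (h : Park p F M ι V) {Q : Subgroup Ω} (hrec : F.IsReceptive Q)
    (hC : centralizerIn S Q ≤ M) : Deep F M Q := by
  intro ρ hρ d hdS hdc
  obtain ⟨σ, hσ, hσinv, hσrange⟩ := exists_inv F hρ (rfl : ρ.range = ρ.range)
  obtain ⟨ψ, hψ, hψext⟩ := hrec.2 ρ.range σ hσ hσrange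
  -- `d` centralizes `ρ.range`
  have hdcen : d ∈ centralizerIn S ρ.range := by
    rw [mem_centralizerIn]
    refine ⟨hdS, ?_⟩
    rintro _ ⟨x, rfl⟩
    exact (hdc x).symm
  have hdN : d ∈ extender S ρ.range σ := centralizerIn_le_extender σ hdcen
  have hle : ρ.range ≤ extender S ρ.range σ := le_extender F hσ
  -- `ψ d` centralizes `Q`
  have hψd : ψ ⟨d, hdN⟩ ∈ centralizerIn S Q := by
    rw [mem_centralizerIn]
    refine ⟨(F.le_of_mem hψ).2 _, ?_⟩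
    intro x hx
    have hρx : ρ ⟨x, hx⟩ ∈ ρ.range := ⟨_, rfl⟩
    have h1 : ψ ⟨ρ ⟨x, hx⟩, hle hρx⟩ = x := by
      rw [hψext _ hρx (hle hρx)]
      exact hσinv ⟨x, hx⟩ hρx
    have h2 : (⟨ρ ⟨x, hx⟩, hle hρx⟩ : extender S ρ.range σ) * ⟨d, hdN⟩ =
        ⟨d, hdN⟩ * ⟨ρ ⟨x, hx⟩, hle hρx⟩ := Subtype.ext (hdc ⟨x, hx⟩).symm
    have h3 := congrArg ψ h2
    rw [map_mul, map_mul, h1] at h3
    exact h3
  exact (h.map_mem_iff hψ ⟨d, hdN⟩).mpr (hC hψd)

/-- PIECE B2. The key consequence of `cent`: an element of `𝒢` inducing on a deep `Q` a map of the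
subsystem lies in the kernel of `V`. -/
theorem Park.ker_of_deep (h : Park p F M ι V) {Q : Subgroup Ω} (hQM : Q ≤ M) (hd : Deep F M Q)
    {φ : Q →* Ω} (hφ : φ ∈ h.sys.Hom Q) {f : 𝒢}
    (hf : ∀ (x : Q) (hx : (x : Ω) ∈ S) (hφx : φ x ∈ S), ι ⟨φ x, hφx⟩ = f * ι ⟨x, hx⟩ * f⁻¹) :
    V f = 1 := by
  obtain ⟨-, hφM, k, hk1, hk⟩ := h.mem_sys.mp hφ
  have hc : V (k⁻¹ * f) = 1 := by
    apply h.cent Q hQM hd
    intro x hx
    have h1 := hk x hx (h.le (hφM x))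
    have h2 := hf x hx (h.le (hφM x))
    rw [h1] at h2
    -- k * a * k⁻¹ = f * a * f⁻¹
    have h3 := congrArg (fun t => k⁻¹ * t * f) h2
    simp only [mul_assoc, inv_mul_cancel_left, inv_mul_cancel, mul_one] at h3
    rw [h3, mul_assoc]
  rw [map_mul, map_inv, hk1, inv_one, one_mul] at hc
  exact hc

end PartIII

end Cfsg.Agent.Helper3.PPow
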