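import Mathlib
import Cfsg.Agent.Lib.Helper25.SylowIn

/-!
# S5113, piece SYLN (helper25)

The intersection of a Sylow subgroup of `A` with a subgroup `B ≤ A` normalized by `A` is a Sylow
subgroup of `B`.
-/

set_option autoImplicit false
set_option linter.style.haveILetI false

namespace Cfsg.Agent.Helper3.PPow

open Cfsg Cfsg.Agent.Helper25
open scoped Pointwise

/-- PIECE SYLN. The intersection of a Sylow subgroup of `A` with a subgroup `B` normalized by `A`
is a Sylow subgroup of `B`. -/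
theorem isSylowIn_inf_of_normal {G : Type*} [Group G] {p : ℕ} [Fact p.Prime] {P A B : Subgroup G}
    [Finite A] (h : IsSylowIn p P A) (hBA : B ≤ A) (hn : ∀ a ∈ A, ∀ b ∈ B, a * b * a⁻¹ ∈ B) :
    IsSylowIn p (P ⊓ B) B := by
  refine ⟨inf_le_right, h.isPGroup.to_le inf_le_left, ?_⟩
  intro L hLB hL hle
  obtain ⟨R, hR⟩ := (isSylowIn_iff_exists_sylow h.le).mp h
  obtain ⟨R', hR'⟩ := (isPGroup_subgroupOf A hL).exists_le_sylow
  obtain ⟨a, ha⟩ := MulAction.exists_smul_eq A R' R
  have hconj : ∀ x ∈ L, (a : G) * x * (a : G)⁻¹ ∈ P ⊓ B := by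
    intro x hx
    have hxA : x ∈ A := hBA (hLB hx)
    refine ⟨?_, hn a a.2 x (hLB hx)⟩
    have h1 : (⟨x, hxA⟩ : A) ∈ (R' : Subgroup A) := hR' (Subgroup.mem_subgroupOf.mpr hx)
    have h2 : a * ⟨x, hxA⟩ * a⁻¹ ∈ ((a • R' : Sylow p A) : Subgroup A) := by
      rw [Sylow.smul_def, Sylow.pointwise_smul_def]
      exact Subgroup.smul_mem_pointwise_smul _ (MulAut.conj a) _ h1
    rw [ha, hR] at h2
    exact Subgroup.mem_subgroupOf.mp h2
  haveI : Finite (P ⊓ B : Subgroup G) :=
    Finite.of_injective (fun x : (P ⊓ B : Subgroup G) => (⟨x.1, hBA x.2.2⟩ : A))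
      (fun x y hxy => Subtype.ext (congrArg (fun t : A => (t : G)) hxy))
  haveI : Finite L :=
    Finite.of_injective (fun x : L => (⟨x.1, hBA (hLB x.2)⟩ : A))
      (fun x y hxy => Subtype.ext (congrArg (fun t : A => (t : G)) hxy))
  have hcard : Nat.card L ≤ Nat.card (P ⊓ B : Subgroup G) := by
    apply Nat.card_le_card_of_injective
      (fun x : L => (⟨(a : G) * x * (a : G)⁻¹, hconj x x.2⟩ : (P ⊓ B : Subgroup G)))
    intro x y hxy
    have h1 : (a : G) * x * (a : G)⁻¹ = (a : G) * y * (a : G)⁻¹ :=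
      congrArg (fun t : (P ⊓ B : Subgroup G) => (t : G)) hxy
    apply Subtype.ext
    have h2 := congrArg (fun t => (a : G)⁻¹ * t * (a : G)) h1
    simpa [mul_assoc] using h2
  exact (Subgroup.eq_of_le_of_card_ge hle hcard).symm

end Cfsg.Agent.Helper3.PPow
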