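import Mathlib
import Cfsg.Prelude.Def_FusionSystem
import Cfsg.Prelude.Def_FusionComponents
import Cfsg.Agent.Lib.Helper3.PPowDefs
import Cfsg.Agent.Lib.Helper25.FusionSat4
import Cfsg.Agent.Lib.Helper25.SylowIn
import Cfsg.Agent.Lib.Helper25.PPowSYLN
import Cfsg.Agent.Lib.Helper25.PPowB12

/-!
# S5113, piece B3 (helper25): fully normalized subgroups are fully automized in the subsystem
-/

set_option autoImplicit false
set_option linter.style.haveILetI false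
set_option linter.unusedSectionVars false

namespace Cfsg.Agent.Helper3.PPow

open Cfsg Cfsg.FusionSystem Cfsg.Agent.Helper25

universe u v w

section PartIII

variable {Ω : Type u} [Group Ω] {S : Subgroup Ω} {p : ℕ} [Fact p.Prime] {F : FusionSystem S}
  {M : Subgroup Ω} {𝒢 : Type v} [Group 𝒢] {ι : S →* 𝒢} {C : Type w} [CommGroup C] {V : 𝒢 →* C}

/-- `Aut_E(Q) ≤ Aut_F(Q)`. -/
theorem Park.autGroup_sys_le (h : Park p F M ι V) {Q : Subgroup Ω} (hQM : Q ≤ M) :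
    h.sys.autGroup Q ≤ F.autGroup Q := by
  intro α hα
  rw [mem_autGroup_iff h.sys hQM] at hα
  rw [mem_autGroup_iff F (hQM.trans h.le)]
  exact h.hom_of_sys hα

/-- `Aut_E(Q)` is normalized by `Aut_F(Q)`. -/
theorem Park.autGroup_sys_normal (h : Park p F M ι V) {Q : Subgroup Ω} (hQM : Q ≤ M) :
    ∀ a ∈ F.autGroup Q, ∀ b ∈ h.sys.autGroup Q, a * b * a⁻¹ ∈ h.sys.autGroup Q := by
  have hQS : Q ≤ S := hQM.trans h.le
  intro a ha b hb
  rw [mem_autGroup_iff F hQS] at ha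
  rw [mem_autGroup_iff h.sys hQM] at hb ⊢
  obtain ⟨f, hf⟩ := h.realizer ha
  obtain ⟨-, -, k, hk1, hk⟩ := h.mem_sys.mp hb
  rw [h.mem_sys]
  refine ⟨hQM, fun x => hQM ((a * b * a⁻¹) x).2, f * k * f⁻¹, ?_, ?_⟩
  · rw [map_mul, map_mul, map_inv, hk1, mul_one, mul_inv_cancel]
  · intro x hx hφx
    have e1 := hf (a⁻¹ x) (hQS (a⁻¹ x).2) (hQS (a (a⁻¹ x)).2)
    have e2 := hk (a⁻¹ x) (hQS (a⁻¹ x).2) (hQS (b (a⁻¹ x)).2)
    have e3 := hf (b (a⁻¹ x)) (hQS (b (a⁻¹ x)).2) (hQS (a (b (a⁻¹ x))).2)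
    have hx' : (⟨((a (a⁻¹ x) : Q) : Ω), hQS (a (a⁻¹ x)).2⟩ : S) = ⟨x, hx⟩ := by
      apply Subtype.ext
      show ((a (a⁻¹ x) : Q) : Ω) = x
      rw [MulAut.apply_inv_self]
    change ι ⟨((a (a⁻¹ x) : Q) : Ω), _⟩ = _ at e1
    change ι ⟨((b (a⁻¹ x) : Q) : Ω), _⟩ = _ at e2
    change ι ⟨((a (b (a⁻¹ x)) : Q) : Ω), _⟩ = _ at e3
    change ι ⟨((a (b (a⁻¹ x)) : Q) : Ω), _⟩ = _
    rw [hx'] at e1
    have e4 : ι ⟨((a⁻¹ x : Q) : Ω), hQS (a⁻¹ x).2⟩ = f⁻¹ * ι ⟨x, hx⟩ * f := by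
      rw [e1]; group
    rw [e3, e2, e4]
    group

/-- `Aut_S(Q) ⊓ Aut_E(Q) = Aut_M(Q)` for `Q ≤ M` receptive in `F`. -/
theorem Park.autInducedBy_inf (h : Park p F M ι V) {Q : Subgroup Ω} (hQM : Q ≤ M)
    (hrec : F.IsReceptive Q) :
    autInducedBy S Q ⊓ h.sys.autGroup Q = autInducedBy M Q := by
  have hQS : Q ≤ S := hQM.trans h.le
  apply le_antisymm
  · rintro α ⟨hαS, hαE⟩
    obtain ⟨g, hg, hgα⟩ := (mem_autInducedBy_iff α).mp hαS
    rw [mem_autInducedBy_iff]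
    by_cases hC : centralizerIn S Q ≤ M
    · have hd : Deep F M Q := h.deep_of_receptive hrec hC
      have hφ : Q.subtype.comp α.toMonoidHom ∈ h.sys.Hom Q := (mem_autGroup_iff h.sys hQM α).mp hαE
      have hV : V (ι ⟨g, hg⟩) = 1 := by
        apply h.ker_of_deep hQM hd hφ
        intro x hx hφx
        have e : (⟨(Q.subtype.comp α.toMonoidHom) x, hφx⟩ : S) = ⟨g, hg⟩ * ⟨x, hx⟩ * ⟨g, hg⟩⁻¹ := by
          apply Subtype.ext
          exact hgα x
        rw [e, map_mul, map_mul, map_inv]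
      exact ⟨g, (h.mem_iff ⟨g, hg⟩).mp hV, hgα⟩
    · obtain ⟨z, hzC, hzM⟩ := SetLike.not_le_iff_exists.mp hC
      have hz := mem_centralizerIn.mp hzC
      obtain ⟨i, hi⟩ := h.idx ⟨z, hz.1⟩ hzM ⟨g, hg⟩
      refine ⟨g * z ^ i, ?_, fun x => ?_⟩
      · simpa using hi
      · rw [hgα x]
        have hcomm : z ^ i * (x : Ω) = (x : Ω) * z ^ i := by
          have : Commute z (x : Ω) := (hz.2 x x.2).symm
          exact (this.pow_left i).eq
        calc g * (x : Ω) * g⁻¹ = g * ((x : Ω) * z ^ i * (z ^ i)⁻¹) * g⁻¹ := by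
              rw [mul_inv_cancel_right]
          _ = g * z ^ i * (x : Ω) * (g * z ^ i)⁻¹ := by
              rw [← hcomm, mul_inv_rev]
              simp only [mul_assoc]
  · intro α hα
    obtain ⟨g, hg, hgα⟩ := (mem_autInducedBy_iff α).mp hα
    refine ⟨(mem_autInducedBy_iff α).mpr ⟨g, h.le hg, hgα⟩, ?_⟩
    exact autInducedBy_le_autGroup h.sys hQM hα

/-- PIECE B3. Fully automized. -/
theorem Park.isFullyAutomized [Finite S] (h : Park p F M ι V) (hS : IsPGroup p S)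
    (hF : F.IsSaturated p) {Q : Subgroup Ω} (hQM : Q ≤ M) (hfn : F.IsFullyNormalized Q) :
    h.sys.IsFullyAutomized p Q := by
  have hQS : Q ≤ S := hQM.trans h.le
  obtain ⟨-, hfa, hrec⟩ := of_fullyNormalized p hS F hF hfn
  rw [isFullyAutomized_iff F p hQS] at hfa
  rw [isFullyAutomized_iff h.sys p hQM]
  haveI : Finite Q := finite_of_le_finite hQS
  haveI : Finite (MulAut Q) := inferInstance
  haveI : Finite (F.autGroup Q) := inferInstance
  have h1 := isSylowIn_inf_of_normal hfa (h.autGroup_sys_le hQM) (h.autGroup_sys_normal hQM)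
  rwa [h.autInducedBy_inf hQM hrec] at h1

end PartIII

end Cfsg.Agent.Helper3.PPow
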