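import Mathlib
import Cfsg.Prelude.Def_FusionSystem
import Cfsg.Prelude.Def_FusionComponents
import Cfsg.Agent.Lib.Helper3.PPowDefs
import Cfsg.Agent.Lib.Helper25.FusionSat4
import Cfsg.Agent.Lib.Helper25.PPowB12

/-!
# S5113, piece B4 (helper25): fully normalized subgroups are receptive in the subsystem
-/

set_option autoImplicit false
set_option linter.style.haveILetI false
set_option linter.unusedSectionVars false

namespace Cfsg.Agent.Helper3.PPow

open Cfsg Cfsg.FusionSystem Cfsg.Agent.Helper25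

universe u v w

section PartIII

variable {Ω : Type u} [Group Ω] {S : Subgroup Ω} {p : ℕ} [Fact p.Prime] {F : FusionSystem S}
  {M : Subgroup Ω} {𝒢 : Type v} [Group 𝒢] {ι : S →* 𝒢} {C : Type w} [CommGroup C] {V : 𝒢 →* C}

/-- `M` is normalized by `S`. -/
theorem Park.conj_mem_of_mem (h : Park p F M ι V) {s m : Ω} (hs : s ∈ S) (hm : m ∈ M) :
    s * m * s⁻¹ ∈ M := by
  have hmS : m ∈ S := h.le hm
  have e : (⟨s * m * s⁻¹, S.mul_mem (S.mul_mem hs hmS) (S.inv_mem hs)⟩ : S) =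
      ⟨s, hs⟩ * ⟨m, hmS⟩ * ⟨s, hs⟩⁻¹ := Subtype.ext rfl
  have h1 : V (ι ⟨m, hmS⟩) = 1 := (h.mem_iff ⟨m, hmS⟩).mpr hm
  have h2 : V (ι (⟨s, hs⟩ * ⟨m, hmS⟩ * ⟨s, hs⟩⁻¹)) = 1 := by
    rw [map_mul, map_mul, map_inv, map_mul, map_mul, map_inv, h1, mul_one, mul_inv_cancel]
  rw [← e] at h2
  exact (h.mem_iff _).mp h2

/-- PIECE B4. Receptive. -/
theorem Park.isReceptive [Finite S] (h : Park p F M ι V) (hS : IsPGroup p S)
    (hF : F.IsSaturated p) {Q : Subgroup Ω} (hQM : Q ≤ M) (hfn : F.IsFullyNormalized Q) :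
    h.sys.IsReceptive Q := by
  have hQS : Q ≤ S := hQM.trans h.le
  obtain ⟨-, -, hrec⟩ := of_fullyNormalized p hS F hF hfn
  refine ⟨hQM, fun R φ hφ hφQ => ?_⟩
  have hφF : φ ∈ F.Hom R := h.hom_of_sys hφ
  obtain ⟨hRM, hφM, -⟩ := h.mem_sys.mp hφ
  obtain ⟨ψ, hψ, hψext⟩ := hrec.2 R φ hφF hφQ
  have hNle : extender M R φ ≤ extender S R φ := by
    intro g hg
    rw [mem_extender_iff] at hg ⊢
    obtain ⟨hgM, hgN, k, hkM, hk⟩ := hg
    exact ⟨h.le hgM, hgN, k, h.le hkM, hk⟩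
  have hNM : extender M R φ ≤ M := extender_le M φ
  have hNS : extender M R φ ≤ S := hNM.trans h.le
  have hRN : R ≤ extender M R φ := le_extender h.sys hφ
  have hψN : ψ.comp (Subgroup.inclusion hNle) ∈ F.Hom (extender M R φ) := restrict_mem F hNle hψ
  obtain ⟨f, hf⟩ := h.realizer hψN
  have hψNS : ∀ x : extender M R φ, (ψ.comp (Subgroup.inclusion hNle)) x ∈ S :=
    (F.le_of_mem hψN).2
  have hψNM : ∀ x : extender M R φ, (ψ.comp (Subgroup.inclusion hNle)) x ∈ M :=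
    fun x => (h.map_mem_iff hψN x).mp (hNM x.2)
  have hψNφ : ∀ x : R, (ψ.comp (Subgroup.inclusion hNle)) ⟨x, hRN x.2⟩ = φ x := by
    intro x
    exact hψext x x.2 (hNle (hRN x.2))
  -- the correcting element
  have hs : ∃ s : S, (∀ x ∈ Q, (s : Ω) * x = x * s) ∧ V (ι s) * V f = 1 := by
    by_cases hC : centralizerIn S Q ≤ M
    · refine ⟨1, fun x _ => by simp, ?_⟩
      have hdQ : Deep F M Q := h.deep_of_receptive hrec hC
      have hdR : Deep F M R := deep_of_isConj hφF hφQ hdQ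
      have hVf : V f = 1 := by
        apply h.ker_of_deep hRM hdR hφ
        intro x hx hφx
        have h1 := hf ⟨x, hRN x.2⟩ hx (hψNS _)
        have e : (⟨(ψ.comp (Subgroup.inclusion hNle)) ⟨x, hRN x.2⟩, hψNS _⟩ : S) =
            ⟨φ x, hφx⟩ := Subtype.ext (hψNφ x)
        rw [e] at h1
        exact h1
      rw [map_one, map_one, one_mul, hVf]
    · obtain ⟨z, hzC, hzM⟩ := SetLike.not_le_iff_exists.mp hC
      have hz := mem_centralizerIn.mp hzC
      obtain ⟨g, hg⟩ := h.gen f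
      obtain ⟨i, hi⟩ := h.idx ⟨z, hz.1⟩ hzM g
      refine ⟨⟨z, hz.1⟩ ^ i, ?_, ?_⟩
      · intro x hx
        have hc : Commute z x := (hz.2 x hx).symm
        exact (hc.pow_left i).eq
      · have h1 := (h.mem_iff (g * ⟨z, hz.1⟩ ^ i)).mpr hi
        rw [map_mul, map_mul, hg] at h1
        rw [mul_comm]
        exact h1
  obtain ⟨s, hsQ, hsV⟩ := hs
  -- the extension
  refine ⟨(MulAut.conj (s : Ω)).toMonoidHom.comp (ψ.comp (Subgroup.inclusion hNle)), ?_, ?_⟩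
  · rw [h.mem_sys]
    refine ⟨hNM, fun x => h.conj_mem_of_mem s.2 (hψNM x), ι s * f, ?_, ?_⟩
    · rw [map_mul]; exact hsV
    · intro x hx hφx
      have h1 := hf x hx (hψNS x)
      have e : (⟨((MulAut.conj (s : Ω)).toMonoidHom.comp (ψ.comp (Subgroup.inclusion hNle))) x,
          hφx⟩ : S) = s * ⟨(ψ.comp (Subgroup.inclusion hNle)) x, hψNS x⟩ * s⁻¹ :=
        Subtype.ext rfl
      rw [e, map_mul, map_mul, map_inv, h1]
      group
  · intro x hP hN
    have h1 : (ψ.comp (Subgroup.inclusion hNle)) ⟨x, hN⟩ = φ ⟨x, hP⟩ := hψNφ ⟨x, hP⟩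
    change (s : Ω) * (ψ.comp (Subgroup.inclusion hNle)) ⟨x, hN⟩ * (s : Ω)⁻¹ = φ ⟨x, hP⟩
    rw [h1]
    have hφQ' : φ ⟨x, hP⟩ ∈ Q := by rw [← hφQ]; exact ⟨_, rfl⟩
    rw [hsQ _ hφQ', mul_inv_cancel_right]

end PartIII

end Cfsg.Agent.Helper3.PPow
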