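import Mathlib
import Cfsg.Agent.Lib.Helper12.SL2Quat
import Cfsg.Agent.Lib.Helper25.FusionSimpCrit2

/-!
# The 2-fusion system of `PSL₂(q)`: the quaternion Sylow 2-subgroup of `SL₂(q)`
-/

set_option autoImplicit false
set_option linter.style.haveILetI false
set_option linter.unusedSectionVars false

namespace Cfsg.Agent.Helper25.PSL2Fus

open Cfsg.Agent.Helper12 Cfsg.Agent.Helper25.SimpCrit

variable {F : Type*} [Field F] [Fintype F] [DecidableEq F]
  {S : Subgroup (Matrix.SpecialLinearGroup (Fin 2) F)}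
  {c : Matrix.SpecialLinearGroup (Fin 2) F}

/-- an element of `S` outside the torus squares to `-1` -/
theorem sq_of_not_mem_torus (h : QuatData S c) (hF : ringChar F ≠ 2)
    (w : Matrix.SpecialLinearGroup (Fin 2) F) (hwS : w ∈ S) (hwT : w ∉ torus c) :
    w * w = negOneSL := by
  have h2 : (2 : F) ≠ 0 := Ring.two_ne_zero hF
  have hwc := h.inverts hF w hwS hwT
  have hinv := inverts_torus (not_scalar_of_sq h2 h.sq) w hwc
  have hwc' : w * c⁻¹ * w⁻¹ = c := by
    have : w * c⁻¹ * w⁻¹ = (w * c * w⁻¹)⁻¹ := by group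
    rw [this, hwc, inv_inv]
  have hww : w * w ∈ torus c := by
    rw [mem_torus_iff]
    have e1 : w * c = c⁻¹ * w := mul_inv_eq_iff_eq_mul.mp hwc
    have e2 : w * c⁻¹ = c * w := mul_inv_eq_iff_eq_mul.mp hwc'
    calc c * (w * w) = (c * w) * w := by rw [mul_assoc]
      _ = (w * c⁻¹) * w := by rw [e2]
      _ = w * (c⁻¹ * w) := by rw [mul_assoc]
      _ = w * (w * c) := by rw [e1]
      _ = w * w * c := by rw [mul_assoc]
  have h3 := hinv (w * w) hww
  have h4 : w * (w * w) * w⁻¹ = w * w := by group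
  rw [h4] at h3
  have h5 : (w * w) * (w * w) = 1 := by
    nth_rw 1 [h3]
    exact inv_mul_cancel _
  rcases SL2_sq_eq_one h2 (w * w) h5 with h6 | h6
  · exfalso
    rcases SL2_sq_eq_one h2 w h6 with h7 | h7
    · exact hwT (h7 ▸ Subgroup.one_mem _)
    · exact hwT (h7 ▸ negOneSL_mem_torus c)
  · exact h6

/-- Every element of `S` outside the torus is conjugate to `c`. -/
theorem exists_conj_of_not_mem_torus (h : QuatData S c) (hF : ringChar F ≠ 2)
    (w : Matrix.SpecialLinearGroup (Fin 2) F) (hwS : w ∈ S) (hwT : w ∉ torus c) :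
    ∃ u : Matrix.SpecialLinearGroup (Fin 2) F, u * c * u⁻¹ = w := by
  have h2 : (2 : F) ≠ 0 := Ring.two_ne_zero hF
  obtain ⟨u, hu, -⟩ := exists_hurwitz h2 c w h.sq (sq_of_not_mem_torus h hF w hwS hwT)
    (h.inverts hF w hwS hwT)
  exact ⟨u, hu⟩

/-- A subgroup of `S` closed under fusion and containing `c` is `S`. -/
theorem eq_of_fusClosed_of_mem (h : QuatData S c) (hF : ringChar F ≠ 2) [Finite S]
    (T : Subgroup (Matrix.SpecialLinearGroup (Fin 2) F)) (hTS : T ≤ S) (hfc : FusClosed S T)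
    (hcT : c ∈ T) : T = S := by
  apply le_antisymm hTS
  have hout : ∀ w ∈ S, w ∉ torus c → w ∈ T := by
    intro w hwS hwT
    obtain ⟨u, hu⟩ := exists_conj_of_not_mem_torus h hF w hwS hwT
    have := hfc c hcT u (hu ▸ hwS)
    rwa [hu] at this
  obtain ⟨w, hwS, hwT⟩ := h.exists_not_mem
  intro s hs
  by_cases hsT : s ∈ torus c
  · have h1 : s * w ∉ torus c := by
      intro h1
      apply hwT
      have := Subgroup.mul_mem _ (Subgroup.inv_mem _ hsT) h1
      rwa [inv_mul_cancel_left] at this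
    have h2 := hout (s * w) (S.mul_mem hs hwS) h1
    have h3 := T.mul_mem h2 (T.inv_mem (hout w hwS hwT))
    rwa [mul_inv_cancel_right] at h3
  · exact hout s hs hsT

end Cfsg.Agent.Helper25.PSL2Fus
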