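import Mathlib
import Cfsg.Agent.Lib.Helper25.PSL2Fus1

/-!
# The 2-fusion system of `PSL₂(q)`, `q² ≡ 1 (mod 16)`, is simple
-/

set_option autoImplicit false
set_option linter.style.haveILetI false
set_option linter.unusedSectionVars false

namespace Cfsg.Agent.Helper25.PSL2Fus

open Cfsg.Agent.Helper12 Cfsg.Agent.Helper25.SimpCrit

variable {F : Type*} [Field F] [Fintype F] [DecidableEq F]
  {S : Subgroup (Matrix.SpecialLinearGroup (Fin 2) F)}
  {c : Matrix.SpecialLinearGroup (Fin 2) F}

theorem pow_four_of_sq {c : Matrix.SpecialLinearGroup (Fin 2) F} (hc : c * c = negOneSL) :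
    c ^ 4 = 1 := by
  have : c ^ 4 = (c * c) * (c * c) := by
    rw [← pow_two, ← pow_two, ← pow_mul]
  rw [this, hc, negOneSL_mul_self]

/-- A fusion-closed subgroup of `S` containing a noncentral element contains `c`. -/
theorem mem_of_fusClosed (h : QuatData S c) (hF : ringChar F ≠ 2) [Finite S]
    (hS2 : IsPGroup 2 S)
    (T : Subgroup (Matrix.SpecialLinearGroup (Fin 2) F)) (hTS : T ≤ S) (hfc : FusClosed S T)
    (t : Matrix.SpecialLinearGroup (Fin 2) F) (htT : t ∈ T) (ht1 : t ≠ 1) (ht2 : t ≠ negOneSL) :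
    c ∈ T := by
  have h2 : (2 : F) ≠ 0 := Ring.two_ne_zero hF
  have hcS : c ∈ S := h.self_mem hF
  by_cases htc : t ∈ torus c
  · have htr := trace_sq_ne_of_sq h2 h.sq
    obtain ⟨hr, hcyc, -⟩ := regular_of_trace_sq_ne hF c htr
    have hKT : Subgroup.zpowers t ≤ torus c := (Subgroup.zpowers_le).mpr htc
    have hmem : c ∈ Subgroup.zpowers t := by
      apply mem_of_pow_card_eq_one' (torus c) _ hcyc hKT c (self_mem_torus c)
      rw [Nat.card_zpowers]
      obtain ⟨k, hk⟩ := hS2 ⟨t, hTS htT⟩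
      have hk' : t ^ 2 ^ k = 1 := by simpa using congrArg Subtype.val hk
      obtain ⟨j, -, hj⟩ := (Nat.dvd_prime_pow Nat.prime_two).mp (orderOf_dvd_of_pow_eq_one hk')
      have hj2 : 2 ≤ j := by
        by_contra hlt
        push_neg at hlt
        interval_cases j
        · rw [pow_zero, orderOf_eq_one_iff] at hj
          exact ht1 hj
        · have h3 : t * t = 1 := by
            have := pow_orderOf_eq_one t
            rw [hj, pow_one, pow_two] at this
            exact this
          rcases SL2_sq_eq_one h2 t h3 with h4 | h4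
          · exact ht1 h4
          · exact ht2 h4
      obtain ⟨i, rfl⟩ : ∃ i, j = i + 2 := ⟨j - 2, by omega⟩
      rw [hj, pow_add, mul_comm, pow_mul]
      have : (2 : ℕ) ^ 2 = 4 := by norm_num
      rw [this, pow_four_of_sq h.sq, one_pow]
    exact (Subgroup.zpowers_le.mpr htT) hmem
  · obtain ⟨u, hu⟩ := exists_conj_of_not_mem_torus h hF t (hTS htT) htc
    have e : u⁻¹ * t * u⁻¹⁻¹ = c := by rw [← hu]; group
    have := hfc t htT u⁻¹ (e ▸ hcS)
    rwa [e] at this

/-- the key statement at the level of `SL₂` -/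
theorem eq_of_fusClosed (h : QuatData S c) (hF : ringChar F ≠ 2) [Finite S]
    (hS2 : IsPGroup 2 S)
    (T : Subgroup (Matrix.SpecialLinearGroup (Fin 2) F)) (hTS : T ≤ S) (hfc : FusClosed S T)
    (t : Matrix.SpecialLinearGroup (Fin 2) F) (htT : t ∈ T) (ht1 : t ≠ 1) (ht2 : t ≠ negOneSL) :
    T = S :=
  eq_of_fusClosed_of_mem h hF T hTS hfc (mem_of_fusClosed h hF hS2 T hTS hfc t htT ht1 ht2)

theorem center_le (h : QuatData S c) (hF : ringChar F ≠ 2) :
    Subgroup.center (Matrix.SpecialLinearGroup (Fin 2) F) ≤ S := by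
  intro z hz
  rcases (isScalar2_iff_eq z).1 (isScalar2_of_mem_center z hz) with h1 | h1
  · rw [h1]; exact Subgroup.one_mem _
  · rw [h1, ← h.sq]
    exact S.mul_mem (h.self_mem hF) (h.self_mem hF)

theorem eight_dvd_card_torus (h16 : 16 ∣ Fintype.card F ^ 2 - 1)
    (P : Sylow 2 (Matrix.SpecialLinearGroup (Fin 2) F))
    (h : QuatData (P : Subgroup (Matrix.SpecialLinearGroup (Fin 2) F)) c) :
    8 ∣ Nat.card (torus c) := by
  have hcard := P.card_eq_multiplicity
  have hSL := card_SL2_factored (F := F)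
  have hq1 : 1 ≤ Fintype.card F := Fintype.card_pos
  have h16' : 2 ^ 4 ∣ Nat.card (Matrix.SpecialLinearGroup (Fin 2) F) := by
    rw [hSL]
    apply Dvd.dvd.mul_left
    have e : (Fintype.card F - 1) * (Fintype.card F + 1) = Fintype.card F ^ 2 - 1 := by
      obtain ⟨m, hm⟩ : ∃ m, Fintype.card F = m + 1 := ⟨Fintype.card F - 1, by omega⟩
      rw [hm]
      simp only [Nat.add_sub_cancel]
      have : (m + 1) ^ 2 = m * (m + 1 + 1) + 1 := by ring
      rw [this, Nat.add_sub_cancel]
    rw [e]
    exact h16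
  have hv : 4 ≤ (Nat.card (Matrix.SpecialLinearGroup (Fin 2) F)).factorization 2 :=
    (Nat.Prime.pow_dvd_iff_le_factorization Nat.prime_two Nat.card_pos.ne').mp h16'
  have h1 := h.card
  rw [h.cardT, hcard] at h1
  have h2 : (Nat.card (Matrix.SpecialLinearGroup (Fin 2) F)).factorization 2 =
      (Nat.card (torus c)).factorization 2 + 1 := by
    have : 2 ^ (Nat.card (Matrix.SpecialLinearGroup (Fin 2) F)).factorization 2 =
        2 ^ ((Nat.card (torus c)).factorization 2 + 1) := by
      rw [h1, pow_succ, mul_comm]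
    exact Nat.pow_right_injective (le_refl 2) this
  have h3 : 3 ≤ (Nat.card (torus c)).factorization 2 := by omega
  have : (8 : ℕ) = 2 ^ 3 := by norm_num
  rw [this]
  exact (pow_dvd_pow 2 h3).trans (Nat.ordProj_dvd _ 2)

end Cfsg.Agent.Helper25.PSL2Fus
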