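import Mathlib
import Cfsg.Agent.Lib.Helper25.PSL2Fus2

/-!
# The 2-fusion system of `PSL₂(q)`, `q² ≡ 1 (mod 16)`: passing to `PSL₂`
-/

set_option autoImplicit false
set_option linter.style.haveILetI false
set_option linter.unusedSectionVars false

namespace Cfsg.Agent.Helper25.PSL2Fus

open Cfsg.Agent.Helper12 Cfsg.Agent.Helper25.SimpCrit

variable {F : Type*} [Field F] [Fintype F]

/-- the projection `SL₂ → PSL₂` -/
def proj2 (F : Type*) [Field F] [Fintype F] :
    Matrix.SpecialLinearGroup (Fin 2) F →* Matrix.ProjectiveSpecialLinearGroup (Fin 2) F :=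
  QuotientGroup.mk' (Subgroup.center (Matrix.SpecialLinearGroup (Fin 2) F))

theorem proj2_surjective : Function.Surjective (proj2 F) :=
  QuotientGroup.mk'_surjective _

theorem proj2_eq_one_iff {x : Matrix.SpecialLinearGroup (Fin 2) F} :
    proj2 F x = 1 ↔ x ∈ Subgroup.center (Matrix.SpecialLinearGroup (Fin 2) F) :=
  QuotientGroup.eq_one_iff x

theorem mem_of_proj2_mem {P : Subgroup (Matrix.SpecialLinearGroup (Fin 2) F)}
    (hZ : Subgroup.center (Matrix.SpecialLinearGroup (Fin 2) F) ≤ P)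
    {x : Matrix.SpecialLinearGroup (Fin 2) F} (hx : proj2 F x ∈ P.map (proj2 F)) : x ∈ P := by
  obtain ⟨s, hs, hsx⟩ := hx
  have h1 : s⁻¹ * x ∈ Subgroup.center (Matrix.SpecialLinearGroup (Fin 2) F) := by
    rw [← proj2_eq_one_iff, map_mul, map_inv, hsx, inv_mul_cancel]
  have := P.mul_mem hs (hZ h1)
  rwa [mul_inv_cancel_left] at this

theorem mem_map_proj2_iff {P : Subgroup (Matrix.SpecialLinearGroup (Fin 2) F)}
    (hZ : Subgroup.center (Matrix.SpecialLinearGroup (Fin 2) F) ≤ P)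
    {x : Matrix.SpecialLinearGroup (Fin 2) F} : proj2 F x ∈ P.map (proj2 F) ↔ x ∈ P :=
  ⟨mem_of_proj2_mem hZ, fun h => ⟨x, h, rfl⟩⟩

/-- The data for the simplicity criterion. -/
theorem exists_data (hodd : Fintype.card F % 2 = 1) (h16 : 16 ∣ Fintype.card F ^ 2 - 1) :
    ∃ S₀ : Sylow 2 (Matrix.ProjectiveSpecialLinearGroup (Fin 2) F),
      (S₀ : Subgroup (Matrix.ProjectiveSpecialLinearGroup (Fin 2) F)) ≠ ⊥ ∧
      NoClosed (S₀ : Subgroup (Matrix.ProjectiveSpecialLinearGroup (Fin 2) F)) ∧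
      AutGen 2 (S₀ : Subgroup (Matrix.ProjectiveSpecialLinearGroup (Fin 2) F)) := by
  classical
  have hodd' : Odd (Fintype.card F) := Nat.odd_iff.mpr hodd
  have hF : ringChar F ≠ 2 := by
    intro h
    have := FiniteField.even_card_of_char_two h
    rw [Nat.odd_iff] at hodd'
    omega
  have h2 : (2 : F) ≠ 0 := Ring.two_ne_zero hF
  obtain ⟨P⟩ : Nonempty (Sylow 2 (Matrix.SpecialLinearGroup (Fin 2) F)) := inferInstance
  obtain ⟨c, h⟩ := exists_quatData hodd' P
  have h8 := eight_dvd_card_torus h16 P h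
  have hN := h.normalizer_eq hF h8
  have hZ := center_le h hF
  have hcoe : ((P.mapSurjective (proj2_surjective (F := F)) : Sylow 2 _) :
      Subgroup (Matrix.ProjectiveSpecialLinearGroup (Fin 2) F)) =
      (P : Subgroup (Matrix.SpecialLinearGroup (Fin 2) F)).map (proj2 F) := rfl
  refine ⟨P.mapSurjective (proj2_surjective (F := F)), ?_, ?_, ?_⟩
  · rw [hcoe]
    intro hbot
    have h1 : proj2 F c ∈ (P : Subgroup (Matrix.SpecialLinearGroup (Fin 2) F)).map (proj2 F) :=
      ⟨c, h.self_mem hF, rfl⟩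
    rw [hbot, Subgroup.mem_bot, proj2_eq_one_iff] at h1
    exact not_scalar_of_sq h2 h.sq (isScalar2_of_mem_center c h1)
  · rw [hcoe]
    intro Tbar hTS hTne hTc
    have hT : Tbar.comap (proj2 F) = (P : Subgroup (Matrix.SpecialLinearGroup (Fin 2) F)) := by
      obtain ⟨tbar, htbar, htbar1⟩ := (Subgroup.ne_bot_iff_exists_ne_one).mp hTne |>.imp
        (fun a => id) |> fun ⟨a, ha⟩ => (⟨a.1, a.2, fun h => ha (Subtype.ext h)⟩ :
          ∃ t : Matrix.ProjectiveSpecialLinearGroup (Fin 2) F, t ∈ Tbar ∧ t ≠ 1)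
      obtain ⟨t, rfl⟩ := proj2_surjective tbar
      apply eq_of_fusClosed h hF P.isPGroup' (Tbar.comap (proj2 F)) ?_ ?_ t htbar ?_ ?_
      · intro x hx
        exact mem_of_proj2_mem hZ (hTS hx)
      · intro x hx g hg
        show proj2 F (g * x * g⁻¹) ∈ Tbar
        rw [map_mul, map_mul, map_inv]
        apply hTc _ hx
        rw [← map_inv, ← map_mul, ← map_mul]
        exact ⟨_, hg, rfl⟩
      · intro h1
        apply htbar1
        rw [h1, map_one]
      · intro h1
        apply htbar1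
        rw [h1, proj2_eq_one_iff]
        exact negOneSL_mem_center
    apply le_antisymm hTS
    rw [Subgroup.map_le_iff_le_comap, hT]
  · rw [hcoe]
    intro gbar hgbar
    obtain ⟨g, rfl⟩ := proj2_surjective gbar
    have hgN : g ∈ Subgroup.normalizer
        ((P : Subgroup (Matrix.SpecialLinearGroup (Fin 2) F)) : Set _) := by
      rw [Subgroup.mem_normalizer_iff]
      intro s
      rw [← mem_map_proj2_iff hZ, Subgroup.mem_normalizer_iff.mp hgbar (proj2 F s),
        ← mem_map_proj2_iff hZ (x := g * s * g⁻¹), map_mul, map_mul, map_inv]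
    rw [hN] at hgN
    exact Subgroup.subset_closure (Or.inl ⟨g, hgN, rfl⟩)

end Cfsg.Agent.Helper25.PSL2Fus
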