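import Mathlib

/-!
# The unitriangular subgroup of `SL_n(K)`
-/

set_option autoImplicit false
set_option linter.style.haveILetI false
set_option linter.unusedSectionVars false

namespace Cfsg.Agent.Helper25.PSLFus

open Matrix

variable {K : Type*} [Field K] {n : ℕ}

/-- upper triangular -/
def IsUpper (M : Matrix (Fin n) (Fin n) K) : Prop := ∀ i j, j < i → M i j = 0

/-- upper unitriangular -/
def IsUni (M : Matrix (Fin n) (Fin n) K) : Prop := IsUpper M ∧ ∀ i, M i i = 1

theorem IsUpper.one : IsUpper (1 : Matrix (Fin n) (Fin n) K) := by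
  intro i j hji
  exact Matrix.one_apply_ne (ne_of_gt hji)

theorem IsUni.one : IsUni (1 : Matrix (Fin n) (Fin n) K) :=
  ⟨IsUpper.one, fun i => Matrix.one_apply_eq i⟩

theorem IsUpper.mul {M N : Matrix (Fin n) (Fin n) K} (hM : IsUpper M) (hN : IsUpper N) :
    IsUpper (M * N) := by
  intro i j hji
  rw [Matrix.mul_apply]
  apply Finset.sum_eq_zero
  intro k _
  by_cases hk : k < i
  · rw [hM i k hk, zero_mul]
  · rw [hN k j (lt_of_lt_of_le hji (not_lt.mp hk)), mul_zero]

theorem IsUpper.mul_diag {M N : Matrix (Fin n) (Fin n) K} (hM : IsUpper M) (hN : IsUpper N)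
    (i : Fin n) : (M * N) i i = M i i * N i i := by
  rw [Matrix.mul_apply]
  apply Finset.sum_eq_single i
  · intro k _ hki
    rcases lt_or_gt_of_ne hki with hk | hk
    · rw [hM i k hk, zero_mul]
    · rw [hN k i hk, mul_zero]
  · intro h; exact absurd (Finset.mem_univ i) h

theorem IsUni.mul {M N : Matrix (Fin n) (Fin n) K} (hM : IsUni M) (hN : IsUni N) :
    IsUni (M * N) :=
  ⟨hM.1.mul hN.1, fun i => by rw [hM.1.mul_diag hN.1, hM.2, hN.2, one_mul]⟩

theorem IsUpper.pow {M : Matrix (Fin n) (Fin n) K} (hM : IsUpper M) (k : ℕ) :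
    IsUpper (M ^ k) ∧ ∀ i, (M ^ k) i i = (M i i) ^ k := by
  induction k with
  | zero => exact ⟨by rw [pow_zero]; exact IsUpper.one, fun i => by rw [pow_zero, pow_zero]; exact Matrix.one_apply_eq i⟩
  | succ k ih =>
    refine ⟨by rw [pow_succ]; exact ih.1.mul hM, fun i => ?_⟩
    rw [pow_succ, ih.1.mul_diag hM, ih.2, pow_succ]

variable [Fintype K]

theorem val_mul (a b : SpecialLinearGroup (Fin n) K) : (a * b).1 = a.1 * b.1 := rfl

theorem val_one : (1 : SpecialLinearGroup (Fin n) K).1 = 1 := rfl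

theorem val_pow (a : SpecialLinearGroup (Fin n) K) (k : ℕ) : (a ^ k).1 = a.1 ^ k := by
  induction k with
  | zero => rw [pow_zero, pow_zero, val_one]
  | succ k ih => rw [pow_succ, pow_succ, val_mul, ih]

theorem inv_eq_pow (a : SpecialLinearGroup (Fin n) K) : a⁻¹ = a ^ (orderOf a - 1) := by
  apply inv_eq_of_mul_eq_one_left
  rw [← pow_succ, Nat.sub_add_cancel (orderOf_pos a), pow_orderOf_eq_one]

/-- The unitriangular subgroup. -/
def U (n : ℕ) (K : Type*) [Field K] [Fintype K] : Subgroup (SpecialLinearGroup (Fin n) K) where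
  carrier := {g | IsUni g.1}
  mul_mem' := by
    intro a b ha hb
    show IsUni (a * b).1
    rw [val_mul]
    exact IsUni.mul ha hb
  one_mem' := by
    show IsUni (1 : SpecialLinearGroup (Fin n) K).1
    rw [val_one]
    exact IsUni.one
  inv_mem' := by
    intro a ha
    have hpow : ∀ k : ℕ, IsUni (a ^ k).1 := by
      intro k
      induction k with
      | zero => rw [pow_zero, val_one]; exact IsUni.one
      | succ k ih => rw [pow_succ, val_mul]; exact IsUni.mul ih ha
    show IsUni (a⁻¹).1
    rw [inv_eq_pow a]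
    exact hpow _

theorem mem_U {g : SpecialLinearGroup (Fin n) K} : g ∈ U n K ↔ IsUni g.1 := Iff.rfl

/-- The upper triangular (Borel) subgroup. -/
def B (n : ℕ) (K : Type*) [Field K] [Fintype K] : Subgroup (SpecialLinearGroup (Fin n) K) where
  carrier := {g | IsUpper g.1}
  mul_mem' := by
    intro a b ha hb
    show IsUpper (a * b).1
    rw [val_mul]
    exact IsUpper.mul ha hb
  one_mem' := by
    show IsUpper (1 : SpecialLinearGroup (Fin n) K).1
    rw [val_one]
    exact IsUpper.one
  inv_mem' := by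
    intro a ha
    have hpow : ∀ k : ℕ, IsUpper (a ^ k).1 := by
      intro k
      induction k with
      | zero => rw [pow_zero, val_one]; exact IsUpper.one
      | succ k ih => rw [pow_succ, val_mul]; exact IsUpper.mul ih ha
    show IsUpper (a⁻¹).1
    rw [inv_eq_pow a]
    exact hpow _

theorem mem_B {g : SpecialLinearGroup (Fin n) K} : g ∈ B n K ↔ IsUpper g.1 := Iff.rfl

theorem U_le_B : U n K ≤ B n K := fun _ hg => hg.1

/-- transvections as elements of `SL_n` -/
def tv (i j : Fin n) (h : i ≠ j) (c : K) : SpecialLinearGroup (Fin n) K :=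
  ⟨transvection i j c, det_transvection_of_ne i j h c⟩

theorem val_tv (i j : Fin n) (h : i ≠ j) (c : K) : (tv i j h c).1 = transvection i j c := rfl

theorem tv_apply (i j : Fin n) (h : i ≠ j) (c : K) (r s : Fin n) :
    (tv i j h c).1 r s = (if r = s then 1 else 0) + (if i = r ∧ j = s then c else 0) := by
  rw [val_tv, transvection, Matrix.add_apply, Matrix.one_apply, Matrix.single_apply]

theorem tv_mul_tv (i j : Fin n) (h : i ≠ j) (a b : K) :
    tv i j h a * tv i j h b = tv i j h (a + b) := by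
  apply Subtype.ext
  rw [val_mul, val_tv, val_tv, val_tv, transvection_mul_transvection_same i j h]

theorem tv_zero (i j : Fin n) (h : i ≠ j) : tv i j h (0 : K) = 1 := by
  apply Subtype.ext
  rw [val_tv, transvection_zero, val_one]

theorem tv_inv (i j : Fin n) (h : i ≠ j) (c : K) : (tv i j h c)⁻¹ = tv i j h (-c) := by
  apply inv_eq_of_mul_eq_one_left
  rw [tv_mul_tv, neg_add_cancel, tv_zero]

theorem tv_pow (i j : Fin n) (h : i ≠ j) (c : K) (k : ℕ) :
    (tv i j h c) ^ k = tv i j h (k * c) := by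
  induction k with
  | zero => rw [pow_zero, Nat.cast_zero, zero_mul, tv_zero]
  | succ k ih => rw [pow_succ, ih, tv_mul_tv]; congr 1; push_cast; ring

theorem tv_pow_char (p : ℕ) [CharP K p] (i j : Fin n) (h : i ≠ j) (c : K) :
    (tv i j h c) ^ p = 1 := by
  rw [tv_pow, CharP.cast_eq_zero, zero_mul, tv_zero]

theorem tv_mem_U {i j : Fin n} (hij : i < j) (c : K) : tv i j (ne_of_lt hij) c ∈ U n K := by
  rw [mem_U]
  refine ⟨fun r s hsr => ?_, fun r => ?_⟩
  · rw [tv_apply, if_neg (ne_of_gt hsr), if_neg, add_zero]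
    rintro ⟨rfl, rfl⟩
    exact absurd hij (not_lt.mpr (le_of_lt hsr))
  · rw [tv_apply, if_pos rfl, if_neg, add_zero]
    rintro ⟨rfl, h2⟩
    exact absurd h2.symm (ne_of_lt hij)

end Cfsg.Agent.Helper25.PSLFus
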