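import Mathlib
import Cfsg.Agent.Lib.Helper25.PSLFus1
import Cfsg.Agent.Lib.Helper25.FusionInner

/-!
# The unitriangular subgroup is a Sylow subgroup with normalizer the Borel subgroup
-/

set_option autoImplicit false
set_option linter.style.haveILetI false
set_option linter.unusedSectionVars false

namespace Cfsg.Agent.Helper25.PSLFus

open Matrix

variable {K : Type*} [Field K] {n : ℕ}

/-- powers of strictly upper triangular matrices -/
theorem pow_apply_eq_zero {N : Matrix (Fin n) (Fin n) K} (hN : ∀ i j, j ≤ i → N i j = 0) :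
    ∀ (k : ℕ) (i j : Fin n), j.val < i.val + k → (N ^ k) i j = 0 := by
  intro k
  induction k with
  | zero =>
    intro i j hij
    rw [pow_zero]
    apply Matrix.one_apply_ne
    intro h; subst h; omega
  | succ k ih =>
    intro i j hij
    rw [pow_succ, Matrix.mul_apply]
    apply Finset.sum_eq_zero
    intro l _
    by_cases hl : l.val < i.val + k
    · rw [ih i l hl, zero_mul]
    · rw [hN l j (Fin.le_def.mpr (by omega)), mul_zero]

theorem pow_eq_zero_of_strict {N : Matrix (Fin n) (Fin n) K} (hN : ∀ i j, j ≤ i → N i j = 0)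
    {m : ℕ} (hm : n ≤ m) : N ^ m = 0 := by
  ext i j
  rw [pow_apply_eq_zero hN m i j (by have := j.2; omega)]
  rfl

variable [Fintype K]

theorem U_isPGroup (p : ℕ) [Fact p.Prime] [CharP K p] [NeZero n] : IsPGroup p (U n K) := by
  intro g
  refine ⟨n, ?_⟩
  apply Subtype.ext
  apply Subtype.ext
  show ((g : SpecialLinearGroup (Fin n) K) ^ p ^ n).1 = (1 : SpecialLinearGroup (Fin n) K).1
  rw [val_pow, val_one]
  have hg : IsUni (g : SpecialLinearGroup (Fin n) K).1 := g.2
  have hN : ∀ i j : Fin n, j ≤ i → ((g : SpecialLinearGroup (Fin n) K).1 - 1) i j = 0 := by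
    intro i j hji
    rw [Matrix.sub_apply]
    rcases eq_or_lt_of_le hji with h | h
    · subst h; rw [hg.2, Matrix.one_apply_eq, sub_self]
    · rw [hg.1 i j h, Matrix.one_apply_ne (ne_of_gt h), sub_self]
  have h1 : (g : SpecialLinearGroup (Fin n) K).1 =
      ((g : SpecialLinearGroup (Fin n) K).1 - 1) + 1 := by abel
  rw [h1, add_pow_char_pow_of_commute p n (Commute.one_right _), one_pow,
    pow_eq_zero_of_strict hN (le_of_lt (Nat.lt_pow_self (Fact.out : p.Prime).one_lt)), zero_add]

/-- the subspaces `⟨e_0, …, e_{k-1}⟩` -/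
def W (k : ℕ) (v : Fin n → K) : Prop := ∀ r : Fin n, k ≤ r.val → v r = 0

theorem W_step {M : Matrix (Fin n) (Fin n) K} (hM : IsUni M) {k : ℕ} {v : Fin n → K}
    (hv : W (k + 1) v) : W k (M *ᵥ v - v) := by
  intro r hr
  rw [Pi.sub_apply, Matrix.mulVec, dotProduct]
  have h1 : ∑ s, M r s * v s = v r := by
    rw [Finset.sum_eq_single r]
    · rw [hM.2, one_mul]
    · intro s _ hsr
      rcases lt_or_gt_of_ne hsr with h | h
      · rw [hM.1 r s h, zero_mul]
      · rw [hv s (by have := Fin.lt_def.mp h; omega), mul_zero]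
    · intro h; exact absurd (Finset.mem_univ r) h
  rw [h1, sub_self]

theorem W_of_forall {k : ℕ} {v : Fin n → K}
    (h : ∀ g ∈ U n K, W k (g.1 *ᵥ v - v)) : W (k + 1) v := by
  intro r hr
  have hr0 : 0 < r.val := by omega
  obtain ⟨r', hr'⟩ : ∃ r' : Fin n, r'.val + 1 = r.val := ⟨⟨r.val - 1, by have := r.2; omega⟩, by
    show r.val - 1 + 1 = r.val
    omega⟩
  have hlt : r' < r := Fin.lt_def.mpr (by omega)
  have h1 := h _ (tv_mem_U hlt 1) r' (by omega)
  rw [Pi.sub_apply, Matrix.mulVec, dotProduct] at h1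
  have h2 : ∑ s, (tv r' r (ne_of_lt hlt) (1 : K)).1 r' s * v s = v r' + v r := by
    rw [Finset.sum_eq_add r' r (ne_of_lt hlt)]
    · rw [tv_apply, tv_apply, if_pos rfl, if_neg (by rintro ⟨-, h⟩; exact (ne_of_lt hlt) h.symm),
        if_neg (ne_of_lt hlt), if_pos ⟨rfl, rfl⟩]
      ring
    · intro s _ hs
      rw [tv_apply, if_neg (Ne.symm hs.1), if_neg (by rintro ⟨-, h⟩; exact hs.2 h.symm)]
      ring
    · intro h; exact absurd (Finset.mem_univ _) h
    · intro h; exact absurd (Finset.mem_univ _) h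
  rw [h2] at h1
  linear_combination h1

/-- The normalizer of `U` is contained in `B`. -/
theorem normalizer_U_le : Subgroup.normalizer ((U n K : Subgroup _) : Set _) ≤ B n K := by
  intro g hg
  have hginv : g⁻¹ ∈ Subgroup.normalizer ((U n K : Subgroup _) : Set _) := Subgroup.inv_mem _ hg
  have hW : ∀ (k : ℕ) (v : Fin n → K), W k v → W k (g.1 *ᵥ v) := by
    intro k
    induction k with
    | zero =>
      intro v hv
      have : v = 0 := by
        ext r; exact hv r (Nat.zero_le _)
      rw [this, Matrix.mulVec_zero]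
      intro r _; rfl
    | succ k ih =>
      intro v hv
      apply W_of_forall
      intro M hM
      have hM' : g⁻¹ * M * g⁻¹⁻¹ ∈ U n K := (Subgroup.mem_normalizer_iff.mp hginv M).mp hM
      rw [inv_inv] at hM'
      have h1 := ih _ (W_step (mem_U.mp hM') hv)
      have h2 : g.1 *ᵥ ((g⁻¹ * M * g).1 *ᵥ v - v) = M.1 *ᵥ (g.1 *ᵥ v) - g.1 *ᵥ v := by
        have e : g * (g⁻¹ * M * g) = M * g := by group
        rw [Matrix.mulVec_sub, Matrix.mulVec_mulVec, Matrix.mulVec_mulVec, ← val_mul, ← val_mul, e]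
      rwa [h2] at h1
  rw [mem_B]
  intro i j hji
  have h1 := hW (j.val + 1) (Pi.single j 1) (by
    intro r hr
    rw [Pi.single_apply, if_neg]
    intro h; subst h; omega)
  have h2 := h1 i (Fin.lt_def.mp hji)
  rwa [Matrix.mulVec_single_one] at h2

/-- `p`-elements of `B` lie in `U`. -/
theorem mem_U_of_pow (p : ℕ) [Fact p.Prime] [CharP K p] {g : SpecialLinearGroup (Fin n) K}
    (hg : g ∈ B n K) {k : ℕ} (hk : g ^ p ^ k = 1) : g ∈ U n K := by
  rw [mem_U]
  refine ⟨hg, fun i => ?_⟩
  have h1 : (g ^ p ^ k).1 i i = 1 := by rw [hk, val_one, Matrix.one_apply_eq]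
  rw [val_pow, ((mem_B.mp hg).pow (p ^ k)).2] at h1
  have h2 : (g.1 i i - 1) ^ p ^ k = 0 := by
    rw [sub_pow_char_pow, h1, one_pow, sub_self]
  have := pow_eq_zero_iff (pow_ne_zero k (Fact.out : p.Prime).ne_zero) |>.mp h2
  exact sub_eq_zero.mp this

/-- `U` as a Sylow subgroup. -/
noncomputable def USylow (p : ℕ) [Fact p.Prime] [CharP K p] [NeZero n] :
    Sylow p (SpecialLinearGroup (Fin n) K) where
  toSubgroup := U n K
  isPGroup' := U_isPGroup p
  is_maximal' := by
    intro Q hQ hUQ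
    by_contra hne
    haveI : Finite Q := inferInstance
    obtain ⟨g, hgN, hgU⟩ := Cfsg.Agent.Helper25.exists_mem_normalizerIn_not_mem hQ hUQ
      (fun h => hne h.symm)
    obtain ⟨hgQ, hgN'⟩ := Cfsg.Agent.Helper25.mem_normalizerIn.mp hgN
    apply hgU
    obtain ⟨k, hk⟩ := hQ ⟨g, hgQ⟩
    have hk' : g ^ p ^ k = 1 := by
      have := congrArg Subtype.val hk
      simpa using this
    exact mem_U_of_pow p (normalizer_U_le hgN') hk'

theorem coe_USylow (p : ℕ) [Fact p.Prime] [CharP K p] [NeZero n] :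
    ((USylow p : Sylow p (SpecialLinearGroup (Fin n) K)) : Subgroup _) = U n K := rfl

end Cfsg.Agent.Helper25.PSLFus
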