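import Mathlib
import Cfsg.Agent.Lib.Helper25.PSLFus2

/-!
# Generation of the unitriangular group by transvections
-/

set_option autoImplicit false
set_option linter.style.haveILetI false
set_option linter.unusedSectionVars false

namespace Cfsg.Agent.Helper25.PSLFus

open Matrix

variable {K : Type*} [Field K] [Fintype K] {n : ℕ}

/-- the upper transvections -/
def Tset (n : ℕ) (K : Type*) [Field K] [Fintype K] : Set (SpecialLinearGroup (Fin n) K) :=
  {x | ∃ (i j : Fin n) (h : i < j) (c : K), x = tv i j (ne_of_lt h) c}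

open Classical in
/-- the support above the diagonal -/
noncomputable def supp (g : SpecialLinearGroup (Fin n) K) : Finset (Fin n × Fin n) :=
  Finset.univ.filter (fun ij => ij.1 < ij.2 ∧ g.1 ij.1 ij.2 ≠ 0)

open Classical in
theorem mem_supp {g : SpecialLinearGroup (Fin n) K} {ij : Fin n × Fin n} :
    ij ∈ supp g ↔ ij.1 < ij.2 ∧ g.1 ij.1 ij.2 ≠ 0 := by
  unfold supp
  rw [Finset.mem_filter]
  exact ⟨fun h => h.2, fun h => ⟨Finset.mem_univ _, h⟩⟩

theorem eq_one_of_supp_empty {g : SpecialLinearGroup (Fin n) K} (hg : g ∈ U n K)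
    (h : supp g = ∅) : g = 1 := by
  apply Subtype.ext
  rw [val_one]
  ext r s
  rcases lt_trichotomy r s with hrs | hrs | hrs
  · rw [Matrix.one_apply_ne (ne_of_lt hrs)]
    by_contra hne
    have : (r, s) ∈ supp g := mem_supp.mpr ⟨hrs, hne⟩
    rw [h] at this
    exact absurd this (Finset.notMem_empty _)
  · subst hrs
    rw [hg.2, Matrix.one_apply_eq]
  · rw [hg.1 r s hrs, Matrix.one_apply_ne (ne_of_gt hrs)]

theorem U_le_closure : U n K ≤ Subgroup.closure (Tset n K) := by
  have key : ∀ (d : ℕ) (g : SpecialLinearGroup (Fin n) K), g ∈ U n K → (supp g).card = d →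
      g ∈ Subgroup.closure (Tset n K) := by
    intro d
    induction d using Nat.strong_induction_on with
    | _ d ih =>
    intro g hg hd
    by_cases hemp : supp g = ∅
    · rw [eq_one_of_supp_empty hg hemp]
      exact Subgroup.one_mem _
    · obtain ⟨ij, hij, hmax⟩ := Finset.exists_max_image (supp g) (fun ij => ij.1)
        (Finset.nonempty_iff_ne_empty.mpr hemp)
      obtain ⟨hlt, hne⟩ := mem_supp.mp hij
      -- row `ij.2` of `g` is standard
      have hrow : ∀ s, g.1 ij.2 s = if ij.2 = s then 1 else 0 := by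
        intro s
        rcases lt_trichotomy ij.2 s with h | h | h
        · rw [if_neg (ne_of_lt h)]
          by_contra hcon
          have h1 : (ij.2, s) ∈ supp g := mem_supp.mpr ⟨h, hcon⟩
          have h2 := hmax _ h1
          exact absurd (lt_of_lt_of_le hlt h2) (lt_irrefl _)
        · subst h
          rw [if_pos rfl, hg.2]
        · rw [if_neg (ne_of_gt h), hg.1 _ _ h]
      have hval : ∀ r s, (tv ij.1 ij.2 (ne_of_lt hlt) (-(g.1 ij.1 ij.2)) * g).1 r s =
          if (r, s) = ij then 0 else g.1 r s := by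
        intro r s
        rw [val_mul, val_tv]
        by_cases hr : r = ij.1
        · subst hr
          rw [transvection_mul_apply_same, hrow]
          by_cases hs : s = ij.2
          · subst hs
            rw [if_pos rfl, if_pos (Prod.ext rfl rfl)]
            ring
          · rw [if_neg (Ne.symm hs), if_neg (fun h => hs (congrArg Prod.snd h)), mul_zero, add_zero]
        · rw [transvection_mul_apply_of_ne _ _ _ _ hr, if_neg (fun h => hr (congrArg Prod.fst h))]
      have hg' : tv ij.1 ij.2 (ne_of_lt hlt) (-(g.1 ij.1 ij.2)) * g ∈ U n K :=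
        Subgroup.mul_mem _ (tv_mem_U hlt _) hg
      have hsupp : supp (tv ij.1 ij.2 (ne_of_lt hlt) (-(g.1 ij.1 ij.2)) * g) =
          (supp g).erase ij := by
        ext kl
        rw [mem_supp, Finset.mem_erase, mem_supp, hval]
        by_cases hkl : kl = ij
        · subst hkl
          rw [if_pos rfl]
          exact ⟨fun h => absurd rfl h.2, fun h => absurd rfl h.1⟩
        · rw [if_neg (fun h => hkl (by rw [← h]))]
          exact ⟨fun h => ⟨hkl, h⟩, fun h => h.2⟩
      have hcard : (supp (tv ij.1 ij.2 (ne_of_lt hlt) (-(g.1 ij.1 ij.2)) * g)).card < d := by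
        rw [hsupp, Finset.card_erase_of_mem hij, ← hd]
        exact Nat.sub_lt (Finset.card_pos.mpr ⟨ij, hij⟩) Nat.one_pos
      have h1 := ih _ hcard _ hg' rfl
      have h2 : g = tv ij.1 ij.2 (ne_of_lt hlt) (g.1 ij.1 ij.2) *
          (tv ij.1 ij.2 (ne_of_lt hlt) (-(g.1 ij.1 ij.2)) * g) := by
        rw [← mul_assoc, tv_mul_tv, add_neg_cancel, tv_zero, one_mul]
      rw [h2]
      exact Subgroup.mul_mem _ (Subgroup.subset_closure ⟨ij.1, ij.2, hlt, _, rfl⟩) h1
  intro g hg
  exact key _ g hg rfl

end Cfsg.Agent.Helper25.PSLFus
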