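import Mathlib
import Cfsg.Agent.Lib.Helper25.PSLFus3
import Cfsg.Agent.Lib.Helper19.PGroupBasic

/-!
# Fusion-closed subgroups of the unitriangular group
-/

set_option autoImplicit false
set_option linter.style.haveILetI false
set_option linter.unusedSectionVars false

namespace Cfsg.Agent.Helper25.PSLFus

open Matrix

variable {K : Type*} [Field K] [Fintype K] {n : ℕ}

/-- diagonal elements of `SL_n` -/
def dg (f : Fin n → K) (hf : ∏ i, f i = 1) : SpecialLinearGroup (Fin n) K :=
  ⟨Matrix.diagonal f, by rw [Matrix.det_diagonal, hf]⟩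

theorem val_dg (f : Fin n → K) (hf : ∏ i, f i = 1) : (dg f hf).1 = Matrix.diagonal f := rfl

theorem dg_ne_zero {f : Fin n → K} (hf : ∏ i, f i = 1) (j : Fin n) : f j ≠ 0 := by
  intro h
  have : ∏ i, f i = 0 := Finset.prod_eq_zero (Finset.mem_univ j) h
  rw [hf] at this
  exact one_ne_zero this

theorem dg_mul_tv (f : Fin n → K) (hf : ∏ i, f i = 1) (i j : Fin n) (h : i ≠ j) (c : K) :
    dg f hf * tv i j h c = tv i j h (f i * c * (f j)⁻¹) * dg f hf := by
  apply Subtype.ext
  rw [val_mul, val_mul, val_dg]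
  ext r s
  rw [Matrix.diagonal_mul, Matrix.mul_diagonal, tv_apply, tv_apply]
  by_cases h1 : r = s
  · subst h1
    rw [if_pos rfl, if_neg (fun hh => h (hh.1.trans hh.2.symm)),
      if_neg (fun hh => h (hh.1.trans hh.2.symm))]
    ring
  · rw [if_neg h1]
    by_cases h2 : i = r ∧ j = s
    · obtain ⟨rfl, rfl⟩ := h2
      rw [if_pos ⟨rfl, rfl⟩, if_pos ⟨rfl, rfl⟩]
      have := dg_ne_zero hf j
      field_simp
      ring
    · rw [if_neg h2, if_neg h2]
      ring

theorem dg_conj_tv (f : Fin n → K) (hf : ∏ i, f i = 1) (i j : Fin n) (h : i ≠ j) (c : K) :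
    dg f hf * tv i j h c * (dg f hf)⁻¹ = tv i j h (f i * c * (f j)⁻¹) := by
  rw [dg_mul_tv, mul_inv_cancel_right]

theorem conj_expand (X Y : Matrix (Fin n) (Fin n) K) (hX : X * X = 0) :
    (1 + X) * (1 + Y) * (1 - X) = 1 + Y + X * Y - Y * X - X * Y * X := by
  have : (1 + X) * (1 + Y) * (1 - X) = 1 + Y + X * Y - Y * X - X * Y * X - X * X := by
    noncomm_ring
  rw [this, hX, sub_zero]

theorem val_tv_inv (i j : Fin n) (h : i ≠ j) (c : K) :
    ((tv i j h c)⁻¹).1 = 1 - Matrix.single i j c := by
  rw [tv_inv, val_tv, transvection, ← Matrix.single_neg, sub_eq_add_neg]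

theorem ss_same (i j k : Fin n) (c d : K) :
    Matrix.single i j c * Matrix.single j k d = Matrix.single i k (c * d) :=
  Matrix.single_mul_single_same c i j k d

theorem ss_ne (i j k l : Fin n) (h : j ≠ k) (c d : K) :
    Matrix.single i j c * Matrix.single k l d = (0 : Matrix (Fin n) (Fin n) K) :=
  Matrix.single_mul_single_of_ne c i j k h d

/-- conjugation formula (A) -/
theorem tv_conj_A {i k l : Fin n} (hkl : k ≠ l) (hik : i ≠ k) (hil : i ≠ l) (c a : K) :
    tv k l hkl c * tv i k hik a * (tv k l hkl c)⁻¹ = tv i k hik a * tv i l hil (-(a * c)) := by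
  apply Subtype.ext
  rw [val_mul, val_mul, val_tv_inv, val_tv, val_tv, val_mul, val_tv, val_tv, transvection,
    transvection, transvection,
    conj_expand _ _ (ss_ne k l k l (Ne.symm hkl) c c),
    ss_ne k l i k (Ne.symm hil) c a, ss_same,
    zero_mul, ← Matrix.single_neg]
  have h0 : Matrix.single i k a * Matrix.single i l (a * c) = 0 :=
    ss_ne i k i l (Ne.symm hik) a _
  calc (1 : Matrix (Fin n) (Fin n) K) + Matrix.single i k a + 0 - Matrix.single i l (a * c) - 0
      = 1 + Matrix.single i k a - Matrix.single i l (a * c) -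
          Matrix.single i k a * Matrix.single i l (a * c) := by rw [h0]; abel
    _ = (1 + Matrix.single i k a) * (1 + -Matrix.single i l (a * c)) := by noncomm_ring

/-- conjugation formula (B) -/
theorem tv_conj_B {i j k : Fin n} (hki : k ≠ i) (hij : i ≠ j) (hkj : k ≠ j) (c a : K) :
    tv k i hki c * tv i j hij a * (tv k i hki c)⁻¹ = tv i j hij a * tv k j hkj (c * a) := by
  apply Subtype.ext
  rw [val_mul, val_mul, val_tv_inv, val_tv, val_tv, val_mul, val_tv, val_tv, transvection,
    transvection, transvection,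
    conj_expand _ _ (ss_ne k i k i (Ne.symm hki) c c),
    ss_same,
    ss_ne i j k i (Ne.symm hkj) a c,
    ss_ne k j k i (Ne.symm hkj) (c * a) c]
  have h0 : Matrix.single i j a * Matrix.single k j (c * a) = 0 :=
    ss_ne i j k j (Ne.symm hkj) a _
  calc (1 : Matrix (Fin n) (Fin n) K) + Matrix.single i j a + Matrix.single k j (c * a) - 0 - 0
      = 1 + Matrix.single i j a + Matrix.single k j (c * a) +
          Matrix.single i j a * Matrix.single k j (c * a) := by rw [h0]; abel
    _ = (1 + Matrix.single i j a) * (1 + Matrix.single k j (c * a)) := by noncomm_ring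

end Cfsg.Agent.Helper25.PSLFus
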