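import Mathlib
import Cfsg.Agent.Lib.Helper25.PSLFus4

/-!
# Fusion-closed subgroups of the unitriangular group: the core lemma
-/

set_option autoImplicit false
set_option linter.style.haveILetI false
set_option linter.unusedSectionVars false

namespace Cfsg.Agent.Helper25.PSLFus

open Matrix

variable {K : Type*} [Field K] [Fintype K]

theorem commute_single_of_comm {n : ℕ} {z : SpecialLinearGroup (Fin n) K} {i j : Fin n} (h : i ≠ j)
    (hc : tv i j h 1 * z = z * tv i j h 1) : Commute (Matrix.single i j (1 : K)) z.1 := by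
  have h1 := congrArg Subtype.val hc
  rw [val_mul, val_mul, val_tv, transvection, add_mul, mul_add, one_mul, mul_one] at h1
  exact add_left_cancel h1

theorem zero_ne_last (m : ℕ) : (0 : Fin (m + 2)) ≠ Fin.last (m + 1) := by
  intro h
  have := congrArg Fin.val h
  simp at this

theorem zero_lt_last (m : ℕ) : (0 : Fin (m + 2)) < Fin.last (m + 1) := by
  rw [Fin.lt_def]
  simp

/-- Central elements of `U` are transvections of the highest root. -/
theorem central_eq_tv {m : ℕ} {z : SpecialLinearGroup (Fin (m + 2)) K} (hz : z ∈ U (m + 2) K)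
    (hc : ∀ u ∈ U (m + 2) K, u * z = z * u) :
    z = tv 0 (Fin.last (m + 1)) (zero_ne_last m) (z.1 0 (Fin.last (m + 1))) := by
  apply Subtype.ext
  ext r s
  rw [tv_apply]
  by_cases hrs : r = s
  · subst hrs
    rw [if_pos rfl, hz.2, if_neg, add_zero]
    rintro ⟨rfl, h2⟩
    exact zero_ne_last m h2.symm
  · rw [if_neg hrs, zero_add]
    by_cases h2 : (0 : Fin (m + 2)) = r ∧ Fin.last (m + 1) = s
    · obtain ⟨rfl, rfl⟩ := h2
      rw [if_pos ⟨rfl, rfl⟩]
    · rw [if_neg h2]
      rcases lt_or_gt_of_ne hrs with hlt | hgt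
      · by_cases hs : s = Fin.last (m + 1)
        · -- then r ≠ 0
          have hr : r ≠ 0 := fun h => h2 ⟨h.symm, hs.symm⟩
          have h0r : (0 : Fin (m + 2)) < r := Fin.pos_of_ne_zero hr
          have hcm := commute_single_of_comm (ne_of_lt h0r) (hc _ (tv_mem_U h0r 1))
          exact Matrix.row_eq_zero_of_commute_single hcm (Ne.symm hrs)
        · have hsl : s < Fin.last (m + 1) := lt_of_le_of_ne (Fin.le_last s) hs
          have hcm := commute_single_of_comm (ne_of_lt hsl) (hc _ (tv_mem_U hsl 1))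
          exact Matrix.col_eq_zero_of_commute_single hcm hrs
      · exact hz.1 r s hgt

theorem last_ne_one (m : ℕ) : Fin.last (m + 2) ≠ (1 : Fin (m + 3)) := by
  intro h
  have := congrArg Fin.val h
  simp at this

theorem zero_ne_one' (m : ℕ) : (0 : Fin (m + 3)) ≠ 1 := by
  intro h
  have := congrArg Fin.val h
  simp at this

/-- diagonal entries of the torus element `diag(t, t⁻¹, 1, …, 1)` -/
def h01f (m : ℕ) (t : K) : Fin (m + 3) → K :=
  Function.update (Function.update (fun _ => (1 : K)) 0 t) 1 t⁻¹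

theorem h01f_zero (m : ℕ) (t : K) : h01f m t 0 = t := by
  unfold h01f
  rw [Function.update_of_ne (zero_ne_one' m), Function.update_self]

theorem h01f_one (m : ℕ) (t : K) : h01f m t 1 = t⁻¹ := by
  unfold h01f
  rw [Function.update_self]

theorem h01f_of_ne (m : ℕ) (t : K) (i : Fin (m + 3)) (h0 : i ≠ 0) (h1 : i ≠ 1) :
    h01f m t i = 1 := by
  unfold h01f
  rw [Function.update_of_ne h1, Function.update_of_ne h0]

theorem h01f_prod (m : ℕ) (t : K) (ht : t ≠ 0) : ∏ i, h01f m t i = 1 := by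
  rw [Fin.prod_univ_succ, Fin.prod_univ_succ]
  have h2 : h01f m t (Fin.succ 0) = t⁻¹ := h01f_one m t
  have h3 : ∀ i : Fin (m + 1), h01f m t (Fin.succ (Fin.succ i)) = 1 := by
    intro i
    apply h01f_of_ne
    · intro h
      have := congrArg Fin.val h
      simp at this
    · intro h
      have := congrArg Fin.val h
      simp at this
  rw [h01f_zero, h2, Finset.prod_congr rfl (fun i _ => h3 i), Finset.prod_const_one, mul_one,
    mul_inv_cancel₀ ht]

/-- the torus element `diag(t, t⁻¹, 1, …, 1)` -/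
noncomputable def h01 (m : ℕ) (t : K) (ht : t ≠ 0) : SpecialLinearGroup (Fin (m + 3)) K :=
  dg (h01f m t) (h01f_prod m t ht)

/-- **Core lemma.**  A nontrivial subgroup of `U` closed under fusion in `SL_n` is `U`. -/
theorem eq_U_of_fusClosed {m : ℕ} (p : ℕ) [Fact p.Prime] [CharP K p]
    (T : Subgroup (SpecialLinearGroup (Fin (m + 3)) K)) (hTU : T ≤ U (m + 3) K) (hne : T ≠ ⊥)
    (hfc : ∀ x ∈ T, ∀ g : SpecialLinearGroup (Fin (m + 3)) K, g * x * g⁻¹ ∈ U (m + 3) K →
      g * x * g⁻¹ ∈ T) : T = U (m + 3) K := by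
  -- `T` is normal in `U`
  haveI hnorm : (T.subgroupOf (U (m + 3) K)).Normal := by
    refine ⟨fun x hx u => ?_⟩
    rw [Subgroup.mem_subgroupOf] at hx ⊢
    exact hfc _ hx u (Subgroup.mul_mem _ (Subgroup.mul_mem _ u.2 x.2) (Subgroup.inv_mem _ u.2))
  have hne' : T.subgroupOf (U (m + 3) K) ≠ ⊥ := by
    intro h
    apply hne
    rw [eq_bot_iff]
    intro x hx
    have : (⟨x, hTU hx⟩ : U (m + 3) K) ∈ T.subgroupOf (U (m + 3) K) :=
      Subgroup.mem_subgroupOf.mpr hx
    rw [h, Subgroup.mem_bot] at this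
    rw [Subgroup.mem_bot]
    exact congrArg Subtype.val this
  have hcen := Cfsg.Agent.Helper19.normal_inf_center_ne_bot (U_isPGroup (n := m + 3) (K := K) p)
    (T.subgroupOf (U (m + 3) K)) hne'
  obtain ⟨⟨z, hz⟩, hz1'⟩ := (Subgroup.ne_bot_iff_exists_ne_one).mp hcen
  have hz1 : z ≠ 1 := fun h => hz1' (Subtype.ext h)
  obtain ⟨hzT, hzC⟩ := Subgroup.mem_inf.mp hz
  have hzT' : ((z : U (m + 3) K) : SpecialLinearGroup (Fin (m + 3)) K) ∈ T :=
    Subgroup.mem_subgroupOf.mp hzT
  have hzc : ∀ u ∈ U (m + 3) K, u * ((z : U (m + 3) K) : SpecialLinearGroup (Fin (m + 3)) K) =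
      ((z : U (m + 3) K) : SpecialLinearGroup (Fin (m + 3)) K) * u := by
    intro u hu
    have := (Subgroup.mem_center_iff.mp hzC) ⟨u, hu⟩
    exact congrArg Subtype.val this
  have hzeq := central_eq_tv (m := m + 1) (z : U (m + 3) K).2 hzc
  set a := ((z : U (m + 3) K) : SpecialLinearGroup (Fin (m + 3)) K).1 0 (Fin.last (m + 2)) with ha
  have ha0 : a ≠ 0 := by
    intro h0
    apply hz1
    apply Subtype.ext
    apply Subtype.ext
    rw [hzeq, h0, tv_zero]
    rfl
  have h0l := zero_ne_last (m + 1)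
  -- step 1: the highest root group lies in `T`
  have step1 : ∀ b : K, tv 0 (Fin.last (m + 2)) h0l b ∈ T := by
    intro b
    by_cases hb : b = 0
    · rw [hb, tv_zero]; exact Subgroup.one_mem _
    · have ht : b * a⁻¹ ≠ 0 := mul_ne_zero hb (inv_ne_zero ha0)
      have hconj := dg_conj_tv (h01f m (b * a⁻¹)) (h01f_prod m (b * a⁻¹) ht) 0
        (Fin.last (m + 2)) h0l a
      have e1 : h01f m (b * a⁻¹) 0 = b * a⁻¹ := h01f_zero m _
      have e2 : h01f m (b * a⁻¹) (Fin.last (m + 2)) = 1 :=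
        h01f_of_ne m _ _ (Ne.symm h0l) (last_ne_one m)
      have e3 : h01f m (b * a⁻¹) 0 * a * (h01f m (b * a⁻¹) (Fin.last (m + 2)))⁻¹ = b := by
        rw [e1, e2, inv_one, mul_one, mul_assoc, inv_mul_cancel₀ ha0, mul_one]
      rw [e3] at hconj
      have hmem := hfc _ hzT' (h01 m (b * a⁻¹) ht) (by
        rw [hzeq]
        show dg _ _ * _ * (dg _ _)⁻¹ ∈ _
        rw [hconj]
        exact tv_mem_U (zero_lt_last (m + 1)) b)
      rw [hzeq] at hmem
      have : h01 m (b * a⁻¹) ht * tv 0 (Fin.last (m + 2)) h0l a * (h01 m (b * a⁻¹) ht)⁻¹ =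
          tv 0 (Fin.last (m + 2)) h0l b := hconj
      rwa [this] at hmem
  -- step 2: the root groups of the first row
  have step2 : ∀ (s : Fin (m + 3)) (hs : (0 : Fin (m + 3)) < s) (b : K),
      tv 0 s (ne_of_lt hs) b ∈ T := by
    intro s hs b
    by_cases hsl : s = Fin.last (m + 2)
    · subst hsl
      exact step1 b
    · have hls : Fin.last (m + 2) ≠ s := Ne.symm hsl
      have hA := tv_conj_A hls h0l (ne_of_lt hs) (1 : K) (-b)
      have hmemU : tv 0 (Fin.last (m + 2)) h0l (-b) * tv 0 s (ne_of_lt hs) (-(-b * 1)) ∈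
          U (m + 3) K :=
        Subgroup.mul_mem _ (tv_mem_U (zero_lt_last (m + 1)) _) (tv_mem_U hs _)
      have h1 := hfc _ (step1 (-b)) (tv (Fin.last (m + 2)) s hls 1) (by rw [hA]; exact hmemU)
      rw [hA] at h1
      have h2 := Subgroup.mul_mem _ (Subgroup.inv_mem _ (step1 (-b))) h1
      rw [inv_mul_cancel_left] at h2
      have e : -(-b * 1) = b := by ring
      rwa [e] at h2
  -- step 3: all root groups
  have step3 : ∀ (i s : Fin (m + 3)) (his : i < s) (b : K), tv i s (ne_of_lt his) b ∈ T := by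
    intro i s his b
    by_cases hi : i = 0
    · subst hi
      exact step2 s his b
    · have h0s : (0 : Fin (m + 3)) < s := lt_of_le_of_lt (Fin.zero_le i) his
      have hB := tv_conj_B hi (ne_of_lt h0s) (ne_of_lt his) (1 : K) b
      have hmemU : tv 0 s (ne_of_lt h0s) b * tv i s (ne_of_lt his) (1 * b) ∈ U (m + 3) K :=
        Subgroup.mul_mem _ (tv_mem_U h0s _) (tv_mem_U his _)
      have h1 := hfc _ (step2 s h0s b) (tv i 0 hi 1) (by rw [hB]; exact hmemU)
      rw [hB] at h1
      have h2 := Subgroup.mul_mem _ (Subgroup.inv_mem _ (step2 s h0s b)) h1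
      rw [inv_mul_cancel_left, one_mul] at h2
      exact h2
  apply le_antisymm hTU
  refine U_le_closure.trans ((Subgroup.closure_le T).mpr ?_)
  rintro x ⟨i, j, hij, c, rfl⟩
  exact step3 i j hij c

end Cfsg.Agent.Helper25.PSLFus
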