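import Mathlib
import Cfsg.Agent.Lib.Helper25.PSLFus5

/-!
# The Borel subgroup: `B = T U`, and generation of the torus
-/

set_option autoImplicit false
set_option linter.style.haveILetI false
set_option linter.unusedSectionVars false

namespace Cfsg.Agent.Helper25.PSLFus

open Matrix

variable {K : Type*} [Field K] [Fintype K] {n : ℕ}

theorem inv_mul_diag {g : SpecialLinearGroup (Fin n) K} (hg : g ∈ B n K) (i : Fin n) :
    (g⁻¹).1 i i * g.1 i i = 1 := by
  have h1 : IsUpper (g⁻¹).1 := Subgroup.inv_mem _ hg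
  have h2 := h1.mul_diag (mem_B.mp hg) i
  rw [← val_mul, inv_mul_cancel, val_one, Matrix.one_apply_eq] at h2
  exact h2.symm

theorem mul_inv_diag {g : SpecialLinearGroup (Fin n) K} (hg : g ∈ B n K) (i : Fin n) :
    g.1 i i * (g⁻¹).1 i i = 1 := by
  rw [mul_comm]; exact inv_mul_diag hg i

theorem conj_mem_U {g u : SpecialLinearGroup (Fin n) K} (hg : g ∈ B n K) (hu : u ∈ U n K) :
    g * u * g⁻¹ ∈ U n K := by
  have hginv : IsUpper (g⁻¹).1 := Subgroup.inv_mem (B n K) hg
  have hgu : IsUpper (g * u).1 := by rw [val_mul]; exact IsUpper.mul hg hu.1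
  rw [mem_U]
  refine ⟨?_, fun i => ?_⟩
  · rw [val_mul]; exact IsUpper.mul hgu hginv
  · rw [val_mul, hgu.mul_diag hginv, val_mul, IsUpper.mul_diag hg hu.1, hu.2, mul_one]
    exact mul_inv_diag hg i

theorem B_le_normalizer_U : B n K ≤ Subgroup.normalizer ((U n K : Subgroup _) : Set _) := by
  intro g hg
  rw [Subgroup.mem_normalizer_iff]
  intro u
  constructor
  · exact conj_mem_U hg
  · intro h
    have := conj_mem_U (Subgroup.inv_mem _ hg) h
    rw [inv_inv] at this
    have e : g⁻¹ * (g * u * g⁻¹) * g = u := by group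
    rwa [e] at this

theorem dg_mem_B (f : Fin n → K) (hf : ∏ i, f i = 1) : dg f hf ∈ B n K := by
  rw [mem_B, val_dg]
  intro i j hji
  exact Matrix.diagonal_apply_ne _ (ne_of_gt hji)

theorem det_eq_prod_diag {g : SpecialLinearGroup (Fin n) K} (hg : g ∈ B n K) :
    ∏ i, g.1 i i = 1 := by
  have h1 : g.1.det = ∏ i, g.1 i i :=
    Matrix.det_of_isUpperTriangular (fun i j h => hg i j h)
  rw [← h1]
  exact g.2

/-- `B = T U`. -/
theorem exists_dg_mul {g : SpecialLinearGroup (Fin n) K} (hg : g ∈ B n K) :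
    ∃ u ∈ U n K, g = dg (fun i => g.1 i i) (det_eq_prod_diag hg) * u := by
  set d := dg (fun i => g.1 i i) (det_eq_prod_diag hg) with hd
  have hdB : d ∈ B n K := dg_mem_B _ _
  refine ⟨d⁻¹ * g, ?_, by rw [mul_inv_cancel_left]⟩
  have hdinv : IsUpper (d⁻¹).1 := Subgroup.inv_mem (B n K) hdB
  rw [mem_U]
  refine ⟨?_, fun i => ?_⟩
  · rw [val_mul]; exact IsUpper.mul hdinv hg
  · rw [val_mul, hdinv.mul_diag hg]
    have h1 := inv_mul_diag hdB i
    have h2 : d.1 i i = g.1 i i := by
      rw [hd, val_dg, Matrix.diagonal_apply_eq]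
    rw [h2] at h1
    exact h1

theorem dg_mul (f g : Fin n → K) (hf : ∏ i, f i = 1) (hg : ∏ i, g i = 1)
    (hfg : ∏ i, (f * g) i = 1) : dg f hf * dg g hg = dg (f * g) hfg := by
  apply Subtype.ext
  rw [val_mul, val_dg, val_dg, val_dg, Matrix.diagonal_mul_diagonal]
  rfl

theorem dg_one (h : ∏ i : Fin n, (1 : Fin n → K) i = 1) : dg (1 : Fin n → K) h = 1 := by
  apply Subtype.ext
  rw [val_dg, val_one]
  exact Matrix.diagonal_one

theorem dg_congr {f g : Fin n → K} (h : f = g) (hf : ∏ i, f i = 1) :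
    dg f hf = dg g (h ▸ hf) := by
  subst h; rfl

/-- diagonal entries of the torus element `h_{kl}(t)` -/
def hfun (k l : Fin n) (t : K) : Fin n → K :=
  Function.update (Function.update (fun _ => (1 : K)) k t) l t⁻¹

theorem hfun_left {k l : Fin n} (hkl : k ≠ l) (t : K) : hfun k l t k = t := by
  unfold hfun
  rw [Function.update_of_ne hkl, Function.update_self]

theorem hfun_right (k l : Fin n) (t : K) : hfun k l t l = t⁻¹ := by
  unfold hfun
  rw [Function.update_self]

theorem hfun_of_ne (k l : Fin n) (t : K) (i : Fin n) (h0 : i ≠ k) (h1 : i ≠ l) :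
    hfun k l t i = 1 := by
  unfold hfun
  rw [Function.update_of_ne h1, Function.update_of_ne h0]

theorem hfun_prod {k l : Fin n} (hkl : k ≠ l) (t : K) (ht : t ≠ 0) : ∏ i, hfun k l t i = 1 := by
  rw [Finset.prod_eq_mul k l hkl (fun c _ hc => hfun_of_ne k l t c hc.1 hc.2)
    (fun h => absurd (Finset.mem_univ _) h) (fun h => absurd (Finset.mem_univ _) h),
    hfun_left hkl, hfun_right, mul_inv_cancel₀ ht]

/-- the torus element `h_{kl}(t)` -/
noncomputable def hh (k l : Fin n) (hkl : k ≠ l) (t : K) (ht : t ≠ 0) :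
    SpecialLinearGroup (Fin n) K :=
  dg (hfun k l t) (hfun_prod hkl t ht)

/-- generators of the torus -/
def Hset (m : ℕ) (K : Type*) [Field K] [Fintype K] : Set (SpecialLinearGroup (Fin (m + 3)) K) :=
  {x | ∃ (k l : Fin (m + 3)) (hkl : k ≠ l) (t : K) (ht : t ≠ 0),
    ((k ≠ 0 ∧ l ≠ 0) ∨ (k = 0 ∧ l = 1)) ∧ x = hh k l hkl t ht}

theorem dg_mem_closure_aux {m : ℕ} (s : Finset (Fin (m + 3))) :
    ∀ (f : Fin (m + 3) → K) (hf : ∏ i, f i = 1), f 0 = 1 →
      (∀ k, k ∉ s → k ≠ Fin.last (m + 2) → f k = 1) →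
      dg f hf ∈ Subgroup.closure (Hset m K) := by
  induction s using Finset.induction_on with
  | empty =>
    intro f hf _ h
    have h1 : ∀ k, k ≠ Fin.last (m + 2) → f k = 1 := fun k hk => h k (Finset.notMem_empty k) hk
    have h2 : f (Fin.last (m + 2)) = 1 := by
      rw [← hf]
      symm
      apply Finset.prod_eq_single
      · intro b _ hb; exact h1 b hb
      · intro h; exact absurd (Finset.mem_univ _) h
    have h3 : f = 1 := by
      funext k
      by_cases hk : k = Fin.last (m + 2)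
      · rw [hk, h2]; rfl
      · rw [h1 k hk]; rfl
    subst h3
    rw [dg_one]
    exact Subgroup.one_mem _
  | insert a s has ih =>
    intro f hf hf0 h
    by_cases hcase : a = Fin.last (m + 2) ∨ a = 0 ∨ f a = 1
    · apply ih f hf hf0
      intro k hks hkl
      by_cases hka : k = a
      · subst hka
        rcases hcase with h1 | h1 | h1
        · exact absurd h1 hkl
        · rw [h1]; exact hf0
        · exact h1
      · exact h k (fun hk => by
          rcases Finset.mem_insert.mp hk with h1 | h1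
          · exact hka h1
          · exact hks h1) hkl
    · push_neg at hcase
      obtain ⟨hal, ha0, hfa⟩ := hcase
      have hfa0 : f a ≠ 0 := dg_ne_zero hf a
      have hinv0 : (f a)⁻¹ ≠ 0 := inv_ne_zero hfa0
      have h0l : (0 : Fin (m + 3)) ≠ Fin.last (m + 2) := zero_ne_last (m + 1)
      -- f' := f * hfun a last (f a)⁻¹
      have hf' : ∏ i, (f * hfun a (Fin.last (m + 2)) (f a)⁻¹) i = 1 := by
        simp only [Pi.mul_apply]
        rw [Finset.prod_mul_distrib, hf, hfun_prod hal _ hinv0, mul_one]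
      have hmem' : dg (f * hfun a (Fin.last (m + 2)) (f a)⁻¹) hf' ∈
          Subgroup.closure (Hset m K) := by
        apply ih
        · rw [Pi.mul_apply, hf0, hfun_of_ne _ _ _ _ (Ne.symm ha0) h0l, mul_one]
        · intro k hks hkl
          by_cases hka : k = a
          · subst hka
            rw [Pi.mul_apply, hfun_left hal, mul_inv_cancel₀ hfa0]
          · rw [Pi.mul_apply, hfun_of_ne _ _ _ _ hka hkl, mul_one]
            exact h k (fun hk => by
              rcases Finset.mem_insert.mp hk with h1 | h1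
              · exact hka h1
              · exact hks h1) hkl
      have hgen : hh a (Fin.last (m + 2)) hal (f a) hfa0 ∈ Subgroup.closure (Hset m K) := by
        apply Subgroup.subset_closure
        exact ⟨a, Fin.last (m + 2), hal, f a, hfa0, Or.inl ⟨ha0, Ne.symm h0l⟩, rfl⟩
      have heq : f = (f * hfun a (Fin.last (m + 2)) (f a)⁻¹) * hfun a (Fin.last (m + 2)) (f a) := by
        funext k
        simp only [Pi.mul_apply]
        by_cases hka : k = a
        · subst hka
          rw [hfun_left hal, hfun_left hal, mul_assoc, inv_mul_cancel₀ hfa0, mul_one]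
        · by_cases hkl : k = Fin.last (m + 2)
          · subst hkl
            rw [hfun_right, hfun_right, inv_inv, mul_assoc, mul_inv_cancel₀ hfa0, mul_one]
          · rw [hfun_of_ne _ _ _ _ hka hkl, hfun_of_ne _ _ _ _ hka hkl, mul_one, mul_one]
      have hprod : dg f hf = dg (f * hfun a (Fin.last (m + 2)) (f a)⁻¹) hf' *
          hh a (Fin.last (m + 2)) hal (f a) hfa0 := by
        unfold hh
        rw [dg_mul _ _ hf' (hfun_prod hal (f a) hfa0) (by rw [← heq]; exact hf)]
        apply Subtype.ext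
        rw [val_dg, val_dg, ← heq]
      rw [hprod]
      exact Subgroup.mul_mem _ hmem' hgen

/-- Every diagonal element of `SL_n` is a product of the torus generators. -/
theorem dg_mem_closure {m : ℕ} (f : Fin (m + 3) → K) (hf : ∏ i, f i = 1) :
    dg f hf ∈ Subgroup.closure (Hset m K) := by
  have hf0 : f 0 ≠ 0 := dg_ne_zero hf 0
  have hinv0 : (f 0)⁻¹ ≠ 0 := inv_ne_zero hf0
  have h01 : (0 : Fin (m + 3)) ≠ 1 := zero_ne_one' m
  have hf' : ∏ i, (f * hfun (0 : Fin (m + 3)) 1 (f 0)⁻¹) i = 1 := by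
    simp only [Pi.mul_apply]
    rw [Finset.prod_mul_distrib, hf, hfun_prod h01 _ hinv0, mul_one]
  have hmem' : dg (f * hfun (0 : Fin (m + 3)) 1 (f 0)⁻¹) hf' ∈ Subgroup.closure (Hset m K) := by
    apply dg_mem_closure_aux Finset.univ
    · rw [Pi.mul_apply, hfun_left h01, mul_inv_cancel₀ hf0]
    · intro k hk; exact absurd (Finset.mem_univ k) hk
  have hgen : hh (0 : Fin (m + 3)) 1 h01 (f 0) hf0 ∈ Subgroup.closure (Hset m K) := by
    apply Subgroup.subset_closure
    exact ⟨0, 1, h01, f 0, hf0, Or.inr ⟨rfl, rfl⟩, rfl⟩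
  have heq : f = (f * hfun (0 : Fin (m + 3)) 1 (f 0)⁻¹) * hfun (0 : Fin (m + 3)) 1 (f 0) := by
    funext k
    simp only [Pi.mul_apply]
    by_cases hka : k = 0
    · subst hka
      rw [hfun_left h01, hfun_left h01, mul_assoc, inv_mul_cancel₀ hf0, mul_one]
    · by_cases hkl : k = 1
      · subst hkl
        rw [hfun_right, hfun_right, inv_inv, mul_assoc, mul_inv_cancel₀ hf0, mul_one]
      · rw [hfun_of_ne _ _ _ _ hka hkl, hfun_of_ne _ _ _ _ hka hkl, mul_one, mul_one]
  have hprod : dg f hf = dg (f * hfun (0 : Fin (m + 3)) 1 (f 0)⁻¹) hf' *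
      hh (0 : Fin (m + 3)) 1 h01 (f 0) hf0 := by
    unfold hh
    rw [dg_mul _ _ hf' (hfun_prod h01 (f 0) hf0) (by rw [← heq]; exact hf)]
    apply Subtype.ext
    rw [val_dg, val_dg, ← heq]
  rw [hprod]
  exact Subgroup.mul_mem _ hmem' hgen

end Cfsg.Agent.Helper25.PSLFus
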