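import Mathlib
import Cfsg.Agent.Lib.Helper25.PSLFus6

/-!
# Torus elements are products of transvections
-/

set_option autoImplicit false
set_option linter.style.haveILetI false
set_option linter.unusedSectionVars false
set_option linter.unusedSimpArgs false

namespace Cfsg.Agent.Helper25.PSLFus

open Matrix

variable {K : Type*} [Field K] {n : ℕ}

/-- the monomial matrix `w_{ij}(t)` -/
def wmat (i j : Fin n) (t : K) : Matrix (Fin n) (Fin n) K :=
  1 - single i i 1 - single j j 1 + single i j t + single j i (-t⁻¹)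

theorem wmat_eq (i j : Fin n) (hij : i ≠ j) (t : K) (ht : t ≠ 0) :
    (1 + single i j t) * (1 + single j i (-t⁻¹)) * (1 + single i j t) = wmat i j t := by
  have hji := hij.symm
  unfold wmat
  simp only [mul_add, add_mul, mul_one, one_mul, Matrix.single_mul_single_same,
    Matrix.single_mul_single_of_ne _ _ _ _ hji, add_zero]
  have e1 : t * -t⁻¹ = -1 := by field_simp
  have e2 : -t⁻¹ * t = -1 := by field_simp
  have e3 : t * -t⁻¹ * t = -t := by rw [e1]; ring
  rw [e3, e1, e2, ← Matrix.single_neg i i 1, ← Matrix.single_neg j j 1, ← Matrix.single_neg i j t]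
  abel

theorem wmat_mul (i j : Fin n) (hij : i ≠ j) (t : K) :
    wmat i j t * wmat i j (-1) =
      1 - single i i 1 - single j j 1 + single i i t + single j j t⁻¹ := by
  have hji := hij.symm
  unfold wmat
  simp only [mul_add, add_mul, mul_sub, sub_mul, mul_one, one_mul, Matrix.single_mul_single_same,
    Matrix.single_mul_single_of_ne _ _ _ _ hji, Matrix.single_mul_single_of_ne _ _ _ _ hij,
    add_zero, sub_zero]
  have e1 : -t⁻¹ * -1 = t⁻¹ := by ring
  have e2 : -(-1 : K)⁻¹ = 1 := by rw [inv_neg, inv_one, neg_neg]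
  rw [e1, e2, mul_one]
  abel

theorem diag_hfun_eq (i j : Fin n) (hij : i ≠ j) (t : K) :
    (1 : Matrix (Fin n) (Fin n) K) - single i i 1 - single j j 1 + single i i t +
      single j j t⁻¹ = Matrix.diagonal (hfun i j t) := by
  unfold hfun
  ext r s
  simp only [Matrix.add_apply, Matrix.sub_apply, Matrix.one_apply, Matrix.single_apply,
    Matrix.diagonal_apply]
  by_cases hrs : r = s
  · subst hrs
    by_cases hrj : r = j
    · subst hrj
      simp [hij]
    · by_cases hri : r = i
      · subst hri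
        simp [hij, hij.symm]
      · simp [hrj, hri, Function.update_of_ne hrj, Function.update_of_ne hri, Ne.symm hrj,
          Ne.symm hri]
  · have h1 : ¬ (i = r ∧ i = s) := fun h => hrs (h.1.symm.trans h.2)
    have h2 : ¬ (j = r ∧ j = s) := fun h => hrs (h.1.symm.trans h.2)
    rw [if_neg hrs, if_neg h1, if_neg h2, if_neg h1, if_neg h2]
    simp [hrs]

variable [Fintype K]

/-- `h_{ij}(t) = x_{ij}(t) x_{ji}(-t⁻¹) x_{ij}(t) x_{ij}(-1) x_{ji}(1) x_{ij}(-1)`. -/
theorem hh_eq (i j : Fin n) (hij : i ≠ j) (t : K) (ht : t ≠ 0) :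
    hh i j hij t ht = tv i j hij t * tv j i hij.symm (-t⁻¹) * tv i j hij t *
      (tv i j hij (-1) * tv j i hij.symm 1 * tv i j hij (-1)) := by
  apply Subtype.ext
  have h1 : (tv i j hij t * tv j i hij.symm (-t⁻¹) * tv i j hij t).1 = wmat i j t := by
    rw [val_mul, val_mul, val_tv, val_tv]
    exact wmat_eq i j hij t ht
  have h2 : (tv i j hij (-1 : K) * tv j i hij.symm (1 : K) * tv i j hij (-1 : K)).1 =
      wmat i j (-1 : K) := by
    rw [val_mul, val_mul, val_tv, val_tv]
    have := wmat_eq i j hij (-1 : K) (neg_ne_zero.mpr one_ne_zero)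
    have e2 : -(-1 : K)⁻¹ = 1 := by rw [inv_neg, inv_one, neg_neg]
    rw [e2] at this
    exact this
  rw [val_mul, h1, h2, wmat_mul i j hij, diag_hfun_eq i j hij]
  rfl

/-- `h_{ij}(t)` lies in the subgroup generated by the two root groups. -/
theorem hh_mem_closure (i j : Fin n) (hij : i ≠ j) (t : K) (ht : t ≠ 0)
    (H : Subgroup (SpecialLinearGroup (Fin n) K))
    (h1 : ∀ c : K, tv i j hij c ∈ H) (h2 : ∀ c : K, tv j i hij.symm c ∈ H) :
    hh i j hij t ht ∈ H := by
  rw [hh_eq]
  exact H.mul_mem (H.mul_mem (H.mul_mem (h1 _) (h2 _)) (h1 _))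
    (H.mul_mem (H.mul_mem (h1 _) (h2 _)) (h1 _))

end Cfsg.Agent.Helper25.PSLFus
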