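import Mathlib
import Cfsg.Agent.Lib.Helper25.PSLFus7

/-!
# The row group: the unipotent radical of the stabiliser of a line
-/

set_option autoImplicit false
set_option linter.style.haveILetI false
set_option linter.unusedSectionVars false
set_option linter.unusedSimpArgs false

namespace Cfsg.Agent.Helper25.PSLFus

open Matrix

variable {K : Type*} [Field K] {n : ℕ}

/-- `M - 1` has nonzero entries only in row `a`, and a zero in position `(a, a)` -/
def RowP (a : Fin n) (M : Matrix (Fin n) (Fin n) K) : Prop :=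
  single a a 1 * (M - 1) = M - 1 ∧ (M - 1) * single a a 1 = 0

theorem rowP_iff (a : Fin n) (M : Matrix (Fin n) (Fin n) K) :
    RowP a M ↔ (∀ r s, r ≠ a → M r s = (1 : Matrix (Fin n) (Fin n) K) r s) ∧ M a a = 1 := by
  constructor
  · rintro ⟨h1, h2⟩
    constructor
    · intro r s hr
      have := congrFun (congrFun h1 r) s
      rw [Matrix.single_mul_apply_of_ne _ _ _ _ _ hr, Matrix.sub_apply] at this
      exact (sub_eq_zero.mp this.symm)
    · have := congrFun (congrFun h2 a) a
      rw [Matrix.mul_single_apply_same, mul_one, Matrix.sub_apply, Matrix.one_apply_eq,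
        Matrix.zero_apply] at this
      exact sub_eq_zero.mp this
  · rintro ⟨h1, h2⟩
    constructor
    · ext r s
      by_cases hr : r = a
      · subst hr
        rw [Matrix.single_mul_apply_same, one_mul]
      · rw [Matrix.single_mul_apply_of_ne _ _ _ _ _ hr, Matrix.sub_apply, h1 r s hr, sub_self]
    · ext r s
      rw [Matrix.zero_apply]
      by_cases hs : s = a
      · subst hs
        rw [Matrix.mul_single_apply_same, mul_one, Matrix.sub_apply]
        by_cases hr : r = s
        · subst hr
          rw [h2, Matrix.one_apply_eq, sub_self]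
        · rw [h1 r s hr, sub_self]
      · rw [Matrix.mul_single_apply_of_ne _ _ _ _ _ hs]

theorem RowP.nil {a : Fin n} {M M' : Matrix (Fin n) (Fin n) K} (h : RowP a M)
    (h' : RowP a M') : (M - 1) * (M' - 1) = 0 := by
  calc (M - 1) * (M' - 1) = (M - 1) * (single a a 1 * (M' - 1)) := by rw [h'.1]
    _ = ((M - 1) * single a a 1) * (M' - 1) := by rw [mul_assoc]
    _ = 0 := by rw [h.2, zero_mul]

theorem RowP.mul {a : Fin n} {M M' : Matrix (Fin n) (Fin n) K} (h : RowP a M)
    (h' : RowP a M') : RowP a (M * M') := by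
  have e : M * M' - 1 = (M - 1) + (M' - 1) + (M - 1) * (M' - 1) := by noncomm_ring
  rw [h.nil h', add_zero] at e
  constructor
  · rw [e, mul_add, h.1, h'.1]
  · rw [e, add_mul, h.2, h'.2, add_zero]

theorem RowP.one (a : Fin n) : RowP a (1 : Matrix (Fin n) (Fin n) K) := by
  constructor
  · rw [sub_self, mul_zero]
  · rw [sub_self, zero_mul]

theorem RowP.inv {a : Fin n} {M X : Matrix (Fin n) (Fin n) K} (h : RowP a M)
    (hX : M * X = 1) : RowP a X := by
  have h0 := h.nil h
  have e1 : (1 - (M - 1)) * M = 1 := by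
    have : (1 - (M - 1)) * M = 1 - (M - 1) * (M - 1) := by noncomm_ring
    rw [this, h0, sub_zero]
  have e2 : X = 1 - (M - 1) := by
    calc X = ((1 - (M - 1)) * M) * X := by rw [e1, one_mul]
      _ = (1 - (M - 1)) * (M * X) := by rw [mul_assoc]
      _ = 1 - (M - 1) := by rw [hX, mul_one]
  have e3 : X - 1 = -(M - 1) := by rw [e2]; abel
  constructor
  · rw [e3, mul_neg, h.1]
  · rw [e3, neg_mul, h.2, neg_zero]

/-- conjugation by a matrix fixing the line -/
theorem RowP.conj {a : Fin n} {M X X' : Matrix (Fin n) (Fin n) K} (h : RowP a M)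
    (hXX' : X * X' = 1) (hX : X * single a a 1 = single a a 1)
    (hX' : X' * single a a 1 = single a a 1) : RowP a (X * M * X') := by
  have e0 : X * (M - 1) = M - 1 := by
    calc X * (M - 1) = X * (single a a 1 * (M - 1)) := by rw [h.1]
      _ = (X * single a a 1) * (M - 1) := by rw [mul_assoc]
      _ = M - 1 := by rw [hX, h.1]
  have e : X * M * X' - 1 = (M - 1) * X' := by
    have : X * M * X' - 1 = X * (M - 1) * X' + (X * X' - 1) := by noncomm_ring
    rw [this, hXX', sub_self, add_zero, e0]
  constructor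
  · rw [e, ← mul_assoc, h.1]
  · rw [e, mul_assoc, hX', h.2]

variable [Fintype K]

/-- The row group. -/
def rowGrp (a : Fin n) : Subgroup (SpecialLinearGroup (Fin n) K) where
  carrier := {g | RowP a g.1}
  mul_mem' := by
    intro x y hx hy
    show RowP a (x * y).1
    rw [val_mul]
    exact RowP.mul hx hy
  one_mem' := by
    show RowP a (1 : SpecialLinearGroup (Fin n) K).1
    rw [val_one]
    exact RowP.one a
  inv_mem' := by
    intro x hx
    show RowP a (x⁻¹).1
    apply RowP.inv hx
    rw [← val_mul, mul_inv_cancel, val_one]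

theorem mem_rowGrp {a : Fin n} {g : SpecialLinearGroup (Fin n) K} :
    g ∈ rowGrp a ↔ RowP a g.1 := Iff.rfl

theorem rowGrp_le_U {a : Fin n} (ha : ∀ r, a ≤ r) : rowGrp a ≤ U n K := by
  intro g hg
  obtain ⟨h1, h2⟩ := (rowP_iff a g.1).mp (mem_rowGrp.mp hg)
  rw [mem_U]
  refine ⟨fun r s hsr => ?_, fun r => ?_⟩
  · have hr : r ≠ a := ne_of_gt (lt_of_le_of_lt (ha s) hsr)
    rw [h1 r s hr, Matrix.one_apply_ne (ne_of_gt hsr)]
  · by_cases hr : r = a
    · rw [hr, h2]
    · rw [h1 r r hr, Matrix.one_apply_eq]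

theorem tv_mem_rowGrp {a l : Fin n} (h : a ≠ l) (c : K) : tv a l h c ∈ rowGrp a := by
  rw [mem_rowGrp, val_tv, transvection]
  constructor
  · rw [add_sub_cancel_left, Matrix.single_mul_single_same, one_mul]
  · rw [add_sub_cancel_left, Matrix.single_mul_single_of_ne _ _ _ _ h.symm]

theorem tv_mul_single {a k l : Fin n} (hkl : k ≠ l) (hl : l ≠ a) (c : K) :
    (tv k l hkl c).1 * single a a 1 = single a a 1 := by
  rw [val_tv, transvection, add_mul, one_mul, Matrix.single_mul_single_of_ne _ _ _ _ hl, add_zero]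

theorem conj_mem_rowGrp {a : Fin n} {x g : SpecialLinearGroup (Fin n) K}
    (hx : x.1 * single a a 1 = single a a 1) (hx' : (x⁻¹).1 * single a a 1 = single a a 1)
    (hg : g ∈ rowGrp a) : x * g * x⁻¹ ∈ rowGrp a := by
  rw [mem_rowGrp, val_mul, val_mul]
  apply RowP.conj hg _ hx hx'
  rw [← val_mul, mul_inv_cancel, val_one]

theorem mem_normalizer_rowGrp {a : Fin n} {x : SpecialLinearGroup (Fin n) K}
    (hx : x.1 * single a a 1 = single a a 1) (hx' : (x⁻¹).1 * single a a 1 = single a a 1) :
    x ∈ Subgroup.normalizer ((rowGrp a : Subgroup (SpecialLinearGroup (Fin n) K)) : Set _) := by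
  rw [Subgroup.mem_normalizer_iff]
  intro g
  constructor
  · exact conj_mem_rowGrp hx hx'
  · intro h
    have := conj_mem_rowGrp (x := x⁻¹) hx' (by rw [inv_inv]; exact hx) h
    rw [inv_inv] at this
    have e : x⁻¹ * (x * g * x⁻¹) * x = g := by group
    rwa [e] at this

theorem tv_mem_normalizer_rowGrp {a k l : Fin n} (hkl : k ≠ l) (hl : l ≠ a) (c : K) :
    tv k l hkl c ∈ Subgroup.normalizer
      ((rowGrp a : Subgroup (SpecialLinearGroup (Fin n) K)) : Set _) := by
  apply mem_normalizer_rowGrp
  · exact tv_mul_single hkl hl c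
  · rw [tv_inv]; exact tv_mul_single hkl hl (-c)

end Cfsg.Agent.Helper25.PSLFus
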