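import Mathlib
import Cfsg.Agent.Lib.Helper25.PSLFus8

/-!
# The centraliser of the row group
-/

set_option autoImplicit false
set_option linter.style.haveILetI false
set_option linter.unusedSectionVars false
set_option linter.unusedSimpArgs false

namespace Cfsg.Agent.Helper25.PSLFus

open Matrix

variable {K : Type*} [Field K] [Fintype K] {n : ℕ}

/-- the scalar matrix as an element of `SL_n` -/
def scal (lam : K) (h : lam ^ Fintype.card (Fin n) = 1) : SpecialLinearGroup (Fin n) K :=
  ⟨Matrix.scalar (Fin n) lam, by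
    rw [Matrix.scalar_apply, Matrix.det_diagonal, Finset.prod_const, Finset.card_univ, h]⟩

theorem scal_mem_center (lam : K) (h : lam ^ Fintype.card (Fin n) = 1) :
    scal (n := n) lam h ∈ Subgroup.center (SpecialLinearGroup (Fin n) K) :=
  Matrix.SpecialLinearGroup.mem_center_iff.mpr ⟨lam, h, rfl⟩

/-- the scaled matrix as an element of `SL_n` -/
def scaled (lam : K) (h : lam ^ Fintype.card (Fin n) = 1) (g : SpecialLinearGroup (Fin n) K) :
    SpecialLinearGroup (Fin n) K :=
  ⟨lam⁻¹ • g.1, by rw [Matrix.det_smul, g.2, mul_one, inv_pow, h, inv_one]⟩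

theorem scal_mul_scaled (lam : K) (h0 : lam ≠ 0) (h : lam ^ Fintype.card (Fin n) = 1)
    (g : SpecialLinearGroup (Fin n) K) : g = scal lam h * scaled lam h g := by
  apply Subtype.ext
  rw [val_mul]
  show g.1 = Matrix.scalar (Fin n) lam * (lam⁻¹ • g.1)
  rw [Matrix.scalar_apply, ← Matrix.smul_eq_diagonal_mul, smul_smul, mul_inv_cancel₀ h0, one_smul]

theorem pow_card_eq_one_of_diag {g : SpecialLinearGroup (Fin n) K} (hg : g ∈ B n K) (lam : K)
    (h : ∀ i, g.1 i i = lam) : lam ^ Fintype.card (Fin n) = 1 := by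
  have := det_eq_prod_diag hg
  rw [Finset.prod_congr rfl (fun i _ => h i), Finset.prod_const, Finset.card_univ] at this
  exact this

theorem centralizer_rowGrp {a : Fin n} (ha : ∀ r, a ≤ r) (hn : ∃ l, l ≠ a)
    {g : SpecialLinearGroup (Fin n) K} (hg : ∀ x ∈ rowGrp (K := K) a, g * x = x * g) :
    ∃ z ∈ Subgroup.center (SpecialLinearGroup (Fin n) K), ∃ x ∈ rowGrp (K := K) a, g = z * x := by
  have hcomm : ∀ l (h : a ≠ l), Commute (single a l (1 : K)) g.1 := fun l h =>
    commute_single_of_comm h ((hg _ (tv_mem_rowGrp h 1)).symm)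
  obtain ⟨l₀, hl₀⟩ := hn
  have hcol : ∀ k, k ≠ a → g.1 k a = 0 := fun k hk =>
    Matrix.col_eq_zero_of_commute_single (hcomm l₀ hl₀.symm) hk
  have hrow : ∀ l k, l ≠ a → k ≠ l → g.1 l k = 0 := fun l k hl hk =>
    Matrix.row_eq_zero_of_commute_single (hcomm l (Ne.symm hl)) hk
  have hdiag : ∀ l, g.1 l l = g.1 a a := by
    intro l
    by_cases hl : l = a
    · rw [hl]
    · exact (Matrix.diag_eq_of_commute_single (hcomm l (Ne.symm hl))).symm
  have hgB : g ∈ B n K := by
    intro i j hji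
    exact hrow i j (ne_of_gt (lt_of_le_of_lt (ha j) hji)) (ne_of_lt hji)
  have hlam := pow_card_eq_one_of_diag hgB (g.1 a a) hdiag
  have hlam0 : g.1 a a ≠ 0 := by
    intro h0
    rw [h0, zero_pow] at hlam
    · exact zero_ne_one hlam
    · rw [Fintype.card_fin]
      intro hn0
      subst hn0
      exact a.elim0
  refine ⟨scal _ hlam, scal_mem_center _ hlam, scaled _ hlam g, ?_, scal_mul_scaled _ hlam0 hlam g⟩
  rw [mem_rowGrp, rowP_iff]
  constructor
  · intro r s hr
    show (( g.1 a a)⁻¹ • g.1) r s = _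
    rw [Matrix.smul_apply, smul_eq_mul]
    by_cases hrs : r = s
    · subst hrs
      rw [hdiag r, inv_mul_cancel₀ hlam0, Matrix.one_apply_eq]
    · rw [hrow r s hr (Ne.symm hrs), mul_zero, Matrix.one_apply_ne hrs]
  · show (( g.1 a a)⁻¹ • g.1) a a = _
    rw [Matrix.smul_apply, smul_eq_mul, inv_mul_cancel₀ hlam0]

end Cfsg.Agent.Helper25.PSLFus
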