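import Mathlib
import Cfsg.Agent.Lib.Helper25.PSLFus9

/-!
# The column group: the unipotent radical of the stabiliser of a hyperplane
-/

set_option autoImplicit false
set_option linter.style.haveILetI false
set_option linter.unusedSectionVars false
set_option linter.unusedSimpArgs false

namespace Cfsg.Agent.Helper25.PSLFus

open Matrix

variable {K : Type*} [Field K] {n : ℕ}

/-- `M - 1` has nonzero entries only in column `a`, and a zero in position `(a, a)` -/
def ColP (a : Fin n) (M : Matrix (Fin n) (Fin n) K) : Prop :=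
  (M - 1) * single a a 1 = M - 1 ∧ single a a 1 * (M - 1) = 0

theorem colP_iff (a : Fin n) (M : Matrix (Fin n) (Fin n) K) :
    ColP a M ↔ (∀ r s, s ≠ a → M r s = (1 : Matrix (Fin n) (Fin n) K) r s) ∧ M a a = 1 := by
  constructor
  · rintro ⟨h1, h2⟩
    constructor
    · intro r s hs
      have := congrFun (congrFun h1 r) s
      rw [Matrix.mul_single_apply_of_ne _ _ _ _ _ hs, Matrix.sub_apply] at this
      exact (sub_eq_zero.mp this.symm)
    · have := congrFun (congrFun h2 a) a
      rw [Matrix.single_mul_apply_same, one_mul, Matrix.sub_apply, Matrix.one_apply_eq,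
        Matrix.zero_apply] at this
      exact sub_eq_zero.mp this
  · rintro ⟨h1, h2⟩
    constructor
    · ext r s
      by_cases hs : s = a
      · subst hs
        rw [Matrix.mul_single_apply_same, mul_one]
      · rw [Matrix.mul_single_apply_of_ne _ _ _ _ _ hs, Matrix.sub_apply, h1 r s hs, sub_self]
    · ext r s
      rw [Matrix.zero_apply]
      by_cases hr : r = a
      · subst hr
        rw [Matrix.single_mul_apply_same, one_mul, Matrix.sub_apply]
        by_cases hs : s = r
        · subst hs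
          rw [h2, Matrix.one_apply_eq, sub_self]
        · rw [h1 r s hs, sub_self]
      · rw [Matrix.single_mul_apply_of_ne _ _ _ _ _ hr]

theorem ColP.nil {a : Fin n} {M M' : Matrix (Fin n) (Fin n) K} (h : ColP a M)
    (h' : ColP a M') : (M - 1) * (M' - 1) = 0 := by
  calc (M - 1) * (M' - 1) = ((M - 1) * single a a 1) * (M' - 1) := by rw [h.1]
    _ = (M - 1) * (single a a 1 * (M' - 1)) := by rw [mul_assoc]
    _ = 0 := by rw [h'.2, mul_zero]

theorem ColP.mul {a : Fin n} {M M' : Matrix (Fin n) (Fin n) K} (h : ColP a M)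
    (h' : ColP a M') : ColP a (M * M') := by
  have e : M * M' - 1 = (M - 1) + (M' - 1) + (M - 1) * (M' - 1) := by noncomm_ring
  rw [h.nil h', add_zero] at e
  constructor
  · rw [e, add_mul, h.1, h'.1]
  · rw [e, mul_add, h.2, h'.2, add_zero]

theorem ColP.one (a : Fin n) : ColP a (1 : Matrix (Fin n) (Fin n) K) := by
  constructor
  · rw [sub_self, zero_mul]
  · rw [sub_self, mul_zero]

theorem ColP.inv {a : Fin n} {M X : Matrix (Fin n) (Fin n) K} (h : ColP a M)
    (hX : M * X = 1) : ColP a X := by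
  have h0 := h.nil h
  have e1 : (1 - (M - 1)) * M = 1 := by
    have : (1 - (M - 1)) * M = 1 - (M - 1) * (M - 1) := by noncomm_ring
    rw [this, h0, sub_zero]
  have e2 : X = 1 - (M - 1) := by
    calc X = ((1 - (M - 1)) * M) * X := by rw [e1, one_mul]
      _ = (1 - (M - 1)) * (M * X) := by rw [mul_assoc]
      _ = 1 - (M - 1) := by rw [hX, mul_one]
  have e3 : X - 1 = -(M - 1) := by rw [e2]; abel
  constructor
  · rw [e3, neg_mul, h.1]
  · rw [e3, mul_neg, h.2, neg_zero]

/-- conjugation by a matrix fixing the hyperplane -/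
theorem ColP.conj {a : Fin n} {M X X' : Matrix (Fin n) (Fin n) K} (h : ColP a M)
    (hXX' : X * X' = 1) (hX : single a a 1 * X = single a a 1)
    (hX' : single a a 1 * X' = single a a 1) : ColP a (X * M * X') := by
  have e0 : (M - 1) * X' = M - 1 := by
    calc (M - 1) * X' = ((M - 1) * single a a 1) * X' := by rw [h.1]
      _ = (M - 1) * (single a a 1 * X') := by rw [mul_assoc]
      _ = M - 1 := by rw [hX', h.1]
  have e : X * M * X' - 1 = X * (M - 1) := by
    have : X * M * X' - 1 = X * ((M - 1) * X') + (X * X' - 1) := by noncomm_ring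
    rw [this, hXX', sub_self, add_zero, e0]
  constructor
  · rw [e, mul_assoc, h.1]
  · rw [e, ← mul_assoc, hX, h.2]

variable [Fintype K]

/-- The column group. -/
def colGrp (a : Fin n) : Subgroup (SpecialLinearGroup (Fin n) K) where
  carrier := {g | ColP a g.1}
  mul_mem' := by
    intro x y hx hy
    show ColP a (x * y).1
    rw [val_mul]
    exact ColP.mul hx hy
  one_mem' := by
    show ColP a (1 : SpecialLinearGroup (Fin n) K).1
    rw [val_one]
    exact ColP.one a
  inv_mem' := by
    intro x hx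
    show ColP a (x⁻¹).1
    apply ColP.inv hx
    rw [← val_mul, mul_inv_cancel, val_one]

theorem mem_colGrp {a : Fin n} {g : SpecialLinearGroup (Fin n) K} :
    g ∈ colGrp a ↔ ColP a g.1 := Iff.rfl

theorem colGrp_le_U {a : Fin n} (ha : ∀ r, r ≤ a) : colGrp a ≤ U n K := by
  intro g hg
  obtain ⟨h1, h2⟩ := (colP_iff a g.1).mp (mem_colGrp.mp hg)
  rw [mem_U]
  refine ⟨fun r s hsr => ?_, fun r => ?_⟩
  · have hs : s ≠ a := ne_of_lt (lt_of_lt_of_le hsr (ha r))
    rw [h1 r s hs, Matrix.one_apply_ne (ne_of_gt hsr)]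
  · by_cases hr : r = a
    · rw [hr, h2]
    · rw [h1 r r hr, Matrix.one_apply_eq]

theorem tv_mem_colGrp {a k : Fin n} (h : k ≠ a) (c : K) : tv k a h c ∈ colGrp a := by
  rw [mem_colGrp, val_tv, transvection]
  constructor
  · rw [add_sub_cancel_left, Matrix.single_mul_single_same, mul_one]
  · rw [add_sub_cancel_left, Matrix.single_mul_single_of_ne _ _ _ _ h.symm]

theorem single_mul_tv {a k l : Fin n} (hkl : k ≠ l) (hk : k ≠ a) (c : K) :
    single a a 1 * (tv k l hkl c).1 = single a a 1 := by
  rw [val_tv, transvection, mul_add, mul_one, Matrix.single_mul_single_of_ne _ _ _ _ hk.symm,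
    add_zero]

theorem conj_mem_colGrp {a : Fin n} {x g : SpecialLinearGroup (Fin n) K}
    (hx : single a a 1 * x.1 = single a a 1) (hx' : single a a 1 * (x⁻¹).1 = single a a 1)
    (hg : g ∈ colGrp a) : x * g * x⁻¹ ∈ colGrp a := by
  rw [mem_colGrp, val_mul, val_mul]
  apply ColP.conj hg _ hx hx'
  rw [← val_mul, mul_inv_cancel, val_one]

theorem mem_normalizer_colGrp {a : Fin n} {x : SpecialLinearGroup (Fin n) K}
    (hx : single a a 1 * x.1 = single a a 1) (hx' : single a a 1 * (x⁻¹).1 = single a a 1) :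
    x ∈ Subgroup.normalizer ((colGrp a : Subgroup (SpecialLinearGroup (Fin n) K)) : Set _) := by
  rw [Subgroup.mem_normalizer_iff]
  intro g
  constructor
  · exact conj_mem_colGrp hx hx'
  · intro h
    have := conj_mem_colGrp (x := x⁻¹) hx' (by rw [inv_inv]; exact hx) h
    rw [inv_inv] at this
    have e : x⁻¹ * (x * g * x⁻¹) * x = g := by group
    rwa [e] at this

theorem tv_mem_normalizer_colGrp {a k l : Fin n} (hkl : k ≠ l) (hk : k ≠ a) (c : K) :
    tv k l hkl c ∈ Subgroup.normalizer
      ((colGrp a : Subgroup (SpecialLinearGroup (Fin n) K)) : Set _) := by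
  apply mem_normalizer_colGrp
  · exact single_mul_tv hkl hk c
  · rw [tv_inv]; exact single_mul_tv hkl hk (-c)

theorem centralizer_colGrp {a : Fin n} (ha : ∀ r, r ≤ a) (hn : ∃ l, l ≠ a)
    {g : SpecialLinearGroup (Fin n) K} (hg : ∀ x ∈ colGrp (K := K) a, g * x = x * g) :
    ∃ z ∈ Subgroup.center (SpecialLinearGroup (Fin n) K), ∃ x ∈ colGrp (K := K) a, g = z * x := by
  have hcomm : ∀ k (h : k ≠ a), Commute (single k a (1 : K)) g.1 := fun k h =>
    commute_single_of_comm h ((hg _ (tv_mem_colGrp h 1)).symm)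
  obtain ⟨l₀, hl₀⟩ := hn
  have hrowa : ∀ k, k ≠ a → g.1 a k = 0 := fun k hk =>
    Matrix.row_eq_zero_of_commute_single (hcomm l₀ hl₀) hk
  have hcolz : ∀ k r, k ≠ a → r ≠ k → g.1 r k = 0 := fun k r hk hr =>
    Matrix.col_eq_zero_of_commute_single (hcomm k hk) hr
  have hdiag : ∀ l, g.1 l l = g.1 a a := by
    intro l
    by_cases hl : l = a
    · rw [hl]
    · exact Matrix.diag_eq_of_commute_single (hcomm l hl)
  have hgB : g ∈ B n K := by
    intro i j hji
    exact hcolz j i (ne_of_lt (lt_of_lt_of_le hji (ha i))) (ne_of_gt hji)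
  have hlam := pow_card_eq_one_of_diag hgB (g.1 a a) hdiag
  have hlam0 : g.1 a a ≠ 0 := by
    intro h0
    rw [h0, zero_pow] at hlam
    · exact zero_ne_one hlam
    · rw [Fintype.card_fin]
      intro hn0
      subst hn0
      exact a.elim0
  refine ⟨scal _ hlam, scal_mem_center _ hlam, scaled _ hlam g, ?_, scal_mul_scaled _ hlam0 hlam g⟩
  rw [mem_colGrp, colP_iff]
  constructor
  · intro r s hs
    show (( g.1 a a)⁻¹ • g.1) r s = _
    rw [Matrix.smul_apply, smul_eq_mul]
    by_cases hrs : r = s
    · subst hrs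
      rw [hdiag r, inv_mul_cancel₀ hlam0, Matrix.one_apply_eq]
    · rw [hcolz s r hs hrs, mul_zero, Matrix.one_apply_ne hrs]
  · show (( g.1 a a)⁻¹ • g.1) a a = _
    rw [Matrix.smul_apply, smul_eq_mul, inv_mul_cancel₀ hlam0]

end Cfsg.Agent.Helper25.PSLFus
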