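import Mathlib
import Cfsg.Agent.Lib.Helper25.PSLFus10

/-!
# Good generators of the Borel subgroup of `SL_n`, `n ≥ 3`
-/

set_option autoImplicit false
set_option linter.style.haveILetI false
set_option linter.unusedSectionVars false
set_option linter.unusedSimpArgs false

namespace Cfsg.Agent.Helper25.PSLFus

open Matrix

variable {K : Type*} [Field K] [Fintype K]

/-- good generators at the level of `SL_n` -/
def GoodSL (p m : ℕ) (K : Type*) [Field K] [Fintype K] :
    Set (SpecialLinearGroup (Fin (m + 3)) K) :=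
  {x | x ∈ U (m + 3) K ∨ (x ∈ B (m + 3) K ∧
    ∃ R : Subgroup (SpecialLinearGroup (Fin (m + 3)) K), R ≤ U (m + 3) K ∧
      (∀ g : SpecialLinearGroup (Fin (m + 3)) K, (∀ a ∈ R, g * a = a * g) →
        ∃ z ∈ Subgroup.center (SpecialLinearGroup (Fin (m + 3)) K), ∃ a ∈ R, g = z * a) ∧
      x ∈ Subgroup.closure {y | y ∈ Subgroup.normalizer (R : Set _) ∧ y ^ p = 1})}

theorem Hset_subset_goodSL (p m : ℕ) [Fact p.Prime] [CharP K p] : Hset m K ⊆ GoodSL p m K := by
  rintro x ⟨k, l, hkl, t, ht, hcase, rfl⟩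
  right
  refine ⟨dg_mem_B _ _, ?_⟩
  rcases hcase with ⟨hk, hl⟩ | ⟨hk, hl⟩
  · refine ⟨rowGrp 0, rowGrp_le_U (fun r => Fin.zero_le r), ?_, ?_⟩
    · intro g hg
      exact centralizer_rowGrp (fun r => Fin.zero_le r) ⟨1, (zero_ne_one' m).symm⟩ hg
    · apply hh_mem_closure
      · intro c
        exact Subgroup.subset_closure ⟨tv_mem_normalizer_rowGrp hkl hl c, tv_pow_char p _ _ _ c⟩
      · intro c
        exact Subgroup.subset_closure
          ⟨tv_mem_normalizer_rowGrp hkl.symm hk c, tv_pow_char p _ _ _ c⟩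
  · subst hk hl
    have h0l : (0 : Fin (m + 3)) ≠ Fin.last (m + 2) := zero_ne_last (m + 1)
    have h1l : (1 : Fin (m + 3)) ≠ Fin.last (m + 2) := (last_ne_one m).symm
    refine ⟨colGrp (Fin.last (m + 2)), colGrp_le_U (fun r => Fin.le_last r), ?_, ?_⟩
    · intro g hg
      exact centralizer_colGrp (fun r => Fin.le_last r) ⟨0, h0l⟩ hg
    · apply hh_mem_closure
      · intro c
        exact Subgroup.subset_closure ⟨tv_mem_normalizer_colGrp hkl h0l c, tv_pow_char p _ _ _ c⟩
      · intro c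
        exact Subgroup.subset_closure
          ⟨tv_mem_normalizer_colGrp hkl.symm h1l c, tv_pow_char p _ _ _ c⟩

theorem B_le_closure_goodSL (p m : ℕ) [Fact p.Prime] [CharP K p] :
    B (m + 3) K ≤ Subgroup.closure (GoodSL p m K) := by
  intro g hg
  obtain ⟨u, hu, hgu⟩ := exists_dg_mul hg
  rw [hgu]
  apply Subgroup.mul_mem
  · exact Subgroup.closure_mono (Hset_subset_goodSL p m) (dg_mem_closure _ _)
  · exact Subgroup.subset_closure (Or.inl hu)

end Cfsg.Agent.Helper25.PSLFus
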