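import Mathlib
import Cfsg.Agent.Lib.Helper25.PSLFus11
import Cfsg.Agent.Lib.Helper25.FusionSimpCrit2

/-!
# Passing from `SL_n` to `PSL_n`
-/

set_option autoImplicit false
set_option linter.style.haveILetI false
set_option linter.unusedSectionVars false
set_option linter.unusedSimpArgs false

namespace Cfsg.Agent.Helper25.PSLFus

open Matrix Cfsg.Agent.Helper25.SimpCrit

variable {K : Type*} [Field K] [Fintype K] {m : ℕ}

/-- A central `p`-element of `SL_n` in characteristic `p` is trivial. -/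
theorem central_eq_one_of_pow (p : ℕ) [Fact p.Prime] [CharP K p]
    {z : SpecialLinearGroup (Fin (m + 3)) K}
    (hz : z ∈ Subgroup.center (SpecialLinearGroup (Fin (m + 3)) K)) {k : ℕ}
    (hk : z ^ p ^ k = 1) : z = 1 := by
  obtain ⟨r, -, hrz⟩ := Matrix.SpecialLinearGroup.mem_center_iff.mp hz
  have h1 : z.1 ^ p ^ k = 1 := by rw [← val_pow, hk, val_one]
  rw [← hrz, ← map_pow] at h1
  have h2 : r ^ p ^ k = 1 := by
    have : Matrix.scalar (Fin (m + 3)) (r ^ p ^ k) = Matrix.scalar (Fin (m + 3)) (1 : K) := by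
      rw [h1, map_one]
    exact Matrix.scalar_inj.mp this
  have h3 : (r - 1) ^ p ^ k = 0 := by rw [sub_pow_char_pow, h2, one_pow, sub_self]
  have h4 : r = 1 := sub_eq_zero.mp (pow_eq_zero_iff
    (pow_ne_zero k (Fact.out : p.Prime).ne_zero) |>.mp h3)
  apply Subtype.ext
  rw [← hrz, h4, map_one, val_one]

/-- the projection `SL_n → PSL_n` -/
def proj (n : ℕ) (K : Type*) [Field K] [Fintype K] :
    SpecialLinearGroup (Fin n) K →* Matrix.ProjectiveSpecialLinearGroup (Fin n) K :=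
  QuotientGroup.mk' (Subgroup.center (SpecialLinearGroup (Fin n) K))

theorem proj_surjective (n : ℕ) : Function.Surjective (proj n K) :=
  QuotientGroup.mk'_surjective _

theorem proj_eq_iff {n : ℕ} {a b : SpecialLinearGroup (Fin n) K} :
    proj n K a = proj n K b ↔ a⁻¹ * b ∈ Subgroup.center (SpecialLinearGroup (Fin n) K) :=
  QuotientGroup.eq

/-- `p`-elements of `SL_n` with the same image in `PSL_n` are equal. -/
theorem eq_of_proj_eq (p : ℕ) [Fact p.Prime] [CharP K p]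
    {a b : SpecialLinearGroup (Fin (m + 3)) K} (ha : ∃ k : ℕ, a ^ p ^ k = 1)
    (hb : ∃ k : ℕ, b ^ p ^ k = 1) (h : proj (m + 3) K a = proj (m + 3) K b) : a = b := by
  obtain ⟨k, hk⟩ := ha
  obtain ⟨l, hl⟩ := hb
  have hz := proj_eq_iff.mp h
  have hcomm : Commute a (a⁻¹ * b) := Subgroup.mem_center_iff.mp hz a
  have hb' : b = a * (a⁻¹ * b) := by rw [mul_inv_cancel_left]
  have h1 : b ^ p ^ (k + l) = a ^ p ^ (k + l) * (a⁻¹ * b) ^ p ^ (k + l) := by
    conv_lhs => rw [hb']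
    exact hcomm.mul_pow _
  have h2 : a ^ p ^ (k + l) = 1 := by rw [pow_add, pow_mul, hk, one_pow]
  have h3 : b ^ p ^ (k + l) = 1 := by rw [pow_add, mul_comm, pow_mul, hl, one_pow]
  rw [h2, h3, one_mul] at h1
  have h4 := central_eq_one_of_pow p hz h1.symm
  rw [hb', h4, mul_one]

theorem exists_pow_of_mem_U (p : ℕ) [Fact p.Prime] [CharP K p]
    {u : SpecialLinearGroup (Fin (m + 3)) K} (hu : u ∈ U (m + 3) K) : ∃ k : ℕ, u ^ p ^ k = 1 := by
  obtain ⟨k, hk⟩ := U_isPGroup (n := m + 3) (K := K) p ⟨u, hu⟩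
  exact ⟨k, by simpa using congrArg Subtype.val hk⟩

theorem exists_pow_conj (p : ℕ) {G : Type*} [Group G] {u : G} (g : G)
    (hu : ∃ k : ℕ, u ^ p ^ k = 1) : ∃ k : ℕ, (g * u * g⁻¹) ^ p ^ k = 1 := by
  obtain ⟨k, hk⟩ := hu
  exact ⟨k, by rw [conj_pow, hk, mul_one, mul_inv_cancel]⟩

/-- the Sylow `p`-subgroup of `PSL_n` -/
noncomputable def PSylow (p m : ℕ) (K : Type*) [Field K] [Fintype K] [Fact p.Prime] [CharP K p] :
    Sylow p (Matrix.ProjectiveSpecialLinearGroup (Fin (m + 3)) K) :=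
  (USylow p : Sylow p (SpecialLinearGroup (Fin (m + 3)) K)).mapSurjective (proj_surjective (m + 3))

theorem coe_PSylow (p : ℕ) [Fact p.Prime] [CharP K p] :
    ((PSylow p m K : Sylow p _) : Subgroup (Matrix.ProjectiveSpecialLinearGroup (Fin (m + 3)) K)) =
      (U (m + 3) K).map (proj (m + 3) K) := rfl

theorem PSylow_ne_bot (p : ℕ) [Fact p.Prime] [CharP K p] :
    ((PSylow p m K : Sylow p _) : Subgroup (Matrix.ProjectiveSpecialLinearGroup (Fin (m + 3)) K)) ≠
      ⊥ := by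
  intro h
  rw [coe_PSylow] at h
  have h0l := zero_ne_last (m + 1)
  have hmem : proj (m + 3) K (tv 0 (Fin.last (m + 2)) h0l 1) ∈
      (U (m + 3) K).map (proj (m + 3) K) :=
    ⟨_, tv_mem_U (zero_lt_last (m + 1)) 1, rfl⟩
  rw [h, Subgroup.mem_bot] at hmem
  have h1 : tv 0 (Fin.last (m + 2)) h0l (1 : K) = 1 := by
    apply eq_of_proj_eq p (exists_pow_of_mem_U p (tv_mem_U (zero_lt_last (m + 1)) 1))
      ⟨0, by rw [one_pow]⟩
    rw [hmem, map_one]
  have h2 := congrFun (congrFun (congrArg Subtype.val h1) 0) (Fin.last (m + 2))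
  rw [tv_apply, val_one, if_neg h0l, if_pos ⟨rfl, rfl⟩, zero_add, Matrix.one_apply_ne h0l] at h2
  exact one_ne_zero h2

theorem PSylow_noClosed (p : ℕ) [Fact p.Prime] [CharP K p] :
    NoClosed ((PSylow p m K : Sylow p _) :
      Subgroup (Matrix.ProjectiveSpecialLinearGroup (Fin (m + 3)) K)) := by
  intro T hTS hTne hTc
  rw [coe_PSylow] at hTS hTc ⊢
  have key : U (m + 3) K ⊓ T.comap (proj (m + 3) K) = U (m + 3) K := by
    apply eq_U_of_fusClosed p _ inf_le_left
    · intro hbot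
      apply hTne
      rw [eq_bot_iff]
      intro t ht
      obtain ⟨u, hu, rfl⟩ := hTS ht
      have : u ∈ U (m + 3) K ⊓ T.comap (proj (m + 3) K) := ⟨hu, ht⟩
      rw [hbot, Subgroup.mem_bot] at this
      rw [this, map_one]
      exact Subgroup.one_mem _
    · intro x hx g hg
      refine ⟨hg, ?_⟩
      show proj (m + 3) K (g * x * g⁻¹) ∈ T
      rw [map_mul, map_mul, map_inv]
      apply hTc _ hx.2
      rw [← map_inv, ← map_mul, ← map_mul]
      exact ⟨_, hg, rfl⟩
  apply le_antisymm hTS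
  rw [Subgroup.map_le_iff_le_comap]
  rw [← key]
  exact inf_le_right

end Cfsg.Agent.Helper25.PSLFus
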