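import Mathlib
import Cfsg.Agent.Lib.Helper25.PSLFus12

/-!
# The normaliser of the Sylow `p`-subgroup of `PSL_n` is generated by good elements
-/

set_option autoImplicit false
set_option linter.style.haveILetI false
set_option linter.unusedSectionVars false
set_option linter.unusedSimpArgs false

namespace Cfsg.Agent.Helper25.PSLFus

open Matrix Cfsg.Agent.Helper25.SimpCrit

variable {K : Type*} [Field K] [Fintype K] {m : ℕ}

theorem conj_mem_U_of_proj (p : ℕ) [Fact p.Prime] [CharP K p]
    {g : SpecialLinearGroup (Fin (m + 3)) K}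
    (hg : proj (m + 3) K g ∈ Subgroup.normalizer
      (((U (m + 3) K).map (proj (m + 3) K) : Subgroup _) : Set _))
    {u : SpecialLinearGroup (Fin (m + 3)) K} (hu : u ∈ U (m + 3) K) :
    g * u * g⁻¹ ∈ U (m + 3) K := by
  have h1 : proj (m + 3) K g * proj (m + 3) K u * (proj (m + 3) K g)⁻¹ ∈
      (U (m + 3) K).map (proj (m + 3) K) :=
    (Subgroup.mem_normalizer_iff.mp hg _).mp ⟨u, hu, rfl⟩
  obtain ⟨u', hu', hu'eq⟩ := h1
  have h2 : proj (m + 3) K u' = proj (m + 3) K (g * u * g⁻¹) := by
    rw [hu'eq, map_mul, map_mul, map_inv]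
  have h3 := eq_of_proj_eq p (exists_pow_of_mem_U p hu')
    (exists_pow_conj p g (exists_pow_of_mem_U p hu)) h2
  rw [← h3]
  exact hu'

theorem mem_normalizer_U_of_proj (p : ℕ) [Fact p.Prime] [CharP K p]
    {g : SpecialLinearGroup (Fin (m + 3)) K}
    (hg : proj (m + 3) K g ∈ Subgroup.normalizer
      (((U (m + 3) K).map (proj (m + 3) K) : Subgroup _) : Set _)) :
    g ∈ Subgroup.normalizer ((U (m + 3) K : Subgroup _) : Set _) := by
  rw [Subgroup.mem_normalizer_iff]
  intro u
  constructor
  · exact conj_mem_U_of_proj p hg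
  · intro h
    have hginv : proj (m + 3) K g⁻¹ ∈ Subgroup.normalizer
        (((U (m + 3) K).map (proj (m + 3) K) : Subgroup _) : Set _) := by
      rw [map_inv]; exact Subgroup.inv_mem _ hg
    have := conj_mem_U_of_proj p hginv h
    rw [inv_inv] at this
    have e : g⁻¹ * (g * u * g⁻¹) * g = u := by group
    rwa [e] at this

theorem proj_center {z : SpecialLinearGroup (Fin (m + 3)) K}
    (hz : z ∈ Subgroup.center (SpecialLinearGroup (Fin (m + 3)) K)) : proj (m + 3) K z = 1 :=
  (QuotientGroup.eq_one_iff z).mpr hz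

theorem proj_mem_normalizer {R : Subgroup (SpecialLinearGroup (Fin (m + 3)) K)}
    {y : SpecialLinearGroup (Fin (m + 3)) K} (hy : y ∈ Subgroup.normalizer (R : Set _)) :
    proj (m + 3) K y ∈ Subgroup.normalizer ((R.map (proj (m + 3) K) : Subgroup _) : Set _) :=
  Subgroup.le_normalizer_map (proj (m + 3) K) ⟨y, hy, rfl⟩

theorem proj_goodSL (p : ℕ) [Fact p.Prime] [CharP K p] {x : SpecialLinearGroup (Fin (m + 3)) K}
    (hx : x ∈ GoodSL p m K) :
    proj (m + 3) K x ∈ GoodGen p ((U (m + 3) K).map (proj (m + 3) K)) := by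
  rcases hx with hx | ⟨hxB, R, hRU, hcent, hxc⟩
  · exact Or.inl ⟨x, hx, rfl⟩
  · right
    refine ⟨proj_mem_normalizer (B_le_normalizer_U hxB), R.map (proj (m + 3) K),
      Subgroup.map_mono hRU, ?_, ?_⟩
    · intro gbar hgbar
      obtain ⟨g, rfl⟩ := proj_surjective (K := K) (m + 3) gbar
      have hcomm : ∀ a ∈ R, g * a = a * g := by
        intro a ha
        have h1 : proj (m + 3) K a * proj (m + 3) K g = proj (m + 3) K g * proj (m + 3) K a :=
          Subgroup.mem_centralizer_iff.mp hgbar _ ⟨a, ha, rfl⟩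
        have h2 : proj (m + 3) K (g * a * g⁻¹) = proj (m + 3) K a := by
          rw [map_mul, map_mul, map_inv, ← h1, mul_inv_cancel_right]
        have h3 := eq_of_proj_eq p (exists_pow_conj p g (exists_pow_of_mem_U p (hRU ha)))
          (exists_pow_of_mem_U p (hRU ha)) h2
        calc g * a = (g * a * g⁻¹) * g := by rw [inv_mul_cancel_right]
          _ = a * g := by rw [h3]
      obtain ⟨z, hz, a, ha, hga⟩ := hcent g hcomm
      rw [hga, map_mul, proj_center hz, one_mul]
      exact ⟨a, ha, rfl⟩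
    · have hle : Subgroup.closure {y | y ∈ Subgroup.normalizer (R : Set _) ∧ y ^ p = 1} ≤
          (Subgroup.closure {y | y ∈ Subgroup.normalizer
            ((R.map (proj (m + 3) K) : Subgroup _) : Set _) ∧ ∃ k : ℕ, y ^ p ^ k = 1}).comap
            (proj (m + 3) K) := by
        rw [Subgroup.closure_le]
        rintro y ⟨hy1, hy2⟩
        apply Subgroup.subset_closure
        refine ⟨proj_mem_normalizer hy1, 1, ?_⟩
        rw [pow_one, ← map_pow, hy2, map_one]
      exact hle hxc

theorem PSylow_autGen (p : ℕ) [Fact p.Prime] [CharP K p] :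
    AutGen p ((PSylow p m K : Sylow p _) :
      Subgroup (Matrix.ProjectiveSpecialLinearGroup (Fin (m + 3)) K)) := by
  intro gbar hgbar
  rw [coe_PSylow] at hgbar ⊢
  obtain ⟨g, rfl⟩ := proj_surjective (K := K) (m + 3) gbar
  have hgB : g ∈ B (m + 3) K := normalizer_U_le (mem_normalizer_U_of_proj p hgbar)
  have hgc := B_le_closure_goodSL p m hgB
  have hle : Subgroup.closure (GoodSL p m K) ≤
      (Subgroup.closure (GoodGen p ((U (m + 3) K).map (proj (m + 3) K)))).comap
        (proj (m + 3) K) := by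
    rw [Subgroup.closure_le]
    intro x hx
    exact Subgroup.subset_closure (proj_goodSL p hx)
  exact hle hgc

end Cfsg.Agent.Helper25.PSLFus
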