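import Mathlib
import Cfsg.Agent.Lib.Helper25.PSLFus13
import Cfsg.Agent.Lib.Helper25.FusionSimpCrit3

/-!
# Unitary groups in a Witt basis: the adjoint, the group `GJ`, block filtrations
-/

set_option autoImplicit false
set_option linter.style.haveILetI false
set_option linter.unusedSectionVars false

namespace Cfsg.Agent.Helper25.PSUFus

open Matrix Cfsg.Agent.Helper25.PSLFus

variable {K : Type*} [Field K] [Fintype K] (σ : K →+* K) {n : ℕ}

/-- adjoint with respect to the antidiagonal hermitian form -/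
def adj (M : Matrix (Fin n) (Fin n) K) : Matrix (Fin n) (Fin n) K :=
  Matrix.of fun i j => σ (M (Fin.rev j) (Fin.rev i))

theorem adj_apply (M : Matrix (Fin n) (Fin n) K) (i j : Fin n) :
    adj σ M i j = σ (M (Fin.rev j) (Fin.rev i)) := rfl

theorem adj_mul (M N : Matrix (Fin n) (Fin n) K) : adj σ (M * N) = adj σ N * adj σ M := by
  ext i j
  rw [adj_apply, Matrix.mul_apply, Matrix.mul_apply, map_sum,
    ← Equiv.sum_comp Fin.revPerm (fun k => σ (M (Fin.rev j) k * N k (Fin.rev i)))]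
  apply Finset.sum_congr rfl
  intro l _
  rw [adj_apply, adj_apply, map_mul, Fin.revPerm_apply, mul_comm]

theorem adj_one : adj σ (1 : Matrix (Fin n) (Fin n) K) = 1 := by
  ext i j
  rw [adj_apply, Matrix.one_apply, Matrix.one_apply]
  by_cases h : i = j
  · subst h; rw [if_pos rfl, if_pos rfl, map_one]
  · rw [if_neg h, if_neg (fun h' => h (Fin.rev_injective h').symm), map_zero]

theorem adj_zero : adj σ (0 : Matrix (Fin n) (Fin n) K) = 0 := by
  ext i j
  rw [adj_apply, Matrix.zero_apply, Matrix.zero_apply, map_zero]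

theorem adj_add (M N : Matrix (Fin n) (Fin n) K) : adj σ (M + N) = adj σ M + adj σ N := by
  ext i j
  rw [adj_apply, Matrix.add_apply, Matrix.add_apply, map_add, adj_apply, adj_apply]

theorem adj_neg (M : Matrix (Fin n) (Fin n) K) : adj σ (-M) = -adj σ M := by
  ext i j
  rw [adj_apply, Matrix.neg_apply, Matrix.neg_apply, map_neg, adj_apply]

theorem adj_sub (M N : Matrix (Fin n) (Fin n) K) : adj σ (M - N) = adj σ M - adj σ N := by
  ext i j
  rw [adj_apply, Matrix.sub_apply, Matrix.sub_apply, map_sub, adj_apply, adj_apply]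

theorem adj_single (i j : Fin n) (c : K) :
    adj σ (single i j c) = single (Fin.rev j) (Fin.rev i) (σ c) := by
  ext a b
  rw [adj_apply, Matrix.single_apply, Matrix.single_apply]
  by_cases h : i = Fin.rev b ∧ j = Fin.rev a
  · obtain ⟨h1, h2⟩ := h
    rw [if_pos ⟨h1, h2⟩, if_pos ⟨by rw [h2, Fin.rev_rev], by rw [h1, Fin.rev_rev]⟩]
  · rw [if_neg h, if_neg, map_zero]
    rintro ⟨h1, h2⟩
    exact h ⟨by rw [← h2, Fin.rev_rev], by rw [← h1, Fin.rev_rev]⟩

theorem adj_adj [hσ : Fact (∀ x, σ (σ x) = x)] (M : Matrix (Fin n) (Fin n) K) :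
    adj σ (adj σ M) = M := by
  ext i j
  rw [adj_apply, adj_apply, Fin.rev_rev, Fin.rev_rev, hσ.out]

/-- the unitary group of the antidiagonal form, inside `SL_n` -/
def GJ (σ : K →+* K) [hσ : Fact (∀ x, σ (σ x) = x)] (n : ℕ) :
    Subgroup (SpecialLinearGroup (Fin n) K) where
  carrier := {g | adj σ g.1 * g.1 = 1}
  mul_mem' := by
    intro a b ha hb
    show adj σ (a * b).1 * (a * b).1 = 1
    rw [val_mul, adj_mul, Matrix.mul_assoc, ← Matrix.mul_assoc (adj σ a.1), ha, Matrix.one_mul, hb]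
  one_mem' := by
    show adj σ (1 : SpecialLinearGroup (Fin n) K).1 * (1 : SpecialLinearGroup (Fin n) K).1 = 1
    rw [val_one, adj_one, Matrix.one_mul]
  inv_mem' := by
    intro a ha
    have ha' : adj σ a.1 * a.1 = 1 := ha
    have h1 : a.1 * adj σ a.1 = 1 := _root_.mul_eq_one_comm.mp ha'
    have h2 : (a⁻¹).1 * a.1 = 1 := by rw [← val_mul, inv_mul_cancel, val_one]
    have h3 : (a⁻¹).1 = adj σ a.1 := by
      calc (a⁻¹).1 = (a⁻¹).1 * (a.1 * adj σ a.1) := by rw [h1, Matrix.mul_one]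
        _ = adj σ a.1 := by rw [← Matrix.mul_assoc, h2, Matrix.one_mul]
    show adj σ (a⁻¹).1 * (a⁻¹).1 = 1
    rw [h3, adj_adj, h1]

variable [hσ : Fact (∀ x, σ (σ x) = x)]

theorem mem_GJ {g : SpecialLinearGroup (Fin n) K} : g ∈ GJ σ n ↔ adj σ g.1 * g.1 = 1 := Iff.rfl

theorem GJ_adj_mul (g : GJ σ n) : adj σ g.1.1 * g.1.1 = 1 := g.2

theorem GJ_mul_adj (g : GJ σ n) : g.1.1 * adj σ g.1.1 = 1 := _root_.mul_eq_one_comm.mp g.2

theorem gj_val_mul (a b : GJ σ n) : (a * b).1.1 = a.1.1 * b.1.1 := rfl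

theorem gj_val_one : (1 : GJ σ n).1.1 = 1 := rfl

theorem gj_val_inv (a : GJ σ n) : (a⁻¹).1.1 = adj σ a.1.1 := by
  have h1 := GJ_mul_adj σ a
  have h2 : (a⁻¹).1.1 * a.1.1 = 1 := by rw [← gj_val_mul, inv_mul_cancel, gj_val_one]
  calc (a⁻¹).1.1 = (a⁻¹).1.1 * (a.1.1 * adj σ a.1.1) := by rw [h1, Matrix.mul_one]
    _ = adj σ a.1.1 := by rw [← Matrix.mul_assoc, h2, Matrix.one_mul]

theorem gj_ext {a b : GJ σ n} (h : a.1.1 = b.1.1) : a = b := Subtype.ext (Subtype.ext h)

theorem gj_val_pow (a : GJ σ n) (k : ℕ) : (a ^ k).1.1 = a.1.1 ^ k := by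
  induction k with
  | zero => rw [pow_zero, pow_zero, gj_val_one]
  | succ k ih => rw [pow_succ, pow_succ, gj_val_mul, ih]

end Cfsg.Agent.Helper25.PSUFus
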