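import Mathlib
import Cfsg.Agent.Lib.Helper25.PSUFus1

/-!
# Block filtrations, radicals and parabolics of `GJ`
-/

set_option autoImplicit false
set_option linter.style.haveILetI false
set_option linter.unusedSectionVars false

namespace Cfsg.Agent.Helper25.PSUFus

open Matrix Cfsg.Agent.Helper25.PSLFus

variable {K : Type*} [Field K] [Fintype K] (σ : K →+* K) {n : ℕ}

/-- `M` raises the block index `b` by at least `d` -/
def Fil (b : Fin n → ℕ) (d : ℕ) (M : Matrix (Fin n) (Fin n) K) : Prop :=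
  ∀ k l, b l < b k + d → M k l = 0

theorem Fil.mul {b : Fin n → ℕ} {d d' : ℕ} {M N : Matrix (Fin n) (Fin n) K}
    (hM : Fil b d M) (hN : Fil b d' N) : Fil b (d + d') (M * N) := by
  intro k l hkl
  rw [Matrix.mul_apply]
  apply Finset.sum_eq_zero
  intro r _
  by_cases h : b r < b k + d
  · rw [hM k r h, zero_mul]
  · rw [hN r l (by omega), mul_zero]

theorem Fil.add {b : Fin n → ℕ} {d : ℕ} {M N : Matrix (Fin n) (Fin n) K}
    (hM : Fil b d M) (hN : Fil b d N) : Fil b d (M + N) := by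
  intro k l hkl
  rw [Matrix.add_apply, hM k l hkl, hN k l hkl, add_zero]

theorem Fil.sub {b : Fin n → ℕ} {d : ℕ} {M N : Matrix (Fin n) (Fin n) K}
    (hM : Fil b d M) (hN : Fil b d N) : Fil b d (M - N) := by
  intro k l hkl
  rw [Matrix.sub_apply, hM k l hkl, hN k l hkl, sub_zero]

theorem Fil.neg {b : Fin n → ℕ} {d : ℕ} {M : Matrix (Fin n) (Fin n) K}
    (hM : Fil b d M) : Fil b d (-M) := by
  intro k l hkl
  rw [Matrix.neg_apply, hM k l hkl, neg_zero]

theorem Fil.mono {b : Fin n → ℕ} {d d' : ℕ} (h : d' ≤ d) {M : Matrix (Fin n) (Fin n) K}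
    (hM : Fil b d M) : Fil b d' M := fun k l hkl => hM k l (by omega)

theorem Fil.one (b : Fin n → ℕ) : Fil b 0 (1 : Matrix (Fin n) (Fin n) K) := by
  intro k l hkl
  rw [Matrix.one_apply_ne]
  rintro rfl
  omega

theorem Fil.zero (b : Fin n → ℕ) (d : ℕ) : Fil b d (0 : Matrix (Fin n) (Fin n) K) :=
  fun _ _ _ => rfl

theorem Fil.single {b : Fin n → ℕ} {d : ℕ} {i j : Fin n} (h : b i + d ≤ b j) (c : K) :
    Fil b d (single i j c) := by
  intro k l hkl
  rw [Matrix.single_apply, if_neg]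
  rintro ⟨rfl, rfl⟩
  omega

/-- symmetric block functions -/
def BSymm (b : Fin n → ℕ) : Prop := ∃ B : ℕ, ∀ k : Fin n, b k + b (Fin.rev k) = B

theorem Fil.adj {b : Fin n → ℕ} (hb : BSymm b) {d : ℕ} {M : Matrix (Fin n) (Fin n) K}
    (hM : Fil b d M) : Fil b d (adj σ M) := by
  obtain ⟨B, hB⟩ := hb
  intro k l hkl
  rw [adj_apply, hM, map_zero]
  have h1 := hB k
  have h2 := hB l
  omega

variable [hσ : Fact (∀ x, σ (σ x) = x)]

/-- the "parabolic" subgroup of block upper triangular elements -/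
def Par (b : Fin n → ℕ) (hb : BSymm b) : Subgroup (GJ σ n) where
  carrier := {g | Fil b 0 g.1.1}
  mul_mem' := by
    intro a c ha hc
    show Fil b 0 (a * c).1.1
    rw [gj_val_mul]
    exact Fil.mul ha hc
  one_mem' := Fil.one b
  inv_mem' := by
    intro a ha
    show Fil b 0 (a⁻¹).1.1
    rw [gj_val_inv]
    exact Fil.adj σ hb ha

/-- the "radical" of block unitriangular elements -/
def Rad (b : Fin n → ℕ) (hb : BSymm b) : Subgroup (GJ σ n) where
  carrier := {g | Fil b 1 (g.1.1 - 1)}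
  mul_mem' := by
    intro a c ha hc
    show Fil b 1 ((a * c).1.1 - 1)
    rw [gj_val_mul]
    have e : a.1.1 * c.1.1 - 1 = (a.1.1 - 1) * (c.1.1 - 1) + (a.1.1 - 1) + (c.1.1 - 1) := by
      noncomm_ring
    rw [e]
    exact Fil.add (Fil.add (Fil.mono (by omega) (Fil.mul ha hc)) ha) hc
  one_mem' := by
    show Fil b 1 ((1 : GJ σ n).1.1 - 1)
    rw [gj_val_one, sub_self]
    exact Fil.zero b 1
  inv_mem' := by
    intro a ha
    show Fil b 1 ((a⁻¹).1.1 - 1)
    rw [gj_val_inv]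
    have e : adj σ a.1.1 - 1 = adj σ (a.1.1 - 1) := by rw [adj_sub, adj_one]
    rw [e]
    exact Fil.adj σ hb ha

theorem mem_Par {b : Fin n → ℕ} {hb : BSymm b} {g : GJ σ n} :
    g ∈ Par σ b hb ↔ Fil b 0 g.1.1 := Iff.rfl

theorem mem_Rad {b : Fin n → ℕ} {hb : BSymm b} {g : GJ σ n} :
    g ∈ Rad σ b hb ↔ Fil b 1 (g.1.1 - 1) := Iff.rfl

theorem conj_mem_Rad {b : Fin n → ℕ} {hb : BSymm b} {g r : GJ σ n} (hg : g ∈ Par σ b hb)
    (hr : r ∈ Rad σ b hb) : g * r * g⁻¹ ∈ Rad σ b hb := by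
  rw [mem_Rad, gj_val_mul, gj_val_mul, gj_val_inv]
  have h1 := GJ_mul_adj σ g
  have e : g.1.1 * r.1.1 * adj σ g.1.1 - 1 = g.1.1 * (r.1.1 - 1) * adj σ g.1.1 := by
    rw [Matrix.mul_sub, Matrix.sub_mul, Matrix.mul_one, h1]
  rw [e]
  have := Fil.mul (Fil.mul (mem_Par σ |>.mp hg) (mem_Rad σ |>.mp hr)) (Fil.adj σ hb (mem_Par σ |>.mp hg))
  simpa using this

theorem Par_le_normalizer_Rad (b : Fin n → ℕ) (hb : BSymm b) :
    Par σ b hb ≤ Subgroup.normalizer ((Rad σ b hb : Subgroup (GJ σ n)) : Set (GJ σ n)) := by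
  intro g hg
  rw [Subgroup.mem_normalizer_iff]
  intro r
  constructor
  · intro hr
    exact conj_mem_Rad σ hg hr
  · intro hr
    have h1 := conj_mem_Rad σ (Subgroup.inv_mem _ hg) hr
    have e : g⁻¹ * (g * r * g⁻¹) * g⁻¹⁻¹ = r := by group
    rwa [e] at h1

/-- the value block function -/
def bval (n : ℕ) : Fin n → ℕ := fun k => k.val

theorem bval_symm (n : ℕ) : BSymm (bval n) := by
  refine ⟨n - 1, fun k => ?_⟩
  unfold bval
  rw [Fin.val_rev]
  have := k.2
  omega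

theorem fil_bval_zero_iff {M : Matrix (Fin n) (Fin n) K} : Fil (bval n) 0 M ↔ IsUpper M := by
  constructor
  · intro h i j hji
    exact h i j (by unfold bval; simpa using Fin.lt_def.mp hji)
  · intro h k l hkl
    exact h k l (Fin.lt_def.mpr (by unfold bval at hkl; simpa using hkl))

theorem fil_bval_one_iff {M : Matrix (Fin n) (Fin n) K} : Fil (bval n) 1 (M - 1) ↔ IsUni M := by
  constructor
  · intro h
    refine ⟨fun i j hji => ?_, fun i => ?_⟩
    · have := h i j (by unfold bval; have := Fin.lt_def.mp hji; omega)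
      rw [Matrix.sub_apply, Matrix.one_apply_ne (ne_of_gt hji), sub_zero] at this
      exact this
    · have := h i i (by unfold bval; omega)
      rw [Matrix.sub_apply, Matrix.one_apply_eq] at this
      exact sub_eq_zero.mp this
  · intro h k l hkl
    unfold bval at hkl
    rw [Matrix.sub_apply]
    by_cases hlk : l = k
    · subst hlk
      rw [h.2, Matrix.one_apply_eq, sub_self]
    · have : l < k := Fin.lt_def.mpr (by
        have : l.val ≠ k.val := fun h' => hlk (Fin.ext h')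
        omega)
      rw [h.1 k l this, Matrix.one_apply_ne (ne_of_gt this), sub_self]

/-- the unipotent subgroup -/
def UJ (σ : K →+* K) [hσ : Fact (∀ x, σ (σ x) = x)] (n : ℕ) : Subgroup (GJ σ n) :=
  Rad σ (bval n) (bval_symm n)

/-- the Borel subgroup -/
def BJ (σ : K →+* K) [hσ : Fact (∀ x, σ (σ x) = x)] (n : ℕ) : Subgroup (GJ σ n) :=
  Par σ (bval n) (bval_symm n)

theorem mem_UJ {g : GJ σ n} : g ∈ UJ σ n ↔ IsUni g.1.1 := fil_bval_one_iff

theorem mem_BJ {g : GJ σ n} : g ∈ BJ σ n ↔ IsUpper g.1.1 := fil_bval_zero_iff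

theorem mem_UJ_iff {g : GJ σ n} : g ∈ UJ σ n ↔ g.1 ∈ U n K := mem_UJ σ

theorem mem_BJ_iff {g : GJ σ n} : g ∈ BJ σ n ↔ g.1 ∈ B n K := mem_BJ σ

theorem UJ_le_BJ : UJ σ n ≤ BJ σ n := fun _ hg => (mem_BJ σ).mpr ((mem_UJ σ).mp hg).1

theorem BJ_le_normalizer_UJ :
    BJ σ n ≤ Subgroup.normalizer ((UJ σ n : Subgroup (GJ σ n)) : Set (GJ σ n)) :=
  Par_le_normalizer_Rad σ _ _

theorem Rad_le_UJ {b : Fin n → ℕ} (hb : BSymm b) (hmono : ∀ i j : Fin n, i ≤ j → b i ≤ b j) :
    Rad σ b hb ≤ UJ σ n := by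
  intro g hg k l hkl
  apply hg
  unfold bval at hkl
  have : l ≤ k := Fin.le_def.mpr (by omega)
  have := hmono l k this
  omega

theorem UJ_isPGroup (p : ℕ) [Fact p.Prime] [CharP K p] [NeZero n] : IsPGroup p (UJ σ n) := by
  rintro ⟨g, hg⟩
  obtain ⟨k, hk⟩ := (U_isPGroup (n := n) (K := K) p) ⟨g.1, (mem_UJ_iff σ).mp hg⟩
  refine ⟨k, ?_⟩
  apply Subtype.ext
  apply Subtype.ext
  have := congrArg Subtype.val hk
  simpa using this

end Cfsg.Agent.Helper25.PSUFus
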