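import Mathlib
import Cfsg.Agent.Lib.Helper25.PSUFus2

/-!
# Root elements of `GJ`
-/

set_option autoImplicit false
set_option linter.style.haveILetI false
set_option linter.unusedSectionVars false

namespace Cfsg.Agent.Helper25.PSUFus

open Matrix Cfsg.Agent.Helper25.PSLFus

variable {K : Type*} [Field K] [Fintype K] (σ : K →+* K) {n : ℕ}

/-- matrix units -/
def Eu (i j : Fin n) : Matrix (Fin n) (Fin n) K := single i j 1

theorem single_eq_smul (i j : Fin n) (c : K) :
    single i j c = c • (Eu i j : Matrix (Fin n) (Fin n) K) := by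
  unfold Eu
  rw [Matrix.smul_single, smul_eq_mul, mul_one]

theorem Eu_mul_same (i j k : Fin n) :
    (Eu i j : Matrix (Fin n) (Fin n) K) * Eu j k = Eu i k := by
  unfold Eu
  rw [Matrix.single_mul_single_same, mul_one]

theorem Eu_mul_ne {i j k l : Fin n} (h : j ≠ k) :
    (Eu i j : Matrix (Fin n) (Fin n) K) * Eu k l = 0 := by
  unfold Eu
  exact Matrix.single_mul_single_of_ne _ _ _ _ h _

theorem adj_smul (c : K) (M : Matrix (Fin n) (Fin n) K) : adj σ (c • M) = σ c • adj σ M := by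
  ext i j
  rw [adj_apply, Matrix.smul_apply, Matrix.smul_apply, adj_apply, smul_eq_mul, smul_eq_mul, map_mul]

theorem adj_Eu (i j : Fin n) :
    adj σ (Eu i j : Matrix (Fin n) (Fin n) K) = Eu (Fin.rev j) (Fin.rev i) := by
  unfold Eu
  rw [adj_single, map_one]

theorem transvection_eq (i j : Fin n) (c : K) :
    transvection i j c = 1 + c • (Eu i j : Matrix (Fin n) (Fin n) K) := by
  rw [← single_eq_smul]
  rfl

theorem rev_ne_rev {i j : Fin n} (h : i ≠ j) : Fin.rev i ≠ Fin.rev j :=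
  fun h' => h (Fin.rev_injective h')

theorem eq_of_rev_eq_self {i d : Fin n} (hi : Fin.rev i = i) (hd : Fin.rev d = d) : i = d := by
  apply Fin.ext
  have h1 := congrArg Fin.val hi
  have h2 := congrArg Fin.val hd
  rw [Fin.val_rev] at h1 h2
  have := i.2
  have := d.2
  omega

/-- index conditions for a generic root element -/
structure Gen (i j : Fin n) : Prop where
  ne : i ≠ j
  hi : i ≠ Fin.rev i
  hj : j ≠ Fin.rev j

theorem Gen.symm {i j : Fin n} (h : Gen i j) : Gen j i := ⟨h.ne.symm, h.hj, h.hi⟩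

theorem Gen.rev {i j : Fin n} (h : Gen i j) : Gen (Fin.rev j) (Fin.rev i) :=
  ⟨rev_ne_rev h.ne.symm, by rw [Fin.rev_rev]; exact h.hj.symm, by rw [Fin.rev_rev]; exact h.hi.symm⟩

/-- matrix of a generic root element -/
def xrM (i j : Fin n) (c : K) : Matrix (Fin n) (Fin n) K :=
  1 + c • Eu i j - σ c • Eu (Fin.rev j) (Fin.rev i)

/-- matrix of a root element through the middle -/
def xmM (d i : Fin n) (a b : K) : Matrix (Fin n) (Fin n) K :=
  1 + a • Eu i d - σ a • Eu d (Fin.rev i) + b • Eu i (Fin.rev i)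

variable [hσ : Fact (∀ x, σ (σ x) = x)]

theorem adj_xrM (i j : Fin n) (c : K) :
    adj σ (xrM σ i j c) = 1 + σ c • Eu (Fin.rev j) (Fin.rev i) - c • Eu i j := by
  unfold xrM
  rw [adj_sub, adj_add, adj_one, adj_smul, adj_smul, adj_Eu, adj_Eu, Fin.rev_rev, Fin.rev_rev,
    hσ.out]

theorem xrM_mem {i j : Fin n} (h : Gen i j) (c : K) : adj σ (xrM σ i j c) * xrM σ i j c = 1 := by
  rw [adj_xrM]
  unfold xrM
  have h1 : Fin.rev i ≠ i := h.hi.symm
  have h2 : Fin.rev i ≠ Fin.rev j := rev_ne_rev h.ne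
  have h3 : j ≠ i := h.ne.symm
  have h4 : j ≠ Fin.rev j := h.hj
  simp only [mul_add, add_mul, mul_sub, sub_mul, mul_one, one_mul, Matrix.smul_mul,
    Matrix.mul_smul, Eu_mul_ne h1, Eu_mul_ne h2, Eu_mul_ne h3, Eu_mul_ne h4, smul_zero]
  abel

theorem xrM_eq_mul {i j : Fin n} (h : Gen i j) (c : K) :
    xrM σ i j c = transvection i j c * transvection (Fin.rev j) (Fin.rev i) (-σ c) := by
  rw [transvection_eq, transvection_eq]
  unfold xrM
  have h4 : j ≠ Fin.rev j := h.hj
  simp only [mul_add, add_mul, mul_one, one_mul, Matrix.smul_mul,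
    Matrix.mul_smul, Eu_mul_ne h4, smul_zero]
  module

theorem det_xrM {i j : Fin n} (h : Gen i j) (c : K) : (xrM σ i j c).det = 1 := by
  rw [xrM_eq_mul σ h, Matrix.det_mul, Matrix.det_transvection_of_ne _ _ h.ne,
    Matrix.det_transvection_of_ne _ _ h.rev.ne, one_mul]

/-- generic root elements (upper for `i < j`, lower for `j < i`) -/
def xr {i j : Fin n} (h : Gen i j) (c : K) : GJ σ n :=
  ⟨⟨xrM σ i j c, det_xrM σ h c⟩, xrM_mem σ h c⟩

theorem xr_val {i j : Fin n} (h : Gen i j) (c : K) : (xr σ h c).1.1 = xrM σ i j c := rfl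

/-- long root elements -/
def xl (i : Fin n) (hi : i ≠ Fin.rev i) (s : K) (hs : s + σ s = 0) : GJ σ n :=
  ⟨tv i (Fin.rev i) hi s, by
    rw [mem_GJ, val_tv, transvection_eq, adj_add, adj_one, adj_smul, adj_Eu, Fin.rev_rev]
    have h1 : Fin.rev i ≠ i := hi.symm
    simp only [mul_add, add_mul, mul_one, one_mul, Matrix.smul_mul, Matrix.mul_smul,
      Eu_mul_ne h1, smul_zero, add_zero]
    rw [add_assoc, ← add_smul, add_comm (σ s), hs, zero_smul, add_zero]⟩

theorem xl_val (i : Fin n) (hi : i ≠ Fin.rev i) (s : K) (hs : s + σ s = 0) :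
    (xl σ i hi s hs).1.1 = 1 + s • Eu i (Fin.rev i) := by
  show (tv i (Fin.rev i) hi s).1 = _
  rw [val_tv, transvection_eq]

theorem xl_coe (i : Fin n) (hi : i ≠ Fin.rev i) (s : K) (hs : s + σ s = 0) :
    (xl σ i hi s hs).1 = tv i (Fin.rev i) hi s := rfl

theorem adj_xmM {d i : Fin n} (hd : Fin.rev d = d) (a b : K) :
    adj σ (xmM σ d i a b) =
      1 + σ a • Eu d (Fin.rev i) - a • Eu i d + σ b • Eu i (Fin.rev i) := by
  unfold xmM
  rw [adj_add, adj_sub, adj_add, adj_one, adj_smul, adj_smul, adj_smul, adj_Eu, adj_Eu, adj_Eu,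
    Fin.rev_rev, hd, hσ.out]

theorem xmM_mem {d i : Fin n} (hd : Fin.rev d = d) (hi : i ≠ d) (a b : K)
    (hab : b + σ b + a * σ a = 0) : adj σ (xmM σ d i a b) * xmM σ d i a b = 1 := by
  rw [adj_xmM σ hd]
  unfold xmM
  have h1 : Fin.rev i ≠ i := fun h => hi (eq_of_rev_eq_self h hd)
  have h2 : Fin.rev i ≠ d := fun h => hi (by rw [← Fin.rev_rev i, h, hd])
  have h3 : d ≠ i := hi.symm
  simp only [mul_add, add_mul, mul_sub, sub_mul, mul_one, one_mul, Matrix.smul_mul,
    Matrix.mul_smul, Eu_mul_ne h1, Eu_mul_ne h2, Eu_mul_ne h3, Eu_mul_same, smul_zero, smul_smul]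
  generalize σ b = b' at hab ⊢
  have e : b = -b' - a * σ a := by linear_combination hab
  rw [e]
  module

theorem xmM_eq_mul {d i : Fin n} (hd : Fin.rev d = d) (hi : i ≠ d) (a b : K) :
    xmM σ d i a b = transvection i d a * transvection d (Fin.rev i) (-σ a) *
      transvection i (Fin.rev i) (b + a * σ a) := by
  rw [transvection_eq, transvection_eq, transvection_eq]
  unfold xmM
  have h1 : Fin.rev i ≠ i := fun h => hi (eq_of_rev_eq_self h hd)
  have h3 : d ≠ i := hi.symm
  simp only [mul_add, add_mul, mul_one, one_mul, Matrix.smul_mul,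
    Matrix.mul_smul, Eu_mul_ne h1, Eu_mul_ne h3, Eu_mul_same, smul_zero, smul_smul]
  module

theorem det_xmM {d i : Fin n} (hd : Fin.rev d = d) (hi : i ≠ d) (a b : K) :
    (xmM σ d i a b).det = 1 := by
  have h1 : i ≠ Fin.rev i := fun h => hi (eq_of_rev_eq_self h.symm hd)
  have h2 : d ≠ Fin.rev i := fun h => hi (by rw [← Fin.rev_rev i, ← h, hd])
  rw [xmM_eq_mul σ hd hi, Matrix.det_mul, Matrix.det_mul, Matrix.det_transvection_of_ne _ _ hi,
    Matrix.det_transvection_of_ne _ _ h2, Matrix.det_transvection_of_ne _ _ h1, one_mul, one_mul]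

/-- root elements through the middle index `d` (upper for `i < d`, lower for `d < i`) -/
def xm {d i : Fin n} (hd : Fin.rev d = d) (hi : i ≠ d) (a b : K)
    (hab : b + σ b + a * σ a = 0) : GJ σ n :=
  ⟨⟨xmM σ d i a b, det_xmM σ hd hi a b⟩, xmM_mem σ hd hi a b hab⟩

theorem xm_val {d i : Fin n} (hd : Fin.rev d = d) (hi : i ≠ d) (a b : K)
    (hab : b + σ b + a * σ a = 0) : (xm σ hd hi a b hab).1.1 = xmM σ d i a b := rfl

end Cfsg.Agent.Helper25.PSUFus
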