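import Mathlib
import Cfsg.Agent.Lib.Helper25.PSUFus3

/-!
# The unipotent subgroup `UJ` is a Sylow subgroup of `GJ`
-/

set_option autoImplicit false
set_option linter.style.haveILetI false
set_option linter.unusedSectionVars false

namespace Cfsg.Agent.Helper25.PSUFus

open Matrix Cfsg.Agent.Helper25.PSLFus

variable {K : Type*} [Field K] [Fintype K] (σ : K →+* K) {n : ℕ}

/-- field hypotheses -/
structure FH (σ : K →+* K) : Prop where
  ne_id : ∃ θ : K, σ θ ≠ θ
  trace : ∀ c : K, σ c = c → ∃ a : K, a + σ a = c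
  norm : ∀ c : K, c ≠ 0 → σ c = c → ∃ l : K, l ≠ 0 ∧ l * σ l = c

theorem Fil.smul_Eu {b : Fin n → ℕ} {d : ℕ} {i j : Fin n} (h : b i + d ≤ b j) (c : K) :
    Fil b d (c • (Eu i j : Matrix (Fin n) (Fin n) K)) := by
  rw [← single_eq_smul]
  exact Fil.single h c

variable [hσ : Fact (∀ x, σ (σ x) = x)]

theorem FH.exists_tz (H : FH σ) : ∃ s : K, s ≠ 0 ∧ s + σ s = 0 := by
  obtain ⟨θ, hθ⟩ := H.ne_id
  refine ⟨θ - σ θ, fun h => hθ (sub_eq_zero.mp h).symm, ?_⟩
  rw [map_sub, hσ.out]
  ring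

theorem FH.exists_b (H : FH σ) (a : K) : ∃ b : K, b + σ b + a * σ a = 0 := by
  obtain ⟨b, hb⟩ := H.trace (-(a * σ a)) (by rw [map_neg, map_mul, hσ.out, mul_comm])
  exact ⟨b, by rw [hb]; ring⟩

theorem xrM_sub_one_fil {b : Fin n → ℕ} (hb : BSymm b) {d : ℕ} {i j : Fin n}
    (hij : b i + d ≤ b j) (c : K) : Fil b d (xrM σ i j c - 1) := by
  obtain ⟨B, hB⟩ := hb
  have e : xrM σ i j c - 1 = c • Eu i j - σ c • Eu (Fin.rev j) (Fin.rev i) := by
    unfold xrM; abel
  rw [e]
  have h1 := hB i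
  have h2 := hB j
  exact Fil.sub (Fil.smul_Eu hij c) (Fil.smul_Eu (by omega) _)

theorem xr_mem_Rad {b : Fin n → ℕ} (hb : BSymm b) {i j : Fin n} (h : Gen i j)
    (hij : b i + 1 ≤ b j) (c : K) : xr σ h c ∈ Rad σ b hb :=
  xrM_sub_one_fil σ hb hij c

theorem xr_mem_Par {b : Fin n → ℕ} (hb : BSymm b) {i j : Fin n} (h : Gen i j)
    (hij : b i ≤ b j) (c : K) : xr σ h c ∈ Par σ b hb := by
  rw [mem_Par, xr_val]
  have := Fil.add (Fil.one b) (xrM_sub_one_fil σ hb (d := 0) (by omega : b i + 0 ≤ b j) c)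
  simpa using this

theorem xmM_sub_one_fil {b : Fin n → ℕ} (hb : BSymm b) {δ : ℕ} (hδ : δ ≤ 1) {d i : Fin n}
    (hd : Fin.rev d = d) (hid : b i + δ ≤ b d) (a c : K) : Fil b δ (xmM σ d i a c - 1) := by
  obtain ⟨B, hB⟩ := hb
  have e : xmM σ d i a c - 1 =
      a • Eu i d - σ a • Eu d (Fin.rev i) + c • Eu i (Fin.rev i) := by
    unfold xmM; abel
  rw [e]
  have h1 := hB i
  have h2 := hB d
  rw [hd] at h2
  exact Fil.add (Fil.sub (Fil.smul_Eu hid a) (Fil.smul_Eu (by omega) _)) (Fil.smul_Eu (by omega) _)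

theorem xm_mem_Rad {b : Fin n → ℕ} (hb : BSymm b) {d i : Fin n} (hd : Fin.rev d = d)
    (hi : i ≠ d) (hid : b i + 1 ≤ b d) (a c : K) (hac : c + σ c + a * σ a = 0) :
    xm σ hd hi a c hac ∈ Rad σ b hb :=
  xmM_sub_one_fil σ hb le_rfl hd hid a c

theorem xm_mem_Par {b : Fin n → ℕ} (hb : BSymm b) {d i : Fin n} (hd : Fin.rev d = d)
    (hi : i ≠ d) (hid : b i ≤ b d) (a c : K) (hac : c + σ c + a * σ a = 0) :
    xm σ hd hi a c hac ∈ Par σ b hb := by
  rw [mem_Par, xm_val]
  have := Fil.add (Fil.one b) (xmM_sub_one_fil σ hb (δ := 0) (by omega) hd (by omega) a c)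
  simpa using this

theorem xl_mem_Rad {b : Fin n → ℕ} (hb : BSymm b) {i : Fin n} (hi : i ≠ Fin.rev i)
    (hii : b i + 1 ≤ b (Fin.rev i)) (s : K) (hs : s + σ s = 0) :
    xl σ i hi s hs ∈ Rad σ b hb := by
  rw [mem_Rad, xl_val, add_sub_cancel_left]
  exact Fil.smul_Eu hii s

theorem xl_mem_Par {b : Fin n → ℕ} (hb : BSymm b) {i : Fin n} (hi : i ≠ Fin.rev i)
    (hii : b i ≤ b (Fin.rev i)) (s : K) (hs : s + σ s = 0) :
    xl σ i hi s hs ∈ Par σ b hb := by
  rw [mem_Par, xl_val]
  exact Fil.add (Fil.one b) (Fil.smul_Eu (by omega) s)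

theorem Eu_apply (i j k l : Fin n) :
    (Eu i j : Matrix (Fin n) (Fin n) K) k l = if i = k ∧ j = l then 1 else 0 := by
  unfold Eu
  rw [Matrix.single_apply]

/-- every superdiagonal position is hit by an element of `UJ` -/
theorem exists_UJ_entry (H : FH σ) (r' r : Fin n) (hr : r'.val + 1 = r.val) :
    ∃ g ∈ UJ σ n, g.1.1 r' r ≠ 0 := by
  have hne : r' ≠ r := fun h => by rw [h] at hr; omega
  by_cases h1 : Fin.rev r' = r'
  · -- `r'` is the middle index
    have hi : Fin.rev r ≠ r' := fun h => hne (by rw [← Fin.rev_rev r, h, h1])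
    obtain ⟨c, hc⟩ := H.exists_b σ (1 : K)
    refine ⟨xm σ h1 hi 1 c hc, ?_, ?_⟩
    · apply xm_mem_Rad
      unfold bval
      have e1 := congrArg Fin.val h1
      rw [Fin.val_rev] at e1 ⊢
      omega
    · rw [xm_val]
      unfold xmM
      have e1 : ¬ (Fin.rev r = r' ∧ r' = r) := fun h => hi h.1
      have e2 : ¬ (Fin.rev r = r' ∧ Fin.rev (Fin.rev r) = r) := fun h => hi h.1
      simp only [Matrix.add_apply, Matrix.sub_apply, Matrix.smul_apply, Eu_apply,
        Matrix.one_apply_ne hne, if_neg e1, Fin.rev_rev, and_self, if_true]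
      simp [hi]
  · by_cases h2 : Fin.rev r = r
    · have hi : r' ≠ r := hne
      obtain ⟨c, hc⟩ := H.exists_b σ (1 : K)
      refine ⟨xm σ h2 hi 1 c hc, ?_, ?_⟩
      · apply xm_mem_Rad
        unfold bval
        omega
      · rw [xm_val]
        unfold xmM
        have e1 : ¬ (r = r' ∧ Fin.rev r' = r) := fun h => hne h.1.symm
        have e2 : ¬ (r' = r' ∧ Fin.rev r' = r) := fun h => by
          have h3 : Fin.rev r = r' := by rw [← h.2, Fin.rev_rev]
          rw [h2] at h3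
          exact hne h3.symm
        simp only [Matrix.add_apply, Matrix.sub_apply, Matrix.smul_apply, Eu_apply,
          Matrix.one_apply_ne hne, if_neg e1, and_self, if_true]
        have e3 : ¬ (Fin.rev r' = r) := fun h => e2 ⟨rfl, h⟩
        simp [e3]
    · have hg : Gen r' r := ⟨hne, fun h => h1 h.symm, fun h => h2 h.symm⟩
      obtain ⟨θ, hθ⟩ := H.ne_id
      have hθ0 : θ ≠ 0 := by
        rintro rfl
        exact hθ (map_zero σ)
      refine ⟨xr σ hg θ, ?_, ?_⟩
      · apply xr_mem_Rad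
        unfold bval
        omega
      · rw [xr_val]
        unfold xrM
        simp only [Matrix.add_apply, Matrix.sub_apply, Matrix.smul_apply, Eu_apply,
          Matrix.one_apply_ne hne]
        by_cases h3 : Fin.rev r = r' ∧ Fin.rev r' = r
        · rw [if_pos h3]
          simp only [and_self, if_true, smul_eq_mul, mul_one, zero_add]
          exact fun h => hθ (sub_eq_zero.mp h).symm
        · rw [if_neg h3]
          simpa using hθ0

theorem W_of_forall_J (H : FH σ) {k : ℕ} {v : Fin n → K}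
    (h : ∀ g ∈ UJ σ n, W k (g.1.1 *ᵥ v - v)) : W (k + 1) v := by
  have key : ∀ (m : ℕ) (r : Fin n), k + 1 ≤ r.val → n ≤ r.val + m → v r = 0 := by
    intro m
    induction m with
    | zero =>
      intro r _ h2
      have := r.2
      omega
    | succ m ih =>
      intro r hr1 hr2
      obtain ⟨r', hr'⟩ : ∃ r' : Fin n, r'.val + 1 = r.val :=
        ⟨⟨r.val - 1, by have := r.2; omega⟩, by show r.val - 1 + 1 = r.val; omega⟩
      obtain ⟨g, hgU, hg0⟩ := exists_UJ_entry σ H r' r hr'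
      have hne : r' ≠ r := fun h => by rw [h] at hr'; omega
      have hU := (mem_UJ σ).mp hgU
      have h1 := h g hgU r' (by omega)
      rw [Pi.sub_apply, Matrix.mulVec, dotProduct] at h1
      have h2 : ∑ s, g.1.1 r' s * v s = v r' + g.1.1 r' r * v r := by
        rw [Finset.sum_eq_add r' r hne]
        · rw [hU.2, one_mul]
        · intro s _ hs
          rcases lt_or_gt_of_ne hs.1 with hlt | hgt
          · rw [hU.1 r' s hlt, zero_mul]
          · have hs' : r.val < s.val := by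
              have h3 := Fin.lt_def.mp hgt
              have h4 : s.val ≠ r.val := fun h' => hs.2 (Fin.ext h')
              omega
            rw [ih s (by omega) (by omega), mul_zero]
        · intro h'; exact absurd (Finset.mem_univ _) h'
        · intro h'; exact absurd (Finset.mem_univ _) h'
      rw [h2] at h1
      have h3 : g.1.1 r' r * v r = 0 := by linear_combination h1
      exact (mul_eq_zero.mp h3).resolve_left hg0
  intro r hr
  exact key n r hr (by omega)

/-- The normalizer of `UJ` is contained in `BJ`. -/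
theorem normalizer_UJ_le (H : FH σ) :
    Subgroup.normalizer ((UJ σ n : Subgroup (GJ σ n)) : Set (GJ σ n)) ≤ BJ σ n := by
  intro g hg
  have hginv : g⁻¹ ∈ Subgroup.normalizer ((UJ σ n : Subgroup (GJ σ n)) : Set (GJ σ n)) :=
    Subgroup.inv_mem _ hg
  have hW : ∀ (k : ℕ) (v : Fin n → K), W k v → W k (g.1.1 *ᵥ v) := by
    intro k
    induction k with
    | zero =>
      intro v hv
      have : v = 0 := by
        ext r; exact hv r (Nat.zero_le _)
      rw [this, Matrix.mulVec_zero]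
      intro r _; rfl
    | succ k ih =>
      intro v hv
      apply W_of_forall_J σ H
      intro M hM
      have hM' : g⁻¹ * M * g⁻¹⁻¹ ∈ UJ σ n := (Subgroup.mem_normalizer_iff.mp hginv M).mp hM
      rw [inv_inv] at hM'
      have h1 := ih _ (W_step ((mem_UJ σ).mp hM') hv)
      have h2 : g.1.1 *ᵥ ((g⁻¹ * M * g).1.1 *ᵥ v - v) = M.1.1 *ᵥ (g.1.1 *ᵥ v) - g.1.1 *ᵥ v := by
        have e : g * (g⁻¹ * M * g) = M * g := by group
        rw [Matrix.mulVec_sub, Matrix.mulVec_mulVec, Matrix.mulVec_mulVec, ← gj_val_mul,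
          ← gj_val_mul, e]
      rwa [h2] at h1
  rw [mem_BJ]
  intro i j hji
  have h1 := hW (j.val + 1) (Pi.single j 1) (by
    intro r hr
    rw [Pi.single_apply, if_neg]
    intro h; subst h; omega)
  have h2 := h1 i (Fin.lt_def.mp hji)
  rwa [Matrix.mulVec_single_one] at h2

/-- `p`-elements of `BJ` lie in `UJ`. -/
theorem mem_UJ_of_pow (p : ℕ) [Fact p.Prime] [CharP K p] {g : GJ σ n}
    (hg : g ∈ BJ σ n) {k : ℕ} (hk : g ^ p ^ k = 1) : g ∈ UJ σ n := by
  rw [mem_UJ_iff]
  apply mem_U_of_pow p ((mem_BJ_iff σ).mp hg) (k := k)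
  have := congrArg Subtype.val hk
  simpa using this

/-- `UJ` as a Sylow subgroup. -/
noncomputable def USylowJ (H : FH σ) (p : ℕ) [Fact p.Prime] [CharP K p] [NeZero n] :
    Sylow p (GJ σ n) where
  toSubgroup := UJ σ n
  isPGroup' := UJ_isPGroup σ p
  is_maximal' := by
    intro Q hQ hUQ
    by_contra hne
    haveI : Finite Q := inferInstance
    obtain ⟨g, hgN, hgU⟩ := Cfsg.Agent.Helper25.exists_mem_normalizerIn_not_mem hQ hUQ
      (fun h => hne h.symm)
    obtain ⟨hgQ, hgN'⟩ := Cfsg.Agent.Helper25.mem_normalizerIn.mp hgN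
    apply hgU
    obtain ⟨k, hk⟩ := hQ ⟨g, hgQ⟩
    have hk' : g ^ p ^ k = 1 := by
      have := congrArg Subtype.val hk
      simpa using this
    exact mem_UJ_of_pow σ p (normalizer_UJ_le σ H hgN') hk'

theorem coe_USylowJ (H : FH σ) (p : ℕ) [Fact p.Prime] [CharP K p] [NeZero n] :
    ((USylowJ σ H p : Sylow p (GJ σ n)) : Subgroup (GJ σ n)) = UJ σ n := rfl

end Cfsg.Agent.Helper25.PSUFus
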