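import Mathlib
import Cfsg.Agent.Lib.Helper25.PSUFus4

/-!
# Centralizers of radicals in `GJ`
-/

set_option autoImplicit false
set_option linter.style.haveILetI false
set_option linter.unusedSectionVars false

namespace Cfsg.Agent.Helper25.PSUFus

open Matrix Cfsg.Agent.Helper25.PSLFus

variable {K : Type*} [Field K] [Fintype K] (σ : K →+* K) {n : ℕ}

/-- the "theta trick" -/
theorem theta_trick {θ : K} (hθ : σ θ ≠ θ) {Z X Y : Matrix (Fin n) (Fin n) K}
    (h1 : Z * (X - Y) = (X - Y) * Z) (h2 : Z * (θ • X - σ θ • Y) = (θ • X - σ θ • Y) * Z) :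
    Commute X Z ∧ Commute Y Z := by
  have e1 : Z * X - X * Z = Z * Y - Y * Z := by
    have : Z * X - Z * Y = X * Z - Y * Z := by rw [← Matrix.mul_sub, h1, Matrix.sub_mul]
    rw [sub_eq_sub_iff_add_eq_add] at this ⊢
    rw [this]; abel
  have e2 : θ • (Z * X - X * Z) = σ θ • (Z * Y - Y * Z) := by
    have : θ • (Z * X) - σ θ • (Z * Y) = θ • (X * Z) - σ θ • (Y * Z) := by
      rw [← Matrix.mul_smul, ← Matrix.mul_smul, ← Matrix.mul_sub, h2, Matrix.sub_mul,
        Matrix.smul_mul, Matrix.smul_mul]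
    rw [smul_sub, smul_sub]
    rw [sub_eq_sub_iff_add_eq_add] at this ⊢
    rw [this]; abel
  rw [← e1] at e2
  have e3 : (θ - σ θ) • (Z * X - X * Z) = 0 := by rw [sub_smul, e2, sub_self]
  have e4 : Z * X - X * Z = 0 :=
    (smul_eq_zero.mp e3).resolve_left (fun h => hθ (sub_eq_zero.mp h).symm)
  have e5 : Z * Y - Y * Z = 0 := by rw [← e1, e4]
  exact ⟨(sub_eq_zero.mp e4).symm, (sub_eq_zero.mp e5).symm⟩

variable [hσ : Fact (∀ x, σ (σ x) = x)]

theorem comm_val {z r : GJ σ n} (h : r * z = z * r) : z.1.1 * r.1.1 = r.1.1 * z.1.1 := by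
  have := congrArg (fun g : GJ σ n => g.1.1) h
  simp only [gj_val_mul] at this
  exact this.symm

theorem comm_of_one_add {Z N : Matrix (Fin n) (Fin n) K} (h : Z * (1 + N) = (1 + N) * Z) :
    Z * N = N * Z := by
  rw [Matrix.mul_add, Matrix.add_mul, Matrix.mul_one, Matrix.one_mul] at h
  exact add_left_cancel h

theorem comm_sub_of_comm {Z N E : Matrix (Fin n) (Fin n) K} (c : K)
    (h : Z * (N + c • E) = (N + c • E) * Z) (hE : Z * E = E * Z) : Z * N = N * Z := by
  rw [Matrix.mul_add, Matrix.add_mul, Matrix.mul_smul, Matrix.smul_mul, hE] at h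
  exact add_right_cancel h

/-- an element commuting with a radical commutes with the matrix units of its root groups -/
theorem commute_Eu_of_comm_rad (H : FH σ) {b : Fin n → ℕ} (hb : BSymm b) (z : GJ σ n)
    (hz : ∀ r ∈ Rad σ b hb, r * z = z * r) (i j : Fin n) (hij : b i < b j) :
    Commute (Eu i j : Matrix (Fin n) (Fin n) K) z.1.1 := by
  obtain ⟨θ, hθ⟩ := H.ne_id
  obtain ⟨B, hB⟩ := id hb
  obtain ⟨s, hs0, hs⟩ := H.exists_tz σ
  have hne : i ≠ j := fun h => by rw [h] at hij; omega
  -- long root elements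
  have hlong : ∀ k : Fin n, k ≠ Fin.rev k → b k + 1 ≤ b (Fin.rev k) →
      z.1.1 * Eu k (Fin.rev k) = Eu k (Fin.rev k) * z.1.1 := by
    intro k hk hbk
    have h1 := comm_val σ (hz _ (xl_mem_Rad σ hb hk hbk s hs))
    rw [xl_val] at h1
    have h2 := comm_of_one_add h1
    rw [Matrix.mul_smul, Matrix.smul_mul] at h2
    exact smul_right_injective _ hs0 h2
  -- elements through the middle
  have hmid : ∀ d k : Fin n, Fin.rev d = d → k ≠ d → b k + 1 ≤ b d →
      Commute (Eu k d : Matrix (Fin n) (Fin n) K) z.1.1 ∧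
        Commute (Eu d (Fin.rev k) : Matrix (Fin n) (Fin n) K) z.1.1 := by
    intro d k hd hk hbk
    have hkk : k ≠ Fin.rev k := fun h => hk (eq_of_rev_eq_self h.symm hd)
    have hbkk : b k + 1 ≤ b (Fin.rev k) := by
      have h1 := hB k
      have h2 := hB d
      rw [hd] at h2
      omega
    have hE := hlong k hkk hbkk
    have key : ∀ a : K, z.1.1 * (a • Eu k d - σ a • Eu d (Fin.rev k)) =
        (a • Eu k d - σ a • Eu d (Fin.rev k)) * z.1.1 := by
      intro a
      obtain ⟨c, hc⟩ := H.exists_b σ a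
      have h1 := comm_val σ (hz _ (xm_mem_Rad σ hb hd hk hbk a c hc))
      rw [xm_val] at h1
      unfold xmM at h1
      have e : (1 : Matrix (Fin n) (Fin n) K) + a • Eu k d - σ a • Eu d (Fin.rev k) +
          c • Eu k (Fin.rev k) =
          1 + ((a • Eu k d - σ a • Eu d (Fin.rev k)) + c • Eu k (Fin.rev k)) := by abel
      rw [e] at h1
      have h2 := comm_of_one_add h1
      exact comm_sub_of_comm c h2 hE
    have h1 := key 1
    rw [map_one, one_smul, one_smul] at h1
    exact theta_trick σ hθ h1 (key θ)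
  by_cases hi : Fin.rev i = i
  · -- `i` is the middle index
    have hj' : Fin.rev j ≠ i := fun h => hne (by rw [← Fin.rev_rev j, h, hi])
    have hbj : b (Fin.rev j) + 1 ≤ b i := by
      have h1 := hB i
      have h2 := hB j
      rw [hi] at h1
      omega
    have := (hmid i (Fin.rev j) hi hj' hbj).2
    rwa [Fin.rev_rev] at this
  · by_cases hj : Fin.rev j = j
    · exact (hmid j i hj hne (by omega)).1
    · have hg : Gen i j := ⟨hne, fun h => hi h.symm, fun h => hj h.symm⟩
      have key : ∀ a : K, z.1.1 * (a • Eu i j - σ a • Eu (Fin.rev j) (Fin.rev i)) =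
          (a • Eu i j - σ a • Eu (Fin.rev j) (Fin.rev i)) * z.1.1 := by
        intro a
        have h1 := comm_val σ (hz _ (xr_mem_Rad σ hb hg (by omega) a))
        rw [xr_val] at h1
        unfold xrM at h1
        rw [add_sub_assoc] at h1
        exact comm_of_one_add h1
      have h1 := key 1
      rw [map_one, one_smul, one_smul] at h1
      exact (theta_trick σ hθ h1 (key θ)).1

/-- shape of a unitriangular matrix commuting with all upper matrix units -/
theorem central_shape {Z : Matrix (Fin n) (Fin n) K}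
    (hc : ∀ i j : Fin n, i < j → Commute (Eu i j : Matrix (Fin n) (Fin n) K) Z)
    (r s : Fin n) (hrs : r ≠ s) (h : 0 < r.val ∨ s.val + 1 < n) : Z r s = 0 := by
  rcases h with h | h
  · have hlt : (⟨r.val - 1, by have := r.2; omega⟩ : Fin n) < r := Fin.lt_def.mpr (by
      show r.val - 1 < r.val; omega)
    exact Matrix.row_eq_zero_of_commute_single (hc _ _ hlt) (Ne.symm hrs)
  · have hlt : s < (⟨s.val + 1, h⟩ : Fin n) := Fin.lt_def.mpr (by show s.val < s.val + 1; omega)
    exact Matrix.col_eq_zero_of_commute_single (hc _ _ hlt) hrs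

end Cfsg.Agent.Helper25.PSUFus
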