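import Mathlib
import Cfsg.Agent.Lib.Helper25.PSUFus5

/-!
# Level radicals of `GJ`: centralizers; the centre of `UJ` and of `GJ`
-/

set_option autoImplicit false
set_option linter.style.haveILetI false
set_option linter.unusedSectionVars false

namespace Cfsg.Agent.Helper25.PSUFus

open Matrix Cfsg.Agent.Helper25.PSLFus

variable {K : Type*} [Field K] [Fintype K] (σ : K →+* K) {n : ℕ}

/-- level block functions -/
def bl (n a : ℕ) : Fin n → ℕ :=
  fun k => (if a ≤ k.val then 1 else 0) + (if n ≤ k.val + a then 1 else 0)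

theorem bl_symm (n a : ℕ) (ha : 2 * a ≤ n) : BSymm (bl n a) := by
  refine ⟨2, fun k => ?_⟩
  unfold bl
  rw [Fin.val_rev]
  have := k.2
  split_ifs <;> omega

theorem bl_mono (n a : ℕ) (i j : Fin n) (h : i ≤ j) : bl n a i ≤ bl n a j := by
  unfold bl
  have := Fin.le_def.mp h
  split_ifs <;> omega

/-- the reversed value function -/
def brev (n : ℕ) : Fin n → ℕ := fun k => n - 1 - k.val

theorem brev_symm (n : ℕ) : BSymm (brev n) := by
  refine ⟨n - 1, fun k => ?_⟩
  unfold brev
  rw [Fin.val_rev]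
  have := k.2
  omega

variable [hσ : Fact (∀ x, σ (σ x) = x)]

/-- scalar elements of `GJ` -/
def scalJ (lam : K) (h : lam ^ Fintype.card (Fin n) = 1) (h2 : σ lam * lam = 1) : GJ σ n :=
  ⟨scal lam h, by
    rw [mem_GJ]
    show adj σ (Matrix.scalar (Fin n) lam) * Matrix.scalar (Fin n) lam = 1
    have e : Matrix.scalar (Fin n) lam = lam • (1 : Matrix (Fin n) (Fin n) K) := by
      rw [Matrix.smul_one_eq_diagonal]; rfl
    rw [e, adj_smul, adj_one, Matrix.smul_mul, Matrix.mul_smul, Matrix.one_mul, smul_smul, h2,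
      one_smul]⟩

theorem scalJ_val (lam : K) (h : lam ^ Fintype.card (Fin n) = 1) (h2 : σ lam * lam = 1) :
    (scalJ σ lam h h2).1.1 = lam • (1 : Matrix (Fin n) (Fin n) K) := by
  show Matrix.scalar (Fin n) lam = _
  rw [Matrix.smul_one_eq_diagonal]; rfl

theorem scalJ_mem_center (lam : K) (h : lam ^ Fintype.card (Fin n) = 1) (h2 : σ lam * lam = 1) :
    scalJ σ lam h h2 ∈ Subgroup.center (GJ σ n) := by
  rw [Subgroup.mem_center_iff]
  intro g
  apply gj_ext
  rw [gj_val_mul, gj_val_mul, scalJ_val, Matrix.mul_smul, Matrix.smul_mul, Matrix.mul_one,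
    Matrix.one_mul]

theorem centralizer_Rad_bl (H : FH σ) (a : ℕ) (ha1 : 1 ≤ a) (ha : 2 * a ≤ n) (z : GJ σ n)
    (hz : ∀ r ∈ Rad σ (bl n a) (bl_symm n a ha), z * r = r * z) :
    ∃ c ∈ Subgroup.center (GJ σ n), ∃ r ∈ Rad σ (bl n a) (bl_symm n a ha), z = c * r := by
  have hn : 2 ≤ n := by omega
  obtain ⟨i0, hi0⟩ : ∃ i0 : Fin n, i0.val = 0 := ⟨⟨0, by omega⟩, rfl⟩
  obtain ⟨il, hil⟩ : ∃ il : Fin n, il.val = n - 1 := ⟨⟨n - 1, by omega⟩, rfl⟩
  have hb0 : bl n a i0 = 0 := by
    unfold bl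
    rw [hi0, if_neg (by omega), if_neg (by omega)]
  have hbl : bl n a il = 2 := by
    unfold bl
    rw [hil, if_pos (by omega), if_pos (by omega)]
  have hble : ∀ k : Fin n, bl n a k ≤ 2 := by
    intro k
    unfold bl
    split_ifs <;> omega
  have hcomm : ∀ i j : Fin n, bl n a i < bl n a j →
      Commute (Eu i j : Matrix (Fin n) (Fin n) K) z.1.1 :=
    fun i j hij => commute_Eu_of_comm_rad σ H (bl_symm n a ha) z (fun r hr => (hz r hr).symm) i j hij
  have hdiag : ∀ k : Fin n, z.1.1 k k = z.1.1 i0 i0 := by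
    intro k
    by_cases hk : bl n a k = 0
    · have h1 := Matrix.diag_eq_of_commute_single (hcomm k il (by omega))
      have h2 := Matrix.diag_eq_of_commute_single (hcomm i0 il (by omega))
      rw [h1, h2]
    · exact (Matrix.diag_eq_of_commute_single (hcomm i0 k (by omega))).symm
  have hoff : ∀ k l : Fin n, k ≠ l → bl n a l ≤ bl n a k → z.1.1 k l = 0 := by
    intro k l hkl hb
    by_cases hl : bl n a l = 2
    · exact Matrix.row_eq_zero_of_commute_single (hcomm i0 k (by omega)) (Ne.symm hkl)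
    · have := hble l
      exact Matrix.col_eq_zero_of_commute_single (hcomm l il (by omega)) hkl
  have hB : z.1 ∈ B n K := by
    rw [mem_B]
    intro k l hlk
    exact hoff k l (ne_of_gt hlk) (bl_mono n a l k (le_of_lt hlk))
  have hpow := pow_card_eq_one_of_diag hB (z.1.1 i0 i0) hdiag
  have hl0 : z.1.1 i0 i0 ≠ 0 := by
    intro h
    rw [h, zero_pow (by rw [Fintype.card_fin]; omega)] at hpow
    exact zero_ne_one hpow
  have hrev : Fin.rev il = i0 := by
    apply Fin.ext
    rw [Fin.val_rev, hil, hi0]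
    omega
  have hnorm : σ (z.1.1 i0 i0) * z.1.1 i0 i0 = 1 := by
    have h1 := congrFun (congrFun (GJ_adj_mul σ z) il) il
    rw [Matrix.mul_apply, Matrix.one_apply_eq, Finset.sum_eq_single il] at h1
    · rw [adj_apply, hrev, hdiag il] at h1
      exact h1
    · intro k _ hk
      rw [adj_apply, hrev, hoff (Fin.rev k) i0 (fun h => hk (by rw [← Fin.rev_rev k, h, ← hrev, Fin.rev_rev]))
        (by rw [hb0]; omega), map_zero, zero_mul]
    · intro h; exact absurd (Finset.mem_univ _) h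
  refine ⟨scalJ σ _ hpow hnorm, scalJ_mem_center σ _ hpow hnorm,
    (scalJ σ _ hpow hnorm)⁻¹ * z, ?_, by group⟩
  rw [mem_Rad, gj_val_mul, gj_val_inv, scalJ_val, adj_smul, adj_one, Matrix.smul_mul,
    Matrix.one_mul]
  intro k l hkl
  rw [Matrix.sub_apply, Matrix.smul_apply, smul_eq_mul]
  by_cases hkl' : k = l
  · subst hkl'
    rw [hdiag k, hnorm, Matrix.one_apply_eq, sub_self]
  · rw [hoff k l hkl' (by omega), mul_zero, Matrix.one_apply_ne hkl', sub_self]

end Cfsg.Agent.Helper25.PSUFus
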