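import Mathlib
import Cfsg.Agent.Lib.Helper25.PSUFus6

/-!
# The centre of `UJ` and of `GJ`
-/

set_option autoImplicit false
set_option linter.style.haveILetI false
set_option linter.unusedSectionVars false

namespace Cfsg.Agent.Helper25.PSUFus

open Matrix Cfsg.Agent.Helper25.PSLFus

variable {K : Type*} [Field K] [Fintype K] (σ : K →+* K) {n : ℕ}
variable [hσ : Fact (∀ x, σ (σ x) = x)]

/-- central elements of `UJ` are long root elements of the highest root -/
theorem center_UJ_form (H : FH σ) {i0 il : Fin n} (hi0 : i0.val = 0) (hil : il.val + 1 = n)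
    (hn : 2 ≤ n) (z : GJ σ n) (hzU : z ∈ UJ σ n) (hz : ∀ u ∈ UJ σ n, u * z = z * u) :
    z.1.1 = 1 + (z.1.1 i0 il) • Eu i0 il ∧ z.1.1 i0 il + σ (z.1.1 i0 il) = 0 := by
  have hne : i0 ≠ il := fun h => by rw [h] at hi0; omega
  have hc : ∀ i j : Fin n, i < j → Commute (Eu i j : Matrix (Fin n) (Fin n) K) z.1.1 := by
    intro i j hij
    exact commute_Eu_of_comm_rad σ H (bval_symm n) z hz i j (by
      unfold bval; exact Fin.lt_def.mp hij)
  have hU := (mem_UJ σ).mp hzU
  have hform : z.1.1 = 1 + (z.1.1 i0 il) • Eu i0 il := by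
    ext r s
    rw [Matrix.add_apply, Matrix.smul_apply, Eu_apply, smul_eq_mul]
    by_cases hrs : r = s
    · subst hrs
      rw [hU.2, Matrix.one_apply_eq, if_neg (fun h => hne (h.1.trans h.2.symm)), mul_zero,
        add_zero]
    · rw [Matrix.one_apply_ne hrs, zero_add]
      by_cases h2 : i0 = r ∧ il = s
      · obtain ⟨rfl, rfl⟩ := h2
        rw [if_pos ⟨rfl, rfl⟩, mul_one]
      · rw [if_neg h2, mul_zero]
        rcases lt_or_gt_of_ne hrs with hlt | hgt
        · apply central_shape hc r s hrs
          by_contra hcon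
          push_neg at hcon
          apply h2
          constructor
          · apply Fin.ext; omega
          · apply Fin.ext
            have := s.2
            omega
        · exact hU.1 r s hgt
  refine ⟨hform, ?_⟩
  have hr1 : Fin.rev il = i0 := by
    apply Fin.ext; rw [Fin.val_rev]; omega
  have hr2 : Fin.rev i0 = il := by rw [← hr1, Fin.rev_rev]
  have h1 := GJ_adj_mul σ z
  rw [hform, adj_add, adj_one, adj_smul, adj_Eu, hr1, hr2] at h1
  have h2 : il ≠ i0 := hne.symm
  simp only [mul_add, add_mul, mul_one, one_mul, Matrix.smul_mul, Matrix.mul_smul,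
    Eu_mul_ne h2, smul_zero, add_zero] at h1
  have h3 := congrFun (congrFun h1 i0) il
  simp only [Matrix.add_apply, Matrix.smul_apply, Eu_apply, Matrix.one_apply_ne hne, smul_eq_mul,
    and_self, if_true, mul_one, zero_add] at h3
  rw [add_comm]
  exact h3

/-- the centre of `GJ` has no `p`-torsion -/
theorem center_GJ_pow (H : FH σ) (p : ℕ) [Fact p.Prime] [CharP K p] {z : GJ σ n}
    (hz : z ∈ Subgroup.center (GJ σ n)) {k : ℕ} (hk : z ^ p ^ k = 1) : z = 1 := by
  have hcomm : ∀ i j : Fin n, i ≠ j → Commute (single i j (1 : K)) z.1.1 := by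
    intro i j hij
    rcases lt_or_gt_of_ne hij with hlt | hgt
    · exact commute_Eu_of_comm_rad σ H (bval_symm n) z
        (fun r _ => (Subgroup.mem_center_iff.mp hz) r) i j (by
          unfold bval; exact Fin.lt_def.mp hlt)
    · exact commute_Eu_of_comm_rad σ H (brev_symm n) z
        (fun r _ => (Subgroup.mem_center_iff.mp hz) r) i j (by
          unfold brev
          have := Fin.lt_def.mp hgt
          have := i.2
          omega)
  by_cases hn : n = 0
  · subst hn
    apply gj_ext
    ext i
    exact i.elim0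
  haveI : Nonempty (Fin n) := ⟨⟨0, by omega⟩⟩
  obtain ⟨r, hr⟩ := Matrix.mem_range_scalar_iff_commute_single.mpr hcomm
  have h1 : z.1.1 ^ p ^ k = 1 := by rw [← gj_val_pow, hk, gj_val_one]
  rw [← hr, ← map_pow] at h1
  have h2 : r ^ p ^ k = 1 := by
    have h5 : Matrix.scalar (Fin n) (r ^ p ^ k) = Matrix.scalar (Fin n) (1 : K) := by
      rw [h1, map_one]
    exact Matrix.scalar_inj.mp h5
  have h3 : (r - 1) ^ p ^ k = 0 := by rw [sub_pow_char_pow, h2, one_pow, sub_self]
  have h4 : r = 1 := sub_eq_zero.mp (pow_eq_zero_iff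
    (pow_ne_zero k (Fact.out : p.Prime).ne_zero) |>.mp h3)
  apply gj_ext
  rw [← hr, h4, map_one, gj_val_one]

end Cfsg.Agent.Helper25.PSUFus
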