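import Mathlib
import Cfsg.Agent.Lib.Helper25.PSUFus7

/-!
# Generation of `UJ` by root elements
-/

set_option autoImplicit false
set_option linter.style.haveILetI false
set_option linter.unusedSectionVars false

namespace Cfsg.Agent.Helper25.PSUFus

open Matrix Cfsg.Agent.Helper25.PSLFus

variable {K : Type*} [Field K] [Fintype K] (σ : K →+* K) {n : ℕ}

/-- rows `< k` are standard -/
def StdRows (k : ℕ) (M : Matrix (Fin n) (Fin n) K) : Prop :=
  ∀ r l : Fin n, r.val < k → M r l = (1 : Matrix (Fin n) (Fin n) K) r l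

theorem StdRows.mul {k : ℕ} {M X : Matrix (Fin n) (Fin n) K} (hM : StdRows k M)
    (hX : StdRows k X) : StdRows k (M * X) := by
  intro r l hr
  rw [Matrix.mul_apply, Finset.sum_eq_single r]
  · rw [hM r r hr, Matrix.one_apply_eq, one_mul, hX r l hr]
  · intro t _ ht
    rw [hM r t hr, Matrix.one_apply_ne (Ne.symm ht), zero_mul]
  · intro h; exact absurd (Finset.mem_univ _) h

theorem mul_smul_Eu_apply (M : Matrix (Fin n) (Fin n) K) (c : K) (i j r l : Fin n) :
    (M * (c • (Eu i j : Matrix (Fin n) (Fin n) K))) r l = if j = l then c * M r i else 0 := by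
  rw [← single_eq_smul]
  by_cases h : j = l
  · subst h
    rw [if_pos rfl, Matrix.mul_single_apply_same, mul_comm]
  · rw [if_neg h, Matrix.mul_single_apply_of_ne _ _ _ _ _ (Ne.symm h)]

theorem stdRows_one_add_smul_Eu {k : ℕ} {i j : Fin n} (hi : k ≤ i.val) (c : K) :
    ∀ r l : Fin n, r.val < k → (c • (Eu i j : Matrix (Fin n) (Fin n) K)) r l = 0 := by
  intro r l hr
  rw [Matrix.smul_apply, Eu_apply, if_neg, smul_zero]
  rintro ⟨rfl, -⟩
  omega

variable [hσ : Fact (∀ x, σ (σ x) = x)]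

/-- if the rows `< k` of `g ∈ GJ` are standard then so are the columns `l` with `rev l < k` -/
theorem std_cols (g : GJ σ n) {k : ℕ} (hg : StdRows k g.1.1) (r l : Fin n)
    (hl : (Fin.rev l).val < k) : g.1.1 r l = (1 : Matrix (Fin n) (Fin n) K) r l := by
  have h1 := congrFun (congrFun (GJ_mul_adj σ g) (Fin.rev l)) (Fin.rev r)
  rw [Matrix.mul_apply, Finset.sum_eq_single (Fin.rev l)] at h1
  · rw [hg _ _ hl, Matrix.one_apply_eq, one_mul, adj_apply, Fin.rev_rev, Fin.rev_rev] at h1
    have h2 := congrArg σ h1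
    rw [hσ.out] at h2
    rw [h2]
    by_cases hrl : r = l
    · subst hrl
      rw [Matrix.one_apply_eq, Matrix.one_apply_eq, map_one]
    · rw [Matrix.one_apply_ne hrl, Matrix.one_apply_ne (fun h => hrl (Fin.rev_injective h).symm),
        map_zero]
  · intro t _ ht
    rw [hg _ _ hl, Matrix.one_apply_ne (Ne.symm ht), zero_mul]
  · intro h; exact absurd (Finset.mem_univ _) h

open Classical in
/-- the support of row `k` strictly between the diagonal and the antidiagonal -/
noncomputable def rowSupp (k : Fin n) (M : Matrix (Fin n) (Fin n) K) : Finset (Fin n) :=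
  Finset.univ.filter (fun l => k < l ∧ l ≠ Fin.rev k ∧ M k l ≠ 0)

open Classical in
theorem mem_rowSupp {k : Fin n} {M : Matrix (Fin n) (Fin n) K} {l : Fin n} :
    l ∈ rowSupp k M ↔ k < l ∧ l ≠ Fin.rev k ∧ M k l ≠ 0 := by
  unfold rowSupp
  rw [Finset.mem_filter]
  exact ⟨fun h => h.2, fun h => ⟨Finset.mem_univ _, h⟩⟩

theorem rowSupp_erase {k l : Fin n} {M M' : Matrix (Fin n) (Fin n) K} (hl : l ∈ rowSupp k M)
    (h0 : M' k l = 0) (hsame : ∀ m, m ≠ l → m ≠ Fin.rev k → M' k m = M k m) :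
    (rowSupp k M').card < (rowSupp k M).card := by
  have : rowSupp k M' = (rowSupp k M).erase l := by
    ext m
    rw [Finset.mem_erase, mem_rowSupp, mem_rowSupp]
    constructor
    · rintro ⟨h1, h2, h3⟩
      have hml : m ≠ l := fun h => h3 (by rw [h, h0])
      exact ⟨hml, h1, h2, by rwa [← hsame m hml h2]⟩
    · rintro ⟨hml, h1, h2, h3⟩
      exact ⟨h1, h2, by rwa [hsame m hml h2]⟩
  rw [this, Finset.card_erase_of_mem hl]
  exact Nat.sub_lt (Finset.card_pos.mpr ⟨l, hl⟩) Nat.one_pos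

/-- the generating hypotheses -/
structure RootsIn (Hs : Subgroup (GJ σ n)) : Prop where
  gen : ∀ (k l : Fin n) (hg : Gen k l), k < l → l < Fin.rev k → ∀ c : K, xr σ hg c ∈ Hs
  long : ∀ (k : Fin n) (hk : k ≠ Fin.rev k), k < Fin.rev k → ∀ (s : K) (hs : s + σ s = 0),
    xl σ k hk s hs ∈ Hs
  mid : ∀ (d k : Fin n) (hd : Fin.rev d = d) (hk : k ≠ d), k < d → ∀ (a c : K)
    (hac : c + σ c + a * σ a = 0), xm σ hd hk a c hac ∈ Hs

theorem lt_rev_of_lt_of_lt {k l : Fin n} (h : l < Fin.rev k) : k < Fin.rev l := by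
  rw [Fin.lt_def, Fin.val_rev] at *
  have := l.2
  have := k.2
  omega

theorem mul_xrM_apply (M : Matrix (Fin n) (Fin n) K) (i j : Fin n) (c : K) (r m : Fin n) :
    (M * xrM σ i j c) r m = M r m + (if j = m then c * M r i else 0) -
      (if Fin.rev i = m then σ c * M r (Fin.rev j) else 0) := by
  unfold xrM
  rw [Matrix.mul_sub, Matrix.mul_add, Matrix.mul_one, Matrix.sub_apply, Matrix.add_apply,
    mul_smul_Eu_apply, mul_smul_Eu_apply]

theorem mul_xmM_apply (M : Matrix (Fin n) (Fin n) K) (d i : Fin n) (a c : K) (r m : Fin n) :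
    (M * xmM σ d i a c) r m = M r m + (if d = m then a * M r i else 0) -
      (if Fin.rev i = m then σ a * M r d else 0) + (if Fin.rev i = m then c * M r i else 0) := by
  unfold xmM
  rw [Matrix.mul_add, Matrix.mul_sub, Matrix.mul_add, Matrix.mul_one, Matrix.add_apply,
    Matrix.sub_apply, Matrix.add_apply, mul_smul_Eu_apply, mul_smul_Eu_apply, mul_smul_Eu_apply]

theorem mul_xlM_apply (M : Matrix (Fin n) (Fin n) K) (i : Fin n) (s : K) (r m : Fin n) :
    (M * (1 + s • (Eu i (Fin.rev i) : Matrix (Fin n) (Fin n) K))) r m =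
      M r m + (if Fin.rev i = m then s * M r i else 0) := by
  rw [Matrix.mul_add, Matrix.mul_one, Matrix.add_apply, mul_smul_Eu_apply]

theorem stdRows_xrM {k : ℕ} {i j : Fin n} (hi : k ≤ i.val) (hj : k ≤ (Fin.rev j).val) (c : K) :
    StdRows k (xrM σ i j c) := by
  intro r l hr
  unfold xrM
  rw [Matrix.sub_apply, Matrix.add_apply, stdRows_one_add_smul_Eu hi c r l hr,
    stdRows_one_add_smul_Eu hj (σ c) r l hr, add_zero, sub_zero]

theorem stdRows_xmM {k : ℕ} {d i : Fin n} (hi : k ≤ i.val) (hd : k ≤ d.val) (a c : K) :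
    StdRows k (xmM σ d i a c) := by
  intro r l hr
  unfold xmM
  rw [Matrix.add_apply, Matrix.sub_apply, Matrix.add_apply, stdRows_one_add_smul_Eu hi a r l hr,
    stdRows_one_add_smul_Eu hd (σ a) r l hr, stdRows_one_add_smul_Eu hi c r l hr, add_zero,
    sub_zero, add_zero]

theorem stdRows_xlM {k : ℕ} {i : Fin n} (hi : k ≤ i.val) (s : K) :
    StdRows k (1 + s • (Eu i (Fin.rev i) : Matrix (Fin n) (Fin n) K)) := by
  intro r l hr
  rw [Matrix.add_apply, stdRows_one_add_smul_Eu hi s r l hr, add_zero]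

theorem xr_mem_UJ {k l : Fin n} (hg : Gen k l) (hkl : k < l) (c : K) : xr σ hg c ∈ UJ σ n :=
  xr_mem_Rad σ (bval_symm n) hg (by unfold bval; exact Fin.lt_def.mp hkl) c

theorem xl_mem_UJ {k : Fin n} (hk : k ≠ Fin.rev k) (hkk : k < Fin.rev k) (s : K)
    (hs : s + σ s = 0) : xl σ k hk s hs ∈ UJ σ n :=
  xl_mem_Rad σ (bval_symm n) hk (by unfold bval; exact Fin.lt_def.mp hkk) s hs

theorem xm_mem_UJ {d k : Fin n} (hd : Fin.rev d = d) (hk : k ≠ d) (hkd : k < d) (a c : K)
    (hac : c + σ c + a * σ a = 0) : xm σ hd hk a c hac ∈ UJ σ n :=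
  xm_mem_Rad σ (bval_symm n) hd hk (by unfold bval; exact Fin.lt_def.mp hkd) a c hac

theorem clear_row (H : FH σ) {Hs : Subgroup (GJ σ n)} (hR : RootsIn σ Hs) (k : Fin n) :
    ∀ (m : ℕ) (g : GJ σ n), g ∈ UJ σ n → StdRows k.val g.1.1 → (rowSupp k g.1.1).card = m →
      ∃ h ∈ Hs, h ∈ UJ σ n ∧ StdRows (k.val + 1) (g * h).1.1 := by
  intro m
  induction m using Nat.strong_induction_on with
  | _ m ih =>
  intro g hgU hstd hcard
  have hU := (mem_UJ σ).mp hgU
  have hbeyond : ∀ l : Fin n, k < l → Fin.rev k < l → g.1.1 k l = 0 := by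
    intro l hkl hl
    have h1 := std_cols σ g hstd k l (by
      rw [Fin.lt_def, Fin.val_rev] at hl
      rw [Fin.val_rev]
      have := l.2
      have := k.2
      omega)
    rw [h1, Matrix.one_apply_ne (ne_of_lt hkl)]
  by_cases hemp : rowSupp k g.1.1 = ∅
  · have hrow : ∀ l : Fin n, l ≠ k → l ≠ Fin.rev k → g.1.1 k l = 0 := by
      intro l hlk hlk'
      rcases lt_or_gt_of_ne hlk with h | h
      · exact hU.1 k l h
      · by_contra hne
        have : l ∈ rowSupp k g.1.1 := mem_rowSupp.mpr ⟨h, hlk', hne⟩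
        rw [hemp] at this
        exact absurd this (Finset.notMem_empty _)
    by_cases hk : k < Fin.rev k
    · have hkk : k ≠ Fin.rev k := ne_of_lt hk
      have hs : g.1.1 k (Fin.rev k) + σ (g.1.1 k (Fin.rev k)) = 0 := by
        have h1 := congrFun (congrFun (GJ_mul_adj σ g) k) (Fin.rev k)
        rw [Matrix.mul_apply, Matrix.one_apply_ne hkk, Finset.sum_eq_add k (Fin.rev k) hkk] at h1
        · rw [adj_apply, adj_apply, Fin.rev_rev, hU.2, map_one, one_mul, mul_one] at h1
          rw [add_comm]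
          exact h1
        · intro l _ hl
          rw [hrow l hl.1 hl.2, zero_mul]
        · intro h; exact absurd (Finset.mem_univ _) h
        · intro h; exact absurd (Finset.mem_univ _) h
      have hs' : -(g.1.1 k (Fin.rev k)) + σ (-(g.1.1 k (Fin.rev k))) = 0 := by
        rw [map_neg]; linear_combination -hs
      refine ⟨xl σ k hkk _ hs', hR.long k hkk hk _ hs', xl_mem_UJ σ hkk hk _ hs', ?_⟩
      intro r l hr
      rw [gj_val_mul, xl_val]
      rcases Nat.lt_succ_iff_lt_or_eq.mp hr with h | h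
      · exact StdRows.mul hstd (stdRows_xlM le_rfl _) r l h
      · have hrk : r = k := Fin.ext h
        subst hrk
        rw [mul_xlM_apply]
        by_cases hl : Fin.rev r = l
        · subst hl
          rw [if_pos rfl, hU.2, mul_one, Matrix.one_apply_ne hkk]
          ring
        · rw [if_neg hl, add_zero]
          by_cases hlr : l = r
          · subst hlr
            rw [hU.2, Matrix.one_apply_eq]
          · rw [hrow l hlr (Ne.symm hl), Matrix.one_apply_ne (Ne.symm hlr)]
    · refine ⟨1, Hs.one_mem, (UJ σ n).one_mem, ?_⟩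
      rw [mul_one]
      intro r l hr
      rcases Nat.lt_succ_iff_lt_or_eq.mp hr with h | h
      · exact hstd r l h
      · have hrk : r = k := Fin.ext h
        subst hrk
        rcases lt_trichotomy l r with hlt | heq | hgt
        · rw [hU.1 r l hlt, Matrix.one_apply_ne (ne_of_gt hlt)]
        · subst heq
          rw [hU.2, Matrix.one_apply_eq]
        · rw [hbeyond l hgt (lt_of_le_of_lt (not_lt.mp hk) hgt), Matrix.one_apply_ne (ne_of_lt hgt)]
  · obtain ⟨l, hl⟩ := Finset.nonempty_iff_ne_empty.mpr hemp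
    obtain ⟨hkl, hlk', hne0⟩ := mem_rowSupp.mp hl
    have hlt : l < Fin.rev k := by
      by_contra hcon
      exact hne0 (hbeyond l hkl (lt_of_le_of_ne (not_lt.mp hcon) (Ne.symm hlk')))
    have hkk' : k < Fin.rev k := lt_trans hkl hlt
    have hkl' : k < Fin.rev l := lt_rev_of_lt_of_lt hlt
    -- common finishing step
    have finish : ∀ h : GJ σ n, h ∈ Hs → h ∈ UJ σ n → StdRows k.val h.1.1 →
        (g * h).1.1 k l = 0 → (∀ m', m' ≠ l → m' ≠ Fin.rev k → (g * h).1.1 k m' = g.1.1 k m') →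
        ∃ h' ∈ Hs, h' ∈ UJ σ n ∧ StdRows (k.val + 1) (g * h').1.1 := by
      intro h hHs hhU hhstd h0 hsame
      have hlt' := rowSupp_erase hl h0 hsame
      rw [hcard] at hlt'
      obtain ⟨h2, h2Hs, h2U, h2std⟩ := ih _ hlt' (g * h) ((UJ σ n).mul_mem hgU hhU)
        (by rw [gj_val_mul]; exact StdRows.mul hstd hhstd) rfl
      exact ⟨h * h2, Hs.mul_mem hHs h2Hs, (UJ σ n).mul_mem hhU h2U, by rwa [← mul_assoc]⟩
    by_cases hmid : Fin.rev l = l
    · obtain ⟨c, hc⟩ := H.exists_b σ (-(g.1.1 k l))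
      have hkne : k ≠ l := ne_of_lt hkl
      apply finish (xm σ hmid hkne _ c hc) (hR.mid l k hmid hkne hkl _ c hc)
        (xm_mem_UJ σ hmid hkne hkl _ c hc) (stdRows_xmM σ le_rfl (le_of_lt (Fin.lt_def.mp hkl)) _ _)
      · rw [gj_val_mul, xm_val, mul_xmM_apply, if_pos rfl, if_neg (Ne.symm hlk'),
          if_neg (Ne.symm hlk'), hU.2]
        ring
      · intro m' hm'l hm'k
        rw [gj_val_mul, xm_val, mul_xmM_apply, if_neg (Ne.symm hm'l), if_neg (Ne.symm hm'k),
          if_neg (Ne.symm hm'k)]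
        ring
    · have hg : Gen k l := ⟨ne_of_lt hkl, ne_of_lt hkk', fun h => hmid h.symm⟩
      apply finish (xr σ hg (-(g.1.1 k l))) (hR.gen k l hg hkl hlt _) (xr_mem_UJ σ hg hkl _)
        (stdRows_xrM σ le_rfl (le_of_lt (Fin.lt_def.mp hkl')) _)
      · rw [gj_val_mul, xr_val, mul_xrM_apply, if_pos rfl, if_neg (Ne.symm hlk'), hU.2]
        ring
      · intro m' hm'l hm'k
        rw [gj_val_mul, xr_val, mul_xrM_apply, if_neg (Ne.symm hm'l), if_neg (Ne.symm hm'k)]
        ring

/-- `UJ` is generated by root elements -/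
theorem UJ_le_of_rootsIn (H : FH σ) {Hs : Subgroup (GJ σ n)} (hR : RootsIn σ Hs) :
    UJ σ n ≤ Hs := by
  have key : ∀ (j : ℕ), j ≤ n → ∀ g : GJ σ n, g ∈ UJ σ n → StdRows (n - j) g.1.1 → g ∈ Hs := by
    intro j
    induction j with
    | zero =>
      intro _ g _ hstd
      have : g = 1 := by
        apply gj_ext
        ext r l
        rw [gj_val_one]
        exact hstd r l (by have := r.2; omega)
      rw [this]
      exact Hs.one_mem
    | succ j ih =>
      intro hj g hgU hstd
      obtain ⟨h, hHs, hhU, hh⟩ := clear_row σ H hR ⟨n - (j + 1), by omega⟩ _ g hgU hstd rfl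
      have e : n - (j + 1) + 1 = n - j := by omega
      have h1 : StdRows (n - j) (g * h).1.1 := by
        rw [← e]; exact hh
      have h2 := ih (by omega) (g * h) ((UJ σ n).mul_mem hgU hhU) h1
      have h3 : g = g * h * h⁻¹ := by group
      rw [h3]
      exact Hs.mul_mem h2 (Hs.inv_mem hHs)
  intro g hg
  exact key n le_rfl g hg (by
    intro r l hr
    omega)

end Cfsg.Agent.Helper25.PSUFus
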