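import Mathlib
import Cfsg.Agent.Lib.Helper25.PSUFus8

/-!
# Relations between root elements of `GJ`
-/

set_option autoImplicit false
set_option linter.style.haveILetI false
set_option linter.unusedSectionVars false

namespace Cfsg.Agent.Helper25.PSUFus

open Matrix Cfsg.Agent.Helper25.PSLFus

variable {K : Type*} [Field K] [Fintype K] (σ : K →+* K) {n : ℕ}

theorem conj1_mat (p q r s : Fin n) (hpq : p ≠ q) (hpr : p ≠ r) (hps : p ≠ s) (hqr : q ≠ r)
    (hqs : q ≠ s) (hrs : r ≠ s) (c c' t : K) :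
    ((1 : Matrix (Fin n) (Fin n) K) + c • Eu q p - c' • Eu s r) * (1 + t • Eu p s) =
      (1 + t • Eu p s) * (1 + (t * c') • Eu p r + (t * c) • Eu q s) * (1 + (t * c * c') • Eu q r) *
        (1 + c • Eu q p - c' • Eu s r) := by
  have hqp := hpq.symm
  have hrp := hpr.symm
  have hsp := hps.symm
  have hrq := hqr.symm
  have hsq := hqs.symm
  have hsr := hrs.symm
  simp only [mul_add, add_mul, mul_sub, sub_mul, mul_one, one_mul, Matrix.smul_mul,
    Matrix.mul_smul, Eu_mul_same, Eu_mul_ne hpq, Eu_mul_ne hpr, Eu_mul_ne hps, Eu_mul_ne hqr,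
    Eu_mul_ne hqs, Eu_mul_ne hrs, Eu_mul_ne hqp, Eu_mul_ne hrp, Eu_mul_ne hsp, Eu_mul_ne hrq,
    Eu_mul_ne hsq, Eu_mul_ne hsr, smul_zero, smul_smul, add_zero, sub_zero, zero_add]
  module

theorem conj2_mat (i j j' i' : Fin n) (h1 : i ≠ j) (h2 : i ≠ j') (h3 : i ≠ i') (h4 : j ≠ j')
    (h5 : j ≠ i') (h6 : j' ≠ i') (a a' s : K) :
    ((1 : Matrix (Fin n) (Fin n) K) + s • Eu j' j) * (1 + a • Eu i j' - a' • Eu j i') =
      (1 + a • Eu i j' - a' • Eu j i') * (1 + (-(a * s)) • Eu i j - (s * a') • Eu j' i') *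
        (1 + (a * s * a') • Eu i i') * (1 + s • Eu j' j) := by
  have g1 := h1.symm
  have g2 := h2.symm
  have g3 := h3.symm
  have g4 := h4.symm
  have g5 := h5.symm
  have g6 := h6.symm
  simp only [mul_add, add_mul, mul_sub, sub_mul, mul_one, one_mul, Matrix.smul_mul,
    Matrix.mul_smul, Eu_mul_same, Eu_mul_ne h1, Eu_mul_ne h2, Eu_mul_ne h3, Eu_mul_ne h4,
    Eu_mul_ne h5, Eu_mul_ne h6, Eu_mul_ne g1, Eu_mul_ne g2, Eu_mul_ne g3, Eu_mul_ne g4,
    Eu_mul_ne g5, Eu_mul_ne g6, smul_zero, smul_smul, add_zero, sub_zero, zero_add]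
  module

theorem conj3_mat (i j d j' i' : Fin n) (h1 : i ≠ j) (h2 : i ≠ d) (h3 : i ≠ j') (h4 : i ≠ i')
    (h5 : j ≠ d) (h6 : j ≠ j') (h7 : j ≠ i') (h8 : d ≠ j') (h9 : d ≠ i') (h10 : j' ≠ i')
    (c c' a a' b b' : K) (hab : b + b' + a * a' = 0) :
    ((1 : Matrix (Fin n) (Fin n) K) + c • Eu i j - c' • Eu j' i') *
        (1 + a • Eu j d - a' • Eu d j' + b • Eu j j') =
      (1 + a • Eu j d - a' • Eu d j' + b • Eu j j') *
        ((1 + (c * a) • Eu i d - (c' * a') • Eu d i' + (c * c' * b) • Eu i i') *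
          (1 + (c * b) • Eu i j' - (c' * b') • Eu j i') * (1 + c • Eu i j - c' • Eu j' i')) := by
  have g1 := h1.symm
  have g2 := h2.symm
  have g3 := h3.symm
  have g4 := h4.symm
  have g5 := h5.symm
  have g6 := h6.symm
  have g7 := h7.symm
  have g8 := h8.symm
  have g9 := h9.symm
  have g10 := h10.symm
  have e : b' = -b - a * a' := by linear_combination hab
  subst e
  simp only [mul_add, add_mul, mul_sub, sub_mul, mul_one, one_mul, Matrix.smul_mul,
    Matrix.mul_smul, Eu_mul_same, Eu_mul_ne h1, Eu_mul_ne h2, Eu_mul_ne h3, Eu_mul_ne h4,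
    Eu_mul_ne h5, Eu_mul_ne h6, Eu_mul_ne h7, Eu_mul_ne h8, Eu_mul_ne h9, Eu_mul_ne h10,
    Eu_mul_ne g1, Eu_mul_ne g2, Eu_mul_ne g3, Eu_mul_ne g4, Eu_mul_ne g5, Eu_mul_ne g6,
    Eu_mul_ne g7, Eu_mul_ne g8, Eu_mul_ne g9, Eu_mul_ne g10, smul_zero, smul_smul, add_zero,
    sub_zero, zero_add]
  module

variable [hσ : Fact (∀ x, σ (σ x) = x)]

theorem xrM_add (i j : Fin n) (hg : Gen i j) (a b : K) :
    xrM σ i j a * xrM σ i j b = xrM σ i j (a + b) := by
  unfold xrM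
  have h1 : Fin.rev i ≠ i := hg.hi.symm
  have h2 : Fin.rev i ≠ Fin.rev j := rev_ne_rev hg.ne
  have h3 : j ≠ i := hg.ne.symm
  have h4 : j ≠ Fin.rev j := hg.hj
  simp only [mul_add, add_mul, mul_sub, sub_mul, mul_one, one_mul, Matrix.smul_mul,
    Matrix.mul_smul, Eu_mul_ne h1, Eu_mul_ne h2, Eu_mul_ne h3, Eu_mul_ne h4, smul_zero, map_add]
  module

theorem xr_mul {i j : Fin n} (hg : Gen i j) (a b : K) :
    xr σ hg a * xr σ hg b = xr σ hg (a + b) :=
  gj_ext σ (xrM_add σ i j hg a b)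

theorem xr_zero {i j : Fin n} (hg : Gen i j) : xr σ hg 0 = 1 := by
  apply gj_ext
  rw [xr_val, gj_val_one]
  unfold xrM
  rw [map_zero, zero_smul, zero_smul, add_zero, sub_zero]

theorem xr_inv {i j : Fin n} (hg : Gen i j) (a : K) : (xr σ hg a)⁻¹ = xr σ hg (-a) := by
  rw [inv_eq_iff_mul_eq_one, xr_mul, add_neg_cancel, xr_zero]

theorem xr_npow {i j : Fin n} (hg : Gen i j) (a : K) (k : ℕ) :
    (xr σ hg a) ^ k = xr σ hg (k • a) := by
  induction k with
  | zero => rw [pow_zero, zero_smul, xr_zero]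
  | succ k ih => rw [pow_succ, ih, xr_mul, succ_nsmul]

theorem xr_pow_char (p : ℕ) [CharP K p] {i j : Fin n} (hg : Gen i j) (a : K) :
    (xr σ hg a) ^ p = 1 := by
  rw [xr_npow, nsmul_eq_mul, CharP.cast_eq_zero, zero_mul, xr_zero]

theorem xr_symm {i j : Fin n} (hg : Gen i j) (a : K) : xr σ hg a = xr σ hg.rev (-σ a) := by
  apply gj_ext
  rw [xr_val, xr_val]
  unfold xrM
  rw [Fin.rev_rev, Fin.rev_rev, map_neg, hσ.out]
  module

theorem xl_mul (i : Fin n) (hi : i ≠ Fin.rev i) (s t : K) (hs : s + σ s = 0) (ht : t + σ t = 0) :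
    xl σ i hi s hs * xl σ i hi t ht =
      xl σ i hi (s + t) (by rw [map_add]; linear_combination hs + ht) := by
  apply Subtype.ext
  show tv i (Fin.rev i) hi s * tv i (Fin.rev i) hi t = tv i (Fin.rev i) hi (s + t)
  rw [tv_mul_tv]

theorem xl_zero (i : Fin n) (hi : i ≠ Fin.rev i) :
    xl σ i hi 0 (by rw [map_zero, add_zero]) = 1 := by
  apply Subtype.ext
  show tv i (Fin.rev i) hi (0 : K) = 1
  rw [tv_zero]

theorem xl_inv (i : Fin n) (hi : i ≠ Fin.rev i) (s : K) (hs : s + σ s = 0) :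
    (xl σ i hi s hs)⁻¹ = xl σ i hi (-s) (by rw [map_neg]; linear_combination -hs) := by
  rw [inv_eq_iff_mul_eq_one, xl_mul]
  have : xl σ i hi (s + -s) (by rw [map_add, map_neg]; ring) = xl σ i hi 0 (by rw [map_zero, add_zero]) := by
    congr 1; ring
  rw [this, xl_zero]

theorem xl_pow_char (p : ℕ) [CharP K p] (i : Fin n) (hi : i ≠ Fin.rev i) (s : K)
    (hs : s + σ s = 0) : (xl σ i hi s hs) ^ p = 1 := by
  apply Subtype.ext
  show (tv i (Fin.rev i) hi s) ^ p = 1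
  exact tv_pow_char p i (Fin.rev i) hi s

theorem tz_mul_norm {s : K} (hs : s + σ s = 0) (c : K) :
    s * c * σ c + σ (s * c * σ c) = 0 := by
  rw [map_mul, map_mul, hσ.out]
  have : σ s = -s := by linear_combination hs
  rw [this]; ring

/-- (C1): conjugating a long root element by a lower root element -/
theorem conj1 {i l : Fin n} (hg' : Gen i l) (hg1 : Gen (Fin.rev l) i) (c s : K)
    (hs : s + σ s = 0) :
    xr σ hg1 c * xl σ i hg'.hi s hs =
      xl σ i hg'.hi s hs * xr σ hg' (s * σ c) *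
        xl σ (Fin.rev l) hg1.hi (s * c * σ c) (tz_mul_norm σ hs c) * xr σ hg1 c := by
  apply gj_ext
  simp only [gj_val_mul, xr_val, xl_val]
  unfold xrM
  rw [Fin.rev_rev]
  have hσs : σ s = -s := by linear_combination hs
  have e : σ (s * σ c) = -(s * c) := by rw [map_mul, hσ.out, hσs]; ring
  have e2 : ((1 : Matrix (Fin n) (Fin n) K) + (s * σ c) • Eu i l -
      σ (s * σ c) • Eu (Fin.rev l) (Fin.rev i)) =
      1 + (s * σ c) • Eu i l + (s * c) • Eu (Fin.rev l) (Fin.rev i) := by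
    rw [e]; module
  rw [e2]
  have hli : l ≠ Fin.rev i := fun h => hg1.ne (by rw [h, Fin.rev_rev])
  exact conj1_mat i (Fin.rev l) l (Fin.rev i) hg1.ne.symm hg'.ne hg'.hi hg'.hj.symm
    (rev_ne_rev hg'.ne.symm) hli c (σ c) s

/-- (C2): conjugating a root element of type `e_i + e_j` by a lower long root element -/
theorem conj2 {i j : Fin n} (hg2 : Gen i j) (hg : Gen i (Fin.rev j)) (a s : K)
    (hs : s + σ s = 0) :
    xl σ (Fin.rev j) hg.hj s hs * xr σ hg a =
      xr σ hg a * xr σ hg2 (-(a * s)) *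
        xl σ i hg2.hi (a * s * σ a) (by
          have := tz_mul_norm σ hs a
          rw [show a * s * σ a = s * a * σ a by ring]; exact this) *
        xl σ (Fin.rev j) hg.hj s hs := by
  apply gj_ext
  simp only [gj_val_mul, xr_val, xl_val]
  unfold xrM
  rw [Fin.rev_rev]
  have hσs : σ s = -s := by linear_combination hs
  have e : σ (-(a * s)) = s * σ a := by rw [map_neg, map_mul, hσs]; ring
  rw [e]
  have hji : j ≠ Fin.rev i := fun h => hg.ne (by rw [h, Fin.rev_rev])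
  exact conj2_mat i j (Fin.rev j) (Fin.rev i) hg2.ne hg.ne hg2.hi hg2.hj hji
    (rev_ne_rev hg2.ne.symm) a (σ a) s

theorem xm_param {a b c : K} (hab : b + σ b + a * σ a = 0) :
    c * σ c * b + σ (c * σ c * b) + c * a * σ (c * a) = 0 := by
  rw [map_mul, map_mul, map_mul, hσ.out]
  linear_combination (c * σ c) * hab

/-- (C3): a root element through the middle and a generic root element -/
theorem conj3 {d i j : Fin n} (hd : Fin.rev d = d) (hi : i ≠ d) (hj : j ≠ d) (hg : Gen i j)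
    (hg' : Gen i (Fin.rev j)) (c a b : K) (hab : b + σ b + a * σ a = 0) :
    xr σ hg c * xm σ hd hj a b hab =
      xm σ hd hj a b hab * (xm σ hd hi (c * a) (c * σ c * b) (xm_param σ hab) *
        xr σ hg' (c * b) * xr σ hg c) := by
  apply gj_ext
  simp only [gj_val_mul, xr_val, xm_val]
  unfold xrM xmM
  rw [Fin.rev_rev, map_mul, map_mul]
  have hdj : d ≠ Fin.rev j := fun h => hj (by rw [← Fin.rev_rev j, ← h, hd])
  have hdi : d ≠ Fin.rev i := fun h => hi (by rw [← Fin.rev_rev i, ← h, hd])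
  have hji : j ≠ Fin.rev i := fun h => hg'.ne (by rw [h, Fin.rev_rev])
  exact conj3_mat i j d (Fin.rev j) (Fin.rev i) hg.ne hi hg'.ne hg.hi hj hg.hj hji hdj hdi
    (rev_ne_rev hg.ne.symm) c (σ c) a (σ a) b (σ b) hab

theorem xm_mul_xl {d i : Fin n} (hd : Fin.rev d = d) (hi : i ≠ d) (a c s : K)
    (hac : c + σ c + a * σ a = 0) (hs : s + σ s = 0) (hii : i ≠ Fin.rev i) :
    xm σ hd hi a c hac * xl σ i hii s hs =
      xm σ hd hi a (c + s) (by rw [map_add]; linear_combination hac + hs) := by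
  apply gj_ext
  simp only [gj_val_mul, xm_val, xl_val]
  unfold xmM
  have h1 : Fin.rev i ≠ i := hii.symm
  have h3 : d ≠ i := hi.symm
  simp only [mul_add, add_mul, mul_sub, sub_mul, mul_one, one_mul, Matrix.smul_mul,
    Matrix.mul_smul, Eu_mul_ne h1, Eu_mul_ne h3, smul_zero]
  module

theorem xr_comm_xl {i l : Fin n} (hg' : Gen i l) (hg1 : Gen (Fin.rev l) i) (a u : K)
    (hu : u + σ u = 0) :
    xr σ hg' a * xl σ (Fin.rev l) hg1.hi u hu = xl σ (Fin.rev l) hg1.hi u hu * xr σ hg' a := by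
  apply gj_ext
  simp only [gj_val_mul, xr_val, xl_val]
  unfold xrM
  rw [Fin.rev_rev]
  have h1 : l ≠ Fin.rev l := hg'.hj
  have h2 : Fin.rev i ≠ Fin.rev l := rev_ne_rev hg'.ne
  have h3 : l ≠ i := hg'.ne.symm
  have h4 : l ≠ Fin.rev l := hg'.hj
  simp only [mul_add, add_mul, mul_sub, sub_mul, mul_one, one_mul, Matrix.smul_mul,
    Matrix.mul_smul, Eu_mul_ne h1, Eu_mul_ne h2, Eu_mul_ne h3, smul_zero]
  abel

end Cfsg.Agent.Helper25.PSUFus
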