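import Mathlib
import Cfsg.Agent.Lib.Helper25.PSUFus9

/-!
# Fusion-closed subgroups of `UJ`: spreading lemmas
-/

set_option autoImplicit false
set_option linter.style.haveILetI false
set_option linter.unusedSectionVars false

namespace Cfsg.Agent.Helper25.PSUFus

open Matrix Cfsg.Agent.Helper25.PSLFus

variable {K : Type*} [Field K] [Fintype K] (σ : K →+* K) {n : ℕ}
variable [hσ : Fact (∀ x, σ (σ x) = x)]

theorem xl_congr (i : Fin n) (hi : i ≠ Fin.rev i) {u u' : K} (h : u = u') (hu : u + σ u = 0)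
    (hu' : u' + σ u' = 0) : xl σ i hi u hu = xl σ i hi u' hu' := by
  subst h; rfl

/-- fusion-closed subgroups of `UJ` -/
def FC (T : Subgroup (GJ σ n)) : Prop :=
  ∀ x ∈ T, ∀ g : GJ σ n, g * x * g⁻¹ ∈ UJ σ n → g * x * g⁻¹ ∈ T

section spread

variable {T : Subgroup (GJ σ n)} (hfc : FC σ T) {i l : Fin n} (hg' : Gen i l)
  (hg1 : Gen (Fin.rev l) i) (hi : i < Fin.rev i) (hil : i < l) (hl : Fin.rev l < l)

include hfc hi hil hl in
theorem spread1 (s : K) (hs : s + σ s = 0) (hsT : xl σ i hg'.hi s hs ∈ T) (c : K) :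
    xr σ hg' (s * σ c) * xl σ (Fin.rev l) hg1.hi (s * c * σ c) (tz_mul_norm σ hs c) ∈ T := by
  have h1 := conj1 σ hg' hg1 c s hs
  have h2 : xr σ hg1 c * xl σ i hg'.hi s hs * (xr σ hg1 c)⁻¹ =
      xl σ i hg'.hi s hs * xr σ hg' (s * σ c) *
        xl σ (Fin.rev l) hg1.hi (s * c * σ c) (tz_mul_norm σ hs c) := by
    rw [h1]; group
  have h3 : xl σ i hg'.hi s hs * xr σ hg' (s * σ c) *
      xl σ (Fin.rev l) hg1.hi (s * c * σ c) (tz_mul_norm σ hs c) ∈ UJ σ n := by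
    refine (UJ σ n).mul_mem ((UJ σ n).mul_mem (xl_mem_UJ σ _ hi _ _) (xr_mem_UJ σ _ hil _))
      (xl_mem_UJ σ _ ?_ _ _)
    rw [Fin.rev_rev]; exact hl
  have h4 := hfc _ hsT (xr σ hg1 c) (by rw [h2]; exact h3)
  rw [h2] at h4
  have h5 := T.mul_mem (T.inv_mem hsT) h4
  rwa [mul_assoc, inv_mul_cancel_left] at h5

include hfc hi hil hl in
theorem spread2 (H : FH σ) (s : K) (hs : s + σ s = 0) (hs0 : s ≠ 0)
    (hsT : xl σ i hg'.hi s hs ∈ T) (t : K) (ht : t + σ t = 0) :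
    xl σ (Fin.rev l) hg1.hi t ht ∈ T := by
  have hσs : σ s = -s := by linear_combination hs
  have hσt : σ t = -t := by linear_combination ht
  obtain ⟨c, hc⟩ := H.trace (-t / s) (by rw [map_div₀, map_neg, hσs, hσt]; field_simp)
  have w1 := spread1 σ hfc hg' hg1 hi hil hl s hs hsT c
  have w2 := spread1 σ hfc hg' hg1 hi hil hl s hs hsT 1
  have w3 := spread1 σ hfc hg' hg1 hi hil hl s hs hsT (c + 1)
  have hmem := T.mul_mem (T.mul_mem w1 w2) (T.inv_mem w3)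
  have hx : s * σ c + s * σ 1 = s * σ (c + 1) := by rw [map_add]; ring
  have hcomp : xr σ hg' (s * σ c) * xl σ (Fin.rev l) hg1.hi (s * c * σ c) (tz_mul_norm σ hs c) *
      (xr σ hg' (s * σ 1) * xl σ (Fin.rev l) hg1.hi (s * 1 * σ 1) (tz_mul_norm σ hs 1)) *
      (xr σ hg' (s * σ (c + 1)) *
        xl σ (Fin.rev l) hg1.hi (s * (c + 1) * σ (c + 1)) (tz_mul_norm σ hs (c + 1)))⁻¹ =
      xl σ (Fin.rev l) hg1.hi t ht := by
    rw [_root_.mul_inv_rev, xl_inv, xr_inv]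
    have e1 : xr σ hg' (s * σ c) * xl σ (Fin.rev l) hg1.hi (s * c * σ c) (tz_mul_norm σ hs c) *
        (xr σ hg' (s * σ 1) * xl σ (Fin.rev l) hg1.hi (s * 1 * σ 1) (tz_mul_norm σ hs 1)) =
        xr σ hg' (s * σ (c + 1)) *
          (xl σ (Fin.rev l) hg1.hi (s * c * σ c) (tz_mul_norm σ hs c) *
            xl σ (Fin.rev l) hg1.hi (s * 1 * σ 1) (tz_mul_norm σ hs 1)) := by
      rw [← hx, ← xr_mul, mul_assoc, ← mul_assoc (xl σ _ _ _ _), ← xr_comm_xl σ hg' hg1]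
      simp only [mul_assoc]
    rw [e1, xl_mul, mul_assoc, ← mul_assoc (xl σ _ _ _ _), xl_mul, ← xr_comm_xl σ hg' hg1,
      ← mul_assoc, xr_mul, add_neg_cancel, xr_zero, one_mul]
    apply xl_congr
    rw [map_add, map_one]
    have : c + σ c = -t / s := hc
    field_simp at this
    linear_combination -this
  rwa [hcomp] at hmem

include hfc hg1 hi hil hl in
theorem spread3 (H : FH σ) (hall : ∀ (s : K) (hs : s + σ s = 0), xl σ i hg'.hi s hs ∈ T)
    (a : K) : xr σ hg' a ∈ T := by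
  obtain ⟨s, hs0, hs⟩ := H.exists_tz σ
  have w := spread1 σ hfc hg' hg1 hi hil hl s hs (hall s hs) (σ (a / s))
  have hL := spread2 σ hfc hg' hg1 hi hil hl H s hs hs0 (hall s hs) _
    (tz_mul_norm σ hs (σ (a / s)))
  have h1 := T.mul_mem w (T.inv_mem hL)
  rw [mul_inv_cancel_right, hσ.out, mul_div_cancel₀ _ hs0] at h1
  exact h1

end spread

end Cfsg.Agent.Helper25.PSUFus
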