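import Mathlib
import Cfsg.Agent.Lib.Helper25.PSUFus10

/-!
# No proper nontrivial fusion-closed subgroup of `UJ`
-/

set_option autoImplicit false
set_option linter.style.haveILetI false
set_option linter.unusedSectionVars false

namespace Cfsg.Agent.Helper25.PSUFus

open Matrix Cfsg.Agent.Helper25.PSLFus

variable {K : Type*} [Field K] [Fintype K] (σ : K →+* K) {n : ℕ}
variable [hσ : Fact (∀ x, σ (σ x) = x)]

theorem uh_lt {i k : Fin n} (hi : i < Fin.rev i) (hk : k < Fin.rev k) : i < Fin.rev k := by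
  rw [Fin.lt_def, Fin.val_rev] at *
  omega

theorem uh_of_lt_mid {d j : Fin n} (hd : Fin.rev d = d) (hj : j < d) : j < Fin.rev j := by
  have h1 := congrArg Fin.val hd
  rw [Fin.lt_def] at *
  rw [Fin.val_rev] at *
  omega

theorem xm_congr {d i : Fin n} (hd : Fin.rev d = d) (hi : i ≠ d) {a a' c c' : K} (ha : a = a')
    (hc : c = c') (hac : c + σ c + a * σ a = 0) (hac' : c' + σ c' + a' * σ a' = 0) :
    xm σ hd hi a c hac = xm σ hd hi a' c' hac' := by
  subst ha; subst hc; rfl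

section claims

variable {T : Subgroup (GJ σ n)} (hfc : FC σ T) (H : FH σ)

include hfc H in
/-- from one long root group to another -/
theorem claimA_step {i k : Fin n} (hi : i < Fin.rev i) (hk : k < Fin.rev k) (hik : i ≠ k)
    (s : K) (hs : s + σ s = 0) (hs0 : s ≠ 0) (hsT : xl σ i (ne_of_lt hi) s hs ∈ T)
    (t : K) (ht : t + σ t = 0) : xl σ k (ne_of_lt hk) t ht ∈ T := by
  have hg' : Gen i (Fin.rev k) :=
    ⟨ne_of_lt (uh_lt hi hk), ne_of_lt hi, by rw [Fin.rev_rev]; exact (ne_of_lt hk).symm⟩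
  have hg1 : Gen (Fin.rev (Fin.rev k)) i := by
    rw [Fin.rev_rev]
    exact ⟨hik.symm, ne_of_lt hk, ne_of_lt hi⟩
  have h1 := spread2 σ hfc hg' hg1 hi (uh_lt hi hk) (by rw [Fin.rev_rev]; exact hk) H s hs hs0
    hsT t ht
  have e : xl σ (Fin.rev (Fin.rev k)) hg1.hi t ht = xl σ k (ne_of_lt hk) t ht := by
    apply gj_ext
    rw [xl_val, xl_val, Fin.rev_rev]
  rwa [e] at h1

include hfc H in
/-- root elements of type `e_i + e_j` -/
theorem claimB (hA : ∀ (k : Fin n) (hk : k < Fin.rev k) (t : K) (ht : t + σ t = 0),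
      xl σ k (ne_of_lt hk) t ht ∈ T)
    {i l : Fin n} (hg' : Gen i l) (hi : i < Fin.rev i) (hl : Fin.rev l < l)
    (hil : i ≠ Fin.rev l) (a : K) : xr σ hg' a ∈ T := by
  have hg1 : Gen (Fin.rev l) i :=
    ⟨hil.symm, by rw [Fin.rev_rev]; exact hg'.hj.symm, hg'.hi⟩
  have hk : Fin.rev l < Fin.rev (Fin.rev l) := by rw [Fin.rev_rev]; exact hl
  have h1 : i < l := by
    have := uh_lt hi hk
    rwa [Fin.rev_rev] at this
  exact spread3 σ hfc hg' hg1 hi h1 hl H (fun s hs => hA i hi s hs) a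

include hfc H in
/-- root elements of type `e_i - e_j` -/
theorem claimC (hA : ∀ (k : Fin n) (hk : k < Fin.rev k) (t : K) (ht : t + σ t = 0),
      xl σ k (ne_of_lt hk) t ht ∈ T)
    {i j : Fin n} (hg2 : Gen i j) (hi : i < Fin.rev i) (hj : j < Fin.rev j) (hij : i < j)
    (t : K) : xr σ hg2 t ∈ T := by
  obtain ⟨s, hs0, hs⟩ := H.exists_tz σ
  have hg : Gen i (Fin.rev j) :=
    ⟨ne_of_lt (uh_lt hi hj), ne_of_lt hi, by rw [Fin.rev_rev]; exact (ne_of_lt hj).symm⟩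
  have hB := claimB σ hfc H hA hg hi (by rw [Fin.rev_rev]; exact hj)
    (by rw [Fin.rev_rev]; exact ne_of_lt hij)
  set a := -t / s with ha
  have htz : a * s * σ a + σ (a * s * σ a) = 0 := by
    have := tz_mul_norm σ hs a
    rw [show a * s * σ a = s * a * σ a by ring]; exact this
  have h1 := conj2 σ hg2 hg a s hs
  have h2 : xl σ (Fin.rev j) hg.hj s hs * xr σ hg a * (xl σ (Fin.rev j) hg.hj s hs)⁻¹ =
      xr σ hg a * xr σ hg2 (-(a * s)) * xl σ i hg2.hi (a * s * σ a) htz := by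
    rw [h1]; group
  have h3 : xr σ hg a * xr σ hg2 (-(a * s)) * xl σ i hg2.hi (a * s * σ a) htz ∈ UJ σ n :=
    (UJ σ n).mul_mem ((UJ σ n).mul_mem (xr_mem_UJ σ _ (uh_lt hi hj) _) (xr_mem_UJ σ _ hij _))
      (xl_mem_UJ σ _ hi _ _)
  have h4 := hfc _ (hB a) (xl σ (Fin.rev j) hg.hj s hs) (by rw [h2]; exact h3)
  rw [h2] at h4
  have h5 := T.mul_mem (T.mul_mem (T.inv_mem (hB a)) h4) (T.inv_mem (hA i hi _ htz))
  have e : -(a * s) = t := by rw [ha]; field_simp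
  rw [mul_assoc (xr σ hg a), inv_mul_cancel_left, mul_inv_cancel_right, e] at h5
  exact h5

include hfc H in
/-- from `xm (c, c σc b₀)` for all `c` to all of the root group through the middle -/
theorem claimD_fill (hA : ∀ (k : Fin n) (hk : k < Fin.rev k) (t : K) (ht : t + σ t = 0),
      xl σ k (ne_of_lt hk) t ht ∈ T)
    {d i : Fin n} (hd : Fin.rev d = d) (hi : i ≠ d) (hid : i < d) (b₀ : K)
    (hb₀ : b₀ + σ b₀ + 1 * σ 1 = 0)
    (hall : ∀ c : K, xm σ hd hi (c * 1) (c * σ c * b₀) (xm_param σ hb₀) ∈ T)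
    (a c : K) (hac : c + σ c + a * σ a = 0) : xm σ hd hi a c hac ∈ T := by
  have hiU := uh_of_lt_mid hd hid
  have hb1 : σ b₀ = -b₀ - 1 := by rw [map_one, mul_one] at hb₀; linear_combination hb₀
  have htz : (c - a * σ a * b₀) + σ (c - a * σ a * b₀) = 0 := by
    rw [map_sub, map_mul, map_mul, hσ.out, hb1]
    linear_combination hac
  have h1 := xm_mul_xl σ hd hi (a * 1) (a * σ a * b₀) (c - a * σ a * b₀) (xm_param σ hb₀) htz
    (ne_of_lt hiU)
  have h2 := T.mul_mem (hall a) (hA i hiU _ htz)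
  rw [h1] at h2
  have e := xm_congr σ hd hi (mul_one a) (by ring : a * σ a * b₀ + (c - a * σ a * b₀) = c)
    (by rw [map_add]; linear_combination (xm_param σ hb₀ (c := a)) + htz) hac
  rwa [e] at h2

include hfc H in
theorem claimD1 (hA : ∀ (k : Fin n) (hk : k < Fin.rev k) (t : K) (ht : t + σ t = 0),
      xl σ k (ne_of_lt hk) t ht ∈ T)
    {d i j : Fin n} (hd : Fin.rev d = d) (hi : i ≠ d) (hj : j ≠ d) (hij : i < j) (hjd : j < d)
    (a c : K) (hac : c + σ c + a * σ a = 0) : xm σ hd hi a c hac ∈ T := by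
  have hid : i < d := lt_trans hij hjd
  have hiU := uh_of_lt_mid hd hid
  have hjU := uh_of_lt_mid hd hjd
  obtain ⟨b₀, hb₀⟩ := H.exists_b σ (1 : K)
  have hg : Gen i j := ⟨ne_of_lt hij, ne_of_lt hiU, ne_of_lt hjU⟩
  have hg' : Gen i (Fin.rev j) :=
    ⟨ne_of_lt (uh_lt hiU hjU), ne_of_lt hiU, by rw [Fin.rev_rev]; exact (ne_of_lt hjU).symm⟩
  apply claimD_fill σ hfc H hA hd hi hid b₀ hb₀
  intro c'
  have h1 := conj3 σ hd hi hj hg hg' c' 1 b₀ hb₀
  have h2 : (xm σ hd hj 1 b₀ hb₀)⁻¹ * xr σ hg c' * (xm σ hd hj 1 b₀ hb₀)⁻¹⁻¹ =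
      xm σ hd hi (c' * 1) (c' * σ c' * b₀) (xm_param σ hb₀) * xr σ hg' (c' * b₀) * xr σ hg c' := by
    rw [inv_inv, mul_assoc, h1]; group
  have hC := claimC σ hfc H hA hg hiU hjU hij c'
  have hB := claimB σ hfc H hA hg' hiU (by rw [Fin.rev_rev]; exact hjU)
    (by rw [Fin.rev_rev]; exact ne_of_lt hij) (c' * b₀)
  have h3 : xm σ hd hi (c' * 1) (c' * σ c' * b₀) (xm_param σ hb₀) * xr σ hg' (c' * b₀) *
      xr σ hg c' ∈ UJ σ n :=
    (UJ σ n).mul_mem ((UJ σ n).mul_mem (xm_mem_UJ σ hd hi hid _ _ _)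
      (xr_mem_UJ σ _ (uh_lt hiU hjU) _)) (xr_mem_UJ σ _ hij _)
  have h4 := hfc _ hC (xm σ hd hj 1 b₀ hb₀)⁻¹ (by rw [h2]; exact h3)
  rw [h2] at h4
  have h5 := T.mul_mem (T.mul_mem h4 (T.inv_mem hC)) (T.inv_mem hB)
  rwa [mul_inv_cancel_right, mul_inv_cancel_right] at h5

include hfc H in
theorem claimD2 (hA : ∀ (k : Fin n) (hk : k < Fin.rev k) (t : K) (ht : t + σ t = 0),
      xl σ k (ne_of_lt hk) t ht ∈ T)
    {d i j : Fin n} (hd : Fin.rev d = d) (hi : i ≠ d) (hj : j ≠ d) (hji : j < i) (hid : i < d)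
    (hjT : ∀ (a c : K) (hac : c + σ c + a * σ a = 0), xm σ hd hj a c hac ∈ T)
    (a c : K) (hac : c + σ c + a * σ a = 0) : xm σ hd hi a c hac ∈ T := by
  have hjd : j < d := lt_trans hji hid
  have hiU := uh_of_lt_mid hd hid
  have hjU := uh_of_lt_mid hd hjd
  obtain ⟨b₀, hb₀⟩ := H.exists_b σ (1 : K)
  have hg : Gen i j := ⟨(ne_of_lt hji).symm, ne_of_lt hiU, ne_of_lt hjU⟩
  have hg' : Gen i (Fin.rev j) :=
    ⟨ne_of_lt (uh_lt hiU hjU), ne_of_lt hiU, by rw [Fin.rev_rev]; exact (ne_of_lt hjU).symm⟩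
  apply claimD_fill σ hfc H hA hd hi hid b₀ hb₀
  intro c'
  have h1 := conj3 σ hd hi hj hg hg' c' 1 b₀ hb₀
  have h2 : xr σ hg c' * xm σ hd hj 1 b₀ hb₀ * (xr σ hg c')⁻¹ =
      xm σ hd hj 1 b₀ hb₀ * xm σ hd hi (c' * 1) (c' * σ c' * b₀) (xm_param σ hb₀) *
        xr σ hg' (c' * b₀) := by
    rw [h1]; group
  have hB := claimB σ hfc H hA hg' hiU (by rw [Fin.rev_rev]; exact hjU)
    (by rw [Fin.rev_rev]; exact (ne_of_lt hji).symm) (c' * b₀)
  have h3 : xm σ hd hj 1 b₀ hb₀ * xm σ hd hi (c' * 1) (c' * σ c' * b₀) (xm_param σ hb₀) *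
      xr σ hg' (c' * b₀) ∈ UJ σ n :=
    (UJ σ n).mul_mem ((UJ σ n).mul_mem (xm_mem_UJ σ hd hj hjd _ _ _)
      (xm_mem_UJ σ hd hi hid _ _ _)) (xr_mem_UJ σ _ (uh_lt hiU hjU) _)
  have h4 := hfc _ (hjT 1 b₀ hb₀) (xr σ hg c') (by rw [h2]; exact h3)
  rw [h2] at h4
  have h5 := T.mul_mem (T.inv_mem (hjT 1 b₀ hb₀)) (T.mul_mem h4 (T.inv_mem hB))
  have e : ∀ (X Y Z : GJ σ n), X⁻¹ * (X * Y * Z * Z⁻¹) = Y := fun X Y Z => by group
  rwa [e] at h5

end claims

/-- **Core lemma.**  A nontrivial subgroup of `UJ` closed under fusion in `GJ` is `UJ`. -/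
theorem eq_UJ_of_fusClosed (H : FH σ) (p : ℕ) [Fact p.Prime] [CharP K p] (hn : 4 ≤ n)
    (T : Subgroup (GJ σ n)) (hTU : T ≤ UJ σ n) (hne : T ≠ ⊥) (hfc : FC σ T) : T = UJ σ n := by
  haveI : NeZero n := ⟨by omega⟩
  -- `T` is normal in `UJ`
  haveI hnorm : (T.subgroupOf (UJ σ n)).Normal := by
    refine ⟨fun x hx u => ?_⟩
    rw [Subgroup.mem_subgroupOf] at hx ⊢
    exact hfc _ hx u (Subgroup.mul_mem _ (Subgroup.mul_mem _ u.2 x.2) (Subgroup.inv_mem _ u.2))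
  have hne' : T.subgroupOf (UJ σ n) ≠ ⊥ := by
    intro h
    apply hne
    rw [eq_bot_iff]
    intro x hx
    have : (⟨x, hTU hx⟩ : UJ σ n) ∈ T.subgroupOf (UJ σ n) := Subgroup.mem_subgroupOf.mpr hx
    rw [h, Subgroup.mem_bot] at this
    rw [Subgroup.mem_bot]
    exact congrArg Subtype.val this
  have hcen := Cfsg.Agent.Helper19.normal_inf_center_ne_bot (UJ_isPGroup σ p)
    (T.subgroupOf (UJ σ n)) hne'
  obtain ⟨⟨z, hz⟩, hz1'⟩ := (Subgroup.ne_bot_iff_exists_ne_one).mp hcen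
  have hz1 : z ≠ 1 := fun h => hz1' (Subtype.ext h)
  obtain ⟨hzT, hzC⟩ := Subgroup.mem_inf.mp hz
  have hzT' : ((z : UJ σ n) : GJ σ n) ∈ T := Subgroup.mem_subgroupOf.mp hzT
  have hzc : ∀ u ∈ UJ σ n, u * ((z : UJ σ n) : GJ σ n) = ((z : UJ σ n) : GJ σ n) * u := by
    intro u hu
    have := (Subgroup.mem_center_iff.mp hzC) ⟨u, hu⟩
    exact congrArg Subtype.val this
  obtain ⟨i0, hi0⟩ : ∃ i0 : Fin n, i0.val = 0 := ⟨⟨0, by omega⟩, rfl⟩
  obtain ⟨i1, hi1⟩ : ∃ i1 : Fin n, i1.val = 1 := ⟨⟨1, by omega⟩, rfl⟩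
  have hil : (Fin.rev i0).val + 1 = n := by rw [Fin.val_rev]; omega
  have h0U : i0 < Fin.rev i0 := by rw [Fin.lt_def, Fin.val_rev]; omega
  have h1U : i1 < Fin.rev i1 := by rw [Fin.lt_def, Fin.val_rev]; omega
  have h01 : i0 ≠ i1 := fun h => by rw [h] at hi0; omega
  obtain ⟨hform, htz⟩ := center_UJ_form σ H hi0 hil (by omega) (z : GJ σ n) (z : UJ σ n).2 hzc
  set s := ((z : UJ σ n) : GJ σ n).1.1 i0 (Fin.rev i0) with hs_def
  have hs0 : s ≠ 0 := by
    intro h0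
    apply hz1
    apply Subtype.ext
    apply gj_ext
    rw [hform, h0, zero_smul, add_zero]
    rfl
  have hzeq : ((z : UJ σ n) : GJ σ n) = xl σ i0 (ne_of_lt h0U) s htz := by
    apply gj_ext
    rw [hform, xl_val]
  rw [hzeq] at hzT'
  -- the long root groups
  have hA1 : ∀ (k : Fin n) (hk : k < Fin.rev k), k ≠ i0 → ∀ (t : K) (ht : t + σ t = 0),
      xl σ k (ne_of_lt hk) t ht ∈ T := fun k hk hk0 t ht =>
    claimA_step σ hfc H h0U hk (Ne.symm hk0) s htz hs0 hzT' t ht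
  have hA : ∀ (k : Fin n) (hk : k < Fin.rev k) (t : K) (ht : t + σ t = 0),
      xl σ k (ne_of_lt hk) t ht ∈ T := by
    intro k hk t ht
    by_cases hk0 : k = i0
    · subst hk0
      obtain ⟨s', hs'0, hs'⟩ := H.exists_tz σ
      exact claimA_step σ hfc H h1U hk (Ne.symm h01) s' hs' hs'0
        (hA1 i1 h1U (Ne.symm h01) s' hs') t ht
    · exact hA1 k hk hk0 t ht
  apply le_antisymm hTU
  apply UJ_le_of_rootsIn σ H
  refine ⟨?_, ?_, ?_⟩
  · intro k l hg hkl hlk c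
    have hkU : k < Fin.rev k := lt_trans hkl hlk
    rcases lt_or_gt_of_ne hg.hj with hl | hl
    · exact claimC σ hfc H hA hg hkU hl hkl c
    · refine claimB σ hfc H hA hg hkU hl ?_ c
      intro h
      rw [h, Fin.rev_rev] at hlk
      exact lt_irrefl _ hlk
  · intro k hk hkk t ht
    exact hA k hkk t ht
  · intro d k hd hk hkd a c hac
    by_cases hlast : k.val + 1 < d.val
    · -- there is `j` with `k < j < d`
      have hj : (⟨k.val + 1, by have := d.2; omega⟩ : Fin n) ≠ d := fun h => by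
        rw [← h] at hlast; simp at hlast
      exact claimD1 σ hfc H hA hd hk hj (Fin.lt_def.mpr (by simp)) (Fin.lt_def.mpr hlast) a c hac
    · -- `k = d - 1`: use `j = k - 1`
      have hd2 : 2 ≤ d.val := by
        have h1 := congrArg Fin.val hd
        rw [Fin.val_rev] at h1
        omega
      have hkval : k.val + 1 = d.val := by
        have := Fin.lt_def.mp hkd
        omega
      have hjlt : k.val - 1 < n := by have := k.2; omega
      have hj : (⟨k.val - 1, hjlt⟩ : Fin n) ≠ d := fun h => by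
        have := congrArg Fin.val h
        simp at this
        omega
      have hjk : (⟨k.val - 1, hjlt⟩ : Fin n) < k := Fin.lt_def.mpr (by
        show k.val - 1 < k.val; omega)
      exact claimD2 σ hfc H hA hd hk hj hjk hkd
        (fun a' c' hac' => claimD1 σ hfc H hA hd hj hk hjk hkd a' c' hac') a c hac

end Cfsg.Agent.Helper25.PSUFus
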