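import Mathlib
import Cfsg.Agent.Lib.Helper25.PSUFus11

/-!
# Embedding small matrix algebras into `M_n(K)` along an injection of index sets
-/

set_option autoImplicit false
set_option linter.style.haveILetI false
set_option linter.unusedSectionVars false
set_option linter.unusedSimpArgs false

namespace Cfsg.Agent.Helper25.PSUFus

open Matrix

section emb

variable {K : Type*} [Field K] {ι : Type*} [Fintype ι] [DecidableEq ι] {n : ℕ}

/-- the `n × ι` incidence matrix of `φ : ι → Fin n` -/
def Pm (K : Type*) [Field K] (φ : ι → Fin n) : Matrix (Fin n) ι K :=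
  Matrix.of fun k a => if k = φ a then 1 else 0

theorem Pm_apply (φ : ι → Fin n) (k : Fin n) (a : ι) :
    Pm K φ k a = if k = φ a then 1 else 0 := rfl

theorem Pm_transpose_mul {φ : ι → Fin n} (hφ : Function.Injective φ) :
    (Pm K φ)ᵀ * Pm K φ = 1 := by
  ext a b
  rw [Matrix.mul_apply]
  simp only [Matrix.transpose_apply, Pm_apply]
  rw [Finset.sum_eq_single (φ a)]
  · by_cases hab : a = b
    · subst hab; simp
    · have : φ a ≠ φ b := fun h => hab (hφ h)
      simp [hab, this]
  · intro k _ hk
    simp [hk]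
  · intro h; exact absurd (Finset.mem_univ _) h

/-- the (non-unital) embedding `N ↦ P N Pᵀ` -/
def embN (φ : ι → Fin n) (N : Matrix ι ι K) : Matrix (Fin n) (Fin n) K :=
  Pm K φ * N * (Pm K φ)ᵀ

theorem embN_add (φ : ι → Fin n) (N N' : Matrix ι ι K) :
    embN φ (N + N') = embN φ N + embN φ N' := by
  unfold embN; rw [Matrix.mul_add, Matrix.add_mul]

theorem embN_sub (φ : ι → Fin n) (N N' : Matrix ι ι K) :
    embN φ (N - N') = embN φ N - embN φ N' := by
  unfold embN; rw [Matrix.mul_sub, Matrix.sub_mul]

theorem embN_zero (φ : ι → Fin n) : embN φ (0 : Matrix ι ι K) = 0 := by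
  unfold embN; rw [Matrix.mul_zero, Matrix.zero_mul]

theorem embN_neg (φ : ι → Fin n) (N : Matrix ι ι K) : embN φ (-N) = -embN φ N := by
  unfold embN; rw [Matrix.mul_neg, Matrix.neg_mul]

theorem embN_smul (φ : ι → Fin n) (c : K) (N : Matrix ι ι K) :
    embN φ (c • N) = c • embN φ N := by
  unfold embN; rw [Matrix.mul_smul, Matrix.smul_mul]

theorem embN_mul {φ : ι → Fin n} (hφ : Function.Injective φ) (N N' : Matrix ι ι K) :
    embN φ (N * N') = embN φ N * embN φ N' := by
  unfold embN
  have h := Pm_transpose_mul (K := K) hφ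
  calc Pm K φ * (N * N') * (Pm K φ)ᵀ = Pm K φ * N * (1 : Matrix ι ι K) * N' * (Pm K φ)ᵀ := by
        rw [Matrix.mul_one, Matrix.mul_assoc (Pm K φ) N N']
    _ = Pm K φ * N * (Pm K φ)ᵀ * (Pm K φ * N' * (Pm K φ)ᵀ) := by
        rw [← h]; simp only [Matrix.mul_assoc]

theorem embN_single (φ : ι → Fin n) (a b : ι) (c : K) :
    embN φ (single a b c) = single (φ a) (φ b) c := by
  ext k l
  unfold embN
  rw [Matrix.mul_apply]
  simp only [Matrix.mul_apply, Matrix.transpose_apply, Pm_apply, Matrix.single_apply]
  rw [Finset.sum_eq_single b]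
  · rw [Finset.sum_eq_single a]
    · by_cases hk : k = φ a
      · by_cases hl : l = φ b
        · subst hk; subst hl; simp
        · have : ¬ (φ b = l) := fun h => hl h.symm
          simp [hl, this]
      · have : ¬ (φ a = k) := fun h => hk h.symm
        simp [hk, this]
    · intro x _ hx
      have : ¬ (a = x) := fun h => hx h.symm
      simp [this]
    · intro h; exact absurd (Finset.mem_univ _) h
  · intro y _ hy
    have : ∀ x, ¬ (a = x ∧ b = y) := fun x h => hy h.2.symm
    simp [this]
  · intro h; exact absurd (Finset.mem_univ _) h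

/-- the unital embedding -/
def emb (φ : ι → Fin n) (M : Matrix ι ι K) : Matrix (Fin n) (Fin n) K := 1 + embN φ (M - 1)

theorem emb_one (φ : ι → Fin n) : emb φ (1 : Matrix ι ι K) = 1 := by
  unfold emb; rw [sub_self, embN_zero, add_zero]

theorem emb_one_add (φ : ι → Fin n) (N : Matrix ι ι K) : emb φ (1 + N) = 1 + embN φ N := by
  unfold emb; rw [add_sub_cancel_left]

theorem emb_mul {φ : ι → Fin n} (hφ : Function.Injective φ) (M M' : Matrix ι ι K) :
    emb φ (M * M') = emb φ M * emb φ M' := by
  unfold emb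
  have e : M * M' - 1 = (M - 1) + (M' - 1) + (M - 1) * (M' - 1) := by
    simp only [mul_sub, sub_mul, mul_one, one_mul]; abel
  rw [e, embN_add, embN_add, embN_mul hφ]
  simp only [mul_add, add_mul, mul_one, one_mul]
  abel

end emb

end Cfsg.Agent.Helper25.PSUFus
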