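import Mathlib
import Cfsg.Agent.Lib.Helper25.PSUFus12

/-!
# Small matrix identities: torus elements as products of root elements
-/

set_option autoImplicit false
set_option linter.style.haveILetI false
set_option linter.unusedSectionVars false
set_option linter.unusedSimpArgs false

namespace Cfsg.Agent.Helper25.PSUFus

open Matrix

section small

variable {K : Type*} [Field K]

/-! ### `2 × 2` -/

def X2 (s : K) : Matrix (Fin 2) (Fin 2) K := 1 + single 0 1 s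
def Y2 (s : K) : Matrix (Fin 2) (Fin 2) K := 1 + single 1 0 s
def D2 (x y : K) : Matrix (Fin 2) (Fin 2) K := 1 + single 0 0 (x - 1) + single 1 1 (y - 1)

theorem id2 (s u : K) (hs : s ≠ 0) (hu : u ≠ 0) :
    X2 s * Y2 (-s⁻¹) * X2 s * (X2 u * Y2 (-u⁻¹) * X2 u) = D2 (-(s * u⁻¹)) (-(u * s⁻¹)) := by
  ext a b
  fin_cases a <;> fin_cases b <;>
    simp [X2, Y2, D2, Matrix.mul_apply, Fin.sum_univ_two, Matrix.add_apply, Matrix.one_apply,
      Matrix.single_apply] <;> (try field_simp) <;> (try grind)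

/-! ### `4 × 4` -/

def X4 (c c' : K) : Matrix (Fin 4) (Fin 4) K := 1 + single 0 1 c - single 2 3 c'
def Y4 (c c' : K) : Matrix (Fin 4) (Fin 4) K := 1 + single 1 0 c - single 3 2 c'
def W4 (c c' : K) : Matrix (Fin 4) (Fin 4) K :=
  single 0 1 c + single 1 0 (-c⁻¹) + single 2 3 (-c') + single 3 2 (c'⁻¹)
def D4 (t t' : K) : Matrix (Fin 4) (Fin 4) K :=
  1 + single 0 0 (t - 1) + single 1 1 (t⁻¹ - 1) + single 2 2 (t' - 1) + single 3 3 (t'⁻¹ - 1)

theorem id4a (t t' : K) (ht : t ≠ 0) (ht' : t' ≠ 0) :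
    X4 t t' * Y4 (-t⁻¹) (-t'⁻¹) * X4 t t' = W4 t t' := by
  ext a b
  fin_cases a <;> fin_cases b <;>
    simp [X4, Y4, W4, Matrix.mul_apply, Fin.sum_univ_four, Matrix.add_apply, Matrix.sub_apply,
      Matrix.one_apply, Matrix.single_apply] <;> (try field_simp) <;> (try grind)

theorem id4b (t t' : K) (ht : t ≠ 0) (ht' : t' ≠ 0) :
    W4 t t' * W4 (-1) (-1) = D4 t t' := by
  ext a b
  fin_cases a <;> fin_cases b <;>
    simp [W4, D4, Matrix.mul_apply, Fin.sum_univ_four, Matrix.add_apply, Matrix.sub_apply,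
      Matrix.one_apply, Matrix.single_apply]

theorem id4 (t t' : K) (ht : t ≠ 0) (ht' : t' ≠ 0) :
    X4 t t' * Y4 (-t⁻¹) (-t'⁻¹) * X4 t t' * (X4 (-1) (-1) * Y4 1 1 * X4 (-1) (-1)) =
      D4 t t' := by
  have h1 := id4a t t' ht ht'
  have h2 := id4a (-1 : K) (-1 : K) (neg_ne_zero.mpr one_ne_zero) (neg_ne_zero.mpr one_ne_zero)
  have e2 : -(-1 : K)⁻¹ = 1 := by rw [inv_neg, inv_one, neg_neg]
  rw [e2] at h2
  rw [h1, h2, id4b t t' ht ht']

/-! ### `3 × 3` -/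

def X3 (a a' b : K) : Matrix (Fin 3) (Fin 3) K := 1 + single 0 1 a - single 1 2 a' + single 0 2 b
def Y3 (a a' b : K) : Matrix (Fin 3) (Fin 3) K := 1 + single 2 1 a - single 1 0 a' + single 2 0 b
def W3 (b b' : K) : Matrix (Fin 3) (Fin 3) K :=
  single 0 2 b + single 1 1 (-(b' * b⁻¹)) + single 2 0 b'⁻¹
def D3 (x y z : K) : Matrix (Fin 3) (Fin 3) K :=
  1 + single 0 0 (x - 1) + single 1 1 (y - 1) + single 2 2 (z - 1)

theorem id3a (a a' b b' : K) (hb : b ≠ 0) (hb' : b' ≠ 0) (h : b + b' + a * a' = 0) :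
    X3 a a' b * Y3 (-(a * b⁻¹)) (-(a' * b'⁻¹)) b'⁻¹ * X3 (a * b' * b⁻¹) (a' * b * b'⁻¹) b =
      W3 b b' := by
  ext i j
  fin_cases i <;> fin_cases j <;>
    simp [X3, Y3, W3, Matrix.mul_apply, Fin.sum_univ_three, Matrix.add_apply, Matrix.sub_apply,
      Matrix.one_apply, Matrix.single_apply] <;> (try field_simp) <;> (try grind)

theorem id3b (b b' u u' : K) (hb : b ≠ 0) (hb' : b' ≠ 0) (hu : u ≠ 0) (hu' : u' ≠ 0) :
    W3 b b' * W3 u u' = D3 (b * u'⁻¹) (b' * b⁻¹ * (u' * u⁻¹)) (u * b'⁻¹) := by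
  ext i j
  fin_cases i <;> fin_cases j <;>
    simp [W3, D3, Matrix.mul_apply, Fin.sum_univ_three, Matrix.add_apply, Matrix.sub_apply,
      Matrix.one_apply, Matrix.single_apply] <;> (try ring)

end small

end Cfsg.Agent.Helper25.PSUFus
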