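import Mathlib
import Cfsg.Agent.Lib.Helper25.PSUFus13

/-!
# Entries of embedded matrices; the torus elements of `GJ`
-/

set_option autoImplicit false
set_option linter.style.haveILetI false
set_option linter.unusedSectionVars false
set_option linter.unusedSimpArgs false

namespace Cfsg.Agent.Helper25.PSUFus

open Matrix Cfsg.Agent.Helper25.PSLFus

section entries

variable {K : Type*} [Field K] {ι : Type*} [Fintype ι] [DecidableEq ι] {n : ℕ}

theorem embN_apply (φ : ι → Fin n) (N : Matrix ι ι K) (k l : Fin n) :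
    embN φ N k l = ∑ b, (∑ a, (if k = φ a then (1 : K) else 0) * N a b) *
      (if l = φ b then (1 : K) else 0) := by
  unfold embN
  rw [Matrix.mul_apply]
  apply Finset.sum_congr rfl
  intro b _
  rw [Matrix.mul_apply]
  rfl

theorem embN_apply_of_left {φ : ι → Fin n} (N : Matrix ι ι K) {k : Fin n} (hk : ∀ a, φ a ≠ k)
    (l : Fin n) : embN φ N k l = 0 := by
  rw [embN_apply]
  apply Finset.sum_eq_zero
  intro b _
  have : ∑ a, (if k = φ a then (1 : K) else 0) * N a b = 0 := by
    apply Finset.sum_eq_zero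
    intro a _
    rw [if_neg (fun h => hk a h.symm), zero_mul]
  rw [this, zero_mul]

theorem embN_apply_of_right {φ : ι → Fin n} (N : Matrix ι ι K) (k : Fin n) {l : Fin n}
    (hl : ∀ a, φ a ≠ l) : embN φ N k l = 0 := by
  rw [embN_apply]
  apply Finset.sum_eq_zero
  intro b _
  rw [if_neg (fun h => hl b h.symm), mul_zero]

theorem embN_apply_apply {φ : ι → Fin n} (hφ : Function.Injective φ) (N : Matrix ι ι K)
    (a b : ι) : embN φ N (φ a) (φ b) = N a b := by
  rw [embN_apply, Finset.sum_eq_single b]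
  · rw [if_pos rfl, mul_one, Finset.sum_eq_single a]
    · rw [if_pos rfl, one_mul]
    · intro x _ hx
      rw [if_neg (fun h => hx (hφ h).symm), zero_mul]
    · intro h; exact absurd (Finset.mem_univ _) h
  · intro y _ hy
    rw [if_neg (fun h => hy (hφ h).symm), mul_zero]
  · intro h; exact absurd (Finset.mem_univ _) h

theorem emb_apply_of_left {φ : ι → Fin n} (M : Matrix ι ι K) {k : Fin n} (hk : ∀ a, φ a ≠ k)
    (l : Fin n) : emb φ M k l = (1 : Matrix (Fin n) (Fin n) K) k l := by
  unfold emb
  rw [Matrix.add_apply, embN_apply_of_left _ hk, add_zero]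

theorem emb_apply_of_right {φ : ι → Fin n} (M : Matrix ι ι K) (k : Fin n) {l : Fin n}
    (hl : ∀ a, φ a ≠ l) : emb φ M k l = (1 : Matrix (Fin n) (Fin n) K) k l := by
  unfold emb
  rw [Matrix.add_apply, embN_apply_of_right _ _ hl, add_zero]

theorem emb_apply_apply {φ : ι → Fin n} (hφ : Function.Injective φ) (M : Matrix ι ι K)
    (a b : ι) : emb φ M (φ a) (φ b) = M a b := by
  unfold emb
  rw [Matrix.add_apply, embN_apply_apply hφ, Matrix.sub_apply, Matrix.one_apply, Matrix.one_apply]
  by_cases hab : a = b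
  · subst hab; simp
  · have : φ a ≠ φ b := fun h => hab (hφ h)
    simp [hab, this]

/-- the embedding of a diagonal matrix is diagonal -/
theorem emb_diag_apply_ne {φ : ι → Fin n} (hφ : Function.Injective φ) (M : Matrix ι ι K)
    (hM : ∀ a b, a ≠ b → M a b = 0) {k l : Fin n} (hkl : k ≠ l) : emb φ M k l = 0 := by
  by_cases hk : ∃ a, φ a = k
  · by_cases hl : ∃ b, φ b = l
    · obtain ⟨a, rfl⟩ := hk
      obtain ⟨b, rfl⟩ := hl
      rw [emb_apply_apply hφ]
      exact hM a b (fun h => hkl (by rw [h]))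
    · push_neg at hl
      rw [emb_apply_of_right _ _ hl, Matrix.one_apply_ne hkl]
  · push_neg at hk
    rw [emb_apply_of_left _ hk, Matrix.one_apply_ne hkl]

theorem emb_isUpper {φ : ι → Fin n} (hφ : Function.Injective φ) (M : Matrix ι ι K)
    (hM : ∀ a b, a ≠ b → M a b = 0) : IsUpper (emb φ M) :=
  fun _ _ hji => emb_diag_apply_ne hφ M hM (ne_of_gt hji)

theorem emb_apply_self_of_not {φ : ι → Fin n} (M : Matrix ι ι K) {k : Fin n}
    (hk : ∀ a, φ a ≠ k) : emb φ M k k = 1 := by
  rw [emb_apply_of_left _ hk, Matrix.one_apply_eq]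

end entries

end Cfsg.Agent.Helper25.PSUFus
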