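import Mathlib
import Cfsg.Agent.Lib.Helper25.PSUFus14

/-!
# Root elements as embedded small matrices; torus elements
-/

set_option autoImplicit false
set_option linter.style.haveILetI false
set_option linter.unusedSectionVars false
set_option linter.unusedSimpArgs false

namespace Cfsg.Agent.Helper25.PSUFus

open Matrix Cfsg.Agent.Helper25.PSLFus

variable {K : Type*} [Field K] [Fintype K] (σ : K →+* K) {n : ℕ}

def phi4 (i j : Fin n) : Fin 4 → Fin n := ![i, j, Fin.rev j, Fin.rev i]
def phi2 (i : Fin n) : Fin 2 → Fin n := ![i, Fin.rev i]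
def phi3 (i d : Fin n) : Fin 3 → Fin n := ![i, d, Fin.rev i]

theorem phi4_inj {i j : Fin n} (hg : Gen i j) (h : i ≠ Fin.rev j) :
    Function.Injective (phi4 i j) := by
  have h1 : i ≠ j := hg.ne
  have h2 : i ≠ Fin.rev i := hg.hi
  have h3 : j ≠ Fin.rev j := hg.hj
  have h4 : j ≠ Fin.rev i := fun e => h (by rw [e, Fin.rev_rev])
  have h5 : Fin.rev j ≠ Fin.rev i := rev_ne_rev h1.symm
  intro a b hab
  fin_cases a <;> fin_cases b <;> simp [phi4] at hab ⊢ <;>
    first
    | exact absurd hab h1 | exact absurd hab.symm h1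
    | exact absurd hab h2 | exact absurd hab.symm h2
    | exact absurd hab h3 | exact absurd hab.symm h3
    | exact absurd hab h4 | exact absurd hab.symm h4
    | exact absurd hab h5 | exact absurd hab.symm h5
    | exact absurd hab h | exact absurd hab.symm h

theorem phi2_inj {i : Fin n} (hi : i ≠ Fin.rev i) : Function.Injective (phi2 i) := by
  intro a b hab
  fin_cases a <;> fin_cases b <;> simp [phi2] at hab ⊢ <;>
    first
    | exact absurd hab hi | exact absurd hab.symm hi

theorem phi3_inj {i d : Fin n} (hd : Fin.rev d = d) (hi : i ≠ d) :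
    Function.Injective (phi3 i d) := by
  have h1 : i ≠ Fin.rev i := fun h => hi (eq_of_rev_eq_self h.symm hd)
  have h2 : d ≠ Fin.rev i := fun h => hi (by rw [← Fin.rev_rev i, ← h, hd])
  intro a b hab
  fin_cases a <;> fin_cases b <;> simp [phi3] at hab ⊢ <;>
    first
    | exact absurd hab hi | exact absurd hab.symm hi
    | exact absurd hab h1 | exact absurd hab.symm h1
    | exact absurd hab h2 | exact absurd hab.symm h2

theorem xrM_eq_emb (i j : Fin n) (c : K) : xrM σ i j c = emb (phi4 i j) (X4 c (σ c)) := by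
  have e : X4 c (σ c) = 1 + (single 0 1 c - single 2 3 (σ c)) := by
    unfold X4; rw [add_sub_assoc]
  rw [e, emb_one_add, embN_sub, embN_single, embN_single, single_eq_smul, single_eq_smul]
  unfold xrM
  rw [add_sub_assoc]
  rfl

theorem xrM_eq_emb' (i j : Fin n) (c : K) : xrM σ j i c = emb (phi4 i j) (Y4 c (σ c)) := by
  have e : Y4 c (σ c) = 1 + (single 1 0 c - single 3 2 (σ c)) := by
    unfold Y4; rw [add_sub_assoc]
  rw [e, emb_one_add, embN_sub, embN_single, embN_single, single_eq_smul, single_eq_smul]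
  unfold xrM
  rw [add_sub_assoc]
  rfl

theorem xlM_eq_emb (i : Fin n) (s : K) :
    (1 + s • Eu i (Fin.rev i) : Matrix (Fin n) (Fin n) K) = emb (phi2 i) (X2 s) := by
  unfold X2
  rw [emb_one_add, embN_single, single_eq_smul]
  rfl

theorem xlM_eq_emb' (i : Fin n) (s : K) :
    (1 + s • Eu (Fin.rev i) (Fin.rev (Fin.rev i)) : Matrix (Fin n) (Fin n) K) =
      emb (phi2 i) (Y2 s) := by
  unfold Y2
  rw [emb_one_add, embN_single, single_eq_smul, Fin.rev_rev]
  rfl

theorem xmM_eq_emb (i d : Fin n) (a b : K) : xmM σ d i a b = emb (phi3 i d) (X3 a (σ a) b) := by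
  have e : X3 a (σ a) b = 1 + (single 0 1 a - single 1 2 (σ a) + single 0 2 b) := by
    unfold X3; abel
  rw [e, emb_one_add, embN_add, embN_sub, embN_single, embN_single, embN_single,
    single_eq_smul, single_eq_smul, single_eq_smul]
  unfold xmM
  rw [add_sub_assoc, add_assoc]
  rfl

theorem xmM_eq_emb' (i d : Fin n) (a b : K) :
    xmM σ d (Fin.rev i) a b = emb (phi3 i d) (Y3 a (σ a) b) := by
  have e : Y3 a (σ a) b = 1 + (single 2 1 a - single 1 0 (σ a) + single 2 0 b) := by
    unfold Y3; abel
  rw [e, emb_one_add, embN_add, embN_sub, embN_single, embN_single, embN_single,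
    single_eq_smul, single_eq_smul, single_eq_smul]
  unfold xmM
  rw [add_sub_assoc, add_assoc, Fin.rev_rev]
  rfl

end Cfsg.Agent.Helper25.PSUFus
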