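import Mathlib
import Cfsg.Agent.Lib.Helper25.PSUFus15

/-!
# The torus elements of `GJ`
-/

set_option autoImplicit false
set_option linter.style.haveILetI false
set_option linter.unusedSectionVars false
set_option linter.unusedSimpArgs false

namespace Cfsg.Agent.Helper25.PSUFus

open Matrix Cfsg.Agent.Helper25.PSLFus

variable {K : Type*} [Field K] [Fintype K] (σ : K →+* K) {n : ℕ}

theorem D4_off (t t' : K) (a b : Fin 4) (h : a ≠ b) : D4 t t' a b = 0 := by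
  fin_cases a <;> fin_cases b <;>
    simp [D4, Matrix.add_apply, Matrix.one_apply, Matrix.single_apply] at h ⊢

theorem D4_zero (t t' : K) : D4 t t' 0 0 = t := by
  simp [D4, Matrix.add_apply, Matrix.one_apply, Matrix.single_apply]

theorem D2_off (x y : K) (a b : Fin 2) (h : a ≠ b) : D2 x y a b = 0 := by
  fin_cases a <;> fin_cases b <;>
    simp [D2, Matrix.add_apply, Matrix.one_apply, Matrix.single_apply] at h ⊢

theorem D2_zero (x y : K) : D2 x y 0 0 = x := by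
  simp [D2, Matrix.add_apply, Matrix.one_apply, Matrix.single_apply]

theorem D3_off (x y z : K) (a b : Fin 3) (h : a ≠ b) : D3 x y z a b = 0 := by
  fin_cases a <;> fin_cases b <;>
    simp [D3, Matrix.add_apply, Matrix.one_apply, Matrix.single_apply] at h ⊢

theorem D3_zero (x y z : K) : D3 x y z 0 0 = x := by
  simp [D3, Matrix.add_apply, Matrix.one_apply, Matrix.single_apply]

variable [hσ : Fact (∀ x, σ (σ x) = x)]

/-! ### the short-root torus -/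

/-- `h_{ij}(t)` as a product of root elements -/
def hK {i j : Fin n} (hg : Gen i j) (t : K) : GJ σ n :=
  xr σ hg t * xr σ hg.symm (-t⁻¹) * xr σ hg t *
    (xr σ hg (-1) * xr σ hg.symm 1 * xr σ hg (-1))

theorem hK_val {i j : Fin n} (hg : Gen i j) (h : i ≠ Fin.rev j) (t : K) (ht : t ≠ 0) :
    (hK σ hg t).1.1 = emb (phi4 i j) (D4 t (σ t)) := by
  have hφ := phi4_inj hg h
  have hσt : σ t ≠ 0 := fun h0 => ht (by rw [← hσ.out t, h0, map_zero])
  unfold hK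
  simp only [gj_val_mul, xr_val]
  simp only [xrM_eq_emb σ i j, xrM_eq_emb' σ i j]
  simp only [← emb_mul hφ]
  rw [map_neg, map_inv₀, map_neg, map_one, id4 t (σ t) ht hσt]

theorem hK_mem_BJ {i j : Fin n} (hg : Gen i j) (h : i ≠ Fin.rev j) (t : K) (ht : t ≠ 0) :
    hK σ hg t ∈ BJ σ n := by
  rw [mem_BJ, hK_val σ hg h t ht]
  exact emb_isUpper (phi4_inj hg h) _ (D4_off _ _)

theorem hK_diag {i j : Fin n} (hg : Gen i j) (h : i ≠ Fin.rev j) (t : K) (ht : t ≠ 0) :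
    (hK σ hg t).1.1 i i = t := by
  rw [hK_val σ hg h t ht]
  have := emb_apply_apply (phi4_inj hg h) (D4 t (σ t)) 0 0
  rw [D4_zero] at this
  exact this

theorem hK_diag_other {i j : Fin n} (hg : Gen i j) (h : i ≠ Fin.rev j) (t : K) (ht : t ≠ 0)
    (m : Fin n) (h1 : m ≠ i) (h2 : m ≠ j) (h3 : m ≠ Fin.rev j) (h4 : m ≠ Fin.rev i) :
    (hK σ hg t).1.1 m m = 1 := by
  rw [hK_val σ hg h t ht]
  apply emb_apply_self_of_not
  intro a
  fin_cases a
  · exact h1.symm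
  · exact h2.symm
  · exact h3.symm
  · exact h4.symm

theorem hK_mem {i j : Fin n} (hg : Gen i j) (t : K) (Hs : Subgroup (GJ σ n))
    (h1 : ∀ c, xr σ hg c ∈ Hs) (h2 : ∀ c, xr σ hg.symm c ∈ Hs) : hK σ hg t ∈ Hs :=
  Hs.mul_mem (Hs.mul_mem (Hs.mul_mem (h1 _) (h2 _)) (h1 _))
    (Hs.mul_mem (Hs.mul_mem (h1 _) (h2 _)) (h1 _))

/-! ### the long-root torus -/

theorem neg_inv_tz {s : K} (hs : s + σ s = 0) : -s⁻¹ + σ (-s⁻¹) = 0 := by
  have h1 : σ s = -s := by linear_combination hs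
  rw [map_neg, map_inv₀, h1, inv_neg]
  ring

theorem rev_ne_rev_rev {i : Fin n} (hi : i ≠ Fin.rev i) : Fin.rev i ≠ Fin.rev (Fin.rev i) := by
  rw [Fin.rev_rev]; exact hi.symm

/-- the monomial element of the long root `SL₂` -/
def wF (i : Fin n) (hi : i ≠ Fin.rev i) (s : K) (hs : s + σ s = 0) : GJ σ n :=
  xl σ i hi s hs * xl σ (Fin.rev i) (rev_ne_rev_rev hi) (-s⁻¹) (neg_inv_tz σ hs) * xl σ i hi s hs

theorem wF_val (i : Fin n) (hi : i ≠ Fin.rev i) (s : K) (hs : s + σ s = 0) :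
    (wF σ i hi s hs).1.1 = emb (phi2 i) (X2 s * Y2 (-s⁻¹) * X2 s) := by
  have hφ := phi2_inj hi
  unfold wF
  simp only [gj_val_mul, xl_val]
  rw [xlM_eq_emb, xlM_eq_emb', ← emb_mul hφ, ← emb_mul hφ]

/-- the long-root torus element -/
def hF (i : Fin n) (hi : i ≠ Fin.rev i) (s u : K) (hs : s + σ s = 0) (hu : u + σ u = 0) :
    GJ σ n := wF σ i hi s hs * wF σ i hi u hu

theorem hF_val (i : Fin n) (hi : i ≠ Fin.rev i) (s u : K) (hs : s + σ s = 0)
    (hu : u + σ u = 0) (hs0 : s ≠ 0) (hu0 : u ≠ 0) :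
    (hF σ i hi s u hs hu).1.1 = emb (phi2 i) (D2 (-(s * u⁻¹)) (-(u * s⁻¹))) := by
  have hφ := phi2_inj hi
  unfold hF
  rw [gj_val_mul, wF_val, wF_val, ← emb_mul hφ, id2 s u hs0 hu0]

theorem hF_mem_BJ (i : Fin n) (hi : i ≠ Fin.rev i) (s u : K) (hs : s + σ s = 0)
    (hu : u + σ u = 0) (hs0 : s ≠ 0) (hu0 : u ≠ 0) : hF σ i hi s u hs hu ∈ BJ σ n := by
  rw [mem_BJ, hF_val σ i hi s u hs hu hs0 hu0]
  exact emb_isUpper (phi2_inj hi) _ (D2_off _ _)

theorem hF_diag (i : Fin n) (hi : i ≠ Fin.rev i) (s u : K) (hs : s + σ s = 0)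
    (hu : u + σ u = 0) (hs0 : s ≠ 0) (hu0 : u ≠ 0) :
    (hF σ i hi s u hs hu).1.1 i i = -(s * u⁻¹) := by
  rw [hF_val σ i hi s u hs hu hs0 hu0]
  have := emb_apply_apply (phi2_inj hi) (D2 (-(s * u⁻¹)) (-(u * s⁻¹))) 0 0
  rw [D2_zero] at this
  exact this

theorem hF_diag_other (i : Fin n) (hi : i ≠ Fin.rev i) (s u : K) (hs : s + σ s = 0)
    (hu : u + σ u = 0) (hs0 : s ≠ 0) (hu0 : u ≠ 0) (m : Fin n) (h1 : m ≠ i)
    (h2 : m ≠ Fin.rev i) : (hF σ i hi s u hs hu).1.1 m m = 1 := by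
  rw [hF_val σ i hi s u hs hu hs0 hu0]
  apply emb_apply_self_of_not
  intro a
  fin_cases a
  · exact h1.symm
  · exact h2.symm

theorem hF_mem (i : Fin n) (hi : i ≠ Fin.rev i) (s u : K) (hs : s + σ s = 0)
    (hu : u + σ u = 0) (Hs : Subgroup (GJ σ n))
    (h1 : ∀ c hc, xl σ i hi c hc ∈ Hs)
    (h2 : ∀ c hc, xl σ (Fin.rev i) (rev_ne_rev_rev hi) c hc ∈ Hs) :
    hF σ i hi s u hs hu ∈ Hs :=
  Hs.mul_mem (Hs.mul_mem (Hs.mul_mem (h1 _ _) (h2 _ _)) (h1 _ _))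
    (Hs.mul_mem (Hs.mul_mem (h1 _ _) (h2 _ _)) (h1 _ _))

end Cfsg.Agent.Helper25.PSUFus
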