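import Mathlib
import Cfsg.Agent.Lib.Helper25.PSUFus16

/-!
# The torus elements through the middle index (odd `n`)
-/

set_option autoImplicit false
set_option linter.style.haveILetI false
set_option linter.unusedSectionVars false
set_option linter.unusedSimpArgs false

namespace Cfsg.Agent.Helper25.PSUFus

open Matrix Cfsg.Agent.Helper25.PSLFus

variable {K : Type*} [Field K] [Fintype K] (σ : K →+* K) {n : ℕ}
variable [hσ : Fact (∀ x, σ (σ x) = x)]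

theorem rev_ne_mid {i d : Fin n} (hd : Fin.rev d = d) (hi : i ≠ d) : Fin.rev i ≠ d :=
  fun h => hi (by rw [← Fin.rev_rev i, h, hd])

theorem sigma_ne_zero {b : K} (hb : b ≠ 0) : σ b ≠ 0 :=
  fun h0 => hb (by rw [← hσ.out b, h0, map_zero])

theorem nM_param1 {a b : K} (hab : b + σ b + a * σ a = 0) (hb : b ≠ 0) :
    (σ b)⁻¹ + σ ((σ b)⁻¹) + (-(a * b⁻¹)) * σ (-(a * b⁻¹)) = 0 := by
  have hb' := sigma_ne_zero σ hb
  rw [map_inv₀, hσ.out, map_neg, map_mul, map_inv₀]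
  field_simp
  linear_combination hab

theorem nM_param2 {a b : K} (hab : b + σ b + a * σ a = 0) (hb : b ≠ 0) :
    b + σ b + (a * σ b * b⁻¹) * σ (a * σ b * b⁻¹) = 0 := by
  have hb' := sigma_ne_zero σ hb
  rw [map_mul, map_mul, map_inv₀, hσ.out]
  field_simp
  linear_combination hab

/-- the monomial element of the `SU₃` through the middle -/
def nM {d i : Fin n} (hd : Fin.rev d = d) (hi : i ≠ d) (a b : K)
    (hab : b + σ b + a * σ a = 0) (hb : b ≠ 0) : GJ σ n :=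
  xm σ hd hi a b hab *
    xm σ hd (rev_ne_mid hd hi) (-(a * b⁻¹)) (σ b)⁻¹ (nM_param1 σ hab hb) *
    xm σ hd hi (a * σ b * b⁻¹) b (nM_param2 σ hab hb)

theorem nM_val {d i : Fin n} (hd : Fin.rev d = d) (hi : i ≠ d) (a b : K)
    (hab : b + σ b + a * σ a = 0) (hb : b ≠ 0) :
    (nM σ hd hi a b hab hb).1.1 = emb (phi3 i d) (W3 b (σ b)) := by
  have hφ := phi3_inj hd hi
  have hb' := sigma_ne_zero σ hb
  unfold nM
  simp only [gj_val_mul, xm_val]
  rw [xmM_eq_emb σ i d, xmM_eq_emb' σ i d, xmM_eq_emb σ i d, ← emb_mul hφ, ← emb_mul hφ]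
  have e1 : σ (-(a * b⁻¹)) = -(σ a * (σ b)⁻¹) := by rw [map_neg, map_mul, map_inv₀]
  have e2 : σ (a * σ b * b⁻¹) = σ a * b * (σ b)⁻¹ := by
    rw [map_mul, map_mul, map_inv₀, hσ.out]
  rw [e1, e2, id3a a (σ a) b (σ b) hb hb' hab]

/-- the middle torus element -/
def hM {d i : Fin n} (hd : Fin.rev d = d) (hi : i ≠ d) (a b s : K)
    (hab : b + σ b + a * σ a = 0) (hb : b ≠ 0) (hs : s + σ s + 0 * σ 0 = 0) (hs0 : s ≠ 0) :
    GJ σ n :=
  nM σ hd hi a b hab hb * nM σ hd hi 0 s hs hs0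

theorem hM_val {d i : Fin n} (hd : Fin.rev d = d) (hi : i ≠ d) (a b s : K)
    (hab : b + σ b + a * σ a = 0) (hb : b ≠ 0) (hs : s + σ s + 0 * σ 0 = 0) (hs0 : s ≠ 0) :
    (hM σ hd hi a b s hab hb hs hs0).1.1 =
      emb (phi3 i d) (D3 (b * (σ s)⁻¹) (σ b * b⁻¹ * (σ s * s⁻¹)) (s * (σ b)⁻¹)) := by
  have hφ := phi3_inj hd hi
  unfold hM
  rw [gj_val_mul, nM_val, nM_val, ← emb_mul hφ,
    id3b b (σ b) s (σ s) hb (sigma_ne_zero σ hb) hs0 (sigma_ne_zero σ hs0)]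

theorem hM_mem {d i : Fin n} (hd : Fin.rev d = d) (hi : i ≠ d) (a b s : K)
    (hab : b + σ b + a * σ a = 0) (hb : b ≠ 0) (hs : s + σ s + 0 * σ 0 = 0) (hs0 : s ≠ 0)
    (Hs : Subgroup (GJ σ n))
    (h1 : ∀ a b hab, xm σ hd hi a b hab ∈ Hs)
    (h2 : ∀ a b hab, xm σ hd (rev_ne_mid hd hi) a b hab ∈ Hs) :
    hM σ hd hi a b s hab hb hs hs0 ∈ Hs :=
  Hs.mul_mem (Hs.mul_mem (Hs.mul_mem (h1 _ _ _) (h2 _ _ _)) (h1 _ _ _))
    (Hs.mul_mem (Hs.mul_mem (h1 _ _ _) (h2 _ _ _)) (h1 _ _ _))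

/-- existence of a middle torus element with prescribed entry at `i` -/
theorem exists_mid_torus (H : FH σ) {d i : Fin n} (hd : Fin.rev d = d) (hi : i ≠ d) (t : K)
    (ht : t ≠ 0) :
    ∃ h : GJ σ n, h ∈ BJ σ n ∧ h.1.1 i i = t ∧
      (∀ m : Fin n, m ≠ i → m ≠ d → m ≠ Fin.rev i → h.1.1 m m = 1) ∧
      ∀ Hs : Subgroup (GJ σ n), (∀ a b hab, xm σ hd hi a b hab ∈ Hs) →
        (∀ a b hab, xm σ hd (rev_ne_mid hd hi) a b hab ∈ Hs) → h ∈ Hs := by
  obtain ⟨s, hs0, hs⟩ := H.exists_tz σ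
  have hs' : s + σ s + 0 * σ 0 = 0 := by rw [zero_mul, add_zero]; exact hs
  have hσs : σ s = -s := by linear_combination hs
  set b : K := -t * s with hb_def
  have hb : b ≠ 0 := mul_ne_zero (neg_ne_zero.mpr ht) hs0
  obtain ⟨a, hab⟩ : ∃ a : K, b + σ b + a * σ a = 0 := by
    by_cases hc : b + σ b = 0
    · exact ⟨0, by rw [zero_mul, add_zero]; exact hc⟩
    · have hfix : σ (-(b + σ b)) = -(b + σ b) := by
        rw [map_neg, map_add, hσ.out]; ring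
      obtain ⟨l, _, hl⟩ := H.norm (-(b + σ b)) (neg_ne_zero.mpr hc) hfix
      exact ⟨l, by rw [hl]; ring⟩
  have hφ := phi3_inj hd hi
  refine ⟨hM σ hd hi a b s hab hb hs' hs0, ?_, ?_, ?_, ?_⟩
  · rw [mem_BJ, hM_val]
    exact emb_isUpper hφ _ (D3_off _ _ _)
  · rw [hM_val]
    have := emb_apply_apply hφ (D3 (b * (σ s)⁻¹) (σ b * b⁻¹ * (σ s * s⁻¹)) (s * (σ b)⁻¹)) 0 0
    rw [D3_zero] at this
    refine this.trans ?_
    rw [hσs, hb_def]
    field_simp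
  · intro m h1 h2 h3
    rw [hM_val]
    apply emb_apply_self_of_not
    intro x
    fin_cases x
    · exact h1.symm
    · exact h2.symm
    · exact h3.symm
  · intro Hs h1 h2
    exact hM_mem σ hd hi a b s hab hb hs' hs0 Hs h1 h2

/-! ### `p`-power of the middle root elements -/

theorem pow_eq_one_of_cube (p : ℕ) [Fact p.Prime] [CharP K p] [NeZero n] (g : GJ σ n)
    (hg : (g.1.1 - 1) ^ 3 = 0) : g ^ p ^ 2 = 1 := by
  apply gj_ext
  rw [gj_val_pow, gj_val_one]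
  haveI : Nonempty (Fin n) := ⟨⟨0, Nat.pos_of_ne_zero (NeZero.ne n)⟩⟩
  have e : g.1.1 = 1 + (g.1.1 - 1) := by abel
  have e2 := add_pow_char_pow_of_commute p 2 (Commute.one_left (g.1.1 - 1))
  rw [e, e2, one_pow]
  have hp : 3 ≤ p ^ 2 := by
    have := (Fact.out : p.Prime).two_le
    nlinarith
  rw [← Nat.sub_add_cancel hp, pow_add, hg, mul_zero, add_zero]

theorem xm_pow {d i : Fin n} (p : ℕ) [Fact p.Prime] [CharP K p] [NeZero n]
    (hd : Fin.rev d = d) (hi : i ≠ d) (a b : K)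
    (hab : b + σ b + a * σ a = 0) : (xm σ hd hi a b hab) ^ p ^ 2 = 1 := by
  apply pow_eq_one_of_cube
  rw [xm_val]
  have e : xmM σ d i a b - 1 = a • Eu i d - σ a • Eu d (Fin.rev i) + b • Eu i (Fin.rev i) := by
    unfold xmM; abel
  rw [e]
  have h1 : Fin.rev i ≠ i := fun h => hi (eq_of_rev_eq_self h hd)
  have h2 : Fin.rev i ≠ d := rev_ne_mid hd hi
  have h3 : d ≠ i := hi.symm
  rw [pow_succ, pow_two]
  simp only [mul_add, add_mul, mul_sub, sub_mul, Matrix.smul_mul, Matrix.mul_smul,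
    Eu_mul_ne h1, Eu_mul_ne h2, Eu_mul_ne h3, Eu_mul_same, smul_zero, smul_smul, sub_zero,
    add_zero, zero_sub, zero_add, neg_zero, Matrix.zero_mul, Matrix.mul_zero, Matrix.neg_mul,
    Matrix.mul_neg]

end Cfsg.Agent.Helper25.PSUFus
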