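import Mathlib
import Cfsg.Agent.Lib.Helper25.PSUFus17
import Cfsg.Agent.Lib.Helper25.FusionSimpCrit3

/-!
# The Borel subgroup of `GJ` is generated by good elements
-/

set_option autoImplicit false
set_option linter.style.haveILetI false
set_option linter.unusedSectionVars false
set_option linter.unusedSimpArgs false

namespace Cfsg.Agent.Helper25.PSUFus

open Matrix Cfsg.Agent.Helper25.PSLFus Cfsg.Agent.Helper25

variable {K : Type*} [Field K] [Fintype K] (σ : K →+* K) {n : ℕ}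
variable [hσ : Fact (∀ x, σ (σ x) = x)]

theorem sigma_eq_one {x : K} (h : σ x = 1) : x = 1 := by
  rw [← hσ.out x, h, map_one]

theorem BJ_diag_rev {g : GJ σ n} (hg : g ∈ BJ σ n) (k : Fin n) :
    σ (g.1.1 (Fin.rev k) (Fin.rev k)) * g.1.1 k k = 1 := by
  have hg' : IsUpper g.1.1 := (mem_BJ σ).mp hg
  have h1 : IsUpper (adj σ g.1.1) :=
    fil_bval_zero_iff.mp (Fil.adj σ (bval_symm n) (fil_bval_zero_iff.mpr hg'))
  have h2 := h1.mul_diag hg' k
  rw [GJ_adj_mul σ g, Matrix.one_apply_eq, adj_apply] at h2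
  exact h2.symm

theorem BJ_diag_ne_zero {g : GJ σ n} (hg : g ∈ BJ σ n) (k : Fin n) : g.1.1 k k ≠ 0 := by
  intro h
  have := BJ_diag_rev σ hg k
  rw [h, mul_zero] at this
  exact zero_ne_one this

/-- diagonal entries of `h⁻¹ g` for upper triangular `h`, `g` -/
theorem inv_mul_diag_J {h g : GJ σ n} (hh : h ∈ BJ σ n) (hg : g ∈ BJ σ n) (m : Fin n) :
    (h⁻¹ * g).1.1 m m = (h.1.1 m m)⁻¹ * g.1.1 m m := by
  have hh' : IsUpper h.1.1 := (mem_BJ σ).mp hh
  have hi : IsUpper (h⁻¹).1.1 := (mem_BJ σ).mp ((BJ σ n).inv_mem hh)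
  rw [gj_val_mul, hi.mul_diag ((mem_BJ σ).mp hg)]
  have h1 := hi.mul_diag hh' m
  rw [← gj_val_mul, inv_mul_cancel, gj_val_one, Matrix.one_apply_eq] at h1
  have hne : h.1.1 m m ≠ 0 := BJ_diag_ne_zero σ hh m
  have : (h⁻¹).1.1 m m = (h.1.1 m m)⁻¹ := by
    field_simp
    exact h1.symm
  rw [this]

/-- an element of the Borel subgroup with trivial upper diagonal entries is unipotent -/
theorem mem_UJ_of_upper_diag {g : GJ σ n} (hg : g ∈ BJ σ n)
    (h : ∀ m : Fin n, m < Fin.rev m → g.1.1 m m = 1) : g ∈ UJ σ n := by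
  have hg' : IsUpper g.1.1 := (mem_BJ σ).mp hg
  have hlow : ∀ m : Fin n, Fin.rev m < m → g.1.1 m m = 1 := by
    intro m hm
    have h1 := BJ_diag_rev σ hg (Fin.rev m)
    rw [Fin.rev_rev, h (Fin.rev m) (by rw [Fin.rev_rev]; exact hm), mul_one] at h1
    exact sigma_eq_one σ h1
  rw [mem_UJ]
  refine ⟨hg', fun m => ?_⟩
  rcases lt_trichotomy m (Fin.rev m) with hm | hm | hm
  · exact h m hm
  · -- the middle entry is the determinant
    have hdet := det_eq_prod_diag ((mem_BJ_iff σ).mp hg)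
    rw [Finset.prod_eq_single m] at hdet
    · exact hdet
    · intro k _ hk
      rcases lt_trichotomy k (Fin.rev k) with hk' | hk' | hk'
      · exact h k hk'
      · exact absurd (eq_of_rev_eq_self hk'.symm hm.symm) hk
      · exact hlow k hk'
    · intro h'; exact absurd (Finset.mem_univ _) h'
  · exact hlow m hm

section good

variable (H : FH σ) (p : ℕ) [Fact p.Prime] [CharP K p]

include H in
theorem goodZ_of_par (a : ℕ) (ha1 : 1 ≤ a) (ha : 2 * a ≤ n) {x : GJ σ n} (hxB : x ∈ BJ σ n)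
    (hx : x ∈ Subgroup.closure {y : GJ σ n | y ∈ Par σ (bl n a) (bl_symm n a ha) ∧
      ∃ k : ℕ, y ^ p ^ k = 1}) : x ∈ SimpCrit.GoodZ p (UJ σ n) := by
  right
  refine ⟨BJ_le_normalizer_UJ σ hxB, Rad σ (bl n a) (bl_symm n a ha),
    Rad_le_UJ σ _ (bl_mono n a), ?_, ?_⟩
  · intro g hgc
    exact centralizer_Rad_bl σ H a ha1 ha g hgc
  · refine Subgroup.closure_mono ?_ hx
    intro y hy
    exact ⟨Par_le_normalizer_Rad σ _ _ hy.1, hy.2⟩

end good

end Cfsg.Agent.Helper25.PSUFus
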