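import Mathlib
import Cfsg.Agent.Lib.Helper25.PSUFus18

/-!
# `AutGen` for `GJ`: the Borel subgroup lies in the closure of the good elements
-/

set_option autoImplicit false
set_option linter.style.haveILetI false
set_option linter.unusedSectionVars false
set_option linter.unusedSimpArgs false

namespace Cfsg.Agent.Helper25.PSUFus

open Matrix Cfsg.Agent.Helper25.PSLFus Cfsg.Agent.Helper25

variable {K : Type*} [Field K] [Fintype K] (σ : K →+* K) {n : ℕ}
variable [hσ : Fact (∀ x, σ (σ x) = x)]

theorem bl_one_interior (m : Fin n) (h1 : 1 ≤ m.val) (h2 : m.val + 2 ≤ n) : bl n 1 m = 1 := by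
  unfold bl; rw [if_pos h1, if_neg (by omega)]

theorem bl_two_low (hn : 4 ≤ n) (m : Fin n) (h : m.val ≤ 1) : bl n 2 m = 0 := by
  unfold bl; rw [if_neg (by omega), if_neg (by omega)]

theorem upper_ne_rev_upper {a b : Fin n} (ha : a < Fin.rev a) (hb : b < Fin.rev b) :
    a ≠ Fin.rev b := by
  intro h
  rw [h, Fin.rev_rev] at ha
  exact lt_asymm ha hb

variable (H : FH σ) (p : ℕ) [Fact p.Prime] [CharP K p]

include H in
theorem BJ_le_closure_goodZ (hn : 4 ≤ n) :
    BJ σ n ≤ Subgroup.closure (SimpCrit.GoodZ p (UJ σ n)) := by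
  classical
  haveI : NeZero n := ⟨by omega⟩
  set Hs := Subgroup.closure (SimpCrit.GoodZ p (UJ σ n)) with hHs
  have hUH : UJ σ n ≤ Hs := fun x hx => Subgroup.subset_closure (Or.inl hx)
  obtain ⟨i1, hi1⟩ : ∃ i1 : Fin n, i1.val = 1 := ⟨⟨1, by omega⟩, rfl⟩
  have h1U : i1 < Fin.rev i1 := by rw [Fin.lt_def, Fin.val_rev]; omega
  have hi1r : i1 ≠ Fin.rev i1 := ne_of_lt h1U
  have hb1 : bl n 1 i1 = 1 := bl_one_interior i1 (by omega) (by omega)
  have hb1r : bl n 1 (Fin.rev i1) = 1 :=
    bl_one_interior _ (by rw [Fin.val_rev]; omega) (by rw [Fin.val_rev]; omega)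
  -- short root torus elements
  have hKmem : ∀ (k : Fin n) (_ : k < Fin.rev k) (_ : k ≠ i1) (hg : Gen k i1) (t : K)
      (_ : t ≠ 0), hK σ hg t ∈ Hs := by
    intro k hk hk1 hg t ht
    have hkr : k ≠ Fin.rev i1 := upper_ne_rev_upper hk h1U
    apply Subgroup.subset_closure
    by_cases hk0 : k.val = 0
    · have hb : bl n 2 k = bl n 2 i1 := by
        rw [bl_two_low hn k (by omega), bl_two_low hn i1 (by omega)]
      apply goodZ_of_par σ H p 2 (by norm_num) (by omega) (hK_mem_BJ σ hg hkr t ht)
      apply hK_mem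
      · intro c
        exact Subgroup.subset_closure ⟨xr_mem_Par σ _ hg (le_of_eq hb) c, 1, by
          rw [pow_one]; exact xr_pow_char σ p hg c⟩
      · intro c
        exact Subgroup.subset_closure ⟨xr_mem_Par σ _ hg.symm (le_of_eq hb.symm) c, 1, by
          rw [pow_one]; exact xr_pow_char σ p hg.symm c⟩
    · have hkv : 2 ≤ k.val := by
        have : k.val ≠ 1 := fun h => hk1 (Fin.ext (by rw [h, hi1]))
        omega
      have hkn : k.val + 2 ≤ n := by
        have := Fin.lt_def.mp hk
        rw [Fin.val_rev] at this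
        omega
      have hb : bl n 1 k = bl n 1 i1 := by
        rw [bl_one_interior k (by omega) hkn, hb1]
      apply goodZ_of_par σ H p 1 le_rfl (by omega) (hK_mem_BJ σ hg hkr t ht)
      apply hK_mem
      · intro c
        exact Subgroup.subset_closure ⟨xr_mem_Par σ _ hg (le_of_eq hb) c, 1, by
          rw [pow_one]; exact xr_pow_char σ p hg c⟩
      · intro c
        exact Subgroup.subset_closure ⟨xr_mem_Par σ _ hg.symm (le_of_eq hb.symm) c, 1, by
          rw [pow_one]; exact xr_pow_char σ p hg.symm c⟩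
  -- the base case: only the entry at `i1` may be nontrivial
  have base : ∀ g : GJ σ n, g ∈ BJ σ n →
      (∀ k : Fin n, k < Fin.rev k → k ≠ i1 → g.1.1 k k = 1) → g ∈ Hs := by
    intro g hg hbad
    have ht : g.1.1 i1 i1 ≠ 0 := BJ_diag_ne_zero σ hg i1
    set t := g.1.1 i1 i1 with ht_def
    -- it suffices to find `h ∈ Hs ∩ BJ` with the right diagonal entries
    have finish : ∀ h : GJ σ n, h ∈ Hs → h ∈ BJ σ n → h.1.1 i1 i1 = t →
        (∀ m : Fin n, m < Fin.rev m → m ≠ i1 → h.1.1 m m = 1) → g ∈ Hs := by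
      intro h hhH hhB hh1 hhm
      have hg' : h⁻¹ * g ∈ UJ σ n := by
        apply mem_UJ_of_upper_diag σ ((BJ σ n).mul_mem ((BJ σ n).inv_mem hhB) hg)
        intro m hm
        rw [inv_mul_diag_J σ hhB hg]
        by_cases hm1 : m = i1
        · subst hm1
          rw [hh1]
          exact inv_mul_cancel₀ ht
        · rw [hhm m hm hm1, inv_one, one_mul, hbad m hm hm1]
      have := Hs.mul_mem hhH (hUH hg')
      rwa [mul_inv_cancel_left] at this
    by_cases hmid : ∃ d : Fin n, Fin.rev d = d
    · obtain ⟨d, hd⟩ := hmid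
      have hi1d : i1 ≠ d := fun h => by rw [h, hd] at h1U; exact lt_irrefl _ h1U
      have hdv : d.val + d.val + 1 = n := by
        have h1 := congrArg Fin.val hd
        rw [Fin.val_rev] at h1
        have := d.2
        omega
      have hbd : bl n 1 d = 1 := bl_one_interior d (by omega) (by omega)
      obtain ⟨h, hhB, hh1, hhother, hhmem⟩ := exists_mid_torus σ H hd hi1d t ht
      refine finish h ?_ hhB hh1 ?_
      · apply Subgroup.subset_closure
        apply goodZ_of_par σ H p 1 le_rfl (by omega) hhB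
        apply hhmem
        · intro a b hab
          exact Subgroup.subset_closure ⟨xm_mem_Par σ _ hd hi1d (by rw [hb1, hbd]) a b hab, 2,
            xm_pow σ p hd hi1d a b hab⟩
        · intro a b hab
          exact Subgroup.subset_closure ⟨xm_mem_Par σ _ hd (rev_ne_mid hd hi1d)
            (by rw [hb1r, hbd]) a b hab, 2, xm_pow σ p hd (rev_ne_mid hd hi1d) a b hab⟩
      · intro m hm hm1
        apply hhother m hm1
        · intro h; rw [h, hd] at hm; exact lt_irrefl _ hm
        · exact upper_ne_rev_upper hm h1U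
    · push_neg at hmid
      -- all entries off `{i1, rev i1}` are trivial
      have hother : ∀ m : Fin n, m ≠ i1 → m ≠ Fin.rev i1 → g.1.1 m m = 1 := by
        intro m hm1 hmr
        rcases lt_trichotomy m (Fin.rev m) with hm | hm | hm
        · exact hbad m hm hm1
        · exact absurd hm.symm (hmid m)
        · have hu : Fin.rev m < Fin.rev (Fin.rev m) := by rw [Fin.rev_rev]; exact hm
          have hne : Fin.rev m ≠ i1 := fun h => hmr (by rw [← h, Fin.rev_rev])
          have h1 := BJ_diag_rev σ hg (Fin.rev m)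
          rw [Fin.rev_rev, hbad (Fin.rev m) hu hne, mul_one] at h1
          exact sigma_eq_one σ h1
      have hdet := det_eq_prod_diag ((mem_BJ_iff σ).mp hg)
      rw [Finset.prod_eq_mul i1 (Fin.rev i1) hi1r (fun c _ hc => hother c hc.1 hc.2)
        (fun h => absurd (Finset.mem_univ _) h) (fun h => absurd (Finset.mem_univ _) h)] at hdet
      have hrev := BJ_diag_rev σ hg i1
      have hσt : σ t = t := by
        have h2 : (g.1.1 (Fin.rev i1) (Fin.rev i1)) = t⁻¹ := by
          rw [← ht_def] at hdet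
          exact eq_inv_of_mul_eq_one_right hdet
        rw [h2, map_inv₀, ← ht_def] at hrev
        have hσt0 : σ t ≠ 0 := sigma_ne_zero σ ht
        field_simp at hrev
        exact hrev.symm
      obtain ⟨s₀, hs₀0, hs₀⟩ := H.exists_tz σ
      have hs : t * s₀ + σ (t * s₀) = 0 := by
        rw [map_mul, hσt, ← mul_add, hs₀, mul_zero]
      have hu : -s₀ + σ (-s₀) = 0 := by
        rw [map_neg]; linear_combination -hs₀
      have hs0 : t * s₀ ≠ 0 := mul_ne_zero ht hs₀0
      have hu0 : -s₀ ≠ 0 := neg_ne_zero.mpr hs₀0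
      refine finish (hF σ i1 hi1r (t * s₀) (-s₀) hs hu) ?_
        (hF_mem_BJ σ i1 hi1r _ _ hs hu hs0 hu0) ?_ ?_
      · apply Subgroup.subset_closure
        apply goodZ_of_par σ H p 1 le_rfl (by omega) (hF_mem_BJ σ i1 hi1r _ _ hs hu hs0 hu0)
        apply hF_mem
        · intro c hc
          exact Subgroup.subset_closure ⟨xl_mem_Par σ _ hi1r (by rw [hb1, hb1r]) c hc, 1, by
            rw [pow_one]; exact xl_pow_char σ p i1 hi1r c hc⟩
        · intro c hc
          exact Subgroup.subset_closure ⟨xl_mem_Par σ _ (rev_ne_rev_rev hi1r)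
            (by rw [Fin.rev_rev, hb1, hb1r]) c hc, 1, by
            rw [pow_one]; exact xl_pow_char σ p _ _ c hc⟩
      · rw [hF_diag σ i1 hi1r _ _ hs hu hs0 hu0]
        field_simp
      · intro m hm hm1
        exact hF_diag_other σ i1 hi1r _ _ hs hu hs0 hu0 m hm1 (upper_ne_rev_upper hm h1U)
  -- the induction
  have key : ∀ (N : ℕ) (g : GJ σ n), g ∈ BJ σ n →
      (Finset.univ.filter (fun k : Fin n => k < Fin.rev k ∧ k ≠ i1 ∧ g.1.1 k k ≠ 1)).card ≤ N →
      g ∈ Hs := by
    intro N
    induction N with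
    | zero =>
      intro g hg hcard
      apply base g hg
      intro k hk hk1
      by_contra hne
      have hmem : k ∈ Finset.univ.filter
          (fun k : Fin n => k < Fin.rev k ∧ k ≠ i1 ∧ g.1.1 k k ≠ 1) :=
        Finset.mem_filter.mpr ⟨Finset.mem_univ _, hk, hk1, hne⟩
      rw [Finset.card_eq_zero.mp (Nat.le_zero.mp hcard)] at hmem
      exact absurd hmem (Finset.notMem_empty _)
    | succ N ih =>
      intro g hg hcard
      by_cases hex : ∃ k : Fin n, k < Fin.rev k ∧ k ≠ i1 ∧ g.1.1 k k ≠ 1
      · obtain ⟨k, hk, hk1, hne⟩ := hex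
        have ht : g.1.1 k k ≠ 0 := BJ_diag_ne_zero σ hg k
        set t := g.1.1 k k with ht_def
        have hgen : Gen k i1 := ⟨hk1, ne_of_lt hk, hi1r⟩
        have hkr : k ≠ Fin.rev i1 := upper_ne_rev_upper hk h1U
        have hhB := hK_mem_BJ σ hgen hkr t ht
        have hhH := hKmem k hk hk1 hgen t ht
        have hg'B : (hK σ hgen t)⁻¹ * g ∈ BJ σ n :=
          (BJ σ n).mul_mem ((BJ σ n).inv_mem hhB) hg
        have hkmem : k ∈ Finset.univ.filter
            (fun k : Fin n => k < Fin.rev k ∧ k ≠ i1 ∧ g.1.1 k k ≠ 1) :=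
          Finset.mem_filter.mpr ⟨Finset.mem_univ _, hk, hk1, hne⟩
        have hsub : Finset.univ.filter (fun m : Fin n => m < Fin.rev m ∧ m ≠ i1 ∧
            ((hK σ hgen t)⁻¹ * g).1.1 m m ≠ 1) ⊆
            (Finset.univ.filter
              (fun k : Fin n => k < Fin.rev k ∧ k ≠ i1 ∧ g.1.1 k k ≠ 1)).erase k := by
          intro m hm
          rw [Finset.mem_filter] at hm
          obtain ⟨_, hmU, hm1, hmne⟩ := hm
          rw [inv_mul_diag_J σ hhB hg] at hmne
          have hmk : m ≠ k := by
            rintro rfl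
            apply hmne
            rw [hK_diag σ hgen hkr t ht]
            exact inv_mul_cancel₀ ht
          have hmr1 : m ≠ Fin.rev i1 := upper_ne_rev_upper hmU h1U
          have hmrk : m ≠ Fin.rev k := upper_ne_rev_upper hmU hk
          rw [hK_diag_other σ hgen hkr t ht m hmk hm1 hmr1 hmrk, inv_one, one_mul] at hmne
          exact Finset.mem_erase.mpr ⟨hmk, Finset.mem_filter.mpr ⟨Finset.mem_univ _, hmU, hm1, hmne⟩⟩
        have hc := Finset.card_le_card hsub
        rw [Finset.card_erase_of_mem hkmem] at hc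
        have := ih _ hg'B (by omega)
        have := Hs.mul_mem hhH this
        rwa [mul_inv_cancel_left] at this
      · push_neg at hex
        exact base g hg (fun k hk hk1 => hex k hk hk1)
  intro g hg
  exact key _ g hg le_rfl

end Cfsg.Agent.Helper25.PSUFus
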