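import Mathlib
import Cfsg.Agent.Lib.Helper25.PSUFus19
import Cfsg.Agent.Lib.Helper11.Unitary2

/-!
# Conjugating the standard unitary group to the Witt-basis model `GJ`
-/

set_option autoImplicit false
set_option linter.style.haveILetI false
set_option linter.unusedSectionVars false
set_option linter.unusedSimpArgs false

namespace Cfsg.Agent.Helper25.PSUFus

open Matrix Cfsg.Agent.Helper25.PSLFus Cfsg.Agent.Helper11

variable {K : Type*} [Field K] [Fintype K] (σ : K →+* K) {n : ℕ}

/-- adjoint for the standard hermitian form -/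
def adjI (M : Matrix (Fin n) (Fin n) K) : Matrix (Fin n) (Fin n) K := (M.map σ)ᵀ

theorem adjI_apply (M : Matrix (Fin n) (Fin n) K) (i j : Fin n) : adjI σ M i j = σ (M j i) := rfl

theorem adjI_mul (M N : Matrix (Fin n) (Fin n) K) : adjI σ (M * N) = adjI σ N * adjI σ M := by
  unfold adjI
  rw [Matrix.map_mul, Matrix.transpose_mul]

theorem adjI_one : adjI σ (1 : Matrix (Fin n) (Fin n) K) = 1 := by
  ext i j
  rw [adjI_apply, Matrix.one_apply, Matrix.one_apply]
  by_cases h : i = j
  · subst h; simp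
  · rw [if_neg h, if_neg (Ne.symm h), map_zero]

/-- the antidiagonal permutation matrix -/
def Jm (K : Type*) [Field K] (n : ℕ) : Matrix (Fin n) (Fin n) K :=
  Matrix.of fun i j => if j = Fin.rev i then 1 else 0

theorem Jm_apply (i j : Fin n) : Jm K n i j = if j = Fin.rev i then 1 else 0 := rfl

theorem Jm_mul_apply (A : Matrix (Fin n) (Fin n) K) (i j : Fin n) :
    (Jm K n * A) i j = A (Fin.rev i) j := by
  rw [Matrix.mul_apply, Finset.sum_eq_single (Fin.rev i)]
  · rw [Jm_apply, if_pos rfl, one_mul]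
  · intro k _ hk
    rw [Jm_apply, if_neg hk, zero_mul]
  · intro h; exact absurd (Finset.mem_univ _) h

theorem mul_Jm_apply (A : Matrix (Fin n) (Fin n) K) (i j : Fin n) :
    (A * Jm K n) i j = A i (Fin.rev j) := by
  rw [Matrix.mul_apply, Finset.sum_eq_single (Fin.rev j)]
  · rw [Jm_apply, Fin.rev_rev, if_pos rfl, mul_one]
  · intro k _ hk
    have : j ≠ Fin.rev k := fun h => hk (by rw [h, Fin.rev_rev])
    rw [Jm_apply, if_neg this, mul_zero]
  · intro h; exact absurd (Finset.mem_univ _) h

theorem Jm_mul_Jm : Jm K n * Jm K n = 1 := by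
  ext i j
  rw [Jm_mul_apply, Jm_apply, Fin.rev_rev, Matrix.one_apply]
  by_cases h : i = j
  · subst h; simp
  · rw [if_neg h, if_neg (Ne.symm h)]

theorem adjI_Jm : adjI σ (Jm K n) = Jm K n := by
  ext i j
  rw [adjI_apply, Jm_apply, Jm_apply]
  by_cases h : j = Fin.rev i
  · have h' : i = Fin.rev j := by rw [h, Fin.rev_rev]
    rw [if_pos h, if_pos h', map_one]
  · have h' : ¬ i = Fin.rev j := fun h2 => h (by rw [h2, Fin.rev_rev])
    rw [if_neg h, if_neg h', map_zero]

theorem adj_eq (M : Matrix (Fin n) (Fin n) K) : adj σ M = Jm K n * adjI σ M * Jm K n := by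
  ext i j
  rw [mul_Jm_apply, Jm_mul_apply, adjI_apply, adj_apply]

variable [hσ : Fact (∀ x, σ (σ x) = x)]

theorem adjI_adjI (M : Matrix (Fin n) (Fin n) K) : adjI σ (adjI σ M) = M := by
  ext i j
  rw [adjI_apply, adjI_apply, hσ.out]

theorem isU_iff_adjI (g : Matrix (Fin n) (Fin n) K) : Herm.IsU σ g ↔ adjI σ g * g = 1 := by
  unfold Herm.IsU
  constructor
  · intro h
    have h1 := congrArg (adjI σ) h
    rw [adjI_mul, adjI_one] at h1
    have e1 : adjI σ (g.map σ) = gᵀ := by
      ext i j
      rw [adjI_apply, Matrix.map_apply, hσ.out, Matrix.transpose_apply]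
    have e2 : adjI σ gᵀ = g.map σ := by
      ext i j
      rw [adjI_apply, Matrix.transpose_apply, Matrix.map_apply]
    rw [e1, e2] at h1
    have h2 := congrArg Matrix.transpose h1
    rw [Matrix.transpose_mul, Matrix.transpose_transpose, Matrix.transpose_one] at h2
    exact h2
  · intro h
    have h2 := congrArg Matrix.transpose h
    rw [Matrix.transpose_mul, Matrix.transpose_one] at h2
    have h1 := congrArg (adjI σ) h2
    rw [adjI_mul, adjI_one] at h1
    have e1 : adjI σ gᵀ = g.map σ := by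
      ext i j
      rw [adjI_apply, Matrix.transpose_apply, Matrix.map_apply]
    have e2 : adjI σ (adjI σ g)ᵀ = gᵀ := by
      ext i j
      rw [adjI_apply, Matrix.transpose_apply, adjI_apply, hσ.out, Matrix.transpose_apply]
    rw [e1, e2] at h1
    exact h1

section conj

variable {P : Matrix (Fin n) (Fin n) K} (hP : adjI σ P * P = Jm K n)

/-- the inverse of the base change matrix -/
def Pinv (P : Matrix (Fin n) (Fin n) K) : Matrix (Fin n) (Fin n) K := Jm K n * adjI σ P

include hP in
theorem Pinv_mul : Pinv σ P * P = 1 := by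
  unfold Pinv
  rw [Matrix.mul_assoc, hP, Jm_mul_Jm]

include hP in
theorem mul_Pinv : P * Pinv σ P = 1 := _root_.mul_eq_one_comm.mp (Pinv_mul σ hP)

theorem adjI_Pinv : adjI σ (Pinv σ P) = P * Jm K n := by
  unfold Pinv
  rw [adjI_mul, adjI_adjI, adjI_Jm]

include hP in
theorem conj_mem_GJ (g : Matrix (Fin n) (Fin n) K) (hg : adjI σ g * g = 1) :
    adj σ (Pinv σ P * g * P) * (Pinv σ P * g * P) = 1 := by
  have h1 : adj σ (Pinv σ P * g * P) = Pinv σ P * adjI σ g * P := by
    rw [adj_eq, adjI_mul, adjI_mul, adjI_Pinv]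
    unfold Pinv
    calc Jm K n * (adjI σ P * (adjI σ g * (P * Jm K n))) * Jm K n
        = Jm K n * adjI σ P * adjI σ g * P * (Jm K n * Jm K n) := by
          simp only [Matrix.mul_assoc]
      _ = Jm K n * adjI σ P * adjI σ g * P := by rw [Jm_mul_Jm, Matrix.mul_one]
  rw [h1]
  calc Pinv σ P * adjI σ g * P * (Pinv σ P * g * P)
      = Pinv σ P * adjI σ g * (P * Pinv σ P) * g * P := by simp only [Matrix.mul_assoc]
    _ = Pinv σ P * (adjI σ g * g) * P := by
        rw [mul_Pinv σ hP, Matrix.mul_one]; simp only [Matrix.mul_assoc]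
    _ = 1 := by rw [hg, Matrix.mul_one, Pinv_mul σ hP]

include hP in
theorem conj_mem_U (h : Matrix (Fin n) (Fin n) K) (hh : adj σ h * h = 1) :
    adjI σ (P * h * Pinv σ P) * (P * h * Pinv σ P) = 1 := by
  rw [adj_eq] at hh
  have h1 : adjI σ (P * h * Pinv σ P) = P * Jm K n * adjI σ h * adjI σ P := by
    rw [adjI_mul, adjI_mul, adjI_Pinv]
    simp only [Matrix.mul_assoc]
  rw [h1]
  calc P * Jm K n * adjI σ h * adjI σ P * (P * h * Pinv σ P)
      = P * Jm K n * adjI σ h * (adjI σ P * P) * h * Pinv σ P := by simp only [Matrix.mul_assoc]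
    _ = P * (Jm K n * adjI σ h * Jm K n * h) * Pinv σ P := by
        rw [hP]; simp only [Matrix.mul_assoc]
    _ = 1 := by rw [hh, Matrix.mul_one, mul_Pinv σ hP]

end conj

end Cfsg.Agent.Helper25.PSUFus
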