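import Mathlib
import Cfsg.Agent.Lib.Helper25.PSUFus20

/-!
# A Witt basis for the standard hermitian form
-/

set_option autoImplicit false
set_option linter.style.haveILetI false
set_option linter.unusedSectionVars false
set_option linter.unusedSimpArgs false

namespace Cfsg.Agent.Helper25.PSUFus

open Matrix Cfsg.Agent.Helper25.PSLFus Cfsg.Agent.Helper11

variable {K : Type*} [Field K] [Fintype K] (σ : K →+* K) {n : ℕ}

/-- the base change matrix `D_a + J D_b` -/
def Pab (a b : Fin n → K) : Matrix (Fin n) (Fin n) K :=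
  Matrix.diagonal a + Jm K n * Matrix.diagonal b

theorem adjI_add (M N : Matrix (Fin n) (Fin n) K) : adjI σ (M + N) = adjI σ M + adjI σ N := by
  ext i j
  rw [adjI_apply, Matrix.add_apply, Matrix.add_apply, map_add, adjI_apply, adjI_apply]

theorem adjI_diagonal (a : Fin n → K) :
    adjI σ (Matrix.diagonal a) = Matrix.diagonal (fun k => σ (a k)) := by
  ext i j
  rw [adjI_apply, Matrix.diagonal_apply, Matrix.diagonal_apply]
  by_cases h : i = j
  · subst h; simp
  · rw [if_neg h, if_neg (Ne.symm h), map_zero]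

theorem adjI_Pab_mul (a b : Fin n → K) (k l : Fin n) :
    (adjI σ (Pab a b) * Pab a b) k l =
      (σ (a k) * a k + σ (b k) * b k) * (if k = l then 1 else 0) +
      (σ (a k) * b l + σ (b k) * a l) * (if l = Fin.rev k then 1 else 0) := by
  unfold Pab
  rw [adjI_add, adjI_mul, adjI_Jm, adjI_diagonal, adjI_diagonal]
  have e : (Matrix.diagonal (fun k => σ (a k)) + Matrix.diagonal (fun k => σ (b k)) * Jm K n) *
      (Matrix.diagonal a + Jm K n * Matrix.diagonal b) =
      Matrix.diagonal (fun k => σ (a k)) * Matrix.diagonal a +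
      Matrix.diagonal (fun k => σ (a k)) * (Jm K n * Matrix.diagonal b) +
      Matrix.diagonal (fun k => σ (b k)) * (Jm K n * Matrix.diagonal a) +
      Matrix.diagonal (fun k => σ (b k)) * Matrix.diagonal b := by
    rw [add_mul, mul_add, mul_add, Matrix.mul_assoc (Matrix.diagonal fun k => σ (b k)),
      Matrix.mul_assoc (Matrix.diagonal fun k => σ (b k)),
      ← Matrix.mul_assoc (Jm K n) (Jm K n), Jm_mul_Jm, Matrix.one_mul]
    abel
  rw [e]
  simp only [Matrix.add_apply, Matrix.diagonal_mul, Jm_mul_apply, Matrix.diagonal_apply]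
  by_cases h1 : k = l
  · subst h1
    by_cases h2 : Fin.rev k = k
    · simp only [h2, if_true, eq_self_iff_true]
      ring
    · have h2' : ¬ k = Fin.rev k := fun h => h2 h.symm
      simp only [h2, h2', if_true, if_false, eq_self_iff_true]
      ring
  · by_cases h2 : Fin.rev k = l
    · have h2' : l = Fin.rev k := h2.symm
      subst h2'
      have h1' : ¬ k = Fin.rev k := h1
      simp only [h1', if_true, if_false, eq_self_iff_true]
      ring
    · have h2' : ¬ l = Fin.rev k := fun h => h2 h.symm
      simp only [h1, h2, h2', if_false]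
      ring

end Cfsg.Agent.Helper25.PSUFus

namespace Cfsg.Agent.Helper25.PSUFus

open Matrix Cfsg.Agent.Helper25.PSLFus Cfsg.Agent.Helper11

variable {K : Type*} [Field K] [Fintype K] (σ : K →+* K) {n : ℕ}
variable [hσ : Fact (∀ x, σ (σ x) = x)]

theorem exists_hyp_params (H : FH σ) :
    ∃ α α' c : K, α * σ α = -1 ∧ α' * σ α' = -1 ∧ c * (α' * σ α + 1) = 1 := by
  obtain ⟨α, hα0, hα⟩ := H.norm (-1) (neg_ne_zero.mpr one_ne_zero) (by rw [map_neg, map_one])
  obtain ⟨θ, hθ⟩ := H.ne_id
  have hθ0 : θ ≠ 0 := fun h => hθ (by rw [h, map_zero])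
  have hσθ0 : σ θ ≠ 0 := sigma_ne_zero σ hθ0
  have hα' : (α * σ θ * θ⁻¹) * σ (α * σ θ * θ⁻¹) = -1 := by
    rw [map_mul, map_mul, map_inv₀, hσ.out]
    field_simp
    linear_combination hα
  have hne : (α * σ θ * θ⁻¹) * σ α + 1 ≠ 0 := by
    intro h
    apply hθ
    have e : (α * σ θ * θ⁻¹) * σ α = α * σ α * (σ θ * θ⁻¹) := by ring
    rw [e, hα] at h
    field_simp at h
    linear_combination -h
  exact ⟨α, α * σ θ * θ⁻¹, (α * σ θ * θ⁻¹ * σ α + 1)⁻¹, hα, hα', inv_mul_cancel₀ hne⟩

/-- a Witt basis exists -/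
theorem exists_P (H : FH σ) : ∃ P : Matrix (Fin n) (Fin n) K, adjI σ P * P = Jm K n := by
  obtain ⟨α, α', c, hα, hα', hc⟩ := exists_hyp_params σ H
  let a : Fin n → K := fun k => if k < Fin.rev k then α else if k = Fin.rev k then 1 else c
  let b : Fin n → K := fun k => if k < Fin.rev k then 1 else if k = Fin.rev k then 0 else c * α'
  have aU : ∀ k : Fin n, k < Fin.rev k → a k = α := fun k hk => if_pos hk
  have bU : ∀ k : Fin n, k < Fin.rev k → b k = 1 := fun k hk => if_pos hk
  have aM : ∀ k : Fin n, k = Fin.rev k → a k = 1 := fun k hk => by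
    show (if k < Fin.rev k then α else if k = Fin.rev k then 1 else c) = 1
    rw [if_neg (by rw [← hk]; exact lt_irrefl _), if_pos hk]
  have bM : ∀ k : Fin n, k = Fin.rev k → b k = 0 := fun k hk => by
    show (if k < Fin.rev k then 1 else if k = Fin.rev k then 0 else c * α') = 0
    rw [if_neg (by rw [← hk]; exact lt_irrefl _), if_pos hk]
  have aL : ∀ k : Fin n, Fin.rev k < k → a k = c := fun k hk => by
    show (if k < Fin.rev k then α else if k = Fin.rev k then 1 else c) = c
    rw [if_neg (lt_asymm hk), if_neg (ne_of_gt hk)]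
  have bL : ∀ k : Fin n, Fin.rev k < k → b k = c * α' := fun k hk => by
    show (if k < Fin.rev k then 1 else if k = Fin.rev k then 0 else c * α') = c * α'
    rw [if_neg (lt_asymm hk), if_neg (ne_of_gt hk)]
  refine ⟨Pab a b, ?_⟩
  ext k l
  rw [adjI_Pab_mul, Jm_apply]
  rcases lt_trichotomy k (Fin.rev k) with hk | hk | hk
  · -- upper
    rw [aU k hk, bU k hk]
    have hN : σ α * α + σ 1 * 1 = 0 := by rw [map_one]; linear_combination hα
    rw [hN, zero_mul, zero_add]
    by_cases hl : l = Fin.rev k
    · have hl' : Fin.rev l < l := by rw [hl, Fin.rev_rev]; exact hk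
      rw [if_pos hl, aL l hl', bL l hl', map_one]
      linear_combination hc
    · rw [if_neg hl, mul_zero]
  · -- middle
    rw [aM k hk, bM k hk, map_one, map_zero]
    by_cases hl : k = l
    · subst hl
      rw [if_pos rfl, if_pos hk, bM k hk, aM k hk]
      ring
    · have hl' : ¬ l = Fin.rev k := fun h => hl (by rw [h, ← hk])
      rw [if_neg hl, if_neg hl']
      ring
  · -- lower
    rw [aL k hk, bL k hk]
    have hN : σ c * c + σ (c * α') * (c * α') = 0 := by
      rw [map_mul]
      linear_combination (σ c * c) * hα'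
    rw [hN, zero_mul, zero_add]
    by_cases hl : l = Fin.rev k
    · have hl' : l < Fin.rev l := by rw [hl, Fin.rev_rev]; exact hk
      rw [if_pos hl, aU l hl', bU l hl', mul_one, mul_one]
      have h1 := congrArg σ hc
      rw [map_mul, map_add, map_mul, hσ.out, map_one] at h1
      rw [map_mul]
      linear_combination h1
    · rw [if_neg hl, mul_zero]

end Cfsg.Agent.Helper25.PSUFus
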