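import Mathlib
import Cfsg.Agent.Lib.Helper25.PSUFus21
import Cfsg.Agent.Lib.Helper25.FusionSimpCrit4
import Cfsg.Agent.Lib.Helper11.UnitaryGeom

/-!
# The isomorphism `GJ ≃* SU_n` and simplicity of the `p`-fusion system of `PSU_n(q)`
-/

set_option autoImplicit false
set_option linter.style.haveILetI false
set_option linter.unusedSectionVars false
set_option linter.unusedSimpArgs false

namespace Cfsg.Agent.Helper25.PSUFus

open Matrix Cfsg Cfsg.FusionSystem Cfsg.Agent.Helper25.PSLFus Cfsg.Agent.Helper11 Cfsg.Agent.Helper25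

variable {K : Type*} [Field K] [Fintype K] (σ : K →+* K) {n : ℕ}
variable [hσ : Fact (∀ x, σ (σ x) = x)]

theorem det_conj {A B : Matrix (Fin n) (Fin n) K} (h : A * B = 1) (M : Matrix (Fin n) (Fin n) K) :
    (A * M * B).det = M.det := by
  rw [Matrix.det_mul, Matrix.det_mul, mul_right_comm, ← Matrix.det_mul, h, Matrix.det_one, one_mul]

/-- conjugation by the Witt basis identifies `GJ` with the standard special unitary group -/
noncomputable def suEquiv {q : ℕ} (hσq : ∀ x, σ x = x ^ q) (P : Matrix (Fin n) (Fin n) K)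
    (hP : adjI σ P * P = Jm K n) : ↥(GJ σ n) ≃* ↥(Cfsg.SU n K q) where
  toFun h := ⟨⟨P * h.1.1 * Pinv σ P, by rw [det_conj (mul_Pinv σ hP)]; exact h.1.2⟩,
    (Herm.mem_SU_iff_isU σ hσq n _).mpr ((isU_iff_adjI σ _).mpr (conj_mem_U σ hP h.1.1 h.2))⟩
  invFun g := ⟨⟨Pinv σ P * g.1.1 * P, by rw [det_conj (Pinv_mul σ hP)]; exact g.1.2⟩,
    conj_mem_GJ σ hP g.1.1 ((isU_iff_adjI σ _).mp ((Herm.mem_SU_iff_isU σ hσq n _).mp g.2))⟩
  left_inv h := by
    apply gj_ext
    show Pinv σ P * (P * h.1.1 * Pinv σ P) * P = h.1.1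
    calc Pinv σ P * (P * h.1.1 * Pinv σ P) * P
        = (Pinv σ P * P) * h.1.1 * (Pinv σ P * P) := by simp only [Matrix.mul_assoc]
      _ = h.1.1 := by rw [Pinv_mul σ hP, Matrix.one_mul, Matrix.mul_one]
  right_inv g := by
    apply Subtype.ext
    apply Subtype.ext
    show P * (Pinv σ P * g.1.1 * P) * Pinv σ P = g.1.1
    calc P * (Pinv σ P * g.1.1 * P) * Pinv σ P
        = (P * Pinv σ P) * g.1.1 * (P * Pinv σ P) := by simp only [Matrix.mul_assoc]
      _ = g.1.1 := by rw [mul_Pinv σ hP, Matrix.one_mul, Matrix.mul_one]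
  map_mul' a b := by
    apply Subtype.ext
    apply Subtype.ext
    show P * (a.1.1 * b.1.1) * Pinv σ P = (P * a.1.1 * Pinv σ P) * (P * b.1.1 * Pinv σ P)
    calc P * (a.1.1 * b.1.1) * Pinv σ P
        = P * a.1.1 * 1 * b.1.1 * Pinv σ P := by rw [Matrix.mul_one]; simp only [Matrix.mul_assoc]
      _ = (P * a.1.1 * Pinv σ P) * (P * b.1.1 * Pinv σ P) := by
        rw [← Pinv_mul σ hP]; simp only [Matrix.mul_assoc]

/-- the fusion system of `PSU_n(q)`, `n ≥ 4`, in the defining characteristic is simple -/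
theorem psu_fusion_simple (p q : ℕ) [Fact p.Prime] [CharP K p] (hK : Fintype.card K = q ^ 2)
    (hn : 4 ≤ n) (S : Sylow p (Cfsg.PSU n K q)) :
    (groupFusionSystem (S : Subgroup (Cfsg.PSU n K q))).IsSimple p := by
  obtain ⟨σ, hσq⟩ := Herm.exists_frob hK
  have hσσ : ∀ x, σ (σ x) = x := Herm.frob_frob hK σ hσq
  haveI hσ : Fact (∀ x, σ (σ x) = x) := ⟨hσσ⟩
  have hne : σ ≠ RingHom.id K := Herm.frob_ne_id hK σ hσq
  have H : FH σ := by
    refine ⟨?_, ?_, Herm.frob_norm_surj hK σ hσq⟩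
    · by_contra h
      push_neg at h
      exact hne (RingHom.ext h)
    · intro c hc
      exact Witt.exists_trace_eq σ hne hσσ c hc
  haveI : NeZero n := ⟨by omega⟩
  obtain ⟨P, hP⟩ := exists_P σ H (n := n)
  have hZ : ∀ z ∈ Subgroup.center (GJ σ n), ∀ k : ℕ, z ^ p ^ k = 1 → z = 1 :=
    fun z hz k hk => center_GJ_pow σ H p hz hk
  have hU1 : ((USylowJ σ H p : Sylow p (GJ σ n)) : Subgroup (GJ σ n)) ≠ ⊥ := by
    rw [coe_USylowJ]
    intro hbot
    obtain ⟨s, hs0, hs⟩ := H.exists_tz σ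
    obtain ⟨i0, hi0⟩ : ∃ i0 : Fin n, i0.val = 0 := ⟨⟨0, by omega⟩, rfl⟩
    have h0U : i0 < Fin.rev i0 := by rw [Fin.lt_def, Fin.val_rev]; omega
    have hmem := xl_mem_UJ σ (ne_of_lt h0U) h0U s hs
    rw [hbot, Subgroup.mem_bot] at hmem
    have h1 := congrArg (fun g : GJ σ n => g.1.1 i0 (Fin.rev i0)) hmem
    simp only [xl_val, gj_val_one, Matrix.add_apply, Matrix.smul_apply, Eu_apply,
      Matrix.one_apply_ne (ne_of_lt h0U)] at h1
    simp at h1
    exact hs0 h1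
  have hNoClosed : SimpCrit.NoClosed ((USylowJ σ H p : Sylow p (GJ σ n)) :
      Subgroup (GJ σ n)) := by
    rw [coe_USylowJ]
    intro T hTU hne' hfc
    exact eq_UJ_of_fusClosed σ H p hn T hTU hne' hfc
  have hAG : Subgroup.normalizer (((USylowJ σ H p : Sylow p (GJ σ n)) :
      Subgroup (GJ σ n)) : Set (GJ σ n)) ≤
      Subgroup.closure (SimpCrit.GoodZ p ((USylowJ σ H p : Sylow p (GJ σ n)) :
        Subgroup (GJ σ n))) := by
    rw [coe_USylowJ]
    exact (normalizer_UJ_le σ H).trans (BJ_le_closure_goodZ σ H p hn)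
  exact SimpCrit.isSimple_of_central_quotient_equiv (suEquiv σ hσq P hP) p (USylowJ σ H p)
    hZ hU1 hNoClosed hAG S

end Cfsg.Agent.Helper25.PSUFus
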