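import Mathlib
import Cfsg.Agent.Lib.Helper25.PSUFus20
import Cfsg.Agent.Lib.Helper25.Mono3c

/-!
# The semidihedral case: the unitary group `GJ σ 3` in a Witt basis
-/

set_option autoImplicit false
set_option linter.style.haveILetI false
set_option linter.unusedSectionVars false
set_option linter.unusedSimpArgs false
set_option linter.unusedTactic false

namespace Cfsg.Agent.Helper25.Mono3

open Matrix Cfsg Cfsg.FusionSystem Cfsg.Agent.Helper25.SimpCrit Cfsg.Agent.Helper25.DihExt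
  Cfsg.Agent.Helper25.PSUFus

variable {K : Type*} [Field K] [Fintype K] (σ : K →+* K)

theorem adj3 (M : Matrix (Fin 3) (Fin 3) K) : adj σ M =
    !![σ (M 2 2), σ (M 1 2), σ (M 0 2); σ (M 2 1), σ (M 1 1), σ (M 0 1);
      σ (M 2 0), σ (M 1 0), σ (M 0 0)] := by
  ext i j
  fin_cases i <;> fin_cases j <;> rfl

theorem adjI3 (M : Matrix (Fin 3) (Fin 3) K) : adjI σ M =
    !![σ (M 0 0), σ (M 1 0), σ (M 2 0); σ (M 0 1), σ (M 1 1), σ (M 2 1);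
      σ (M 0 2), σ (M 1 2), σ (M 2 2)] := by
  ext i j
  fin_cases i <;> fin_cases j <;> rfl

theorem adj_dg (x y z : K) : adj σ (dg x y z) = dg (σ z) (σ y) (σ x) := by
  rw [adj3]
  ext i j
  fin_cases i <;> fin_cases j <;> simp [dg]

theorem adjI_dg (x y z : K) : adjI σ (dg x y z) = dg (σ x) (σ y) (σ z) := by
  rw [adjI3]
  ext i j
  fin_cases i <;> fin_cases j <;> simp [dg]

theorem adj_Wm : adj σ (Wm : Matrix (Fin 3) (Fin 3) K) = Wm := by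
  rw [adj3]
  ext i j
  fin_cases i <;> fin_cases j <;> simp [Wm]

theorem adjI_Wm : adjI σ (Wm : Matrix (Fin 3) (Fin 3) K) = Wm := by
  rw [adjI3]
  ext i j
  fin_cases i <;> fin_cases j <;> simp [Wm]

/-- the conjugator of `diag(-1,1,-1)` to `w` -/
def G0 (a : K) : Matrix (Fin 3) (Fin 3) K :=
  !![a, -(2 * a)⁻¹, -a / 2; 1, 0, 1 / 2; -a, -(2 * a)⁻¹, a / 2]

/-- the conjugator of `diag(i,1,-i)` to `w h(τ)` -/
def G1 (i τ : K) : Matrix (Fin 3) (Fin 3) K :=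
  !![1, 0, (2 * i * τ)⁻¹; 0, 1, 0; -(i * τ), 0, 1 / 2]

theorem det_G0 {a : K} (h2 : (2 : K) ≠ 0) (ha : a ≠ 0) : (G0 a).det = 1 := by
  rw [Matrix.det_fin_three]
  simp [G0]
  field_simp
  ring

theorem G0_conj (a : K) : G0 a * dg (-1) 1 (-1) = Wm * G0 a := by
  ext i j
  fin_cases i <;> fin_cases j <;>
    simp [G0, dg, Wm, Matrix.mul_apply, Fin.sum_univ_three] <;> ring

theorem adj_G0 {a : K} (h2 : (2 : K) ≠ 0) (ha : a ≠ 0) (hσa : σ a = (2 * a)⁻¹) :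
    adj σ (G0 a) * G0 a = 1 := by
  rw [adj3]
  ext i j
  fin_cases i <;> fin_cases j <;>
    simp [G0, Matrix.mul_apply, Fin.sum_univ_three, Matrix.one_apply, hσa, map_neg, map_inv₀,
      map_div₀, map_mul, map_ofNat] <;> field_simp <;> ring

theorem det_G1 {i τ : K} (h2 : (2 : K) ≠ 0) (hi : i ≠ 0) (hτ : τ ≠ 0) : (G1 i τ).det = 1 := by
  rw [Matrix.det_fin_three]
  simp [G1]
  field_simp
  ring

theorem G1_conj {i τ : K} (h2 : (2 : K) ≠ 0) (hi : i * i = -1) (hτ : τ ≠ 0) :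
    G1 i τ * dg i 1 (-i) = (Wm * dg τ (-1) (-τ⁻¹)) * G1 i τ := by
  have hi0 : i ≠ 0 := i_ne_zero hi h2
  ext k l
  fin_cases k <;> fin_cases l <;>
    simp [G1, dg, Wm, Matrix.mul_apply, Fin.sum_univ_three] <;> field_simp <;>
    (try linear_combination hi) <;> (try linear_combination -hi)

theorem adj_G1 {i τ : K} (h2 : (2 : K) ≠ 0) (hi : i * i = -1) (hτ : τ ≠ 0) (hσi : σ i = i)
    (hστ : σ τ = -τ) : adj σ (G1 i τ) * G1 i τ = 1 := by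
  have hi0 : i ≠ 0 := i_ne_zero hi h2
  rw [adj3]
  ext k l
  fin_cases k <;> fin_cases l <;>
    simp [G1, Matrix.mul_apply, Fin.sum_univ_three, Matrix.one_apply, hσi, hστ, map_neg,
      map_inv₀, map_div₀, map_mul, map_ofNat] <;> field_simp <;> ring

variable [hσ : Fact (∀ x, σ (σ x) = x)]

theorem sigma_ne_zero' {t : K} (ht : t ≠ 0) : σ t ≠ 0 := by
  intro h
  apply ht
  have := congrArg σ h
  rwa [hσ.out, map_zero] at this

/-- the torus element `h(t) = diag(t, σt/t, σt⁻¹)` -/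
def hmat (t : K) : Matrix (Fin 3) (Fin 3) K := dg t (σ t * t⁻¹) (σ t)⁻¹

theorem det_hmat {t : K} (ht : t ≠ 0) : (hmat σ t).det = 1 := by
  have := sigma_ne_zero' σ ht
  rw [hmat, det_dg]
  field_simp

theorem adj_hmat {t : K} (ht : t ≠ 0) : adj σ (hmat σ t) * hmat σ t = 1 := by
  have := sigma_ne_zero' σ ht
  rw [hmat, adj_dg, dg_mul, ← dg_one]
  congr 1
  · rw [map_inv₀, hσ.out, inv_mul_cancel₀ ht]
  · rw [map_mul, map_inv₀, hσ.out]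
    field_simp
  · rw [mul_inv_cancel₀ this]

theorem hmat_mul {s t : K} (hs : s ≠ 0) (ht : t ≠ 0) :
    hmat σ s * hmat σ t = hmat σ (s * t) := by
  have := sigma_ne_zero' σ ht
  have := sigma_ne_zero' σ hs
  rw [hmat, hmat, hmat, dg_mul, map_mul]
  congr 1
  · field_simp
  · field_simp

/-- `h(t)` as an element of `GJ σ 3` -/
def hG {t : K} (ht : t ≠ 0) : GJ σ 3 := ⟨⟨hmat σ t, det_hmat σ ht⟩, adj_hmat σ ht⟩

theorem hG_val {t : K} (ht : t ≠ 0) : (hG σ ht).1.1 = hmat σ t := rfl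

theorem wS_mem_GJ : (wS : SpecialLinearGroup (Fin 3) K) ∈ GJ σ 3 := by
  show adj σ Wm * Wm = 1
  rw [adj_Wm, Wm_mul_Wm]

/-- diagonal elements of `GJ σ 3` are the `h(t)` -/
theorem eq_hmat_of_mem {g : GJ σ 3} {x y z : K} (h : g.1.1 = dg x y z) :
    x ≠ 0 ∧ dg x y z = hmat σ x := by
  obtain ⟨hx, hy, hz⟩ := ne_zero_of_dg _ h
  have h1 : adj σ g.1.1 * g.1.1 = 1 := g.2
  rw [h, adj_dg, dg_mul, ← dg_one] at h1
  obtain ⟨h2, h3, h4⟩ := dg_inj h1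
  have hdet := val_det _ g
  rw [h, det_dg] at hdet
  have hσx := sigma_ne_zero' σ hx
  have hz' : z = (σ x)⁻¹ := eq_inv_of_mul_eq_one_right h4
  have hy' : y = σ x * x⁻¹ := by
    rw [hz'] at hdet
    field_simp
    field_simp at hdet
    rw [mul_comm]; exact hdet
  refine ⟨hx, ?_⟩
  rw [hmat, hy', hz']

/-- hypotheses of the semidihedral case -/
structure SDData (i a τ₀ s₁ : K) : Prop where
  hi : i * i = -1
  hσi : σ i = i
  h2 : (2 : K) ≠ 0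
  ha : σ a = (2 * a)⁻¹
  ha0 : a ≠ 0
  hτ : σ τ₀ = -τ₀
  hτ0 : τ₀ ≠ 0
  hτ2 : ∃ k : ℕ, τ₀ ^ 2 ^ k = 1
  hs : s₁ * σ s₁ = i
  hs2 : ∃ k : ℕ, s₁ ^ 2 ^ k = 1
  hy : ∀ y : K, y * σ y = 1 → (∃ k : ℕ, y ^ 2 ^ k = 1) → y * y = 1

variable {i a τ₀ s₁ : K}

theorem hG_mem_DG {t : K} (ht : t ≠ 0) {k : ℕ} (hk : t ^ 2 ^ k = 1) :
    hG σ ht ∈ DG (wS_mem_GJ σ) := by
  refine (mem_DG_iff _).mpr ⟨_, _, _, rfl, k, hk, ?_, ?_⟩
  · rw [mul_pow, inv_pow, ← map_pow, hk, map_one, inv_one, mul_one]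
  · rw [inv_pow, ← map_pow, hk, map_one, inv_one]

theorem sd_d0 (hD : SDData σ i a τ₀ s₁) : ∃ d₀ : GJ σ 3, d₀ ∈ DG (wS_mem_GJ σ) ∧
    (d₀ * wG (wS_mem_GJ σ) * d₀⁻¹ * wG (wS_mem_GJ σ)).1.1 = dg i 1 (-i) := by
  have hs0 : s₁ ≠ 0 := by
    intro h
    have := hD.hs
    rw [h, zero_mul] at this
    exact i_ne_zero hD.hi hD.h2 this.symm
  obtain ⟨k, hk⟩ := hD.hs2
  refine ⟨hG σ hs0, hG_mem_DG σ hs0 hk, ?_⟩
  rw [comm_w_val _ (hG_val σ hs0), inv_inv, hD.hs]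
  congr 1
  rw [← mul_inv, mul_comm, hD.hs]
  exact inv_eq_of_mul_eq_one_right (by rw [mul_neg, hD.hi, neg_neg])

theorem sd_noClosed (hD : SDData σ i a τ₀ s₁) : NoClosed (UG (wS_mem_GJ σ)) := by
  intro T' hT'U hne hfc
  have hW := wS_mem_GJ σ
  obtain ⟨d0, hd0D, hdw⟩ := sd_d0 σ hD
  have htU : d0 * wG hW * d0⁻¹ * wG hW ∈ UG hW :=
    (UG hW).mul_mem ((UG hW).mul_mem ((UG hW).mul_mem (D2_le_U2 _ hd0D) (w_mem_U2 _))
      ((UG hW).inv_mem (D2_le_U2 _ hd0D))) (w_mem_U2 _)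
  obtain ⟨z, hzT, hz⟩ := z_mem_of_fusClosed hW hD.hi hD.h2 hdw htU hT'U hne hfc
  have hw : wG hW ∈ T' := by
    apply fus_step hfc (g := (⟨⟨G0 a, det_G0 hD.h2 hD.ha0⟩, adj_G0 σ hD.h2 hD.ha0 hD.ha⟩ : GJ σ 3))
      hzT (w_mem_U2 _)
    apply g_ext
    show G0 a * z.1.1 = Wm * G0 a
    rw [hz]
    exact G0_conj a
  have ht1 : d0 * wG hW * d0⁻¹ * wG hW ∈ T' := comm_w_mem hW hfc hw hd0D
  apply eq_UG_of_le hW hT'U hw
  have hi0 := i_ne_zero hD.hi hD.h2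
  have claim2 : ∀ τ : K, σ τ = -τ → ∀ hτ0 : τ ≠ 0, (∃ k : ℕ, τ ^ 2 ^ k = 1) → hG σ hτ0 ∈ T' := by
    rintro τ hστ hτ0 ⟨k, hk⟩
    have hτD : hG σ hτ0 ∈ DG hW := hG_mem_DG σ hτ0 hk
    have hwτ : wG hW * hG σ hτ0 ∈ T' := by
      apply fus_step hfc (g := (⟨⟨G1 i τ, det_G1 hD.h2 hi0 hτ0⟩,
        adj_G1 σ hD.h2 hD.hi hτ0 hD.hσi hστ⟩ : GJ σ 3)) ht1
        ((UG hW).mul_mem (w_mem_U2 _) (D2_le_U2 _ hτD))
      apply g_ext
      show G1 i τ * (d0 * wG hW * d0⁻¹ * wG hW).1.1 = (Wm * hmat σ τ) * G1 i τ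
      rw [hdw, hmat, hστ]
      have e1 : -τ * τ⁻¹ = -1 := by field_simp
      have e2 : (-τ)⁻¹ = -τ⁻¹ := by rw [inv_neg]
      rw [e1, e2]
      exact G1_conj hD.h2 hD.hi hτ0
    have := T'.mul_mem hw hwτ
    rwa [(data hW).w_w_mul] at this
  intro d hd
  obtain ⟨x, y, z', hdv, k, hx, hy', hz'⟩ := (mem_DG_iff hW).mp hd
  obtain ⟨hx0, hdh⟩ := eq_hmat_of_mem σ hdv
  have hσx0 := sigma_ne_zero' σ hx0
  obtain ⟨-, hyeq, -⟩ := dg_inj hdh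
  have hyy : y * y = 1 := by
    apply hD.hy y _ ⟨k, hy'⟩
    rw [hyeq, map_mul, map_inv₀, hσ.out]
    field_simp
  have hdG : d = hG σ hx0 := g_ext _ (hdv.trans hdh)
  rcases mul_self_eq_one_iff.mp hyy with h1 | h1
  · -- `σ x = x`
    have hσx : σ x = x := by
      rw [hyeq] at h1
      field_simp at h1
      exact h1
    have hx' : x * τ₀⁻¹ ≠ 0 := mul_ne_zero hx0 (inv_ne_zero hD.hτ0)
    have hσx' : σ (x * τ₀⁻¹) = -(x * τ₀⁻¹) := by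
      rw [map_mul, map_inv₀, hD.hτ, hσx, inv_neg, mul_neg]
    obtain ⟨l, hl⟩ := hD.hτ2
    have h2x' : (x * τ₀⁻¹) ^ 2 ^ (k + l) = 1 := by
      rw [mul_pow, inv_pow, pow_add, pow_mul, hx, one_pow, mul_comm (2 ^ k), pow_mul, hl, one_pow,
        inv_one, mul_one]
    have hprod : d = hG σ hD.hτ0 * hG σ hx' := by
      rw [hdG]
      apply g_ext
      rw [val_mul, hG_val, hG_val, hG_val, hmat_mul σ hD.hτ0 hx']
      congr 1
      rw [mul_comm x, mul_inv_cancel_left₀ hD.hτ0]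
    rw [hprod]
    exact T'.mul_mem (claim2 τ₀ hD.hτ hD.hτ0 ⟨l, hl⟩) (claim2 _ hσx' hx' ⟨_, h2x'⟩)
  · have hσx : σ x = -x := by
      rw [hyeq] at h1
      field_simp at h1
      exact h1
    rw [hdG]
    exact claim2 x hσx hx0 ⟨k, hx⟩

/-- **The semidihedral case.** -/
theorem sd_fusion_simple (hD : SDData σ i a τ₀ s₁) {H : Type*} [Group H] [Finite H]
    (e : GJ σ 3 ≃* H) (S : Sylow 2 (H ⧸ Subgroup.center H)) :
    (groupFusionSystem (S : Subgroup (H ⧸ Subgroup.center H))).IsSimple 2 := by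
  obtain ⟨d0, hd0D, hdw⟩ := sd_d0 σ hD
  have hg₀ : ((⟨⟨G0 a, det_G0 hD.h2 hD.ha0⟩, adj_G0 σ hD.h2 hD.ha0 hD.ha⟩ : GJ σ 3)).1.1 1 0 ≠ 0 := by
    show G0 a 1 0 ≠ 0
    simp [G0]
  exact fusion_simple_of_data (wS_mem_GJ σ) e hD.hi hD.h2 hd0D hdw hg₀ (sd_noClosed σ hD) S

end Cfsg.Agent.Helper25.Mono3
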