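import Mathlib
import Cfsg.Agent.Lib.Helper25.Mono3c

/-!
# The wreathed case: subgroups of `SL₃(K)` containing the monomial group of a full torus
-/

set_option autoImplicit false
set_option linter.style.haveILetI false
set_option linter.unusedSectionVars false
set_option linter.unusedSimpArgs false

namespace Cfsg.Agent.Helper25.Mono3

open Matrix Cfsg Cfsg.FusionSystem Cfsg.Agent.Helper25.SimpCrit Cfsg.Agent.Helper25.DihExt

variable {K : Type*} [Field K]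

/-- the `3`-cycle permutation matrix -/
def Pm : Matrix (Fin 3) (Fin 3) K := !![0, 1, 0; 0, 0, 1; 1, 0, 0]

theorem det_Pm : (Pm : Matrix (Fin 3) (Fin 3) K).det = 1 := by
  rw [Matrix.det_fin_three]
  simp [Pm]

theorem Pm_mul_dg (x y z : K) : Pm * dg x y z = dg y z x * Pm := by
  ext i j
  fin_cases i <;> fin_cases j <;> simp [dg, Pm, Matrix.mul_apply, Fin.sum_univ_three]

/-- the `3`-cycle in `SL₃` -/
def pS : SpecialLinearGroup (Fin 3) K := ⟨Pm, det_Pm⟩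

/-- hypotheses of the wreathed case -/
structure WreathData (G : Subgroup (SpecialLinearGroup (Fin 3) K)) (i : K) : Prop where
  hW : (wS : SpecialLinearGroup (Fin 3) K) ∈ G
  hP : (pS : SpecialLinearGroup (Fin 3) K) ∈ G
  hg0 : ∃ g₀ ∈ G, g₀.1 * dg 1 (-1) (-1) = Wm * g₀.1
  full : ∀ g ∈ G, ∀ x y z : K, g.1 = dg x y z → ∃ g' ∈ G, g'.1 = dg x x⁻¹ 1
  hi : i * i = -1
  h2 : (2 : K) ≠ 0
  hd0 : ∃ d ∈ G, d.1 = dg i (-i) 1

variable {G : Subgroup (SpecialLinearGroup (Fin 3) K)} {i : K}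

theorem conj_P_val {P z : G} (hP : P.1.1 = Pm) {x y z' : K} (hz : z.1.1 = dg x y z') :
    (P * z * P⁻¹).1.1 = dg y z' x := by
  rw [val_mul, val_mul, hP, hz, Pm_mul_dg, Matrix.mul_assoc, ← hP, val_mul_inv, Matrix.mul_one]

theorem inv_i (hi : i * i = -1) : i⁻¹ = -i :=
  inv_eq_of_mul_eq_one_right (by rw [mul_neg, hi, neg_neg])

theorem wreath_d0 (hD : WreathData G i) : ∃ d₀ : G, d₀ ∈ DG hD.hW ∧
    (d₀ * wG hD.hW * d₀⁻¹ * wG hD.hW).1.1 = dg i 1 (-i) := by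
  obtain ⟨d₀, hd₀G, hd₀⟩ := hD.hd0
  have hi4 : i ^ 2 ^ 2 = 1 := by
    have : i ^ 2 ^ 2 = (i * i) * (i * i) := by ring
    rw [this, hD.hi]; ring
  have hi4' : (-i) ^ 2 ^ 2 = 1 := by
    have : (-i) ^ 2 ^ 2 = (i * i) * (i * i) := by ring
    rw [this, hD.hi]; ring
  refine ⟨⟨d₀, hd₀G⟩, (mem_DG_iff hD.hW).mpr ⟨i, -i, 1, hd₀, 2, hi4, hi4', one_pow _⟩, ?_⟩
  rw [comm_w_val hD.hW (d := ⟨d₀, hd₀G⟩) hd₀, inv_one, mul_one, one_mul, inv_i hD.hi]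

theorem wreath_noClosed [Finite G] (hD : WreathData G i) : NoClosed (UG hD.hW) := by
  intro T' hT'U hne hfc
  have hW := hD.hW
  obtain ⟨d0, hd0D, hdw⟩ := wreath_d0 hD
  have htU : d0 * wG hW * d0⁻¹ * wG hW ∈ UG hW :=
    (UG hW).mul_mem ((UG hW).mul_mem ((UG hW).mul_mem (D2_le_U2 _ hd0D) (w_mem_U2 _))
      ((UG hW).inv_mem (D2_le_U2 _ hd0D))) (w_mem_U2 _)
  obtain ⟨z, hzT, hz⟩ := z_mem_of_fusClosed hW hD.hi hD.h2 hdw htU hT'U hne hfc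
  set P : G := ⟨pS, hD.hP⟩ with hPdef
  have hPv : P.1.1 = Pm := rfl
  -- conjugation by `P` preserves diagonal `2`-elements of `T'`
  have hPconj : ∀ v : G, v ∈ T' → v ∈ DG hW → P * v * P⁻¹ ∈ T' := by
    intro v hvT hvD
    apply hfc v hvT
    apply D2_le_U2
    obtain ⟨x, y, z', hv, k, hx, hy, hz'⟩ := (mem_DG_iff hW).mp hvD
    exact (mem_DG_iff hW).mpr ⟨_, _, _, conj_P_val hPv hv, k, hy, hz', hx⟩
  have hzD : z ∈ DG hW := (mem_DG_iff hW).mpr ⟨_, _, _, hz, 1, by norm_num, by norm_num,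
    by norm_num⟩
  have hy := conj_P_val hPv hz
  have hyT := hPconj z hzT hzD
  -- `w ∈ T'`
  obtain ⟨g₀, hg₀G, hg₀⟩ := hD.hg0
  have hw : wG hW ∈ T' := by
    apply fus_step hfc (g := (⟨g₀, hg₀G⟩ : G)) hyT (w_mem_U2 _)
    apply g_ext
    show g₀.1 * (P * z * P⁻¹).1.1 = Wm * g₀.1
    rw [hy]
    exact hg₀
  apply eq_UG_of_le hW hT'U hw
  -- elements `diag(a, 1, a⁻¹)`
  have claim1 : ∀ (a : K) (k : ℕ), a ^ 2 ^ k = 1 → ∀ g' : G, g'.1.1 = dg a a⁻¹ 1 →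
      ∃ y' : G, y' ∈ T' ∧ y' ∈ DG hW ∧ y'.1.1 = dg a 1 a⁻¹ := by
    intro a k hak g' hg'
    have hg'D : g' ∈ DG hW :=
      (mem_DG_iff hW).mpr ⟨_, _, _, hg', k, hak, by rw [inv_pow, hak, inv_one], one_pow _⟩
    have hv : (g' * wG hW * g'⁻¹ * wG hW).1.1 = dg a 1 a⁻¹ := by
      rw [comm_w_val hW hg', inv_one, mul_one, one_mul]
    refine ⟨_, comm_w_mem hW hfc hw hg'D, ?_, hv⟩
    exact (mem_DG_iff hW).mpr ⟨_, _, _, hv, k, hak, one_pow _, by rw [inv_pow, hak, inv_one]⟩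
  intro d hd
  obtain ⟨x, y, z', hdv, k, hx, hy', hz'⟩ := (mem_DG_iff hW).mp hd
  obtain ⟨hx0, hy0, hz0⟩ := ne_zero_of_dg G hdv
  -- `A` with matrix `dg x⁻¹ x 1`
  obtain ⟨g', hg'G, hg'⟩ := hD.full d.1 d.2 x y z' hdv
  obtain ⟨y1, hy1T, hy1D, hy1⟩ := claim1 x k hx ⟨g', hg'G⟩ hg'
  have hA1 := conj_P_val hPv hy1
  have hA1T := hPconj y1 hy1T hy1D
  have hA1D : P * y1 * P⁻¹ ∈ DG hW :=
    (mem_DG_iff hW).mpr ⟨_, _, _, hA1, k, one_pow _, by rw [inv_pow, hx, inv_one], hx⟩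
  have hA2 := conj_P_val hPv hA1
  have hA2T := hPconj _ hA1T hA1D
  -- `B` with matrix `dg 1 z'⁻¹ z'`
  have hd1 := conj_P_val hPv hdv
  have hd2 := conj_P_val hPv hd1
  obtain ⟨g'', hg''G, hg''⟩ := hD.full (P * (P * d * P⁻¹) * P⁻¹).1 (P * (P * d * P⁻¹) * P⁻¹).2
    z' x y hd2
  obtain ⟨y2, hy2T, hy2D, hy2⟩ := claim1 z' k hz' ⟨g'', hg''G⟩ hg''
  have hB := conj_P_val hPv hy2
  have hBT := hPconj y2 hy2T hy2D
  have hdet := val_det G d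
  rw [hdv, det_dg] at hdet
  have hyxz : y = x⁻¹ * z'⁻¹ := by
    field_simp
    rw [← hdet]; ring
  have hfinal : d = (P * (P * y1 * P⁻¹) * P⁻¹)⁻¹ * (P * y2 * P⁻¹) := by
    apply g_ext
    rw [val_mul, val_inv_of_dg G hA2, hB, hdv, dg_mul, inv_inv, inv_one, one_mul, mul_one, hyxz]
  rw [hfinal]
  exact T'.mul_mem (T'.inv_mem hA2T) hBT

/-- **The wreathed case.** -/
theorem wreath_fusion_simple [Finite G] (hD : WreathData G i) {H : Type*} [Group H] [Finite H]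
    (e : G ≃* H) (S : Sylow 2 (H ⧸ Subgroup.center H)) :
    (groupFusionSystem (S : Subgroup (H ⧸ Subgroup.center H))).IsSimple 2 := by
  obtain ⟨d0, hd0D, hdw⟩ := wreath_d0 hD
  have hg₀ : ((⟨pS, hD.hP⟩ : G) * (⟨pS, hD.hP⟩ : G)).1.1 1 0 ≠ 0 := by
    show ((Pm : Matrix (Fin 3) (Fin 3) K) * (Pm : Matrix (Fin 3) (Fin 3) K)) 1 0 ≠ 0
    simp [Pm, Matrix.mul_apply, Fin.sum_univ_three]
  exact fusion_simple_of_data hD.hW e hD.hi hD.h2 hd0D hdw hg₀ (wreath_noClosed hD) S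

end Cfsg.Agent.Helper25.Mono3
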