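import Mathlib
import Cfsg.Agent.Lib.Helper25.Semidih3
import Cfsg.Agent.Lib.Helper25.Wreath3
import Cfsg.Agent.Lib.Helper25.PSUFus22

/-!
# The `2`-fusion system of `PSU₃(q)`, `q` odd, is simple
-/

set_option autoImplicit false
set_option linter.style.haveILetI false
set_option linter.unusedSectionVars false
set_option linter.unusedSimpArgs false
set_option linter.unusedTactic false

namespace Cfsg.Agent.Helper25.Mono3

open Matrix Cfsg Cfsg.FusionSystem Cfsg.Agent.Helper25.SimpCrit Cfsg.Agent.Helper25.DihExt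
  Cfsg.Agent.Helper25.PSUFus Cfsg.Agent.Helper11

variable {F : Type*} [Field F] [Fintype F]

theorem two_ne_zero_of_card {n : ℕ} (hn : Fintype.card F = n) (hodd : n % 2 = 1) :
    (2 : F) ≠ 0 := by
  apply Ring.two_ne_zero
  intro h
  have := (FiniteField.even_card_iff_char_two).mp h
  omega

theorem exists_sq_neg_one {n : ℕ} (hn : Fintype.card F = n) (h4 : n % 4 = 1) :
    ∃ i : F, i * i = -1 := by
  obtain ⟨i, hi⟩ := (FiniteField.isSquare_neg_one_iff (F := F)).mpr (by omega)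
  exact ⟨i, hi.symm⟩

theorem sq_mod_four {q : ℕ} (hodd : q % 2 = 1) : q ^ 2 % 4 = 1 := by
  have h : q % 4 = 1 ∨ q % 4 = 3 := by omega
  rcases h with h | h <;> simp [Nat.pow_mod, h]

theorem pow_of_i {i : F} (hi : i * i = -1) (m : ℕ) : i ^ (4 * m + 1) = i ∧ i ^ (4 * m + 3) = -i := by
  have h4 : i ^ 4 = 1 := by
    have : i ^ 4 = (i * i) * (i * i) := by ring
    rw [this, hi]; ring
  constructor
  · rw [pow_add, pow_mul, h4, one_pow, one_mul, pow_one]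
  · rw [pow_add, pow_mul, h4, one_pow, one_mul]
    have : i ^ 3 = (i * i) * i := by ring
    rw [this, hi]; ring

/-! ### the identity form -/

/-- the conjugator of `diag(1,-1,-1)` to `w`, identity form -/
def G0I (a : F) : Matrix (Fin 3) (Fin 3) F := !![a, 0, a; 0, -(2 * a * a)⁻¹, 0; a, 0, -a]

theorem det_G0I {a : F} (h2 : (2 : F) ≠ 0) (ha : a ≠ 0) : (G0I a).det = 1 := by
  rw [Matrix.det_fin_three]
  simp [G0I]
  field_simp
  ring

theorem G0I_conj (a : F) : G0I a * dg 1 (-1) (-1) = Wm * G0I a := by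
  ext i j
  fin_cases i <;> fin_cases j <;>
    simp [G0I, dg, Wm, Matrix.mul_apply, Fin.sum_univ_three]

theorem adjI_G0I (σ : F →+* F) {a : F} (h2 : (2 : F) ≠ 0) (ha : a ≠ 0) (hσa : σ a = (2 * a)⁻¹) :
    adjI σ (G0I a) * G0I a = 1 := by
  rw [adjI3]
  ext i j
  fin_cases i <;> fin_cases j <;>
    simp [G0I, Matrix.mul_apply, Fin.sum_univ_three, Matrix.one_apply, hσa, map_neg, map_inv₀,
      map_div₀, map_mul, map_ofNat] <;> field_simp <;> ring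

theorem adjI_Pm (σ : F →+* F) : adjI σ (Pm : Matrix (Fin 3) (Fin 3) F) * Pm = 1 := by
  rw [adjI3]
  ext i j
  fin_cases i <;> fin_cases j <;>
    simp [Pm, Matrix.mul_apply, Fin.sum_univ_three, Matrix.one_apply]

theorem mem_SU3 {q : ℕ} (σ : F →+* F) (hσq : ∀ x, σ x = x ^ q) [hσ : Fact (∀ x, σ (σ x) = x)]
    (g : SpecialLinearGroup (Fin 3) F) : g ∈ Cfsg.SU 3 F q ↔ adjI σ g.1 * g.1 = 1 := by
  rw [Herm.mem_SU_iff_isU σ hσq 3 g, isU_iff_adjI]

theorem exists_half_norm {q : ℕ} (hq : Fintype.card F = q ^ 2) (σ : F →+* F)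
    (hσq : ∀ x, σ x = x ^ q) (h2 : (2 : F) ≠ 0) : ∃ a : F, a ≠ 0 ∧ σ a = (2 * a)⁻¹ := by
  obtain ⟨a, ha0, ha⟩ := Herm.frob_norm_surj hq σ hσq (2⁻¹ : F) (inv_ne_zero h2)
    (by rw [map_inv₀, map_ofNat])
  refine ⟨a, ha0, ?_⟩
  rw [mul_inv, ← ha]
  field_simp

theorem wreathData {q : ℕ} (hq : Fintype.card F = q ^ 2) (h4 : q % 4 = 3) :
    ∃ i : F, WreathData (Cfsg.SU 3 F q) i := by
  have hodd : q % 2 = 1 := by omega
  obtain ⟨σ, hσq⟩ := Herm.exists_frob hq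
  haveI hσ : Fact (∀ x, σ (σ x) = x) := ⟨Herm.frob_frob hq σ hσq⟩
  have h2 : (2 : F) ≠ 0 := two_ne_zero_of_card hq (by rw [Nat.pow_mod, hodd])
  obtain ⟨i, hi⟩ := exists_sq_neg_one (F := F) hq (sq_mod_four hodd)
  obtain ⟨a, ha0, ha⟩ := exists_half_norm hq σ hσq h2
  have hσi : σ i = -i := by
    rw [hσq]
    obtain ⟨m, rfl⟩ : ∃ m, q = 4 * m + 3 := ⟨q / 4, by omega⟩
    exact (pow_of_i hi m).2
  refine ⟨i, ?_, ?_, ?_, ?_, hi, h2, ?_⟩
  · refine (mem_SU3 σ hσq _).mpr ?_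
    show adjI σ Wm * Wm = 1
    rw [adjI_Wm, Wm_mul_Wm]
  · refine (mem_SU3 σ hσq _).mpr ?_
    exact adjI_Pm σ
  · refine ⟨⟨G0I a, det_G0I h2 ha0⟩, ?_, G0I_conj a⟩
    refine (mem_SU3 σ hσq _).mpr ?_
    exact adjI_G0I σ h2 ha0 ha
  · intro g hg x y z hgv
    rw [mem_SU3 σ hσq, hgv, adjI_dg, dg_mul, ← dg_one] at hg
    obtain ⟨hx, -, -⟩ := dg_inj hg
    have hx0 : x ≠ 0 := by
      intro h
      rw [h, mul_zero] at hx
      exact zero_ne_one hx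
    refine ⟨⟨dg x x⁻¹ 1, by rw [det_dg, mul_inv_cancel₀ hx0, one_mul]⟩, ?_, rfl⟩
    refine (mem_SU3 σ hσq _).mpr ?_
    show adjI σ (dg x x⁻¹ 1) * dg x x⁻¹ 1 = 1
    rw [adjI_dg, dg_mul, map_one, one_mul, hx, map_inv₀, ← mul_inv, hx, inv_one, dg_one]
  · refine ⟨⟨dg i (-i) 1, by rw [det_dg, mul_one, mul_neg, hi, neg_neg]⟩, ?_, rfl⟩
    refine (mem_SU3 σ hσq _).mpr ?_
    show adjI σ (dg i (-i) 1) * dg i (-i) 1 = 1
    rw [adjI_dg, dg_mul, map_one, one_mul, map_neg, hσi, neg_neg, neg_mul, hi, neg_neg,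
      mul_neg, hi, neg_neg, dg_one]

/-! ### the Witt form -/

theorem sdData {q : ℕ} (hq : Fintype.card F = q ^ 2) (h4 : q % 4 = 1) (σ : F →+* F)
    (hσq : ∀ x, σ x = x ^ q) [hσ : Fact (∀ x, σ (σ x) = x)] :
    ∃ i a τ₀ s₁ : F, SDData σ i a τ₀ s₁ := by
  have hodd : q % 2 = 1 := by omega
  have h2 : (2 : F) ≠ 0 := two_ne_zero_of_card hq (by rw [Nat.pow_mod, hodd])
  obtain ⟨i, hi⟩ := exists_sq_neg_one (F := F) hq (sq_mod_four hodd)
  obtain ⟨a, ha0, ha⟩ := exists_half_norm hq σ hσq h2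
  have hσi : σ i = i := by
    rw [hσq]
    obtain ⟨m, rfl⟩ : ∃ m, q = 4 * m + 1 := ⟨q / 4, by omega⟩
    exact (pow_of_i hi m).1
  have hi0 := i_ne_zero hi h2
  -- the odd part of `q² - 1`
  have hq2 : 2 ≤ q := Herm.two_le_q hq
  have hne : q ^ 2 - 1 ≠ 0 := by
    have : 4 ≤ q ^ 2 := by nlinarith
    omega
  obtain ⟨k, m, hm, hkm⟩ := Nat.exists_eq_two_pow_mul_odd hne
  have hpow : ∀ x : F, x ≠ 0 → (x ^ m) ^ 2 ^ k = 1 := by
    intro x hx
    rw [← pow_mul, mul_comm, ← hkm, ← hq]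
    exact FiniteField.pow_card_sub_one_eq_one x hx
  -- `τ₀`
  have hnid : σ ≠ RingHom.id F := Herm.frob_ne_id hq σ hσq
  obtain ⟨θ, hθ⟩ : ∃ θ : F, σ θ ≠ θ := by
    by_contra h
    push_neg at h
    exact hnid (RingHom.ext h)
  have hu0 : θ - σ θ ≠ 0 := fun h => hθ (sub_eq_zero.mp h).symm
  have hσu : σ (θ - σ θ) = -(θ - σ θ) := by rw [map_sub, hσ.out]; ring
  -- `s₁`
  obtain ⟨s₀, hs00, hs0⟩ := Herm.frob_norm_surj hq σ hσq i hi0 hσi
  obtain ⟨r, hr⟩ := hm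
  have hmm : m * m = 4 * (r * (r + 1)) + 1 := by rw [hr]; ring
  refine ⟨i, a, (θ - σ θ) ^ m, s₀ ^ (m * m), hi, hσi, h2, ha, ha0, ?_, pow_ne_zero _ hu0,
    ⟨k, hpow _ hu0⟩, ?_, ⟨k, ?_⟩, ?_⟩
  · rw [map_pow, hσu, Odd.neg_pow ⟨r, hr⟩]
  · rw [map_pow, ← mul_pow, hs0, hmm]
    exact (pow_of_i hi _).1
  · rw [pow_mul, ← pow_mul, mul_comm, pow_mul, hpow _ hs00, one_pow]
  · rintro y hy ⟨l, hl⟩
    rw [hσq, ← pow_succ'] at hy
    have d1 := orderOf_dvd_of_pow_eq_one hl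
    have d2 := orderOf_dvd_of_pow_eq_one hy
    obtain ⟨j, hjl, hj⟩ := (Nat.dvd_prime_pow Nat.prime_two).mp d1
    have hj1 : j ≤ 1 := by
      by_contra hcon
      have h4' : 4 ∣ orderOf y := by
        rw [hj]
        have : (4 : ℕ) = 2 ^ 2 := by norm_num
        rw [this]
        exact pow_dvd_pow 2 (by omega)
      have := h4'.trans d2
      omega
    have h3 : orderOf y ∣ 2 := by
      rw [hj]
      have : (2 : ℕ) = 2 ^ 1 := by norm_num
      conv_rhs => rw [this]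
      exact pow_dvd_pow 2 hj1
    have := orderOf_dvd_iff_pow_eq_one.mp h3
    rw [← pow_two]
    exact this

/-- **`PSU₃(q)`, `q` odd: the `2`-fusion system is simple.** -/
theorem psu3_fusion_simple {q : ℕ} (hq : Fintype.card F = q ^ 2) (hodd : q % 2 = 1)
    (S : Sylow 2 (Cfsg.PSU 3 F q)) :
    (groupFusionSystem (S : Subgroup (Cfsg.PSU 3 F q))).IsSimple 2 := by
  have h : q % 4 = 1 ∨ q % 4 = 3 := by omega
  rcases h with h4 | h4
  · obtain ⟨σ, hσq⟩ := Herm.exists_frob hq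
    have hσσ : ∀ x, σ (σ x) = x := Herm.frob_frob hq σ hσq
    haveI hσ : Fact (∀ x, σ (σ x) = x) := ⟨hσσ⟩
    have hne : σ ≠ RingHom.id F := Herm.frob_ne_id hq σ hσq
    have H : FH σ := by
      refine ⟨?_, ?_, Herm.frob_norm_surj hq σ hσq⟩
      · by_contra h
        push_neg at h
        exact hne (RingHom.ext h)
      · intro c hc
        exact Witt.exists_trace_eq σ hne hσσ c hc
    obtain ⟨P, hP⟩ := exists_P σ H (n := 3)
    obtain ⟨i, a, τ₀, s₁, hD⟩ := sdData hq h4 σ hσq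
    exact sd_fusion_simple σ hD (suEquiv σ hσq P hP) S
  · obtain ⟨i, hD⟩ := wreathData (F := F) hq h4
    exact wreath_fusion_simple hD (MulEquiv.refl _) S

end Cfsg.Agent.Helper25.Mono3
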