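import Mathlib
import Cfsg.Agent.Lib.Helper25.DihExt2
import Cfsg.Agent.Lib.Helper25.Wreath3

/-!
# Rotation-type `3 × 3` matrices (the non-split torus of `SL₃`)
-/

set_option autoImplicit false
set_option linter.style.haveILetI false
set_option linter.unusedSectionVars false
set_option linter.unusedSimpArgs false
set_option linter.unusedTactic false

namespace Cfsg.Agent.Helper25.Rot3

open Matrix Cfsg.Agent.Helper25.Mono3

variable {F : Type*} [Field F]

/-- the matrix of multiplication by `α + β i` on the plane, and `γ` on the axis -/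
def Rm (α β γ : F) : Matrix (Fin 3) (Fin 3) F := !![α, -β, 0; β, α, 0; 0, 0, γ]

/-- the reflection `diag(1,-1,-1)` -/
def Wr : Matrix (Fin 3) (Fin 3) F := dg 1 (-1) (-1)

theorem Rm_mul (α β γ α' β' γ' : F) :
    Rm α β γ * Rm α' β' γ' = Rm (α * α' - β * β') (α * β' + β * α') (γ * γ') := by
  ext i j
  fin_cases i <;> fin_cases j <;> simp [Rm, Matrix.mul_apply, Fin.sum_univ_three] <;> ring

theorem Rm_one : Rm (1 : F) 0 1 = 1 := by
  ext i j
  fin_cases i <;> fin_cases j <;> simp [Rm, Matrix.one_apply]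

theorem det_Rm (α β γ : F) : (Rm α β γ).det = (α * α + β * β) * γ := by
  rw [Matrix.det_fin_three]
  simp [Rm]
  ring

theorem det_Wr : (Wr : Matrix (Fin 3) (Fin 3) F).det = 1 := by
  rw [Wr, det_dg]; ring

theorem Wr_mul_Wr : (Wr : Matrix (Fin 3) (Fin 3) F) * Wr = 1 := by
  rw [Wr, dg_mul, ← dg_one]; congr 1 <;> ring

theorem Wr_Rm_Wr (α β γ : F) : Wr * Rm α β γ * Wr = Rm α (-β) γ := by
  ext i j
  fin_cases i <;> fin_cases j <;> simp [Rm, Wr, dg, Matrix.mul_apply, Fin.sum_univ_three]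

theorem Rm_inj {α β γ α' β' γ' : F} (h : Rm α β γ = Rm α' β' γ') : α = α' ∧ β = β' ∧ γ = γ' := by
  refine ⟨?_, ?_, ?_⟩
  · simpa [Rm] using congrFun (congrFun h 0) 0
  · simpa [Rm] using congrFun (congrFun h 1) 0
  · simpa [Rm] using congrFun (congrFun h 2) 2

theorem Rm_apply_22 (α β γ : F) : Rm α β γ 2 2 = γ := by simp [Rm]

theorem eq_Rm_of {M : Matrix (Fin 3) (Fin 3) F} (h02 : M 0 2 = 0) (h12 : M 1 2 = 0)
    (h20 : M 2 0 = 0) (h21 : M 2 1 = 0) (h11 : M 1 1 = M 0 0) (h01 : M 0 1 = -M 1 0) :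
    M = Rm (M 0 0) (M 1 0) (M 2 2) := by
  ext i j
  fin_cases i <;> fin_cases j <;> simp [Rm, h02, h12, h20, h21, h11, h01]

theorem Wr_mul_eq_Rm_of {M : Matrix (Fin 3) (Fin 3) F} (h02 : M 0 2 = 0) (h12 : M 1 2 = 0)
    (h20 : M 2 0 = 0) (h21 : M 2 1 = 0) (h11 : M 1 1 = -M 0 0) (h01 : M 0 1 = M 1 0) :
    Wr * M = Rm (M 0 0) (-M 1 0) (-M 2 2) := by
  ext i j
  fin_cases i <;> fin_cases j <;>
    simp [Rm, Wr, dg, Matrix.mul_apply, Fin.sum_univ_three, h02, h12, h20, h21, h11, h01]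

/-- entry equations -/
theorem rot_entry_eqs {M : Matrix (Fin 3) (Fin 3) F} {ε u₁ u₂ : F}
    (h : M * Rm 0 ε 1 = Rm u₁ u₂ 1 * M) :
    (ε * M 0 1 = u₁ * M 0 0 - u₂ * M 1 0 ∧ -(ε * M 0 0) = u₁ * M 0 1 - u₂ * M 1 1 ∧
      M 0 2 = u₁ * M 0 2 - u₂ * M 1 2) ∧
    (ε * M 1 1 = u₂ * M 0 0 + u₁ * M 1 0 ∧ -(ε * M 1 0) = u₂ * M 0 1 + u₁ * M 1 1 ∧
      M 1 2 = u₂ * M 0 2 + u₁ * M 1 2) ∧
    (ε * M 2 1 = M 2 0 ∧ -(ε * M 2 0) = M 2 1) := by
  have key : ∀ i j, (M * Rm 0 ε 1) i j = (Rm u₁ u₂ 1 * M) i j := fun i j => by rw [h]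
  have k00 := key 0 0
  have k01 := key 0 1
  have k02 := key 0 2
  have k10 := key 1 0
  have k11 := key 1 1
  have k12 := key 1 2
  have k20 := key 2 0
  have k21 := key 2 1
  simp [Rm, Matrix.mul_apply, Fin.sum_univ_three] at k00 k01 k02 k10 k11 k12 k20 k21
  refine ⟨⟨?_, ?_, ?_⟩, ⟨?_, ?_, ?_⟩, ⟨?_, ?_⟩⟩
  · linear_combination k00
  · linear_combination k01
  · linear_combination k02
  · linear_combination k10
  · linear_combination k11
  · linear_combination k12
  · linear_combination k20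
  · linear_combination k21

/-- a matrix conjugating the rotation by `ε i` to a rotation of norm one is in `T ∪ wT` -/
theorem rot_shape {M : Matrix (Fin 3) (Fin 3) F} (h2 : (2 : F) ≠ 0) (hdet : M.det ≠ 0)
    {ε u₁ u₂ : F} (hε : ε * ε = 1) (hu : u₁ * u₁ + u₂ * u₂ = 1)
    (h : M * Rm 0 ε 1 = Rm u₁ u₂ 1 * M) :
    M = Rm (M 0 0) (M 1 0) (M 2 2) ∨ Wr * M = Rm (M 0 0) (-M 1 0) (-M 2 2) := by
  obtain ⟨⟨e00, e01, e02⟩, ⟨e10, e11, e12⟩, ⟨e20, e21⟩⟩ := rot_entry_eqs h
  have hε0 : ε ≠ 0 := by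
    intro h0; rw [h0, mul_zero] at hε; exact zero_ne_one hε
  have h20 : M 2 0 = 0 := by
    have : 2 * M 2 0 = 0 := by
      have h3 : ε * M 2 1 = -(ε * ε) * M 2 0 := by rw [← e21]; ring
      rw [hε] at h3
      linear_combination -e20 + h3
    rcases mul_eq_zero.mp this with h3 | h3
    · exact absurd h3 h2
    · exact h3
  have h21 : M 2 1 = 0 := by rw [← e21, h20, mul_zero, neg_zero]
  have hdet' : M.det = M 2 2 * (M 0 0 * M 1 1 - M 0 1 * M 1 0) := by
    rw [Matrix.det_fin_three, h20, h21]; ring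
  have hA : M 0 0 * M 1 1 - M 0 1 * M 1 0 ≠ 0 := by
    intro h0; apply hdet; rw [hdet', h0, mul_zero]
  -- trace argument
  have hu1 : u₁ = 0 := by
    have h3 : 2 * ε * (M 0 1 * M 1 1 + M 0 0 * M 1 0) = 0 := by
      linear_combination (M 1 1) * e00 + (-M 0 0) * e11 + (M 0 1) * e10 + (-M 1 0) * e01
    have h4 : M 0 1 * M 1 1 + M 0 0 * M 1 0 = 0 := by
      rcases mul_eq_zero.mp h3 with h5 | h5
      · exact absurd h5 (mul_ne_zero h2 hε0)
      · exact h5
    have h5 : u₁ * (M 0 0 * M 1 1 - M 0 1 * M 1 0) = 0 := by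
      linear_combination (-M 1 1) * e00 + (M 1 0) * e01 + ε * h4
    rcases mul_eq_zero.mp h5 with h6 | h6
    · exact h6
    · exact absurd h6 hA
  subst hu1
  have hu2 : (u₂ - ε) * (u₂ + ε) = 0 := by linear_combination hu - hε
  have h02 : M 0 2 = 0 := by
    have : 2 * M 0 2 = 0 := by linear_combination e02 - u₂ * e12 - M 0 2 * hu
    rcases mul_eq_zero.mp this with h3 | h3
    · exact absurd h3 h2
    · exact h3
  have h12 : M 1 2 = 0 := by rw [e12, h02]; ring
  rcases mul_eq_zero.mp hu2 with h3 | h3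
  · left
    have hu2' : u₂ = ε := sub_eq_zero.mp h3
    subst hu2'
    apply eq_Rm_of h02 h12 h20 h21
    · have : u₂ * (M 1 1 - M 0 0) = 0 := by linear_combination e10
      rcases mul_eq_zero.mp this with h5 | h5
      · exact absurd h5 hε0
      · exact sub_eq_zero.mp h5
    · have : u₂ * (M 0 1 + M 1 0) = 0 := by linear_combination e00
      rcases mul_eq_zero.mp this with h5 | h5
      · exact absurd h5 hε0
      · exact eq_neg_of_add_eq_zero_left h5
  · right
    have hu2' : u₂ = -ε := eq_neg_of_add_eq_zero_left h3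
    subst hu2'
    apply Wr_mul_eq_Rm_of h02 h12 h20 h21
    · have : ε * (M 1 1 + M 0 0) = 0 := by linear_combination e10
      rcases mul_eq_zero.mp this with h5 | h5
      · exact absurd h5 hε0
      · exact eq_neg_of_add_eq_zero_left h5
    · have : ε * (M 0 1 - M 1 0) = 0 := by linear_combination e00
      rcases mul_eq_zero.mp this with h5 | h5
      · exact absurd h5 hε0
      · exact sub_eq_zero.mp h5

/-- a matrix commuting with the rotation by `ε i` is a rotation-type matrix -/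
theorem rot_of_comm {M : Matrix (Fin 3) (Fin 3) F} (h2 : (2 : F) ≠ 0) (hdet : M.det ≠ 0)
    {ε : F} (hε : ε * ε = 1) (h : M * Rm 0 ε 1 = Rm 0 ε 1 * M) :
    M = Rm (M 0 0) (M 1 0) (M 2 2) := by
  have hε0 : ε ≠ 0 := by
    intro h0; rw [h0, mul_zero] at hε; exact zero_ne_one hε
  rcases rot_shape h2 hdet hε (by rw [zero_mul, zero_add, hε]) h with h3 | h3
  · exact h3
  · exfalso
    obtain ⟨⟨e00, e01, -⟩, ⟨e10, e11, -⟩, -⟩ := rot_entry_eqs h
    have k00 := congrFun (congrFun h3 0) 0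
    have k01 := congrFun (congrFun h3 0) 1
    have k10 := congrFun (congrFun h3 1) 0
    have k11 := congrFun (congrFun h3 1) 1
    have k20 := congrFun (congrFun h3 2) 0
    have k21 := congrFun (congrFun h3 2) 1
    have k02 := congrFun (congrFun h3 0) 2
    have k12 := congrFun (congrFun h3 1) 2
    simp [Rm, Wr, dg, Matrix.mul_apply, Fin.sum_univ_three] at k00 k01 k10 k11 k20 k21 k02 k12
    -- `M 1 1 = -M 0 0`, `M 0 1 = M 1 0`, together with commutation, force `M 0 0 = M 1 0 = 0`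
    have h00 : M 0 0 = 0 := by
      have : 2 * ε * M 0 0 = 0 := by linear_combination -e10 - ε * k11
      rcases mul_eq_zero.mp this with h5 | h5
      · exact absurd h5 (mul_ne_zero h2 hε0)
      · exact h5
    have h10 : M 1 0 = 0 := by
      have : 2 * ε * M 1 0 = 0 := by linear_combination e00 - ε * k01
      rcases mul_eq_zero.mp this with h5 | h5
      · exact absurd h5 (mul_ne_zero h2 hε0)
      · exact h5
    apply hdet
    rw [Matrix.det_fin_three, h00, h10, k20, k21]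
    have h11 : M 1 1 = 0 := by
      have := k11; rw [h00] at this; exact neg_eq_zero.mp this
    have h01 : M 0 1 = 0 := by rw [k01, h10]
    rw [h11, h01]; ring

end Cfsg.Agent.Helper25.Rot3
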