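import Mathlib
import Cfsg.Agent.Lib.Helper25.Rot3a

/-!
# The semidihedral Sylow `2`-subgroup of `SL₃(F)`, `|F| ≡ 3 mod 4`
-/

set_option autoImplicit false
set_option linter.style.haveILetI false
set_option linter.unusedSectionVars false
set_option linter.unusedSimpArgs false
set_option linter.unusedTactic false

namespace Cfsg.Agent.Helper25.Rot3

open Matrix Cfsg Cfsg.FusionSystem Cfsg.Agent.Helper25.SimpCrit Cfsg.Agent.Helper25.DihExt
  Cfsg.Agent.Helper25.Mono3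

variable {F : Type*} [Field F]

local notation "SL" => SpecialLinearGroup (Fin 3) F

theorem sl_val_mul (a b : SL) : (a * b).1 = a.1 * b.1 := rfl

theorem sl_val_one : (1 : SL).1 = 1 := rfl

theorem sl_ext {a b : SL} (h : a.1 = b.1) : a = b := Subtype.ext h

theorem sl_val_pow (a : SL) (n : ℕ) : (a ^ n).1 = a.1 ^ n := by
  induction n with
  | zero => rfl
  | succ n ih => rw [pow_succ, pow_succ, sl_val_mul, ih]

theorem det_of_Rm {a : SL} {α β γ : F} (h : a.1 = Rm α β γ) : (α * α + β * β) * γ = 1 := by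
  have := a.2
  rwa [h, det_Rm] at this

theorem val_inv_of_Rm {a : SL} {α β γ : F} (h : a.1 = Rm α β γ) :
    (a⁻¹).1 = Rm (α * γ) (-(β * γ)) (α * α + β * β) := by
  have hdet := det_of_Rm h
  have h1 : a.1 * Rm (α * γ) (-(β * γ)) (α * α + β * β) = 1 := by
    rw [h, Rm_mul, ← Rm_one]
    congr 1
    · linear_combination hdet
    · ring
    · linear_combination hdet
  have h2 : (a⁻¹).1 * a.1 = 1 := by rw [← sl_val_mul, inv_mul_cancel, sl_val_one]
  calc (a⁻¹).1 = (a⁻¹).1 * (a.1 * Rm (α * γ) (-(β * γ)) (α * α + β * β)) := by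
        rw [h1, Matrix.mul_one]
    _ = _ := by rw [← Matrix.mul_assoc, h2, Matrix.one_mul]

/-- the non-split torus -/
def TR : Subgroup SL where
  carrier := {g | ∃ α β γ, g.1 = Rm α β γ}
  one_mem' := ⟨1, 0, 1, Rm_one.symm⟩
  mul_mem' := by
    rintro a b ⟨α, β, γ, ha⟩ ⟨α', β', γ', hb⟩
    exact ⟨_, _, _, by rw [sl_val_mul, ha, hb, Rm_mul]⟩
  inv_mem' := by
    rintro a ⟨α, β, γ, ha⟩
    exact ⟨_, _, _, val_inv_of_Rm ha⟩

/-- the reflection as an element of `SL₃` -/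
def wR : SL := ⟨Wr, det_Wr⟩

theorem wR_val : (wR : SL).1 = Wr := rfl

variable (h2 : (2 : F) ≠ 0)
include h2

theorem dataR : Data (TR : Subgroup SL) wR where
  comm := by
    rintro a ⟨α, β, γ, ha⟩ b ⟨α', β', γ', hb⟩
    apply sl_ext
    rw [sl_val_mul, sl_val_mul, ha, hb, Rm_mul, Rm_mul]
    congr 1 <;> ring
  wsq := by
    apply sl_ext
    rw [sl_val_mul, wR_val, Wr_mul_Wr, sl_val_one]
  wT := by
    rintro t ⟨α, β, γ, ht⟩
    exact ⟨_, _, _, by rw [sl_val_mul, sl_val_mul, wR_val, ht, Wr_Rm_Wr]⟩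
  wnot := by
    rintro ⟨α, β, γ, h⟩
    have h00 := congrFun (congrFun h 0) 0
    have h11 := congrFun (congrFun h 1) 1
    simp [wR_val, Wr, dg, Rm] at h00 h11
    apply h2
    linear_combination h00 - h11

/-- the `2`-part of the torus -/
abbrev DR : Subgroup SL := D2 (dataR h2)

/-- the semidihedral group -/
abbrev UR : Subgroup SL := U2 (dataR h2)

/-- the commutator `[d, w]` -/
theorem comm_wR_val {d : SL} {α β γ : F} (h : d.1 = Rm α β γ) :
    (d * wR * d⁻¹ * wR).1 = Rm ((α * α - β * β) * γ) (2 * α * β * γ) 1 := by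
  have hdet := det_of_Rm h
  rw [sl_val_mul, sl_val_mul, sl_val_mul, wR_val, val_inv_of_Rm h, h, Matrix.mul_assoc,
    Matrix.mul_assoc, ← Matrix.mul_assoc Wr, Wr_Rm_Wr, Rm_mul]
  congr 1
  · ring
  · ring
  · linear_combination hdet

/-- **(N)** -/
theorem normalizer_shapeR {d : SL} (hd : d ∈ DR h2) {ε : F} (hε : ε * ε = 1)
    (hdw : (d * wR * d⁻¹ * wR).1 = Rm 0 ε 1)
    {g : SL} (hg : g ∈ Subgroup.normalizer ((UR h2 : Subgroup SL) : Set SL)) :
    g ∈ (TR : Subgroup SL) ∨ wR * g ∈ (TR : Subgroup SL) := by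
  have hD := dataR h2
  have ha : g * d * g⁻¹ ∈ UR h2 :=
    (Subgroup.mem_normalizer_iff.mp hg d).mp (D2_le_U2 hD hd)
  have hb : g * wR * g⁻¹ ∈ UR h2 :=
    (Subgroup.mem_normalizer_iff.mp hg _).mp (w_mem_U2 hD)
  obtain ⟨e, he, hcomm⟩ := commutator_U2 hD ha hb
  obtain ⟨α, β, γ, heαβγ⟩ := he.1
  have hdet := det_of_Rm heαβγ
  have h1 : g * (d * wR * d⁻¹ * wR⁻¹) = (e * wR * e⁻¹ * wR) * g := by
    rw [← hcomm]
    group
  rw [hD.w_inv] at h1
  have h3 := congrArg (fun a : SL => a.1) h1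
  simp only [sl_val_mul g, sl_val_mul _ g] at h3
  rw [hdw, comm_wR_val h2 heαβγ] at h3
  have hdetg : g.1.det ≠ 0 := by rw [g.2]; exact one_ne_zero
  have huu : (α * α - β * β) * γ * ((α * α - β * β) * γ) + 2 * α * β * γ * (2 * α * β * γ) = 1 := by
    have : (α * α - β * β) * γ * ((α * α - β * β) * γ) + 2 * α * β * γ * (2 * α * β * γ) =
        ((α * α + β * β) * γ) ^ 2 := by ring
    rw [this, hdet, one_pow]
  rcases rot_shape h2 hdetg hε huu h3 with h4 | h4
  · exact Or.inl ⟨_, _, _, h4⟩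
  · exact Or.inr ⟨_, _, _, by rw [sl_val_mul, wR_val]; exact h4⟩

/-- a central involution of `U` is `diag(-1,-1,1)` -/
theorem central_involution_valR {ε : F} (hε : ε * ε = 1) {t : SL} (ht : t.1 = Rm 0 ε 1)
    (htU : t ∈ UR h2) {u : SL} (hcent : ∀ x ∈ UR h2, u * x = x * u)
    (hu2 : u * u = 1) (hu1 : u ≠ 1) : u.1 = Rm (-1) 0 1 := by
  have h1 : u.1 * Rm 0 ε 1 = Rm 0 ε 1 * u.1 := by
    rw [← ht, ← sl_val_mul, ← sl_val_mul, hcent t htU]
  have hdetu : u.1.det ≠ 0 := by rw [u.2]; exact one_ne_zero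
  have h3 := rot_of_comm h2 hdetu hε h1
  set α := u.1 0 0
  set β := u.1 1 0
  set γ := u.1 2 2
  have h4 : Wr * u.1 * Wr = u.1 := by
    have := hcent wR (w_mem_U2 (dataR h2))
    have h5 : (wR * u * wR).1 = u.1 := by
      rw [mul_assoc, this, ← mul_assoc, (dataR h2).wsq, one_mul]
    calc Wr * u.1 * Wr = (wR * u * wR).1 := rfl
      _ = u.1 := h5
  rw [h3, Wr_Rm_Wr] at h4
  obtain ⟨-, hβ, -⟩ := Rm_inj h4
  have hβ0 : β = 0 := by
    have : 2 * β = 0 := by linear_combination -hβ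
    rcases mul_eq_zero.mp this with h5 | h5
    · exact absurd h5 h2
    · exact h5
  have h6 := congrArg (fun a : SL => a.1) hu2
  simp only [sl_val_mul, sl_val_one, h3, Rm_mul, ← Rm_one] at h6
  obtain ⟨hαα, -, hγγ⟩ := Rm_inj h6
  rw [hβ0] at hαα
  have hαα' : α * α = 1 := by linear_combination hαα
  have hdet := det_of_Rm h3
  rw [hβ0] at hdet
  have hγ1 : γ = 1 := by
    have : (α * α + 0 * 0) * γ = γ := by rw [hαα']; ring
    rw [← this, hdet]
  rcases mul_self_eq_one_iff.mp hαα' with hα | hα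
  · exfalso
    apply hu1
    apply sl_ext
    rw [h3, hβ0, hα, hγ1, Rm_one, sl_val_one]
  · rw [h3, hβ0, hα, hγ1]

end Cfsg.Agent.Helper25.Rot3
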