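import Mathlib
import Cfsg.Agent.Lib.Helper25.Rot3b

/-!
# `PSL₃(F)`, `|F|` odd: the `2`-fusion system is simple
-/

set_option autoImplicit false
set_option linter.style.haveILetI false
set_option linter.unusedSectionVars false
set_option linter.unusedSimpArgs false
set_option linter.unusedTactic false

namespace Cfsg.Agent.Helper25.DihExt

open Cfsg.Agent.Helper25.SimpCrit

variable {G : Type*} [Group G] {T : Subgroup G} {w : G}

theorem comm_w_mem' (hd : Data T w) {T' : Subgroup G} (hfc : FusClosed (U2 hd) T')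
    (hw : w ∈ T') {d : G} (hdD : d ∈ D2 hd) : d * w * d⁻¹ * w ∈ T' := by
  apply T'.mul_mem _ hw
  apply hfc _ hw
  exact (U2 hd).mul_mem ((U2 hd).mul_mem (D2_le_U2 _ hdD) (w_mem_U2 _))
    ((U2 hd).inv_mem (D2_le_U2 _ hdD))

theorem eq_U2_of_le (hd : Data T w) {T' : Subgroup G} (hT'U : T' ≤ U2 hd) (hw : w ∈ T')
    (hD : D2 hd ≤ T') : T' = U2 hd := by
  apply le_antisymm hT'U
  intro x hx
  rcases hx with h | h
  · exact hD h
  · have := T'.mul_mem hw (hD h)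
    rwa [hd.w_w_mul] at this

end Cfsg.Agent.Helper25.DihExt

namespace Cfsg.Agent.Helper25.Rot3

open Matrix Cfsg Cfsg.FusionSystem Cfsg.Agent.Helper25.SimpCrit Cfsg.Agent.Helper25.DihExt
  Cfsg.Agent.Helper25.Mono3

variable {F : Type*} [Field F]

local notation "SL" => SpecialLinearGroup (Fin 3) F

/-- the conjugator of the rotation by `ε i` to `w d₁` -/
def G1R (ε α β : F) : Matrix (Fin 3) (Fin 3) F :=
  !![1, ε * α, 0; 0, -(ε * β), 0; 0, 0, -(ε * β)⁻¹]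

theorem det_G1R {ε α β : F} (h : ε * β ≠ 0) : (G1R ε α β).det = 1 := by
  rw [Matrix.det_fin_three]
  simp [G1R]
  field_simp
  exact div_self h

theorem G1R_conj {ε α β : F} (hε : ε * ε = 1) (hαβ : α * α + β * β = -1) :
    G1R ε α β * Rm 0 ε 1 = (Wr * Rm α β (-1)) * G1R ε α β := by
  ext i j
  fin_cases i <;> fin_cases j <;>
    simp [G1R, Rm, Wr, dg, Matrix.mul_apply, Fin.sum_univ_three]
  · linear_combination α * hε
  · linear_combination (-ε) * hαβ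
  · linear_combination β * hε
  · ring

theorem PP_conj : (Pm : Matrix (Fin 3) (Fin 3) F) * Pm * Rm (-1) 0 1 = Wr * (Pm * Pm) := by
  ext i j
  fin_cases i <;> fin_cases j <;>
    simp [Pm, Rm, Wr, dg, Matrix.mul_apply, Fin.sum_univ_three]

theorem gam_mul {a b : SL} (ha : a ∈ (TR : Subgroup SL)) (hb : b ∈ (TR : Subgroup SL)) :
    (a * b).1 2 2 = a.1 2 2 * b.1 2 2 := by
  obtain ⟨α, β, γ, ha⟩ := ha
  obtain ⟨α', β', γ', hb⟩ := hb
  rw [sl_val_mul, ha, hb, Rm_mul, Rm_apply_22, Rm_apply_22, Rm_apply_22]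

theorem gam_pow {a : SL} (ha : a ∈ (TR : Subgroup SL)) (n : ℕ) :
    (a ^ n).1 2 2 = (a.1 2 2) ^ n := by
  induction n with
  | zero => simp [sl_val_one]
  | succ n ih => rw [pow_succ, gam_mul (TR.pow_mem ha n) ha, ih, pow_succ]

theorem gam_inv {a : SL} (ha : a ∈ (TR : Subgroup SL)) : (a⁻¹).1 2 2 = (a.1 2 2)⁻¹ := by
  have h1 := gam_mul (TR.inv_mem ha) ha
  rw [inv_mul_cancel, sl_val_one, Matrix.one_apply_eq] at h1
  exact eq_inv_of_mul_eq_one_left h1.symm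

/-- hypotheses of the semidihedral case for `SL₃(F)` -/
structure RotData (F : Type*) [Field F] (h2 : (2 : F) ≠ 0) (ε : F) : Prop where
  hns : ∀ α : F, α * α ≠ -1
  hε : ε * ε = 1
  hd0 : ∃ d₀ ∈ DR h2, (d₀ * wR * d₀⁻¹ * wR).1 = Rm 0 ε 1
  hd1 : ∃ d₁ ∈ DR h2, d₁.1 2 2 = -1
  hpm : ∀ x : F, (∃ k : ℕ, x ^ 2 ^ k = 1) → x = 1 ∨ x = -1

variable {h2 : (2 : F) ≠ 0} {ε : F}

theorem rot_noClosed [Fintype F] (hD : RotData F h2 ε) : NoClosed (UR h2) := by
  intro T' hT'U hne hfc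
  have hdat := dataR h2
  obtain ⟨d0, hd0D, hdw⟩ := hD.hd0
  have htU : d0 * wR * d0⁻¹ * wR ∈ UR h2 :=
    (UR h2).mul_mem ((UR h2).mul_mem ((UR h2).mul_mem (D2_le_U2 _ hd0D) (w_mem_U2 _))
      ((UR h2).inv_mem (D2_le_U2 _ hd0D))) (w_mem_U2 _)
  obtain ⟨z, hzT, hz1, hz2, hzc⟩ := exists_central_involution (U2_isPGroup hdat) hT'U hne
    (fun x hx u hu => hfc x hx u ((UR h2).mul_mem ((UR h2).mul_mem hu (hT'U hx))
      ((UR h2).inv_mem hu)))
  have hz := central_involution_valR h2 hD.hε hdw htU hzc hz2 hz1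
  have hw : (wR : SL) ∈ T' := by
    apply fus_step hfc (g := (pS * pS : SL)) hzT (w_mem_U2 _)
    apply sl_ext
    show Pm * Pm * z.1 = Wr * (Pm * Pm)
    rw [hz]
    exact PP_conj
  have ht1 : d0 * wR * d0⁻¹ * wR ∈ T' := comm_w_mem' hdat hfc hw hd0D
  apply eq_U2_of_le hdat hT'U hw
  have claim5 : ∀ d₁ : SL, d₁ ∈ DR h2 → d₁.1 2 2 = -1 → d₁ ∈ T' := by
    intro d₁ hd₁ hγ
    obtain ⟨α, β, γ, hv⟩ := hd₁.1
    rw [hv, Rm_apply_22] at hγ
    subst hγ
    have hdet := det_of_Rm hv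
    have hαβ : α * α + β * β = -1 := by linear_combination -hdet
    have hβ : β ≠ 0 := by
      intro h0
      rw [h0, mul_zero, add_zero] at hαβ
      exact hD.hns α hαβ
    have hε0 : ε ≠ 0 := by
      intro h0
      have := hD.hε
      rw [h0, mul_zero] at this
      exact zero_ne_one this
    have hεβ : ε * β ≠ 0 := mul_ne_zero hε0 hβ
    have hwd : wR * d₁ ∈ T' := by
      apply fus_step hfc (g := (⟨G1R ε α β, det_G1R hεβ⟩ : SL)) ht1
        ((UR h2).mul_mem (w_mem_U2 _) (D2_le_U2 _ hd₁))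
      apply sl_ext
      show G1R ε α β * (d0 * wR * d0⁻¹ * wR).1 = (Wr * d₁.1) * G1R ε α β
      rw [hdw, hv]
      exact G1R_conj hD.hε hαβ
    have := T'.mul_mem hw hwd
    rwa [hdat.w_w_mul] at this
  intro d hd
  obtain ⟨hdT, k, hk⟩ := hd
  have hγk : (d.1 2 2) ^ 2 ^ k = 1 := by
    rw [← gam_pow hdT, hk, sl_val_one, Matrix.one_apply_eq]
  rcases hD.hpm _ ⟨k, hγk⟩ with h1 | h1
  · obtain ⟨d₁, hd₁D, hd₁⟩ := hD.hd1
    have hd₁T' := claim5 d₁ hd₁D hd₁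
    have h3 : d₁⁻¹ * d ∈ DR h2 := (DR h2).mul_mem ((DR h2).inv_mem hd₁D) ⟨hdT, k, hk⟩
    have h4 : (d₁⁻¹ * d).1 2 2 = -1 := by
      rw [gam_mul (TR.inv_mem hd₁D.1) hdT, gam_inv hd₁D.1, hd₁, h1, mul_one, inv_neg, inv_one]
    have := T'.mul_mem hd₁T' (claim5 _ h3 h4)
    rwa [mul_inv_cancel_left] at this
  · exact claim5 d ⟨hdT, k, hk⟩ h1

/-- **The semidihedral case for `PSL₃(F)`.** -/
theorem rot_fusion_simple [Fintype F] (hD : RotData F h2 ε)
    (S : Sylow 2 (Matrix.ProjectiveSpecialLinearGroup (Fin 3) F)) :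
    (groupFusionSystem (S : Subgroup (Matrix.ProjectiveSpecialLinearGroup (Fin 3) F))).IsSimple
      2 := by
  obtain ⟨d0, hd0D, hdw⟩ := hD.hd0
  refine DihExt.fusion_simple (dataR h2)
    (fun g hg => normalizer_shapeR h2 hd0D hD.hε hdw hg) ?_ (rot_noClosed hD) (MulEquiv.refl _) S
  intro z hz k hk
  obtain ⟨r, hr3, hrz⟩ := (Matrix.SpecialLinearGroup.mem_center_iff).mp hz
  have hr3' : r ^ 3 = 1 := by simpa using hr3
  have hrk : r ^ 2 ^ k = 1 := by
    have h1 := congrArg (fun a : SL => a.1 0 0) hk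
    simp only [sl_val_pow, sl_val_one, Matrix.one_apply_eq] at h1
    rw [← hrz, ← map_pow] at h1
    simpa using h1
  have hr1 : r = 1 := by
    have d1 := orderOf_dvd_of_pow_eq_one hr3'
    have d2 := orderOf_dvd_of_pow_eq_one hrk
    have hco : Nat.Coprime 3 (2 ^ k) := Nat.Coprime.pow_right k (by norm_num)
    have := Nat.dvd_gcd d1 d2
    rw [hco.gcd_eq_one, Nat.dvd_one] at this
    exact orderOf_eq_one_iff.mp this
  apply sl_ext
  rw [← hrz, hr1, map_one, sl_val_one]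

end Cfsg.Agent.Helper25.Rot3
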