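import Mathlib
import Cfsg.Agent.Lib.Helper25.Rot3c
import Cfsg.Agent.Lib.Helper25.PSU3Fus

/-!
# `PSL₃(F)`, `|F|` odd: the `2`-fusion system is simple (final assembly)
-/

set_option autoImplicit false
set_option linter.style.haveILetI false
set_option linter.unusedSectionVars false
set_option linter.unusedSimpArgs false
set_option linter.unusedTactic false

namespace Cfsg.Agent.Helper25.Rot3

open Matrix Cfsg Cfsg.FusionSystem Cfsg.Agent.Helper25.SimpCrit Cfsg.Agent.Helper25.DihExt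
  Cfsg.Agent.Helper25.Mono3 Polynomial

variable {F : Type*} [Field F]

local notation "SL" => SpecialLinearGroup (Fin 3) F

theorem Rm_i_sq : (Rm (0 : F) 1 1) ^ 2 = Rm (-1) 0 1 := by
  rw [pow_two, Rm_mul]; congr 1 <;> ring

theorem Rm_i_four : (Rm (0 : F) 1 1) ^ 4 = 1 := by
  have : (Rm (0 : F) 1 1) ^ 4 = (Rm (0 : F) 1 1) ^ 2 * (Rm (0 : F) 1 1) ^ 2 := by
    rw [← pow_add]
  rw [this, Rm_i_sq, Rm_mul, ← Rm_one]; congr 1 <;> ring

theorem Rm_i_pow (j : ℕ) : (Rm (0 : F) 1 1) ^ (4 * j + 1) = Rm 0 1 1 ∧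
    (Rm (0 : F) 1 1) ^ (4 * j + 3) = Rm 0 (-1) 1 := by
  constructor
  · rw [pow_add, pow_mul, Rm_i_four, one_pow, one_mul, pow_one]
  · rw [pow_add, pow_mul, Rm_i_four, one_pow, one_mul]
    have : (Rm (0 : F) 1 1) ^ 3 = (Rm (0 : F) 1 1) ^ 2 * Rm 0 1 1 := by rw [pow_succ]
    rw [this, Rm_i_sq, Rm_mul]; congr 1 <;> ring

theorem comm_pow {G : Type*} [Group G] {T : Subgroup G} {w : G} (hd : Data T w) {t : G}
    (ht : t ∈ T) (m : ℕ) : t ^ m * w * (t ^ m)⁻¹ * w = (t * w * t⁻¹ * w) ^ m := by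
  have hcomm1 : Commute t (w * t⁻¹ * w) := hd.comm _ ht _ (hd.wT _ (T.inv_mem ht))
  have e1 : t ^ m * w * (t ^ m)⁻¹ * w = t ^ m * (w * (t ^ m)⁻¹ * w) := by group
  have e2 : t * w * t⁻¹ * w = t * (w * t⁻¹ * w) := by group
  rw [e1, e2, hcomm1.mul_pow, hd.conj_pow, inv_pow]

variable [Fintype F]

theorem rotData (h4 : Fintype.card F % 4 = 3) (h2 : (2 : F) ≠ 0) : ∃ ε : F, RotData F h2 ε := by
  have hodd : Fintype.card F % 2 = 1 := by omega
  have hdat := dataR h2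
  have hns : ∀ α : F, α * α ≠ -1 := by
    intro α hα
    have h1 : IsSquare (-1 : F) := ⟨α, hα.symm⟩
    have := (FiniteField.isSquare_neg_one_iff (F := F)).mp h1
    omega
  -- `d₀`
  let r₀ : SL := ⟨Rm 1 1 2⁻¹, by rw [det_Rm]; field_simp; norm_num⟩
  have hr₀T : r₀ ∈ (TR : Subgroup SL) := ⟨_, _, _, rfl⟩
  obtain ⟨m, k, hm, hmk⟩ := exists_two_part r₀
  have hc : (r₀ * wR * r₀⁻¹ * wR).1 = Rm 0 1 1 := by
    rw [comm_wR_val h2 (show r₀.1 = Rm 1 1 2⁻¹ from rfl)]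
    congr 1
    · ring
    · field_simp
  have hd₀D : r₀ ^ m ∈ DR h2 := ⟨TR.pow_mem hr₀T m, k, hmk⟩
  have hd₀ : ∃ ε : F, ε * ε = 1 ∧ (r₀ ^ m * wR * (r₀ ^ m)⁻¹ * wR).1 = Rm 0 ε 1 := by
    rw [comm_pow hdat hr₀T, sl_val_pow, hc]
    obtain ⟨r, hr⟩ := hm
    rcases Nat.even_or_odd' r with ⟨j, hj | hj⟩
    · refine ⟨1, by ring, ?_⟩
      have : m = 4 * j + 1 := by omega
      rw [this]; exact (Rm_i_pow j).1
    · refine ⟨-1, by ring, ?_⟩
      have : m = 4 * j + 3 := by omega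
      rw [this]; exact (Rm_i_pow j).2
  obtain ⟨ε, hε, hd₀v⟩ := hd₀
  -- `d₁`
  obtain ⟨a, b, hab⟩ := FiniteField.exists_root_sum_quadratic (R := F) (f := X ^ 2)
    (g := X ^ 2 - C (-1)) (degree_X_pow 2) (degree_X_pow_sub_C (by decide) _) hodd
  have hab' : a * a + b * b = -1 := by
    simp only [eval_pow, eval_X, eval_sub, eval_C] at hab
    linear_combination hab
  let r₁ : SL := ⟨Rm a b (-1), by rw [det_Rm, hab']; ring⟩
  have hr₁T : r₁ ∈ (TR : Subgroup SL) := ⟨_, _, _, rfl⟩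
  obtain ⟨m', k', hm', hmk'⟩ := exists_two_part r₁
  have hd₁D : r₁ ^ m' ∈ DR h2 := ⟨TR.pow_mem hr₁T m', k', hmk'⟩
  have hd₁ : (r₁ ^ m').1 2 2 = -1 := by
    rw [gam_pow hr₁T]
    show (Rm a b (-1) 2 2) ^ m' = -1
    rw [Rm_apply_22, Odd.neg_one_pow hm']
  refine ⟨ε, hns, hε, ⟨_, hd₀D, hd₀v⟩, ⟨_, hd₁D, hd₁⟩, ?_⟩
  -- `2`-elements of `Fˣ`
  rintro x ⟨l, hl⟩
  have hx0 : x ≠ 0 := by
    intro h0
    rw [h0, zero_pow (pow_ne_zero _ (by norm_num))] at hl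
    exact zero_ne_one hl
  have hq := FiniteField.pow_card_sub_one_eq_one x hx0
  have d1 := orderOf_dvd_of_pow_eq_one hl
  have d2 := orderOf_dvd_of_pow_eq_one hq
  obtain ⟨j, hjl, hj⟩ := (Nat.dvd_prime_pow Nat.prime_two).mp d1
  have hj1 : j ≤ 1 := by
    by_contra hcon
    have h4' : 4 ∣ orderOf x := by
      rw [hj]
      have : (4 : ℕ) = 2 ^ 2 := by norm_num
      rw [this]
      exact pow_dvd_pow 2 (by omega)
    have := h4'.trans d2
    omega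
  have h3 : orderOf x ∣ 2 := by
    rw [hj]
    have : (2 : ℕ) = 2 ^ 1 := by norm_num
    conv_rhs => rw [this]
    exact pow_dvd_pow 2 hj1
  have := orderOf_dvd_iff_pow_eq_one.mp h3
  rw [pow_two] at this
  exact mul_self_eq_one_iff.mp this

theorem wreathDataTop (h4 : Fintype.card F % 4 = 1) :
    ∃ i : F, WreathData (⊤ : Subgroup SL) i := by
  have h2 : (2 : F) ≠ 0 := two_ne_zero_of_card rfl (by omega)
  obtain ⟨i, hi⟩ := exists_sq_neg_one (F := F) rfl h4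
  refine ⟨i, Subgroup.mem_top _, Subgroup.mem_top _,
    ⟨⟨G0I 1, det_G0I h2 one_ne_zero⟩, Subgroup.mem_top _, G0I_conj 1⟩, ?_, hi, h2,
    ⟨⟨dg i (-i) 1, by rw [det_dg, mul_one, mul_neg, hi, neg_neg]⟩, Subgroup.mem_top _, rfl⟩⟩
  intro g _ x y z hg
  have hdet := g.2
  rw [hg, det_dg] at hdet
  have hx0 : x ≠ 0 := by
    intro h0; rw [h0] at hdet; simp at hdet
  exact ⟨⟨dg x x⁻¹ 1, by rw [det_dg, mul_inv_cancel₀ hx0, one_mul]⟩, Subgroup.mem_top _, rfl⟩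

/-- **`PSL₃(F)`, `|F|` odd: the `2`-fusion system is simple.** -/
theorem psl3_fusion_simple (hodd : Fintype.card F % 2 = 1)
    (S : Sylow 2 (Matrix.ProjectiveSpecialLinearGroup (Fin 3) F)) :
    (groupFusionSystem (S : Subgroup (Matrix.ProjectiveSpecialLinearGroup (Fin 3) F))).IsSimple
      2 := by
  have h : Fintype.card F % 4 = 1 ∨ Fintype.card F % 4 = 3 := by omega
  rcases h with h4 | h4
  · obtain ⟨i, hD⟩ := wreathDataTop (F := F) h4
    exact wreath_fusion_simple hD Subgroup.topEquiv S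
  · have h2 : (2 : F) ≠ 0 := two_ne_zero_of_card rfl hodd
    obtain ⟨ε, hD⟩ := rotData h4 h2
    exact rot_fusion_simple hD S

end Cfsg.Agent.Helper25.Rot3
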