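import Mathlib
import Cfsg.Agent.Lib.Helper25.PSLFus7
import Cfsg.Agent.Lib.Helper28.SpBorel
import Cfsg.Agent.Lib.Helper2.SpCenter

/-!
# The symplectic group in block form: Levi elements, Siegel elements, the unipotent radical
-/

set_option autoImplicit false
set_option linter.style.haveILetI false
set_option linter.unusedSectionVars false
set_option linter.unusedSimpArgs false

namespace Cfsg.Agent.Helper25.PSpFus

open Matrix Cfsg.Agent.Helper25.PSLFus Cfsg.Agent.Helper28.SpBorel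

variable {K : Type*} [Field K] [Fintype K] {m : ℕ}

theorem spv_mul (g h : symplecticGroup (Fin m) K) : (g * h).1 = g.1 * h.1 := rfl

theorem spv_one : (1 : symplecticGroup (Fin m) K).1 = 1 := rfl

theorem spv_pow (g : symplecticGroup (Fin m) K) (k : ℕ) : (g ^ k).1 = g.1 ^ k := by
  induction k with
  | zero => rw [pow_zero, pow_zero, spv_one]
  | succ k ih => rw [pow_succ, pow_succ, spv_mul, ih]

theorem blk_eq (g : Matrix (Fin m ⊕ Fin m) (Fin m ⊕ Fin m) K) :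
    g = fromBlocks g.toBlocks₁₁ g.toBlocks₁₂ g.toBlocks₂₁ g.toBlocks₂₂ :=
  (fromBlocks_toBlocks g).symm

theorem mul_blocks (g h : Matrix (Fin m ⊕ Fin m) (Fin m ⊕ Fin m) K) :
    g * h = fromBlocks (g.toBlocks₁₁ * h.toBlocks₁₁ + g.toBlocks₁₂ * h.toBlocks₂₁)
      (g.toBlocks₁₁ * h.toBlocks₁₂ + g.toBlocks₁₂ * h.toBlocks₂₂)
      (g.toBlocks₂₁ * h.toBlocks₁₁ + g.toBlocks₂₂ * h.toBlocks₂₁)
      (g.toBlocks₂₁ * h.toBlocks₁₂ + g.toBlocks₂₂ * h.toBlocks₂₂) := by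
  conv_lhs => rw [blk_eq g, blk_eq h, fromBlocks_multiply]

theorem mul_b11 (g h : Matrix (Fin m ⊕ Fin m) (Fin m ⊕ Fin m) K) :
    (g * h).toBlocks₁₁ = g.toBlocks₁₁ * h.toBlocks₁₁ + g.toBlocks₁₂ * h.toBlocks₂₁ := by
  rw [mul_blocks, toBlocks_fromBlocks₁₁]

theorem mul_b12 (g h : Matrix (Fin m ⊕ Fin m) (Fin m ⊕ Fin m) K) :
    (g * h).toBlocks₁₂ = g.toBlocks₁₁ * h.toBlocks₁₂ + g.toBlocks₁₂ * h.toBlocks₂₂ := by
  rw [mul_blocks, toBlocks_fromBlocks₁₂]

theorem mul_b21 (g h : Matrix (Fin m ⊕ Fin m) (Fin m ⊕ Fin m) K) :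
    (g * h).toBlocks₂₁ = g.toBlocks₂₁ * h.toBlocks₁₁ + g.toBlocks₂₂ * h.toBlocks₂₁ := by
  rw [mul_blocks, toBlocks_fromBlocks₂₁]

theorem mul_b22 (g h : Matrix (Fin m ⊕ Fin m) (Fin m ⊕ Fin m) K) :
    (g * h).toBlocks₂₂ = g.toBlocks₂₁ * h.toBlocks₁₂ + g.toBlocks₂₂ * h.toBlocks₂₂ := by
  rw [mul_blocks, toBlocks_fromBlocks₂₂]

theorem one_b11 : (1 : Matrix (Fin m ⊕ Fin m) (Fin m ⊕ Fin m) K).toBlocks₁₁ = 1 := by
  rw [← fromBlocks_one, toBlocks_fromBlocks₁₁]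

theorem one_b12 : (1 : Matrix (Fin m ⊕ Fin m) (Fin m ⊕ Fin m) K).toBlocks₁₂ = 0 := by
  rw [← fromBlocks_one, toBlocks_fromBlocks₁₂]

theorem one_b21 : (1 : Matrix (Fin m ⊕ Fin m) (Fin m ⊕ Fin m) K).toBlocks₂₁ = 0 := by
  rw [← fromBlocks_one, toBlocks_fromBlocks₂₁]

theorem one_b22 : (1 : Matrix (Fin m ⊕ Fin m) (Fin m ⊕ Fin m) K).toBlocks₂₂ = 1 := by
  rw [← fromBlocks_one, toBlocks_fromBlocks₂₂]

/-! ### Siegel elements -/

/-- the upper Siegel element `[[1, S], [0, 1]]` -/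
def sg (S : Matrix (Fin m) (Fin m) K) (hS : Sᵀ = S) : symplecticGroup (Fin m) K :=
  ⟨fromBlocks 1 S 0 1, Cfsg.Agent.Helper2.Sp.upper_mem S hS⟩

/-- the lower Siegel element `[[1, 0], [S, 1]]` -/
def sgm (S : Matrix (Fin m) (Fin m) K) (hS : Sᵀ = S) : symplecticGroup (Fin m) K :=
  ⟨fromBlocks 1 0 S 1, Cfsg.Agent.Helper2.Sp.lower_mem S hS⟩

theorem sg_val (S : Matrix (Fin m) (Fin m) K) (hS : Sᵀ = S) :
    (sg S hS).1 = fromBlocks 1 S 0 1 := rfl

theorem sgm_val (S : Matrix (Fin m) (Fin m) K) (hS : Sᵀ = S) :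
    (sgm S hS).1 = fromBlocks 1 0 S 1 := rfl

theorem sg_congr {S S' : Matrix (Fin m) (Fin m) K} (h : S = S') (hS : Sᵀ = S) (hS' : S'ᵀ = S') :
    sg S hS = sg S' hS' := by
  subst h; rfl

theorem symm_add {S S' : Matrix (Fin m) (Fin m) K} (hS : Sᵀ = S) (hS' : S'ᵀ = S') :
    (S + S')ᵀ = S + S' := by rw [transpose_add, hS, hS']

theorem symm_neg {S : Matrix (Fin m) (Fin m) K} (hS : Sᵀ = S) : (-S)ᵀ = -S := by
  rw [transpose_neg, hS]

theorem symm_sub {S S' : Matrix (Fin m) (Fin m) K} (hS : Sᵀ = S) (hS' : S'ᵀ = S') :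
    (S - S')ᵀ = S - S' := by rw [transpose_sub, hS, hS']

theorem symm_zero : (0 : Matrix (Fin m) (Fin m) K)ᵀ = 0 := transpose_zero

theorem symm_conj (A : Matrix (Fin m) (Fin m) K) {S : Matrix (Fin m) (Fin m) K} (hS : Sᵀ = S) :
    (A * S * Aᵀ)ᵀ = A * S * Aᵀ := by
  rw [transpose_mul, transpose_mul, transpose_transpose, hS, Matrix.mul_assoc]

theorem sg_mul (S S' : Matrix (Fin m) (Fin m) K) (hS : Sᵀ = S) (hS' : S'ᵀ = S') :
    sg S hS * sg S' hS' = sg (S + S') (symm_add hS hS') := by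
  apply Subtype.ext
  rw [spv_mul, sg_val, sg_val, sg_val, fromBlocks_multiply]
  simp [add_comm]

theorem sg_zero : sg (0 : Matrix (Fin m) (Fin m) K) symm_zero = 1 := by
  apply Subtype.ext
  rw [sg_val, spv_one, fromBlocks_one]

theorem sg_inv (S : Matrix (Fin m) (Fin m) K) (hS : Sᵀ = S) :
    (sg S hS)⁻¹ = sg (-S) (symm_neg hS) := by
  apply inv_eq_of_mul_eq_one_left
  rw [sg_mul, ← sg_zero]
  exact sg_congr (neg_add_cancel S) _ _

theorem sg_mul_inv (S S' : Matrix (Fin m) (Fin m) K) (hS : Sᵀ = S) (hS' : S'ᵀ = S') :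
    sg S hS * (sg S' hS')⁻¹ = sg (S - S') (symm_sub hS hS') := by
  rw [sg_inv, sg_mul]
  exact sg_congr (sub_eq_add_neg S S').symm _ _

theorem sg_comm (S S' : Matrix (Fin m) (Fin m) K) (hS : Sᵀ = S) (hS' : S'ᵀ = S') :
    sg S hS * sg S' hS' = sg S' hS' * sg S hS := by
  rw [sg_mul, sg_mul]
  exact sg_congr (add_comm S S') _ _

theorem symm_nsmul {S : Matrix (Fin m) (Fin m) K} (hS : Sᵀ = S) (k : ℕ) :
    (k • S)ᵀ = k • S := by rw [transpose_smul, hS]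

theorem sg_pow (S : Matrix (Fin m) (Fin m) K) (hS : Sᵀ = S) (k : ℕ) :
    (sg S hS) ^ k = sg (k • S) (symm_nsmul hS k) := by
  induction k with
  | zero =>
    rw [pow_zero, ← sg_zero]
    exact sg_congr (zero_smul ℕ S).symm _ _
  | succ k ih =>
    rw [pow_succ, ih, sg_mul]
    exact sg_congr (succ_nsmul S k).symm _ _

theorem sg_pow_char (p : ℕ) [CharP K p] (S : Matrix (Fin m) (Fin m) K) (hS : Sᵀ = S) :
    (sg S hS) ^ p = 1 := by
  rw [sg_pow, ← sg_zero]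
  apply sg_congr
  ext i j
  rw [Matrix.smul_apply, nsmul_eq_mul, CharP.cast_eq_zero, zero_mul]
  rfl

theorem sgm_mul (S S' : Matrix (Fin m) (Fin m) K) (hS : Sᵀ = S) (hS' : S'ᵀ = S') :
    sgm S hS * sgm S' hS' = sgm (S + S') (symm_add hS hS') := by
  apply Subtype.ext
  rw [spv_mul, sgm_val, sgm_val, sgm_val, fromBlocks_multiply]
  simp

theorem sgm_zero : sgm (0 : Matrix (Fin m) (Fin m) K) symm_zero = 1 := by
  apply Subtype.ext
  rw [sgm_val, spv_one, fromBlocks_one]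

theorem sgm_congr {S S' : Matrix (Fin m) (Fin m) K} (h : S = S') (hS : Sᵀ = S)
    (hS' : S'ᵀ = S') : sgm S hS = sgm S' hS' := by
  subst h; rfl

theorem sgm_inv (S : Matrix (Fin m) (Fin m) K) (hS : Sᵀ = S) :
    (sgm S hS)⁻¹ = sgm (-S) (symm_neg hS) := by
  apply inv_eq_of_mul_eq_one_left
  rw [sgm_mul, ← sgm_zero]
  exact sgm_congr (neg_add_cancel S) _ _

theorem sgm_pow (S : Matrix (Fin m) (Fin m) K) (hS : Sᵀ = S) (k : ℕ) :
    (sgm S hS) ^ k = sgm (k • S) (symm_nsmul hS k) := by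
  induction k with
  | zero =>
    rw [pow_zero, ← sgm_zero]
    exact sgm_congr (zero_smul ℕ S).symm _ _
  | succ k ih =>
    rw [pow_succ, ih, sgm_mul]
    exact sgm_congr (succ_nsmul S k).symm _ _

theorem sgm_pow_char (p : ℕ) [CharP K p] (S : Matrix (Fin m) (Fin m) K) (hS : Sᵀ = S) :
    (sgm S hS) ^ p = 1 := by
  rw [sgm_pow, ← sgm_zero]
  apply sgm_congr
  ext i j
  rw [Matrix.smul_apply, nsmul_eq_mul, CharP.cast_eq_zero, zero_mul]
  rfl

/-! ### Levi elements -/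

theorem sl_mul_inv (A : SpecialLinearGroup (Fin m) K) : A.1 * (A⁻¹).1 = 1 := by
  rw [← PSLFus.val_mul, mul_inv_cancel, PSLFus.val_one]

theorem sl_inv_mul (A : SpecialLinearGroup (Fin m) K) : (A⁻¹).1 * A.1 = 1 := by
  rw [← PSLFus.val_mul, inv_mul_cancel, PSLFus.val_one]

/-- the Levi element `[[A, 0], [0, A⁻ᵀ]]` -/
def lev (A : SpecialLinearGroup (Fin m) K) : symplecticGroup (Fin m) K :=
  ⟨fromBlocks A.1 0 0 (A⁻¹).1ᵀ, (symp_blocks _ _ _).2
    ⟨by rw [transpose_transpose]; exact sl_mul_inv A, by simp⟩⟩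

theorem lev_val (A : SpecialLinearGroup (Fin m) K) :
    (lev A).1 = fromBlocks A.1 0 0 (A⁻¹).1ᵀ := rfl

theorem lev_mul (A B : SpecialLinearGroup (Fin m) K) : lev (A * B) = lev A * lev B := by
  apply Subtype.ext
  rw [spv_mul, lev_val, lev_val, lev_val, fromBlocks_multiply, _root_.mul_inv_rev, PSLFus.val_mul,
    PSLFus.val_mul, transpose_mul]
  simp only [Matrix.mul_zero, Matrix.zero_mul, add_zero, zero_add]

theorem lev_one : lev (1 : SpecialLinearGroup (Fin m) K) = 1 := by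
  apply Subtype.ext
  rw [lev_val, spv_one, inv_one, PSLFus.val_one, transpose_one, fromBlocks_one]

/-- the Levi embedding `SL_m → Sp_{2m}` -/
def levHom (m : ℕ) (K : Type*) [Field K] [Fintype K] :
    SpecialLinearGroup (Fin m) K →* symplecticGroup (Fin m) K where
  toFun := lev
  map_one' := lev_one
  map_mul' := lev_mul

theorem levHom_apply (A : SpecialLinearGroup (Fin m) K) : levHom m K A = lev A := rfl

theorem lev_inv (A : SpecialLinearGroup (Fin m) K) : (lev A)⁻¹ = lev A⁻¹ :=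
  ((levHom m K).map_inv A).symm

theorem lev_pow (A : SpecialLinearGroup (Fin m) K) (k : ℕ) : (lev A) ^ k = lev (A ^ k) :=
  ((levHom m K).map_pow A k).symm

/-- conjugating a Siegel element by a Levi element -/
theorem lev_mul_sg (A : SpecialLinearGroup (Fin m) K) (S : Matrix (Fin m) (Fin m) K)
    (hS : Sᵀ = S) : lev A * sg S hS = sg (A.1 * S * A.1ᵀ) (symm_conj A.1 hS) * lev A := by
  apply Subtype.ext
  rw [spv_mul, spv_mul, lev_val, sg_val, sg_val, fromBlocks_multiply, fromBlocks_multiply]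
  have h1 : A.1 * S * A.1ᵀ * (A⁻¹).1ᵀ = A.1 * S := by
    rw [Matrix.mul_assoc, ← transpose_mul, sl_inv_mul, transpose_one, Matrix.mul_one]
  simp only [Matrix.mul_one, Matrix.one_mul, Matrix.mul_zero, Matrix.zero_mul, add_zero, zero_add]
  rw [h1]

theorem lev_conj_sg (A : SpecialLinearGroup (Fin m) K) (S : Matrix (Fin m) (Fin m) K)
    (hS : Sᵀ = S) : lev A * sg S hS * (lev A)⁻¹ = sg (A.1 * S * A.1ᵀ) (symm_conj A.1 hS) := by
  rw [lev_mul_sg, mul_inv_cancel_right]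

/-! ### Diagonal torus elements -/

theorem td_aux (t : Fin m → K) (ht : ∀ i, t i ≠ 0) :
    Matrix.diagonal t * (Matrix.diagonal fun i => (t i)⁻¹)ᵀ = 1 := by
  rw [Matrix.diagonal_transpose, Matrix.diagonal_mul_diagonal]
  rw [← Matrix.diagonal_one]
  congr 1
  funext i
  exact mul_inv_cancel₀ (ht i)

/-- the torus element `diag(t, t⁻¹)` -/
def td (t : Fin m → K) (ht : ∀ i, t i ≠ 0) : symplecticGroup (Fin m) K :=
  ⟨fromBlocks (Matrix.diagonal t) 0 0 (Matrix.diagonal fun i => (t i)⁻¹),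
    (symp_blocks _ _ _).2 ⟨td_aux t ht, by simp⟩⟩

theorem td_val (t : Fin m → K) (ht : ∀ i, t i ≠ 0) :
    (td t ht).1 = fromBlocks (Matrix.diagonal t) 0 0 (Matrix.diagonal fun i => (t i)⁻¹) := rfl

theorem td_mul_sg (t : Fin m → K) (ht : ∀ i, t i ≠ 0) (S : Matrix (Fin m) (Fin m) K)
    (hS : Sᵀ = S) : td t ht * sg S hS =
      sg (Matrix.diagonal t * S * (Matrix.diagonal t)ᵀ) (symm_conj _ hS) * td t ht := by
  apply Subtype.ext
  rw [spv_mul, spv_mul, td_val, sg_val, sg_val, fromBlocks_multiply, fromBlocks_multiply]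
  have h1 : Matrix.diagonal t * S * (Matrix.diagonal t)ᵀ * (Matrix.diagonal fun i => (t i)⁻¹) =
      Matrix.diagonal t * S := by
    have := td_aux t ht
    rw [Matrix.diagonal_transpose] at this ⊢
    rw [Matrix.mul_assoc, this, Matrix.mul_one]
  simp only [Matrix.mul_one, Matrix.one_mul, Matrix.mul_zero, Matrix.zero_mul, add_zero, zero_add]
  rw [h1]

theorem td_conj_sg (t : Fin m → K) (ht : ∀ i, t i ≠ 0) (S : Matrix (Fin m) (Fin m) K)
    (hS : Sᵀ = S) : td t ht * sg S hS * (td t ht)⁻¹ =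
      sg (Matrix.diagonal t * S * (Matrix.diagonal t)ᵀ) (symm_conj _ hS) := by
  rw [td_mul_sg, mul_inv_cancel_right]

end Cfsg.Agent.Helper25.PSpFus
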