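import Mathlib
import Cfsg.Agent.Lib.Helper25.PSpFus1
import Cfsg.Agent.Lib.Helper25.PSLFus6

/-!
# The unipotent subgroup `U` of `Sp_{2m}`: structure and `p`-group property
-/

set_option autoImplicit false
set_option linter.style.haveILetI false
set_option linter.unusedSectionVars false
set_option linter.unusedSimpArgs false

namespace Cfsg.Agent.Helper25.PSpFus

open Matrix Cfsg.Agent.Helper25.PSLFus Cfsg.Agent.Helper28 Cfsg.Agent.Helper28.SpBorel

variable {K : Type*} [Field K] [Fintype K] {m : ℕ}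

instance sp_finite : Finite (symplecticGroup (Fin m) K) :=
  Finite.of_injective (fun g : symplecticGroup (Fin m) K =>
    (g : Matrix (Fin m ⊕ Fin m) (Fin m ⊕ Fin m) K)) Subtype.val_injective

theorem sp_inv_eq_pow (a : symplecticGroup (Fin m) K) : a⁻¹ = a ^ (orderOf a - 1) := by
  apply inv_eq_of_mul_eq_one_left
  rw [← pow_succ, Nat.sub_add_cancel (orderOf_pos a), pow_orderOf_eq_one]

/-- the shape of the elements of `U` -/
def IsU (g : Matrix (Fin m ⊕ Fin m) (Fin m ⊕ Fin m) K) : Prop :=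
  g.toBlocks₂₁ = 0 ∧ IsUni g.toBlocks₁₁

theorem IsU.mul {g h : Matrix (Fin m ⊕ Fin m) (Fin m ⊕ Fin m) K} (hg : IsU g) (hh : IsU h) :
    IsU (g * h) := by
  constructor
  · rw [mul_b21, hg.1, hh.1, Matrix.zero_mul, Matrix.mul_zero, add_zero]
  · rw [mul_b11, hh.1, Matrix.mul_zero, add_zero]
    exact IsUni.mul hg.2 hh.2

theorem IsU.one : IsU (1 : Matrix (Fin m ⊕ Fin m) (Fin m ⊕ Fin m) K) :=
  ⟨one_b21, by rw [one_b11]; exact IsUni.one⟩

/-- The unipotent radical of the Borel subgroup of `Sp_{2m}`. -/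
def USp (m : ℕ) (K : Type*) [Field K] [Fintype K] : Subgroup (symplecticGroup (Fin m) K) where
  carrier := {g | IsU g.1}
  mul_mem' := by
    intro a b ha hb
    show IsU (a * b).1
    rw [spv_mul]
    exact IsU.mul ha hb
  one_mem' := IsU.one
  inv_mem' := by
    intro a ha
    have hpow : ∀ k : ℕ, IsU (a ^ k).1 := by
      intro k
      induction k with
      | zero => rw [pow_zero]; exact IsU.one
      | succ k ih => rw [pow_succ, spv_mul]; exact IsU.mul ih ha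
    show IsU (a⁻¹).1
    rw [sp_inv_eq_pow a]
    exact hpow _

theorem mem_USp {g : symplecticGroup (Fin m) K} : g ∈ USp m K ↔ IsU g.1 := Iff.rfl

theorem IsU.isB {g : Matrix (Fin m ⊕ Fin m) (Fin m ⊕ Fin m) K} (hg : IsU g) : SpBorel.IsB g :=
  ⟨hg.1, fun i j h => hg.2.1 i j h⟩

/-- the Borel subgroup -/
def BSp (m : ℕ) (K : Type*) [Field K] [Fintype K] : Subgroup (symplecticGroup (Fin m) K) :=
  borel m K

theorem mem_BSp {g : symplecticGroup (Fin m) K} : g ∈ BSp m K ↔ SpBorel.IsB g.1 := mem_borel_iff g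

theorem USp_le_BSp : USp m K ≤ BSp m K := fun _ hg => mem_BSp.mpr (IsU.isB hg)

theorem sg_mem_USp (S : Matrix (Fin m) (Fin m) K) (hS : Sᵀ = S) : sg S hS ∈ USp m K := by
  rw [mem_USp, sg_val]
  exact ⟨toBlocks_fromBlocks₂₁ _ _ _ _, by rw [toBlocks_fromBlocks₁₁]; exact IsUni.one⟩

theorem lev_mem_USp {A : SpecialLinearGroup (Fin m) K} (hA : A ∈ U m K) : lev A ∈ USp m K := by
  rw [mem_USp, lev_val]
  exact ⟨toBlocks_fromBlocks₂₁ _ _ _ _, by rw [toBlocks_fromBlocks₁₁]; exact hA⟩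

theorem lev_mem_BSp {A : SpecialLinearGroup (Fin m) K} (hA : A ∈ B m K) : lev A ∈ BSp m K := by
  rw [mem_BSp, lev_val]
  exact ⟨toBlocks_fromBlocks₂₁ _ _ _ _, by
    rw [toBlocks_fromBlocks₁₁]; exact fun i j h => hA i j h⟩

/-- the `SL_m`-part of an element of `U` -/
def slPart {g : Matrix (Fin m ⊕ Fin m) (Fin m ⊕ Fin m) K} (hg : IsU g) :
    SpecialLinearGroup (Fin m) K :=
  ⟨g.toBlocks₁₁, by
    rw [Matrix.det_of_isUpperTriangular (fun i j h => hg.2.1 i j h)]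
    exact Finset.prod_eq_one (fun i _ => hg.2.2 i)⟩

theorem slPart_val {g : Matrix (Fin m ⊕ Fin m) (Fin m ⊕ Fin m) K} (hg : IsU g) :
    (slPart hg).1 = g.toBlocks₁₁ := rfl

theorem slPart_mem {g : Matrix (Fin m ⊕ Fin m) (Fin m ⊕ Fin m) K} (hg : IsU g) :
    slPart hg ∈ U m K := hg.2

/-- `U = Levi(U_m) ⋉ Siegel`. -/
theorem exists_lev_mul_sg {g : symplecticGroup (Fin m) K} (hg : g ∈ USp m K) :
    ∃ A ∈ U m K, ∃ (S : Matrix (Fin m) (Fin m) K) (hS : Sᵀ = S), g = lev A * sg S hS := by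
  have hU : IsU g.1 := hg
  have hB : SpBorel.IsB g.1 := hU.isB
  obtain ⟨h1, h2⟩ := blocks_of_isB g.2 hB
  set A := slPart hU with hA
  have hA1 : A.1 = g.1.toBlocks₁₁ := rfl
  have hAA' : g.1.toBlocks₁₁ * (A⁻¹).1 = 1 := by rw [← hA1]; exact sl_mul_inv A
  have hA'A : (A⁻¹).1 * g.1.toBlocks₁₁ = 1 := by rw [← hA1]; exact sl_inv_mul A
  have h22 : g.1.toBlocks₂₂ = (A⁻¹).1ᵀ := by
    have e : g.1.toBlocks₂₂ᵀ = (A⁻¹).1 := by
      calc g.1.toBlocks₂₂ᵀ = ((A⁻¹).1 * g.1.toBlocks₁₁) * g.1.toBlocks₂₂ᵀ := by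
            rw [hA'A, Matrix.one_mul]
        _ = (A⁻¹).1 * (g.1.toBlocks₁₁ * g.1.toBlocks₂₂ᵀ) := by rw [Matrix.mul_assoc]
        _ = (A⁻¹).1 := by rw [h1, Matrix.mul_one]
    rw [← e, transpose_transpose]
  have key : (A⁻¹).1 * (g.1.toBlocks₁₂ * g.1.toBlocks₁₁ᵀ) * (A⁻¹).1ᵀ =
      (A⁻¹).1 * g.1.toBlocks₁₂ := by
    rw [Matrix.mul_assoc, Matrix.mul_assoc g.1.toBlocks₁₂, ← transpose_mul, hA'A, transpose_one,
      Matrix.mul_one]
  have key2 : (A⁻¹).1 * (g.1.toBlocks₁₁ * g.1.toBlocks₁₂ᵀ) * (A⁻¹).1ᵀ =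
      g.1.toBlocks₁₂ᵀ * (A⁻¹).1ᵀ := by
    rw [← Matrix.mul_assoc (A⁻¹).1, hA'A, Matrix.one_mul]
  have hS : ((A⁻¹).1 * g.1.toBlocks₁₂)ᵀ = (A⁻¹).1 * g.1.toBlocks₁₂ := by
    rw [transpose_mul, ← key2, ← h2, key]
  refine ⟨A, slPart_mem hU, (A⁻¹).1 * g.1.toBlocks₁₂, hS, ?_⟩
  apply Subtype.ext
  rw [spv_mul, lev_val, sg_val, fromBlocks_multiply]
  simp only [Matrix.mul_one, Matrix.mul_zero, Matrix.zero_mul, add_zero, zero_add]
  rw [hA1, ← Matrix.mul_assoc, hAA', Matrix.one_mul, ← h22]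
  exact eq_fromBlocks_of_isB hB

/-! ### `U` is a `p`-group -/

theorem isUni_pow_char (p : ℕ) [Fact p.Prime] [CharP K p] [NeZero m]
    {M : Matrix (Fin m) (Fin m) K}
    (hM : IsUni M) : M ^ p ^ m = 1 := by
  have hN : ∀ i j : Fin m, j ≤ i → (M - 1) i j = 0 := by
    intro i j hji
    rw [Matrix.sub_apply]
    rcases eq_or_lt_of_le hji with h | h
    · subst h; rw [hM.2, Matrix.one_apply_eq, sub_self]
    · rw [hM.1 i j h, Matrix.one_apply_ne (ne_of_gt h), sub_self]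
  have h1 : M = (M - 1) + 1 := by abel
  rw [h1, add_pow_char_pow_of_commute p m (Commute.one_right _), one_pow,
    pow_eq_zero_of_strict hN (le_of_lt (Nat.lt_pow_self (Fact.out : p.Prime).one_lt)), zero_add]

theorem pow_blocks {g : Matrix (Fin m ⊕ Fin m) (Fin m ⊕ Fin m) K} (hg : g.toBlocks₂₁ = 0)
    (k : ℕ) : (g ^ k).toBlocks₂₁ = 0 ∧ (g ^ k).toBlocks₁₁ = g.toBlocks₁₁ ^ k ∧
      (g ^ k).toBlocks₂₂ = g.toBlocks₂₂ ^ k := by
  induction k with
  | zero =>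
    rw [pow_zero, pow_zero, pow_zero]
    exact ⟨one_b21, one_b11, one_b22⟩
  | succ k ih =>
    obtain ⟨i1, i2, i3⟩ := ih
    rw [pow_succ, pow_succ, pow_succ]
    refine ⟨?_, ?_, ?_⟩
    · rw [mul_b21, i1, hg, Matrix.zero_mul, Matrix.mul_zero, add_zero]
    · rw [mul_b11, hg, Matrix.mul_zero, add_zero, i2]
    · rw [mul_b22, i1, Matrix.zero_mul, zero_add, i3]

theorem fromBlocks_pow_sg (S : Matrix (Fin m) (Fin m) K) (k : ℕ) :
    (fromBlocks (1 : Matrix (Fin m) (Fin m) K) S 0 (1 : Matrix (Fin m) (Fin m) K)) ^ k =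
      fromBlocks 1 (k • S) 0 1 := by
  induction k with
  | zero => rw [pow_zero, zero_smul, fromBlocks_one]
  | succ k ih =>
    rw [pow_succ, ih, fromBlocks_multiply]
    simp only [Matrix.mul_one, Matrix.one_mul, Matrix.mul_zero, Matrix.zero_mul, add_zero,
      zero_add]
    rw [succ_nsmul, add_comm]

theorem USp_isPGroup (p : ℕ) [Fact p.Prime] [CharP K p] [NeZero m] : IsPGroup p (USp m K) := by
  intro g
  refine ⟨m + 1, ?_⟩
  apply Subtype.ext
  apply Subtype.ext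
  show ((g : symplecticGroup (Fin m) K) ^ p ^ (m + 1)).1 = 1
  have hU : IsU (g : symplecticGroup (Fin m) K).1 := g.2
  have hB : SpBorel.IsB (g : symplecticGroup (Fin m) K).1 := hU.isB
  obtain ⟨h1, -⟩ := blocks_of_isB (g : symplecticGroup (Fin m) K).2 hB
  obtain ⟨e1, e2, e3⟩ := pow_blocks hU.1 (p ^ m)
  rw [isUni_pow_char p hU.2] at e2
  -- the lower right block
  have hinvU : IsUni (slPart hU)⁻¹.1 := Subgroup.inv_mem (U m K) (slPart_mem hU)
  have h22 : (g : symplecticGroup (Fin m) K).1.toBlocks₂₂ = ((slPart hU)⁻¹).1ᵀ := by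
    have hA'A : ((slPart hU)⁻¹).1 * (g : symplecticGroup (Fin m) K).1.toBlocks₁₁ = 1 :=
      sl_inv_mul (slPart hU)
    have e : (g : symplecticGroup (Fin m) K).1.toBlocks₂₂ᵀ = ((slPart hU)⁻¹).1 := by
      calc (g : symplecticGroup (Fin m) K).1.toBlocks₂₂ᵀ
          = (((slPart hU)⁻¹).1 * (g : symplecticGroup (Fin m) K).1.toBlocks₁₁) *
            (g : symplecticGroup (Fin m) K).1.toBlocks₂₂ᵀ := by rw [hA'A, Matrix.one_mul]
        _ = ((slPart hU)⁻¹).1 * ((g : symplecticGroup (Fin m) K).1.toBlocks₁₁ *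
            (g : symplecticGroup (Fin m) K).1.toBlocks₂₂ᵀ) := by rw [Matrix.mul_assoc]
        _ = ((slPart hU)⁻¹).1 := by rw [h1, Matrix.mul_one]
    rw [← e, transpose_transpose]
  rw [h22, ← transpose_pow, isUni_pow_char p hinvU, transpose_one] at e3
  have hform : (g : symplecticGroup (Fin m) K).1 ^ p ^ m =
      fromBlocks 1 ((g : symplecticGroup (Fin m) K).1 ^ p ^ m).toBlocks₁₂ 0 1 := by
    conv_lhs => rw [blk_eq ((g : symplecticGroup (Fin m) K).1 ^ p ^ m), e1, e2, e3]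
  rw [spv_pow, pow_succ, pow_mul, hform, fromBlocks_pow_sg]
  have : (p • ((g : symplecticGroup (Fin m) K).1 ^ p ^ m).toBlocks₁₂) = 0 := by
    ext i j
    rw [Matrix.smul_apply, nsmul_eq_mul, CharP.cast_eq_zero, zero_mul]
    rfl
  rw [this, fromBlocks_one]

end Cfsg.Agent.Helper25.PSpFus
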