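import Mathlib
import Cfsg.Agent.Lib.Helper25.PSpFus2
import Cfsg.Agent.Lib.Helper25.FusionInner

/-!
# `N(U) ≤ B` in `Sp_{2m}`, and `U` is a Sylow `p`-subgroup
-/

set_option autoImplicit false
set_option linter.style.haveILetI false
set_option linter.unusedSectionVars false
set_option linter.unusedSimpArgs false

namespace Cfsg.Agent.Helper25.PSpFus

open Matrix Cfsg.Agent.Helper25.PSLFus Cfsg.Agent.Helper28 Cfsg.Agent.Helper28.SpBorel

variable {K : Type*} [Field K] [Fintype K] {m : ℕ}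

/-- the subspaces `⟨e_0, …, e_{k-1}⟩` -/
def Wk (k : ℕ) (v : Fin m ⊕ Fin m → K) : Prop :=
  (∀ i : Fin m, k ≤ i.val → v (Sum.inl i) = 0) ∧ ∀ i : Fin m, v (Sum.inr i) = 0

theorem Wk_step {u : Matrix (Fin m ⊕ Fin m) (Fin m ⊕ Fin m) K} (hu : IsU u) {k : ℕ}
    {v : Fin m ⊕ Fin m → K} (hv : Wk (k + 1) v) : Wk k (u *ᵥ v - v) := by
  constructor
  · intro i hi
    rw [Pi.sub_apply, mulVec_inl]
    have h2 : ∑ j, u.toBlocks₁₂ i j * v (Sum.inr j) = 0 :=
      Finset.sum_eq_zero (fun j _ => by rw [hv.2 j, mul_zero])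
    have h1 : ∑ j, u.toBlocks₁₁ i j * v (Sum.inl j) = v (Sum.inl i) := by
      rw [Finset.sum_eq_single i]
      · rw [hu.2.2, one_mul]
      · intro j _ hji
        rcases lt_or_gt_of_ne hji with h | h
        · rw [hu.2.1 i j h, zero_mul]
        · rw [hv.1 j (by have := Fin.lt_def.mp h; omega), mul_zero]
      · intro h; exact absurd (Finset.mem_univ i) h
    rw [h1, h2, add_zero, sub_self]
  · intro i
    rw [Pi.sub_apply, mulVec_inr, hu.1, hv.2 i]
    have h2 : ∑ j, u.toBlocks₂₂ i j * v (Sum.inr j) = 0 :=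
      Finset.sum_eq_zero (fun j _ => by rw [hv.2 j, mul_zero])
    rw [h2]
    simp

theorem sg_mulVec_inl (S : Matrix (Fin m) (Fin m) K) (hS : Sᵀ = S) (v : Fin m ⊕ Fin m → K)
    (i : Fin m) : ((sg S hS).1 *ᵥ v) (Sum.inl i) =
      v (Sum.inl i) + ∑ j, S i j * v (Sum.inr j) := by
  rw [mulVec_inl, sg_val, toBlocks_fromBlocks₁₁, toBlocks_fromBlocks₁₂]
  congr 1
  rw [Finset.sum_eq_single i]
  · rw [Matrix.one_apply_eq, one_mul]
  · intro j _ hji
    rw [Matrix.one_apply_ne (Ne.symm hji), zero_mul]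
  · intro h; exact absurd (Finset.mem_univ i) h

theorem symm_single_self (i : Fin m) (c : K) : (single i i c)ᵀ = single i i c :=
  Matrix.transpose_single i i c

theorem symm_sh (i j : Fin m) (c : K) :
    (single i j c + single j i c)ᵀ = single i j c + single j i c := by
  rw [transpose_add, Matrix.transpose_single, Matrix.transpose_single, add_comm]

theorem Wk_of_forall {k : ℕ} (hk : k < m) {v : Fin m ⊕ Fin m → K}
    (h : ∀ u ∈ USp m K, Wk k (u.1 *ᵥ v - v)) : Wk (k + 1) v := by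
  have hinr : ∀ j : Fin m, v (Sum.inr j) = 0 := by
    intro j
    set l : Fin m := ⟨m - 1, by omega⟩ with hl
    have hkl : k ≤ l.val := by rw [hl]; show k ≤ m - 1; omega
    by_cases hjl : j = l
    · have h1 := (h _ (sg_mem_USp (single l l 1) (symm_single_self l 1))).1 l hkl
      rw [Pi.sub_apply, sg_mulVec_inl, add_sub_cancel_left, Finset.sum_eq_single l] at h1
      · rw [Matrix.single_apply_same, one_mul] at h1
        rw [hjl]; exact h1
      · intro b _ hb
        rw [Matrix.single_apply_of_ne, zero_mul]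
        rintro ⟨-, h2⟩; exact hb h2.symm
      · intro h2; exact absurd (Finset.mem_univ l) h2
    · have h1 := (h _ (sg_mem_USp _ (symm_sh l j 1))).1 l hkl
      rw [Pi.sub_apply, sg_mulVec_inl, add_sub_cancel_left, Finset.sum_eq_single j] at h1
      · rw [Matrix.add_apply, Matrix.single_apply_same, Matrix.single_apply_of_ne, add_zero,
          one_mul] at h1
        · exact h1
        · rintro ⟨h2, -⟩; exact hjl h2
      · intro b _ hb
        rw [Matrix.add_apply, Matrix.single_apply_of_ne, Matrix.single_apply_of_ne, add_zero,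
          zero_mul]
        · rintro ⟨h2, -⟩; exact hjl h2
        · rintro ⟨-, h2⟩; exact hb h2.symm
      · intro h2; exact absurd (Finset.mem_univ j) h2
  refine ⟨fun r hr => ?_, hinr⟩
  have hr0 : 0 < r.val := by omega
  obtain ⟨r', hr'⟩ : ∃ r' : Fin m, r'.val + 1 = r.val := ⟨⟨r.val - 1, by have := r.2; omega⟩, by
    show r.val - 1 + 1 = r.val
    omega⟩
  have hlt : r' < r := Fin.lt_def.mpr (by omega)
  have h1 := (h _ (lev_mem_USp (tv_mem_U hlt 1))).1 r' (by omega)
  rw [Pi.sub_apply, mulVec_inl, lev_val, toBlocks_fromBlocks₁₁, toBlocks_fromBlocks₁₂] at h1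
  have h2 : ∑ s, (tv r' r (ne_of_lt hlt) (1 : K)).1 r' s * v (Sum.inl s) =
      v (Sum.inl r') + v (Sum.inl r) := by
    rw [Finset.sum_eq_add r' r (ne_of_lt hlt)]
    · rw [tv_apply, tv_apply, if_pos rfl, if_neg (by rintro ⟨-, h⟩; exact (ne_of_lt hlt) h.symm),
        if_neg (ne_of_lt hlt), if_pos ⟨rfl, rfl⟩]
      ring
    · intro s _ hs
      rw [tv_apply, if_neg (Ne.symm hs.1), if_neg (by rintro ⟨-, h⟩; exact hs.2 h.symm)]
      ring
    · intro h; exact absurd (Finset.mem_univ _) h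
    · intro h; exact absurd (Finset.mem_univ _) h
  rw [h2] at h1
  simp only [Matrix.zero_apply, zero_mul, Finset.sum_const_zero, add_zero] at h1
  linear_combination h1

/-- The normalizer of `U` is contained in `B`. -/
theorem normalizer_USp_le :
    Subgroup.normalizer ((USp m K : Subgroup _) : Set _) ≤ BSp m K := by
  intro g hg
  have hginv : g⁻¹ ∈ Subgroup.normalizer ((USp m K : Subgroup _) : Set _) :=
    Subgroup.inv_mem _ hg
  have hW : ∀ (k : ℕ), k ≤ m → ∀ (v : Fin m ⊕ Fin m → K), Wk k v → Wk k (g.1 *ᵥ v) := by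
    intro k
    induction k with
    | zero =>
      intro _ v hv
      have : v = 0 := by
        ext r
        rcases r with r | r
        · exact hv.1 r (Nat.zero_le _)
        · exact hv.2 r
      rw [this, Matrix.mulVec_zero]
      exact ⟨fun _ _ => rfl, fun _ => rfl⟩
    | succ k ih =>
      intro hk v hv
      apply Wk_of_forall (by omega)
      intro M hM
      have hM' : g⁻¹ * M * g⁻¹⁻¹ ∈ USp m K := (Subgroup.mem_normalizer_iff.mp hginv M).mp hM
      rw [inv_inv] at hM'
      have h1 := ih (by omega) _ (Wk_step (mem_USp.mp hM') hv)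
      have h2 : g.1 *ᵥ ((g⁻¹ * M * g).1 *ᵥ v - v) = M.1 *ᵥ (g.1 *ᵥ v) - g.1 *ᵥ v := by
        have e : g * (g⁻¹ * M * g) = M * g := by group
        rw [Matrix.mulVec_sub, Matrix.mulVec_mulVec, Matrix.mulVec_mulVec, ← spv_mul, ← spv_mul, e]
      rwa [h2] at h1
  rw [mem_BSp]
  apply isB_of_stab
  intro k v hv
  have h1 := hW (k.val + 1) (by have := k.2; omega) v ⟨fun i hi => hv.1 i (by omega), hv.2⟩
  exact ⟨fun i hi => h1.1 i (by omega), h1.2⟩

theorem isUpper_of_isB {g : Matrix (Fin m ⊕ Fin m) (Fin m ⊕ Fin m) K} (hg : SpBorel.IsB g) :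
    IsUpper g.toBlocks₁₁ := fun i j h => hg.2 h

/-- `p`-elements of `B` lie in `U`. -/
theorem mem_USp_of_pow (p : ℕ) [Fact p.Prime] [CharP K p]
    {g : symplecticGroup (Fin m) K} (hg : g ∈ BSp m K) {k : ℕ} (hk : g ^ p ^ k = 1) :
    g ∈ USp m K := by
  have hB := mem_BSp.mp hg
  rw [mem_USp]
  refine ⟨hB.1, isUpper_of_isB hB, fun i => ?_⟩
  have h1 : (g ^ p ^ k).1.toBlocks₁₁ i i = 1 := by
    rw [hk, spv_one, one_b11, Matrix.one_apply_eq]
  rw [spv_pow, (pow_blocks hB.1 (p ^ k)).2.1, ((isUpper_of_isB hB).pow (p ^ k)).2] at h1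
  have h2 : (g.1.toBlocks₁₁ i i - 1) ^ p ^ k = 0 := by
    rw [sub_pow_char_pow, h1, one_pow, sub_self]
  have := pow_eq_zero_iff (pow_ne_zero k (Fact.out : p.Prime).ne_zero) |>.mp h2
  exact sub_eq_zero.mp this

/-- `U` as a Sylow subgroup. -/
noncomputable def USylowSp (p : ℕ) [Fact p.Prime] [CharP K p] [NeZero m] :
    Sylow p (symplecticGroup (Fin m) K) where
  toSubgroup := USp m K
  isPGroup' := USp_isPGroup p
  is_maximal' := by
    intro Q hQ hUQ
    by_contra hne
    haveI : Finite Q := inferInstance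
    obtain ⟨g, hgN, hgU⟩ := Cfsg.Agent.Helper25.exists_mem_normalizerIn_not_mem hQ hUQ
      (fun h => hne h.symm)
    obtain ⟨hgQ, hgN'⟩ := Cfsg.Agent.Helper25.mem_normalizerIn.mp hgN
    apply hgU
    obtain ⟨k, hk⟩ := hQ ⟨g, hgQ⟩
    have hk' : g ^ p ^ k = 1 := by
      have := congrArg Subtype.val hk
      simpa using this
    exact mem_USp_of_pow p (normalizer_USp_le hgN') hk'

theorem coe_USylowSp (p : ℕ) [Fact p.Prime] [CharP K p] [NeZero m] :
    ((USylowSp p : Sylow p (symplecticGroup (Fin m) K)) : Subgroup _) = USp m K := rfl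

end Cfsg.Agent.Helper25.PSpFus
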