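import Mathlib
import Cfsg.Agent.Lib.Helper25.PSpFus3

/-!
# `U` is generated by the positive root elements
-/

set_option autoImplicit false
set_option linter.style.haveILetI false
set_option linter.unusedSectionVars false
set_option linter.unusedSimpArgs false

namespace Cfsg.Agent.Helper25.PSpFus

open Matrix Cfsg.Agent.Helper25.PSLFus Cfsg.Agent.Helper28 Cfsg.Agent.Helper28.SpBorel

variable {K : Type*} [Field K] [Fintype K] {m : ℕ}

/-- the long root matrix -/
def lgm (i : Fin m) (c : K) : Matrix (Fin m) (Fin m) K := single i i c

/-- the short root matrix -/
def shm (i j : Fin m) (c : K) : Matrix (Fin m) (Fin m) K := single i j c + single j i c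

theorem lgm_symm (i : Fin m) (c : K) : (lgm i c)ᵀ = lgm i c := symm_single_self i c

theorem shm_symm (i j : Fin m) (c : K) : (shm i j c)ᵀ = shm i j c := symm_sh i j c

theorem shm_comm (i j : Fin m) (c : K) : shm i j c = shm j i c := add_comm _ _

/-- long root elements -/
def xl (i : Fin m) (c : K) : symplecticGroup (Fin m) K := sg (lgm i c) (lgm_symm i c)

/-- short root elements in the Siegel radical -/
def xp (i j : Fin m) (c : K) : symplecticGroup (Fin m) K := sg (shm i j c) (shm_symm i j c)

theorem xp_comm (i j : Fin m) (c : K) : xp i j c = xp j i c :=
  sg_congr (shm_comm i j c) _ _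

open Classical in
/-- the support of a matrix -/
noncomputable def msupp (S : Matrix (Fin m) (Fin m) K) : Finset (Fin m × Fin m) :=
  Finset.univ.filter (fun ij => S ij.1 ij.2 ≠ 0)

open Classical in
theorem mem_msupp {S : Matrix (Fin m) (Fin m) K} {ij : Fin m × Fin m} :
    ij ∈ msupp S ↔ S ij.1 ij.2 ≠ 0 := by
  unfold msupp
  rw [Finset.mem_filter]
  exact ⟨fun h => h.2, fun h => ⟨Finset.mem_univ _, h⟩⟩

theorem eq_zero_of_msupp_empty {S : Matrix (Fin m) (Fin m) K} (h : msupp S = ∅) : S = 0 := by
  ext i j
  by_contra hne
  have : (i, j) ∈ msupp S := mem_msupp.mpr hne
  rw [h] at this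
  exact absurd this (Finset.notMem_empty _)

/-- Siegel elements are products of root elements. -/
theorem sg_mem_of_gens (H : Subgroup (symplecticGroup (Fin m) K))
    (h1 : ∀ (i : Fin m) (c : K), xl i c ∈ H)
    (h2 : ∀ (i j : Fin m), i ≠ j → ∀ c : K, xp i j c ∈ H) :
    ∀ (S : Matrix (Fin m) (Fin m) K) (hS : Sᵀ = S), sg S hS ∈ H := by
  have key : ∀ (d : ℕ) (S : Matrix (Fin m) (Fin m) K) (hS : Sᵀ = S), (msupp S).card = d →
      sg S hS ∈ H := by
    intro d
    induction d using Nat.strong_induction_on with
    | _ d ih =>
      intro S hS hd
      by_cases hempty : msupp S = ∅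
      · have : S = 0 := eq_zero_of_msupp_empty hempty
        subst this
        rw [sg_zero]
        exact H.one_mem
      · obtain ⟨⟨i, j⟩, hij⟩ := Finset.nonempty_iff_ne_empty.mpr hempty
        have hSij : S i j ≠ 0 := mem_msupp.mp hij
        by_cases hieqj : i = j
        · subst hieqj
          set S' := S - lgm i (S i i) with hS'
          have hS's : S'ᵀ = S' := symm_sub hS (lgm_symm _ _)
          have hlt : (msupp S').card < d := by
            rw [← hd]
            apply Finset.card_lt_card
            refine ⟨?_, ?_⟩
            · intro ab hab
              rw [mem_msupp] at hab ⊢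
              intro h0
              apply hab
              rw [hS', Matrix.sub_apply, h0, zero_sub, neg_eq_zero]
              unfold lgm
              by_cases hab' : i = ab.1 ∧ i = ab.2
              · exfalso
                obtain ⟨e1, e2⟩ := hab'
                rw [← e1, ← e2] at h0
                exact hSij h0
              · exact Matrix.single_apply_of_ne _ _ _ _ _ hab'
            · intro hsub
              have := hsub hij
              rw [mem_msupp, hS', Matrix.sub_apply] at this
              apply this
              unfold lgm
              rw [Matrix.single_apply_same, sub_self]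
          have hmem := ih _ hlt S' hS's rfl
          have : sg S hS = sg S' hS's * xl i (S i i) := by
            unfold xl
            rw [sg_mul]
            apply sg_congr
            rw [hS', sub_add_cancel]
          rw [this]
          exact H.mul_mem hmem (h1 _ _)
        · set S' := S - shm i j (S i j) with hS'
          have hS's : S'ᵀ = S' := symm_sub hS (shm_symm _ _ _)
          have hlt : (msupp S').card < d := by
            rw [← hd]
            apply Finset.card_lt_card
            refine ⟨?_, ?_⟩
            · intro ab hab
              rw [mem_msupp] at hab ⊢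
              intro h0
              apply hab
              rw [hS', Matrix.sub_apply, h0, zero_sub, neg_eq_zero]
              unfold shm
              rw [Matrix.add_apply]
              by_cases hab1 : i = ab.1 ∧ j = ab.2
              · exfalso
                obtain ⟨e1, e2⟩ := hab1
                rw [← e1, ← e2] at h0
                exact hSij h0
              · by_cases hab2 : j = ab.1 ∧ i = ab.2
                · exfalso
                  obtain ⟨e1, e2⟩ := hab2
                  rw [← e1, ← e2] at h0
                  have hji : S j i = S i j := by
                    have := congrFun (congrFun hS i) j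
                    rw [Matrix.transpose_apply] at this
                    exact this
                  rw [hji] at h0
                  exact hSij h0
                · rw [Matrix.single_apply_of_ne _ _ _ _ _ hab1,
                    Matrix.single_apply_of_ne _ _ _ _ _ hab2, add_zero]
            · intro hsub
              have := hsub hij
              rw [mem_msupp, hS', Matrix.sub_apply] at this
              apply this
              unfold shm
              rw [Matrix.add_apply, Matrix.single_apply_same, Matrix.single_apply_of_ne, add_zero,
                sub_self]
              rintro ⟨e1, -⟩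
              exact hieqj e1.symm
          have hmem := ih _ hlt S' hS's rfl
          have : sg S hS = sg S' hS's * xp i j (S i j) := by
            unfold xp
            rw [sg_mul]
            apply sg_congr
            rw [hS', sub_add_cancel]
          rw [this]
          exact H.mul_mem hmem (h2 _ _ hieqj _)
  intro S hS
  exact key _ S hS rfl

/-- Levi elements of `U` are products of root elements. -/
theorem lev_mem_of_gens (H : Subgroup (symplecticGroup (Fin m) K))
    (h3 : ∀ (i j : Fin m) (hij : i < j) (c : K), lev (tv i j (ne_of_lt hij) c) ∈ H) :
    ∀ A ∈ U m K, lev A ∈ H := by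
  intro A hA
  have hle : Subgroup.closure (Tset m K) ≤ H.comap (levHom m K) := by
    rw [Subgroup.closure_le]
    rintro x ⟨i, j, hij, c, rfl⟩
    exact h3 i j hij c
  exact hle (U_le_closure hA)

/-- `U` is generated by the positive root elements. -/
theorem USp_le_of_gens (H : Subgroup (symplecticGroup (Fin m) K))
    (h1 : ∀ (i : Fin m) (c : K), xl i c ∈ H)
    (h2 : ∀ (i j : Fin m), i ≠ j → ∀ c : K, xp i j c ∈ H)
    (h3 : ∀ (i j : Fin m) (hij : i < j) (c : K), lev (tv i j (ne_of_lt hij) c) ∈ H) :
    USp m K ≤ H := by
  intro g hg
  obtain ⟨A, hA, S, hS, rfl⟩ := exists_lev_mul_sg hg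
  exact H.mul_mem (lev_mem_of_gens H h3 A hA) (sg_mem_of_gens H h1 h2 S hS)

end Cfsg.Agent.Helper25.PSpFus
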