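import Mathlib
import Cfsg.Agent.Lib.Helper25.PSpFus4

/-!
# Conjugation formulas for root elements of the symplectic group
-/

set_option autoImplicit false
set_option linter.style.haveILetI false
set_option linter.unusedSectionVars false
set_option linter.unusedSimpArgs false

namespace Cfsg.Agent.Helper25.PSpFus

open Matrix Cfsg.Agent.Helper25.PSLFus Cfsg.Agent.Helper28 Cfsg.Agent.Helper28.SpBorel

variable {K : Type*} [Field K] [Fintype K] {m : ℕ}

theorem tvS_expand (i k : Fin m) (h : i ≠ k) (c : K) (S : Matrix (Fin m) (Fin m) K) :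
    (tv i k h c).1 * S * (tv i k h c).1ᵀ =
      S + single i k c * S + S * single k i c + single i k c * S * single k i c := by
  rw [val_tv, transvection, transpose_add, transpose_one, Matrix.transpose_single]
  noncomm_ring

theorem tvS_lgm_same (i k : Fin m) (h : i ≠ k) (c a : K) :
    (tv i k h c).1 * lgm k a * (tv i k h c).1ᵀ =
      lgm k a + shm i k (c * a) + lgm i (c * a * c) := by
  rw [tvS_expand]
  unfold lgm shm
  simp only [ss_same]
  rw [mul_comm a c]
  abel

theorem tvS_lgm_other (i k : Fin m) (h : i ≠ k) (c : K) (j : Fin m) (hj : k ≠ j) (a : K) :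
    (tv i k h c).1 * lgm j a * (tv i k h c).1ᵀ = lgm j a := by
  rw [tvS_expand]
  unfold lgm
  rw [ss_ne i k j j hj, ss_ne j j k i (Ne.symm hj), Matrix.zero_mul, add_zero, add_zero, add_zero]

theorem tvS_shm (i k : Fin m) (h : i ≠ k) (c : K) (j : Fin m) (hj : k ≠ j) (b : K) :
    (tv i k h c).1 * shm k j b * (tv i k h c).1ᵀ = shm k j b + shm i j (c * b) := by
  rw [tvS_expand]
  unfold shm
  simp only [Matrix.mul_add, Matrix.add_mul, ss_same, ss_ne i k j k hj,
    ss_ne k j k i (Ne.symm hj), ss_ne i j k i (Ne.symm hj), add_zero, zero_add, Matrix.zero_mul]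
  rw [mul_comm b c]
  abel

theorem tvS_shm_other (i k : Fin m) (h : i ≠ k) (c : K) (a b : Fin m) (ha : k ≠ a) (hb : k ≠ b)
    (x : K) : (tv i k h c).1 * shm a b x * (tv i k h c).1ᵀ = shm a b x := by
  rw [tvS_expand]
  unfold shm
  simp only [Matrix.mul_add, Matrix.add_mul, ss_ne i k a b ha, ss_ne i k b a hb,
    ss_ne a b k i (Ne.symm hb), ss_ne b a k i (Ne.symm ha), add_zero, Matrix.zero_mul]

theorem diag_single (t : Fin m → K) (i j : Fin m) (c : K) :
    Matrix.diagonal t * single i j c * (Matrix.diagonal t)ᵀ = single i j (t i * c * t j) := by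
  rw [Matrix.diagonal_transpose]
  ext a b
  rw [Matrix.mul_diagonal, Matrix.diagonal_mul, Matrix.single_apply, Matrix.single_apply]
  split_ifs with hab
  · obtain ⟨rfl, rfl⟩ := hab; rfl
  · rw [mul_zero, zero_mul]

theorem diag_lgm (t : Fin m → K) (i : Fin m) (c : K) :
    Matrix.diagonal t * lgm i c * (Matrix.diagonal t)ᵀ = lgm i (t i * c * t i) :=
  diag_single t i i c

theorem diag_shm (t : Fin m → K) (i j : Fin m) (c : K) :
    Matrix.diagonal t * shm i j c * (Matrix.diagonal t)ᵀ = shm i j (t i * c * t j) := by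
  unfold shm
  rw [Matrix.mul_add, Matrix.add_mul, diag_single, diag_single]
  congr 2
  ring

theorem lgm_add (i : Fin m) (a b : K) : lgm i (a + b) = lgm i a + lgm i b :=
  Matrix.single_add i i a b

theorem lgm_zero (i : Fin m) : lgm i (0 : K) = 0 := Matrix.single_zero i i

theorem shm_add (i j : Fin m) (a b : K) : shm i j (a + b) = shm i j a + shm i j b := by
  unfold shm
  rw [Matrix.single_add, Matrix.single_add]
  abel

theorem shm_zero (i j : Fin m) : shm i j (0 : K) = 0 := by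
  unfold shm
  rw [Matrix.single_zero, Matrix.single_zero, add_zero]

theorem shm_self (i : Fin m) (a : K) : shm i i a = lgm i (a + a) := by
  unfold shm lgm
  rw [Matrix.single_add]

theorem sg_injective {S S' : Matrix (Fin m) (Fin m) K} {hS : Sᵀ = S} {hS' : S'ᵀ = S'}
    (h : sg S hS = sg S' hS') : S = S' := by
  have h1 := congrArg (fun g : symplecticGroup (Fin m) K => g.1.toBlocks₁₂) h
  simpa only [sg_val, toBlocks_fromBlocks₁₂] using h1

/-! ### Siegel matrices of a subgroup -/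

/-- the symmetric matrices whose Siegel element lies in `T` -/
def SgIn (T : Subgroup (symplecticGroup (Fin m) K)) (S : Matrix (Fin m) (Fin m) K) : Prop :=
  ∃ hS : Sᵀ = S, sg S hS ∈ T

variable {T : Subgroup (symplecticGroup (Fin m) K)}

theorem SgIn.add {S S' : Matrix (Fin m) (Fin m) K} (h : SgIn T S) (h' : SgIn T S') :
    SgIn T (S + S') :=
  ⟨symm_add h.1 h'.1, by rw [← sg_mul S S' h.1 h'.1]; exact T.mul_mem h.2 h'.2⟩

theorem SgIn.neg {S : Matrix (Fin m) (Fin m) K} (h : SgIn T S) : SgIn T (-S) :=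
  ⟨symm_neg h.1, by rw [← sg_inv S h.1]; exact T.inv_mem h.2⟩

theorem SgIn.sub {S S' : Matrix (Fin m) (Fin m) K} (h : SgIn T S) (h' : SgIn T S') :
    SgIn T (S - S') := by
  rw [sub_eq_add_neg]
  exact h.add h'.neg

theorem SgIn.zero : SgIn T (0 : Matrix (Fin m) (Fin m) K) :=
  ⟨symm_zero, by rw [sg_zero]; exact T.one_mem⟩

theorem SgIn.congr {S S' : Matrix (Fin m) (Fin m) K} (h : SgIn T S) (e : S = S') : SgIn T S' :=
  e ▸ h

theorem SgIn.conj
    (hfc : ∀ x ∈ T, ∀ g : symplecticGroup (Fin m) K, g * x * g⁻¹ ∈ USp m K → g * x * g⁻¹ ∈ T)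
    (A : SpecialLinearGroup (Fin m) K) {S : Matrix (Fin m) (Fin m) K} (h : SgIn T S) :
    SgIn T (A.1 * S * A.1ᵀ) :=
  ⟨symm_conj A.1 h.1, by
    have := hfc _ h.2 (lev A) (by rw [lev_conj_sg]; exact sg_mem_USp _ _)
    rwa [lev_conj_sg] at this⟩

theorem SgIn.torus
    (hfc : ∀ x ∈ T, ∀ g : symplecticGroup (Fin m) K, g * x * g⁻¹ ∈ USp m K → g * x * g⁻¹ ∈ T)
    (t : Fin m → K) (ht : ∀ i, t i ≠ 0) {S : Matrix (Fin m) (Fin m) K} (h : SgIn T S) :
    SgIn T (Matrix.diagonal t * S * (Matrix.diagonal t)ᵀ) :=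
  ⟨symm_conj _ h.1, by
    have := hfc _ h.2 (td t ht) (by rw [td_conj_sg]; exact sg_mem_USp _ _)
    rwa [td_conj_sg] at this⟩

/-- commutator of a Siegel element with an element `lev A * sg X` -/
theorem sg_conj_lev_mul_sg (A : SpecialLinearGroup (Fin m) K) (E X : Matrix (Fin m) (Fin m) K)
    (hE : Eᵀ = E) (hX : Xᵀ = X) :
    sg E hE * (lev A * sg X hX) * (sg E hE)⁻¹ =
      sg (E - A.1 * E * A.1ᵀ) (symm_sub hE (symm_conj A.1 hE)) * (lev A * sg X hX) := by
  have h1 : lev A * sg X hX * (sg E hE)⁻¹ = (sg (A.1 * E * A.1ᵀ) (symm_conj A.1 hE))⁻¹ *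
      (lev A * sg X hX) := by
    rw [eq_inv_mul_iff_mul_eq, ← mul_assoc, ← mul_assoc, ← lev_mul_sg A E hE, mul_assoc (lev A),
      sg_comm E X hE hX, ← mul_assoc, mul_assoc, mul_assoc, mul_inv_cancel, mul_one]
  rw [mul_assoc, h1, ← mul_assoc, sg_mul_inv]

/-- conjugating a short root element by a negative long root element -/
theorem sgm_conj_xp {i0 i1 : Fin m} (h01 : i0 ≠ i1) (b c : K) :
    sgm (lgm i1 c) (lgm_symm i1 c) * sg (shm i0 i1 b) (shm_symm i0 i1 b) *
        (sgm (lgm i1 c) (lgm_symm i1 c))⁻¹ =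
      lev (tv i0 i1 h01 (-(b * c))) * sg (shm i0 i1 b + lgm i0 (b * b * c))
        (symm_add (shm_symm _ _ _) (lgm_symm _ _)) := by
  rw [mul_inv_eq_iff_eq_mul]
  apply Subtype.ext
  rw [spv_mul, spv_mul, spv_mul, sgm_val, sg_val, lev_val, sg_val, fromBlocks_multiply,
    fromBlocks_multiply, fromBlocks_multiply]
  simp only [Matrix.mul_one, Matrix.one_mul, Matrix.mul_zero, Matrix.zero_mul, add_zero, zero_add]
  have e2 : (tv i0 i1 h01 (-(b * c))).1 * (shm i0 i1 b + lgm i0 (b * b * c)) = shm i0 i1 b := by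
    rw [val_tv, transvection]
    unfold shm lgm
    simp only [Matrix.mul_add, Matrix.add_mul, Matrix.one_mul, ss_same,
      ss_ne i0 i1 i0 i1 (Ne.symm h01), ss_ne i0 i1 i0 i0 (Ne.symm h01), add_zero, zero_add]
    have : single i0 i0 (-(b * c) * b) + single i0 i0 (b * b * c) =
        (0 : Matrix (Fin m) (Fin m) K) := by
      rw [← Matrix.single_add]
      have : -(b * c) * b + b * b * c = 0 := by ring
      rw [this, Matrix.single_zero]
    rw [add_assoc, add_assoc, this, add_zero]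
  have e1 : (tv i0 i1 h01 (-(b * c))).1 +
      (tv i0 i1 h01 (-(b * c))).1 * (shm i0 i1 b + lgm i0 (b * b * c)) * lgm i1 c = 1 := by
    rw [e2, val_tv, transvection]
    unfold shm lgm
    simp only [Matrix.add_mul, ss_same, ss_ne i1 i0 i1 i1 h01, add_zero]
    rw [add_assoc, ← Matrix.single_add]
    have : -(b * c) + b * c = 0 := by ring
    rw [this, Matrix.single_zero, add_zero]
  have e3 : ((tv i0 i1 h01 (-(b * c)))⁻¹).1ᵀ * lgm i1 c = lgm i1 c := by
    rw [val_tv_inv, transpose_sub, transpose_one, Matrix.transpose_single]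
    unfold lgm
    rw [Matrix.sub_mul, Matrix.one_mul, ss_ne i1 i0 i1 i1 h01, sub_zero]
  have e4 : ((tv i0 i1 h01 (-(b * c)))⁻¹).1ᵀ = lgm i1 c * shm i0 i1 b + 1 := by
    rw [val_tv_inv, transpose_sub, transpose_one, Matrix.transpose_single]
    unfold lgm shm
    rw [Matrix.mul_add, ss_ne i1 i1 i0 i1 (Ne.symm h01), ss_same, zero_add, ← Matrix.single_neg,
      sub_neg_eq_add, add_comm, mul_comm c b]
  rw [e1, e2, e3, ← e4]

end Cfsg.Agent.Helper25.PSpFus
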