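import Mathlib
import Cfsg.Agent.Lib.Helper25.PSpFus5
import Cfsg.Agent.Lib.Helper19.PGroupBasic

/-!
# Fusion-closed subgroups of the Sylow `p`-subgroup of `Sp_{2m}(K)`: the core lemma
-/

set_option autoImplicit false
set_option linter.style.haveILetI false
set_option linter.unusedSectionVars false
set_option linter.unusedSimpArgs false

namespace Cfsg.Agent.Helper25.PSpFus

open Matrix Cfsg.Agent.Helper25.PSLFus Cfsg.Agent.Helper28 Cfsg.Agent.Helper28.SpBorel

variable {K : Type*} [Field K] [Fintype K] {m : ℕ}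

theorem shm_neg (i j : Fin m) (a : K) : shm i j (-a) = -shm i j a := by
  unfold shm
  rw [← Matrix.single_neg, ← Matrix.single_neg, neg_add]

theorem shm_sub (i j : Fin m) (a b : K) : shm i j (a - b) = shm i j a - shm i j b := by
  rw [sub_eq_add_neg, shm_add, shm_neg, ← sub_eq_add_neg]

variable {T : Subgroup (symplecticGroup (Fin m) K)}

/-- from a long root element to a mixed element with nonzero short part -/
theorem step_mix
    (hfc : ∀ x ∈ T, ∀ g : symplecticGroup (Fin m) K, g * x * g⁻¹ ∈ USp m K → g * x * g⁻¹ ∈ T)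
    {i0 i1 : Fin m} (h01 : i0 ≠ i1) {a : K} (h : SgIn T (lgm i0 a)) :
    SgIn T (lgm i0 (a + a + a) + shm i0 i1 a) := by
  have hY := h.conj hfc (tv i1 i0 (Ne.symm h01) 1)
  rw [tvS_lgm_same] at hY
  have hY' := hY.conj hfc (tv i0 i1 h01 1)
  rw [Matrix.mul_add, Matrix.mul_add, Matrix.add_mul, Matrix.add_mul,
    tvS_lgm_other _ _ _ _ _ (Ne.symm h01), tvS_shm _ _ _ _ _ (Ne.symm h01), tvS_lgm_same] at hY'
  have := hY'.sub hY
  refine this.congr ?_
  simp only [one_mul, mul_one, shm_self, lgm_add]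
  abel

theorem exists_ne_zero_one (hK : 3 ≤ Fintype.card K) : ∃ s : K, s ≠ 0 ∧ s ≠ 1 := by
  classical
  by_contra hcon
  push_neg at hcon
  have : Fintype.card K ≤ 2 := by
    calc Fintype.card K = (Finset.univ : Finset K).card := Finset.card_univ.symm
      _ ≤ ({0, 1} : Finset K).card := Finset.card_le_card (fun x _ => by
          by_cases hx : x = 0
          · simp [hx]
          · simp [hcon x hx])
      _ ≤ 2 := Finset.card_le_two
  omega

theorem step_torus
    (hfc : ∀ x ∈ T, ∀ g : symplecticGroup (Fin m) K, g * x * g⁻¹ ∈ USp m K → g * x * g⁻¹ ∈ T)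
    {i0 i1 : Fin m} (h01 : i0 ≠ i1) (hK : 3 ≤ Fintype.card K) {a b : K} (hb : b ≠ 0)
    (h : SgIn T (lgm i0 a + shm i0 i1 b)) : ∀ c, SgIn T (shm i0 i1 c) := by
  classical
  obtain ⟨s, hs0, hs1⟩ := exists_ne_zero_one hK
  have key : ∀ (s : K), s ≠ 0 → ∀ {a' b' : K}, SgIn T (lgm i0 a' + shm i0 i1 b') →
      SgIn T (lgm i0 a' + shm i0 i1 (b' * s)) := by
    intro s hs a' b' h'
    have ht : ∀ i, Function.update (fun _ : Fin m => (1 : K)) i1 s i ≠ 0 := by
      intro i
      by_cases hi : i = i1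
      · subst hi; rw [Function.update_self]; exact hs
      · rw [Function.update_of_ne hi]; exact one_ne_zero
    have := h'.torus hfc _ ht
    rw [Matrix.mul_add, Matrix.add_mul, diag_lgm, diag_shm, Function.update_of_ne h01,
      Function.update_self] at this
    refine this.congr ?_
    rw [one_mul, mul_one, one_mul]
  have h1 := (key s hs0 h).sub h
  have h2 : SgIn T (lgm i0 0 + shm i0 i1 (b * s - b)) := h1.congr (by
    rw [shm_sub, lgm_zero]; abel)
  have hβ : b * s - b ≠ 0 := by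
    have : b * s - b = b * (s - 1) := by ring
    rw [this]
    exact mul_ne_zero hb (sub_ne_zero.mpr hs1)
  intro c
  by_cases hc : c = 0
  · rw [hc, shm_zero]; exact SgIn.zero
  · have h3 := key (c / (b * s - b)) (div_ne_zero hc hβ) h2
    refine h3.congr ?_
    rw [lgm_zero, zero_add, mul_div_cancel₀ c hβ]

theorem step_rank3
    (hfc : ∀ x ∈ T, ∀ g : symplecticGroup (Fin m) K, g * x * g⁻¹ ∈ USp m K → g * x * g⁻¹ ∈ T)
    {i0 i1 i2 : Fin m} (h01 : i0 ≠ i1) (h02 : i0 ≠ i2) (h12 : i1 ≠ i2) {a b : K} (hb : b ≠ 0)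
    (h : SgIn T (lgm i0 a + shm i0 i1 b)) : ∀ c, SgIn T (shm i0 i1 c) := by
  have h1 : ∀ c, SgIn T (shm i2 i0 (c * b)) := by
    intro c
    have := (h.conj hfc (tv i2 i1 (Ne.symm h12) c)).sub h
    refine this.congr ?_
    rw [Matrix.mul_add, Matrix.add_mul, tvS_lgm_other _ _ _ _ _ (Ne.symm h01), shm_comm i0 i1,
      tvS_shm _ _ _ _ _ (Ne.symm h01)]
    abel
  intro c
  have h2 : SgIn T (shm i2 i0 c) := (h1 (c / b)).congr (by rw [div_mul_cancel₀ c hb])
  have := (h2.conj hfc (tv i1 i2 h12 1)).sub h2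
  refine this.congr ?_
  rw [tvS_shm _ _ _ _ _ (Ne.symm h02), one_mul, shm_comm i1 i0]
  abel

theorem step_long
    (hfc : ∀ x ∈ T, ∀ g : symplecticGroup (Fin m) K, g * x * g⁻¹ ∈ USp m K → g * x * g⁻¹ ∈ T)
    {i0 i1 : Fin m} (h01 : i0 < i1) (h : ∀ c, SgIn T (shm i0 i1 c)) :
    (∀ c, SgIn T (lgm i0 c)) ∧ (∀ c, lev (tv i0 i1 (ne_of_lt h01) c) ∈ T) := by
  have hne := ne_of_lt h01
  have hyU : ∀ c : K, lev (tv i0 i1 hne (-(1 * c))) * sg (shm i0 i1 1 + lgm i0 (1 * 1 * c))
      (symm_add (shm_symm _ _ _) (lgm_symm _ _)) ∈ USp m K := fun c =>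
    (USp m K).mul_mem (lev_mem_USp (tv_mem_U h01 _)) (sg_mem_USp _ _)
  have hy : ∀ c : K, lev (tv i0 i1 hne (-(1 * c))) * sg (shm i0 i1 1 + lgm i0 (1 * 1 * c))
      (symm_add (shm_symm _ _ _) (lgm_symm _ _)) ∈ T := by
    intro c
    have := hfc _ ((h 1).2) (sgm (lgm i1 c) (lgm_symm i1 c)) (by
      rw [sgm_conj_xp hne]; exact hyU c)
    rwa [sgm_conj_xp hne] at this
  have hl : ∀ e : K, SgIn T (lgm i0 e) := by
    intro e
    have h1 := hy 1
    have h2 := hfc _ h1 (sg (lgm i1 e) (lgm_symm _ _))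
      ((USp m K).mul_mem ((USp m K).mul_mem (sg_mem_USp _ _) (hyU 1))
        ((USp m K).inv_mem (sg_mem_USp _ _)))
    rw [sg_conj_lev_mul_sg] at h2
    have h3 := T.mul_mem h2 (T.inv_mem h1)
    rw [mul_inv_cancel_right] at h3
    have h4 : SgIn T (lgm i1 e - (tv i0 i1 hne (-(1 * 1))).1 * lgm i1 e *
        (tv i0 i1 hne (-(1 * 1))).1ᵀ) := ⟨_, h3⟩
    rw [tvS_lgm_same] at h4
    have h5 := (h4.add (h (-(1 * 1) * e))).neg
    refine h5.congr ?_
    have : -(1 * 1 : K) * e * -(1 * 1) = e := by ring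
    rw [this]
    abel
  refine ⟨hl, fun c => ?_⟩
  have h1 := hy (-c)
  have h2 : sg (shm i0 i1 1 + lgm i0 (1 * 1 * -c))
      (symm_add (shm_symm _ _ _) (lgm_symm _ _)) ∈ T := ((h 1).add (hl _)).2
  have h3 := T.mul_mem h1 (T.inv_mem h2)
  rw [mul_inv_cancel_right] at h3
  have e : -(1 * -c) = c := by ring
  rwa [e] at h3

theorem step_spread
    (hfc : ∀ x ∈ T, ∀ g : symplecticGroup (Fin m) K, g * x * g⁻¹ ∈ USp m K → g * x * g⁻¹ ∈ T)
    {i0 i1 : Fin m} (h0 : i0.val = 0) (h01 : i0 ≠ i1)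
    (hs : ∀ c, SgIn T (shm i0 i1 c)) (hl : ∀ c, SgIn T (lgm i0 c))
    (hv : ∀ c, lev (tv i0 i1 h01 c) ∈ T) : USp m K ≤ T := by
  have pos : ∀ l : Fin m, i0 ≠ l → i0 < l := by
    intro l hl'
    rw [Fin.lt_def, h0]
    exact Nat.pos_of_ne_zero (fun h => hl' (Fin.ext (by rw [h0, h])))
  have rep : ∀ (i k j : Fin m), i ≠ k → k ≠ j → i ≠ j → (∀ c, SgIn T (shm k j c)) →
      ∀ c, SgIn T (shm i j c) := by
    intro i k j hik hkj hij hk c
    have := ((hk c).conj hfc (tv i k hik 1)).sub (hk c)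
    refine this.congr ?_
    rw [tvS_shm _ _ _ _ _ hkj, one_mul]
    abel
  have hs1 : ∀ i, i ≠ i1 → ∀ c, SgIn T (shm i i1 c) := by
    intro i hi
    by_cases hi0 : i = i0
    · rw [hi0]; exact hs
    · exact rep i i0 i1 hi0 h01 hi hs
  have hsall : ∀ i j, i ≠ j → ∀ c, SgIn T (shm i j c) := by
    intro i j hij
    by_cases hj : j = i1
    · rw [hj]; rw [hj] at hij; exact hs1 i hij
    · by_cases hi : i = i1
      · intro c; rw [hi, shm_comm]; exact hs1 j hj c
      · intro c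
        rw [shm_comm]
        refine rep j i1 i hj (Ne.symm hi) (Ne.symm hij) ?_ c
        intro c'
        rw [shm_comm]
        exact hs1 i hi c'
  have hlall : ∀ i c, SgIn T (lgm i c) := by
    intro i c
    by_cases hi : i = i0
    · rw [hi]; exact hl c
    · have := (((hl c).conj hfc (tv i i0 hi 1)).sub (hl c)).sub (hsall i i0 hi (1 * c))
      refine this.congr ?_
      rw [tvS_lgm_same, one_mul, mul_one]
      abel
  have hv0 : ∀ (l : Fin m) (hl' : i0 ≠ l) (c : K), lev (tv i0 l hl' c) ∈ T := by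
    intro l hl' c
    by_cases hl1 : l = i1
    · subst hl1; exact hv c
    · have hA := tv_conj_A (Ne.symm hl1 : i1 ≠ l) h01 hl' (1 : K) (-c)
      have hmemU : lev (tv i0 i1 h01 (-c)) * lev (tv i0 l hl' (-(-c * 1))) ∈ USp m K :=
        (USp m K).mul_mem (lev_mem_USp (tv_mem_U (pos i1 h01) _))
          (lev_mem_USp (tv_mem_U (pos l hl') _))
      have h1 := hfc _ (hv (-c)) (lev (tv i1 l (Ne.symm hl1) 1)) (by
        rw [lev_inv, ← lev_mul, ← lev_mul, hA, lev_mul]; exact hmemU)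
      rw [lev_inv, ← lev_mul, ← lev_mul, hA, lev_mul] at h1
      have h2 := T.mul_mem (T.inv_mem (hv (-c))) h1
      rw [inv_mul_cancel_left] at h2
      have e : -(-c * 1) = c := by ring
      rwa [e] at h2
  have hvall : ∀ (i j : Fin m) (hij : i < j) (c : K), lev (tv i j (ne_of_lt hij) c) ∈ T := by
    intro i j hij c
    by_cases hi : i = i0
    · subst hi; exact hv0 j (ne_of_lt hij) c
    · have h0j : i0 ≠ j := by
        intro h
        rw [← h, Fin.lt_def, h0] at hij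
        omega
      have hB := tv_conj_B hi h0j (ne_of_lt hij) (1 : K) c
      have hmemU : lev (tv i0 j h0j c) * lev (tv i j (ne_of_lt hij) (1 * c)) ∈ USp m K :=
        (USp m K).mul_mem (lev_mem_USp (tv_mem_U (pos j h0j) _)) (lev_mem_USp (tv_mem_U hij _))
      have h1 := hfc _ (hv0 j h0j c) (lev (tv i i0 hi 1)) (by
        rw [lev_inv, ← lev_mul, ← lev_mul, hB, lev_mul]; exact hmemU)
      rw [lev_inv, ← lev_mul, ← lev_mul, hB, lev_mul] at h1
      have h2 := T.mul_mem (T.inv_mem (hv0 j h0j c)) h1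
      rw [inv_mul_cancel_left, one_mul] at h2
      exact h2
  exact USp_le_of_gens T (fun i c => (hlall i c).2) (fun i j hij c => (hsall i j hij c).2) hvall

end Cfsg.Agent.Helper25.PSpFus
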