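import Mathlib
import Cfsg.Agent.Lib.Helper25.PSpFus6

/-!
# The centre of `U` and the core lemma for `Sp_{2m}(K)`
-/

set_option autoImplicit false
set_option linter.style.haveILetI false
set_option linter.unusedSectionVars false
set_option linter.unusedSimpArgs false

namespace Cfsg.Agent.Helper25.PSpFus

open Matrix Cfsg.Agent.Helper25.PSLFus Cfsg.Agent.Helper28 Cfsg.Agent.Helper28.SpBorel

variable {K : Type*} [Field K] [Fintype K] {m : ℕ}

theorem central_form {i0 i1 : Fin m} (h0 : i0.val = 0) (h1 : i1.val = 1)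
    {z : symplecticGroup (Fin m) K} (hz : z ∈ USp m K) (hzc : ∀ u ∈ USp m K, u * z = z * u) :
    ∃ (a b : K), z = sg (lgm i0 a + shm i0 i1 b) (symm_add (lgm_symm _ _) (shm_symm _ _ _)) := by
  obtain ⟨A, hA, S, hS, rfl⟩ := exists_lev_mul_sg hz
  have h01 : i0 ≠ i1 := by
    intro h
    rw [h, h1] at h0
    omega
  have h01lt : i0 < i1 := by
    rw [Fin.lt_def, h0, h1]; omega
  -- `A = 1`
  have hA1 : A = 1 := by
    apply Subtype.ext
    rw [val_one]
    ext r s
    by_cases hrs : r = s
    · subst hrs; rw [Matrix.one_apply_eq]; exact hA.2 r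
    · rw [Matrix.one_apply_ne hrs]
      have hc := hzc (sg (single s s 1) (symm_single_self s 1)) (sg_mem_USp _ _)
      have hc' := congrArg (fun g : symplecticGroup (Fin m) K => g.1.toBlocks₁₂) hc
      simp only [spv_mul, sg_val, lev_val, fromBlocks_multiply, toBlocks_fromBlocks₁₂,
        Matrix.mul_one, Matrix.one_mul, Matrix.mul_zero, Matrix.zero_mul, add_zero, zero_add]
        at hc'
      have e : single s s (1 : K) * ((A⁻¹).1)ᵀ = A.1 * single s s 1 := by
        rw [add_comm (A.1 * single s s 1)] at hc'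
        exact add_left_cancel hc'
      have e2 := congrFun (congrFun e r) s
      rw [Matrix.single_mul_apply_of_ne _ _ _ _ _ hrs, Matrix.mul_single_apply_same, mul_one]
        at e2
      exact e2.symm
  subst hA1
  rw [lev_one, one_mul] at hzc ⊢
  have F1 : ∀ (i j : Fin m), i < j → ∀ b : Fin m, b ≠ i → S j b = 0 := by
    intro i j hij b hbi
    have hc := hzc (lev (tv i j (ne_of_lt hij) 1)) (lev_mem_USp (tv_mem_U hij 1))
    rw [lev_mul_sg] at hc
    have hc2 := sg_injective (mul_right_cancel hc)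
    rw [tvS_expand] at hc2
    have e2 := congrFun (congrFun hc2 i) b
    rw [Matrix.add_apply, Matrix.add_apply, Matrix.add_apply, Matrix.single_mul_apply_same,
      Matrix.mul_single_apply_of_ne _ _ _ _ _ hbi, Matrix.mul_single_apply_of_ne _ _ _ _ _ hbi,
      one_mul, add_zero, add_zero] at e2
    exact add_left_cancel (a := S i b) (by rw [e2, add_zero])
  have hsym : ∀ r s, S r s = S s r := by
    intro r s
    have := congrFun (congrFun hS s) r
    rw [Matrix.transpose_apply] at this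
    exact this
  have tri : ∀ r : Fin m, r = i0 ∨ r = i1 ∨ 2 ≤ r.val := by
    intro r
    by_cases hr0 : r.val = 0
    · left; exact Fin.ext (by rw [hr0, h0])
    · by_cases hr1 : r.val = 1
      · right; left; exact Fin.ext (by rw [hr1, h1])
      · right; right; omega
  have hrow : ∀ r : Fin m, 2 ≤ r.val → ∀ s, S r s = 0 := by
    intro r hr s
    by_cases hs : s = i0
    · refine F1 i1 r (by rw [Fin.lt_def, h1]; omega) s ?_
      rw [hs]; exact h01
    · exact F1 i0 r (by rw [Fin.lt_def, h0]; omega) s hs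
  have h11 : S i1 i1 = 0 := F1 i0 i1 h01lt i1 (Ne.symm h01)
  have hne2 : ∀ r : Fin m, 2 ≤ r.val → i0 ≠ r ∧ i1 ≠ r := by
    intro r hr
    constructor
    · intro h; rw [← h, h0] at hr; omega
    · intro h; rw [← h, h1] at hr; omega
  refine ⟨S i0 i0, S i0 i1, ?_⟩
  apply sg_congr
  ext r s
  unfold lgm shm
  rw [Matrix.add_apply, Matrix.add_apply, Matrix.single_apply, Matrix.single_apply,
    Matrix.single_apply]
  rcases tri r with hr | hr | hr
  · rcases tri s with hs' | hs' | hs'
    · subst hr; subst hs'; simp [h01, Ne.symm h01]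
    · subst hr; subst hs'; simp [h01, Ne.symm h01]
    · subst hr
      obtain ⟨n0, n1⟩ := hne2 s hs'
      rw [hsym, hrow s hs']
      simp [n0, n1]
  · rcases tri s with hs' | hs' | hs'
    · subst hr; subst hs'; rw [hsym]; simp [h01, Ne.symm h01]
    · subst hr; subst hs'; rw [h11]; simp [h01, Ne.symm h01]
    · subst hr
      obtain ⟨n0, n1⟩ := hne2 s hs'
      rw [hsym, hrow s hs']
      simp [n0, n1]
  · obtain ⟨n0, n1⟩ := hne2 r hr
    rw [hrow r hr]
    simp [n0, n1]

/-- **Core lemma.**  A nontrivial subgroup of `U` closed under fusion in `Sp_{2m}(K)` is `U`. -/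
theorem eq_USp_of_fusClosed (p : ℕ) [Fact p.Prime] [CharP K p] (hm : 2 ≤ m)
    (hex : m = 2 → 3 ≤ Fintype.card K)
    (T : Subgroup (symplecticGroup (Fin m) K)) (hTU : T ≤ USp m K) (hne : T ≠ ⊥)
    (hfc : ∀ x ∈ T, ∀ g : symplecticGroup (Fin m) K, g * x * g⁻¹ ∈ USp m K → g * x * g⁻¹ ∈ T) :
    T = USp m K := by
  haveI : NeZero m := ⟨by omega⟩
  haveI hnorm : (T.subgroupOf (USp m K)).Normal := by
    refine ⟨fun x hx u => ?_⟩
    rw [Subgroup.mem_subgroupOf] at hx ⊢
    exact hfc _ hx u (Subgroup.mul_mem _ (Subgroup.mul_mem _ u.2 x.2) (Subgroup.inv_mem _ u.2))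
  have hne' : T.subgroupOf (USp m K) ≠ ⊥ := by
    intro h
    apply hne
    rw [eq_bot_iff]
    intro x hx
    have : (⟨x, hTU hx⟩ : USp m K) ∈ T.subgroupOf (USp m K) :=
      Subgroup.mem_subgroupOf.mpr hx
    rw [h, Subgroup.mem_bot] at this
    rw [Subgroup.mem_bot]
    exact congrArg Subtype.val this
  have hcen := Cfsg.Agent.Helper19.normal_inf_center_ne_bot (USp_isPGroup (m := m) (K := K) p)
    (T.subgroupOf (USp m K)) hne'
  obtain ⟨⟨z, hz⟩, hz1'⟩ := (Subgroup.ne_bot_iff_exists_ne_one).mp hcen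
  have hz1 : z ≠ 1 := fun h => hz1' (Subtype.ext h)
  obtain ⟨hzT, hzC⟩ := Subgroup.mem_inf.mp hz
  have hzT' : ((z : USp m K) : symplecticGroup (Fin m) K) ∈ T :=
    Subgroup.mem_subgroupOf.mp hzT
  have hzc : ∀ u ∈ USp m K, u * ((z : USp m K) : symplecticGroup (Fin m) K) =
      ((z : USp m K) : symplecticGroup (Fin m) K) * u := by
    intro u hu
    have := (Subgroup.mem_center_iff.mp hzC) ⟨u, hu⟩
    exact congrArg Subtype.val this
  have h01 : (⟨0, by omega⟩ : Fin m) ≠ ⟨1, by omega⟩ := by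
    intro h
    have := congrArg Fin.val h
    simp at this
  have h01lt : (⟨0, by omega⟩ : Fin m) < ⟨1, by omega⟩ := by
    rw [Fin.lt_def]; norm_num
  obtain ⟨a, b, hzeq⟩ := central_form (i0 := (⟨0, by omega⟩ : Fin m))
    (i1 := (⟨1, by omega⟩ : Fin m)) rfl rfl (z : USp m K).2 hzc
  have hzS : SgIn T (lgm (⟨0, by omega⟩ : Fin m) a + shm ⟨0, by omega⟩ ⟨1, by omega⟩ b) :=
    ⟨_, hzeq ▸ hzT'⟩
  have hab : a ≠ 0 ∨ b ≠ 0 := by
    by_contra hcon
    push_neg at hcon
    apply hz1
    apply Subtype.ext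
    rw [hzeq, Subgroup.coe_one, ← sg_zero]
    apply sg_congr
    rw [hcon.1, hcon.2, lgm_zero, shm_zero, add_zero]
  obtain ⟨a', b', hb', hmix⟩ : ∃ a' b', b' ≠ 0 ∧
      SgIn T (lgm (⟨0, by omega⟩ : Fin m) a' + shm ⟨0, by omega⟩ ⟨1, by omega⟩ b') := by
    by_cases hb : b = 0
    · have ha : a ≠ 0 := by
        rcases hab with h | h
        · exact h
        · exact absurd hb h
      have h1 : SgIn T (lgm (⟨0, by omega⟩ : Fin m) a) := hzS.congr (by
        rw [hb, shm_zero, add_zero])
      exact ⟨a + a + a, a, ha, step_mix hfc h01 h1⟩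
    · exact ⟨a, b, hb, hzS⟩
  have hs : ∀ c, SgIn T (shm (⟨0, by omega⟩ : Fin m) ⟨1, by omega⟩ c) := by
    by_cases hK : 3 ≤ Fintype.card K
    · exact step_torus hfc h01 hK hb' hmix
    · have hm3 : 3 ≤ m := by
        by_contra h
        exact hK (hex (by omega))
      refine step_rank3 hfc (i2 := (⟨2, by omega⟩ : Fin m)) h01 ?_ ?_ hb' hmix
      · intro h
        have := congrArg Fin.val h
        simp at this
      · intro h
        have := congrArg Fin.val h
        simp at this
  obtain ⟨hl, hv⟩ := step_long hfc h01lt hs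
  exact le_antisymm hTU (step_spread hfc rfl h01 hs hl hv)

end Cfsg.Agent.Helper25.PSpFus
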