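import Mathlib
import Cfsg.Agent.Lib.Helper25.PSpFus7

/-!
# The torus of `Sp_{2m}(K)` and the decomposition `B = T U`
-/

set_option autoImplicit false
set_option linter.style.haveILetI false
set_option linter.unusedSectionVars false
set_option linter.unusedSimpArgs false

namespace Cfsg.Agent.Helper25.PSpFus

open Matrix Cfsg.Agent.Helper25.PSLFus Cfsg.Agent.Helper28 Cfsg.Agent.Helper28.SpBorel

variable {K : Type*} [Field K] [Fintype K] {m : ℕ}

theorem td_congr {t t' : Fin m → K} (h : t = t') (ht : ∀ i, t i ≠ 0) (ht' : ∀ i, t' i ≠ 0) :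
    td t ht = td t' ht' := by
  subst h; rfl

theorem td_mul (t t' : Fin m → K) (ht : ∀ i, t i ≠ 0) (ht' : ∀ i, t' i ≠ 0) :
    td t ht * td t' ht' = td (fun i => t i * t' i) (fun i => mul_ne_zero (ht i) (ht' i)) := by
  apply Subtype.ext
  rw [spv_mul, td_val, td_val, td_val, fromBlocks_multiply]
  simp only [Matrix.mul_zero, Matrix.zero_mul, add_zero, zero_add, Matrix.diagonal_mul_diagonal]
  congr 2
  funext i
  rw [mul_inv]

theorem td_one (h : ∀ i : Fin m, (fun _ : Fin m => (1 : K)) i ≠ 0) :
    td (fun _ : Fin m => (1 : K)) h = 1 := by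
  apply Subtype.ext
  rw [td_val, spv_one]
  have : (fun i : Fin m => ((1 : K))⁻¹) = fun _ => 1 := by funext i; exact inv_one
  rw [this, Matrix.diagonal_one, fromBlocks_one]

theorem td_inv (t : Fin m → K) (ht : ∀ i, t i ≠ 0) :
    (td t ht)⁻¹ = td (fun i => (t i)⁻¹) (fun i => inv_ne_zero (ht i)) := by
  apply inv_eq_of_mul_eq_one_right
  rw [td_mul, ← td_one (fun _ => one_ne_zero)]
  apply td_congr
  funext i
  exact mul_inv_cancel₀ (ht i)

theorem td_conj_mem (t : Fin m → K) (ht : ∀ i, t i ≠ 0) {u : symplecticGroup (Fin m) K}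
    (hu : u ∈ USp m K) : td t ht * u * (td t ht)⁻¹ ∈ USp m K := by
  rw [td_inv, mem_USp, spv_mul, spv_mul, td_val, td_val]
  have hu' := mem_USp.mp hu
  rw [blk_eq u.1, hu'.1, fromBlocks_multiply, fromBlocks_multiply]
  simp only [Matrix.mul_zero, Matrix.zero_mul, add_zero, zero_add]
  refine ⟨by rw [toBlocks_fromBlocks₂₁], ?_⟩
  rw [toBlocks_fromBlocks₁₁]
  refine ⟨fun i j hji => ?_, fun i => ?_⟩
  · rw [Matrix.mul_diagonal, Matrix.diagonal_mul, hu'.2.1 i j hji, mul_zero, zero_mul]
  · rw [Matrix.mul_diagonal, Matrix.diagonal_mul, hu'.2.2 i, mul_one, mul_inv_cancel₀ (ht i)]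

theorem td_mem_normalizer (t : Fin m → K) (ht : ∀ i, t i ≠ 0) :
    td t ht ∈ Subgroup.normalizer ((USp m K : Subgroup _) : Set _) := by
  rw [Subgroup.mem_normalizer_iff]
  intro h
  constructor
  · exact fun hh => td_conj_mem t ht hh
  · intro hh
    have := td_conj_mem (fun i => (t i)⁻¹) (fun i => inv_ne_zero (ht i)) hh
    rw [← td_inv t ht, inv_inv] at this
    have e : (td t ht)⁻¹ * (td t ht * h * (td t ht)⁻¹) * td t ht = h := by group
    rwa [e] at this

theorem exists_td_mul {g : symplecticGroup (Fin m) K} (hg : g ∈ BSp m K) :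
    ∃ (t : Fin m → K) (ht : ∀ i, t i ≠ 0), ∃ u ∈ USp m K, g = td t ht * u := by
  have hB := mem_BSp.mp hg
  have ht : ∀ i, g.1.toBlocks₁₁ i i ≠ 0 := fun i => diag_ne_zero_of_isB g.2 hB i
  refine ⟨fun i => g.1.toBlocks₁₁ i i, ht, (td _ ht)⁻¹ * g, ?_, by rw [mul_inv_cancel_left]⟩
  rw [td_inv, mem_USp, spv_mul, td_val]
  refine ⟨?_, ?_⟩
  · rw [mul_b21, toBlocks_fromBlocks₂₁, toBlocks_fromBlocks₂₂, hB.1, Matrix.zero_mul,
      Matrix.mul_zero, add_zero]
  · rw [mul_b11, toBlocks_fromBlocks₁₁, toBlocks_fromBlocks₁₂, Matrix.zero_mul, add_zero]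
    refine ⟨fun i j hji => ?_, fun i => ?_⟩
    · rw [Matrix.diagonal_mul, hB.2 hji, mul_zero]
    · rw [Matrix.diagonal_mul, inv_mul_cancel₀ (ht i)]

/-- the long coroot torus elements -/
noncomputable def hl (i : Fin m) (δ : K) (hδ : δ ≠ 0) : symplecticGroup (Fin m) K :=
  td (Function.update (fun _ => (1 : K)) i δ) (by
    intro j
    by_cases h : j = i
    · subst h; rw [Function.update_self]; exact hδ
    · rw [Function.update_of_ne h]; exact one_ne_zero)

/-- the torus is generated by the long coroot elements -/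
theorem td_mem_of_hl (H : Subgroup (symplecticGroup (Fin m) K))
    (h : ∀ (i : Fin m) (δ : K) (hδ : δ ≠ 0), hl i δ hδ ∈ H) (t : Fin m → K)
    (ht : ∀ i, t i ≠ 0) : td t ht ∈ H := by
  classical
  have hne : ∀ s : Finset (Fin m), ∀ i, (fun i => if i ∈ s then t i else 1) i ≠ 0 := by
    intro s i
    show (if i ∈ s then t i else 1) ≠ 0
    split_ifs
    · exact ht i
    · exact one_ne_zero
  have key : ∀ s : Finset (Fin m), td (fun i => if i ∈ s then t i else 1) (hne s) ∈ H := by
    intro s
    induction s using Finset.induction_on with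
    | empty =>
      have : td (fun i => if i ∈ (∅ : Finset (Fin m)) then t i else 1) (hne ∅) = 1 := by
        rw [← td_one (fun _ => one_ne_zero)]
        apply td_congr
        funext i
        rw [if_neg (Finset.notMem_empty i)]
      rw [this]
      exact H.one_mem
    | insert a s ha ih =>
      have h1 := H.mul_mem (h a (t a) (ht a)) ih
      rw [hl, td_mul] at h1
      have : td (fun i => if i ∈ insert a s then t i else 1) (hne (insert a s)) =
          td (fun i => Function.update (fun _ => (1 : K)) a (t a) i *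
            (if i ∈ s then t i else 1)) (fun i => mul_ne_zero (by
              by_cases hia : i = a
              · subst hia; rw [Function.update_self]; exact ht i
              · rw [Function.update_of_ne hia]; exact one_ne_zero) (hne s i)) := by
        apply td_congr
        funext i
        by_cases hia : i = a
        · subst hia
          rw [Function.update_self, if_pos (Finset.mem_insert_self _ _), if_neg ha, mul_one]
        · rw [Function.update_of_ne hia, one_mul]
          simp [Finset.mem_insert, hia]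
      rw [this]
      exact h1
  have h2 := key Finset.univ
  have : td t ht = td (fun i => if i ∈ (Finset.univ : Finset (Fin m)) then t i else 1)
      (hne Finset.univ) := by
    apply td_congr
    funext i
    rw [if_pos (Finset.mem_univ i)]
  rw [this]
  exact h2

theorem dg_inv_val (f : Fin m → K) (hf : ∏ i, f i = 1) :
    ((dg f hf)⁻¹).1 = Matrix.diagonal (fun i => (f i)⁻¹) := by
  have h1 := sl_mul_inv (dg f hf)
  rw [val_dg] at h1
  have h2 : Matrix.diagonal (fun i => (f i)⁻¹) * Matrix.diagonal f = 1 := by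
    rw [Matrix.diagonal_mul_diagonal, ← Matrix.diagonal_one]
    congr 1
    funext i
    exact inv_mul_cancel₀ (dg_ne_zero hf i)
  calc ((dg f hf)⁻¹).1 = (Matrix.diagonal (fun i => (f i)⁻¹) * Matrix.diagonal f) *
        ((dg f hf)⁻¹).1 := by rw [h2, Matrix.one_mul]
    _ = Matrix.diagonal (fun i => (f i)⁻¹) := by rw [Matrix.mul_assoc, h1, Matrix.mul_one]

theorem lev_dg (f : Fin m → K) (hf : ∏ i, f i = 1) :
    lev (dg f hf) = td f (dg_ne_zero hf) := by
  apply Subtype.ext
  rw [lev_val, td_val, dg_inv_val, val_dg, Matrix.diagonal_transpose]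

theorem hl_eq_mul {i0 i1 : Fin m} (h01 : i0 ≠ i1) (δ : K) (hδ : δ ≠ 0) :
    hl i0 δ hδ = lev (hh i0 i1 h01 δ hδ) * hl i1 δ hδ := by
  unfold hh
  rw [lev_dg, hl, hl, td_mul]
  apply td_congr
  funext i
  by_cases hi0 : i = i0
  · subst hi0
    rw [Function.update_self, hfun_left h01, Function.update_of_ne h01, mul_one]
  · by_cases hi1 : i = i1
    · subst hi1
      rw [Function.update_of_ne hi0, hfun_right, Function.update_self, inv_mul_cancel₀ hδ]
    · rw [Function.update_of_ne hi0, hfun_of_ne _ _ _ _ hi0 hi1, Function.update_of_ne hi1,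
        one_mul]

end Cfsg.Agent.Helper25.PSpFus
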