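import Mathlib
import Cfsg.Agent.Lib.Helper25.PSpFus8

/-!
# The long coroot torus elements as products of long root elements
-/

set_option autoImplicit false
set_option linter.style.haveILetI false
set_option linter.unusedSectionVars false
set_option linter.unusedSimpArgs false

namespace Cfsg.Agent.Helper25.PSpFus

open Matrix Cfsg.Agent.Helper25.PSLFus Cfsg.Agent.Helper28 Cfsg.Agent.Helper28.SpBorel

section gen

variable {K : Type*} [Field K] {ι : Type*} [DecidableEq ι] [Fintype ι]

/-- the monomial matrix `w_{ij}(t)` over a general index type -/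
def wmatG (i j : ι) (t : K) : Matrix ι ι K :=
  1 - single i i 1 - single j j 1 + single i j t + single j i (-t⁻¹)

theorem wmatG_eq (i j : ι) (hij : i ≠ j) (t : K) (ht : t ≠ 0) :
    (1 + single i j t) * (1 + single j i (-t⁻¹)) * (1 + single i j t) = wmatG i j t := by
  have hji := hij.symm
  unfold wmatG
  simp only [mul_add, add_mul, mul_one, one_mul, Matrix.single_mul_single_same,
    Matrix.single_mul_single_of_ne _ _ _ _ hji, add_zero]
  have e1 : t * -t⁻¹ = -1 := by field_simp
  have e2 : -t⁻¹ * t = -1 := by field_simp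
  have e3 : t * -t⁻¹ * t = -t := by rw [e1]; ring
  rw [e3, e1, e2, ← Matrix.single_neg i i 1, ← Matrix.single_neg j j 1, ← Matrix.single_neg i j t]
  abel

theorem wmatG_mul (i j : ι) (hij : i ≠ j) (t : K) :
    wmatG i j t * wmatG i j (-1) =
      1 - single i i 1 - single j j 1 + single i i t + single j j t⁻¹ := by
  have hji := hij.symm
  unfold wmatG
  simp only [mul_add, add_mul, mul_sub, sub_mul, mul_one, one_mul, Matrix.single_mul_single_same,
    Matrix.single_mul_single_of_ne _ _ _ _ hji, Matrix.single_mul_single_of_ne _ _ _ _ hij,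
    add_zero, sub_zero]
  have e1 : -t⁻¹ * -1 = t⁻¹ := by ring
  have e2 : -(-1 : K)⁻¹ = 1 := by rw [inv_neg, inv_one, neg_neg]
  rw [e1, e2, mul_one]
  abel

end gen

variable {K : Type*} [Field K] [Fintype K] {m : ℕ}

theorem fromBlocks_upper_single (i j : Fin m) (c : K) :
    fromBlocks (1 : Matrix (Fin m) (Fin m) K) (single i j c) (0 : Matrix (Fin m) (Fin m) K)
      (1 : Matrix (Fin m) (Fin m) K) = 1 + single (Sum.inl i) (Sum.inr j) c := by
  ext (a | a) (b | b) <;>
    simp [Matrix.single_apply, Matrix.one_apply, Matrix.add_apply]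

theorem fromBlocks_lower_single (i j : Fin m) (c : K) :
    fromBlocks (1 : Matrix (Fin m) (Fin m) K) (0 : Matrix (Fin m) (Fin m) K) (single i j c)
      (1 : Matrix (Fin m) (Fin m) K) = 1 + single (Sum.inr i) (Sum.inl j) c := by
  ext (a | a) (b | b) <;>
    simp [Matrix.single_apply, Matrix.one_apply, Matrix.add_apply]

theorem hl_val_eq (i : Fin m) (δ : K) :
    (1 : Matrix (Fin m ⊕ Fin m) (Fin m ⊕ Fin m) K) - single (Sum.inl i) (Sum.inl i) 1 -
      single (Sum.inr i) (Sum.inr i) 1 + single (Sum.inl i) (Sum.inl i) δ +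
      single (Sum.inr i) (Sum.inr i) δ⁻¹ =
    fromBlocks (Matrix.diagonal (Function.update (fun _ => (1 : K)) i δ)) 0 0
      (Matrix.diagonal fun k => (Function.update (fun _ => (1 : K)) i δ k)⁻¹) := by
  ext (a | a) (b | b)
  · by_cases hab : a = b
    · subst hab
      by_cases hai : a = i
      · subst hai
        simp [Matrix.single_apply, Matrix.one_apply, Matrix.add_apply, Matrix.sub_apply]
      · simp [Matrix.single_apply, Matrix.one_apply, Matrix.add_apply, Matrix.sub_apply,
          Function.update_of_ne hai, Ne.symm hai]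
    · have h1 : ¬ (i = a ∧ i = b) := fun h => hab (h.1.symm.trans h.2)
      simp [Matrix.single_apply, Matrix.one_apply, Matrix.add_apply, Matrix.sub_apply, hab, h1]
  · simp [Matrix.single_apply, Matrix.one_apply, Matrix.add_apply, Matrix.sub_apply]
  · simp [Matrix.single_apply, Matrix.one_apply, Matrix.add_apply, Matrix.sub_apply]
  · by_cases hab : a = b
    · subst hab
      by_cases hai : a = i
      · subst hai
        simp [Matrix.single_apply, Matrix.one_apply, Matrix.add_apply, Matrix.sub_apply]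
      · simp [Matrix.single_apply, Matrix.one_apply, Matrix.add_apply, Matrix.sub_apply,
          Function.update_of_ne hai, Ne.symm hai]
    · have h1 : ¬ (i = a ∧ i = b) := fun h => hab (h.1.symm.trans h.2)
      simp [Matrix.single_apply, Matrix.one_apply, Matrix.add_apply, Matrix.sub_apply, hab, h1]

/-- the negative long root elements -/
def yl (i : Fin m) (c : K) : symplecticGroup (Fin m) K := sgm (lgm i c) (lgm_symm i c)

theorem xl_val (i : Fin m) (c : K) :
    (xl i c).1 = 1 + single (Sum.inl i) (Sum.inr i) c := by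
  unfold xl
  rw [sg_val]
  unfold lgm
  rw [fromBlocks_upper_single]

theorem yl_val (i : Fin m) (c : K) :
    (yl i c).1 = 1 + single (Sum.inr i) (Sum.inl i) c := by
  unfold yl
  rw [sgm_val]
  unfold lgm
  rw [fromBlocks_lower_single]

theorem hl_eq_prod (i : Fin m) (δ : K) (hδ : δ ≠ 0) :
    hl i δ hδ = xl i δ * yl i (-δ⁻¹) * xl i δ * (xl i (-1) * yl i 1 * xl i (-1)) := by
  apply Subtype.ext
  have hIJ : (Sum.inl i : Fin m ⊕ Fin m) ≠ Sum.inr i := Sum.inl_ne_inr
  have h1 : (xl i δ * yl i (-δ⁻¹) * xl i δ).1 = wmatG (Sum.inl i) (Sum.inr i) δ := by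
    rw [spv_mul, spv_mul, xl_val, yl_val]
    exact wmatG_eq _ _ hIJ δ hδ
  have h2 : (xl i (-1 : K) * yl i (1 : K) * xl i (-1 : K)).1 =
      wmatG (Sum.inl i) (Sum.inr i) (-1 : K) := by
    rw [spv_mul, spv_mul, xl_val, yl_val]
    have := wmatG_eq (Sum.inl i : Fin m ⊕ Fin m) (Sum.inr i) hIJ (-1 : K)
      (neg_ne_zero.mpr one_ne_zero)
    have e2 : -(-1 : K)⁻¹ = 1 := by rw [inv_neg, inv_one, neg_neg]
    rw [e2] at this
    exact this
  rw [spv_mul, h1, h2, wmatG_mul _ _ hIJ, hl_val_eq]
  rfl

theorem hl_mem_closure (i : Fin m) (δ : K) (hδ : δ ≠ 0)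
    (H : Subgroup (symplecticGroup (Fin m) K))
    (h1 : ∀ c : K, xl i c ∈ H) (h2 : ∀ c : K, yl i c ∈ H) : hl i δ hδ ∈ H := by
  rw [hl_eq_prod]
  exact H.mul_mem (H.mul_mem (H.mul_mem (h1 _) (h2 _)) (h1 _))
    (H.mul_mem (H.mul_mem (h1 _) (h2 _)) (h1 _))

end Cfsg.Agent.Helper25.PSpFus
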