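import Mathlib
import Cfsg.Agent.Lib.Helper25.PSpFus9
import Cfsg.Agent.Lib.Helper25.FusionSimpCrit3

/-!
# The Siegel radical of `Sp_{2m}(K)` is centric and normalised by the Levi elements
-/

set_option autoImplicit false
set_option linter.style.haveILetI false
set_option linter.unusedSectionVars false
set_option linter.unusedSimpArgs false

namespace Cfsg.Agent.Helper25.PSpFus

open Matrix Cfsg.Agent.Helper25.PSLFus Cfsg.Agent.Helper28 Cfsg.Agent.Helper28.SpBorel

variable {K : Type*} [Field K] [Fintype K] {m : ℕ}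

/-- the Siegel unipotent radical -/
def SieG (m : ℕ) (K : Type*) [Field K] [Fintype K] : Subgroup (symplecticGroup (Fin m) K) where
  carrier := {g | ∃ (S : Matrix (Fin m) (Fin m) K) (hS : Sᵀ = S), g = sg S hS}
  one_mem' := ⟨0, symm_zero, sg_zero.symm⟩
  mul_mem' := by
    rintro _ _ ⟨S, hS, rfl⟩ ⟨S', hS', rfl⟩
    exact ⟨S + S', symm_add hS hS', sg_mul S S' hS hS'⟩
  inv_mem' := by
    rintro _ ⟨S, hS, rfl⟩
    exact ⟨-S, symm_neg hS, sg_inv S hS⟩

theorem mem_SieG {g : symplecticGroup (Fin m) K} :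
    g ∈ SieG m K ↔ ∃ (S : Matrix (Fin m) (Fin m) K) (hS : Sᵀ = S), g = sg S hS := Iff.rfl

theorem SieG_le_USp : SieG m K ≤ USp m K := by
  rintro _ ⟨S, hS, rfl⟩
  exact sg_mem_USp S hS

theorem lev_mem_normalizer_SieG (A : SpecialLinearGroup (Fin m) K) :
    lev A ∈ Subgroup.normalizer ((SieG m K : Subgroup _) : Set _) := by
  rw [Subgroup.mem_normalizer_iff]
  intro h
  constructor
  · rintro ⟨S, hS, rfl⟩
    exact ⟨_, _, lev_conj_sg A S hS⟩
  · rintro ⟨S, hS, hh⟩
    have e : h = (lev A)⁻¹ * sg S hS * lev A := by rw [← hh]; group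
    have h2 := lev_conj_sg A⁻¹ S hS
    rw [← lev_inv, inv_inv] at h2
    rw [e]
    exact ⟨_, _, h2⟩

theorem centralizer_SieG [NeZero m] (g : symplecticGroup (Fin m) K)
    (hg : ∀ a ∈ SieG m K, g * a = a * g) :
    ∃ z ∈ Subgroup.center (symplecticGroup (Fin m) K), ∃ a ∈ SieG m K, g = z * a := by
  have hX : ∀ (S : Matrix (Fin m) (Fin m) K) (hS : Sᵀ = S),
      g.1 * fromBlocks 1 S 0 1 = fromBlocks 1 S 0 1 * g.1 := by
    intro S hS
    have := congrArg Subtype.val (hg (sg S hS) ⟨S, hS, rfl⟩)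
    rwa [spv_mul, spv_mul, sg_val] at this
  have e11 : ∀ (S : Matrix (Fin m) (Fin m) K), Sᵀ = S → S * g.1.toBlocks₂₁ = 0 := by
    intro S hS
    have := congrArg Matrix.toBlocks₁₁ (hX S hS)
    rw [mul_b11, mul_b11, toBlocks_fromBlocks₁₁, toBlocks_fromBlocks₂₁, toBlocks_fromBlocks₁₂,
      Matrix.mul_one, Matrix.mul_zero, add_zero, Matrix.one_mul] at this
    exact (left_eq_add.mp this)
  have e12 : ∀ (S : Matrix (Fin m) (Fin m) K), Sᵀ = S →
      g.1.toBlocks₁₁ * S = S * g.1.toBlocks₂₂ := by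
    intro S hS
    have := congrArg Matrix.toBlocks₁₂ (hX S hS)
    rw [mul_b12, mul_b12, toBlocks_fromBlocks₁₁, toBlocks_fromBlocks₂₂, toBlocks_fromBlocks₁₂,
      Matrix.mul_one, Matrix.one_mul, add_comm] at this
    exact add_left_cancel this
  have h21 : g.1.toBlocks₂₁ = 0 := by
    have := e11 1 transpose_one
    rwa [Matrix.one_mul] at this
  have h22 : g.1.toBlocks₂₂ = g.1.toBlocks₁₁ := by
    have := e12 1 transpose_one
    rw [Matrix.one_mul, Matrix.mul_one] at this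
    exact this.symm
  have hcomm : ∀ S : Matrix (Fin m) (Fin m) K, Sᵀ = S →
      S * g.1.toBlocks₁₁ = g.1.toBlocks₁₁ * S := by
    intro S hS
    rw [e12 S hS, h22]
  haveI : Nonempty (Fin m) := ⟨0⟩
  obtain ⟨c, hc⟩ := Cfsg.Agent.Helper2.Sp.scalar_of_commute_symm g.1.toBlocks₁₁ hcomm
  have hmem := g.2
  rw [blk_eq g.1, h21, h22, hc, symp_blocks] at hmem
  obtain ⟨h1, h2⟩ := hmem
  have hcc : c * c = 1 := by
    rw [transpose_smul, transpose_one, Matrix.smul_mul, Matrix.mul_smul, Matrix.mul_one,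
      smul_smul] at h1
    have := congrFun (congrFun h1 0) 0
    rwa [Matrix.smul_apply, Matrix.one_apply_eq, smul_eq_mul, mul_one] at this
  have hc0 : c ≠ 0 := by
    intro h
    rw [h, mul_zero] at hcc
    exact zero_ne_one hcc
  have hQ : g.1.toBlocks₁₂ᵀ = g.1.toBlocks₁₂ := by
    rw [transpose_smul, transpose_one, Matrix.mul_smul, Matrix.mul_one, Matrix.smul_mul,
      Matrix.one_mul] at h2
    have := congrArg (fun M => c⁻¹ • M) h2
    simp only [smul_smul, inv_mul_cancel₀ hc0, one_smul] at this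
    exact this.symm
  have hg1 : g.1 = fromBlocks (c • (1 : Matrix (Fin m) (Fin m) K)) g.1.toBlocks₁₂ 0
      (c • (1 : Matrix (Fin m) (Fin m) K)) := by
    conv_lhs => rw [blk_eq g.1, h21, h22, hc]
  rcases mul_self_eq_one_iff.mp hcc with rfl | rfl
  · refine ⟨1, Subgroup.one_mem _, sg _ hQ, ⟨_, hQ, rfl⟩, ?_⟩
    rw [one_mul]
    apply Subtype.ext
    rw [sg_val]
    conv_lhs => rw [hg1]
    rw [one_smul]
  · refine ⟨Cfsg.Agent.Helper2.Sp.negOne (Fin m) K, Cfsg.Agent.Helper2.Sp.negOne_mem_center,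
      sg _ (symm_neg hQ), ⟨_, symm_neg hQ, rfl⟩, ?_⟩
    apply Subtype.ext
    rw [spv_mul, Cfsg.Agent.Helper2.Sp.negOne_coe, sg_val, neg_mul, Matrix.one_mul,
      Matrix.fromBlocks_neg, neg_neg, neg_zero]
    conv_lhs => rw [hg1]
    rw [neg_smul, one_smul]

theorem lev_tv_good (p : ℕ) [Fact p.Prime] [CharP K p] (i j : Fin m) (hij : i ≠ j) (c : K) :
    lev (tv i j hij c) ∈ {y : symplecticGroup (Fin m) K |
      y ∈ Subgroup.normalizer ((SieG m K : Subgroup _) : Set _) ∧ ∃ k : ℕ, y ^ p ^ k = 1} := by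
  refine ⟨lev_mem_normalizer_SieG _, 1, ?_⟩
  rw [pow_one, lev_pow, tv_pow_char p, lev_one]

theorem lev_hh_mem_goodZ (p : ℕ) [Fact p.Prime] [CharP K p] [NeZero m] {i0 i1 : Fin m}
    (h01 : i0 ≠ i1) (δ : K) (hδ : δ ≠ 0) :
    lev (hh i0 i1 h01 δ hδ) ∈ SimpCrit.GoodZ p (USp m K) := by
  refine Or.inr ⟨?_, SieG m K, SieG_le_USp, centralizer_SieG, ?_⟩
  · unfold hh
    rw [lev_dg]
    exact td_mem_normalizer _ _
  · have := hh_mem_closure i0 i1 h01 δ hδ
      ((Subgroup.closure {y : symplecticGroup (Fin m) K |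
        y ∈ Subgroup.normalizer ((SieG m K : Subgroup _) : Set _) ∧
          ∃ k : ℕ, y ^ p ^ k = 1}).comap (levHom m K))
      (fun c => Subgroup.mem_comap.mpr (Subgroup.subset_closure (lev_tv_good p i0 i1 h01 c)))
      (fun c => Subgroup.mem_comap.mpr (Subgroup.subset_closure (lev_tv_good p i1 i0 h01.symm c)))
    exact Subgroup.mem_comap.mp this

end Cfsg.Agent.Helper25.PSpFus
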