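import Mathlib
import Cfsg.Agent.Lib.Helper25.PSpFus10

/-!
# The Heisenberg radical of `Sp_{2m}(K)`
-/

set_option autoImplicit false
set_option linter.style.haveILetI false
set_option linter.unusedSectionVars false
set_option linter.unusedSimpArgs false

namespace Cfsg.Agent.Helper25.PSpFus

open Matrix Cfsg.Agent.Helper25.PSLFus Cfsg.Agent.Helper28 Cfsg.Agent.Helper28.SpBorel

variable {K : Type*} [Field K] [Fintype K] {m : ℕ}

/-- shape of the elements of the Heisenberg radical -/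
def R1shape (i0 : Fin m) (g : Matrix (Fin m ⊕ Fin m) (Fin m ⊕ Fin m) K) : Prop :=
  (∀ a b, a ≠ Sum.inl i0 → b ≠ Sum.inr i0 →
    g a b = (1 : Matrix (Fin m ⊕ Fin m) (Fin m ⊕ Fin m) K) a b) ∧
    g (Sum.inl i0) (Sum.inl i0) = 1

theorem R1shape.one (i0 : Fin m) :
    R1shape i0 (1 : Matrix (Fin m ⊕ Fin m) (Fin m ⊕ Fin m) K) :=
  ⟨fun _ _ _ _ => rfl, Matrix.one_apply_eq _⟩

theorem R1shape.mul {i0 : Fin m} {g g' : Matrix (Fin m ⊕ Fin m) (Fin m ⊕ Fin m) K}
    (h : R1shape i0 g) (h' : R1shape i0 g') : R1shape i0 (g * g') := by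
  have hef : (Sum.inl i0 : Fin m ⊕ Fin m) ≠ Sum.inr i0 := Sum.inl_ne_inr
  refine ⟨fun a b ha hb => ?_, ?_⟩
  · rw [Matrix.mul_apply, Finset.sum_eq_single a]
    · rw [h'.1 a b ha hb]
      by_cases hab : a = b
      · subst hab
        rw [h.1 a a ha hb, Matrix.one_apply_eq, mul_one]
      · rw [Matrix.one_apply_ne hab, mul_zero]
    · intro k _ hk
      by_cases hkf : k = Sum.inr i0
      · subst hkf
        rw [h'.1 _ b hef.symm hb, Matrix.one_apply_ne (Ne.symm hb), mul_zero]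
      · rw [h.1 a k ha hkf, Matrix.one_apply_ne (Ne.symm hk), zero_mul]
    · intro h; exact absurd (Finset.mem_univ a) h
  · rw [Matrix.mul_apply, Finset.sum_eq_single (Sum.inl i0)]
    · rw [h.2, h'.2, mul_one]
    · intro k _ hk
      rw [h'.1 k _ hk hef, Matrix.one_apply_ne hk, mul_zero]
    · intro h; exact absurd (Finset.mem_univ _) h

theorem R1shape.pow {i0 : Fin m} {g : Matrix (Fin m ⊕ Fin m) (Fin m ⊕ Fin m) K}
    (h : R1shape i0 g) (k : ℕ) : R1shape i0 (g ^ k) := by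
  induction k with
  | zero => rw [pow_zero]; exact R1shape.one i0
  | succ k ih => rw [pow_succ]; exact ih.mul h

/-- the Heisenberg radical -/
def R1 (i0 : Fin m) : Subgroup (symplecticGroup (Fin m) K) where
  carrier := {g | R1shape i0 g.1}
  one_mem' := R1shape.one i0
  mul_mem' := fun h h' => by
    rw [Set.mem_setOf_eq, spv_mul]; exact h.mul h'
  inv_mem' := by
    intro g hg
    rw [Set.mem_setOf_eq, sp_inv_eq_pow, spv_pow]
    exact R1shape.pow hg _

theorem mem_R1 {i0 : Fin m} {g : symplecticGroup (Fin m) K} :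
    g ∈ R1 i0 ↔ R1shape i0 g.1 := Iff.rfl

theorem R1_le_USp {i0 : Fin m} (h0 : i0.val = 0) : R1 (K := K) i0 ≤ USp m K := by
  intro g hg
  have h := mem_R1.mp hg
  rw [mem_USp]
  refine ⟨?_, ?_, ?_⟩
  · ext a b
    show g.1 (Sum.inr a) (Sum.inl b) = 0
    rw [h.1 _ _ Sum.inr_ne_inl Sum.inl_ne_inr, Matrix.one_apply_ne Sum.inr_ne_inl]
  · intro i j hji
    show g.1 (Sum.inl i) (Sum.inl j) = 0
    have hi : i ≠ i0 := by
      intro hh
      rw [hh, Fin.lt_def, h0] at hji
      omega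
    rw [h.1 _ _ (fun hh => hi (Sum.inl_injective hh)) Sum.inl_ne_inr,
      Matrix.one_apply_ne (fun hh => (ne_of_gt hji) (Sum.inl_injective hh))]
  · intro i
    show g.1 (Sum.inl i) (Sum.inl i) = 1
    by_cases hi : i = i0
    · rw [hi]; exact h.2
    · rw [h.1 _ _ (fun hh => hi (Sum.inl_injective hh)) Sum.inl_ne_inr, Matrix.one_apply_eq]

theorem R1shape_of_form (i0 : Fin m) (N : Matrix (Fin m ⊕ Fin m) (Fin m ⊕ Fin m) K)
    (hN : ∀ a b, a ≠ Sum.inl i0 → b ≠ Sum.inr i0 → N a b = 0)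
    (hNe : N (Sum.inl i0) (Sum.inl i0) = 0) : R1shape i0 (1 + N) := by
  refine ⟨fun a b ha hb => ?_, ?_⟩
  · rw [Matrix.add_apply, hN a b ha hb, add_zero]
  · rw [Matrix.add_apply, hNe, add_zero, Matrix.one_apply_eq]

/-- conjugation by an elementary matrix avoiding the distinguished indices -/
theorem R1shape.conj_single {i0 : Fin m} {I J : Fin m ⊕ Fin m} (hIe : I ≠ Sum.inl i0)
    (hIf : I ≠ Sum.inr i0) (hJe : J ≠ Sum.inl i0) (hJf : J ≠ Sum.inr i0) (hIJ : I ≠ J) (c : K)
    {r : Matrix (Fin m ⊕ Fin m) (Fin m ⊕ Fin m) K} (h : R1shape i0 r) :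
    R1shape i0 ((1 + single I J c) * r * (1 - single I J c)) := by
  have hexp : (1 + single I J c) * r * (1 - single I J c) =
      r + single I J c * r - r * single I J c - single I J c * r * single I J c := by
    noncomm_ring
  rw [hexp]
  have hXrI : ∀ a, (single I J c * r) a I = 0 := by
    intro a
    by_cases haI : a = I
    · subst haI
      rw [Matrix.single_mul_apply_same, h.1 J a hJe hIf, Matrix.one_apply_ne (Ne.symm hIJ),
        mul_zero]
    · rw [Matrix.single_mul_apply_of_ne _ _ _ _ _ haI]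
  refine ⟨fun a b ha hb => ?_, ?_⟩
  · rw [Matrix.sub_apply, Matrix.sub_apply, Matrix.add_apply]
    by_cases hbJ : b = J
    · subst hbJ
      rw [Matrix.mul_single_apply_same, Matrix.mul_single_apply_same, hXrI a, zero_mul, sub_zero]
      by_cases haI : a = I
      · subst haI
        rw [Matrix.single_mul_apply_same, h.1 b b hJe hb, h.1 a a ha hIf, Matrix.one_apply_eq,
          Matrix.one_apply_eq, mul_one, one_mul, add_sub_cancel_right, h.1 a b ha hb]
      · rw [Matrix.single_mul_apply_of_ne _ _ _ _ _ haI, h.1 a I ha hIf,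
          Matrix.one_apply_ne haI, zero_mul, add_zero, sub_zero, h.1 a b ha hb]
    · rw [Matrix.mul_single_apply_of_ne _ _ _ _ _ hbJ, Matrix.mul_single_apply_of_ne _ _ _ _ _ hbJ,
        sub_zero, sub_zero]
      by_cases haI : a = I
      · subst haI
        rw [Matrix.single_mul_apply_same, h.1 J b hJe hb, Matrix.one_apply_ne (Ne.symm hbJ),
          mul_zero, add_zero, h.1 a b ha hb]
      · rw [Matrix.single_mul_apply_of_ne _ _ _ _ _ haI, add_zero, h.1 a b ha hb]
  · rw [Matrix.sub_apply, Matrix.sub_apply, Matrix.add_apply,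
      Matrix.single_mul_apply_of_ne _ _ _ _ _ (Ne.symm hIe),
      Matrix.mul_single_apply_of_ne _ _ _ _ _ (Ne.symm hJe),
      Matrix.mul_single_apply_of_ne _ _ _ _ _ (Ne.symm hJe), add_zero, sub_zero, sub_zero, h.2]

theorem xl_inv (i : Fin m) (c : K) : (xl i c)⁻¹ = xl i (-c) := by
  unfold xl
  rw [sg_inv]
  apply sg_congr
  unfold lgm
  rw [Matrix.single_neg]

theorem yl_inv (i : Fin m) (c : K) : (yl i c)⁻¹ = yl i (-c) := by
  unfold yl
  rw [sgm_inv]
  apply sgm_congr
  unfold lgm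
  rw [Matrix.single_neg]

theorem xl_conj_mem_R1 {i0 i : Fin m} (hi : i ≠ i0) (c : K) {r : symplecticGroup (Fin m) K}
    (hr : r ∈ R1 i0) : xl i c * r * (xl i c)⁻¹ ∈ R1 i0 := by
  rw [mem_R1, xl_inv, spv_mul, spv_mul, xl_val, xl_val, ← Matrix.single_neg, ← sub_eq_add_neg]
  exact R1shape.conj_single (fun h => hi (Sum.inl_injective h)) Sum.inl_ne_inr Sum.inr_ne_inl
    (fun h => hi (Sum.inr_injective h)) Sum.inl_ne_inr c (mem_R1.mp hr)

theorem yl_conj_mem_R1 {i0 i : Fin m} (hi : i ≠ i0) (c : K) {r : symplecticGroup (Fin m) K}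
    (hr : r ∈ R1 i0) : yl i c * r * (yl i c)⁻¹ ∈ R1 i0 := by
  rw [mem_R1, yl_inv, spv_mul, spv_mul, yl_val, yl_val, ← Matrix.single_neg, ← sub_eq_add_neg]
  exact R1shape.conj_single Sum.inr_ne_inl (fun h => hi (Sum.inr_injective h))
    (fun h => hi (Sum.inl_injective h)) Sum.inl_ne_inr Sum.inr_ne_inl c (mem_R1.mp hr)

theorem xl_mem_normalizer_R1 {i0 i : Fin m} (hi : i ≠ i0) (c : K) :
    xl i c ∈ Subgroup.normalizer ((R1 (K := K) i0 : Subgroup _) : Set _) := by
  rw [Subgroup.mem_normalizer_iff]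
  intro h
  constructor
  · exact fun hh => xl_conj_mem_R1 hi c hh
  · intro hh
    have := xl_conj_mem_R1 hi (-c) hh
    rw [← xl_inv, inv_inv] at this
    have e : (xl i c)⁻¹ * (xl i c * h * (xl i c)⁻¹) * xl i c = h := by group
    rwa [e] at this

theorem yl_mem_normalizer_R1 {i0 i : Fin m} (hi : i ≠ i0) (c : K) :
    yl i c ∈ Subgroup.normalizer ((R1 (K := K) i0 : Subgroup _) : Set _) := by
  rw [Subgroup.mem_normalizer_iff]
  intro h
  constructor
  · exact fun hh => yl_conj_mem_R1 hi c hh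
  · intro hh
    have := yl_conj_mem_R1 hi (-c) hh
    rw [← yl_inv, inv_inv] at this
    have e : (yl i c)⁻¹ * (yl i c * h * (yl i c)⁻¹) * yl i c = h := by group
    rwa [e] at this

end Cfsg.Agent.Helper25.PSpFus
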