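import Mathlib
import Cfsg.Agent.Lib.Helper25.PSpFus11

/-!
# The Heisenberg radical is centric; generation of `N(U)` by good elements
-/

set_option autoImplicit false
set_option linter.style.haveILetI false
set_option linter.unusedSectionVars false
set_option linter.unusedSimpArgs false

namespace Cfsg.Agent.Helper25.PSpFus

open Matrix Cfsg.Agent.Helper25.PSLFus Cfsg.Agent.Helper28 Cfsg.Agent.Helper28.SpBorel

variable {K : Type*} [Field K] [Fintype K] {m : ℕ}

theorem fromBlocks_diag_single (i j k l : Fin m) (c d : K) :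
    fromBlocks (1 + single i j c : Matrix (Fin m) (Fin m) K) (0 : Matrix (Fin m) (Fin m) K)
      (0 : Matrix (Fin m) (Fin m) K) (1 - single k l d : Matrix (Fin m) (Fin m) K) =
      1 + single (Sum.inl i) (Sum.inl j) c - single (Sum.inr k) (Sum.inr l) d := by
  ext (a | a) (b | b) <;>
    simp [Matrix.single_apply, Matrix.one_apply, Matrix.add_apply, Matrix.sub_apply]

theorem lev_tv_val (i j : Fin m) (h : i ≠ j) (c : K) :
    (lev (tv i j h c)).1 =
      1 + single (Sum.inl i) (Sum.inl j) c - single (Sum.inr j) (Sum.inr i) c := by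
  rw [lev_val, val_tv_inv, val_tv, transvection, transpose_sub, transpose_one,
    Matrix.transpose_single, fromBlocks_diag_single]

theorem xp_val (i j : Fin m) (c : K) :
    (xp i j c).1 = 1 + single (Sum.inl i) (Sum.inr j) c + single (Sum.inl j) (Sum.inr i) c := by
  unfold xp
  rw [sg_val]
  unfold shm
  ext (a | a) (b | b) <;>
    simp [Matrix.single_apply, Matrix.one_apply, Matrix.add_apply]

theorem xl_mem_R1 (i0 : Fin m) (c : K) : xl i0 c ∈ R1 (K := K) i0 := by
  rw [mem_R1, xl_val]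
  apply R1shape_of_form
  · intro a b ha _
    exact Matrix.single_apply_of_ne _ _ _ _ _ (fun h => ha h.1.symm)
  · exact Matrix.single_apply_of_ne _ _ _ _ _ (fun h => Sum.inl_ne_inr h.2.symm)

theorem lev_tv_mem_R1 {i0 j : Fin m} (h : i0 ≠ j) (c : K) : lev (tv i0 j h c) ∈ R1 (K := K) i0 := by
  rw [mem_R1, lev_tv_val, add_sub_assoc]
  apply R1shape_of_form
  · intro a b ha hb
    rw [Matrix.sub_apply, Matrix.single_apply_of_ne _ _ _ _ _ (fun hh => ha hh.1.symm),
      Matrix.single_apply_of_ne _ _ _ _ _ (fun hh => hb hh.2.symm), sub_zero]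
  · rw [Matrix.sub_apply,
      Matrix.single_apply_of_ne _ _ _ _ _ (fun hh => h (Sum.inl_injective hh.2).symm),
      Matrix.single_apply_of_ne _ _ _ _ _ (fun hh => Sum.inr_ne_inl hh.2), sub_zero]

theorem xp_mem_R1 {i0 j : Fin m} (h : i0 ≠ j) (c : K) : xp i0 j c ∈ R1 (K := K) i0 := by
  rw [mem_R1, xp_val, add_assoc]
  apply R1shape_of_form
  · intro a b ha hb
    rw [Matrix.add_apply, Matrix.single_apply_of_ne _ _ _ _ _ (fun hh => ha hh.1.symm),
      Matrix.single_apply_of_ne _ _ _ _ _ (fun hh => hb hh.2.symm), add_zero]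
  · rw [Matrix.add_apply,
      Matrix.single_apply_of_ne _ _ _ _ _ (fun hh => Sum.inr_ne_inl hh.2),
      Matrix.single_apply_of_ne _ _ _ _ _ (fun hh => Sum.inr_ne_inl hh.2), add_zero]

theorem comm_of_one_add {G N : Matrix (Fin m ⊕ Fin m) (Fin m ⊕ Fin m) K}
    (h : G * (1 + N) = (1 + N) * G) : G * N = N * G := by
  rw [Matrix.mul_add, Matrix.add_mul, Matrix.mul_one, Matrix.one_mul] at h
  exact add_left_cancel h

theorem centralizer_R1 [NeZero m] {i0 : Fin m} (h0 : i0.val = 0)
    (g : symplecticGroup (Fin m) K) (hg : ∀ a ∈ R1 i0, g * a = a * g) :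
    ∃ z ∈ Subgroup.center (symplecticGroup (Fin m) K), ∃ a ∈ R1 i0, g = z * a := by
  have hef : (Sum.inl i0 : Fin m ⊕ Fin m) ≠ Sum.inr i0 := Sum.inl_ne_inr
  -- commutation with the long root element
  have c0 : g.1 * single (Sum.inl i0) (Sum.inr i0) 1 = single (Sum.inl i0) (Sum.inr i0) 1 * g.1 := by
    have := congrArg Subtype.val (hg _ (xl_mem_R1 i0 1))
    rw [spv_mul, spv_mul, xl_val] at this
    exact comm_of_one_add this
  have r1c : ∀ b, b ≠ Sum.inr i0 → g.1 (Sum.inr i0) b = 0 := by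
    intro b hb
    have := congrFun (congrFun c0 (Sum.inl i0)) b
    rw [Matrix.mul_single_apply_of_ne _ _ _ _ _ hb, Matrix.single_mul_apply_same, one_mul] at this
    exact this.symm
  have r1b : g.1 (Sum.inl i0) (Sum.inl i0) = g.1 (Sum.inr i0) (Sum.inr i0) := by
    have := congrFun (congrFun c0 (Sum.inl i0)) (Sum.inr i0)
    rw [Matrix.mul_single_apply_same, Matrix.single_mul_apply_same, one_mul, mul_one] at this
    exact this
  -- rows `inl j`
  have r2 : ∀ j : Fin m, j ≠ i0 → ∀ b, b ≠ Sum.inr i0 →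
      g.1 (Sum.inl j) b = if b = Sum.inl j then g.1 (Sum.inl i0) (Sum.inl i0) else 0 := by
    intro j hj b hb
    have c2 : g.1 * (single (Sum.inl i0) (Sum.inl j) 1 - single (Sum.inr j) (Sum.inr i0) 1) =
        (single (Sum.inl i0) (Sum.inl j) 1 - single (Sum.inr j) (Sum.inr i0) 1) * g.1 := by
      have := congrArg Subtype.val (hg _ (lev_tv_mem_R1 (Ne.symm hj) 1))
      rw [spv_mul, spv_mul, lev_tv_val, add_sub_assoc] at this
      exact comm_of_one_add this
    have := congrFun (congrFun c2 (Sum.inl i0)) b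
    rw [Matrix.mul_sub, Matrix.sub_mul, Matrix.sub_apply, Matrix.sub_apply,
      Matrix.mul_single_apply_of_ne _ _ _ _ _ hb, Matrix.single_mul_apply_same,
      Matrix.single_mul_apply_of_ne _ _ _ _ _ (Sum.inl_ne_inr), sub_zero, sub_zero, one_mul] at this
    rw [← this]
    by_cases hbj : b = Sum.inl j
    · subst hbj
      rw [Matrix.mul_single_apply_same, mul_one, if_pos rfl]
    · rw [Matrix.mul_single_apply_of_ne _ _ _ _ _ hbj, if_neg hbj]
  -- rows `inr j`
  have r3 : ∀ j : Fin m, j ≠ i0 → ∀ b, b ≠ Sum.inr i0 →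
      g.1 (Sum.inr j) b = if b = Sum.inr j then g.1 (Sum.inl i0) (Sum.inl i0) else 0 := by
    intro j hj b hb
    have c3 : g.1 * (single (Sum.inl i0) (Sum.inr j) 1 + single (Sum.inl j) (Sum.inr i0) 1) =
        (single (Sum.inl i0) (Sum.inr j) 1 + single (Sum.inl j) (Sum.inr i0) 1) * g.1 := by
      have := congrArg Subtype.val (hg _ (xp_mem_R1 (Ne.symm hj) 1))
      rw [spv_mul, spv_mul, xp_val, add_assoc] at this
      exact comm_of_one_add this
    have := congrFun (congrFun c3 (Sum.inl i0)) b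
    rw [Matrix.mul_add, Matrix.add_mul, Matrix.add_apply, Matrix.add_apply,
      Matrix.mul_single_apply_of_ne _ _ _ _ _ hb, Matrix.single_mul_apply_same,
      Matrix.single_mul_apply_of_ne _ _ _ _ _
        (fun hh : (Sum.inl i0 : Fin m ⊕ Fin m) = Sum.inl j => hj (Sum.inl_injective hh).symm),
      add_zero, add_zero, one_mul] at this
    rw [← this]
    by_cases hbj : b = Sum.inr j
    · subst hbj
      rw [Matrix.mul_single_apply_same, mul_one, if_pos rfl]
    · rw [Matrix.mul_single_apply_of_ne _ _ _ _ _ hbj, if_neg hbj]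
  -- the shape
  have shape : ∀ a b, a ≠ Sum.inl i0 → b ≠ Sum.inr i0 →
      g.1 a b = g.1 (Sum.inl i0) (Sum.inl i0) *
        (1 : Matrix (Fin m ⊕ Fin m) (Fin m ⊕ Fin m) K) a b := by
    intro a b ha hb
    rw [Matrix.one_apply]
    rcases a with j | j
    · have hj : j ≠ i0 := fun h => ha (by rw [h])
      rw [r2 j hj b hb]
      by_cases hbj : b = Sum.inl j
      · rw [if_pos hbj, if_pos hbj.symm, mul_one]
      · rw [if_neg hbj, if_neg (Ne.symm hbj), mul_zero]
    · by_cases hj : j = i0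
      · subst hj
        rw [r1c b hb, if_neg (Ne.symm hb), mul_zero]
      · rw [r3 j hj b hb]
        by_cases hbj : b = Sum.inr j
        · rw [if_pos hbj, if_pos hbj.symm, mul_one]
        · rw [if_neg hbj, if_neg (Ne.symm hbj), mul_zero]
  -- `ε² = 1`
  have hB : SpBorel.IsB g.1 := by
    refine ⟨?_, ?_⟩
    · ext a b
      show g.1 (Sum.inr a) (Sum.inl b) = 0
      rw [shape _ _ Sum.inr_ne_inl Sum.inl_ne_inr, Matrix.one_apply_ne Sum.inr_ne_inl, mul_zero]
    · intro i j hji
      show g.1 (Sum.inl i) (Sum.inl j) = 0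
      have hji' : j < i := hji
      have hi : i ≠ i0 := by
        intro hh
        rw [hh] at hji'
        have : (j : ℕ) < (i0 : ℕ) := hji'
        omega
      rw [shape _ _ (fun hh => hi (Sum.inl_injective hh)) Sum.inl_ne_inr,
        Matrix.one_apply_ne (fun hh => (ne_of_gt hji') (Sum.inl_injective hh)), mul_zero]
  have hcc : g.1 (Sum.inl i0) (Sum.inl i0) * g.1 (Sum.inl i0) (Sum.inl i0) = 1 := by
    have h1 := (blocks_of_isB g.2 hB).1
    have h2 := congrFun (congrFun h1 i0) i0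
    rw [Matrix.mul_apply, Finset.sum_eq_single i0, Matrix.one_apply_eq] at h2
    · rw [← h2]
      show _ = g.1 (Sum.inl i0) (Sum.inl i0) * g.1 (Sum.inr i0) (Sum.inr i0)
      rw [r1b]
    · intro k _ hk
      show g.1 (Sum.inl i0) (Sum.inl k) * g.1 (Sum.inr i0) (Sum.inr k) = 0
      rw [r1c _ (fun hh => hk (Sum.inr_injective hh)), mul_zero]
    · intro h; exact absurd (Finset.mem_univ _) h
  rcases mul_self_eq_one_iff.mp hcc with h1 | h1
  · refine ⟨1, Subgroup.one_mem _, g, ?_, (one_mul g).symm⟩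
    rw [mem_R1]
    refine ⟨fun a b ha hb => ?_, h1⟩
    rw [shape a b ha hb, h1, one_mul]
  · refine ⟨Cfsg.Agent.Helper2.Sp.negOne (Fin m) K, Cfsg.Agent.Helper2.Sp.negOne_mem_center,
      Cfsg.Agent.Helper2.Sp.negOne (Fin m) K * g, ?_, ?_⟩
    · rw [mem_R1, spv_mul, Cfsg.Agent.Helper2.Sp.negOne_coe, neg_mul, Matrix.one_mul]
      refine ⟨fun a b ha hb => ?_, ?_⟩
      · rw [Matrix.neg_apply, shape a b ha hb, h1, neg_mul, one_mul, neg_neg]
      · rw [Matrix.neg_apply, h1, neg_neg]
    · rw [← mul_assoc]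
      have : Cfsg.Agent.Helper2.Sp.negOne (Fin m) K * Cfsg.Agent.Helper2.Sp.negOne (Fin m) K = 1 := by
        apply Subtype.ext
        rw [spv_mul, Cfsg.Agent.Helper2.Sp.negOne_coe, neg_mul_neg, Matrix.one_mul, spv_one]
      rw [this, one_mul]

theorem hl_mem_goodZ (p : ℕ) [Fact p.Prime] [CharP K p] [NeZero m] {i0 i : Fin m}
    (h0 : i0.val = 0) (hi : i ≠ i0) (δ : K) (hδ : δ ≠ 0) :
    hl i δ hδ ∈ SimpCrit.GoodZ p (USp m K) := by
  refine Or.inr ⟨td_mem_normalizer _ _, R1 i0, R1_le_USp h0, centralizer_R1 h0, ?_⟩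
  apply hl_mem_closure
  · intro c
    exact Subgroup.subset_closure ⟨xl_mem_normalizer_R1 hi c, 1, by
      rw [pow_one]; exact sg_pow_char p _ _⟩
  · intro c
    exact Subgroup.subset_closure ⟨yl_mem_normalizer_R1 hi c, 1, by
      rw [pow_one]; exact sgm_pow_char p _ _⟩

/-- `N(U)` is generated by good elements. -/
theorem autGen_USp (p : ℕ) [Fact p.Prime] [CharP K p] (hm : 2 ≤ m) :
    Subgroup.normalizer ((USp m K : Subgroup _) : Set _) ≤
      Subgroup.closure (SimpCrit.GoodZ p (USp m K)) := by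
  haveI : NeZero m := ⟨by omega⟩
  intro g hg
  have hB := normalizer_USp_le hg
  obtain ⟨t, ht, u, hu, rfl⟩ := exists_td_mul hB
  refine Subgroup.mul_mem _ ?_ (Subgroup.subset_closure (Or.inl hu))
  apply td_mem_of_hl
  intro i δ hδ
  have h0 : ((⟨0, by omega⟩ : Fin m)).val = 0 := rfl
  have h01 : (⟨0, by omega⟩ : Fin m) ≠ ⟨1, by omega⟩ := by
    intro h
    have := congrArg Fin.val h
    simp at this
  by_cases hi : i = ⟨0, by omega⟩
  · rw [hi, hl_eq_mul h01 δ hδ]
    exact Subgroup.mul_mem _ (Subgroup.subset_closure (lev_hh_mem_goodZ p h01 δ hδ))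
      (Subgroup.subset_closure (hl_mem_goodZ p h0 h01.symm δ hδ))
  · exact Subgroup.subset_closure (hl_mem_goodZ p h0 hi δ hδ)

end Cfsg.Agent.Helper25.PSpFus
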