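import Mathlib
import Cfsg.Agent.Lib.Helper5.PimDefs

/-!
# S4427, piece G: the subrepresentation cut out by a left-invariant idempotent (helper25)
-/

set_option autoImplicit false

namespace Cfsg.Agent.Helper5.Pim

open Polynomial Matrix

section Mat
variable {G : Type*} [Group G] [Fintype G] [DecidableEq G]

section Aux
variable {R : Type*} [CommRing R]

/-- entries of `Pm g * N` -/
theorem pmG_mul_apply (g : G) (N : Matrix G G R) (i k : G) :
    (Pm R g * N) i k = N (g⁻¹ * i) k := by
  simp only [Matrix.mul_apply, Pm]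
  have : ∀ j, (if i = g * j then (1 : R) else 0) * N j k = if j = g⁻¹ * i then N j k else 0 := by
    intro j
    by_cases h : i = g * j
    · have h' : j = g⁻¹ * i := by rw [h, inv_mul_cancel_left]
      rw [if_pos h, if_pos h', one_mul]
    · have h' : ¬ j = g⁻¹ * i := by
        intro h2; apply h; rw [h2, mul_inv_cancel_left]
      rw [if_neg h, if_neg h', zero_mul]
  simp only [this]
  simp

/-- entries of `N * Pm g` -/
theorem mulG_pm_apply (g : G) (N : Matrix G G R) (i k : G) :
    (N * Pm R g) i k = N i (g * k) := by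
  simp [Matrix.mul_apply, Pm]

omit [Fintype G] in
theorem pmG_one : Pm R (1 : G) = 1 := by
  ext i j
  simp [Pm, Matrix.one_apply]

theorem pmG_mul (g h : G) : Pm R (g * h) = Pm R g * Pm R h := by
  ext i k
  rw [pmG_mul_apply]
  simp only [Pm]
  by_cases h1 : i = g * h * k
  · have h2 : g⁻¹ * i = h * k := by rw [h1, mul_assoc, inv_mul_cancel_left]
    rw [if_pos h1, if_pos h2]
  · have h2 : ¬ g⁻¹ * i = h * k := by
      intro h3; apply h1; rw [mul_assoc, ← h3, mul_inv_cancel_left]
    rw [if_neg h1, if_neg h2]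

theorem pmG_commute {M : Matrix G G R} (hM : IsLInv M) (g : G) : Pm R g * M = M * Pm R g := by
  ext i k
  rw [pmG_mul_apply, mulG_pm_apply]
  have := hM g (g⁻¹ * i) k
  rw [mul_inv_cancel_left] at this
  exact this.symm

theorem pmG_mulVec (g : G) (v : G → R) (i : G) : (Pm R g).mulVec v i = v (g⁻¹ * i) := by
  simp only [Matrix.mulVec, dotProduct, Pm]
  have : ∀ j, (if i = g * j then (1 : R) else 0) * v j = if j = g⁻¹ * i then v j else 0 := by
    intro j
    by_cases h : i = g * j
    · have h' : j = g⁻¹ * i := by rw [h, inv_mul_cancel_left]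
      rw [if_pos h, if_pos h', one_mul]
    · have h' : ¬ j = g⁻¹ * i := by
        intro h2; apply h; rw [h2, mul_inv_cancel_left]
      rw [if_neg h, if_neg h', zero_mul]
  simp only [this]
  simp

end Aux

/-! ### PIECE G -/
section G

theorem subV_invariant (A : Matrix G G ℂ) (hA : IsLInv A) (g : G) :
    ∀ x ∈ subV A, Matrix.toLin' (Pm ℂ g) x ∈ subV A := by
  rintro x ⟨y, rfl⟩
  refine ⟨Matrix.toLin' (Pm ℂ g) y, ?_⟩
  rw [← LinearMap.comp_apply, ← LinearMap.comp_apply, ← Matrix.toLin'_mul, ← Matrix.toLin'_mul,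
    pmG_commute hA g]

/-- `G` acts on `subV A` (the range of `A`) by left translation, when `A` is left-invariant. -/
noncomputable def subRep (A : Matrix G G ℂ) (hA : IsLInv A) : Representation ℂ G (subV A) where
  toFun g := (Matrix.toLin' (Pm ℂ g)).restrict (p := subV A) (q := subV A) (subV_invariant A hA g)
  map_one' := by
    ext v : 2
    simp [LinearMap.restrict_apply, pmG_one]
  map_mul' := by
    intro g h
    ext v : 2
    simp [LinearMap.restrict_apply, pmG_mul]

theorem subRep_apply (A : Matrix G G ℂ) (hA : IsLInv A) (g : G) (v : subV A) :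
    ((subRep A hA g v : subV A) : G → ℂ) = (Pm ℂ g).mulVec (v : G → ℂ) := by
  change ((Matrix.toLin' (Pm ℂ g)).restrict (subV_invariant A hA g) v : G → ℂ) = _
  rw [LinearMap.coe_restrict_apply, Matrix.toLin'_apply]

theorem subRep_character (A : Matrix G G ℂ) (hA : IsLInv A) (hA2 : A * A = A) (g : G) :
    (subRep A hA).character g = (Pm ℂ g * A).trace := by
  have hf : ∀ x, Matrix.toLin' (Pm ℂ g * A) x ∈ subV A := by
    intro x
    rw [pmG_commute hA g, Matrix.toLin'_mul]
    exact ⟨_, rfl⟩
  have hf' : ∀ x ∈ subV A, Matrix.toLin' (Pm ℂ g * A) x ∈ subV A := fun x _ => hf x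
  have h1 := LinearMap.trace_restrict_eq_of_forall_mem (subV A) (Matrix.toLin' (Pm ℂ g * A)) hf hf'
  rw [Matrix.trace_toLin'_eq] at h1
  rw [← h1]
  change LinearMap.trace ℂ _ (subRep A hA g) = _
  congr 1
  ext v : 2
  rw [subRep_apply, LinearMap.coe_restrict_apply, Matrix.toLin'_apply]
  obtain ⟨y, hy⟩ := v.2
  have hAv : A.mulVec (v : G → ℂ) = v := by
    rw [← hy, Matrix.toLin'_apply, Matrix.mulVec_mulVec, hA2]
  rw [← Matrix.mulVec_mulVec, hAv]

end G

end Mat

end Cfsg.Agent.Helper5.Pim
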