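import Mathlib
import Cfsg.Agent.Lib.Helper5.PimDefs
import Cfsg.Agent.Lib.Helper25.PimG

/-!
# S4427, piece H: comparison of intertwining spaces (helper25)
-/

set_option autoImplicit false
set_option linter.style.haveILetI false

namespace Cfsg.Agent.Helper5.Pim

open Polynomial Matrix

section Mat
variable {G : Type*} [Group G] [Fintype G] [DecidableEq G]

omit [Group G] in
/-- `subV A ≤ subV A₁` when `A₁ * A = A`. -/
theorem subV_le_of_mul_eq {A A₁ : Matrix G G ℂ} (h1 : A₁ * A = A) : subV A ≤ subV A₁ := by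
  rintro x ⟨y, rfl⟩
  refine ⟨Matrix.toLin' A y, ?_⟩
  rw [← LinearMap.comp_apply, ← Matrix.toLin'_mul, h1]

/-- The inclusion `subV A → subV A₁` as an intertwining map. -/
noncomputable def subIncl (A A₁ : Matrix G G ℂ) (hA : IsLInv A) (hA₁ : IsLInv A₁)
    (h1 : A₁ * A = A) : Representation.IntertwiningMap (subRep A hA) (subRep A₁ hA₁) where
  toLinearMap := Submodule.inclusion (subV_le_of_mul_eq h1)
  isIntertwining' := by
    intro g
    ext v : 2
    simp only [LinearMap.coe_comp, Function.comp_apply]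
    rw [subRep_apply, Submodule.coe_inclusion, Submodule.coe_inclusion, subRep_apply]

/-- The map `v ↦ A (A₁ v)` from `subV A₂` to `subV A` as an intertwining map. -/
noncomputable def subProj (A A₁ A₂ : Matrix G G ℂ) (hA : IsLInv A) (hA₁ : IsLInv A₁)
    (hA₂ : IsLInv A₂) : Representation.IntertwiningMap (subRep A₂ hA₂) (subRep A hA) where
  toLinearMap := ((Matrix.toLin' (A * A₁)).domRestrict (subV A₂)).codRestrict (subV A) (by
    intro v
    rw [LinearMap.domRestrict_apply, Matrix.toLin'_mul]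
    exact ⟨_, rfl⟩)
  isIntertwining' := by
    intro g
    ext v : 2
    simp only [LinearMap.coe_comp, Function.comp_apply, LinearMap.codRestrict_apply,
      LinearMap.domRestrict_apply]
    rw [subRep_apply, subRep_apply, LinearMap.codRestrict_apply, LinearMap.domRestrict_apply,
      Matrix.toLin'_apply, Matrix.toLin'_apply, Matrix.mulVec_mulVec, Matrix.mulVec_mulVec,
      Matrix.mul_assoc, ← pmG_commute hA₁ g, ← Matrix.mul_assoc, ← pmG_commute hA g,
      Matrix.mul_assoc]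

theorem subProj_apply (A A₁ A₂ : Matrix G G ℂ) (hA : IsLInv A) (hA₁ : IsLInv A₁)
    (hA₂ : IsLInv A₂) (v : subV A₂) :
    ((subProj A A₁ A₂ hA hA₁ hA₂ v : subV A) : G → ℂ) = (A * A₁).mulVec (v : G → ℂ) := by
  change ((((Matrix.toLin' (A * A₁)).domRestrict (subV A₂)).codRestrict (subV A) _ v : subV A) :
    G → ℂ) = _
  rw [LinearMap.codRestrict_apply, LinearMap.domRestrict_apply, Matrix.toLin'_apply]

theorem subIncl_apply (A A₁ : Matrix G G ℂ) (hA : IsLInv A) (hA₁ : IsLInv A₁)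
    (h1 : A₁ * A = A) (v : subV A) :
    ((subIncl A A₁ hA hA₁ h1 v : subV A₁) : G → ℂ) = (v : G → ℂ) := rfl

/-! ### PIECE H : comparison of intertwining spaces (Mathlib + PimDefs + F + G) -/
theorem sum_char_le (A A₁ A₂ Y : Matrix G G ℂ) (hA : IsLInv A) (hA₁ : IsLInv A₁) (hA₂ : IsLInv A₂)
    (hAA : A * A = A) (hAA₁ : A₁ * A₁ = A₁) (hAA₂ : A₂ * A₂ = A₂)
    (h1 : A₁ * A = A) (h2 : A = A * A₁ * A₂ * Y) :
    ∃ n₁ n₂ : ℕ, n₁ ≤ n₂ ∧
      ∑ g : G, (Pm ℂ g * A).trace * (Pm ℂ g⁻¹ * A).trace = (Nat.card G : ℂ) * n₁ ∧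
      ∑ g : G, (Pm ℂ g * A₁).trace * (Pm ℂ g⁻¹ * A₂).trace = (Nat.card G : ℂ) * n₂ := by
  have hcard : (Nat.card G : ℂ) ≠ 0 := by exact_mod_cast Nat.card_pos.ne'
  letI : Invertible (Nat.card G : ℂ) := invertibleOfNonzero hcard
  set ρ := subRep A hA with hρ
  set ρ₁ := subRep A₁ hA₁ with hρ₁
  set ρ₂ := subRep A₂ hA₂ with hρ₂
  let ι := subIncl A A₁ hA hA₁ h1
  let π := subProj A A₁ A₂ hA hA₁ hA₂
  let Φ : Representation.IntertwiningMap ρ ρ →ₗ[ℂ] Representation.IntertwiningMap ρ₂ ρ₁ :=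
    { toFun := fun f => ι.comp (f.comp π)
      map_add' := by
        intro f f'
        ext v : 3
        rfl
      map_smul' := by
        intro c f
        ext v : 3
        rfl }
  have hΦ : Function.Injective Φ := by
    rw [injective_iff_map_eq_zero]
    intro f hf
    ext w : 3
    obtain ⟨x, hx⟩ := w.2
    -- `w = π v` for `v = A₂ (Y x)`
    let v : subV A₂ := ⟨Matrix.toLin' A₂ (Matrix.toLin' Y x), ⟨_, rfl⟩⟩
    have hπv : π v = w := by
      apply Subtype.ext
      rw [subProj_apply]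
      change (A * A₁).mulVec (Matrix.toLin' A₂ (Matrix.toLin' Y x)) = w
      rw [Matrix.toLin'_apply, Matrix.toLin'_apply, Matrix.mulVec_mulVec, Matrix.mulVec_mulVec,
        ← h2, ← hx, Matrix.toLin'_apply]
    have h3 : (Φ f) v = 0 := by rw [hf]; rfl
    have h4 : ((Φ f) v : G → ℂ) = (f w : G → ℂ) := by
      change ((ι (f (π v)) : subV A₁) : G → ℂ) = _
      rw [hπv]
      rfl
    rw [h3] at h4
    simpa using h4.symm
  refine ⟨Module.finrank ℂ (Representation.IntertwiningMap ρ ρ),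
    Module.finrank ℂ (Representation.IntertwiningMap ρ₂ ρ₁),
    LinearMap.finrank_le_finrank_of_injective hΦ, ?_, ?_⟩
  · have h3 := Representation.card_inv_mul_sum_char_mul_char_eq_finrank ρ ρ
    simp only [hρ, subRep_character A hA hAA] at h3
    rw [← h3, ← mul_assoc, mul_inv_cancel₀ hcard, one_mul]
  · have h3 := Representation.card_inv_mul_sum_char_mul_char_eq_finrank ρ₂ ρ₁
    simp only [hρ₁, hρ₂, subRep_character A₁ hA₁ hAA₁, subRep_character A₂ hA₂ hAA₂] at h3
    rw [← h3, ← mul_assoc, mul_inv_cancel₀ hcard, one_mul]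

end Mat

end Cfsg.Agent.Helper5.Pim
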