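import Mathlib
import Cfsg.Prelude.Def_RootSubgroups
import Cfsg.Agent.Lib.Helper25.ConjBy
import Cfsg.Agent.Lib.Helper25.RankOne
import Cfsg.Agent.S5013

set_option autoImplicit false

namespace Cfsg.Agent.Helper25
namespace SpecialRankOne

variable {G : Type*} [Group G]

/-- `a ∈ A#`, `b ∈ B#` with `A^b = B^a`. -/
def Rel (A B : Subgroup G) (a b : G) : Prop :=
  a ∈ A ∧ a ≠ 1 ∧ b ∈ B ∧ b ≠ 1 ∧ Cfsg.conjBy A b⁻¹ = Cfsg.conjBy B a⁻¹

theorem Rel.symm {A B : Subgroup G} {a b : G} (h : Rel A B a b) : Rel B A b a :=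
  ⟨h.2.2.1, h.2.2.2.1, h.1, h.2.1, h.2.2.2.2.symm⟩

theorem special_symm {A B : Subgroup G} (hs : Cfsg.IsSpecialRankOnePair A B) :
    Cfsg.IsSpecialRankOnePair B A := by
  refine ⟨Cfsg.RankOnePair_symm hs.1, ?_⟩
  intro b hb hb1 a ha ha1 hE
  have h1 := hs.2 a ha ha1 b hb hb1 hE.symm
  have h2 := congrArg (fun x => x⁻¹) h1
  simp only [mul_inv_rev, inv_inv] at h2
  rw [← mul_assoc, ← mul_assoc] at h2
  exact h2.symm

theorem exists_right {A B : Subgroup G} (hp : Cfsg.IsRankOnePair A B) {a : G} (ha : a ∈ A)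
    (ha1 : a ≠ 1) : ∃ b, Rel A B a b := by
  obtain ⟨b, hb, hb1, hE⟩ := hp.cond_left a ha ha1
  exact ⟨b, ha, ha1, hb, hb1, hE⟩

theorem exists_left {A B : Subgroup G} (hp : Cfsg.IsRankOnePair A B) {b : G} (hb : b ∈ B)
    (hb1 : b ≠ 1) : ∃ a, Rel A B a b := by
  obtain ⟨a, ha, ha1, hE⟩ := hp.cond_right b hb hb1
  exact ⟨a, ha, ha1, hb, hb1, hE.symm⟩

theorem Rel.unique_left {A B : Subgroup G} (hp : Cfsg.IsRankOnePair A B) {a a' b : G}
    (h : Rel A B a b) (h' : Rel A B a' b) : a = a' := by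
  have hu := (Cfsg.Agent.S5013.result hp).2.1 b h.2.2.1 h.2.2.2.1
  exact hu.unique ⟨h.1, h.2.1, h.2.2.2.2⟩ ⟨h'.1, h'.2.1, h'.2.2.2.2⟩

theorem Rel.unique_right {A B : Subgroup G} (hp : Cfsg.IsRankOnePair A B) {a b b' : G}
    (h : Rel A B a b) (h' : Rel A B a b') : b = b' :=
  Rel.unique_left (Cfsg.RankOnePair_symm hp) h.symm h'.symm

/-- The special identity, and its inverse form. -/
theorem Rel.special {A B : Subgroup G} (hs : Cfsg.IsSpecialRankOnePair A B) {a b : G}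
    (h : Rel A B a b) : b⁻¹ * a * b = a⁻¹ * b⁻¹ * a :=
  hs.2 a h.1 h.2.1 b h.2.2.1 h.2.2.2.1 h.2.2.2.2

theorem Rel.special_inv {A B : Subgroup G} (hs : Cfsg.IsSpecialRankOnePair A B) {a b : G}
    (h : Rel A B a b) : b⁻¹ * a⁻¹ * b = a⁻¹ * b * a := by
  have h1 := h.special hs
  have h2 := congrArg (fun x => x⁻¹) h1
  simp only [mul_inv_rev, inv_inv] at h2
  rw [← mul_assoc, ← mul_assoc] at h2
  exact h2

/-- (R1) `A^b = B^a` implies `A^(b⁻¹) = B^(a⁻¹)`. -/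
theorem Rel.inv {A B : Subgroup G} (hs : Cfsg.IsSpecialRankOnePair A B) {a b : G}
    (h : Rel A B a b) : Rel A B a⁻¹ b⁻¹ := by
  have hp := hs.1
  obtain ⟨ha, ha1, hb, hb1, hE⟩ := h
  have hsp := Rel.special_inv hs (⟨ha, ha1, hb, hb1, hE⟩ : Rel A B a b)
  have hP : Cfsg.conjBy A (a⁻¹ * b) ∈ Cfsg.unipotentSubgroups A B :=
    ⟨a⁻¹ * b, Subgroup.mul_mem _ (Subgroup.inv_mem _ (le_sup_left (a := A) ha))
      (le_sup_right (a := A) hb), rfl⟩
  have hB : B ∈ Cfsg.unipotentSubgroups A B := RankOne.right_mem hp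
  have hn : Cfsg.conjBy (Cfsg.conjBy A (a⁻¹ * b)) b⁻¹ = Cfsg.conjBy A (a⁻¹ * b) := by
    rw [conjBy_conjBy, ← mul_assoc, hsp, ← conjBy_conjBy, conjBy_of_mem ha]
  have hPB : B = Cfsg.conjBy A (a⁻¹ * b) := by
    by_contra hne
    have := RankOne.eq_one_of_normalizes' hp hB hP hne (B.inv_mem hb) hn
    exact hb1 (inv_eq_one.mp this)
  refine ⟨A.inv_mem ha, by simpa using ha1, B.inv_mem hb, by simpa using hb1, ?_⟩
  rw [inv_inv, inv_inv]
  rw [← conjBy_conjBy] at hPB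
  have := (conjBy_eq_iff (A := Cfsg.conjBy A b) (B := B) (g := a⁻¹)).1 hPB.symm
  rw [inv_inv] at this
  exact this

theorem Rel.conj_eq {A B : Subgroup G} (hs : Cfsg.IsSpecialRankOnePair A B) {a b : G}
    (h : Rel A B a b) : Cfsg.conjBy A b = Cfsg.conjBy B a := by
  have := (h.inv hs).2.2.2.2
  rwa [inv_inv, inv_inv] at this

/-- (R2) `a` and `b⁻¹` are conjugate. -/
theorem Rel.pow_eq_one_iff {A B : Subgroup G} (hs : Cfsg.IsSpecialRankOnePair A B) {a b : G}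
    (h : Rel A B a b) (m : ℕ) : a ^ m = 1 ↔ b ^ m = 1 := by
  have h2 := h.special_inv hs
  have key : b⁻¹ = (a⁻¹ * b) * a * (a⁻¹ * b)⁻¹ := by
    have : (a⁻¹ * b) * a * (a⁻¹ * b)⁻¹ = (a⁻¹ * b * a) * b⁻¹ * a := by group
    rw [this, ← h2]; group
  rw [← inv_eq_one (a := b ^ m), ← inv_pow, key, conj_pow, conj_eq_one_iff]

/-- (R3) -/
theorem Rel.conj_pow_eq {A B : Subgroup G} (hs : Cfsg.IsSpecialRankOnePair A B) {a b : G}
    (h : Rel A B a b) (j : ℕ) :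
    Cfsg.conjBy B (b⁻¹ * (a ^ j)⁻¹) = Cfsg.conjBy A (a⁻¹ * b ^ (j + 1)) := by
  have hsp := h.special_inv hs
  have hc := h.conj_eq hs
  obtain ⟨ha, ha1, hb, hb1, hE⟩ := h
  -- (c^m)⁻¹ two ways
  have e1 : (b⁻¹ * a⁻¹ * b) ^ (j + 1) = b⁻¹ * (a ^ (j + 1))⁻¹ * b := by
    have := conj_pow (a := b⁻¹) (b := a⁻¹) (i := j + 1)
    rw [inv_inv] at this
    rw [this, inv_pow]
  have e2 : (a⁻¹ * b * a) ^ (j + 1) = a⁻¹ * b ^ (j + 1) * a := by
    have := conj_pow (a := a⁻¹) (b := b) (i := j + 1)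
    rw [inv_inv] at this
    rw [this]
  have e3 : b⁻¹ * (a ^ (j + 1))⁻¹ * b = a⁻¹ * b ^ (j + 1) * a := by
    rw [← e1, ← e2, hsp]
  have E1 : Cfsg.conjBy A (a⁻¹ * b ^ (j + 1) * a) = Cfsg.conjBy A (a⁻¹ * b ^ (j + 1)) := by
    rw [← conjBy_conjBy, conjBy_of_mem ha]
  have E2 : Cfsg.conjBy A (b⁻¹ * (a ^ (j + 1))⁻¹ * b) = Cfsg.conjBy B (b⁻¹ * (a ^ j)⁻¹) := by
    rw [← conjBy_conjBy, hc, conjBy_conjBy]
    congr 1
    rw [pow_succ]
    group
  rw [← E2, e3, E1]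

/-- `a(b^m)^m = a(b)`. -/
def Kstar (A B : Subgroup G) (m : ℕ) : Prop :=
  ∀ a b ψ : G, Rel A B a b → b ^ m ≠ 1 → Rel A B ψ (b ^ m) → ψ ^ m = a

theorem kstar : ∀ j : ℕ, ∀ A B : Subgroup G, Cfsg.IsSpecialRankOnePair A B → Kstar A B (j + 1) := by
  intro j
  induction j with
  | zero =>
    intro A B hs a b ψ hab hb hψ
    simp only [zero_add, pow_one] at hb hψ ⊢
    exact Rel.unique_left hs.1 hψ hab
  | succ j ih =>
    intro A B hs a b ψ hab hbm hψ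
    have hp := hs.1
    have hs' := special_symm hs
    -- R1 on (ψ, b^m)
    have h1 : Cfsg.conjBy A (b ^ (j + 1 + 1)) = Cfsg.conjBy B ψ := hψ.conj_eq hs
    have h2 : Cfsg.conjBy A (a⁻¹ * b ^ (j + 1 + 1)) = Cfsg.conjBy B (a⁻¹ * ψ) := by
      rw [← conjBy_conjBy, h1, conjBy_conjBy]
    have h3 := hab.conj_pow_eq hs (j + 1)
    rw [h2] at h3
    by_cases haj : a ^ (j + 1) = 1
    · -- B = conjBy B (a⁻¹ψ)
      rw [haj, inv_one, mul_one, conjBy_of_mem (B.inv_mem hab.2.2.1)] at h3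
      have h4 : a⁻¹ * ψ = 1 :=
        RankOne.eq_one_of_normalizes hp (A.mul_mem (A.inv_mem hab.1) hψ.1) h3.symm
      have h5 : ψ = a := by
        have := congrArg (fun x => a * x) h4
        simpa using this
      rw [h5, pow_succ, haj, one_mul]
    · obtain ⟨b', hb'⟩ := exists_right hp (A.pow_mem hab.1 (j + 1)) haj
      have hb'j : b' ^ (j + 1) = b := ih B A hs' b a b' hab.symm haj hb'.symm
      have h4 : Cfsg.conjBy B (b⁻¹ * (a ^ (j + 1))⁻¹) = Cfsg.conjBy A ((b' ^ (j + 1 + 1))⁻¹) := by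
        rw [← conjBy_conjBy, ← hb'.2.2.2.2, conjBy_conjBy]
        congr 1
        rw [← hb'j, ← mul_inv_rev, ← pow_succ']
      rw [h4] at h3
      have hbm1 : b' ^ (j + 1 + 1) ≠ 1 := by
        intro h0
        rw [h0, inv_one, conjBy_one] at h3
        exact RankOne.conjBy_right_ne_left hp (A.mul_mem (A.inv_mem hab.1) hψ.1) h3.symm
      have hy1 : ψ⁻¹ * a ≠ 1 := by
        intro h0
        have h0' : a⁻¹ * ψ = 1 := by
          have := congrArg (fun x => x⁻¹) h0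
          simpa using this
        rw [h0', conjBy_one] at h3
        have h5 := (conjBy_eq_iff (A := A) (B := B) (g := (b' ^ (j + 1 + 1))⁻¹)).1 h3
        rw [inv_inv, conjBy_of_mem (B.pow_mem hb'.2.2.1 _)] at h5
        exact hp.ne h5
      have hrel : Rel A B (ψ⁻¹ * a) (b' ^ (j + 1 + 1)) := by
        refine ⟨A.mul_mem (A.inv_mem hψ.1) hab.1, hy1, B.pow_mem hb'.2.2.1 _, hbm1, ?_⟩
        rw [h3]
        congr 1
        group
      have hpow : (b' ^ (j + 1 + 1)) ^ (j + 1) = b ^ (j + 1 + 1) := by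
        rw [← hb'j, ← pow_mul, ← pow_mul, mul_comm]
      have h6 : ψ ^ (j + 1) = ψ⁻¹ * a := by
        refine ih A B hs (ψ⁻¹ * a) (b' ^ (j + 1 + 1)) ψ hrel ?_ ?_
        · rw [hpow]; exact hbm
        · rw [hpow]; exact hψ
      rw [pow_succ', h6]
      group

end SpecialRankOne
end Cfsg.Agent.Helper25
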