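import Mathlib
import Cfsg.Prelude.Def_RootSubgroups
import Cfsg.Agent.Lib.Helper25.ConjBy
import Cfsg.Agent.Lib.Helper25.RankOne
import Cfsg.Agent.Lib.Helper25.SpecialRankOne

set_option autoImplicit false

namespace Cfsg.Agent.Helper25
namespace RankOneP

open SpecialRankOne

variable {G : Type*} [Group G] {A B : Subgroup G}

theorem mem_diag_iff {h : G} : h ∈ Cfsg.rankOneDiagonal A B ↔
    h ∈ A ⊔ B ∧ Cfsg.conjBy A h = A ∧ Cfsg.conjBy B h = B := by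
  unfold Cfsg.rankOneDiagonal
  rw [Subgroup.mem_inf, Subgroup.mem_inf, mem_normalizer_iff_conjBy, mem_normalizer_iff_conjBy]
  tauto

/-- braid form of the special relation -/
theorem braid (hs : Cfsg.IsSpecialRankOnePair A B) {a b : G} (h : Rel A B a b) :
    a * b⁻¹ * a = b⁻¹ * a * b⁻¹ := by
  have h1 := h.special hs
  have h2 : a * (b⁻¹ * a * b) = a * (a⁻¹ * b⁻¹ * a) := by rw [h1]
  have h3 : a * b⁻¹ * a = b⁻¹ * a * b⁻¹ := by
    have : a * b⁻¹ * a = (a * (b⁻¹ * a * b)) * b⁻¹ := by group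
    rw [this, h2]; group
  exact h3

theorem mem_sup_n {a b : G} (h : Rel A B a b) : a * b⁻¹ * a ∈ A ⊔ B :=
  Subgroup.mul_mem _ (Subgroup.mul_mem _ (le_sup_left (a := A) h.1)
    (Subgroup.inv_mem _ (le_sup_right (a := A) h.2.2.1))) (le_sup_left (a := A) h.1)

theorem conjA_n (hs : Cfsg.IsSpecialRankOnePair A B) {a b : G} (h : Rel A B a b) :
    Cfsg.conjBy A (a * b⁻¹ * a) = B := by
  rw [← conjBy_conjBy, conjBy_of_mem h.1, ← conjBy_conjBy, h.2.2.2.2, conjBy_conjBy]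
  simp [conjBy_one]

theorem conjB_n (hs : Cfsg.IsSpecialRankOnePair A B) {a b : G} (h : Rel A B a b) :
    Cfsg.conjBy B (a * b⁻¹ * a) = A := by
  rw [braid hs h, ← conjBy_conjBy, conjBy_of_mem (B.inv_mem h.2.2.1), ← conjBy_conjBy,
    ← h.conj_eq hs, conjBy_conjBy]
  simp [conjBy_one]

theorem conjA_n_inv (hs : Cfsg.IsSpecialRankOnePair A B) {a b : G} (h : Rel A B a b) :
    Cfsg.conjBy A (a * b⁻¹ * a)⁻¹ = B := by
  have := conjB_n hs h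
  exact (conjBy_eq_iff.1 this).symm

theorem conjB_n_inv (hs : Cfsg.IsSpecialRankOnePair A B) {a b : G} (h : Rel A B a b) :
    Cfsg.conjBy B (a * b⁻¹ * a)⁻¹ = A := by
  have := conjA_n hs h
  exact (conjBy_eq_iff.1 this).symm

theorem n_conj_a (hs : Cfsg.IsSpecialRankOnePair A B) {a b : G} (h : Rel A B a b) :
    (a * b⁻¹ * a) * a * (a * b⁻¹ * a)⁻¹ = b⁻¹ := by
  have hb := braid hs h
  have : (a * b⁻¹ * a) * a = b⁻¹ * (a * b⁻¹ * a) := by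
    conv_lhs => rw [hb]
    group
  rw [this]; group

/-- conjugating a related pair by an element normalizing `A` and `B` -/
theorem Rel.conj {a b g : G} (h : Rel A B a b) (hA : Cfsg.conjBy A g = A)
    (hB : Cfsg.conjBy B g = B) : Rel A B (g * a * g⁻¹) (g * b * g⁻¹) := by
  have hA' : Cfsg.conjBy A g⁻¹ = A := (conjBy_eq_iff.1 hA).symm
  have hB' : Cfsg.conjBy B g⁻¹ = B := (conjBy_eq_iff.1 hB).symm
  obtain ⟨ha, ha1, hb, hb1, hE⟩ := h
  refine ⟨?_, ?_, ?_, ?_, ?_⟩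
  · rw [← hA, mem_conjBy]; simpa [mul_assoc] using ha
  · intro h0; apply ha1
    have : a = g⁻¹ * (g * a * g⁻¹) * g := by group
    rw [this, h0]; group
  · rw [← hB, mem_conjBy]; simpa [mul_assoc] using hb
  · intro h0; apply hb1
    have : b = g⁻¹ * (g * b * g⁻¹) * g := by group
    rw [this, h0]; group
  · have e1 : (g * b * g⁻¹)⁻¹ = g * (b⁻¹ * g⁻¹) := by group
    have e2 : (g * a * g⁻¹)⁻¹ = g * (a⁻¹ * g⁻¹) := by group
    rw [e1, e2, ← conjBy_conjBy, ← conjBy_conjBy, hA', ← conjBy_conjBy, ← conjBy_conjBy, hB', hE]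

/-- an element swapping `A` and `B` normalizes the diagonal subgroup -/
theorem conj_diag_of_swap {n : G} (hn : n ∈ A ⊔ B) (h1 : Cfsg.conjBy A n = B)
    (h2 : Cfsg.conjBy B n = A) :
    Cfsg.conjBy (Cfsg.rankOneDiagonal A B) n = Cfsg.rankOneDiagonal A B := by
  have h1' : Cfsg.conjBy B n⁻¹ = A := (conjBy_eq_iff.1 h1).symm
  have h2' : Cfsg.conjBy A n⁻¹ = B := (conjBy_eq_iff.1 h2).symm
  ext x
  rw [mem_conjBy, mem_diag_iff, mem_diag_iff]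
  constructor
  · rintro ⟨hx, hxA, hxB⟩
    refine ⟨?_, ?_, ?_⟩
    · have : x = n * (n⁻¹ * x * n) * n⁻¹ := by group
      rw [this]
      exact Subgroup.mul_mem _ (Subgroup.mul_mem _ hn hx) (Subgroup.inv_mem _ hn)
    · have e : x = n * ((n⁻¹ * x * n) * n⁻¹) := by group
      rw [e, ← conjBy_conjBy, ← conjBy_conjBy, h2', hxB, h2]
    · have e : x = n * ((n⁻¹ * x * n) * n⁻¹) := by group
      rw [e, ← conjBy_conjBy, ← conjBy_conjBy, h1', hxA, h1]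
  · rintro ⟨hx, hxA, hxB⟩
    refine ⟨Subgroup.mul_mem _ (Subgroup.mul_mem _ (Subgroup.inv_mem _ hn) hx) hn, ?_, ?_⟩
    · have e : n⁻¹ * x * n = n⁻¹ * (x * n) := by group
      rw [e, ← conjBy_conjBy, ← conjBy_conjBy, h1, hxB, h1']
    · have e : n⁻¹ * x * n = n⁻¹ * (x * n) := by group
      rw [e, ← conjBy_conjBy, ← conjBy_conjBy, h2, hxA, h2']

theorem conjBy_commutator (P Q : Subgroup G) (g : G) :
    Cfsg.conjBy ⁅P, Q⁆ g = ⁅Cfsg.conjBy P g, Cfsg.conjBy Q g⁆ := by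
  unfold Cfsg.conjBy
  exact Subgroup.map_commutator P Q _

theorem conj_commA_of_swap {n : G} (hn : n ∈ A ⊔ B) (h1 : Cfsg.conjBy A n = B)
    (h2 : Cfsg.conjBy B n = A) :
    Cfsg.conjBy ⁅A, Cfsg.rankOneDiagonal A B⁆ n = ⁅B, Cfsg.rankOneDiagonal A B⁆ := by
  rw [conjBy_commutator, h1, conj_diag_of_swap hn h1 h2]

theorem conj_commB_of_swap {n : G} (hn : n ∈ A ⊔ B) (h1 : Cfsg.conjBy A n = B)
    (h2 : Cfsg.conjBy B n = A) :
    Cfsg.conjBy ⁅B, Cfsg.rankOneDiagonal A B⁆ n = ⁅A, Cfsg.rankOneDiagonal A B⁆ := by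
  rw [conjBy_commutator, h2, conj_diag_of_swap hn h1 h2]

open scoped commutatorElement in
theorem commA_le : ⁅A, Cfsg.rankOneDiagonal A B⁆ ≤ A := by
  rw [Subgroup.commutator_le]
  intro a ha h hh
  rw [mem_diag_iff] at hh
  have : h * a⁻¹ * h⁻¹ ∈ A := by
    rw [← hh.2.1, mem_conjBy]; simpa [mul_assoc] using A.inv_mem ha
  have e : ⁅a, h⁆ = a * (h * a⁻¹ * h⁻¹) := by rw [commutatorElement_def]; group
  rw [e]; exact A.mul_mem ha this

open scoped commutatorElement in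
theorem commB_le : ⁅B, Cfsg.rankOneDiagonal A B⁆ ≤ B := by
  rw [Subgroup.commutator_le]
  intro a ha h hh
  rw [mem_diag_iff] at hh
  have : h * a⁻¹ * h⁻¹ ∈ B := by
    rw [← hh.2.2, mem_conjBy]; simpa [mul_assoc] using B.inv_mem ha
  have e : ⁅a, h⁆ = a * (h * a⁻¹ * h⁻¹) := by rw [commutatorElement_def]; group
  rw [e]; exact B.mul_mem ha this

/-- `Rel α β` with `β ∈ [B,H]` forces `α ∈ [A,H]`. -/
theorem mem_commA_of_rel (hs : Cfsg.IsSpecialRankOnePair A B) {α β : G} (h : Rel A B α β)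
    (hβ : β ∈ ⁅B, Cfsg.rankOneDiagonal A B⁆) : α ∈ ⁅A, Cfsg.rankOneDiagonal A B⁆ := by
  have hc := conj_commB_of_swap (mem_sup_n (h.inv hs)) (conjA_n hs (h.inv hs)) (conjB_n hs (h.inv hs))
  -- use n' = n(α⁻¹) = α⁻¹ β α⁻¹ : n' α⁻¹ n'⁻¹ = β ; so α⁻¹ = n'⁻¹ β n'
  have h4 := n_conj_a hs (h.inv hs)
  rw [inv_inv] at h4 hc
  -- h4 : (α⁻¹ * β * α⁻¹) * α⁻¹ * (α⁻¹ * β * α⁻¹)⁻¹ = β
  have hc' : Cfsg.conjBy ⁅A, Cfsg.rankOneDiagonal A B⁆ (α⁻¹ * β * α⁻¹) =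
      ⁅B, Cfsg.rankOneDiagonal A B⁆ := by
    have h1 := conjA_n hs (h.inv hs)
    have h2 := conjB_n hs (h.inv hs)
    rw [inv_inv] at h1 h2
    have hm := mem_sup_n (h.inv hs)
    rw [inv_inv] at hm
    exact conj_commA_of_swap hm h1 h2
  rw [← hc', mem_conjBy] at hβ
  have e : (α⁻¹ * β * α⁻¹)⁻¹ * β * (α⁻¹ * β * α⁻¹) = α⁻¹ := by
    have : (α⁻¹ * β * α⁻¹)⁻¹ * β * (α⁻¹ * β * α⁻¹) =
        (α⁻¹ * β * α⁻¹)⁻¹ * (α⁻¹ * β * α⁻¹ * α⁻¹ * (α⁻¹ * β * α⁻¹)⁻¹) * (α⁻¹ * β * α⁻¹) := by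
      rw [h4]
    rw [this]; group
  rw [e] at hβ
  simpa using Subgroup.inv_mem _ hβ

end RankOneP
end Cfsg.Agent.Helper25
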