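import Mathlib
import Cfsg.Prelude.Def_RootSubgroups
import Cfsg.Agent.Lib.Helper25.ConjBy
import Cfsg.Agent.Lib.Helper25.RankOne
import Cfsg.Agent.Lib.Helper25.RankOne2
import Cfsg.Agent.Lib.Helper25.SpecialRankOne
import Cfsg.Agent.Lib.Helper25.RankOneP1

set_option autoImplicit false

namespace Cfsg.Agent.Helper25
namespace RankOneP

open SpecialRankOne
open scoped commutatorElement

variable {G : Type*} [Group G] {A B : Subgroup G}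

/-- Claim 2: an element of `A` moved by some element of the diagonal subgroup lies in `[A,H]`. -/
theorem mem_commA_of_moved (hs : Cfsg.IsSpecialRankOnePair A B)
    (hab : Cfsg.HasAbelianUnipotents A B) {a h : G} (ha : a ∈ A)
    (hh : h ∈ Cfsg.rankOneDiagonal A B) (hmv : h * a * h⁻¹ ≠ a) :
    a ∈ ⁅A, Cfsg.rankOneDiagonal A B⁆ := by
  have hp := hs.1
  have hAc : ∀ x ∈ A, ∀ y ∈ A, x * y = y * x := by
    intro x hx y hy
    have := hab.1.is_comm.comm ⟨x, hx⟩ ⟨y, hy⟩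
    exact congrArg Subtype.val this
  have hBc : ∀ x ∈ B, ∀ y ∈ B, x * y = y * x := by
    intro x hx y hy
    have := hab.2.is_comm.comm ⟨x, hx⟩ ⟨y, hy⟩
    exact congrArg Subtype.val this
  have ha1 : a ≠ 1 := by
    rintro rfl; apply hmv; group
  obtain ⟨b, hab'⟩ := exists_right hp ha ha1
  have hhd := mem_diag_iff.1 hh
  have hrel' : Rel A B (h * a * h⁻¹) (h * b * h⁻¹) := RankOneP.Rel.conj hab' hhd.2.1 hhd.2.2
  set H := Cfsg.rankOneDiagonal A B with hH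
  -- z₁ and ζ'
  have hz1 : a⁻¹ * (h * a * h⁻¹) ∈ ⁅A, H⁆ := by
    have : a⁻¹ * (h * a * h⁻¹) = ⁅a⁻¹, h⁆ := by rw [commutatorElement_def]; group
    rw [this]
    exact Subgroup.commutator_mem_commutator (A.inv_mem ha) hh
  have hz1ne : a⁻¹ * (h * a * h⁻¹) ≠ 1 := by
    intro h0; apply hmv
    have := congrArg (fun x => a * x) h0
    simpa using this
  have hζ : b⁻¹ * (h * b * h⁻¹) ∈ ⁅B, H⁆ := by
    have : b⁻¹ * (h * b * h⁻¹) = ⁅b⁻¹, h⁆ := by rw [commutatorElement_def]; group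
    rw [this]
    exact Subgroup.commutator_mem_commutator (B.inv_mem hab'.2.2.1) hh
  have hζne : b⁻¹ * (h * b * h⁻¹) ≠ 1 := by
    intro h0
    have hb' : h * b * h⁻¹ = b := by
      have := congrArg (fun x => b * x) h0
      simpa using this
    rw [hb'] at hrel'
    exact hmv (Rel.unique_left hp hrel' hab')
  set z₁ := a⁻¹ * (h * a * h⁻¹) with hz₁
  set ζ := b⁻¹ * (h * b * h⁻¹) with hζdef
  have hζB : ζ ∈ B := commB_le hζ
  have hz1A : z₁ ∈ A := commA_le hz1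
  obtain ⟨α, hα⟩ := exists_left hp hζB hζne
  have hαc : α ∈ ⁅A, H⁆ := mem_commA_of_rel hs hα hζ
  -- E1
  have ea : h * a * h⁻¹ = a * z₁ := by rw [hz₁]; group
  have eb : h * b * h⁻¹ = b * ζ := by rw [hζdef]; group
  have hE := hrel'.2.2.2.2
  rw [ea, eb] at hE
  have e1 : (b * ζ)⁻¹ = b⁻¹ * ζ⁻¹ := by
    rw [mul_inv_rev]
    exact hBc _ (B.inv_mem hζB) _ (B.inv_mem hab'.2.2.1)
  have e2 : (a * z₁)⁻¹ = z₁⁻¹ * a⁻¹ := mul_inv_rev _ _
  rw [e1, e2, ← conjBy_conjBy, hα.2.2.2.2, conjBy_conjBy] at hE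
  -- hE : conjBy B (b⁻¹ * α⁻¹) = conjBy B (z₁⁻¹ * a⁻¹)
  -- n = a b⁻¹ a
  have hbn : b⁻¹ = a⁻¹ * (a * b⁻¹ * a) * a⁻¹ := by group
  have hE2 : Cfsg.conjBy B (z₁ * (a * b⁻¹ * a) * (a⁻¹ * α⁻¹)) = B := by
    have h1 := congrArg (fun C => Cfsg.conjBy C (a * z₁)) hE
    simp only [conjBy_conjBy] at h1
    have e3 : a * z₁ * (z₁⁻¹ * a⁻¹) = 1 := by group
    rw [e3, conjBy_one] at h1
    rw [← h1]
    congr 1
    have e4 : a * z₁ = z₁ * a := hAc a ha z₁ hz1A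
    calc z₁ * (a * b⁻¹ * a) * (a⁻¹ * α⁻¹) = (z₁ * a) * (b⁻¹ * α⁻¹) := by group
      _ = a * z₁ * (b⁻¹ * α⁻¹) := by rw [e4]
  -- β₁
  have hswapA := conjA_n hs hab'
  have hswapB := conjB_n hs hab'
  have hnm := mem_sup_n hab'
  set n := a * b⁻¹ * a with hn
  have hβ1 : n⁻¹ * z₁ * n ∈ ⁅B, H⁆ := by
    have hc := conj_commB_of_swap hnm hswapA hswapB
    have : ⁅B, H⁆ = Cfsg.conjBy ⁅A, H⁆ n⁻¹ := conjBy_eq_iff.1 hc
    rw [this, mem_conjBy]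
    simpa [mul_assoc] using hz1
  have hβ1ne : n⁻¹ * z₁ * n ≠ 1 := by
    intro h0; apply hz1ne
    have : z₁ = n * (n⁻¹ * z₁ * n) * n⁻¹ := by group
    rw [this, h0]; group
  set β₁ := n⁻¹ * z₁ * n with hβ₁
  have hβ1B : β₁ ∈ B := commB_le hβ1
  have hE3 : Cfsg.conjBy B (β₁ * (a⁻¹ * α⁻¹)) = A := by
    have e5 : z₁ * n * (a⁻¹ * α⁻¹) = n * (β₁ * (a⁻¹ * α⁻¹)) := by rw [hβ₁]; group
    rw [e5, ← conjBy_conjBy] at hE2
    have := conjBy_eq_iff.1 hE2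
    rw [this]
    exact conjB_n_inv hs hab'
  obtain ⟨α₂, hα₂⟩ := exists_left hp hβ1B hβ1ne
  have hα₂c : α₂ ∈ ⁅A, H⁆ := mem_commA_of_rel hs hα₂ hβ1
  have hE4 : Cfsg.conjBy B (a⁻¹ * α⁻¹) = Cfsg.conjBy B α₂⁻¹ := by
    rw [← conjBy_conjBy] at hE3
    have := conjBy_eq_iff.1 hE3
    rw [this, hα₂.2.2.2.2]
  have hE5 : Cfsg.conjBy B (α₂ * (a⁻¹ * α⁻¹)) = B := by
    rw [← conjBy_conjBy, hE4, conjBy_conjBy]
    simp [conjBy_one]
  have h6 : α₂ * (a⁻¹ * α⁻¹) = 1 := by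
    refine RankOne.eq_one_of_normalizes hp ?_ hE5
    exact A.mul_mem hα₂.1 (A.mul_mem (A.inv_mem ha) (A.inv_mem hα.1))
  have h7 : a = α⁻¹ * α₂ := by
    have h8 : α₂ * (a⁻¹ * α⁻¹) = α₂ * α⁻¹ * a⁻¹ := by
      rw [mul_assoc]; congr 1
      exact hAc _ (A.inv_mem ha) _ (A.inv_mem hα.1)
    rw [h8] at h6
    have h9 : a = α₂ * α⁻¹ := by
      have := congrArg (fun x => x * a) h6
      simpa using this.symm
    rw [h9]
    exact hAc _ hα₂.1 _ (A.inv_mem hα.1)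
  rw [h7]
  exact Subgroup.mul_mem _ (Subgroup.inv_mem _ hαc) hα₂c

end RankOneP
end Cfsg.Agent.Helper25
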