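import Mathlib
import Cfsg.Prelude.Def_RootSubgroups
import Cfsg.Agent.Lib.Helper25.ConjBy
import Cfsg.Agent.Lib.Helper25.RankOne
import Cfsg.Agent.Lib.Helper25.RankOne2
import Cfsg.Agent.Lib.Helper25.SpecialRankOne
import Cfsg.Agent.Lib.Helper25.RankOneP1
import Cfsg.Agent.Lib.Helper25.RankOneP2

set_option autoImplicit false

namespace Cfsg.Agent.Helper25
namespace RankOneP

open SpecialRankOne
open scoped commutatorElement

variable {G : Type*} [Group G] {A B : Subgroup G}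

/-- `z` commutes elementwise with `A` and `B`. -/
def Cen (A B : Subgroup G) (z : G) : Prop := (∀ x ∈ A, z * x = x * z) ∧ (∀ y ∈ B, z * y = y * z)

theorem Cen.inv {z : G} (h : Cen A B z) : Cen A B z⁻¹ := by
  constructor
  · intro x hx
    have := h.1 x hx
    calc z⁻¹ * x = z⁻¹ * (x * z) * z⁻¹ := by group
      _ = z⁻¹ * (z * x) * z⁻¹ := by rw [this]
      _ = x * z⁻¹ := by group
  · intro x hx
    have := h.2 x hx
    calc z⁻¹ * x = z⁻¹ * (x * z) * z⁻¹ := by group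
      _ = z⁻¹ * (z * x) * z⁻¹ := by rw [this]
      _ = x * z⁻¹ := by group

theorem Cen.mul {z w : G} (h : Cen A B z) (h' : Cen A B w) : Cen A B (z * w) := by
  constructor
  · intro x hx
    rw [mul_assoc, h'.1 x hx, ← mul_assoc, h.1 x hx, mul_assoc]
  · intro x hx
    rw [mul_assoc, h'.2 x hx, ← mul_assoc, h.2 x hx, mul_assoc]

/-- If the diagonal subgroup centralizes `A`, then `n(a)⁻¹ n(c)` centralizes `A` and `B`. -/
theorem cen_of_diag_central (hs : Cfsg.IsSpecialRankOnePair A B)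
    (hcent : ∀ h ∈ Cfsg.rankOneDiagonal A B, ∀ x ∈ A, h * x = x * h)
    {a b c d : G} (h1 : Rel A B a b) (h2 : Rel A B c d) :
    Cen A B ((a * b⁻¹ * a)⁻¹ * (c * d⁻¹ * c)) := by
  have hz : (a * b⁻¹ * a)⁻¹ * (c * d⁻¹ * c) ∈ Cfsg.rankOneDiagonal A B := by
    rw [mem_diag_iff]
    refine ⟨Subgroup.mul_mem _ (Subgroup.inv_mem _ (mem_sup_n h1)) (mem_sup_n h2), ?_, ?_⟩
    · rw [← conjBy_conjBy, conjA_n hs h2, conjB_n_inv hs h1]
    · rw [← conjBy_conjBy, conjB_n hs h2, conjA_n_inv hs h1]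
  have hz' : (c * d⁻¹ * c) * (a * b⁻¹ * a)⁻¹ ∈ Cfsg.rankOneDiagonal A B := by
    rw [mem_diag_iff]
    refine ⟨Subgroup.mul_mem _ (mem_sup_n h2) (Subgroup.inv_mem _ (mem_sup_n h1)), ?_, ?_⟩
    · rw [← conjBy_conjBy, conjA_n_inv hs h1, conjB_n hs h2]
    · rw [← conjBy_conjBy, conjB_n_inv hs h1, conjA_n hs h2]
  refine ⟨hcent _ hz, ?_⟩
  intro y hy
  have hx : (a * b⁻¹ * a) * y * (a * b⁻¹ * a)⁻¹ ∈ A := by
    rw [← conjB_n hs h1, mem_conjBy]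
    simpa [mul_assoc] using hy
  have h3 := hcent _ hz' _ hx
  set n := a * b⁻¹ * a with hn
  set m := c * d⁻¹ * c with hm
  calc n⁻¹ * m * y = n⁻¹ * ((m * n⁻¹) * (n * y * n⁻¹)) * n := by group
    _ = n⁻¹ * ((n * y * n⁻¹) * (m * n⁻¹)) * n := by rw [h3]
    _ = y * (n⁻¹ * m) := by group

/-- Claim 1, main step. -/
theorem eq_of_diag_central (hs : Cfsg.IsSpecialRankOnePair A B)
    (hab : Cfsg.HasAbelianUnipotents A B)
    (hcent : ∀ h ∈ Cfsg.rankOneDiagonal A B, ∀ x ∈ A, h * x = x * h)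
    {d c c' : G} (hd : d ∈ A) (hd1 : d ≠ 1) (hc : c ∈ A) (hc1 : c ≠ 1) (hc' : c' ∈ A)
    (hc'1 : c' ≠ 1) (hcd : c * d ≠ 1) (hc'd : c' * d ≠ 1) : c = c' := by
  have hp := hs.1
  have hAc : ∀ x ∈ A, ∀ y ∈ A, x * y = y * x := by
    intro x hx y hy
    have := hab.1.is_comm.comm ⟨x, hx⟩ ⟨y, hy⟩
    exact congrArg Subtype.val this
  have hBc : ∀ x ∈ B, ∀ y ∈ B, x * y = y * x := by
    intro x hx y hy
    have := hab.2.is_comm.comm ⟨x, hx⟩ ⟨y, hy⟩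
    exact congrArg Subtype.val this
  obtain ⟨bd, hbd⟩ := exists_right hp hd hd1
  -- the identity (I) for a given c
  have key : ∀ c : G, c ∈ A → c ≠ 1 → c * d ≠ 1 → ∀ bc : G, Rel A B c bc →
      ∃ z, Cen A B z ∧ d * bd⁻¹ * d = d * bc * d⁻¹ * bc⁻¹ * z := by
    intro c hc hc1 hcd bc hbc
    obtain ⟨be, hbe⟩ := exists_right hp (A.mul_mem hc hd) hcd
    -- n(c) = n(d) z₂,  n(cd) = n(c) z₁
    have hz1 := cen_of_diag_central hs hcent hbc hbe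
    have hz2 := cen_of_diag_central hs hcent hbc hbd
    set z₁ := (c * bc⁻¹ * c)⁻¹ * (c * d * be⁻¹ * (c * d)) with hz₁
    set z₂ := (c * bc⁻¹ * c)⁻¹ * (d * bd⁻¹ * d) with hz₂
    have en1 : c * d * be⁻¹ * (c * d) = (c * bc⁻¹ * c) * z₁ := by rw [hz₁]; group
    have en2 : d * bd⁻¹ * d = (c * bc⁻¹ * c) * z₂ := by rw [hz₂]; group
    -- φ(cd) = φ(c) φ(d)
    have hφe := n_conj_a hs hbe
    have hφc := n_conj_a hs hbc
    have hφd := n_conj_a hs hbd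
    have hbe' : be⁻¹ = bc⁻¹ * bd⁻¹ := by
      rw [← hφe, en1]
      have hz1c : z₁ * (c * d) = (c * d) * z₁ := hz1.1 _ (A.mul_mem hc hd)
      have e1 : c * bc⁻¹ * c * z₁ * (c * d) * (c * bc⁻¹ * c * z₁)⁻¹ =
          (c * bc⁻¹ * c) * (z₁ * (c * d)) * z₁⁻¹ * (c * bc⁻¹ * c)⁻¹ := by group
      rw [e1, hz1c]
      have e2 : c * bc⁻¹ * c * (c * d * z₁) * z₁⁻¹ * (c * bc⁻¹ * c)⁻¹ =
          ((c * bc⁻¹ * c) * c * (c * bc⁻¹ * c)⁻¹) * ((c * bc⁻¹ * c) * d * (c * bc⁻¹ * c)⁻¹) := by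
        group
      rw [e2, hφc]
      congr 1
      -- n(c) d n(c)⁻¹ = n(d) d n(d)⁻¹
      have e3 : c * bc⁻¹ * c = (d * bd⁻¹ * d) * z₂⁻¹ := by rw [en2]; group
      rw [e3]
      have hz2d : z₂⁻¹ * d = d * z₂⁻¹ := hz2.inv.1 d hd
      have e4 : d * bd⁻¹ * d * z₂⁻¹ * d * (d * bd⁻¹ * d * z₂⁻¹)⁻¹ =
          (d * bd⁻¹ * d) * (z₂⁻¹ * d) * z₂ * (d * bd⁻¹ * d)⁻¹ := by group
      rw [e4, hz2d]
      have e5 : d * bd⁻¹ * d * (d * z₂⁻¹) * z₂ * (d * bd⁻¹ * d)⁻¹ =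
          (d * bd⁻¹ * d) * d * (d * bd⁻¹ * d)⁻¹ := by group
      rw [e5, hφd]
    -- now expand en1
    rw [hbe'] at en1
    -- en1 : c * d * (bc⁻¹ * bd⁻¹) * (c * d) = c * bc⁻¹ * c * z₁
    have hcd' : c * d = d * c := hAc c hc d hd
    have hz1c : c * z₁ = z₁ * c := (hz1.1 c hc).symm
    have e6 : d * bc⁻¹ * bd⁻¹ * d = bc⁻¹ * z₁ := by
      have h1 : c * (d * bc⁻¹ * bd⁻¹ * d) * c = c * (bc⁻¹ * z₁) * c := by
        calc c * (d * bc⁻¹ * bd⁻¹ * d) * c = c * d * (bc⁻¹ * bd⁻¹) * (d * c) := by group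
          _ = c * d * (bc⁻¹ * bd⁻¹) * (c * d) := by rw [hcd']
          _ = c * bc⁻¹ * c * z₁ := en1
          _ = c * bc⁻¹ * (c * z₁) := by group
          _ = c * bc⁻¹ * (z₁ * c) := by rw [hz1c]
          _ = c * (bc⁻¹ * z₁) * c := by group
      have h2 := mul_left_cancel (mul_right_cancel h1)
      exact h2
    refine ⟨z₁, hz1, ?_⟩
    have e7 : d * bd⁻¹ * d = d * bc * (d⁻¹ * (d * bc⁻¹ * bd⁻¹ * d)) := by group
    rw [e7, e6]; group
  obtain ⟨bc, hbc⟩ := exists_right hp hc hc1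
  obtain ⟨bc', hbc'⟩ := exists_right hp hc' hc'1
  obtain ⟨z, hz, e1⟩ := key c hc hc1 hcd bc hbc
  obtain ⟨z', hz', e2⟩ := key c' hc' hc'1 hc'd bc' hbc'
  rw [e1] at e2
  -- e2 : d * bc * d⁻¹ * bc⁻¹ * z = d * bc' * d⁻¹ * bc'⁻¹ * z'
  by_contra hne
  have hbne : bc'⁻¹ * bc ≠ 1 := by
    intro h0
    have : bc = bc' := by
      have := congrArg (fun x => bc' * x) h0
      simpa using this
    rw [this] at hbc
    exact hne (Rel.unique_left hp hbc hbc')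
  set β := bc'⁻¹ * bc with hβ
  have hβB : β ∈ B := B.mul_mem (B.inv_mem hbc'.2.2.1) hbc.2.2.1
  have e3 : β * d⁻¹ * β⁻¹ = d⁻¹ * (z' * z⁻¹) := by
    have h1 : bc * d⁻¹ * bc⁻¹ * z = bc' * d⁻¹ * bc'⁻¹ * z' := by
      have := congrArg (fun x => d⁻¹ * x) e2
      calc bc * d⁻¹ * bc⁻¹ * z = d⁻¹ * (d * bc * d⁻¹ * bc⁻¹ * z) := by group
        _ = d⁻¹ * (d * bc' * d⁻¹ * bc'⁻¹ * z') := this
        _ = bc' * d⁻¹ * bc'⁻¹ * z' := by group
    have hzb : z⁻¹ * bc' = bc' * z⁻¹ := hz.inv.2 _ hbc'.2.2.1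
    have hz'b : z' * bc' = bc' * z' := hz'.2 _ hbc'.2.2.1
    have hbb : bc⁻¹ * bc' = bc' * bc⁻¹ := hBc _ (B.inv_mem hbc.2.2.1) _ hbc'.2.2.1
    calc β * d⁻¹ * β⁻¹ = bc'⁻¹ * (bc * d⁻¹ * bc⁻¹ * z) * (z⁻¹ * bc') := by rw [hβ]; group
      _ = bc'⁻¹ * (bc' * d⁻¹ * bc'⁻¹ * z') * (z⁻¹ * bc') := by rw [h1]
      _ = d⁻¹ * bc'⁻¹ * z' * (z⁻¹ * bc') := by group
      _ = d⁻¹ * bc'⁻¹ * z' * (bc' * z⁻¹) := by rw [hzb]
      _ = d⁻¹ * bc'⁻¹ * (z' * bc') * z⁻¹ := by group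
      _ = d⁻¹ * bc'⁻¹ * (bc' * z') * z⁻¹ := by rw [hz'b]
      _ = d⁻¹ * (z' * z⁻¹) := by group
  have hζ : Cen A B (z' * z⁻¹) := hz'.mul hz.inv
  -- C = conjBy A β ≠ A
  have hCne : Cfsg.conjBy A β ≠ A := by
    intro h0
    exact hbne (RankOne.eq_one_of_normalizes (Cfsg.RankOnePair_symm hp) hβB h0)
  have hCmem : Cfsg.conjBy A β ∈ Cfsg.unipotentSubgroups A B :=
    ⟨β, le_sup_right (a := A) hβB, rfl⟩
  have hw : β * d⁻¹ * β⁻¹ ∈ Cfsg.conjBy A β := by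
    rw [mem_conjBy]; simpa [mul_assoc] using A.inv_mem hd
  have hwn : Cfsg.conjBy A (β * d⁻¹ * β⁻¹) = A := by
    rw [e3, ← conjBy_conjBy, RankOne.conjBy_eq_of_commute hζ.1, conjBy_of_mem (A.inv_mem hd)]
  have h5 := RankOne.eq_one_of_normalizes' hp hCmem (RankOne.left_mem A B) hCne hw hwn
  apply hd1
  have : d⁻¹ = β⁻¹ * (β * d⁻¹ * β⁻¹) * β := by group
  rw [h5] at this
  have h6 : d⁻¹ = 1 := by rw [this]; group
  simpa using h6

/-- Claim 1: if the diagonal subgroup centralizes `A` then `|A| ≤ 3`. -/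
theorem card_le_three_of_diag_central (hs : Cfsg.IsSpecialRankOnePair A B)
    (hab : Cfsg.HasAbelianUnipotents A B)
    (hcent : ∀ h ∈ Cfsg.rankOneDiagonal A B, ∀ x ∈ A, h * x = x * h) : ENat.card A ≤ 3 := by
  obtain ⟨d, hd, hd1⟩ := RankOne.exists_ne_one_left hs.1
  have hsub : (A : Set G) ⊆ insert 1 (insert d⁻¹ {x | x ∈ A ∧ x ≠ 1 ∧ x ≠ d⁻¹}) := by
    intro x hx
    by_cases h1 : x = 1
    · exact Or.inl h1
    by_cases h2 : x = d⁻¹
    · exact Or.inr (Or.inl h2)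
    · exact Or.inr (Or.inr ⟨hx, h1, h2⟩)
  have hS : ({x | x ∈ A ∧ x ≠ 1 ∧ x ≠ d⁻¹} : Set G).encard ≤ 1 := by
    rw [Set.encard_le_one_iff]
    rintro x y ⟨hx, hx1, hx2⟩ ⟨hy, hy1, hy2⟩
    refine eq_of_diag_central hs hab hcent hd hd1 hx hx1 hy hy1 ?_ ?_
    · intro h0; apply hx2; exact eq_inv_of_mul_eq_one_left h0
    · intro h0; apply hy2; exact eq_inv_of_mul_eq_one_left h0
  have h1 : ENat.card A = (A : Set G).encard := by
    rw [Set.encard, ENat.card_congr (Equiv.refl _)]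
    rfl
  rw [h1]
  calc (A : Set G).encard ≤ (insert 1 (insert d⁻¹ {x | x ∈ A ∧ x ≠ 1 ∧ x ≠ d⁻¹}) : Set G).encard :=
        Set.encard_le_encard hsub
    _ ≤ (insert d⁻¹ {x | x ∈ A ∧ x ≠ 1 ∧ x ≠ d⁻¹} : Set G).encard + 1 := Set.encard_insert_le _ _
    _ ≤ (({x | x ∈ A ∧ x ≠ 1 ∧ x ≠ d⁻¹} : Set G).encard + 1) + 1 := by
        gcongr; exact Set.encard_insert_le _ _
    _ ≤ (1 + 1) + 1 := by gcongr
    _ = 3 := by norm_num

/-- Theorem P. -/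
theorem card_le_three_or_comm_eq (hs : Cfsg.IsSpecialRankOnePair A B)
    (hab : Cfsg.HasAbelianUnipotents A B) :
    ENat.card A ≤ 3 ∨ ⁅A, Cfsg.rankOneDiagonal A B⁆ = A := by
  by_cases hcent : ∀ h ∈ Cfsg.rankOneDiagonal A B, ∀ x ∈ A, h * x = x * h
  · exact Or.inl (card_le_three_of_diag_central hs hab hcent)
  right
  push Not at hcent
  obtain ⟨h₀, hh₀, x₀, hx₀, hne₀⟩ := hcent
  refine le_antisymm commA_le ?_
  -- every element of A lies in [A,H] or is centralized by H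
  have hdich : ∀ a ∈ A, a ∈ ⁅A, Cfsg.rankOneDiagonal A B⁆ ∨
      ∀ h ∈ Cfsg.rankOneDiagonal A B, h * a = a * h := by
    intro a ha
    by_cases hc : ∀ h ∈ Cfsg.rankOneDiagonal A B, h * a = a * h
    · exact Or.inr hc
    · left
      push Not at hc
      obtain ⟨h, hh, hne⟩ := hc
      refine mem_commA_of_moved hs hab ha hh ?_
      intro h0; apply hne
      have := congrArg (fun x => x * h) h0
      simpa using this
  have hx₀c : x₀ ∈ ⁅A, Cfsg.rankOneDiagonal A B⁆ := by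
    rcases hdich x₀ hx₀ with h | h
    · exact h
    · exact absurd (h h₀ hh₀) hne₀
  intro a ha
  rcases hdich a ha with h | h
  · exact h
  · -- a centralized; then a * x₀ is moved
    have hax : a * x₀ ∈ ⁅A, Cfsg.rankOneDiagonal A B⁆ := by
      rcases hdich (a * x₀) (A.mul_mem ha hx₀) with h' | h'
      · exact h'
      · exfalso
        apply hne₀
        have h1 := h' h₀ hh₀
        have h2 := h h₀ hh₀
        have : a * (h₀ * x₀) = a * (x₀ * h₀) := by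
          calc a * (h₀ * x₀) = (a * h₀) * x₀ := by group
            _ = (h₀ * a) * x₀ := by rw [h2]
            _ = h₀ * (a * x₀) := by group
            _ = a * x₀ * h₀ := h1
            _ = a * (x₀ * h₀) := by group
        exact mul_left_cancel this
    have : a = (a * x₀) * x₀⁻¹ := by group
    rw [this]
    exact Subgroup.mul_mem _ hax (Subgroup.inv_mem _ hx₀c)

end RankOneP
end Cfsg.Agent.Helper25
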