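import Mathlib
import Cfsg.Prelude.Def_RootSubgroups
import Cfsg.Agent.Lib.Helper25.RankOne2

/-!
# Rank one groups acting on an abelian group with `A` quadratic (helper25)

Main fact: `C_V(A) ⊆ [V, a] + C_V(X)` for every non-identity `a ∈ A`.
-/

set_option autoImplicit false

namespace Cfsg.Agent.Helper25.RankOneQuad

open Cfsg Cfsg.Agent.Helper25

variable {X : Type*} [Group X] {A B : Subgroup X} {V : Type*} [AddCommGroup V]
  [DistribMulAction X V]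

theorem eq_of_smul_eq (hf : ∀ x : X, (∀ v : V, x • v = v) → x = 1) {x y : X}
    (h : ∀ v : V, x • v = y • v) : x = y := by
  have : y⁻¹ * x = 1 := by
    apply hf
    intro v
    rw [mul_smul, h v, ← mul_smul, inv_mul_cancel, one_smul]
  calc x = y * (y⁻¹ * x) := by group
    _ = y := by rw [this, mul_one]

theorem smul_nsmul' (x : X) (n : ℕ) (v : V) : x • (n • v) = n • (x • v) :=
  (DistribMulAction.toAddMonoidHom V x).map_nsmul n v

/-- Quadratic action: `a^n v = v + n (a v - v)`. -/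
theorem pow_smul_of_quad (hq : ∀ a ∈ A, ∀ a' ∈ A, ∀ v : V, a' • (a • v - v) = a • v - v) {a : X}
    (ha : a ∈ A) (n : ℕ) (v : V) : a ^ n • v = v + n • (a • v - v) := by
  induction n with
  | zero => simp
  | succ n ih =>
    rw [pow_succ', mul_smul, ih, smul_add, smul_nsmul', hq a ha a ha, succ_nsmul]
    abel

/-- The relation `b⁻¹ A b = a⁻¹ B a` writes every element of `B` as a conjugate of one of `A`. -/
theorem exists_conj_of_rel {a b : X} (hrel : conjBy A b⁻¹ = conjBy B a⁻¹) {b' : X} (hb' : b' ∈ B) :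
    ∃ a' ∈ A, b' = (a * b⁻¹) * a' * (a * b⁻¹)⁻¹ := by
  have h1 : a⁻¹ * b' * a ∈ conjBy B a⁻¹ := by
    rw [mem_conjBy]
    simpa [mul_assoc] using hb'
  rw [← hrel, mem_conjBy] at h1
  refine ⟨_, h1, ?_⟩
  group

theorem exists_conj_of_rel' {a b : X} (hrel : conjBy A b⁻¹ = conjBy B a⁻¹) {a' : X} (ha' : a' ∈ A) :
    (a * b⁻¹) * a' * (a * b⁻¹)⁻¹ ∈ B := by
  have h1 : b⁻¹ * a' * b ∈ conjBy A b⁻¹ := by
    rw [mem_conjBy]
    simpa [mul_assoc] using ha'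
  rw [hrel, mem_conjBy] at h1
  have : (a * b⁻¹) * a' * (a * b⁻¹)⁻¹ = a⁻¹⁻¹ * (b⁻¹ * a' * b) * a⁻¹ := by group
  rw [this]
  exact h1

section

variable (hq : ∀ a ∈ A, ∀ a' ∈ A, ∀ v : V, a' • (a • v - v) = a • v - v)
include hq

/-- `B` also acts quadratically. -/
theorem quad_right {a b : X} (hrel : conjBy A b⁻¹ = conjBy B a⁻¹) :
    ∀ b₁ ∈ B, ∀ b₂ ∈ B, ∀ v : V, b₂ • (b₁ • v - v) = b₁ • v - v := by
  intro b₁ hb₁ b₂ hb₂ v
  obtain ⟨a₁, ha₁, rfl⟩ := exists_conj_of_rel hrel hb₁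
  obtain ⟨a₂, ha₂, rfl⟩ := exists_conj_of_rel hrel hb₂
  have e1 : (a * b⁻¹ * a₁ * (a * b⁻¹)⁻¹) • v - v =
      (a * b⁻¹) • (a₁ • ((a * b⁻¹)⁻¹ • v) - (a * b⁻¹)⁻¹ • v) := by
    rw [smul_sub, mul_smul, mul_smul, smul_inv_smul]
  rw [e1, mul_smul, mul_smul, inv_smul_smul, hq a₁ ha₁ a₂ ha₂]

/-- The key lemma: a vector fixed by `A` is, modulo vectors fixed by `A` and `B`, of the form `a v - v`. -/
theorem fixed_decomp {a b : X} (ha : a ∈ A) (hb : b ∈ B) (hrel : conjBy A b⁻¹ = conjBy B a⁻¹) {u : V}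
    (hu : ∀ a' ∈ A, a' • u = u) :
    ∃ v' z : V, (∀ a' ∈ A, a' • z = z) ∧ (∀ b' ∈ B, b' • z = z) ∧ u = (a • v' - v') + z := by
  have hqB := quad_right hq hrel
  obtain ⟨w, hw⟩ : ∃ w, w = b⁻¹ • u - u := ⟨_, rfl⟩
  have hwB : ∀ b' ∈ B, b' • w = w := fun b' hb' => by
    rw [hw]
    exact hqB b⁻¹ (B.inv_mem hb) b' hb' u
  have hgu : ∀ b' ∈ B, b' • ((a * b⁻¹) • u) = (a * b⁻¹) • u := by
    intro b' hb'
    obtain ⟨a', ha', rfl⟩ := exists_conj_of_rel hrel hb'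
    rw [mul_smul, mul_smul, inv_smul_smul, hu a' ha']
  have e1 : (a * b⁻¹) • u = u + a • w := by
    rw [mul_smul, hw, smul_sub, hu a ha]
    abel
  obtain ⟨t, ht⟩ : ∃ t, t = a • w - w := ⟨_, rfl⟩
  have htA : ∀ a' ∈ A, a' • t = t := fun a' ha' => by
    rw [ht]
    exact hq a ha a' ha' w
  refine ⟨-w, u + t, fun a' ha' => ?_, fun b' hb' => ?_, ?_⟩
  · rw [smul_add, hu a' ha', htA a' ha']
  · have h1 := hgu b' hb'
    rw [e1] at h1
    have h2 : a • w = w + t := by rw [ht]; abel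
    rw [h2] at h1
    have h3 : u + t = (u + (w + t)) - w := by abel
    rw [h3, smul_sub, h1, hwB b' hb']
  · rw [smul_neg, ht]
    abel

end

end Cfsg.Agent.Helper25.RankOneQuad
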