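import Mathlib
import Cfsg.Prelude.Def_RootSubgroups
import Cfsg.Agent.Lib.Helper25.RankOneQuad

/-!
# Rank one groups acting with `A` quadratic: ring-theoretic computations (helper25)

We work in the endomorphism ring `AddMonoid.End N`.
-/

set_option autoImplicit false

namespace Cfsg.Agent.Helper25.RankOneQuad

open Cfsg Cfsg.Agent.Helper25

variable {X : Type*} [Group X] {A B : Subgroup X} {N : Type*} [AddCommGroup N]
  [DistribMulAction X N]

/-- The representation of `X` on `N` as a map into the endomorphism ring. -/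
noncomputable def rep (N : Type*) [AddCommGroup N] [DistribMulAction X N] (x : X) : AddMonoid.End N :=
  DistribMulAction.toAddMonoidEnd X N x

theorem rep_mul (x y : X) : rep N (x * y) = rep N x * rep N y := map_mul _ _ _

theorem rep_one : rep N (1 : X) = 1 := map_one _

theorem rep_apply (x : X) (n : N) : rep N x n = x • n := rfl

theorem rep_inv_mul (x : X) : rep N x⁻¹ * rep N x = 1 := by
  rw [← rep_mul, inv_mul_cancel, rep_one]

theorem rep_mul_inv (x : X) : rep N x * rep N x⁻¹ = 1 := by
  rw [← rep_mul, mul_inv_cancel, rep_one]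

/-- `T` has image in the fixed points of `S`. -/
def Fix (S : Subgroup X) (T : AddMonoid.End N) : Prop := ∀ s ∈ S, rep N s * T = T

theorem Fix.mul_right {S : Subgroup X} {T : AddMonoid.End N} (h : Fix S T) (U : AddMonoid.End N) :
    Fix S (T * U) := fun s hs => by rw [← mul_assoc, h s hs]

theorem Fix.add {S : Subgroup X} {T T' : AddMonoid.End N} (h : Fix S T) (h' : Fix S T') :
    Fix S (T + T') := fun s hs => by rw [mul_add, h s hs, h' s hs]

theorem Fix.sub {S : Subgroup X} {T T' : AddMonoid.End N} (h : Fix S T) (h' : Fix S T') :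
    Fix S (T - T') := fun s hs => by rw [mul_sub, h s hs, h' s hs]

theorem Fix.neg {S : Subgroup X} {T : AddMonoid.End N} (h : Fix S T) :
    Fix S (-T) := fun s hs => by rw [mul_neg, h s hs]

theorem Fix.sub_one_mul {S : Subgroup X} {T : AddMonoid.End N} (h : Fix S T) {s : X} (hs : s ∈ S) :
    (rep N s - 1) * T = 0 := by rw [sub_mul, h s hs, one_mul, sub_self]

/-- Fixed by `A` and `B` implies fixed by everything. -/
theorem Fix.top (htop : A ⊔ B = ⊤) {T : AddMonoid.End N} (hA : Fix A T) (hB : Fix B T) (x : X) :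
    rep N x * T = T := by
  have hx : x ∈ A ⊔ B := by rw [htop]; trivial
  rw [Subgroup.sup_eq_closure] at hx
  induction hx using Subgroup.closure_induction with
  | mem y hy =>
    rcases hy with hy | hy
    · exact hA y hy
    · exact hB y hy
  | one => rw [rep_one, one_mul]
  | mul y y' _ _ hy hy' => rw [rep_mul, mul_assoc, hy', hy]
  | inv y _ hy =>
    calc rep N y⁻¹ * T = rep N y⁻¹ * (rep N y * T) := by rw [hy]
      _ = T := by rw [← mul_assoc, rep_inv_mul, one_mul]

section

variable (hq : ∀ a ∈ A, ∀ a' ∈ A, ∀ n : N, a' • (a • n - n) = a • n - n)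
include hq

theorem fix_sub_one {a : X} (ha : a ∈ A) : Fix A (rep N a - 1) := by
  intro a' ha'
  ext n
  exact hq a ha a' ha' n

theorem sub_one_mul_sub_one {a a' : X} (ha : a ∈ A) (ha' : a' ∈ A) :
    (rep N a' - 1) * (rep N a - 1) = 0 :=
  (fix_sub_one hq ha).sub_one_mul ha'

end

/-- Transport of fixed points along the element `a b⁻¹` conjugating `A` to `B`. -/
theorem Fix.transport {a b : X} (hrel : conjBy A b⁻¹ = conjBy B a⁻¹) {T : AddMonoid.End N}
    (h : Fix A T) : Fix B (rep N (a * b⁻¹) * T) := by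
  intro b' hb'
  obtain ⟨a', ha', rfl⟩ := exists_conj_of_rel hrel hb'
  rw [← mul_assoc, ← rep_mul]
  have : a * b⁻¹ * a' * (a * b⁻¹)⁻¹ * (a * b⁻¹) = (a * b⁻¹) * a' := by group
  rw [this, rep_mul, mul_assoc, h a' ha']

theorem Fix.transport' {a b : X} (hrel : conjBy A b⁻¹ = conjBy B a⁻¹) {T : AddMonoid.End N}
    (h : Fix B T) : Fix A (rep N (b * a⁻¹) * T) := by
  intro a' ha'
  have hb' := exists_conj_of_rel' hrel ha'
  rw [← mul_assoc, ← rep_mul]
  have : a' * (b * a⁻¹) = (b * a⁻¹) * (a * b⁻¹ * a' * (a * b⁻¹)⁻¹) := by group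
  rw [this, rep_mul, mul_assoc, h _ hb']

end Cfsg.Agent.Helper25.RankOneQuad
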