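import Mathlib
import Cfsg.Prelude.Def_RootSubgroups
import Cfsg.Agent.Lib.Helper25.RankOneQuad2

/-!
# Rank one groups acting with `A` quadratic: the defect operator (helper25)
-/

set_option autoImplicit false

namespace Cfsg.Agent.Helper25.RankOneQuad

open Cfsg Cfsg.Agent.Helper25

variable {X : Type*} [Group X] {A B : Subgroup X} {N : Type*} [AddCommGroup N]
  [DistribMulAction X N]

theorem rep_inv_of_sq_zero {x : X} {S : AddMonoid.End N} (hS : rep N x = 1 + S) (h2 : S * S = 0) :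
    rep N x⁻¹ = 1 - S := by
  have h1 : rep N x * (1 - S) = 1 := by
    rw [hS]
    have : (1 + S) * (1 - S) = 1 - S * S := by noncomm_ring
    rw [this, h2, sub_zero]
  calc rep N x⁻¹ = rep N x⁻¹ * (rep N x * (1 - S)) := by rw [h1, mul_one]
    _ = 1 - S := by rw [← mul_assoc, rep_inv_mul, one_mul]

section

variable (htop : A ⊔ B = ⊤)
  (hq : ∀ a ∈ A, ∀ a' ∈ A, ∀ n : N, a' • (a • n - n) = a • n - n)
include htop hq

/-- For `T` with image in `C_N(A)`, the image of `(1 + αβ) T` is in `C_N(X)`. -/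
theorem fixX_of_fixA {a b : X} (ha : a ∈ A) (hb : b ∈ B) (hrel : conjBy A b⁻¹ = conjBy B a⁻¹)
    {T : AddMonoid.End N} (hT : Fix A T) (x : X) :
    rep N x * ((1 + (rep N a - 1) * (rep N b⁻¹ - 1)) * T) =
      (1 + (rep N a - 1) * (rep N b⁻¹ - 1)) * T := by
  have hqB := quad_right hq hrel
  obtain ⟨α, hα⟩ : ∃ α, α = rep N a - 1 := ⟨_, rfl⟩
  obtain ⟨β, hβ⟩ : ∃ β, β = rep N b⁻¹ - 1 := ⟨_, rfl⟩
  rw [← hα, ← hβ]
  have hαT : α * T = 0 := by rw [hα]; exact hT.sub_one_mul ha
  have hfA : Fix A α := by rw [hα]; exact fix_sub_one hq ha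
  have hfB : Fix B β := by rw [hβ]; exact fix_sub_one hqB (B.inv_mem hb)
  have h1 : Fix B (rep N (a * b⁻¹) * T) := hT.transport hrel
  have e1 : rep N (a * b⁻¹) * T = (1 + α * β) * T + β * T := by
    have ea : rep N a = 1 + α := by rw [hα]; abel
    have eb : rep N b⁻¹ = 1 + β := by rw [hβ]; abel
    rw [rep_mul, ea, eb]
    have : (1 + α) * (1 + β) * T = (1 + α * β) * T + β * T + α * T := by noncomm_ring
    rw [this, hαT, add_zero]
  have h2 : Fix B ((1 + α * β) * T) := by
    have : (1 + α * β) * T = rep N (a * b⁻¹) * T - β * T := by rw [e1]; abel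
    rw [this]
    exact h1.sub (hfB.mul_right T)
  have h3 : Fix A ((1 + α * β) * T) := by
    have : (1 + α * β) * T = T + α * (β * T) := by noncomm_ring
    rw [this]
    exact hT.add (hfA.mul_right _)
  exact Fix.top htop h3 h2 x

/-- For `T` with image in `C_N(B)`, the image of `(1 + βα) T` is in `C_N(X)`. -/
theorem fixX_of_fixB {a b : X} (ha : a ∈ A) (hb : b ∈ B) (hrel : conjBy A b⁻¹ = conjBy B a⁻¹)
    {T : AddMonoid.End N} (hT : Fix B T) (x : X) :
    rep N x * ((1 + (rep N b⁻¹ - 1) * (rep N a - 1)) * T) =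
      (1 + (rep N b⁻¹ - 1) * (rep N a - 1)) * T := by
  have hqB := quad_right hq hrel
  obtain ⟨α, hα⟩ : ∃ α, α = rep N a - 1 := ⟨_, rfl⟩
  obtain ⟨β, hβ⟩ : ∃ β, β = rep N b⁻¹ - 1 := ⟨_, rfl⟩
  rw [← hα, ← hβ]
  have hβT : β * T = 0 := by rw [hβ]; exact hT.sub_one_mul (B.inv_mem hb)
  have hfA : Fix A α := by rw [hα]; exact fix_sub_one hq ha
  have hfB : Fix B β := by rw [hβ]; exact fix_sub_one hqB (B.inv_mem hb)
  have hαα : α * α = 0 := by rw [hα]; exact sub_one_mul_sub_one hq ha ha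
  have hββ : β * β = 0 := by rw [hβ]; exact sub_one_mul_sub_one hqB (B.inv_mem hb) (B.inv_mem hb)
  have h1 : Fix A (rep N (b * a⁻¹) * T) := hT.transport' hrel
  have e1 : rep N (b * a⁻¹) * T = (1 + β * α) * T - α * T := by
    have ea : rep N a = 1 + α := by rw [hα]; abel
    have eb : rep N b⁻¹ = 1 + β := by rw [hβ]; abel
    have ea' : rep N a⁻¹ = 1 - α := rep_inv_of_sq_zero ea hαα
    have eb' : rep N b = 1 - β := by
      have := rep_inv_of_sq_zero eb hββ
      rwa [inv_inv] at this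
    rw [rep_mul, ea', eb']
    have : (1 - β) * (1 - α) * T = (1 + β * α) * T - α * T - β * T := by noncomm_ring
    rw [this, hβT, sub_zero]
  have h2 : Fix A ((1 + β * α) * T) := by
    have : (1 + β * α) * T = rep N (b * a⁻¹) * T + α * T := by rw [e1]; abel
    rw [this]
    exact h1.add (hfA.mul_right T)
  have h3 : Fix B ((1 + β * α) * T) := by
    have : (1 + β * α) * T = T + β * (α * T) := by noncomm_ring
    rw [this]
    exact hT.add (hfB.mul_right _)
  exact Fix.top htop h2 h3 x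

/-- The defect operator: `b⁻¹ a b` and `a⁻¹ b⁻¹ a` differ on `N` by an operator `E` which is
invariant under left and right multiplication by `X`. -/
theorem exists_defect {a b : X} (ha : a ∈ A) (hb : b ∈ B) (hrel : conjBy A b⁻¹ = conjBy B a⁻¹) :
    ∃ E : AddMonoid.End N, (∀ x : X, rep N x * E = E) ∧ (∀ x : X, E * rep N x = E) ∧
      rep N (b⁻¹ * a * b) = rep N (a⁻¹ * b⁻¹ * a) + E := by
  have hqB := quad_right hq hrel
  obtain ⟨α, hα⟩ : ∃ α, α = rep N a - 1 := ⟨_, rfl⟩
  obtain ⟨β, hβ⟩ : ∃ β, β = rep N b⁻¹ - 1 := ⟨_, rfl⟩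
  have hfA : Fix A α := by rw [hα]; exact fix_sub_one hq ha
  have hfB : Fix B β := by rw [hβ]; exact fix_sub_one hqB (B.inv_mem hb)
  have hαα : α * α = 0 := by rw [hα]; exact sub_one_mul_sub_one hq ha ha
  have hββ : β * β = 0 := by rw [hβ]; exact sub_one_mul_sub_one hqB (B.inv_mem hb) (B.inv_mem hb)
  have ea : rep N a = 1 + α := by rw [hα]; abel
  have eb : rep N b⁻¹ = 1 + β := by rw [hβ]; abel
  have F1 : ∀ {T : AddMonoid.End N}, Fix A T → ∀ x : X,
      rep N x * ((1 + α * β) * T) = (1 + α * β) * T := by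
    intro T hT x
    rw [hα, hβ]
    exact fixX_of_fixA htop hq ha hb hrel hT x
  have F2 : ∀ {T : AddMonoid.End N}, Fix B T → ∀ x : X,
      rep N x * ((1 + β * α) * T) = (1 + β * α) * T := by
    intro T hT x
    rw [hα, hβ]
    exact fixX_of_fixB htop hq ha hb hrel hT x
  obtain ⟨E, hE⟩ : ∃ E, E = (1 + α * β) * α - (1 + β * α) * β := ⟨_, rfl⟩
  -- E is fixed by X on the left
  have hEl : ∀ x : X, rep N x * E = E := by
    intro x
    rw [hE, mul_sub, F1 hfA x, F2 hfB x]
  -- E kills operators with image in C_N(A) or C_N(B)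
  have hEA : ∀ {T : AddMonoid.End N}, Fix A T → E * T = 0 := by
    intro T hT
    have hαT : α * T = 0 := by rw [hα]; exact hT.sub_one_mul ha
    have h1 : β * ((1 + α * β) * T) = 0 := by
      have h := F1 hT b⁻¹
      rw [eb] at h
      have : β * ((1 + α * β) * T) = (1 + β) * ((1 + α * β) * T) - (1 + α * β) * T := by noncomm_ring
      rw [this, h, sub_self]
    have : E * T = (1 + α * β) * (α * T) - β * ((1 + α * β) * T) := by rw [hE]; noncomm_ring
    rw [this, hαT, h1, mul_zero, sub_zero]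
  have hEB : ∀ {T : AddMonoid.End N}, Fix B T → E * T = 0 := by
    intro T hT
    have hβT : β * T = 0 := by rw [hβ]; exact hT.sub_one_mul (B.inv_mem hb)
    have h1 : α * ((1 + β * α) * T) = 0 := by
      have h := F2 hT a
      rw [ea] at h
      have : α * ((1 + β * α) * T) = (1 + α) * ((1 + β * α) * T) - (1 + β * α) * T := by noncomm_ring
      rw [this, h, sub_self]
    have : E * T = α * ((1 + β * α) * T) - (1 + β * α) * (β * T) := by rw [hE]; noncomm_ring
    rw [this, hβT, h1, mul_zero, sub_zero]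
  have hEr : ∀ x : X, E * rep N x = E := by
    intro x
    have hx : x ∈ A ⊔ B := by rw [htop]; trivial
    rw [Subgroup.sup_eq_closure] at hx
    induction hx using Subgroup.closure_induction with
    | mem y hy =>
      rcases hy with hy | hy
      · have := hEA (fix_sub_one hq hy)
        rw [mul_sub, mul_one, sub_eq_zero] at this
        exact this
      · have := hEB (fix_sub_one hqB hy)
        rw [mul_sub, mul_one, sub_eq_zero] at this
        exact this
    | one => rw [rep_one, mul_one]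
    | mul y y' _ _ hy hy' => rw [rep_mul, ← mul_assoc, hy, hy']
    | inv y _ hy =>
      calc E * rep N y⁻¹ = (E * rep N y) * rep N y⁻¹ := by rw [hy]
        _ = E := by rw [mul_assoc, rep_mul_inv, mul_one]
  refine ⟨E, hEl, hEr, ?_⟩
  -- the computation
  have ea' : rep N a⁻¹ = 1 - α := rep_inv_of_sq_zero ea hαα
  have hw : rep N a * rep N b⁻¹ * rep N a = rep N b⁻¹ * rep N a * rep N b⁻¹ + E := by
    rw [ea, eb, hE]
    have : (1 + α) * (1 + β) * (1 + α) = (1 + β) * (1 + α) * (1 + β) +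
        ((1 + α * β) * α - (1 + β * α) * β) + α * α - β * β := by
      noncomm_ring
    rw [this, hαα, hββ, add_zero, sub_zero]
  have e1 : b⁻¹ * a * b = a⁻¹ * (a * b⁻¹ * a) * b := by group
  have e2 : a⁻¹ * b⁻¹ * a = a⁻¹ * (b⁻¹ * a * b⁻¹) * b := by group
  have e3 : rep N (a⁻¹ * (a * b⁻¹ * a) * b) = rep N a⁻¹ * (rep N a * rep N b⁻¹ * rep N a) * rep N b := by
    simp only [rep_mul]
  have e4 : rep N (a⁻¹ * (b⁻¹ * a * b⁻¹) * b) =
      rep N a⁻¹ * (rep N b⁻¹ * rep N a * rep N b⁻¹) * rep N b := by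
    simp only [rep_mul]
  rw [e1, e2, e3, e4, hw, mul_add, add_mul, hEl, hEr]

end

end Cfsg.Agent.Helper25.RankOneQuad
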