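import Mathlib
import Cfsg.Prelude.Def_RootSubgroups
import Cfsg.Agent.Lib.Helper25.RankOne

/-!
# Transfer of rank one pairs between a group and a subgroup containing them (helper25)
-/

set_option autoImplicit false

namespace Cfsg.Agent.Helper25
namespace RankOneSub

open Cfsg

variable {G : Type*} [Group G] {H P Q : Subgroup G}

theorem conjBy_subgroupOf (P : Subgroup G) (x : ↥H) :
    Cfsg.conjBy (P.subgroupOf H) x = (Cfsg.conjBy P (x : G)).subgroupOf H := by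
  ext y
  rw [mem_conjBy, Subgroup.mem_subgroupOf, Subgroup.mem_subgroupOf, mem_conjBy]
  simp

theorem subgroupOf_injective_of_le (hP : P ≤ H) (hQ : Q ≤ H)
    (h : P.subgroupOf H = Q.subgroupOf H) : P = Q := by
  rw [Subgroup.subgroupOf_inj] at h
  rwa [inf_eq_left.mpr hP, inf_eq_left.mpr hQ] at h

theorem rankOneCondition_subgroupOf (hQ : Q ≤ H) (hc : Cfsg.RankOneCondition P Q) :
    Cfsg.RankOneCondition (P.subgroupOf H) (Q.subgroupOf H) := by
  intro a ha ha1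
  rw [Subgroup.mem_subgroupOf] at ha
  have ha1' : (a : G) ≠ 1 := fun h => ha1 (Subtype.ext h)
  obtain ⟨b, hb, hb1, hrel⟩ := hc _ ha ha1'
  refine ⟨⟨b, hQ hb⟩, Subgroup.mem_subgroupOf.mpr hb, fun h => hb1 (congrArg Subtype.val h), ?_⟩
  rw [conjBy_subgroupOf, conjBy_subgroupOf]
  have e1 : ((⟨b, hQ hb⟩ : ↥H)⁻¹ : ↥H) = ⟨b⁻¹, H.inv_mem (hQ hb)⟩ := rfl
  simp only [Subgroup.coe_inv]
  rw [hrel]

theorem rankOnePair_subgroupOf (hp : Cfsg.IsRankOnePair P Q) (hP : P ≤ H) (hQ : Q ≤ H) :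
    Cfsg.IsRankOnePair (P.subgroupOf H) (Q.subgroupOf H) := by
  refine ⟨fun h => hp.ne (subgroupOf_injective_of_le hP hQ h), ?_, ?_,
    rankOneCondition_subgroupOf hQ hp.cond_left, rankOneCondition_subgroupOf hP hp.cond_right⟩
  · haveI := hp.nilpotent_left
    exact (Group.isNilpotent_congr (Subgroup.subgroupOfEquivOfLe hP)).2 hp.nilpotent_left
  · haveI := hp.nilpotent_right
    exact (Group.isNilpotent_congr (Subgroup.subgroupOfEquivOfLe hQ)).2 hp.nilpotent_right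

theorem rankOneGroup_subgroupOf (hp : Cfsg.IsRankOnePair P Q) :
    Cfsg.IsRankOneGroup ↥(P ⊔ Q) (P.subgroupOf (P ⊔ Q)) (Q.subgroupOf (P ⊔ Q)) := by
  refine ⟨?_, rankOnePair_subgroupOf hp le_sup_left le_sup_right⟩
  rw [← Subgroup.subgroupOf_sup le_sup_left le_sup_right, Subgroup.subgroupOf_self]

theorem special_of_subgroupOf (hp : Cfsg.IsRankOnePair P Q) (hP : P ≤ H) (hQ : Q ≤ H)
    (hs : Cfsg.IsSpecialRankOnePair (P.subgroupOf H) (Q.subgroupOf H)) :
    Cfsg.IsSpecialRankOnePair P Q := by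
  refine ⟨hp, fun a ha ha1 b hb hb1 hrel => ?_⟩
  have h := hs.2 ⟨a, hP ha⟩ (Subgroup.mem_subgroupOf.mpr ha) (fun h => ha1 (congrArg Subtype.val h))
    ⟨b, hQ hb⟩ (Subgroup.mem_subgroupOf.mpr hb) (fun h => hb1 (congrArg Subtype.val h)) (by
      rw [conjBy_subgroupOf, conjBy_subgroupOf]
      simp only [Subgroup.coe_inv]
      rw [hrel])
  exact congrArg Subtype.val h

theorem abelian_subgroupOf (hPc : IsMulCommutative P) : IsMulCommutative ↥(P.subgroupOf H) := by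
  refine ⟨⟨fun x y => ?_⟩⟩
  have hx := Subgroup.mem_subgroupOf.mp x.2
  have hy := Subgroup.mem_subgroupOf.mp y.2
  have := hPc.is_comm.comm ⟨_, hx⟩ ⟨_, hy⟩
  apply Subtype.ext
  apply Subtype.ext
  have h2 : ((x : ↥H) : G) * ((y : ↥H) : G) = ((y : ↥H) : G) * ((x : ↥H) : G) :=
    congrArg Subtype.val this
  exact h2

end RankOneSub
end Cfsg.Agent.Helper25
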