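import Mathlib
import Cfsg.Prelude.Def_RootSubgroups
import Cfsg.Agent.Lib.Helper25.RankOneSub
import Cfsg.Agent.S5019

/-!
# Special rank one pairs from a quadratic conjugation action on an abelian subgroup (helper25)
-/

set_option autoImplicit false

namespace Cfsg.Agent.Helper25
namespace RankOneSub

open Cfsg

variable {G : Type*} [Group G] {A B N : Subgroup G}

theorem special_of_quadratic_subgroup (hp : Cfsg.IsRankOnePair A B) (hAc : IsMulCommutative A)
    (hBc : IsMulCommutative B)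
    (hnorm : ∀ x ∈ A ⊔ B, ∀ n ∈ N, x * n * x⁻¹ ∈ N)
    (hcomm : ∀ n ∈ N, ∀ n' ∈ N, n * n' = n' * n)
    (hq : ∀ a ∈ A, ∀ a' ∈ A, ∀ n ∈ N, a' * (a * n * a⁻¹ * n⁻¹) * a'⁻¹ = a * n * a⁻¹ * n⁻¹)
    (hX : ∃ x ∈ A ⊔ B, ∃ y ∈ A ⊔ B, ∃ n ∈ N,
      y * (x * n * x⁻¹ * n⁻¹) * y⁻¹ ≠ x * n * x⁻¹ * n⁻¹) :
    Cfsg.IsSpecialRankOnePair A B := by
  letI instC : CommGroup ↥N :=
    { (inferInstance : Group ↥N) with
      mul_comm := fun x y => Subtype.ext (hcomm x.1 x.2 y.1 y.2) }
  letI instA : DistribMulAction ↥(A ⊔ B) (Additive ↥N) :=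
    { smul := fun x n => Additive.ofMul
        ⟨(x : G) * ((Additive.toMul n : ↥N) : G) * (x : G)⁻¹, hnorm x.1 x.2 _ (Additive.toMul n).2⟩
      one_smul := fun n => by
        apply Additive.toMul.injective
        apply Subtype.ext
        show (1 : G) * ((Additive.toMul n : ↥N) : G) * (1 : G)⁻¹ = _
        simp
      mul_smul := fun x y n => by
        apply Additive.toMul.injective
        apply Subtype.ext
        show ((x : G) * (y : G)) * ((Additive.toMul n : ↥N) : G) * ((x : G) * (y : G))⁻¹ =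
          (x : G) * ((y : G) * ((Additive.toMul n : ↥N) : G) * (y : G)⁻¹) * (x : G)⁻¹
        group
      smul_zero := fun x => by
        apply Additive.toMul.injective
        apply Subtype.ext
        show (x : G) * (1 : G) * (x : G)⁻¹ = 1
        simp
      smul_add := fun x n n' => by
        apply Additive.toMul.injective
        apply Subtype.ext
        show (x : G) * (((Additive.toMul n : ↥N) : G) * ((Additive.toMul n' : ↥N) : G)) * (x : G)⁻¹ =
          ((x : G) * ((Additive.toMul n : ↥N) : G) * (x : G)⁻¹) *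
            ((x : G) * ((Additive.toMul n' : ↥N) : G) * (x : G)⁻¹)
        group }
  have hsmul : ∀ (x : ↥(A ⊔ B)) (n : Additive ↥N),
      ((Additive.toMul (x • n) : ↥N) : G) = (x : G) * ((Additive.toMul n : ↥N) : G) * (x : G)⁻¹ :=
    fun x n => rfl
  have hsub : ∀ (n n' : Additive ↥N),
      ((Additive.toMul (n - n') : ↥N) : G) =
        ((Additive.toMul n : ↥N) : G) * ((Additive.toMul n' : ↥N) : G)⁻¹ := by
    intro n n'
    rw [toMul_sub, Subgroup.coe_div, div_eq_mul_inv]
  have hcomm' : ∀ (x y : ↥(A ⊔ B)) (n : Additive ↥N),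
      ((Additive.toMul (y • (x • n - n)) : ↥N) : G) =
        (y : G) * ((x : G) * ((Additive.toMul n : ↥N) : G) * (x : G)⁻¹ *
          ((Additive.toMul n : ↥N) : G)⁻¹) * (y : G)⁻¹ := by
    intro x y n
    rw [hsmul, hsub, hsmul]
  have hcomm'' : ∀ (x : ↥(A ⊔ B)) (n : Additive ↥N),
      ((Additive.toMul (x • n - n) : ↥N) : G) =
        (x : G) * ((Additive.toMul n : ↥N) : G) * (x : G)⁻¹ * ((Additive.toMul n : ↥N) : G)⁻¹ := by
    intro x n
    rw [hsub, hsmul]
  have hgrp := rankOneGroup_subgroupOf hp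
  have hab : Cfsg.HasAbelianUnipotents (A.subgroupOf (A ⊔ B)) (B.subgroupOf (A ⊔ B)) :=
    ⟨abelian_subgroupOf hAc, abelian_subgroupOf hBc⟩
  have hs := Cfsg.Agent.S5019.result (N := Additive ↥N) hgrp hab (by
    intro a ha a' ha' n
    apply Additive.toMul.injective
    apply Subtype.ext
    rw [hcomm', hcomm'']
    exact hq _ (Subgroup.mem_subgroupOf.mp ha) _ (Subgroup.mem_subgroupOf.mp ha') _
      (Additive.toMul n).2) (by
    obtain ⟨x, hx, y, hy, n, hn, hne⟩ := hX
    refine ⟨⟨x, hx⟩, ⟨y, hy⟩, Additive.ofMul ⟨n, hn⟩, ?_⟩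
    intro h
    apply hne
    have h2 := congrArg (fun m : Additive ↥N => ((Additive.toMul m : ↥N) : G)) h
    rw [hcomm', hcomm''] at h2
    exact h2)
  exact special_of_subgroupOf hp le_sup_left le_sup_right hs

end RankOneSub
end Cfsg.Agent.Helper25
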