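import Mathlib
import Cfsg.Prelude.Def_RootSubgroups
import Cfsg.Agent.Lib.Helper25.RootComm2
import Cfsg.Agent.Lib.Helper25.RankOne4

/-!
# The configuration `C = ⁅A, B⁆ ∈ S`, `⁅D, C⁆ = A` (helper25)

`X = ⟨B, D⟩` is a rank one group acting on `N = A C`.
-/

set_option autoImplicit false

namespace Cfsg.Agent.Helper25
namespace RootQuad

open scoped commutatorElement
open Cfsg

variable {G : Type*} [Group G] {S : Set (Subgroup G)} {A B D : Subgroup G}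

section

variable (hS : Cfsg.IsRootSubgroupSet S) (hA : A ∈ S) (hB : B ∈ S) (hC : ⁅A, B⁆ ∈ S) (hD : D ∈ S)
  (hDC : ⁅D, ⁅A, B⁆⁆ = A)
include hS hA hB hC hD hDC

theorem caseAB : Cfsg.RootCommutatorCase S A B := RootComm.commCase_of_comm_mem hS hA hB hC

theorem caseDC : Cfsg.RootCommutatorCase S D ⁅A, B⁆ :=
  RootComm.commCase_of_comm_mem hS hD hC (by rw [hDC]; exact hA)

theorem comm_CA {c a : G} (hc : c ∈ ⁅A, B⁆) (ha : a ∈ A) : c * a = a * c :=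
  RootComm.central (caseAB hS hA hB hC hD hDC) hc (le_sup_left (a := A) ha)

theorem comm_CB {c b : G} (hc : c ∈ ⁅A, B⁆) (hb : b ∈ B) : c * b = b * c :=
  RootComm.central (caseAB hS hA hB hC hD hDC) hc (le_sup_right (a := A) hb)

theorem comm_AD {a d : G} (ha : a ∈ A) (hd : d ∈ D) : a * d = d * a := by
  have h2 := caseDC hS hA hB hC hD hDC
  have ha' : a ∈ ⁅D, ⁅A, B⁆⁆ := by rw [hDC]; exact ha
  exact RootComm.central h2 ha' (le_sup_left (a := D) hd)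

/-- `c ↦ ⁅d, c⁆` is onto `A`. -/
theorem exists_comm_eq_D {d : G} (hd : d ∈ D) (hd1 : d ≠ 1) {a : G} (ha : a ∈ A) :
    ∃ c ∈ ⁅A, B⁆, ⁅d, c⁆ = a := by
  have h2 := caseDC hS hA hB hC hD hDC
  have ha' : a ∈ ⁅D, ⁅A, B⁆⁆ := by rw [hDC]; exact ha
  exact RootComm.exists_comm_eq h2 hd hd1 ha'

/-- `a ↦ ⁅b, a⁆` is onto `C`. -/
theorem exists_comm_eq_B {b : G} (hb : b ∈ B) (hb1 : b ≠ 1) {c : G} (hc : c ∈ ⁅A, B⁆) :
    ∃ a ∈ A, ⁅b, a⁆ = c := by
  have h1 := caseAB hS hA hB hC hD hDC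
  obtain ⟨a, ha, hE⟩ := RootComm.exists_comm_eq_left h1 hb hb1 (Subgroup.inv_mem _ hc)
  refine ⟨a, ha, ?_⟩
  rw [← commutatorElement_inv, hE, inv_inv]

theorem not_comm_bot : ⁅B, D⁆ ≠ ⊥ := by
  intro hbot
  have h1 := caseAB hS hA hB hC hD hDC
  have h2 := caseDC hS hA hB hC hD hDC
  obtain ⟨d, hd, hd1⟩ := (D.bot_or_exists_ne_one).resolve_left (hS.ne_bot D hD)
  obtain ⟨a, ha, ha1⟩ := (A.bot_or_exists_ne_one).resolve_left (hS.ne_bot A hA)
  -- d commutes with all of C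
  have hdc : ∀ c ∈ ⁅A, B⁆, d * c * d⁻¹ * c⁻¹ = 1 := by
    intro c hc
    obtain ⟨b, hb, rfl⟩ := RootComm.exists_comm_eq h1 ha ha1 hc
    have hbd : b * d = d * b := RankOne.commute_of_commutator_eq_bot hbot hb hd
    have had : a * d = d * a := comm_AD hS hA hB hC hD hDC ha hd
    have hcd : ⁅a, b⁆ * d = d * ⁅a, b⁆ := by
      rw [commutatorElement_def]
      have hbd' : b⁻¹ * d = d * b⁻¹ := by
        calc b⁻¹ * d = b⁻¹ * (d * b) * b⁻¹ := by group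
          _ = b⁻¹ * (b * d) * b⁻¹ := by rw [hbd]
          _ = d * b⁻¹ := by group
      have had' : a⁻¹ * d = d * a⁻¹ := by
        calc a⁻¹ * d = a⁻¹ * (d * a) * a⁻¹ := by group
          _ = a⁻¹ * (a * d) * a⁻¹ := by rw [had]
          _ = d * a⁻¹ := by group
      calc a * b * a⁻¹ * b⁻¹ * d = a * b * a⁻¹ * (b⁻¹ * d) := by group
        _ = a * b * (a⁻¹ * d) * b⁻¹ := by rw [hbd']; group
        _ = a * (b * d) * a⁻¹ * b⁻¹ := by rw [had']; group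
        _ = (a * d) * b * a⁻¹ * b⁻¹ := by rw [hbd]; group
        _ = d * (a * b * a⁻¹ * b⁻¹) := by rw [had]; group
    calc d * ⁅a, b⁆ * d⁻¹ * ⁅a, b⁆⁻¹ = (⁅a, b⁆ * d) * d⁻¹ * ⁅a, b⁆⁻¹ := by rw [hcd]
      _ = 1 := by group
  have hbot' : ⁅D, ⁅A, B⁆⁆ = ⊥ := by
    rw [← h2.2.2.1 d hd hd1, eq_bot_iff, Subgroup.closure_le]
    rintro _ ⟨c, hc, rfl⟩
    rw [SetLike.mem_coe, Subgroup.mem_bot]
    exact hdc c hc
  rw [hDC] at hbot'
  exact hS.ne_bot A hA hbot'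

theorem not_commCase : ¬ Cfsg.RootCommutatorCase S B D := by
  intro h3
  have h1 := caseAB hS hA hB hC hD hDC
  have h2 := caseDC hS hA hB hC hD hDC
  obtain ⟨d, hd, hd1⟩ := (D.bot_or_exists_ne_one).resolve_left (hS.ne_bot D hD)
  obtain ⟨b, hb, hb1⟩ := (B.bot_or_exists_ne_one).resolve_left (hS.ne_bot B hB)
  obtain ⟨e, he⟩ : ∃ e, e = ⁅b, d⁆ := ⟨_, rfl⟩
  have heE : e ∈ ⁅B, D⁆ := by rw [he]; exact Subgroup.commutator_mem_commutator hb hd
  have hed : e * d = d * e := RootComm.central h3 heE (le_sup_right (a := B) hd)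
  -- d commutes with all of C
  have hdc : ∀ c ∈ ⁅A, B⁆, d * c * d⁻¹ * c⁻¹ = 1 := by
    intro c₂ hc₂
    obtain ⟨a₁, ha₁, hE₁⟩ := exists_comm_eq_B hS hA hB hC hD hDC hb hb1 hc₂
    obtain ⟨c₁, hc₁, hE₂⟩ := exists_comm_eq_D hS hA hB hC hD hDC hd hd1 ha₁
    have hb1' : b⁻¹ ≠ 1 := by simpa using hb1
    obtain ⟨a, ha, hE₃⟩ := exists_comm_eq_B hS hA hB hC hD hDC (B.inv_mem hb) hb1' hc₁
    -- key identity: e a e⁻¹ = c₂ a₁ a
    have e1 : b⁻¹ * a * b = c₁ * a := by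
      rw [← hE₃, commutatorElement_def]; group
    have e1' : b * a * b⁻¹ = c₁⁻¹ * a := by
      have hcb : c₁ * b = b * c₁ := comm_CB hS hA hB hC hD hDC hc₁ hb
      have : a = b * (c₁ * a) * b⁻¹ := by rw [← e1]; group
      calc b * a * b⁻¹ = c₁⁻¹ * (c₁ * b) * a * b⁻¹ := by group
        _ = c₁⁻¹ * (b * c₁) * a * b⁻¹ := by rw [hcb]
        _ = c₁⁻¹ * (b * (c₁ * a) * b⁻¹) := by group
        _ = c₁⁻¹ * a := by rw [← this]
    have e2 : d * c₁ * d⁻¹ = a₁ * c₁ := by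
      rw [← hE₂, commutatorElement_def]; group
    have e3 : b * a₁ * b⁻¹ = c₂ * a₁ := by
      rw [← hE₁, commutatorElement_def]; group
    have had : d * a * d⁻¹ = a := by
      have := comm_AD hS hA hB hC hD hDC ha hd
      calc d * a * d⁻¹ = (a * d) * d⁻¹ := by rw [this]
        _ = a := by group
    have had' : d⁻¹ * a * d = a := by
      have := comm_AD hS hA hB hC hD hDC ha hd
      calc d⁻¹ * a * d = d⁻¹ * (a * d) := by group
        _ = a := by rw [this]; group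
    have hcb : b * c₁ * b⁻¹ = c₁ := by
      have := comm_CB hS hA hB hC hD hDC hc₁ hb
      calc b * c₁ * b⁻¹ = (c₁ * b) * b⁻¹ := by rw [this]
        _ = c₁ := by group
    have key : e * a * e⁻¹ = c₂ * a₁ * a := by
      calc e * a * e⁻¹ = b * (d * (b⁻¹ * (d⁻¹ * a * d) * b) * d⁻¹) * b⁻¹ := by
            rw [he, commutatorElement_def]; group
        _ = b * (d * (c₁ * a) * d⁻¹) * b⁻¹ := by rw [had', e1]
        _ = b * ((d * c₁ * d⁻¹) * (d * a * d⁻¹)) * b⁻¹ := by group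
        _ = b * ((a₁ * c₁) * a) * b⁻¹ := by rw [e2, had]
        _ = (b * a₁ * b⁻¹) * (b * c₁ * b⁻¹) * (b * a * b⁻¹) := by group
        _ = (c₂ * a₁) * c₁ * (c₁⁻¹ * a) := by rw [e3, hcb, e1']
        _ = c₂ * a₁ * a := by group
    -- d commutes with e a e⁻¹, a₁, a
    have hed' : d * e⁻¹ * d⁻¹ = e⁻¹ := by
      calc d * e⁻¹ * d⁻¹ = e⁻¹ * (e * d) * e⁻¹ * d⁻¹ := by group
        _ = e⁻¹ * (d * e) * e⁻¹ * d⁻¹ := by rw [hed]
        _ = e⁻¹ := by group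
    have hd1' : d * (e * a * e⁻¹) * d⁻¹ = e * a * e⁻¹ := by
      calc d * (e * a * e⁻¹) * d⁻¹ = (d * e) * a * e⁻¹ * d⁻¹ := by group
        _ = (e * d) * a * e⁻¹ * d⁻¹ := by rw [hed]
        _ = e * (d * a * d⁻¹) * (d * e⁻¹ * d⁻¹) := by group
        _ = e * a * (d * e⁻¹ * d⁻¹) := by rw [had]
        _ = e * a * e⁻¹ := by rw [hed']
    have had₁ : d * a₁ * d⁻¹ = a₁ := by
      have := comm_AD hS hA hB hC hD hDC ha₁ hd
      calc d * a₁ * d⁻¹ = (a₁ * d) * d⁻¹ := by rw [this]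
        _ = a₁ := by group
    rw [key] at hd1'
    have : d * c₂ * d⁻¹ = c₂ := by
      calc d * c₂ * d⁻¹ = (d * (c₂ * a₁ * a) * d⁻¹) * (d * a * d⁻¹)⁻¹ * (d * a₁ * d⁻¹)⁻¹ := by group
        _ = c₂ * a₁ * a * a⁻¹ * a₁⁻¹ := by rw [hd1', had, had₁]
        _ = c₂ := by group
    rw [this]; group
  have hbot' : ⁅D, ⁅A, B⁆⁆ = ⊥ := by
    rw [← h2.2.2.1 d hd hd1, eq_bot_iff, Subgroup.closure_le]
    rintro _ ⟨c, hc, rfl⟩
    rw [SetLike.mem_coe, Subgroup.mem_bot]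
    exact hdc c hc
  rw [hDC] at hbot'
  exact hS.ne_bot A hA hbot'

/-- `B` and `D` form a rank one pair. -/
theorem rankOnePair : Cfsg.IsRankOnePair B D := by
  rcases hS.pair B hB D hD with h | h | h
  · exact absurd h (not_comm_bot hS hA hB hC hD hDC)
  · exact h
  · exact absurd h (not_commCase hS hA hB hC hD hDC)

end

end RootQuad
end Cfsg.Agent.Helper25
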