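import Mathlib
import Cfsg.Prelude.Def_RootSubgroups
import Cfsg.Agent.Lib.Helper25.RootQuad

/-!
# The configuration `C = ⁅A, B⁆ ∈ S`, `⁅D, C⁆ = A`, part 2: fixed points and orbits (helper25)
-/

set_option autoImplicit false

namespace Cfsg.Agent.Helper25
namespace RootQuad

open scoped commutatorElement
open Cfsg

variable {G : Type*} [Group G] {S : Set (Subgroup G)} {A B D : Subgroup G}

/-- General transport of fixed points: if `g T g⁻¹ = g' T' g'⁻¹`, `F` is centralized by `T`, and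
`F'` contains all points of `N` centralized by `T'`, then `g F g⁻¹ ≤ g' F' g'⁻¹`. -/
theorem transport_fix {T T' F F' N : Subgroup G} {g g' : G}
    (hrel : Cfsg.conjBy T g = Cfsg.conjBy T' g')
    (hF : ∀ f ∈ F, ∀ t ∈ T, t * f = f * t)
    (hN : ∀ f ∈ F, g'⁻¹ * (g * f * g⁻¹) * g' ∈ N)
    (hF' : ∀ n ∈ N, (∀ t ∈ T', t * n = n * t) → n ∈ F') :
    Cfsg.conjBy F g ≤ Cfsg.conjBy F' g' := by
  intro y hy
  rw [mem_conjBy] at hy ⊢
  obtain ⟨f, hf⟩ : ∃ f, f = g⁻¹ * y * g := ⟨_, rfl⟩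
  rw [← hf] at hy
  have hyf : y = g * f * g⁻¹ := by rw [hf]; group
  apply hF'
  · rw [hyf]; exact hN f hy
  · intro t' ht'
    have h1 : g' * t' * g'⁻¹ ∈ Cfsg.conjBy T' g' := by
      rw [mem_conjBy]
      have : g'⁻¹ * (g' * t' * g'⁻¹) * g' = t' := by group
      rw [this]; exact ht'
    rw [← hrel, mem_conjBy] at h1
    have h2 := hF f hy _ h1
    -- g⁻¹ (g' t' g'⁻¹) g commutes with f
    rw [hyf]
    calc t' * (g'⁻¹ * (g * f * g⁻¹) * g')
        = g'⁻¹ * g * ((g⁻¹ * (g' * t' * g'⁻¹) * g) * f) * g⁻¹ * g' := by group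
      _ = g'⁻¹ * g * (f * (g⁻¹ * (g' * t' * g'⁻¹) * g)) * g⁻¹ * g' := by rw [h2]
      _ = g'⁻¹ * (g * f * g⁻¹) * g' * t' := by group

section

variable (hS : Cfsg.IsRootSubgroupSet S) (hA : A ∈ S) (hB : B ∈ S) (hC : ⁅A, B⁆ ∈ S) (hD : D ∈ S)
  (hDC : ⁅D, ⁅A, B⁆⁆ = A)
include hS hA hB hC hD hDC

theorem inf_AC : A ⊓ ⁅A, B⁆ = ⊥ := by
  have h1 := caseAB hS hA hB hC hD hDC
  rw [Subgroup.eq_bot_iff_forall]
  rintro x ⟨hxA, hxC⟩
  by_contra hx1
  apply hS.ne_bot _ hC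
  rw [← h1.2.2.1 x hxA hx1, eq_bot_iff, Subgroup.closure_le]
  rintro _ ⟨b, hb, rfl⟩
  rw [SetLike.mem_coe, Subgroup.mem_bot]
  have := comm_CB hS hA hB hC hD hDC hxC hb
  show x * b * x⁻¹ * b⁻¹ = 1
  rw [this]; group

theorem ne_AC : A ≠ ⁅A, B⁆ := by
  intro h
  have := inf_AC hS hA hB hC hD hDC
  rw [← h, inf_idem] at this
  exact hS.ne_bot A hA this

theorem eq_one_of_comm_BA {b a : G} (hb : b ∈ B) (hb1 : b ≠ 1) (ha : a ∈ A) (hab : b * a = a * b) :
    a = 1 :=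
  RootComm.eq_one_of_commute hS hB hD (rankOnePair hS hA hB hC hD hDC)
    (RootComm.symm (caseAB hS hA hB hC hD hDC)) hb hb1 ha hab

theorem eq_one_of_comm_DC {d c : G} (hd : d ∈ D) (hd1 : d ≠ 1) (hc : c ∈ ⁅A, B⁆)
    (hdc : d * c = c * d) : c = 1 :=
  RootComm.eq_one_of_commute hS hD hB (Cfsg.RankOnePair_symm (rankOnePair hS hA hB hC hD hDC))
    (caseDC hS hA hB hC hD hDC) hd hd1 hc hdc

theorem exists_mul {n : G} (hn : n ∈ A ⊔ ⁅A, B⁆) : ∃ a ∈ A, ∃ c ∈ ⁅A, B⁆, n = a * c :=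
  RootComm.exists_mul_of_mem_sup_comm (caseAB hS hA hB hC hD hDC) hn

/-- `X = ⟨B, D⟩` normalizes `N = A C`. -/
theorem conj_mem_N {x n : G} (hx : x ∈ B ⊔ D) (hn : n ∈ A ⊔ ⁅A, B⁆) :
    x * n * x⁻¹ ∈ A ⊔ ⁅A, B⁆ := by
  have h1 := caseAB hS hA hB hC hD hDC
  have h2 := caseDC hS hA hB hC hD hDC
  revert n
  refine sup_induction (Q := B) (R := D)
    (C := fun x => ∀ {n : G}, n ∈ A ⊔ ⁅A, B⁆ → x * n * x⁻¹ ∈ A ⊔ ⁅A, B⁆) ?_ ?_ ?_ hx
  · intro b hb n hn
    obtain ⟨a, ha, c, hc, rfl⟩ := exists_mul hS hA hB hC hD hDC hn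
    have e : b * (a * c) * b⁻¹ = (b * a * b⁻¹) * (b * c * b⁻¹) := by group
    rw [e]
    refine Subgroup.mul_mem _ ?_ ?_
    · apply RootComm.conjBy_le_sup h1 hb
      rw [mem_conjBy]
      have : b⁻¹ * (b * a * b⁻¹) * b = a := by group
      rw [this]; exact ha
    · have := comm_CB hS hA hB hC hD hDC hc hb
      have e2 : b * c * b⁻¹ = c := by rw [← this]; group
      rw [e2]; exact le_sup_right (a := A) hc
  · intro d hd n hn
    obtain ⟨a, ha, c, hc, rfl⟩ := exists_mul hS hA hB hC hD hDC hn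
    have e : d * (a * c) * d⁻¹ = (d * a * d⁻¹) * (d * c * d⁻¹) := by group
    rw [e]
    refine Subgroup.mul_mem _ ?_ ?_
    · have := comm_AD hS hA hB hC hD hDC ha hd
      have e2 : d * a * d⁻¹ = a := by rw [← this]; group
      rw [e2]; exact le_sup_left (a := A) ha
    · have hle := RootComm.conjBy_le_sup (RootComm.symm h2) hd
      have e3 : ⁅⁅A, B⁆, D⁆ = A := by rw [Subgroup.commutator_comm ⁅A, B⁆ D, hDC]
      rw [e3, sup_comm] at hle
      apply hle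
      rw [mem_conjBy]
      have : d⁻¹ * (d * c * d⁻¹) * d = c := by group
      rw [this]; exact hc
  · intro x y _ _ hx hy n hn
    have e : x * y * n * (x * y)⁻¹ = x * (y * n * y⁻¹) * x⁻¹ := by group
    rw [e]
    exact hx (hy hn)

/-- The points of `N` fixed by `D` are those of `A`. -/
theorem fix_D {n : G} (hn : n ∈ A ⊔ ⁅A, B⁆) (h : ∀ d ∈ D, d * n = n * d) : n ∈ A := by
  obtain ⟨a, ha, c, hc, rfl⟩ := exists_mul hS hA hB hC hD hDC hn
  obtain ⟨d, hd, hd1⟩ := (D.bot_or_exists_ne_one).resolve_left (hS.ne_bot D hD)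
  have h1 := h d hd
  have h2 := comm_AD hS hA hB hC hD hDC ha hd
  have h3 : d * c = c * d := by
    calc d * c = a⁻¹ * (a * d) * c := by group
      _ = a⁻¹ * (d * a) * c := by rw [h2]
      _ = a⁻¹ * (d * (a * c)) := by group
      _ = a⁻¹ * (a * c * d) := by rw [h1]
      _ = c * d := by group
  rw [eq_one_of_comm_DC hS hA hB hC hD hDC hd hd1 hc h3, mul_one]
  exact ha

/-- The points of `N` fixed by `B` are those of `C`. -/
theorem fix_B {n : G} (hn : n ∈ A ⊔ ⁅A, B⁆) (h : ∀ b ∈ B, b * n = n * b) : n ∈ ⁅A, B⁆ := by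
  obtain ⟨a, ha, c, hc, rfl⟩ := exists_mul hS hA hB hC hD hDC hn
  obtain ⟨b, hb, hb1⟩ := (B.bot_or_exists_ne_one).resolve_left (hS.ne_bot B hB)
  have h1 := h b hb
  have h2 := comm_CB hS hA hB hC hD hDC hc hb
  have h3 : b * a = a * b := by
    calc b * a = (b * (a * c)) * c⁻¹ := by group
      _ = (a * c * b) * c⁻¹ := by rw [h1]
      _ = a * (c * b) * c⁻¹ := by group
      _ = a * (b * c) * c⁻¹ := by rw [h2]
      _ = a * b := by group
  rw [eq_one_of_comm_BA hS hA hB hC hD hDC hb hb1 ha h3, one_mul]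
  exact hc

/-- The key transport: if `b D b⁻¹ = d B d⁻¹` then `b A b⁻¹ = d C d⁻¹`. -/
theorem conjBy_A_eq_conjBy_C {b d : G} (hb : b ∈ B) (hd : d ∈ D)
    (hrel : Cfsg.conjBy D b = Cfsg.conjBy B d) : Cfsg.conjBy A b = Cfsg.conjBy ⁅A, B⁆ d := by
  have hbX : b ∈ B ⊔ D := le_sup_left (a := B) hb
  have hdX : d ∈ B ⊔ D := le_sup_right (a := B) hd
  apply le_antisymm
  · refine transport_fix (N := A ⊔ ⁅A, B⁆) hrel ?_ ?_ ?_
    · intro a ha t ht
      exact (comm_AD hS hA hB hC hD hDC ha ht).symm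
    · intro a ha
      have h1 := conj_mem_N hS hA hB hC hD hDC hbX (le_sup_left (a := A) ha)
      have h2 := conj_mem_N hS hA hB hC hD hDC (Subgroup.inv_mem _ hdX) h1
      rw [inv_inv] at h2
      exact h2
    · intro n hn h
      exact fix_B hS hA hB hC hD hDC hn h
  · refine transport_fix (N := A ⊔ ⁅A, B⁆) hrel.symm ?_ ?_ ?_
    · intro c hc t ht
      exact (comm_CB hS hA hB hC hD hDC hc ht).symm
    · intro c hc
      have h1 := conj_mem_N hS hA hB hC hD hDC hdX (le_sup_right (a := A) hc)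
      have h2 := conj_mem_N hS hA hB hC hD hDC (Subgroup.inv_mem _ hbX) h1
      rw [inv_inv] at h2
      exact h2
    · intro n hn h
      exact fix_D hS hA hB hC hD hDC hn h

end

end RootQuad
end Cfsg.Agent.Helper25
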