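import Mathlib
import Cfsg.Prelude.Def_RootSubgroups
import Cfsg.Agent.Lib.Helper25.RootQuad2

/-!
# The configuration `C = ⁅A, B⁆ ∈ S`, `⁅D, C⁆ = A`, part 3: orbits, partition, centralizer (helper25)
-/

set_option autoImplicit false

namespace Cfsg.Agent.Helper25
namespace RootQuad

open scoped commutatorElement
open Cfsg

variable {G : Type*} [Group G] {S : Set (Subgroup G)} {A B D : Subgroup G}

section

variable (hS : Cfsg.IsRootSubgroupSet S) (hA : A ∈ S) (hB : B ∈ S) (hC : ⁅A, B⁆ ∈ S) (hD : D ∈ S)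
  (hDC : ⁅D, ⁅A, B⁆⁆ = A)
include hS hA hB hC hD hDC

theorem conjBy_C_of_mem_B {b : G} (hb : b ∈ B) : Cfsg.conjBy ⁅A, B⁆ b = ⁅A, B⁆ :=
  RankOne.conjBy_eq_of_commute (fun c hc => (comm_CB hS hA hB hC hD hDC hc hb).symm)

theorem conjBy_A_of_mem_D {d : G} (hd : d ∈ D) : Cfsg.conjBy A d = A :=
  RankOne.conjBy_eq_of_commute (fun a ha => (comm_AD hS hA hB hC hD hDC ha hd).symm)

/-- The two descriptions of the orbit agree. -/
theorem omega_eq : (fun b : G => Cfsg.conjBy A b) '' (B : Set G) ∪ {⁅A, B⁆} =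
    (fun d : G => Cfsg.conjBy ⁅A, B⁆ d) '' (D : Set G) ∪ {A} := by
  have hp := rankOnePair hS hA hB hC hD hDC
  apply Set.Subset.antisymm
  · rintro E (⟨b, hb, rfl⟩ | hE)
    · by_cases hb1 : b = 1
      · right
        show Cfsg.conjBy A b = A
        rw [hb1, conjBy_one]
      · left
        have hb1' : b⁻¹ ≠ 1 := by simpa using hb1
        obtain ⟨d, hd, _, hrel⟩ := hp.cond_left b⁻¹ (B.inv_mem hb) hb1'
        rw [inv_inv] at hrel
        refine ⟨d⁻¹, D.inv_mem hd, ?_⟩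
        exact (conjBy_A_eq_conjBy_C hS hA hB hC hD hDC hb (D.inv_mem hd) hrel.symm).symm
    · left
      rw [Set.mem_singleton_iff] at hE
      exact ⟨1, D.one_mem, by rw [hE]; exact conjBy_one _⟩
  · rintro E (⟨d, hd, rfl⟩ | hE)
    · by_cases hd1 : d = 1
      · right
        show Cfsg.conjBy ⁅A, B⁆ d = ⁅A, B⁆
        rw [hd1, conjBy_one]
      · left
        have hd1' : d⁻¹ ≠ 1 := by simpa using hd1
        obtain ⟨b, hb, _, hrel⟩ := hp.cond_right d⁻¹ (D.inv_mem hd) hd1'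
        rw [inv_inv] at hrel
        refine ⟨b⁻¹, B.inv_mem hb, ?_⟩
        exact conjBy_A_eq_conjBy_C hS hA hB hC hD hDC (B.inv_mem hb) hd hrel
    · left
      rw [Set.mem_singleton_iff] at hE
      exact ⟨1, B.one_mem, by rw [hE]; exact conjBy_one _⟩

/-- The set `Ω` is invariant under `X`. -/
theorem omega_invariant {x : G} (hx : x ∈ B ⊔ D) {E : Subgroup G}
    (hE : E ∈ (fun b : G => Cfsg.conjBy A b) '' (B : Set G) ∪ {⁅A, B⁆}) :
    Cfsg.conjBy E x ∈ (fun b : G => Cfsg.conjBy A b) '' (B : Set G) ∪ {⁅A, B⁆} := by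
  revert E
  refine sup_induction (Q := B) (R := D)
    (C := fun x => ∀ {E : Subgroup G}, E ∈ (fun b : G => Cfsg.conjBy A b) '' (B : Set G) ∪ {⁅A, B⁆} →
      Cfsg.conjBy E x ∈ (fun b : G => Cfsg.conjBy A b) '' (B : Set G) ∪ {⁅A, B⁆}) ?_ ?_ ?_ hx
  · rintro b hb E (⟨b', hb', rfl⟩ | hE)
    · left
      exact ⟨b * b', B.mul_mem hb hb', (conjBy_conjBy A b' b).symm⟩
    · right
      rw [Set.mem_singleton_iff] at hE ⊢
      rw [hE]
      exact conjBy_C_of_mem_B hS hA hB hC hD hDC hb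
  · intro d hd E hE
    rw [omega_eq hS hA hB hC hD hDC] at hE ⊢
    rcases hE with ⟨d', hd', rfl⟩ | hE
    · left
      exact ⟨d * d', D.mul_mem hd hd', (conjBy_conjBy _ d' d).symm⟩
    · right
      rw [Set.mem_singleton_iff] at hE ⊢
      rw [hE]
      exact conjBy_A_of_mem_D hS hA hB hC hD hDC hd
  · intro x y _ _ hx hy E hE
    rw [← conjBy_conjBy]
    exact hx (hy hE)

/-- `C` is an `X`-conjugate of `A`. -/
theorem exists_conj_C : ∃ x ∈ B ⊔ D, ⁅A, B⁆ = Cfsg.conjBy A x := by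
  have hp := rankOnePair hS hA hB hC hD hDC
  obtain ⟨b, hb, hb1⟩ := (B.bot_or_exists_ne_one).resolve_left (hS.ne_bot B hB)
  obtain ⟨d, hd, _, hrel⟩ := hp.cond_left b hb hb1
  -- conjBy B d⁻¹ = conjBy D b⁻¹
  have h1 := conjBy_A_eq_conjBy_C hS hA hB hC hD hDC (B.inv_mem hb) (D.inv_mem hd) hrel.symm
  -- conjBy A b⁻¹ = conjBy C d⁻¹
  refine ⟨d * b⁻¹, Subgroup.mul_mem _ (le_sup_right (a := B) hd)
    (Subgroup.inv_mem _ (le_sup_left (a := B) hb)), ?_⟩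
  rw [← conjBy_conjBy, h1, conjBy_conjBy, mul_inv_cancel, conjBy_one]

/-- The orbit of `A` under `X`. -/
theorem orbit_A_eq : {E | ∃ x ∈ B ⊔ D, E = Cfsg.conjBy A x} =
    (fun b : G => Cfsg.conjBy A b) '' (B : Set G) ∪ {⁅A, B⁆} := by
  apply Set.Subset.antisymm
  · rintro E ⟨x, hx, rfl⟩
    refine omega_invariant hS hA hB hC hD hDC hx ?_
    left
    exact ⟨1, B.one_mem, conjBy_one A⟩
  · rintro E (⟨b, hb, rfl⟩ | hE)
    · exact ⟨b, le_sup_left (a := B) hb, rfl⟩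
    · rw [Set.mem_singleton_iff] at hE
      obtain ⟨x, hx, hx'⟩ := exists_conj_C hS hA hB hC hD hDC
      exact ⟨x, hx, by rw [hE]; exact hx'⟩

/-- The orbits of `A` and `C` under `X` agree. -/
theorem orbit_A_eq_orbit_C : {E | ∃ x ∈ B ⊔ D, E = Cfsg.conjBy A x} =
    {E | ∃ x ∈ B ⊔ D, E = Cfsg.conjBy ⁅A, B⁆ x} := by
  obtain ⟨x₀, hx₀, hx₀'⟩ := exists_conj_C hS hA hB hC hD hDC
  apply Set.Subset.antisymm
  · rintro E ⟨x, hx, rfl⟩
    refine ⟨x * x₀⁻¹, Subgroup.mul_mem _ hx (Subgroup.inv_mem _ hx₀), ?_⟩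
    rw [← conjBy_conjBy, hx₀', conjBy_inv_conjBy]
  · rintro E ⟨x, hx, rfl⟩
    refine ⟨x * x₀, Subgroup.mul_mem _ hx hx₀, ?_⟩
    rw [← conjBy_conjBy, ← hx₀']

/-- `A ∩ b A b⁻¹ = 1` for `b ∈ B#`. -/
theorem inf_conjBy_A {b : G} (hb : b ∈ B) (hb1 : b ≠ 1) : A ⊓ Cfsg.conjBy A b = ⊥ := by
  have h1 := caseAB hS hA hB hC hD hDC
  rw [Subgroup.eq_bot_iff_forall]
  intro y hy
  obtain ⟨hyA, hyb⟩ := Subgroup.mem_inf.mp hy
  rw [mem_conjBy] at hyb
  obtain ⟨a, ha⟩ : ∃ a, a = b⁻¹ * y * b := ⟨_, rfl⟩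
  rw [← ha] at hyb
  have hy : y = b * a * b⁻¹ := by rw [ha]; group
  -- y a⁻¹ = ⁅b, a⁆ ∈ A ∩ C
  have h2 : ⁅b, a⁆ ∈ A ⊓ ⁅A, B⁆ := by
    constructor
    · have : ⁅b, a⁆ = y * a⁻¹ := by rw [hy, commutatorElement_def]
      rw [this]; exact A.mul_mem hyA (A.inv_mem hyb)
    · have : ⁅b, a⁆ = (⁅a, b⁆)⁻¹ := by rw [commutatorElement_inv]
      rw [this]
      exact Subgroup.inv_mem _ (Subgroup.commutator_mem_commutator hyb hb)
  rw [inf_AC hS hA hB hC hD hDC, Subgroup.mem_bot, commutatorElement_eq_one_iff_mul_comm] at h2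
  have := eq_one_of_comm_BA hS hA hB hC hD hDC hb hb1 hyb h2
  rw [hy, this]; group

/-- The orbit partitions `N`. -/
theorem partition : Cfsg.IsSubgroupPartition (A ⊔ ⁅A, B⁆) {E | ∃ x ∈ B ⊔ D, E = Cfsg.conjBy A x} := by
  have h1 := caseAB hS hA hB hC hD hDC
  rw [orbit_A_eq hS hA hB hC hD hDC]
  refine ⟨?_, ?_, ?_⟩
  · rintro E (⟨b, hb, rfl⟩ | hE)
    · exact RootComm.conjBy_le_sup h1 hb
    · rw [Set.mem_singleton_iff] at hE
      rw [hE]; exact le_sup_right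
  · intro x hx hx1
    obtain ⟨a, ha, c, hc, rfl⟩ := exists_mul hS hA hB hC hD hDC hx
    by_cases ha1 : a = 1
    · refine ⟨⁅A, B⁆, Or.inr rfl, ?_⟩
      rw [ha1, one_mul]; exact hc
    · obtain ⟨b, hb, hmem⟩ := RootComm.exists_mem_conjBy h1 ha ha1 hc
      exact ⟨_, Or.inl ⟨b, hb, rfl⟩, hmem⟩
  · have hAC : ∀ b ∈ B, Cfsg.conjBy A b ⊓ ⁅A, B⁆ = ⊥ := by
      intro b hb
      rw [Subgroup.eq_bot_iff_forall]
      intro y hy
      obtain ⟨hy1, hy2⟩ := Subgroup.mem_inf.mp hy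
      rw [mem_conjBy] at hy1
      have hcb := comm_CB hS hA hB hC hD hDC hy2 hb
      have e : b⁻¹ * y * b = y := by rw [mul_assoc, hcb]; group
      rw [e] at hy1
      have := inf_AC hS hA hB hC hD hDC
      rw [Subgroup.eq_bot_iff_forall] at this
      exact this y ⟨hy1, hy2⟩
    rintro E (⟨b, hb, rfl⟩ | hE) F (⟨b', hb', rfl⟩ | hF) hne
    · -- two conjugates of A
      have hbb : b⁻¹ * b' ≠ 1 := by
        intro h
        apply hne
        have : b' = b := by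
          calc b' = b * (b⁻¹ * b') := by group
            _ = b := by rw [h, mul_one]
        rw [this]
      have h3 := inf_conjBy_A hS hA hB hC hD hDC (B.mul_mem (B.inv_mem hb) hb') hbb
      rw [Subgroup.eq_bot_iff_forall] at h3 ⊢
      intro y hy
      obtain ⟨hy1, hy2⟩ := Subgroup.mem_inf.mp hy
      dsimp only at hy1 hy2
      rw [mem_conjBy] at hy1 hy2
      have h4 : b⁻¹ * y * b ∈ Cfsg.conjBy A (b⁻¹ * b') := by
        rw [mem_conjBy]
        have : (b⁻¹ * b')⁻¹ * (b⁻¹ * y * b) * (b⁻¹ * b') = b'⁻¹ * y * b' := by group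
        rw [this]; exact hy2
      have := h3 _ ⟨hy1, h4⟩
      calc y = b * (b⁻¹ * y * b) * b⁻¹ := by group
        _ = 1 := by rw [this]; group
    · rw [Set.mem_singleton_iff] at hF
      rw [hF]; exact hAC b hb
    · rw [Set.mem_singleton_iff] at hE
      rw [hE, inf_comm]; exact hAC b' hb'
    · rw [Set.mem_singleton_iff] at hE hF
      exact absurd (hE.trans hF.symm) hne

end

end RootQuad
end Cfsg.Agent.Helper25
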