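import Mathlib
import Cfsg.Prelude.Def_RootSubgroups
import Cfsg.Agent.Lib.Helper25.RootQuad3

/-!
# The configuration `C = ⁅A, B⁆ ∈ S`, `⁅D, C⁆ = A`, part 4: the centralizer of `N` (helper25)
-/

set_option autoImplicit false

namespace Cfsg.Agent.Helper25
namespace RootQuad

open scoped commutatorElement
open Cfsg

variable {G : Type*} [Group G] {S : Set (Subgroup G)} {A B D : Subgroup G}

theorem comm_conjBy {T : Subgroup G} {n : G} (g : G) (h : ∀ t ∈ T, t * n = n * t) :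
    ∀ s ∈ Cfsg.conjBy T g, s * (g * n * g⁻¹) = (g * n * g⁻¹) * s := by
  intro s hs
  rw [mem_conjBy] at hs
  have h1 := h _ hs
  calc s * (g * n * g⁻¹) = g * ((g⁻¹ * s * g) * n) * g⁻¹ := by group
    _ = g * (n * (g⁻¹ * s * g)) * g⁻¹ := by rw [h1]
    _ = (g * n * g⁻¹) * s := by group

section

variable (hS : Cfsg.IsRootSubgroupSet S) (hA : A ∈ S) (hB : B ∈ S) (hC : ⁅A, B⁆ ∈ S) (hD : D ∈ S)
  (hDC : ⁅D, ⁅A, B⁆⁆ = A)
include hS hA hB hC hD hDC

/-- An element of `X` centralizing `N` normalizes every unipotent subgroup of `X`. -/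
theorem conjBy_eq_of_centralizes {x : G} (hx : x ∈ B ⊔ D)
    (hxN : ∀ n ∈ A ⊔ ⁅A, B⁆, n * x = x * n) {T : Subgroup G}
    (hT : T ∈ Cfsg.unipotentSubgroups B D) : Cfsg.conjBy T x = T := by
  have hp := rankOnePair hS hA hB hC hD hDC
  by_contra hne
  have hT' : Cfsg.conjBy T x ∈ Cfsg.unipotentSubgroups B D := RankOne.conjBy_mem hT hx
  obtain ⟨g, hg, hg1, hg2⟩ := RankOne.exists_conj_pair hp hT hT' (fun h => hne h.symm)
  -- C ≤ A
  have hle : ⁅A, B⁆ ≤ A := by
    intro c hc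
    apply fix_D hS hA hB hC hD hDC (le_sup_right (a := A) hc)
    -- c commutes with B = conjBy T g
    have h1 : ∀ s ∈ Cfsg.conjBy T g, s * c = c * s := by
      rw [hg1]
      intro s hs
      exact (comm_CB hS hA hB hC hD hDC hc hs).symm
    have h2 := comm_conjBy g⁻¹ h1
    rw [conjBy_inv_conjBy, inv_inv] at h2
    obtain ⟨n, hn⟩ : ∃ n, n = g⁻¹ * c * g := ⟨_, rfl⟩
    rw [← hn] at h2
    have hnN : n ∈ A ⊔ ⁅A, B⁆ := by
      have := conj_mem_N hS hA hB hC hD hDC (Subgroup.inv_mem _ hg) (le_sup_right (a := A) hc)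
      rw [inv_inv] at this
      rw [hn]; exact this
    have h3 := comm_conjBy x h2
    have hxn : x * n * x⁻¹ = n := by
      rw [← hxN n hnN]; group
    rw [hxn] at h3
    have h4 := comm_conjBy g h3
    rw [hg2] at h4
    have hc' : g * n * g⁻¹ = c := by rw [hn]; group
    rw [hc'] at h4
    exact h4
  have h5 := inf_AC hS hA hB hC hD hDC
  rw [inf_eq_right.mpr hle] at h5
  exact hS.ne_bot _ hC h5

/-- The centralizer of `N` in `X` is central in `X`. -/
theorem centralizer_central {x : G} (hx : x ∈ B ⊔ D)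
    (hxN : ∀ n ∈ A ⊔ ⁅A, B⁆, n * x = x * n) : ∀ y ∈ B ⊔ D, x * y = y * x := by
  have hp := rankOnePair hS hA hB hC hD hDC
  intro y hy
  exact (RankOne.commute_of_normalizes_all hp
    (fun T hT => conjBy_eq_of_centralizes hS hA hB hC hD hDC hx hxN hT) y hy).symm

end

end RootQuad
end Cfsg.Agent.Helper25
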