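import Mathlib
import Cfsg.Prelude.Def_RootSubgroups
import Cfsg.Agent.Lib.Helper25.RootQuad4
import Cfsg.Agent.S5029

/-!
# Line partners and commutator partners of a rank one pair (helper25)
-/

set_option autoImplicit false

namespace Cfsg.Agent.Helper25
namespace RootSpecial

open scoped commutatorElement
open Cfsg

variable {G : Type*} [Group G] {S : Set (Subgroup G)} {A B : Subgroup G}

/-- A line partner of `A` does not commute with a rank one partner of `A`. -/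
theorem comm_ne_bot_of_linePartner (hS : Cfsg.IsRootSubgroupSet S) (hA : A ∈ S) (hB : B ∈ S)
    (hp : Cfsg.IsRankOnePair A B) {E : Subgroup G} (hE : E ∈ Cfsg.linePartners S A) :
    ⁅B, E⁆ ≠ ⊥ := by
  intro hbot
  obtain ⟨⟨hES, hEA, hAE⟩, hpart⟩ := hE
  obtain ⟨e, he, he1⟩ := (E.bot_or_exists_ne_one).resolve_left (hS.ne_bot E hES)
  obtain ⟨a, ha, ha1⟩ := RankOne.exists_ne_one_left hp
  have hinf : A ⊓ E = ⊥ := by
    rcases RankOne.inf_eq_bot_or_eq hS hB hp hES with h | h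
    · exact h
    · exact absurd h.symm hEA
  have hz : ∀ x ∈ A ⊔ B, e * x = x * e := by
    intro x hx
    refine sup_induction (Q := A) (R := B) (C := fun x => e * x = x * e) ?_ ?_ ?_ hx
    · intro a' ha'
      exact (RankOne.commute_of_commutator_eq_bot hAE ha' he).symm
    · intro b hb
      exact (RankOne.commute_of_commutator_eq_bot hbot hb he).symm
    · intro x y _ _ hx hy
      rw [← mul_assoc, hx, mul_assoc, hy, mul_assoc]
  have hne : e * a ≠ 1 := by
    intro h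
    apply he1
    have : e = a⁻¹ := by
      calc e = (e * a) * a⁻¹ := by group
        _ = a⁻¹ := by rw [h, one_mul]
    have heA : e ∈ A := by rw [this]; exact A.inv_mem ha
    rw [Subgroup.eq_bot_iff_forall] at hinf
    exact hinf e ⟨heA, he⟩
  have hmem : e * a ∈ A ⊔ E :=
    Subgroup.mul_mem _ (le_sup_right (a := A) he) (le_sup_left (a := A) ha)
  obtain ⟨M, hM, heM⟩ := hpart.2.1 _ hmem hne
  exact RankOne.mul_not_mem_of_centralizes hS hA hB hp hz he1 ha ha1 hM.1 heM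

/-- A rank one pair does not commute elementwise. -/
theorem not_commute_of_rankOne {P Q : Subgroup G} (hp : Cfsg.IsRankOnePair P Q)
    (hc : ∀ x ∈ P, ∀ y ∈ Q, x * y = y * x) : False := by
  obtain ⟨x, hx, hx1⟩ := RankOne.exists_ne_one_left hp
  obtain ⟨y, hy, _, hrel⟩ := hp.cond_left x hx hx1
  have h1 : Cfsg.conjBy P y⁻¹ = P :=
    RankOne.conjBy_eq_of_commute (fun p hp' => by
      have := hc p hp' y hy
      calc y⁻¹ * p = y⁻¹ * (p * y) * y⁻¹ := by group
        _ = y⁻¹ * (y * p) * y⁻¹ := by rw [this]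
        _ = p * y⁻¹ := by group)
  have h2 : Cfsg.conjBy Q x⁻¹ = Q :=
    RankOne.conjBy_eq_of_commute (fun q hq => by
      have := hc x hx q hq
      calc x⁻¹ * q = x⁻¹ * (q * x) * x⁻¹ := by group
        _ = x⁻¹ * (x * q) * x⁻¹ := by rw [this]
        _ = q * x⁻¹ := by group)
  rw [h1, h2] at hrel
  exact hp.ne hrel

section Line

variable {B₁ : Subgroup G}

/-- Elements of the line `A ⊔ ⁅A, B₁⁆` commute. -/
theorem line_comm (hcc : Cfsg.RootCommutatorCase S A B₁) (hAc : IsMulCommutative A)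
    (hCc : IsMulCommutative ↥⁅A, B₁⁆) {x y : G} (hx : x ∈ A ⊔ ⁅A, B₁⁆) (hy : y ∈ A ⊔ ⁅A, B₁⁆) :
    x * y = y * x := by
  obtain ⟨a, ha, c, hc, rfl⟩ := RootComm.exists_mul_of_mem_sup_comm hcc hx
  obtain ⟨a', ha', c', hc', rfl⟩ := RootComm.exists_mul_of_mem_sup_comm hcc hy
  have h1 : a * a' = a' * a := by
    have := hAc.is_comm.comm ⟨a, ha⟩ ⟨a', ha'⟩
    exact congrArg Subtype.val this
  have h2 : c * c' = c' * c := by
    have := hCc.is_comm.comm ⟨c, hc⟩ ⟨c', hc'⟩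
    exact congrArg Subtype.val this
  have h3 : c * a' = a' * c := RootComm.central hcc hc (le_sup_left (a := A) ha')
  have h4 : c' * a = a * c' := RootComm.central hcc hc' (le_sup_left (a := A) ha)
  calc a * c * (a' * c') = a * (c * a') * c' := by group
    _ = a * (a' * c) * c' := by rw [h3]
    _ = (a * a') * (c * c') := by group
    _ = (a' * a) * (c' * c) := by rw [h1, h2]
    _ = a' * (a * c') * c := by group
    _ = a' * (c' * a) * c := by rw [h4]
    _ = a' * c' * (a * c) := by group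

/-- Every member of `S` on the line `A ⊔ ⁅A, B₁⁆` other than `A` is a line partner of `A`. -/
theorem linePartner_of_mem_line (hS : Cfsg.IsRootSubgroupSet S) (hA : A ∈ S) (hB : B ∈ S)
    (hp : Cfsg.IsRankOnePair A B) (hcc : Cfsg.RootCommutatorCase S A B₁) {F : Subgroup G}
    (hF : F ∈ Cfsg.membersIn S (A ⊔ ⁅A, B₁⁆)) (hFA : F ≠ A) : F ∈ Cfsg.linePartners S A := by
  have hpart := Cfsg.Agent.S5029.partition hS hA hB hp hcc
  have hmem := Cfsg.Agent.S5029.membersIn_eq hS hA hB hp hcc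
  have hAc := hS.commutative A hA
  have hCc := hS.commutative _ hcc.1
  have hsup : A ⊔ F = A ⊔ ⁅A, B₁⁆ := by
    apply le_antisymm (sup_le le_sup_left hF.2)
    refine sup_le le_sup_left ?_
    have hF' := hF
    rw [hmem] at hF'
    rcases hF' with ⟨b₁, hb₁, rfl⟩ | hFC
    · have hb₁1 : b₁ ≠ 1 := by
        intro h
        apply hFA
        show Cfsg.conjBy A b₁ = A
        rw [h, conjBy_one]
      intro c hc
      obtain ⟨a, ha, rfl⟩ := RootComm.exists_comm_eq_left hcc hb₁ hb₁1 hc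
      have e : ⁅a, b₁⁆ = a * (b₁ * a⁻¹ * b₁⁻¹) := by rw [commutatorElement_def]; group
      rw [e]
      refine Subgroup.mul_mem _ (le_sup_left (a := A) ha) (le_sup_right (a := A) ?_)
      show b₁ * a⁻¹ * b₁⁻¹ ∈ Cfsg.conjBy A b₁
      rw [mem_conjBy]
      have : b₁⁻¹ * (b₁ * a⁻¹ * b₁⁻¹) * b₁ = a⁻¹ := by group
      rw [this]; exact A.inv_mem ha
    · rw [Set.mem_singleton_iff] at hFC
      rw [hFC]; exact le_sup_right
  refine ⟨⟨hF.1, hFA, ?_⟩, ?_⟩
  · rw [eq_bot_iff, Subgroup.commutator_le]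
    intro a ha f hf
    rw [Subgroup.mem_bot, commutatorElement_eq_one_iff_mul_comm]
    exact line_comm hcc hAc hCc (le_sup_left (a := A) ha) (hF.2 hf)
  · rw [hsup]; exact hpart

end Line

/-- **Existence**: for a rank one pair `(A, B)` and any commutator partner `B₁` of `A`, some line
partner `C` of `A` on the line `A ⊔ ⁅A, B₁⁆` has `⁅B, C⁆ ∈ S`. -/
theorem exists_linePartner_comm (hS : Cfsg.IsRootSubgroupSet S) (hA : A ∈ S) (hB : B ∈ S)
    (hp : Cfsg.IsRankOnePair A B) {B₁ : Subgroup G} (hcc : Cfsg.RootCommutatorCase S A B₁) :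
    ∃ C ∈ Cfsg.linePartners S A, ⁅B, C⁆ ∈ S := by
  have hpart := Cfsg.Agent.S5029.partition hS hA hB hp hcc
  have hAc := hS.commutative A hA
  have hCc := hS.commutative _ hcc.1
  have hC₁mem : ⁅A, B₁⁆ ∈ Cfsg.membersIn S (A ⊔ ⁅A, B₁⁆) := ⟨hcc.1, le_sup_right⟩
  have hC₁ : ⁅A, B₁⁆ ∈ Cfsg.linePartners S A :=
    linePartner_of_mem_line hS hA hB hp hcc hC₁mem (RootComm.left_ne_comm hS hA hcc).symm
  rcases hS.pair B hB _ hcc.1 with h | hro | h
  · exact absurd h (comm_ne_bot_of_linePartner hS hA hB hp hC₁)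
  · -- rank one: find another point of the line
    obtain ⟨e, he, he1⟩ := RankOne.exists_ne_one_right hro
    obtain ⟨b', hb', hb'1, hrel1⟩ := hro.cond_right e he he1
    obtain ⟨a', ha', ha'1, hrel2⟩ := hp.cond_right b' hb' hb'1
    -- hrel1 : conjBy C₁ b'⁻¹ = conjBy B e⁻¹ ; hrel2 : conjBy B a'⁻¹ = conjBy A b'⁻¹
    obtain ⟨f, hf⟩ : ∃ f, f = e * a'⁻¹ := ⟨_, rfl⟩
    have hinf : A ⊓ ⁅A, B₁⁆ = ⊥ := by
      rcases RankOne.inf_eq_bot_or_eq hS hB hp hcc.1 with h | h
      · exact h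
      · exact absurd h (RootComm.left_ne_comm hS hA hcc)
    rw [Subgroup.eq_bot_iff_forall] at hinf
    have hfL : f ∈ A ⊔ ⁅A, B₁⁆ := by
      rw [hf]
      exact Subgroup.mul_mem _ (le_sup_right (a := A) he) (le_sup_left (a := A) (A.inv_mem ha'))
    have hfA : f ∉ A := by
      intro h
      apply he1
      have : e = f * a' := by rw [hf]; group
      exact hinf e ⟨by rw [this]; exact A.mul_mem h ha', he⟩
    have hf1 : f ≠ 1 := fun h => hfA (by rw [h]; exact A.one_mem)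
    -- conjBy B f commutes with B
    have hcomm : ∀ x ∈ Cfsg.conjBy B f, ∀ y ∈ B, x * y = y * x := by
      intro x hx y hy
      rw [mem_conjBy] at hx
      -- a'⁻¹ (f⁻¹ x f) a' ∈ conjBy B a'⁻¹ = conjBy A b'⁻¹, e⁻¹ y e ∈ conjBy B e⁻¹ = conjBy C₁ b'⁻¹
      have h1 : a'⁻¹ * (f⁻¹ * x * f) * a' ∈ Cfsg.conjBy A b'⁻¹ := by
        rw [← hrel2, mem_conjBy]
        have : a'⁻¹⁻¹ * (a'⁻¹ * (f⁻¹ * x * f) * a') * a'⁻¹ = f⁻¹ * x * f := by group
        rw [this]; exact hx
      have h2 : e⁻¹ * y * e ∈ Cfsg.conjBy ⁅A, B₁⁆ b'⁻¹ := by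
        rw [hrel1, mem_conjBy]
        have : e⁻¹⁻¹ * (e⁻¹ * y * e) * e⁻¹ = y := by group
        rw [this]; exact hy
      rw [mem_conjBy] at h1 h2
      have h3 := RootComm.central hcc h2 (le_sup_left (a := A) h1)
      -- unwind
      have e1 : a'⁻¹ * (f⁻¹ * x * f) * a' = e⁻¹ * x * e := by rw [hf]; group
      rw [e1] at h3
      have h4 : (e⁻¹ * y * e) * (e⁻¹ * x * e) = (e⁻¹ * x * e) * (e⁻¹ * y * e) := by
        calc (e⁻¹ * y * e) * (e⁻¹ * x * e)
            = b'⁻¹ * ((b'⁻¹⁻¹ * (e⁻¹ * y * e) * b'⁻¹) * (b'⁻¹⁻¹ * (e⁻¹ * x * e) * b'⁻¹)) * b'⁻¹⁻¹ := by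
              group
          _ = b'⁻¹ * ((b'⁻¹⁻¹ * (e⁻¹ * x * e) * b'⁻¹) * (b'⁻¹⁻¹ * (e⁻¹ * y * e) * b'⁻¹)) * b'⁻¹⁻¹ := by
              rw [h3]
          _ = (e⁻¹ * x * e) * (e⁻¹ * y * e) := by group
      calc x * y = e * ((e⁻¹ * x * e) * (e⁻¹ * y * e)) * e⁻¹ := by group
        _ = e * ((e⁻¹ * y * e) * (e⁻¹ * x * e)) * e⁻¹ := by rw [h4]
        _ = y * x := by group
    obtain ⟨F, hF, hfF⟩ := hpart.2.1 f hfL hf1
    have hFA : F ≠ A := fun h => hfA (h ▸ hfF)
    have hFl := linePartner_of_mem_line hS hA hB hp hcc hF hFA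
    refine ⟨F, hFl, ?_⟩
    rcases hS.pair B hB F hF.1 with h | hro' | h
    · exact absurd h (comm_ne_bot_of_linePartner hS hA hB hp hFl)
    · exfalso
      have hro'' := Cfsg.RankOnePair_symm hro'
      have hne : Cfsg.conjBy B f ≠ B := fun h => hf1 (RankOne.eq_one_of_normalizes hro'' hfF h)
      have h1 : B ∈ Cfsg.unipotentSubgroups F B := RankOne.right_mem hro''
      have h2 : Cfsg.conjBy B f ∈ Cfsg.unipotentSubgroups F B :=
        RankOne.conjBy_mem h1 (le_sup_left (a := F) hfF)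
      have h3 := RankOne.pair_of_mem hro'' h2 h1 hne
      exact not_commute_of_rankOne h3 hcomm
    · exact h.1
  · exact ⟨_, hC₁, h.1⟩

end RootSpecial
end Cfsg.Agent.Helper25
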