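import Mathlib
import Cfsg.Prelude.Def_RootSubgroups
import Cfsg.Agent.Lib.Helper25.RootSpecial
import Cfsg.Agent.Lib.Helper25.RankOneQuad

/-!
# `⁅⁅B, C⁆, A⁆ = C` for a rank one pair `(A, B)` and `C ∈ Λ_A ∩ Ψ_B` (helper25)
-/

set_option autoImplicit false

namespace Cfsg.Agent.Helper25
namespace RootSpecial

open scoped commutatorElement
open Cfsg

variable {G : Type*} [Group G] {S : Set (Subgroup G)} {A B C : Subgroup G}

theorem comm_inv_of_comm {x y : G} (h : x * y = y * x) : x⁻¹ * y = y * x⁻¹ := by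
  calc x⁻¹ * y = x⁻¹ * (y * x) * x⁻¹ := by group
    _ = x⁻¹ * (x * y) * x⁻¹ := by rw [h]
    _ = y * x⁻¹ := by group

section

variable (hS : Cfsg.IsRootSubgroupSet S) (hA : A ∈ S) (hB : B ∈ S)
  (hp : Cfsg.IsRankOnePair A B) (hC : C ∈ Cfsg.linePartners S A) (hF : ⁅B, C⁆ ∈ S)
include hS hA hB hp hC hF

theorem caseBC : Cfsg.RootCommutatorCase S B C :=
  RootComm.commCase_of_comm_mem hS hB hC.1.1 hF

theorem comm_AC' {a c : G} (ha : a ∈ A) (hc : c ∈ C) : a * c = c * a :=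
  RankOne.commute_of_commutator_eq_bot hC.1.2.2 ha hc

theorem inf_AC' : A ⊓ C = ⊥ := by
  rcases RankOne.inf_eq_bot_or_eq hS hB hp hC.1.1 with h | h
  · exact h
  · exact absurd h.symm hC.1.2.1

/-- every non-identity element `c * a` of the line lies in a member of `S` -/
theorem exists_member {a c : G} (ha : a ∈ A) (hc : c ∈ C) (hne : c ≠ 1 ∨ a ≠ 1) :
    ∃ M ∈ S, c * a ∈ M := by
  have hmem : c * a ∈ A ⊔ C :=
    Subgroup.mul_mem _ (le_sup_right (a := A) hc) (le_sup_left (a := A) ha)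
  have hne' : c * a ≠ 1 := by
    intro h
    have hinf := inf_AC' hS hA hB hp hC hF
    rw [Subgroup.eq_bot_iff_forall] at hinf
    have hcA : c ∈ A := by
      have : c = a⁻¹ := by
        calc c = (c * a) * a⁻¹ := by group
          _ = a⁻¹ := by rw [h, one_mul]
      rw [this]; exact A.inv_mem ha
    have hc1 : c = 1 := hinf c ⟨hcA, hc⟩
    rcases hne with h1 | h1
    · exact h1 hc1
    · apply h1
      rw [hc1, one_mul] at h
      exact h
  obtain ⟨M, hM, hcM⟩ := hC.2.2.1 _ hmem hne'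
  exact ⟨M, hM.1, hcM⟩

theorem comm_FA_ne_bot : ⁅⁅B, C⁆, A⁆ ≠ ⊥ := by
  intro hbot
  have hBC := caseBC hS hA hB hp hC hF
  obtain ⟨f, hf, hf1⟩ := ((⁅B, C⁆).bot_or_exists_ne_one).resolve_left (hS.ne_bot _ hF)
  obtain ⟨b, hb, hb1⟩ := RankOne.exists_ne_one_right hp
  have hz : ∀ x ∈ B ⊔ A, f * x = x * f := by
    intro x hx
    refine sup_induction (Q := B) (R := A) (C := fun x => f * x = x * f) ?_ ?_ ?_ hx
    · intro b' hb'
      exact RootComm.central hBC hf (le_sup_left (a := B) hb')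
    · intro a ha
      exact RankOne.commute_of_commutator_eq_bot hbot hf ha
    · intro x y _ _ hx hy
      rw [← mul_assoc, hx, mul_assoc, hy, mul_assoc]
  obtain ⟨c₀, hc₀, hmem⟩ := RootComm.exists_mem_conjBy hBC hb hb1 hf
  have hfb : f * b = b * f := RootComm.central hBC hf (le_sup_left (a := B) hb)
  rw [← hfb] at hmem
  exact RankOne.mul_not_mem_of_centralizes hS hB hA (Cfsg.RankOnePair_symm hp) hz hf1 hb hb1
    (hS.conj_mem B hB c₀) hmem

theorem not_rankOne_FA : ¬ Cfsg.IsRankOnePair A ⁅B, C⁆ := by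
  intro hro
  have hBC := caseBC hS hA hB hp hC hF
  obtain ⟨c, hc, hc1⟩ := (C.bot_or_exists_ne_one).resolve_left (hS.ne_bot _ hC.1.1)
  obtain ⟨a, ha, ha1⟩ := RankOne.exists_ne_one_left hp
  have hz : ∀ x ∈ A ⊔ ⁅B, C⁆, c * x = x * c := by
    intro x hx
    refine sup_induction (Q := A) (R := ⁅B, C⁆) (C := fun x => c * x = x * c) ?_ ?_ ?_ hx
    · intro a' ha'
      exact (comm_AC' hS hA hB hp hC hF ha' hc).symm
    · intro f hf
      exact (RootComm.central hBC hf (le_sup_right (a := B) hc)).symm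
    · intro x y _ _ hx hy
      rw [← mul_assoc, hx, mul_assoc, hy, mul_assoc]
  obtain ⟨M, hM, hcM⟩ := exists_member hS hA hB hp hC hF ha hc (Or.inl hc1)
  exact RankOne.mul_not_mem_of_centralizes hS hA hF hro hz hc1 ha ha1 hM hcM

theorem caseFA : Cfsg.RootCommutatorCase S ⁅B, C⁆ A := by
  rcases hS.pair _ hF A hA with h | h | h
  · exact absurd h (comm_FA_ne_bot hS hA hB hp hC hF)
  · exact absurd (Cfsg.RankOnePair_symm h) (not_rankOne_FA hS hA hB hp hC hF)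
  · exact h

/-- `C` commutes with `C' = ⁅⁅B, C⁆, A⁆`. -/
theorem comm_C_C' {c c' : G} (hc : c ∈ C) (hc' : c' ∈ ⁅⁅B, C⁆, A⁆) : c' * c = c * c' := by
  have hBC := caseBC hS hA hB hp hC hF
  have hle : ⁅⁅B, C⁆, A⁆ ≤ Subgroup.centralizer {c} := by
    rw [Subgroup.commutator_le]
    intro f hf a ha
    have h1 : c * f = f * c := (RootComm.central hBC hf (le_sup_right (a := B) hc)).symm
    have h2 : c * a = a * c := (comm_AC' hS hA hB hp hC hF ha hc).symm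
    rw [Subgroup.mem_centralizer_iff]
    intro x hx
    rw [Set.mem_singleton_iff] at hx
    rw [hx, commutatorElement_def]
    have h1' := comm_inv_of_comm h1.symm
    have h2' := comm_inv_of_comm h2.symm
    calc c * (f * a * f⁻¹ * a⁻¹) = (c * f) * a * f⁻¹ * a⁻¹ := by group
      _ = f * (c * a) * f⁻¹ * a⁻¹ := by rw [h1]; group
      _ = f * a * (c * f⁻¹) * a⁻¹ := by rw [h2]; group
      _ = f * a * f⁻¹ * (c * a⁻¹) := by rw [← h1']; group
      _ = f * a * f⁻¹ * a⁻¹ * c := by rw [← h2']; group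
  have := hle hc'
  rw [Subgroup.mem_centralizer_iff] at this
  exact (this c rfl).symm

/-- The main identity. -/
theorem comm_comm_eq (hCp : ∃ D' ∈ S, Cfsg.IsRankOnePair C D') : ⁅⁅B, C⁆, A⁆ = C := by
  have hBC := caseBC hS hA hB hp hC hF
  have hFA := caseFA hS hA hB hp hC hF
  have hAF := RootComm.symm hFA
  by_contra hne
  obtain ⟨D', hD', hCD'⟩ := hCp
  have hinfCC' : C ⊓ ⁅⁅B, C⁆, A⁆ = ⊥ := by
    rcases RankOne.inf_eq_bot_or_eq hS hD' hCD' hFA.1 with h | h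
    · exact h
    · exact absurd h.symm hne
  rw [Subgroup.eq_bot_iff_forall] at hinfCC'
  obtain ⟨b, hb, hb1⟩ := RankOne.exists_ne_one_right hp
  obtain ⟨a, ha, ha1, hrel'⟩ := hp.cond_right b hb hb1
  have hrel : Cfsg.conjBy A b⁻¹ = Cfsg.conjBy B a⁻¹ := hrel'.symm
  obtain ⟨c, hc, hc1⟩ := (C.bot_or_exists_ne_one).resolve_left (hS.ne_bot _ hC.1.1)
  have hb1' : b⁻¹ ≠ 1 := by simpa using hb1
  obtain ⟨f, hf⟩ : ∃ f, f = ⁅b⁻¹, c⁆ := ⟨_, rfl⟩
  obtain ⟨c', hc'⟩ : ∃ c', c' = ⁅a, f⁆ := ⟨_, rfl⟩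
  have hfF : f ∈ ⁅B, C⁆ := by rw [hf]; exact Subgroup.commutator_mem_commutator (B.inv_mem hb) hc
  have hc'C' : c' ∈ ⁅⁅B, C⁆, A⁆ := by
    rw [hc', Subgroup.commutator_comm]
    exact Subgroup.commutator_mem_commutator ha hfF
  have hf1 : f ≠ 1 := by
    intro h
    rw [hf, commutatorElement_eq_one_iff_mul_comm] at h
    exact hc1 (RootComm.eq_one_of_commute hS hB hA (Cfsg.RankOnePair_symm hp) hBC
      (B.inv_mem hb) hb1' hc h)
  have hc'1 : c' ≠ 1 := by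
    intro h
    rw [hc', commutatorElement_eq_one_iff_mul_comm] at h
    exact hf1 (RootComm.eq_one_of_commute hS hA hB hp hAF ha ha1 hfF h)
  -- commutation relations
  have hfc : f * c = c * f := RootComm.central hBC hfF (le_sup_right (a := B) hc)
  have hc'f : c' * f = f * c' := RootComm.central hFA hc'C' (le_sup_left (a := ⁅B, C⁆) hfF)
  have hc'c : c' * c = c * c' := comm_C_C' hS hA hB hp hC hF hc hc'C'
  -- x = (a b⁻¹) c (a b⁻¹)⁻¹ = c' f c
  have hx : (a * b⁻¹) * c * (a * b⁻¹)⁻¹ = c' * f * c := by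
    have hac : a * c = c * a := comm_AC' hS hA hB hp hC hF ha hc
    have hac' : c * a⁻¹ = a⁻¹ * c := (comm_inv_of_comm hac).symm
    calc (a * b⁻¹) * c * (a * b⁻¹)⁻¹ = a * (b⁻¹ * c * b * c⁻¹) * (c * a⁻¹) := by group
      _ = a * (b⁻¹ * c * b * c⁻¹) * (a⁻¹ * c) := by rw [hac']
      _ = (a * (b⁻¹ * c * b⁻¹⁻¹ * c⁻¹) * a⁻¹ * (b⁻¹ * c * b⁻¹⁻¹ * c⁻¹)⁻¹) *
            (b⁻¹ * c * b⁻¹⁻¹ * c⁻¹) * c := by group
      _ = c' * f * c := by rw [hc', hf, commutatorElement_def, commutatorElement_def]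
  -- y = c' c centralizes B
  obtain ⟨y, hy⟩ : ∃ y, y = c' * c := ⟨_, rfl⟩
  have hyB : ∀ b₁ ∈ B, y * b₁ = b₁ * y := by
    intro b₁ hb₁
    obtain ⟨a₁, ha₁, rfl⟩ := RankOneQuad.exists_conj_of_rel hrel hb₁
    have ha₁c : a₁ * c = c * a₁ := comm_AC' hS hA hB hp hC hF ha₁ hc
    -- x commutes with b₁
    have h1 : (c' * f * c) * (a * b⁻¹ * a₁ * (a * b⁻¹)⁻¹) =
        (a * b⁻¹ * a₁ * (a * b⁻¹)⁻¹) * (c' * f * c) := by
      rw [← hx]
      calc (a * b⁻¹) * c * (a * b⁻¹)⁻¹ * (a * b⁻¹ * a₁ * (a * b⁻¹)⁻¹)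
          = (a * b⁻¹) * (c * a₁) * (a * b⁻¹)⁻¹ := by group
        _ = (a * b⁻¹) * (a₁ * c) * (a * b⁻¹)⁻¹ := by rw [ha₁c]
        _ = (a * b⁻¹ * a₁ * (a * b⁻¹)⁻¹) * ((a * b⁻¹) * c * (a * b⁻¹)⁻¹) := by group
    obtain ⟨b₁, hb₁def⟩ : ∃ b₁, b₁ = a * b⁻¹ * a₁ * (a * b⁻¹)⁻¹ := ⟨_, rfl⟩
    rw [← hb₁def] at h1 hb₁ ⊢
    have hfb₁ : f * b₁ = b₁ * f := RootComm.central hBC hfF (le_sup_left (a := B) hb₁)
    have e1 : c' * f * c = f * y := by
      rw [hy, hc'f]; group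
    rw [e1] at h1
    calc y * b₁ = f⁻¹ * ((f * y) * b₁) := by group
      _ = f⁻¹ * (b₁ * (f * y)) := by rw [h1]
      _ = f⁻¹ * ((b₁ * f) * y) := by group
      _ = f⁻¹ * ((f * b₁) * y) := by rw [hfb₁]
      _ = b₁ * y := by group
  have hyA : ∀ a₁ ∈ A, y * a₁ = a₁ * y := by
    intro a₁ ha₁
    have h1 : a₁ * c = c * a₁ := comm_AC' hS hA hB hp hC hF ha₁ hc
    have h2 : c' * a₁ = a₁ * c' := RootComm.central hFA hc'C' (le_sup_right (a := ⁅B, C⁆) ha₁)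
    rw [hy]
    calc c' * c * a₁ = c' * (c * a₁) := by group
      _ = c' * (a₁ * c) := by rw [h1]
      _ = (c' * a₁) * c := by group
      _ = (a₁ * c') * c := by rw [h2]
      _ = a₁ * (c' * c) := by group
  have hz : ∀ x ∈ A ⊔ B, y * x = x * y := by
    intro x hx
    refine sup_induction (Q := A) (R := B) (C := fun x => y * x = x * y) hyA hyB ?_ hx
    intro x y' _ _ hx hy'
    rw [← mul_assoc, hx, mul_assoc, hy', mul_assoc]
  have hy1 : y ≠ 1 := by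
    intro h
    apply hc'1
    have : c' = c⁻¹ := by
      calc c' = (c' * c) * c⁻¹ := by group
        _ = c⁻¹ := by rw [← hy, h, one_mul]
    exact hinfCC' c' ⟨by rw [this]; exact C.inv_mem hc, hc'C'⟩
  -- y * a lies in a member of S
  have hc'C'' : c' ∈ ⁅A, ⁅B, C⁆⁆ := by rw [Subgroup.commutator_comm]; exact hc'C'
  obtain ⟨f₁, hf₁, hmem⟩ := RootComm.exists_mem_conjBy hAF ha ha1 hc'C''
  rw [mem_conjBy] at hmem
  obtain ⟨a₂, ha₂⟩ : ∃ a₂, a₂ = f₁⁻¹ * (a * c') * f₁ := ⟨_, rfl⟩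
  rw [← ha₂] at hmem
  have hcf₁ : c * f₁ = f₁ * c := (RootComm.central hBC hf₁ (le_sup_right (a := B) hc)).symm
  have hac' : c' * a = a * c' := RootComm.central hFA hc'C' (le_sup_right (a := ⁅B, C⁆) ha)
  have hya : y * a = f₁ * (c * a₂) * f₁⁻¹ := by
    rw [hy, ha₂, hc'c]
    calc c * c' * a = c * (c' * a) := by group
      _ = c * (a * c') := by rw [hac']
      _ = (c * f₁) * (f₁⁻¹ * (a * c') * f₁) * f₁⁻¹ := by group
      _ = (f₁ * c) * (f₁⁻¹ * (a * c') * f₁) * f₁⁻¹ := by rw [hcf₁]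
      _ = f₁ * (c * (f₁⁻¹ * (a * c') * f₁)) * f₁⁻¹ := by group
  obtain ⟨M, hM, hcM⟩ := exists_member hS hA hB hp hC hF hmem hc (Or.inl hc1)
  have hmem' : y * a ∈ Cfsg.conjBy M f₁ := by
    rw [hya, mem_conjBy]
    have : f₁⁻¹ * (f₁ * (c * a₂) * f₁⁻¹) * f₁ = c * a₂ := by group
    rw [this]; exact hcM
  exact RankOne.mul_not_mem_of_centralizes hS hA hB hp hz hy1 ha ha1 (hS.conj_mem M hM f₁) hmem'

end

end RootSpecial
end Cfsg.Agent.Helper25
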