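import Mathlib
import Cfsg.Agent.S5034
import Cfsg.Agent.S5029
import Cfsg.Agent.S5032

set_option autoImplicit false

namespace Cfsg.Agent.Helper25
namespace RootConn

open scoped commutatorElement
open Cfsg

variable {G : Type*} [Group G] {S : Set (Subgroup G)} {A B : Subgroup G}

theorem linePartners_symm (hA : A ∈ S) (hB : B ∈ Cfsg.linePartners S A) :
    A ∈ Cfsg.linePartners S B := by
  obtain ⟨⟨_, hne, hcomm⟩, hpart⟩ := hB
  refine ⟨⟨hA, hne.symm, ?_⟩, ?_⟩
  · rw [Subgroup.commutator_comm]; exact hcomm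
  · rw [sup_comm]; exact hpart

theorem EAdj_symm : Symmetric (Cfsg.EAdj S S) := by
  intro A B h
  exact ⟨h.2.1, h.1, linePartners_symm h.1 h.2.2⟩

theorem reach_symm {A B : Subgroup G} (h : Relation.ReflTransGen (Cfsg.EAdj S S) A B) :
    Relation.ReflTransGen (Cfsg.EAdj S S) B A := by
  induction h with
  | refl => exact Relation.ReflTransGen.refl
  | tail _ hbc ih => exact (Relation.ReflTransGen.single (EAdj_symm hbc)).trans ih

/-- In a class containing a rank one pair every member has a rank one partner. -/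
theorem exists_partner (hS : Cfsg.IsRootSubgroupClass S)
    (hro : ∃ A ∈ S, ∃ B ∈ S, Cfsg.IsRankOnePair A B) (hA : A ∈ S) :
    ∃ D ∈ S, Cfsg.IsRankOnePair A D := by
  obtain ⟨A₀, hA₀, B₀, hB₀, hp⟩ := hro
  obtain ⟨g, rfl⟩ := hS.2.2 A₀ hA₀ A hA
  exact ⟨Cfsg.conjBy B₀ g, hS.1.conj_mem B₀ hB₀ g, RankOne.conj_pair hp g⟩

theorem not_isolated (hS : Cfsg.IsRootSubgroupClass S)
    (hro : ∃ A ∈ S, ∃ B ∈ S, Cfsg.IsRankOnePair A B) (hA : A ∈ S) :
    ¬ Cfsg.IsIsolatedIn (Cfsg.FAdj S) S A := by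
  obtain ⟨D, hD, hp⟩ := exists_partner hS hro hA
  exact Cfsg.Agent.S5032.not_isolated_of_partner hA hD hp

/-- commutator case ⇒ joined in `E(S)`. -/
theorem reach_of_comm_mem (hS : Cfsg.IsRootSubgroupClass S)
    (hro : ∃ A ∈ S, ∃ B ∈ S, Cfsg.IsRankOnePair A B) (hA : A ∈ S) (hB : B ∈ S)
    (hC : ⁅A, B⁆ ∈ S) : Relation.ReflTransGen (Cfsg.EAdj S S) A B := by
  have h1 := (Cfsg.Agent.S5029.result hS.1 (not_isolated hS hro hA) hA hB hC).2.2.1
  have hC' : ⁅B, A⁆ ∈ S := by rw [Subgroup.commutator_comm]; exact hC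
  have h2 := (Cfsg.Agent.S5029.result hS.1 (not_isolated hS hro hB) hB hA hC').2.2.1
  rw [Subgroup.commutator_comm] at h2
  -- A ∈ Λ_C, B ∈ Λ_C
  have e1 : Cfsg.EAdj S S A ⁅A, B⁆ := ⟨hA, hC, linePartners_symm hC h1⟩
  have e2 : Cfsg.EAdj S S ⁅A, B⁆ B := ⟨hC, hB, h2⟩
  exact (Relation.ReflTransGen.single e1).tail e2

/-- rank one pair ⇒ joined in `E(S)`. -/
theorem reach_of_rankOne (hS : Cfsg.IsRootSubgroupClass S) (hnd : Cfsg.IsNondegenerateRootSet S)
    (hA : A ∈ S) (hB : B ∈ S) (hp : Cfsg.IsRankOnePair A B) :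
    Relation.ReflTransGen (Cfsg.EAdj S S) A B := by
  obtain ⟨C, hCl, hCS, hF⟩ := (Cfsg.Agent.S5034.result hS hnd hA ⟨hB, hp⟩).1
  have e1 : Cfsg.EAdj S S A C := ⟨hA, hCS, hCl⟩
  have h2 := reach_of_comm_mem hS hnd.2.1 hB hCS hF
  exact (Relation.ReflTransGen.single e1).trans (reach_symm h2)

/-- non-commuting members are joined in `E(S)`. -/
theorem reach_of_not_commute (hS : Cfsg.IsRootSubgroupClass S)
    (hnd : Cfsg.IsNondegenerateRootSet S) (hA : A ∈ S) (hB : B ∈ S) (hne : ⁅A, B⁆ ≠ ⊥) :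
    Relation.ReflTransGen (Cfsg.EAdj S S) A B := by
  rcases hS.1.pair A hA B hB with h | h | h
  · exact absurd h hne
  · exact reach_of_rankOne hS hnd hA hB h
  · exact reach_of_comm_mem hS hnd.2.1 hA hB h.1

/-- the component of `A` is invariant under conjugation by elements of members of `S`. -/
theorem reach_conj_of_mem (hS : Cfsg.IsRootSubgroupClass S) (hnd : Cfsg.IsNondegenerateRootSet S)
    {C : Subgroup G} (hA : A ∈ S) (hB : B ∈ S) (hC : C ∈ S) {g : G} (hg : g ∈ C)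
    (hAB : Relation.ReflTransGen (Cfsg.EAdj S S) A B) :
    Relation.ReflTransGen (Cfsg.EAdj S S) A (Cfsg.conjBy B g) := by
  by_cases hcomm : ⁅B, C⁆ = ⊥
  · have : Cfsg.conjBy B g = B := by
      apply RankOne.conjBy_eq_of_commute
      intro b hb
      exact (RankOne.commute_of_commutator_eq_bot hcomm hb hg).symm
    rw [this]; exact hAB
  · have h1 := reach_of_not_commute hS hnd hB hC hcomm
    have hne : ⁅Cfsg.conjBy B g, C⁆ ≠ ⊥ := by
      intro h0
      apply hcomm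
      have hCg : Cfsg.conjBy C g = C := conjBy_of_mem hg
      rw [← hCg] at h0
      unfold Cfsg.conjBy at h0
      rw [← Subgroup.map_commutator] at h0
      exact (Subgroup.map_eq_bot_iff_of_injective _ (MulAut.conj g).injective).1 h0
    have h2 := reach_of_not_commute hS hnd (hS.1.conj_mem B hB g) hC hne
    exact (hAB.trans h1).trans (reach_symm h2)

end RootConn
end Cfsg.Agent.Helper25
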