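import Mathlib
import Cfsg.Prelude.Def_RootSubgroups

set_option autoImplicit false

namespace Cfsg.Agent.Helper25
namespace RootInv

variable {G : Type*} [Group G] {D : Set G}

theorem orderOf_conj (g a : G) : orderOf (g * a * g⁻¹) = orderOf a :=
  orderOf_injective (MulAut.conj g).toMonoidHom (MulAut.conj g).injective a

theorem orderOf_mul_comm' (a b : G) : orderOf (a * b) = orderOf (b * a) := by
  have : a * b = a * (b * a) * a⁻¹ := by group
  rw [this, orderOf_conj]

theorem sq (hD : Cfsg.IsRootInvolutionSet D) {d : G} (hd : d ∈ D) : d * d = 1 := by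
  have := hD.orderOf_eq d hd
  have h2 : d ^ 2 = 1 := by rw [← this]; exact pow_orderOf_eq_one d
  rwa [pow_two] at h2

theorem inv_eq (hD : Cfsg.IsRootInvolutionSet D) {d : G} (hd : d ∈ D) : d⁻¹ = d :=
  inv_eq_of_mul_eq_one_left (sq hD hd)

theorem ne_one (hD : Cfsg.IsRootInvolutionSet D) {d : G} (hd : d ∈ D) : d ≠ 1 := by
  rintro rfl
  have := hD.orderOf_eq 1 hd
  simp at this

theorem conj_mem' (hD : Cfsg.IsRootInvolutionSet D) {d x : G} (hd : d ∈ D) (hx : x ∈ D) :
    x * d * x ∈ D := by
  have := hD.conj_mem d hd x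
  rwa [inv_eq hD hx] at this

/-- a product of two members never has order `2k` with `k > 1` odd. -/
theorem no_two_odd (hD : Cfsg.IsRootInvolutionSet D) {u v s r : G} (hu : u ∈ D) (hv : v ∈ D)
    (huv : u * v = s * r) (hc : Commute s r) (hs : orderOf s = 2) (hr : Odd (orderOf r))
    (hr1 : orderOf r ≠ 1) : False := by
  have hco : (orderOf s).Coprime (orderOf r) := by
    rw [hs]
    exact (Nat.coprime_two_left).2 hr
  have ho : orderOf (u * v) = 2 * orderOf r := by
    rw [huv, hc.orderOf_mul_eq_mul_orderOf_of_coprime hco, hs]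
  obtain ⟨m, hm⟩ := hr
  rcases hD.pair u hu v hv with h | h | h
  · have h1 : (u * v) ^ 2 = 1 := by
      rw [pow_two]
      calc u * v * (u * v) = u * (v * u) * v := by group
        _ = u * (u * v) * v := by rw [h]
        _ = (u * u) * (v * v) := by group
        _ = 1 := by rw [sq hD hu, sq hD hv, one_mul]
    have h2 := orderOf_dvd_of_pow_eq_one h1
    rw [ho] at h2
    have := Nat.le_of_dvd (by norm_num) h2
    omega
  · rw [ho] at h
    obtain ⟨j, hj⟩ := h
    omega
  · rw [ho] at h
    omega

theorem sq_mem_of_four (hD : Cfsg.IsRootInvolutionSet D) {a b : G} (ha : a ∈ D) (hb : b ∈ D)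
    (h4 : orderOf (a * b) = 4) : (a * b) ^ 2 ∈ D := by
  rcases hD.pair a ha b hb with h | h | h
  · exfalso
    have h1 : (a * b) ^ 2 = 1 := by
      rw [pow_two]
      calc a * b * (a * b) = a * (b * a) * b := by group
        _ = a * (a * b) * b := by rw [h]
        _ = (a * a) * (b * b) := by group
        _ = 1 := by rw [sq hD ha, sq hD hb, one_mul]
    have h2 := orderOf_dvd_of_pow_eq_one h1
    rw [h4] at h2
    exact absurd h2 (by decide)
  · rw [h4] at h
    exact absurd h (by decide)
  · exact h.2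

/-- for involutions with `(ab)^4 = 1`, `(ab)^2 = (ba)^2`. -/
theorem sq_comm_of_four (hD : Cfsg.IsRootInvolutionSet D) {a b : G} (ha : a ∈ D) (hb : b ∈ D)
    (h4 : orderOf (a * b) = 4) : (a * b) ^ 2 = (b * a) ^ 2 := by
  have h1 : (a * b) ^ 4 = 1 := by rw [← h4]; exact pow_orderOf_eq_one _
  have h2 : b * a = (a * b)⁻¹ := by
    rw [mul_inv_rev, inv_eq hD ha, inv_eq hD hb]
  rw [h2, inv_pow]
  apply eq_inv_of_mul_eq_one_left
  rw [← pow_add]
  exact h1

theorem sq_ne_one_of_four {a : G} (h4 : orderOf a = 4) : a ^ 2 ≠ 1 := by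
  intro h
  have := orderOf_dvd_of_pow_eq_one h
  rw [h4] at this
  exact absurd this (by decide)

theorem sq_sq_of_four {a : G} (h4 : orderOf a = 4) : a ^ 2 * a ^ 2 = 1 := by
  rw [← pow_add]
  have : a ^ orderOf a = 1 := pow_orderOf_eq_one _
  rw [h4] at this
  exact this

/-- Claim 1. -/
theorem not_commute_of_odd (hD : Cfsg.IsRootInvolutionSet D) {d e x : G} (hd : d ∈ D)
    (he : e ∈ Cfsg.productPartners D d) (hx : x ∈ D) (hxd : x ≠ d) (hodd : Odd (orderOf (d * x))) :
    ¬ (x * e = e * x) := by
  obtain ⟨⟨heD, hed, hne⟩, hedD⟩ := he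
  intro hxe
  apply no_two_odd hD hx hedD (s := e) (r := x * d)
  · calc x * (e * d) = (x * e) * d := by group
      _ = (e * x) * d := by rw [hxe]
      _ = e * (x * d) := by group
  · show e * (x * d) = x * d * e
    calc e * (x * d) = (e * x) * d := by group
      _ = (x * e) * d := by rw [hxe]
      _ = x * (e * d) := by group
      _ = x * (d * e) := by rw [hed]
      _ = x * d * e := by group
  · exact hD.orderOf_eq e heD
  · rw [orderOf_mul_comm']
    exact hodd
  · intro h1
    rw [orderOf_eq_one_iff] at h1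
    apply hxd
    have : x = d⁻¹ := eq_inv_of_mul_eq_one_left h1
    rw [this, inv_eq hD hd]

theorem mul_mem_productPartners (hD : Cfsg.IsRootInvolutionSet D) {d e : G} (hd : d ∈ D)
    (he : e ∈ Cfsg.productPartners D d) : e * d ∈ Cfsg.productPartners D d := by
  obtain ⟨⟨heD, hed, hne⟩, hedD⟩ := he
  refine ⟨⟨hedD, ?_, ?_⟩, ?_⟩
  · calc e * d * d = e * (d * d) := by group
      _ = (d * d) * e := by rw [sq hD hd, one_mul, mul_one]
      _ = d * (d * e) := by group
      _ = d * (e * d) := by rw [hed]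
  · intro h
    have : e = 1 := by
      have h2 : e * d = 1 * d := by rw [one_mul]; exact h
      exact mul_right_cancel h2
    exact ne_one hD heD this
  · have : e * d * d = e := by rw [mul_assoc, sq hD hd, mul_one]
    rw [this]
    exact heD

/-- Claim 2. -/
theorem not_both_four (hD : Cfsg.IsRootInvolutionSet D) {d e x : G} (hd : d ∈ D)
    (he : e ∈ Cfsg.productPartners D d) (hx : x ∈ D) (hxd : x ≠ d) (hodd : Odd (orderOf (d * x)))
    (h1 : orderOf (x * e) = 4) (h2 : orderOf (x * (e * d)) = 4) : False := by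
  have hy := mul_mem_productPartners hD hd he
  obtain ⟨⟨heD, hed, hne⟩, hedD⟩ := he
  have hu : (x * e) ^ 2 ∈ D := sq_mem_of_four hD hx heD h1
  have hx₂ : e * x * e ∈ D := conj_mem' hD hx heD
  have hx₄ : d * x * d ∈ D := conj_mem' hD hx hd
  have hee := sq hD heD
  have hdd := sq hD hd
  have hxx := sq hD hx
  -- x commutes with x₂
  have hc1 : x * (e * x * e) = (e * x * e) * x := by
    have := sq_comm_of_four hD hx heD h1
    rw [pow_two, pow_two] at this
    calc x * (e * x * e) = x * e * (x * e) := by group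
      _ = e * x * (e * x) := this
      _ = (e * x * e) * x := by group
  -- x₂ x₄ is an involution
  have hyy : (x * (e * d)) ^ 2 * (x * (e * d)) ^ 2 = 1 := sq_sq_of_four h2
  have hde : d = e * d * e := by
    calc d = d * (e * e) := by rw [hee, mul_one]
      _ = (d * e) * e := by group
      _ = e * d * e := by rw [← hed]
  have h24 : (e * x * e) * (d * x * d) = e * (x * (e * d)) ^ 2 * e := by
    rw [pow_two]
    calc (e * x * e) * (d * x * d) = e * x * (e * d) * x * d := by group
      _ = e * x * (e * d) * x * (e * d * e) := by rw [← hde]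
      _ = e * (x * (e * d) * (x * (e * d))) * e := by group
  have h24sq : ((e * x * e) * (d * x * d)) * ((e * x * e) * (d * x * d)) = 1 := by
    rw [h24]
    calc e * (x * (e * d)) ^ 2 * e * (e * (x * (e * d)) ^ 2 * e)
        = e * (x * (e * d)) ^ 2 * (e * e) * (x * (e * d)) ^ 2 * e := by group
      _ = e * ((x * (e * d)) ^ 2 * (x * (e * d)) ^ 2) * e := by rw [hee]; group
      _ = 1 := by rw [hyy, mul_one, hee]
  have hc2 : (e * x * e) * (d * x * d) = (d * x * d) * (e * x * e) := by
    have hi2 : (e * x * e)⁻¹ = e * x * e := inv_eq hD hx₂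
    have hi4 : (d * x * d)⁻¹ = d * x * d := inv_eq hD hx₄
    have : ((e * x * e) * (d * x * d))⁻¹ = (e * x * e) * (d * x * d) :=
      inv_eq_of_mul_eq_one_left h24sq
    rw [mul_inv_rev, hi2, hi4] at this
    exact this.symm
  have hxx4 : x * (d * x * d) = (x * d) ^ 2 := by
    rw [pow_two]; group
  have hoddxd : Odd (orderOf (x * d)) := by rw [orderOf_mul_comm']; exact hodd
  have hord : orderOf (x * (d * x * d)) = orderOf (x * d) := by
    rw [hxx4]
    exact Nat.Coprime.orderOf_pow ((Nat.coprime_two_right).2 hoddxd)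
  apply no_two_odd hD hu hx₄ (s := e * x * e) (r := x * (d * x * d))
  · rw [pow_two]
    calc x * e * (x * e) * (d * x * d) = (x * (e * x * e)) * (d * x * d) := by group
      _ = ((e * x * e) * x) * (d * x * d) := by rw [hc1]
      _ = e * x * e * (x * (d * x * d)) := by group
  · show e * x * e * (x * (d * x * d)) = x * (d * x * d) * (e * x * e)
    calc e * x * e * (x * (d * x * d)) = ((e * x * e) * x) * (d * x * d) := by group
      _ = (x * (e * x * e)) * (d * x * d) := by rw [hc1]
      _ = x * ((e * x * e) * (d * x * d)) := by group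
      _ = x * ((d * x * d) * (e * x * e)) := by rw [hc2]
      _ = x * (d * x * d) * (e * x * e) := by group
  · exact hD.orderOf_eq _ hx₂
  · rw [hord]; exact hoddxd
  · rw [hord]
    intro h
    rw [orderOf_eq_one_iff] at h
    apply hxd
    have : x = d⁻¹ := eq_inv_of_mul_eq_one_left h
    rw [this, inv_eq hD hd]

theorem oddAdj_symm {a b : G} (h : Cfsg.OddAdj D a b) : Cfsg.OddAdj D b a :=
  ⟨h.2.1, h.1, h.2.2.1.symm, by rw [orderOf_mul_comm']; exact h.2.2.2⟩

/-- **Lemma A.** A neighbour of `d` is a neighbour of `e` or of `e d` for `e ∈ X_d`. -/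
theorem lemmaA (hD : Cfsg.IsRootInvolutionSet D) {d e x : G}
    (he : e ∈ Cfsg.productPartners D d) (hx : Cfsg.OddAdj D d x) :
    Cfsg.OddAdj D x e ∨ Cfsg.OddAdj D x (e * d) := by
  obtain ⟨hd, hxD, hdx, hodd⟩ := hx
  have hy := mul_mem_productPartners hD hd he
  have hn1 := not_commute_of_odd hD hd he hxD hdx.symm hodd
  have hn2 := not_commute_of_odd hD hd hy hxD hdx.symm hodd
  have heD : e ∈ D := he.1.1
  have hyD : e * d ∈ D := he.2
  have hxe : x ≠ e := by
    rintro rfl
    exact hn1 rfl
  have hxy : x ≠ e * d := by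
    intro h
    apply hn2
    rw [← h]
  rcases hD.pair x hxD e heD with h | h | h
  · exact absurd h hn1
  · exact Or.inl ⟨hxD, heD, hxe, h⟩
  · rcases hD.pair x hxD (e * d) hyD with h' | h' | h'
    · exact absurd h' hn2
    · exact Or.inr ⟨hxD, hyD, hxy, h'⟩
    · exact (not_both_four hD hd he hxD hdx.symm hodd h.1 h'.1).elim

end RootInv
end Cfsg.Agent.Helper25
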