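import Mathlib
import Cfsg.Prelude.Def_RootSubgroups
import Cfsg.Prelude.Def_Solvable
import Cfsg.Agent.Lib.Helper25.RootInv1
import Cfsg.Agent.S0199

set_option autoImplicit false

namespace Cfsg.Agent.Helper25
namespace RootInv

variable {G : Type*} [Group G] {D : Set G}

/-- the isolated vertices of the odd graph. -/
def isolated (D : Set G) : Set G := {w | Cfsg.IsIsolatedElem (Cfsg.OddAdj D) D w}

theorem oddAdj_conj (hD : Cfsg.IsRootInvolutionSet D) {a b : G} (h : Cfsg.OddAdj D a b) (g : G) :
    Cfsg.OddAdj D (g * a * g⁻¹) (g * b * g⁻¹) := by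
  refine ⟨hD.conj_mem a h.1 g, hD.conj_mem b h.2.1 g, ?_, ?_⟩
  · intro h1
    apply h.2.2.1
    have := congrArg (fun x => g⁻¹ * x * g) h1
    simpa [mul_assoc] using this
  · have : g * a * g⁻¹ * (g * b * g⁻¹) = g * (a * b) * g⁻¹ := by group
    rw [this, orderOf_conj]
    exact h.2.2.2

theorem isolated_conj (hD : Cfsg.IsRootInvolutionSet D) {w : G} (hw : w ∈ isolated D) (g : G) :
    g * w * g⁻¹ ∈ isolated D := by
  refine ⟨hD.conj_mem w hw.1 g, fun b => ⟨?_, ?_⟩⟩
  · intro h
    have := oddAdj_conj hD h g⁻¹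
    rw [inv_inv] at this
    have e : g⁻¹ * (g * w * g⁻¹) * g = w := by group
    rw [e] at this
    exact (hw.2 _).1 this
  · intro h
    have := oddAdj_conj hD h g⁻¹
    rw [inv_inv] at this
    have e : g⁻¹ * (g * w * g⁻¹) * g = w := by group
    rw [e] at this
    exact (hw.2 _).2 this

theorem closure_normal {S : Set G} (h : ∀ s ∈ S, ∀ g : G, g * s * g⁻¹ ∈ S) :
    (Subgroup.closure S).Normal := by
  constructor
  intro n hn g
  induction hn using Subgroup.closure_induction with
  | mem x hx => exact Subgroup.subset_closure (h x hx g)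
  | one => simp
  | mul x y _ _ hx hy =>
    have : g * (x * y) * g⁻¹ = (g * x * g⁻¹) * (g * y * g⁻¹) := by group
    rw [this]; exact mul_mem hx hy
  | inv x _ hx =>
    have : g * x⁻¹ * g⁻¹ = (g * x * g⁻¹)⁻¹ := by group
    rw [this]; exact inv_mem hx

theorem zpowers_isPGroup {r : G} {k : ℕ} (hr : r ^ (2 ^ k) = 1) :
    IsPGroup 2 (Subgroup.zpowers r) := by
  rintro ⟨x, hx⟩
  obtain ⟨i, rfl⟩ := Subgroup.mem_zpowers_iff.1 hx
  refine ⟨k, ?_⟩
  apply Subtype.ext
  show (r ^ i) ^ (2 ^ k) = 1
  rw [← zpow_natCast, ← zpow_mul, mul_comm, zpow_mul, zpow_natCast, hr, one_zpow]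

/-- two involutions whose product has 2-power order generate a 2-group. -/
theorem two_group_of_involutions {a b : G} (ha : a * a = 1) (hb : b * b = 1) {k : ℕ}
    (hab : (a * b) ^ (2 ^ k) = 1) : IsPGroup 2 ↥(Subgroup.zpowers a ⊔ Subgroup.zpowers b) := by
  have hH : IsPGroup 2 (Subgroup.zpowers (a * b)) := zpowers_isPGroup hab
  have hK : IsPGroup 2 (Subgroup.zpowers a) := zpowers_isPGroup (k := 1) (by rw [pow_one, pow_two, ha])
  have hainv : a⁻¹ = a := inv_eq_of_mul_eq_one_left ha
  have hbinv : b⁻¹ = b := inv_eq_of_mul_eq_one_left hb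
  have hnorm : Subgroup.zpowers a ≤ Subgroup.normalizer (Subgroup.zpowers (a * b) : Set G) := by
    rw [Subgroup.zpowers_le]
    rw [Subgroup.mem_normalizer_iff]
    have key : ∀ h : G, h ∈ Subgroup.zpowers (a * b) → a * h * a⁻¹ ∈ Subgroup.zpowers (a * b) := by
      intro h hh
      obtain ⟨i, rfl⟩ := Subgroup.mem_zpowers_iff.1 hh
      have : a * (a * b) ^ i * a⁻¹ = ((a * b)⁻¹) ^ i := by
        have h1 : a * (a * b) ^ i * a⁻¹ = (a * (a * b) * a⁻¹) ^ i := by
          rw [← MulAut.conj_apply, map_zpow, MulAut.conj_apply]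
        rw [h1]
        congr 1
        rw [mul_inv_rev, hainv, hbinv]
        calc a * (a * b) * a = (a * a) * b * a := by group
          _ = b * a := by rw [ha, one_mul]
      rw [this, inv_zpow]
      exact inv_mem (Subgroup.zpow_mem_zpowers _ _)
    intro h
    constructor
    · exact key h
    · intro hh
      have := key _ hh
      have e : a * (a * h * a⁻¹) * a⁻¹ = h := by
        rw [hainv]
        calc a * (a * h * a) * a = (a * a) * h * (a * a) := by group
          _ = h := by rw [ha, one_mul, mul_one]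
      rwa [e] at this
  have hsup := IsPGroup.to_sup_of_normal_left' hH hK hnorm
  apply hsup.to_le
  apply sup_le
  · exact le_sup_right
  · rw [Subgroup.zpowers_le]
    have hb' : a⁻¹ * (a * b) ∈ Subgroup.zpowers (a * b) ⊔ Subgroup.zpowers a :=
      mul_mem (inv_mem (Subgroup.mem_sup_right (Subgroup.mem_zpowers a)))
        (Subgroup.mem_sup_left (Subgroup.mem_zpowers _))
    rwa [inv_mul_cancel_left] at hb'

theorem commute_sq (hD : Cfsg.IsRootInvolutionSet D) {a b : G} (ha : a ∈ D) (hb : b ∈ D)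
    (h : a * b = b * a) : (a * b) ^ 2 = 1 := by
  rw [pow_two]
  calc a * b * (a * b) = a * (b * a) * b := by group
    _ = a * (a * b) * b := by rw [h]
    _ = (a * a) * (b * b) := by group
    _ = 1 := by rw [sq hD ha, sq hD hb, one_mul]

theorem isolated_le_pCore [Finite G] (hD : Cfsg.IsRootInvolutionSet D) {w : G}
    (hw : w ∈ isolated D) : w ∈ Cfsg.pCore 2 G := by
  have hwD := hw.1
  have key : ∀ g : G, IsPGroup 2 ↥(Subgroup.zpowers w ⊔
      (Subgroup.zpowers w).map (MulAut.conj g).toMonoidHom) := by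
    intro g
    rw [MonoidHom.map_zpowers]
    have hw'D : g * w * g⁻¹ ∈ D := hD.conj_mem w hwD g
    have h4 : (w * (g * w * g⁻¹)) ^ (2 ^ 2) = 1 := by
      rcases hD.pair w hwD _ hw'D with h | h | h
      · have := commute_sq hD hwD hw'D h
        rw [show (2 : ℕ) ^ 2 = 2 * 2 from rfl, pow_mul, this, one_pow]
      · by_cases hne : w = g * w * g⁻¹
        · rw [← hne, sq hD hwD, one_pow]
        · exact absurd ⟨hwD, hw'D, hne, h⟩ (hw.2 _).1
      · have := pow_orderOf_eq_one (w * (g * w * g⁻¹))
        rw [h.1] at this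
        exact this
    exact two_group_of_involutions (sq hD hwD) (sq hD hw'D) h4
  obtain ⟨N, hN, hNp, hle⟩ := Cfsg.Agent.S0199.result (p := 2) (Subgroup.zpowers w)
    (zpowers_isPGroup (k := 1) (by rw [pow_one, pow_two, sq hD hwD])) key
  have : N ≤ Cfsg.pCore 2 G := le_sSup ⟨hN, hNp⟩
  exact this (hle (Subgroup.mem_zpowers w))

theorem closure_isolated_isPGroup [Finite G] (hD : Cfsg.IsRootInvolutionSet D) :
    IsPGroup 2 ↥(Subgroup.closure (isolated D)) := by
  have h1 : IsPGroup 2 ↥(Cfsg.pCore 2 G) :=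
    Sylow.sSup_of_normal _ (fun _ h => h.2) (fun _ h => h.1)
  apply h1.to_le
  rw [Subgroup.closure_le]
  intro w hw
  exact isolated_le_pCore hD hw

/-- a member of `D` inside a normal 2-subgroup is isolated. -/
theorem isolated_of_mem_normal (hD : Cfsg.IsRootInvolutionSet D) {Q : Subgroup G} (hQn : Q.Normal)
    (hQ : IsPGroup 2 Q) {d : G} (hd : d ∈ D) (hdQ : d ∈ Q) : d ∈ isolated D := by
  have key : ∀ b, ¬ Cfsg.OddAdj D d b := by
    rintro b ⟨_, hbD, hdb, hodd⟩
    have h1 : (d * b) ^ 2 ∈ Q := by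
      have : (d * b) ^ 2 = d * (b * d * b⁻¹) := by
        rw [pow_two, inv_eq hD hbD]; group
      rw [this]
      exact mul_mem hdQ (hQn.conj_mem d hdQ b)
    obtain ⟨k, hk⟩ := hQ ⟨_, h1⟩
    have hk' : ((d * b) ^ 2) ^ (2 ^ k) = 1 := congrArg Subtype.val hk
    rw [← pow_mul, ← pow_succ'] at hk'
    have h2 := orderOf_dvd_of_pow_eq_one hk'
    have h3 : orderOf (d * b) = 1 := by
      have hco : (orderOf (d * b)).Coprime (2 ^ (k + 1)) :=
        Nat.Coprime.pow_right _ ((Nat.coprime_two_right).2 hodd)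
      exact Nat.eq_one_of_dvd_coprimes hco (dvd_refl _) h2
    rw [orderOf_eq_one_iff] at h3
    apply hdb
    have : d = b⁻¹ := eq_inv_of_mul_eq_one_left h3
    rw [this, inv_eq hD hbD]
  refine ⟨hd, fun b => ⟨key b, fun h => key b (oddAdj_symm h)⟩⟩

theorem closure_inter [Finite G] (hD : Cfsg.IsRootInvolutionSet D) :
    (Subgroup.closure (isolated D) : Set G) ∩ D = isolated D := by
  ext d
  constructor
  · rintro ⟨hdQ, hd⟩
    exact isolated_of_mem_normal hD (closure_normal (fun s hs g => isolated_conj hD hs g))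
      (closure_isolated_isPGroup hD) hd hdQ
  · intro hd
    exact ⟨Subgroup.subset_closure hd, hd.1⟩

/-! ### components -/

theorem reach_symm {a b : G} (h : Relation.ReflTransGen (Cfsg.OddAdj D) a b) :
    Relation.ReflTransGen (Cfsg.OddAdj D) b a := by
  induction h with
  | refl => exact Relation.ReflTransGen.refl
  | tail _ hbc ih => exact Relation.ReflTransGen.head (oddAdj_symm hbc) ih

theorem comp_eq_of_reach {a b : G} (h : Relation.ReflTransGen (Cfsg.OddAdj D) a b) :
    Cfsg.elemComponentOf (Cfsg.OddAdj D) D a = Cfsg.elemComponentOf (Cfsg.OddAdj D) D b := by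
  ext y
  constructor
  · rintro ⟨hy, hay⟩
    exact ⟨hy, (reach_symm h).trans hay⟩
  · rintro ⟨hy, hby⟩
    exact ⟨hy, h.trans hby⟩

theorem exists_adj_of_nontrivial {a : G}
    (h : ∃ a' ∈ Cfsg.elemComponentOf (Cfsg.OddAdj D) D a, a' ≠ a) : ∃ x, Cfsg.OddAdj D a x := by
  obtain ⟨a', ⟨_, hr⟩, hne⟩ := h
  rcases Relation.ReflTransGen.cases_head hr with h1 | ⟨c, hc, _⟩
  · exact absurd h1.symm hne
  · exact ⟨c, hc⟩

/-- `X_a ⊆ comp(a) ∪ W` for non-isolated `a`. -/
theorem productPartners_subset (hD : Cfsg.IsRootInvolutionSet D) {a : G} (ha : a ∈ D)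
    (hna : ∃ x, Cfsg.OddAdj D a x) :
    Cfsg.productPartners D a ⊆ Cfsg.elemComponentOf (Cfsg.OddAdj D) D a ∪ isolated D := by
  intro e he
  obtain ⟨x, hx⟩ := hna
  have heD : e ∈ D := he.1.1
  by_cases hW : e ∈ isolated D
  · exact Or.inr hW
  left
  refine ⟨heD, ?_⟩
  rcases lemmaA hD he hx with h1 | h1
  · exact (Relation.ReflTransGen.single hx).tail h1
  · -- e is not isolated
    have : ∃ c, Cfsg.OddAdj D e c := by
      by_contra hcon
      push Not at hcon
      exact hW ⟨heD, fun b => ⟨hcon b, fun h => hcon b (oddAdj_symm h)⟩⟩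
    obtain ⟨c, hc⟩ := this
    have ha' : a ∈ Cfsg.productPartners D e := by
      obtain ⟨⟨_, hea, hne⟩, heaD⟩ := he
      refine ⟨⟨ha, hea.symm, hne.symm⟩, ?_⟩
      rw [← hea]; exact heaD
    have hea : e * a = a * e := he.1.2.1
    rcases lemmaA hD ha' hc with h2 | h2
    · exact (Relation.ReflTransGen.single (oddAdj_symm h2)).tail (oddAdj_symm hc)
    · rw [← hea] at h2
      exact (((Relation.ReflTransGen.single hx).tail h1).tail (oddAdj_symm h2)).tail (oddAdj_symm hc)

/-- commutators of members in different nontrivial components lie in `⟨W⟩`. -/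
theorem commutator_mem (hD : Cfsg.IsRootInvolutionSet D) {a b : G} (ha : a ∈ D) (hb : b ∈ D)
    (hna : ∃ x, Cfsg.OddAdj D a x) (hnb : ∃ x, Cfsg.OddAdj D b x)
    (hne : Cfsg.elemComponentOf (Cfsg.OddAdj D) D a ≠ Cfsg.elemComponentOf (Cfsg.OddAdj D) D b) :
    a * b * a⁻¹ * b⁻¹ ∈ Subgroup.closure (isolated D) := by
  rw [inv_eq hD ha, inv_eq hD hb]
  rcases hD.pair a ha b hb with h | h | h
  · have := commute_sq hD ha hb h
    rw [pow_two] at this
    have e : a * b * a * b = a * b * (a * b) := by group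
    rw [e, this]
    exact one_mem _
  · exfalso
    apply hne
    by_cases hab : a = b
    · rw [hab]
    · exact comp_eq_of_reach (Relation.ReflTransGen.single ⟨ha, hb, hab, h⟩)
  · have hz : (a * b) ^ 2 ∈ D := h.2
    have e : a * b * a * b = (a * b) ^ 2 := by rw [pow_two]; group
    rw [e]
    apply Subgroup.subset_closure
    -- z ∈ X_a and z ∈ X_b
    have hzz : (a * b) ^ 2 * (a * b) ^ 2 = 1 := sq_sq_of_four h.1
    have hza : (a * b) ^ 2 * a = b * a * b := by
      rw [pow_two]
      calc a * b * (a * b) * a = a * (b * a * b) * a := by group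
        _ = a * (b * a * b) * a * ((b * a * b) * (b * a * b)) := by
            rw [sq hD (conj_mem' hD ha hb), mul_one]
        _ = (a * b * (a * b)) * (a * b * (a * b)) * (b * a * b) := by group
        _ = b * a * b := by
            rw [pow_two] at hzz
            rw [hzz, one_mul]
    have haz : a * (a * b) ^ 2 = b * a * b := by
      rw [pow_two]
      calc a * (a * b * (a * b)) = (a * a) * (b * a * b) := by group
        _ = b * a * b := by rw [sq hD ha, one_mul]
    have hzb : (a * b) ^ 2 * b = a * b * a := by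
      rw [pow_two]
      calc a * b * (a * b) * b = a * b * a * (b * b) := by group
        _ = a * b * a := by rw [sq hD hb, mul_one]
    have hbz : b * (a * b) ^ 2 = a * b * a := by
      rw [sq_comm_of_four hD ha hb h.1, pow_two]
      calc b * (b * a * (b * a)) = (b * b) * (a * b * a) := by group
        _ = a * b * a := by rw [sq hD hb, one_mul]
    have hXa : (a * b) ^ 2 ∈ Cfsg.productPartners D a := by
      refine ⟨⟨hz, by rw [hza, haz], ?_⟩, by rw [hza]; exact conj_mem' hD ha hb⟩
      intro h1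
      have h2 : b * a * b = 1 := by rw [← haz, h1, sq hD ha]
      have h3 : a = 1 := by
        have : a = b * (b * a * b) * b := by
          calc a = (b * b) * a * (b * b) := by rw [sq hD hb, one_mul, mul_one]
            _ = b * (b * a * b) * b := by group
        rw [this, h2, mul_one, sq hD hb]
      exact ne_one hD ha h3
    have hXb : (a * b) ^ 2 ∈ Cfsg.productPartners D b := by
      refine ⟨⟨hz, by rw [hzb, hbz], ?_⟩, by rw [hzb]; exact conj_mem' hD hb ha⟩
      intro h1
      have h2 : a * b * a = 1 := by rw [← hbz, h1, sq hD hb]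
      have h3 : b = 1 := by
        have : b = a * (a * b * a) * a := by
          calc b = (a * a) * b * (a * a) := by rw [sq hD ha, one_mul, mul_one]
            _ = a * (a * b * a) * a := by group
        rw [this, h2, mul_one, sq hD ha]
      exact ne_one hD hb h3
    rcases productPartners_subset hD ha hna hXa with h1 | h1
    · rcases productPartners_subset hD hb hnb hXb with h2 | h2
      · exfalso
        apply hne
        rw [comp_eq_of_reach h1.2, comp_eq_of_reach h2.2]
      · exact h2
    · exact h1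

end RootInv
end Cfsg.Agent.Helper25
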