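import Mathlib
import Cfsg.Prelude.Def_RootSubgroups
import Cfsg.Prelude.Def_QuasithinSetup
import Cfsg.Agent.Lib.Helper25.RootInv2
import Cfsg.Agent.Lib.Helper9.PCoreSub

set_option autoImplicit false

namespace Cfsg.Agent.Helper25
namespace RootInv

variable {G : Type*} [Group G] {D : Set G}

/-- two members with product of odd order are conjugate. -/
theorem conj_of_oddAdj (hD : Cfsg.IsRootInvolutionSet D) {a b : G} (h : Cfsg.OddAdj D a b) :
    ∃ g : G, b = g * a * g⁻¹ := by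
  obtain ⟨ha, hb, _, m, hm⟩ := h
  have hr : (a * b) ^ (2 * m + 1) = 1 := by rw [← hm]; exact pow_orderOf_eq_one _
  have h2 : ((a * b) ^ m)⁻¹ = a * (a * b) ^ m * a := by
    have e1 : a * (a * b) ^ m * a⁻¹ = (a * (a * b) * a⁻¹) ^ m := by
      rw [← MulAut.conj_apply, map_pow, MulAut.conj_apply]
    rw [inv_eq hD ha] at e1
    rw [e1]
    have : a * (a * b) * a = (a * b)⁻¹ := by
      rw [mul_inv_rev, inv_eq hD ha, inv_eq hD hb]
      calc a * (a * b) * a = (a * a) * b * a := by group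
        _ = b * a := by rw [sq hD ha, one_mul]
    rw [this, inv_pow]
  refine ⟨(a * b) ^ m, ?_⟩
  rw [h2]
  have e2 : (a * b) ^ m * a * (a * (a * b) ^ m * a) = (a * b) ^ (2 * m) * a := by
    calc (a * b) ^ m * a * (a * (a * b) ^ m * a)
        = (a * b) ^ m * (a * a) * (a * b) ^ m * a := by group
      _ = (a * b) ^ m * (a * b) ^ m * a := by rw [sq hD ha, mul_one]
      _ = (a * b) ^ (2 * m) * a := by rw [← pow_add, two_mul]
  rw [e2]
  have h3 : (a * b) ^ (2 * m) = (a * b)⁻¹ := by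
    apply eq_inv_of_mul_eq_one_left
    rw [← pow_succ]
    exact hr
  rw [h3, mul_inv_rev, inv_eq hD ha, inv_eq hD hb, mul_assoc, sq hD ha, mul_one]

theorem conj_of_reach (hD : Cfsg.IsRootInvolutionSet D) {a b : G}
    (h : Relation.ReflTransGen (Cfsg.OddAdj D) a b) : ∃ g : G, b = g * a * g⁻¹ := by
  induction h with
  | refl => exact ⟨1, by group⟩
  | tail _ hbc ih =>
    obtain ⟨g, rfl⟩ := ih
    obtain ⟨g', hg'⟩ := conj_of_oddAdj hD hbc
    exact ⟨g' * g, by rw [hg']; group⟩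

theorem productPartners_conj (hD : Cfsg.IsRootInvolutionSet D) {d e : G}
    (he : e ∈ Cfsg.productPartners D d) (g : G) :
    g * e * g⁻¹ ∈ Cfsg.productPartners D (g * d * g⁻¹) := by
  obtain ⟨⟨heD, hed, hne⟩, hedD⟩ := he
  refine ⟨⟨hD.conj_mem e heD g, ?_, ?_⟩, ?_⟩
  · calc g * e * g⁻¹ * (g * d * g⁻¹) = g * (e * d) * g⁻¹ := by group
      _ = g * (d * e) * g⁻¹ := by rw [hed]
      _ = g * d * g⁻¹ * (g * e * g⁻¹) := by group
  · intro h
    apply hne
    have := congrArg (fun x => g⁻¹ * x * g) h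
    simpa [mul_assoc] using this
  · have : g * e * g⁻¹ * (g * d * g⁻¹) = g * (e * d) * g⁻¹ := by group
    rw [this]
    exact hD.conj_mem _ hedD g

theorem exists_productPartner (hD : Cfsg.IsRootInvolutionSet D)
    (hc : Cfsg.IsConnectedSet (Cfsg.OddAdj D) D)
    (hDD : (D ∩ Cfsg.commutingProducts D).Nonempty) {d : G} (hd : d ∈ D) :
    ∃ e, e ∈ Cfsg.productPartners D d := by
  obtain ⟨y, hyD, a, ha, b, hb, hab, hab1, rfl⟩ := hDD
  have hb' : b ∈ Cfsg.productPartners D a := by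
    refine ⟨⟨hb, hab.symm, ?_⟩, by rw [← hab]; exact hyD⟩
    rintro rfl
    exact hab1 (sq hD hb)
  obtain ⟨g, rfl⟩ := conj_of_reach hD (hc a ha d hd)
  exact ⟨_, productPartners_conj hD hb' g⟩

theorem eq_one_of_pow_odd_of_sq {H : Type*} [Group H] {y : H} {k : ℕ} (hk : Odd k)
    (h1 : y ^ k = 1) (h2 : y ^ 2 = 1) : y = 1 := by
  obtain ⟨j, rfl⟩ := hk
  rw [pow_succ, pow_mul, h2, one_pow, one_mul] at h1
  exact h1

/-- modulo a normal subgroup missing `D`, no conjugate under it is an odd neighbour. -/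
theorem not_oddAdj_conj_normal (hD : Cfsg.IsRootInvolutionSet D) {N : Subgroup G} [hN : N.Normal]
    (hND : ∀ d ∈ D, d ∉ N) {d e : G} (he : e ∈ Cfsg.productPartners D d) {n : G} (hn : n ∈ N) :
    ¬ Cfsg.OddAdj D d (n * d * n⁻¹) := by
  intro hadj
  have hd : d ∈ D := hadj.1
  obtain ⟨⟨heD, hed, hne⟩, hedD⟩ := he
  have hπ : (QuotientGroup.mk' N) (n * d * n⁻¹) = (QuotientGroup.mk' N) d := by
    rw [QuotientGroup.mk'_apply, QuotientGroup.mk'_apply, QuotientGroup.eq]
    have : (n * d * n⁻¹)⁻¹ * d = n * (d⁻¹ * n⁻¹ * d⁻¹⁻¹) := by group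
    rw [this]
    exact N.mul_mem hn (hN.conj_mem _ (N.inv_mem hn) _)
  rcases lemmaA hD ⟨⟨heD, hed, hne⟩, hedD⟩ hadj with h | h
  · have h1 : ((QuotientGroup.mk' N) (d * e)) ^ orderOf (n * d * n⁻¹ * e) = 1 := by
      rw [map_mul, ← hπ, ← map_mul, ← map_pow, pow_orderOf_eq_one, map_one]
    have h2 : ((QuotientGroup.mk' N) (d * e)) ^ 2 = 1 := by
      rw [← map_pow, commute_sq hD hd heD hed.symm, map_one]
    have h3 := eq_one_of_pow_odd_of_sq h.2.2.2 h1 h2
    rw [QuotientGroup.mk'_apply, QuotientGroup.eq_one_iff] at h3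
    rw [← hed] at h3
    exact hND _ hedD h3
  · have h0 : (QuotientGroup.mk' N) (n * d * n⁻¹ * (e * d)) = (QuotientGroup.mk' N) e := by
      rw [map_mul, hπ, ← map_mul]
      congr 1
      calc d * (e * d) = d * (d * e) := by rw [hed]
        _ = (d * d) * e := by group
        _ = e := by rw [sq hD hd, one_mul]
    have h1 : ((QuotientGroup.mk' N) e) ^ orderOf (n * d * n⁻¹ * (e * d)) = 1 := by
      rw [← h0, ← map_pow, pow_orderOf_eq_one, map_one]
    have h2 : ((QuotientGroup.mk' N) e) ^ 2 = 1 := by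
      rw [← map_pow, pow_two, sq hD heD, map_one]
    have h3 := eq_one_of_pow_odd_of_sq h.2.2.2 h1 h2
    rw [QuotientGroup.mk'_apply, QuotientGroup.eq_one_iff] at h3
    exact hND _ heD h3

/-- the product of `d` with an `N`-conjugate has order dividing 4. -/
theorem pow_four_conj_normal (hD : Cfsg.IsRootInvolutionSet D) {N : Subgroup G} [hN : N.Normal]
    (hND : ∀ d ∈ D, d ∉ N) {d e : G} (he : e ∈ Cfsg.productPartners D d) (hd : d ∈ D)
    {n : G} (hn : n ∈ N) : (d * (n * d * n⁻¹)) ^ (2 ^ 2) = 1 := by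
  have hx : n * d * n⁻¹ ∈ D := hD.conj_mem d hd n
  rcases hD.pair d hd _ hx with h | h | h
  · have := commute_sq hD hd hx h
    rw [show (2 : ℕ) ^ 2 = 2 * 2 from rfl, pow_mul, this, one_pow]
  · by_cases hne : d = n * d * n⁻¹
    · rw [← hne, sq hD hd, one_pow]
    · exact absurd ⟨hd, hx, hne, h⟩ (not_oddAdj_conj_normal hD hND he hn)
  · have := pow_orderOf_eq_one (d * (n * d * n⁻¹))
    rw [h.1] at this
    exact this

end RootInv
end Cfsg.Agent.Helper25
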