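import Mathlib
import Cfsg.Prelude.Def_RootSubgroups
import Cfsg.Prelude.Def_QuasithinSetup
import Cfsg.Agent.Lib.Helper25.RootInv3

set_option autoImplicit false

namespace Cfsg.Agent.Helper25
namespace RootInv

variable {G : Type*} [Group G] {D : Set G}

/-- commutators of a proper normal subgroup with `D` lie in `O₂(G)`. -/
theorem comm_mem_pCore [Finite G] (hD : Cfsg.IsRootInvolutionSet D) {N : Subgroup G}
    [hN : N.Normal] (hND : ∀ d ∈ D, d ∉ N) {d e : G} (he : e ∈ Cfsg.productPartners D d)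
    (hd : d ∈ D) {n : G} (hn : n ∈ N) : n * d * n⁻¹ * d⁻¹ ∈ Cfsg.pCore 2 G := by
  set H : Subgroup G := N ⊔ Subgroup.zpowers d with hH
  have hdH : d ∈ H := Subgroup.mem_sup_right (Subgroup.mem_zpowers d)
  have hNH : N ≤ H := le_sup_left
  -- conjugates of `d` under `H`
  have key : ∀ g ∈ H, ∃ n₁ ∈ N, g * d * g⁻¹ = n₁ * d * n₁⁻¹ := by
    intro g hg
    obtain ⟨y, hy, z, hz, rfl⟩ := Subgroup.mem_sup_of_normal_left.1 hg
    refine ⟨y, hy, ?_⟩
    obtain ⟨i, rfl⟩ := Subgroup.mem_zpowers_iff.1 hz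
    have hc : d ^ i * d = d * d ^ i := by
      rw [← zpow_add_one, ← zpow_one_add, add_comm]
    calc y * d ^ i * d * (y * d ^ i)⁻¹ = y * (d ^ i * d) * (d ^ i)⁻¹ * y⁻¹ := by group
      _ = y * (d * d ^ i) * (d ^ i)⁻¹ * y⁻¹ := by rw [hc]
      _ = y * d * y⁻¹ := by group
  -- Baer–Suzuki inside `H`
  have hBS : ∀ g' : ↥H, IsPGroup 2 ↥(Subgroup.zpowers (⟨d, hdH⟩ : ↥H) ⊔
      (Subgroup.zpowers (⟨d, hdH⟩ : ↥H)).map (MulAut.conj g').toMonoidHom) := by
    intro g'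
    rw [MonoidHom.map_zpowers]
    obtain ⟨n₁, hn₁, hg⟩ := key g' g'.2
    apply two_group_of_involutions (k := 2)
    · apply Subtype.ext
      exact sq hD hd
    · apply Subtype.ext
      show (g' : G) * d * (g' : G)⁻¹ * ((g' : G) * d * (g' : G)⁻¹) = 1
      rw [hg]
      exact sq hD (hD.conj_mem d hd n₁)
    · apply Subtype.ext
      show (d * ((g' : G) * d * (g' : G)⁻¹)) ^ (2 ^ 2) = 1
      rw [hg]
      exact pow_four_conj_normal hD hND he hd hn₁
  obtain ⟨Q, hQn, hQp, hle⟩ := Cfsg.Agent.S0199.result (p := 2)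
    (Subgroup.zpowers (⟨d, hdH⟩ : ↥H))
    (zpowers_isPGroup (k := 1) (by
      rw [pow_one, pow_two]
      apply Subtype.ext
      exact sq hD hd)) hBS
  have hdQ : (⟨d, hdH⟩ : ↥H) ∈ Q := hle (Subgroup.mem_zpowers _)
  -- pull back to `N`
  set R : Subgroup ↥N := Q.comap (Subgroup.inclusion hNH) with hR
  have hRn : R.Normal := hQn.comap _
  have hRp : IsPGroup 2 R :=
    hQp.comap_of_injective _ (Subgroup.inclusion_injective hNH)
  have hcN : n * d * n⁻¹ * d⁻¹ ∈ N := by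
    have : n * d * n⁻¹ * d⁻¹ = n * (d * n⁻¹ * d⁻¹) := by group
    rw [this]
    exact N.mul_mem hn (hN.conj_mem _ (N.inv_mem hn) d)
  have hcR : (⟨n * d * n⁻¹ * d⁻¹, hcN⟩ : ↥N) ∈ R := by
    rw [hR, Subgroup.mem_comap]
    have e : Subgroup.inclusion hNH (⟨n * d * n⁻¹ * d⁻¹, hcN⟩ : ↥N) =
        (⟨n, hNH hn⟩ : ↥H) * ⟨d, hdH⟩ * (⟨n, hNH hn⟩ : ↥H)⁻¹ * (⟨d, hdH⟩ : ↥H)⁻¹ := by
      apply Subtype.ext
      rfl
    rw [e]
    exact Q.mul_mem (hQn.conj_mem _ hdQ _) (Q.inv_mem hdQ)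
  have h1 : R ≤ Cfsg.pCore 2 ↥N := Helper9.le_pCore' hRn hRp
  have h2 := Helper9.map_subtype_pCore_le 2 N
  apply h2
  exact ⟨⟨n * d * n⁻¹ * d⁻¹, hcN⟩, h1 hcR, rfl⟩

/-- a proper normal subgroup lies in `O_{2,Z}(G)`. -/
theorem le_twoZCore [Finite G] (hD : Cfsg.IsRootInvolutionSet D)
    (hX : ∀ d ∈ D, ∃ e, e ∈ Cfsg.productPartners D d) {N : Subgroup G}
    [hN : N.Normal] (hND : ∀ d ∈ D, d ∉ N) : N ≤ Cfsg.twoZCore G := by
  intro n hn
  unfold Cfsg.twoZCore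
  rw [Subgroup.mem_comap, Subgroup.mem_center_iff]
  intro gbar
  obtain ⟨g, rfl⟩ := QuotientGroup.mk'_surjective (Cfsg.pCore 2 G) gbar
  have hg : g ∈ Subgroup.closure D := by rw [hD.generates]; exact Subgroup.mem_top g
  -- the subgroup of elements commuting with `n` modulo `O₂`
  have hle : Subgroup.closure D ≤
      (Subgroup.centralizer {(QuotientGroup.mk' (Cfsg.pCore 2 G)) n}).comap
        (QuotientGroup.mk' (Cfsg.pCore 2 G)) := by
    rw [Subgroup.closure_le]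
    intro d hd
    obtain ⟨e, he⟩ := hX d hd
    have hc := comm_mem_pCore hD hND he hd hn
    show (QuotientGroup.mk' (Cfsg.pCore 2 G)) d ∈ Subgroup.centralizer _
    rw [Subgroup.mem_centralizer_singleton_iff]
    rw [← map_mul, ← map_mul, QuotientGroup.mk'_apply, QuotientGroup.mk'_apply, QuotientGroup.eq]
    have e1 : (d * n)⁻¹ * (n * d) = n⁻¹ * (d⁻¹ * (n * d * n⁻¹ * d⁻¹) * d⁻¹⁻¹) * n⁻¹⁻¹ := by group
    rw [e1]
    have hnorm : (Cfsg.pCore 2 G).Normal := by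
      haveI := Helper9.pCore_characteristic (G := G) 2
      infer_instance
    apply hnorm.conj_mem
    apply hnorm.conj_mem
    exact hc
  have := hle hg
  rw [Subgroup.mem_comap, Subgroup.mem_centralizer_singleton_iff] at this
  exact this

end RootInv
end Cfsg.Agent.Helper25
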