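import Mathlib
import Cfsg.Prelude.Def_RootSubgroups
import Cfsg.Prelude.Def_QuasithinSetup
import Cfsg.Agent.Lib.Helper25.RootInv4

set_option autoImplicit false

namespace Cfsg.Agent.Helper25
namespace RootInv

variable {G : Type*} [Group G] {D : Set G}

theorem pCore_normal' (G : Type*) [Group G] : (Cfsg.pCore 2 G).Normal := by
  haveI := Helper9.pCore_characteristic (G := G) 2
  infer_instance

theorem mem_twoZCore_iff {x : G} : x ∈ Cfsg.twoZCore G ↔
    ∀ g : G, (QuotientGroup.mk' (Cfsg.pCore 2 G)) g * (QuotientGroup.mk' (Cfsg.pCore 2 G)) x =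
      (QuotientGroup.mk' (Cfsg.pCore 2 G)) x * (QuotientGroup.mk' (Cfsg.pCore 2 G)) g := by
  unfold Cfsg.twoZCore
  rw [Subgroup.mem_comap, Subgroup.mem_center_iff]
  constructor
  · intro h g
    exact h _
  · intro h gbar
    obtain ⟨g, rfl⟩ := QuotientGroup.mk'_surjective (Cfsg.pCore 2 G) gbar
    exact h g

/-- a proper normal subgroup contains no member of `D` (for a class). -/
theorem not_mem_of_ne_top (hD : Cfsg.IsRootInvolutionSet D)
    (hclass : ∀ a ∈ D, ∀ b ∈ D, ∃ g : G, b = g * a * g⁻¹) {N : Subgroup G} [hN : N.Normal]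
    (hne : N ≠ ⊤) : ∀ d ∈ D, d ∉ N := by
  intro d hd hdN
  apply hne
  rw [eq_top_iff, ← hD.generates, Subgroup.closure_le]
  intro b hb
  obtain ⟨g, rfl⟩ := hclass d hd b hb
  exact hN.conj_mem d hdN g

theorem twoZCore_ne_top [Finite G] (hD : Cfsg.IsRootInvolutionSet D)
    (hc : Cfsg.IsConnectedSet (Cfsg.OddAdj D) D) {a b : G} (ha : a ∈ D) (hb : b ∈ D)
    (hab : a ≠ b) : Cfsg.twoZCore G ≠ ⊤ := by
  intro htop
  have hno : ∀ x y : G, ¬ Cfsg.OddAdj D x y := by
    rintro x y ⟨hx, hy, hxy, hodd⟩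
    have hxZ : x ∈ Cfsg.twoZCore G := by rw [htop]; exact Subgroup.mem_top x
    have h1 := mem_twoZCore_iff.1 hxZ y
    have h2 : (QuotientGroup.mk' (Cfsg.pCore 2 G)) ((x * y) ^ 2) = 1 := by
      rw [pow_two, map_mul, map_mul]
      calc (QuotientGroup.mk' (Cfsg.pCore 2 G)) x * (QuotientGroup.mk' (Cfsg.pCore 2 G)) y *
            ((QuotientGroup.mk' (Cfsg.pCore 2 G)) x * (QuotientGroup.mk' (Cfsg.pCore 2 G)) y)
          = (QuotientGroup.mk' (Cfsg.pCore 2 G)) x *
            ((QuotientGroup.mk' (Cfsg.pCore 2 G)) y * (QuotientGroup.mk' (Cfsg.pCore 2 G)) x) *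
            (QuotientGroup.mk' (Cfsg.pCore 2 G)) y := by group
        _ = (QuotientGroup.mk' (Cfsg.pCore 2 G)) x *
            ((QuotientGroup.mk' (Cfsg.pCore 2 G)) x * (QuotientGroup.mk' (Cfsg.pCore 2 G)) y) *
            (QuotientGroup.mk' (Cfsg.pCore 2 G)) y := by rw [h1]
        _ = (QuotientGroup.mk' (Cfsg.pCore 2 G)) (x * x) *
            (QuotientGroup.mk' (Cfsg.pCore 2 G)) (y * y) := by
            rw [map_mul, map_mul]; group
        _ = 1 := by rw [sq hD hx, sq hD hy, map_one, one_mul]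
    rw [QuotientGroup.mk'_apply, QuotientGroup.eq_one_iff] at h2
    have hp : IsPGroup 2 ↥(Cfsg.pCore 2 G) := Helper9.pCore_isPGroup' 2 G
    obtain ⟨j, hj⟩ := hp ⟨_, h2⟩
    have hj' : ((x * y) ^ 2) ^ (2 ^ j) = 1 := congrArg Subtype.val hj
    rw [← pow_mul, ← pow_succ'] at hj'
    have h3 := orderOf_dvd_of_pow_eq_one hj'
    have h4 : orderOf (x * y) = 1 := by
      have hco : (orderOf (x * y)).Coprime (2 ^ (j + 1)) :=
        Nat.Coprime.pow_right _ ((Nat.coprime_two_right).2 hodd)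
      exact Nat.eq_one_of_dvd_coprimes hco (dvd_refl _) h3
    rw [orderOf_eq_one_iff] at h4
    apply hxy
    have : x = y⁻¹ := eq_inv_of_mul_eq_one_left h4
    rw [this, inv_eq hD hy]
  rcases Relation.ReflTransGen.cases_head (hc a ha b hb) with h | ⟨c, hc', _⟩
  · exact hab h
  · exact hno _ _ hc'

/-- a proper normal subgroup lies in `O_{2,Z}`. -/
theorem le_twoZCore_of_ne_top [Finite G] (hD : Cfsg.IsRootInvolutionSet D)
    (hX : ∀ d ∈ D, ∃ e, e ∈ Cfsg.productPartners D d)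
    (hclass : ∀ a ∈ D, ∀ b ∈ D, ∃ g : G, b = g * a * g⁻¹) {N : Subgroup G} [hN : N.Normal]
    (hne : N ≠ ⊤) : N ≤ Cfsg.twoZCore G :=
  le_twoZCore hD hX (not_mem_of_ne_top hD hclass hne)

theorem simple_quot [Finite G] (hD : Cfsg.IsRootInvolutionSet D)
    (hX : ∀ d ∈ D, ∃ e, e ∈ Cfsg.productPartners D d)
    (hclass : ∀ a ∈ D, ∀ b ∈ D, ∃ g : G, b = g * a * g⁻¹)
    (hne : Cfsg.twoZCore G ≠ ⊤) : IsSimpleGroup (G ⧸ Cfsg.twoZCore G) := by
  have hnt : Nontrivial (G ⧸ Cfsg.twoZCore G) := by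
    have : ∃ g : G, g ∉ Cfsg.twoZCore G := by
      by_contra hcon
      push Not at hcon
      exact hne ((Subgroup.eq_top_iff' _).2 hcon)
    obtain ⟨g, hg⟩ := this
    refine ⟨⟨(QuotientGroup.mk' _) g, 1, ?_⟩⟩
    intro h
    rw [QuotientGroup.mk'_apply, QuotientGroup.eq_one_iff] at h
    exact hg h
  refine { toNontrivial := hnt, eq_bot_or_eq_top_of_normal := ?_ }
  intro K' hK'
  have hKn : (K'.comap (QuotientGroup.mk' (Cfsg.twoZCore G))).Normal := hK'.comap _
  by_cases hK : K'.comap (QuotientGroup.mk' (Cfsg.twoZCore G)) = ⊤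
  · right
    rw [eq_top_iff]
    intro q _
    obtain ⟨g, rfl⟩ := QuotientGroup.mk'_surjective _ q
    have : g ∈ K'.comap (QuotientGroup.mk' (Cfsg.twoZCore G)) := by rw [hK]; exact Subgroup.mem_top g
    exact this
  · left
    rw [eq_bot_iff]
    intro q hq
    obtain ⟨g, rfl⟩ := QuotientGroup.mk'_surjective _ q
    have hg : g ∈ K'.comap (QuotientGroup.mk' (Cfsg.twoZCore G)) := hq
    have := le_twoZCore_of_ne_top hD hX hclass hK hg
    rw [Subgroup.mem_bot, QuotientGroup.mk'_apply, QuotientGroup.eq_one_iff]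
    exact this

theorem pCore_le_twoZCore (G : Type*) [Group G] : Cfsg.pCore 2 G ≤ Cfsg.twoZCore G := by
  intro o ho
  rw [mem_twoZCore_iff]
  intro g
  have : (QuotientGroup.mk' (Cfsg.pCore 2 G)) o = 1 := by
    rw [QuotientGroup.mk'_apply, QuotientGroup.eq_one_iff]; exact ho
  rw [this, mul_one, one_mul]

theorem twoZCore_solvable [Finite G] : Group.IsSolvable ↥(Cfsg.twoZCore G) := by
  have hp : IsPGroup 2 ↥(Cfsg.pCore 2 G) := Helper9.pCore_isPGroup' 2 G
  haveI : Group.IsNilpotent ↥(Cfsg.pCore 2 G) := hp.isNilpotent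
  haveI : Group.IsSolvable ↥(Cfsg.pCore 2 G) := inferInstance
  let f : ↥(Cfsg.pCore 2 G) →* ↥(Cfsg.twoZCore G) := Subgroup.inclusion (pCore_le_twoZCore G)
  let g : ↥(Cfsg.twoZCore G) →* ↥(Subgroup.center (G ⧸ Cfsg.pCore 2 G)) :=
    ((QuotientGroup.mk' (Cfsg.pCore 2 G)).comp (Cfsg.twoZCore G).subtype).codRestrict
      (Subgroup.center (G ⧸ Cfsg.pCore 2 G)) (fun z => z.2)
  haveI : Group.IsSolvable ↥(Subgroup.center (G ⧸ Cfsg.pCore 2 G)) :=
    isSolvable_of_comm (fun a b => Subtype.ext (by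
      have := b.2
      rw [Subgroup.mem_center_iff] at this
      exact this a))
  apply solvable_of_ker_le_range f g
  intro z hz
  rw [MonoidHom.mem_ker] at hz
  have h1 : (QuotientGroup.mk' (Cfsg.pCore 2 G)) (z : G) = 1 := congrArg Subtype.val hz
  rw [QuotientGroup.mk'_apply, QuotientGroup.eq_one_iff] at h1
  exact ⟨⟨z, h1⟩, Subtype.ext rfl⟩

end RootInv
end Cfsg.Agent.Helper25
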