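import Mathlib
import Cfsg.Agent.Lib.Helper25.RootLine1
import Cfsg.Agent.Lib.Helper25.GroupAux

set_option autoImplicit false

namespace Cfsg.Agent.Helper25
namespace RootLine

open scoped commutatorElement
open Cfsg

variable {G : Type*} [Group G] {S : Set (Subgroup G)} {N : Subgroup G}

/-- `N` is an abelian subgroup partitioned by the members of `S` it contains. -/
structure Line (S : Set (Subgroup G)) (N : Subgroup G) : Prop where
  comm : ∀ x ∈ N, ∀ y ∈ N, x * y = y * x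
  part : Cfsg.IsSubgroupPartition N (Cfsg.membersIn S N)

theorem line_of_linePartner (hS : Cfsg.IsRootSubgroupSet S) {A B : Subgroup G} (hA : A ∈ S)
    (hB : B ∈ Cfsg.linePartners S A) : Line S (A ⊔ B) := by
  refine ⟨?_, hB.2⟩
  have hAA : ∀ a ∈ A, ∀ a' ∈ A, a * a' = a' * a := by
    intro a ha a' ha'
    have := (hS.commutative A hA).is_comm.comm ⟨a, ha⟩ ⟨a', ha'⟩
    exact congrArg Subtype.val this
  have hBB : ∀ b ∈ B, ∀ b' ∈ B, b * b' = b' * b := by
    intro b hb b' hb'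
    have := (hS.commutative B hB.1.1).is_comm.comm ⟨b, hb⟩ ⟨b', hb'⟩
    exact congrArg Subtype.val this
  have hAB : ∀ a ∈ A, ∀ b ∈ B, a * b = b * a := fun a ha b hb =>
    RankOne.commute_of_commutator_eq_bot hB.1.2.2 ha hb
  exact GroupAux.commute_sup_sup hAA hAB (fun b hb a ha => (hAB a ha b hb).symm) hBB

section
variable (hL : Line S N)
include hL

theorem Line.comm_points {C D : Subgroup G} (hC : C ∈ Cfsg.membersIn S N)
    (hD : D ∈ Cfsg.membersIn S N) {c d : G} (hc : c ∈ C) (hd : d ∈ D) : c * d = d * c :=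
  hL.comm c (hC.2 hc) d (hD.2 hd)

theorem Line.comm_bot {C D : Subgroup G} (hC : C ∈ Cfsg.membersIn S N)
    (hD : D ∈ Cfsg.membersIn S N) : ⁅C, D⁆ = ⊥ := by
  rw [eq_bot_iff, Subgroup.commutator_le]
  intro c hc d hd
  rw [Subgroup.mem_bot, commutatorElement_eq_one_iff_mul_comm]
  exact hL.comm_points hC hD hc hd

theorem Line.eq_of_mem {C M : Subgroup G} (hC : C ∈ Cfsg.membersIn S N)
    (hM : M ∈ Cfsg.membersIn S N) {x : G} (hxC : x ∈ C) (hxM : x ∈ M) (hx1 : x ≠ 1) : C = M := by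
  by_contra hne
  have := hL.part.2.2 C hC M hM hne
  rw [Subgroup.eq_bot_iff_forall] at this
  exact hx1 (this x ⟨hxC, hxM⟩)

theorem Line.cover {x : G} (hx : x ∈ N) (hx1 : x ≠ 1) : ∃ M ∈ Cfsg.membersIn S N, x ∈ M :=
  hL.part.2.1 x hx hx1

/-- a rank one partner `E` of a point `C` commutes with no other point of the line -/
theorem Line.not_commute (hS : Cfsg.IsRootSubgroupSet S) {C E D : Subgroup G}
    (hC : C ∈ Cfsg.membersIn S N) (hE : E ∈ S) (hp : Cfsg.IsRankOnePair C E)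
    (hD : D ∈ Cfsg.membersIn S N) (hDC : D ≠ C) : ⁅E, D⁆ ≠ ⊥ := by
  intro hbot
  obtain ⟨d, hd, hd1⟩ := (D.bot_or_exists_ne_one).resolve_left (hS.ne_bot D hD.1)
  obtain ⟨c, hc, hc1⟩ := RankOne.exists_ne_one_left hp
  have hinf := hL.part.2.2 D hD C hC hDC
  rw [Subgroup.eq_bot_iff_forall] at hinf
  have hx1 : d * c ≠ 1 := by
    intro h
    apply hd1
    apply hinf d
    refine ⟨hd, ?_⟩
    have : d = c⁻¹ := by
      calc d = (d * c) * c⁻¹ := by group
        _ = c⁻¹ := by rw [h, one_mul]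
    rw [this]; exact C.inv_mem hc
  obtain ⟨M, hM, hxM⟩ := hL.cover (N.mul_mem (hD.2 hd) (hC.2 hc)) hx1
  have hz : ∀ y ∈ C ⊔ E, d * y = y * d := by
    apply GroupAux.commute_sup_right
    · intro c' hc'; exact hL.comm_points hD hC hd hc'
    · intro e he; exact (RankOne.commute_of_commutator_eq_bot hbot he hd).symm
  exact RankOne.mul_not_mem_of_centralizes hS hC.1 hE hp hz hd1 hc hc1 hM.1 hxM

/-- **Step A.** For a point `C` of the line with a rank one partner `E` there is another point `D`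
of the line with `⁅E, D⁆ ∈ S`. -/
theorem Line.exists_comm_point (hS : Cfsg.IsRootSubgroupSet S) {C E : Subgroup G}
    (hC : C ∈ Cfsg.membersIn S N) (hE : E ∈ S) (hp : Cfsg.IsRankOnePair C E)
    (hex : ∃ D' ∈ Cfsg.membersIn S N, D' ≠ C) :
    ∃ D ∈ Cfsg.membersIn S N, D ≠ C ∧ ⁅E, D⁆ ∈ S := by
  by_contra hcon
  push Not at hcon
  -- every other point is a rank one partner of E
  have hro : ∀ D ∈ Cfsg.membersIn S N, D ≠ C → Cfsg.IsRankOnePair E D := by
    intro D hD hDC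
    rcases hS.pair E hE D hD.1 with h | h | h
    · exact absurd h (hL.not_commute hS hC hE hp hD hDC)
    · exact h
    · exact absurd h.1 (hcon D hD hDC)
  obtain ⟨D', hD', hD'C⟩ := hex
  have hpD' := hro D' hD' hD'C
  obtain ⟨e, he, he1⟩ := RankOne.exists_ne_one_right hp
  obtain ⟨c, hc, hc1, hrelC⟩ := hp.cond_right e he he1
  obtain ⟨d', hd', hd'1, hrelD⟩ := hpD'.cond_left e he he1
  -- conjBy E c⁻¹ and conjBy E d'⁻¹ commute
  have hcomm1 : ∀ x ∈ Cfsg.conjBy E c⁻¹, ∀ y ∈ Cfsg.conjBy E d'⁻¹, x * y = y * x := by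
    intro x hx y hy
    rw [hrelC, mem_conjBy] at hx
    rw [hrelD, mem_conjBy] at hy
    have := hL.comm_points hC hD' hx hy
    calc x * y = e⁻¹ * ((e⁻¹⁻¹ * x * e⁻¹) * (e⁻¹⁻¹ * y * e⁻¹)) * e⁻¹⁻¹ := by group
      _ = e⁻¹ * ((e⁻¹⁻¹ * y * e⁻¹) * (e⁻¹⁻¹ * x * e⁻¹)) * e⁻¹⁻¹ := by rw [this]
      _ = y * x := by group
  -- hence E and conjBy E (c * d'⁻¹) commute
  have hcomm2 : ∀ e₁ ∈ E, ∀ z ∈ Cfsg.conjBy E (c * d'⁻¹), e₁ * z = z * e₁ := by
    intro e₁ he₁ z hz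
    have hx : c⁻¹ * e₁ * c ∈ Cfsg.conjBy E c⁻¹ := by
      rw [mem_conjBy]
      have : c⁻¹⁻¹ * (c⁻¹ * e₁ * c) * c⁻¹ = e₁ := by group
      rw [this]; exact he₁
    have hy : c⁻¹ * z * c ∈ Cfsg.conjBy E d'⁻¹ := by
      rw [mem_conjBy] at hz ⊢
      have : d'⁻¹⁻¹ * (c⁻¹ * z * c) * d'⁻¹ = (c * d'⁻¹)⁻¹ * z * (c * d'⁻¹) := by group
      rw [this]; exact hz
    have := hcomm1 _ hx _ hy
    calc e₁ * z = c * ((c⁻¹ * e₁ * c) * (c⁻¹ * z * c)) * c⁻¹ := by group
      _ = c * ((c⁻¹ * z * c) * (c⁻¹ * e₁ * c)) * c⁻¹ := by rw [this]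
      _ = z * e₁ := by group
  -- the element n = c * d'⁻¹
  have hinf := hL.part.2.2 C hC D' hD' hD'C.symm
  rw [Subgroup.eq_bot_iff_forall] at hinf
  have hn1 : c * d'⁻¹ ≠ 1 := by
    intro h
    apply hc1
    apply hinf c
    refine ⟨hc, ?_⟩
    have : c = d' := by
      calc c = (c * d'⁻¹) * d' := by group
        _ = d' := by rw [h, one_mul]
    rw [this]; exact hd'
  have hnN : c * d'⁻¹ ∈ N := N.mul_mem (hC.2 hc) (N.inv_mem (hD'.2 hd'))
  obtain ⟨D'', hD'', hnD''⟩ := hL.cover hnN hn1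
  have hD''C : D'' ≠ C := by
    intro h
    rw [h] at hnD''
    apply hd'1
    apply hinf d'
    refine ⟨?_, hd'⟩
    have : d' = (c * d'⁻¹)⁻¹ * c := by group
    rw [this]
    exact C.mul_mem (C.inv_mem hnD'') hc
  have hpD'' := hro D'' hD'' hD''C
  have hne : E ≠ Cfsg.conjBy E (c * d'⁻¹) := by
    intro h
    exact hn1 (RankOne.eq_one_of_normalizes (Cfsg.RankOnePair_symm hpD'') hnD'' h.symm)
  have hΩ : Cfsg.conjBy E (c * d'⁻¹) ∈ Cfsg.unipotentSubgroups E D'' :=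
    RankOne.conjBy_mem (RankOne.left_mem E D'') (le_sup_right (a := E) hnD'')
  have hnorm : Cfsg.conjBy (Cfsg.conjBy E (c * d'⁻¹)) e = Cfsg.conjBy E (c * d'⁻¹) :=
    RankOne.conjBy_eq_of_commute (fun z hz => hcomm2 e he z hz)
  exact he1 (RankOne.eq_one_of_normalizes' hpD'' (RankOne.left_mem E D'') hΩ hne he hnorm)

end

end RootLine
end Cfsg.Agent.Helper25
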