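import Mathlib
import Cfsg.Agent.Lib.Helper25.RootLine3

set_option autoImplicit false

namespace Cfsg.Agent.Helper25
namespace RootLine

open scoped commutatorElement
open Cfsg

variable {G : Type*} [Group G] {S : Set (Subgroup G)} {N : Subgroup G}

/-- **The point lemma**, with an explicit rank one partner `E` of the point `C₀`. -/
theorem Line.point_lemma' (hL : Line S N) (hS : Cfsg.IsRootSubgroupSet S)
    (hpart : ∀ A ∈ S, ∃ D ∈ S, Cfsg.IsRankOnePair A D) {C₀ E : Subgroup G}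
    (hC₀ : C₀ ∈ Cfsg.membersIn S N) (hE : E ∈ S) (hp : Cfsg.IsRankOnePair C₀ E) (hcompl : ∃ B' ∈ Cfsg.membersIn S N, C₀ ⊔ B' = N)
    (hex : ∃ D' ∈ Cfsg.membersIn S N, D' ≠ C₀) :
    ∃ D ∈ Cfsg.membersIn S N, D ≠ C₀ ∧ C₀ ⊔ D = N ∧ ⁅E, D⁆ ∈ S ∧ ⁅C₀, ⁅E, D⁆⁆ = D ∧
      ∃ F ∈ S, F = ⁅E, D⁆ ∧ (∀ f ∈ F, Cfsg.conjBy N f = N) ∧
      (∀ f ∈ F, Cfsg.conjBy D f = D) ∧
      (∀ M ∈ Cfsg.membersIn S N, M ≠ D → ∃ f ∈ F, M = Cfsg.conjBy C₀ f) := by
  obtain ⟨D, hD, hDC, hF⟩ := hL.exists_comm_point hS hC₀ hE hp hex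
  have hle : C₀ ⊔ D ≤ N := sup_le hC₀.2 hD.2
  have hW : WeakLine S C₀ D := by
    refine ⟨hD.1, hDC, hL.comm_bot hC₀ hD, ?_⟩
    intro x hx hx1
    obtain ⟨M, hM, hxM⟩ := hL.cover (hle hx) hx1
    exact ⟨M, hM.1, hxM⟩
  have hcc_eq : ⁅⁅E, D⁆, C₀⁆ = D := comm_comm_eq hS hC₀.1 hE hp hW hF (hpart D hD.1)
  have hFD : ⁅C₀, ⁅E, D⁆⁆ = D := by rw [Subgroup.commutator_comm]; exact hcc_eq
  have hcc : Cfsg.RootCommutatorCase S C₀ ⁅E, D⁆ :=
    RootComm.commCase_of_comm_mem hS hC₀.1 hF (by rw [hFD]; exact hD.1)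
  have hmem := Cfsg.Agent.S5029.membersIn_eq hS hC₀.1 hE hp hcc
  have hpart' := Cfsg.Agent.S5029.partition hS hC₀.1 hE hp hcc
  rw [hFD] at hmem hpart'
  have hinfCD := hL.part.2.2 C₀ hC₀ D hD hDC.symm
  rw [Subgroup.eq_bot_iff_forall] at hinfCD
  -- Step D
  have hsup : C₀ ⊔ D = N := by
    apply le_antisymm hle
    obtain ⟨B', hB', hB'N⟩ := hcompl
    rw [← hB'N]
    refine sup_le le_sup_left ?_
    by_cases hB'D : B' = D
    · rw [hB'D]; exact le_sup_right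
    obtain ⟨d, hd, hd1⟩ := (D.bot_or_exists_ne_one).resolve_left (hS.ne_bot D hD.1)
    have hdN : d ∈ C₀ ⊔ B' := by rw [hB'N]; exact hD.2 hd
    obtain ⟨c, hc, b', hb', hdcb⟩ := exists_mul_of_mem_sup
      (fun p hp q hq => hL.comm_points hC₀ hB' hp hq) hdN
    have hb'eq : b' = c⁻¹ * d := by rw [hdcb]; group
    have hb'1 : b' ≠ 1 := by
      intro h
      apply hd1
      apply hinfCD d
      refine ⟨?_, hd⟩
      rw [hdcb, h, mul_one]; exact hc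
    have hb'N₁ : b' ∈ C₀ ⊔ D := by
      rw [hb'eq]
      exact Subgroup.mul_mem _ (le_sup_left (a := C₀) (C₀.inv_mem hc)) (le_sup_right (a := C₀) hd)
    obtain ⟨M, hM, hb'M⟩ := hpart'.2.1 b' hb'N₁ hb'1
    have hML : M ∈ Cfsg.membersIn S N := ⟨hM.1, hM.2.trans hle⟩
    have := hL.eq_of_mem hB' hML hb' hb'M hb'1
    rw [this]; exact hM.2
  refine ⟨D, hD, hDC, hsup, hF, hFD, ⁅E, D⁆, hF, rfl, ?_, ?_, ?_⟩
  · -- F normalizes N
    have hcaseED : Cfsg.RootCommutatorCase S E D := RootComm.commCase_of_comm_mem hS hE hD.1 hF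
    have hDf : ∀ f ∈ ⁅E, D⁆, Cfsg.conjBy D f = D := by
      intro f hf
      apply RankOne.conjBy_eq_of_commute
      intro d hd
      exact RootComm.central hcaseED hf (le_sup_right (a := E) hd)
    have hleN : ∀ f ∈ ⁅E, D⁆, Cfsg.conjBy N f ≤ N := by
      intro f hf
      have h1 : Cfsg.conjBy C₀ f ≤ C₀ ⊔ D := by
        have := RootComm.conjBy_le_sup hcc hf
        rw [hFD] at this
        exact this
      have h2 : Cfsg.conjBy (C₀ ⊔ D) f = Cfsg.conjBy C₀ f ⊔ Cfsg.conjBy D f := by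
        unfold Cfsg.conjBy
        exact Subgroup.map_sup _ _ _
      rw [← hsup, h2, hDf f hf]
      exact sup_le h1 le_sup_right
    intro f hf
    apply le_antisymm (hleN f hf)
    have h1 := hleN f⁻¹ (Subgroup.inv_mem _ hf)
    have h2 : Cfsg.conjBy (Cfsg.conjBy N f⁻¹) f ≤ Cfsg.conjBy N f := Subgroup.map_mono h1
    rw [conjBy_conjBy] at h2
    simpa [conjBy_one] using h2
  · intro f hf
    have hcaseED : Cfsg.RootCommutatorCase S E D := RootComm.commCase_of_comm_mem hS hE hD.1 hF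
    apply RankOne.conjBy_eq_of_commute
    intro d hd
    exact RootComm.central hcaseED hf (le_sup_right (a := E) hd)
  · intro M hM hMD
    have hM' : M ∈ Cfsg.membersIn S (C₀ ⊔ D) := by rw [hsup]; exact hM
    rw [hmem] at hM'
    rcases hM' with ⟨f, hf, rfl⟩ | hMD'
    · exact ⟨f, hf, rfl⟩
    · exact absurd hMD' hMD


end RootLine
end Cfsg.Agent.Helper25
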