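import Mathlib
import Cfsg.Agent.Lib.Helper25.RootLine4
import Cfsg.Agent.S5038
import Cfsg.Agent.S5032

set_option autoImplicit false

namespace Cfsg.Agent.Helper25
namespace RootLine

open scoped commutatorElement
open Cfsg

variable {G : Type*} [Group G] {S : Set (Subgroup G)} {N : Subgroup G}

theorem conjBy_sup (P Q : Subgroup G) (g : G) :
    Cfsg.conjBy (P ⊔ Q) g = Cfsg.conjBy P g ⊔ Cfsg.conjBy Q g := by
  unfold Cfsg.conjBy
  exact Subgroup.map_sup _ _ _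

theorem conjBy_commutator (P Q : Subgroup G) (g : G) :
    Cfsg.conjBy ⁅P, Q⁆ g = ⁅Cfsg.conjBy P g, Cfsg.conjBy Q g⁆ := by
  unfold Cfsg.conjBy
  exact Subgroup.map_commutator _ _ _

theorem conjBy_mono {P Q : Subgroup G} (h : P ≤ Q) (g : G) : Cfsg.conjBy P g ≤ Cfsg.conjBy Q g :=
  Subgroup.map_mono h

theorem conjBy_inv_cancel (P : Subgroup G) (g : G) : Cfsg.conjBy (Cfsg.conjBy P g⁻¹) g = P := by
  rw [conjBy_conjBy]; simp [conjBy_one]

theorem conjBy_cancel_inv (P : Subgroup G) (g : G) : Cfsg.conjBy (Cfsg.conjBy P g) g⁻¹ = P := by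
  rw [conjBy_conjBy]; simp [conjBy_one]

/-- a third point on a line -/
theorem Line.exists_third (hL : Line S N) (hS : Cfsg.IsRootSubgroupSet S) {A B : Subgroup G}
    (hA : A ∈ Cfsg.membersIn S N) (hB : B ∈ Cfsg.membersIn S N) (hne : B ≠ A) :
    ∃ M ∈ Cfsg.membersIn S N, M ≠ A ∧ M ≠ B := by
  obtain ⟨a, ha, ha1⟩ := (A.bot_or_exists_ne_one).resolve_left (hS.ne_bot A hA.1)
  obtain ⟨b, hb, hb1⟩ := (B.bot_or_exists_ne_one).resolve_left (hS.ne_bot B hB.1)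
  have hinf := hL.part.2.2 A hA B hB hne.symm
  rw [Subgroup.eq_bot_iff_forall] at hinf
  have hab1 : a * b ≠ 1 := by
    intro h
    apply ha1
    apply hinf a
    refine ⟨ha, ?_⟩
    have : a = b⁻¹ := by
      calc a = (a * b) * b⁻¹ := by group
        _ = b⁻¹ := by rw [h, one_mul]
    rw [this]; exact B.inv_mem hb
  obtain ⟨M, hM, habM⟩ := hL.cover (N.mul_mem (hA.2 ha) (hB.2 hb)) hab1
  refine ⟨M, hM, ?_, ?_⟩
  · intro h
    rw [h] at habM
    apply hb1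
    apply hinf b
    refine ⟨?_, hb⟩
    have : b = a⁻¹ * (a * b) := by group
    rw [this]; exact A.mul_mem (A.inv_mem ha) habM
  · intro h
    rw [h] at habM
    apply ha1
    apply hinf a
    refine ⟨ha, ?_⟩
    have : a = (a * b) * b⁻¹ := by group
    rw [this]; exact B.mul_mem habM (B.inv_mem hb)

/-- conjugation invariance of line partners -/
theorem linePartners_conj (hS : Cfsg.IsRootSubgroupSet S) {A C : Subgroup G}
    (hC : C ∈ Cfsg.linePartners S A) (g : G) :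
    Cfsg.conjBy C g ∈ Cfsg.linePartners S (Cfsg.conjBy A g) := by
  obtain ⟨⟨hCS, hCA, hcomm⟩, hpart⟩ := hC
  refine ⟨⟨hS.conj_mem C hCS g, fun h => hCA (conjBy_injective g h), ?_⟩, ?_⟩
  · rw [← conjBy_commutator, hcomm]
    unfold Cfsg.conjBy
    exact Subgroup.map_bot _
  · rw [← conjBy_sup]
    refine ⟨fun M hM => hM.2, ?_, ?_⟩
    · intro x hx hx1
      rw [mem_conjBy] at hx
      have hx1' : g⁻¹ * x * g ≠ 1 := by
        intro h
        apply hx1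
        calc x = g * (g⁻¹ * x * g) * g⁻¹ := by group
          _ = 1 := by rw [h]; group
      obtain ⟨M, hM, hxM⟩ := hpart.2.1 _ hx hx1'
      refine ⟨Cfsg.conjBy M g, ⟨hS.conj_mem M hM.1 g, conjBy_mono hM.2 g⟩, ?_⟩
      rw [mem_conjBy]; exact hxM
    · intro M₁ hM₁ M₂ hM₂ hne
      have h1 : Cfsg.conjBy M₁ g⁻¹ ∈ Cfsg.membersIn S (A ⊔ C) := by
        refine ⟨hS.conj_mem M₁ hM₁.1 g⁻¹, ?_⟩
        have := conjBy_mono hM₁.2 g⁻¹
        rwa [conjBy_cancel_inv] at this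
      have h2 : Cfsg.conjBy M₂ g⁻¹ ∈ Cfsg.membersIn S (A ⊔ C) := by
        refine ⟨hS.conj_mem M₂ hM₂.1 g⁻¹, ?_⟩
        have := conjBy_mono hM₂.2 g⁻¹
        rwa [conjBy_cancel_inv] at this
      have hne' : Cfsg.conjBy M₁ g⁻¹ ≠ Cfsg.conjBy M₂ g⁻¹ := fun h => hne (conjBy_injective g⁻¹ h)
      have hinf := hpart.2.2 _ h1 _ h2 hne'
      rw [Subgroup.eq_bot_iff_forall] at hinf ⊢
      intro x hx
      have hx12 := Subgroup.mem_inf.1 hx
      have hx' : g⁻¹ * x * g ∈ Cfsg.conjBy M₁ g⁻¹ ⊓ Cfsg.conjBy M₂ g⁻¹ := by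
        refine Subgroup.mem_inf.2 ⟨?_, ?_⟩
        · rw [mem_conjBy]
          have : g⁻¹⁻¹ * (g⁻¹ * x * g) * g⁻¹ = x := by group
          rw [this]; exact hx12.1
        · rw [mem_conjBy]
          have : g⁻¹⁻¹ * (g⁻¹ * x * g) * g⁻¹ = x := by group
          rw [this]; exact hx12.2
      have := hinf _ hx'
      calc x = g * (g⁻¹ * x * g) * g⁻¹ := by group
        _ = 1 := by rw [this]; group

theorem not_isolated_of_hpart (hpart : ∀ A ∈ S, ∃ D ∈ S, Cfsg.IsRankOnePair A D) :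
    ∀ A ∈ S, ¬ Cfsg.IsIsolatedIn (Cfsg.FAdj S) S A := by
  intro A hA
  obtain ⟨D, hD, hp⟩ := hpart A hA
  exact Cfsg.Agent.S5032.not_isolated_of_partner hA hD hp

/-- For a line partner `C` of `A` there is a second line partner `C₂` of `A` with `⁅C, C₂⁆ = A`. -/
theorem exists_second (hS : Cfsg.IsRootSubgroupSet S)
    (hpart : ∀ A ∈ S, ∃ D ∈ S, Cfsg.IsRankOnePair A D) {A C : Subgroup G} (hA : A ∈ S)
    (hC : C ∈ Cfsg.linePartners S A) : ∃ C₂ ∈ Cfsg.linePartners S A, ⁅C, C₂⁆ = A := by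
  have hL : Line S (A ⊔ C) := line_of_linePartner hS hA hC
  have hA' : A ∈ Cfsg.membersIn S (A ⊔ C) := ⟨hA, le_sup_left⟩
  have hC' : C ∈ Cfsg.membersIn S (A ⊔ C) := ⟨hC.1.1, le_sup_right⟩
  obtain ⟨E, hE, hp⟩ := hpart C hC.1.1
  obtain ⟨D, hD, hDC, _, hF, hFD, _⟩ := hL.point_lemma' hS hpart hC' hE hp
    ⟨A, hA', sup_comm _ _⟩ ⟨A, hA', hC.1.2.1.symm⟩
  obtain ⟨x, _, hx1, hx2⟩ := Cfsg.Agent.S5038.result hS (not_isolated_of_hpart hpart) hA hC
    C hC' D hD C hC' A hA' hDC.symm hC.1.2.1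
  refine ⟨Cfsg.conjBy ⁅E, D⁆ x, ?_, ?_⟩
  · have hC₂S : Cfsg.conjBy ⁅E, D⁆ x ∈ S := hS.conj_mem _ hF x
    have hcomm : ⁅Cfsg.conjBy ⁅E, D⁆ x, C⁆ = A := by
      rw [Subgroup.commutator_comm]
      nth_rewrite 1 [← hx1]
      rw [← conjBy_commutator, hFD, hx2]
    have := (Cfsg.Agent.S5029.result hS (not_isolated_of_hpart hpart _ hC₂S) hC₂S hC.1.1
      (by rw [hcomm]; exact hA)).2.2.1
    rw [hcomm] at this
    exact this
  · nth_rewrite 1 [← hx1]
    rw [← conjBy_commutator, hFD, hx2]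

end RootLine
end Cfsg.Agent.Helper25
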