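import Mathlib
import Cfsg.Prelude.Def_RootSubgroups
import Cfsg.Agent.Lib.Helper25.ConjBy
import Cfsg.Agent.Lib.Helper25.RankOne
import Cfsg.Agent.Lib.Helper25.RankOne2
import Cfsg.Agent.Lib.Helper25.RootTransfer

set_option autoImplicit false

namespace Cfsg.Agent.Helper25
namespace RootQS

open scoped commutatorElement

variable {G : Type*} [Group G]

/-- In a rank one pair `(P,Q)`, an element of the normal subgroup `N` lying in `P ⊔ Q` and moving `P`
gives `Q = P^m` for some `m ∈ N`. -/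
theorem exists_conj_of_moves {P Q N : Subgroup G} (hp : Cfsg.IsRankOnePair P Q) (hN : N.Normal)
    {w : G} (hwN : w ∈ N) (hw : w ∈ P ⊔ Q) (hne : Cfsg.conjBy P w ≠ P) :
    ∃ m ∈ N, Q = Cfsg.conjBy P m := by
  have hD₀ : Cfsg.conjBy P w ∈ Cfsg.unipotentSubgroups P Q := ⟨w, hw, rfl⟩
  obtain ⟨a, ha, hE⟩ := RankOne.exists_conj_of_ne_left hp hD₀ (RankOne.right_mem hp) hne hp.ne.symm
  refine ⟨a * w * a⁻¹, hN.conj_mem w hwN a, ?_⟩
  rw [← hE, conjBy_conjBy]
  have e : a * w = (a * w * a⁻¹) * a := by group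
  rw [e, ← conjBy_conjBy, conjBy_of_mem ha]
  congr 1; group

/-- mod `N` lemma: if `C = A^m` with `m ∈ N` and `F` centralizes `A`, then `[F, C] ≤ N`. -/
theorem commutator_le_of_conj {A C F N : Subgroup G} (hN : N.Normal) {m : G} (hm : m ∈ N)
    (hC : C = Cfsg.conjBy A m) (hFA : ∀ f ∈ F, ∀ a ∈ A, f * a = a * f) : ⁅F, C⁆ ≤ N := by
  rw [Subgroup.commutator_le]
  intro f hf c hc
  rw [hC, mem_conjBy] at hc
  have hfa := hFA f hf _ hc
  set a' := m⁻¹ * c * m with ha'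
  have hc' : c = m * a' * m⁻¹ := by rw [ha']; group
  rw [← QuotientGroup.eq_one_iff, hc', commutatorElement_def]
  have hm1 : ((m : G) : G ⧸ N) = 1 := (QuotientGroup.eq_one_iff m).2 hm
  simp only [QuotientGroup.mk_mul, QuotientGroup.mk_inv, hm1, one_mul, mul_one, inv_one]
  rw [← QuotientGroup.mk_mul, hfa, QuotientGroup.mk_mul]
  group

/-- if `C = A^m` with `m ∈ N` and `A` is abelian then `(A ⊔ C)' ≤ N`. -/
theorem commutator_sup_le_of_conj {A C N : Subgroup G} (hN : N.Normal) {m : G} (hm : m ∈ N)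
    (hC : C = Cfsg.conjBy A m) (hA : ∀ x ∈ A, ∀ y ∈ A, x * y = y * x) :
    ⁅A ⊔ C, A ⊔ C⁆ ≤ N := by
  set π := QuotientGroup.mk' N with hπ
  have hm1 : π m = 1 := (QuotientGroup.eq_one_iff m).2 hm
  have h1 : C.map π = A.map π := by
    rw [hC, RootTransfer.map_conjBy, hm1, conjBy_one]
  have h2 : (A ⊔ C).map π = A.map π := by
    rw [Subgroup.map_sup, h1, sup_idem]
  have h3 : (⁅A ⊔ C, A ⊔ C⁆).map π = ⊥ := by
    rw [Subgroup.map_commutator, h2, eq_bot_iff, Subgroup.commutator_le]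
    rintro _ ⟨x, hx, rfl⟩ _ ⟨y, hy, rfl⟩
    rw [Subgroup.mem_bot, commutatorElement_eq_one_iff_mul_comm, ← map_mul, ← map_mul, hA x hx y hy]
  intro x hx
  have : π x ∈ (⁅A ⊔ C, A ⊔ C⁆).map π := ⟨x, hx, rfl⟩
  rw [h3, Subgroup.mem_bot] at this
  exact (QuotientGroup.eq_one_iff x).1 this

/-- if `⊤ = N ⊔ A` with `A` abelian and `N` normal then `G' ≤ N`. -/
theorem commutator_le_of_sup_eq_top {A N : Subgroup G} (hN : N.Normal) (htop : N ⊔ A = ⊤)
    (hA : ∀ x ∈ A, ∀ y ∈ A, x * y = y * x) : commutator G ≤ N := by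
  set π := QuotientGroup.mk' N with hπ
  have h2 : (⊤ : Subgroup G).map π = A.map π := by
    rw [← htop, Subgroup.map_sup]
    have : N.map π = ⊥ := by
      rw [eq_bot_iff]
      rintro _ ⟨n, hn, rfl⟩
      rw [Subgroup.mem_bot]
      exact (QuotientGroup.eq_one_iff n).2 hn
    rw [this, bot_sup_eq]
  have h3 : (commutator G).map π = ⊥ := by
    rw [commutator_def, Subgroup.map_commutator, h2, eq_bot_iff, Subgroup.commutator_le]
    rintro _ ⟨x, hx, rfl⟩ _ ⟨y, hy, rfl⟩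
    rw [Subgroup.mem_bot, commutatorElement_eq_one_iff_mul_comm, ← map_mul, ← map_mul, hA x hx y hy]
  intro x hx
  have : π x ∈ (commutator G).map π := ⟨x, hx, rfl⟩
  rw [h3, Subgroup.mem_bot] at this
  exact (QuotientGroup.eq_one_iff x).1 this

end RootQS
end Cfsg.Agent.Helper25
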