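import Mathlib
import Cfsg.Prelude.Def_RootSubgroups
import Cfsg.Agent.Lib.Helper25.ConjBy
import Cfsg.Agent.Lib.Helper25.RankOne
import Cfsg.Agent.Lib.Helper25.RankOne2
import Cfsg.Agent.Lib.Helper25.RootComm
import Cfsg.Agent.Lib.Helper25.RankOneP3
import Cfsg.Agent.Lib.Helper25.RootQS1
import Cfsg.Agent.S5032
import Cfsg.Agent.S5034

set_option autoImplicit false

namespace Cfsg.Agent.Helper25
namespace RootQS

open scoped commutatorElement

variable {G : Type*} [Group G] {S : Set (Subgroup G)}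

/-- The hypotheses of the quasisimplicity criterion. -/
structure Hyp (S : Set (Subgroup G)) : Prop where
  hS : Cfsg.IsRootSubgroupSet S
  h2 : ∃ A ∈ S, ∃ B ∈ S, A ≠ B
  h1 : Cfsg.IsConnectedFamily (Cfsg.FAdj S) S
  h2' : ∀ A ∈ S, ∀ C ∈ S, A ≠ C → Cfsg.centralizingMembers S A ≠ Cfsg.centralizingMembers S C
  h3 : Cfsg.IsDegenerateRootSet S → ∀ A ∈ S, 3 < ENat.card A
  h4 : ∀ A ∈ S, ∀ B ∈ Cfsg.rankOnePartners S A, Cfsg.IsSpecialRankOnePair A B

namespace Hyp

variable (H : Hyp S)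
include H

theorem comm_elem {A : Subgroup G} (hA : A ∈ S) : ∀ x ∈ A, ∀ y ∈ A, x * y = y * x := by
  intro x hx y hy
  have := (H.hS.commutative A hA).is_comm.comm ⟨x, hx⟩ ⟨y, hy⟩
  exact congrArg Subtype.val this

theorem exists_partner {A : Subgroup G} (hA : A ∈ S) : ∃ B ∈ S, Cfsg.IsRankOnePair A B := by
  obtain ⟨A₁, hA₁, A₂, hA₂, hne⟩ := H.h2
  have key : ∀ C ∈ S, C ≠ A → ∃ B ∈ S, Cfsg.IsRankOnePair A B := by
    intro C hC hCA
    have hr := H.h1 A hA C hC
    rcases Relation.ReflTransGen.cases_head hr with h | ⟨B, hAB, _⟩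
    · exact absurd h.symm hCA
    · exact ⟨B, hAB.2.1, hAB.2.2⟩
  by_cases h : A₁ = A
  · exact key A₂ hA₂ (by rw [← h]; exact hne.symm)
  · exact key A₁ hA₁ h

theorem conjClass : Cfsg.IsConjClassOfSubgroups S := by
  obtain ⟨A₁, hA₁, _⟩ := H.h2
  refine ⟨⟨A₁, hA₁⟩, ?_⟩
  intro A hA B hB
  exact Cfsg.Agent.S5032.exists_conj_of_reach (H.h1 A hA B hB)

theorem rootClass : Cfsg.IsRootSubgroupClass S := ⟨H.hS, H.conjClass⟩

theorem special {A B : Subgroup G} (hA : A ∈ S) (hB : B ∈ S) (hp : Cfsg.IsRankOnePair A B) :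
    Cfsg.IsSpecialRankOnePair A B := H.h4 A hA B ⟨hB, hp⟩

theorem aus {A B : Subgroup G} (hA : A ∈ S) (hB : B ∈ S) : Cfsg.HasAbelianUnipotents A B :=
  ⟨H.hS.commutative A hA, H.hS.commutative B hB⟩

/-- non-degenerate when some commutator case occurs -/
theorem nondeg {A₀ B₀ : Subgroup G} (hA₀ : A₀ ∈ S) (hB₀ : B₀ ∈ S)
    (hc : Cfsg.RootCommutatorCase S A₀ B₀) : Cfsg.IsNondegenerateRootSet S := by
  refine ⟨⟨A₀, hA₀, ⁅A₀, B₀⁆, hc.1, RootComm.left_ne_comm H.hS hA₀ hc, ?_⟩, ?_,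
    ⟨A₀, hA₀, B₀, hB₀, hc⟩⟩
  · rw [eq_bot_iff, Subgroup.commutator_le]
    intro a ha c hcc
    rw [Subgroup.mem_bot, commutatorElement_eq_one_iff_mul_comm]
    exact (hc.2.1 c hcc a (le_sup_left (a := A₀) ha)).symm
  · obtain ⟨B, hB, hp⟩ := H.exists_partner hA₀
    exact ⟨A₀, hA₀, B, hB, hp⟩

/-- Every member lies in the commutator subgroup. -/
theorem le_commutator {A : Subgroup G} (hA : A ∈ S) : A ≤ commutator G := by
  by_cases hdeg : Cfsg.IsDegenerateRootSet S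
  · obtain ⟨B, hB, hp⟩ := H.exists_partner hA
    rcases RankOneP.card_le_three_or_comm_eq (H.special hA hB hp) (H.aus hA hB) with h | h
    · exact absurd h (not_le.2 (H.h3 hdeg A hA))
    · rw [← h, commutator_def]
      exact Subgroup.commutator_mono le_top le_top
  · unfold Cfsg.IsDegenerateRootSet at hdeg
    push Not at hdeg
    obtain ⟨A₀, hA₀, B₀, hB₀, hc⟩ := hdeg
    obtain ⟨g, hg⟩ := H.conjClass.2 _ hc.1 A hA
    have h1 : ⁅A₀, B₀⁆ ≤ commutator G := by
      rw [commutator_def]; exact Subgroup.commutator_mono le_top le_top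
    intro x hx
    rw [hg, mem_conjBy] at hx
    have h2 := h1 hx
    have h3 : x = g * (g⁻¹ * x * g) * g⁻¹ := by group
    rw [h3]
    exact (inferInstance : (commutator G).Normal).conj_mem _ h2 g

theorem perfect : commutator G = ⊤ := by
  rw [eq_top_iff, ← H.hS.generates]
  exact iSup₂_le fun A hA => H.le_commutator hA

/-- Lemma (R): a rank one pair of members identified modulo `N` yields a member inside `N`. -/
theorem exists_le_of_rankOne {N : Subgroup G} (hN : N.Normal) {P Q : Subgroup G} (hP : P ∈ S)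
    (hQ : Q ∈ S) (hp : Cfsg.IsRankOnePair P Q) {m : G} (hm : m ∈ N) (hQm : Q = Cfsg.conjBy P m) :
    ∃ D ∈ S, D ≤ N := by
  have hcom := commutator_sup_le_of_conj hN hm hQm (H.comm_elem hP)
  rcases RankOneP.card_le_three_or_comm_eq (H.special hP hQ hp) (H.aus hP hQ) with h | h
  · -- nondegenerate
    have hnd : ¬ Cfsg.IsDegenerateRootSet S := fun hdeg => absurd h (not_le.2 (H.h3 hdeg P hP))
    unfold Cfsg.IsDegenerateRootSet at hnd
    push Not at hnd
    obtain ⟨A₀, hA₀, B₀, hB₀, hc⟩ := hnd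
    obtain ⟨⟨F, hFl, hFc⟩, _⟩ := Cfsg.Agent.S5034.result H.rootClass (H.nondeg hA₀ hB₀ hc) hP
      (show Q ∈ Cfsg.rankOnePartners S P from ⟨hQ, hp⟩)
    refine ⟨⁅Q, F⁆, hFc.2, ?_⟩
    rw [Subgroup.commutator_comm]
    refine commutator_le_of_conj hN hm hQm ?_
    intro f hf a ha
    exact (RankOne.commute_of_commutator_eq_bot hFl.1.2.2 ha hf).symm
  · refine ⟨P, hP, ?_⟩
    rw [← h]
    refine le_trans (Subgroup.commutator_mono le_sup_left ?_) hcom
    intro x hx
    exact (RankOneP.mem_diag_iff.1 hx).1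

/-- Lemma (b'). -/
theorem exists_le_of_comm {N : Subgroup G} (hN : N.Normal) {E A C : Subgroup G} (hE : E ∈ S)
    (hA : A ∈ S) (hC : C ∈ S) {μ : G} (hμ : μ ∈ N) (hCμ : C = Cfsg.conjBy A μ)
    (hEA : ⁅E, A⁆ = ⊥) (hEC : ⁅E, C⁆ ≠ ⊥) : ∃ D ∈ S, D ≤ N := by
  have hEA' : ∀ f ∈ E, ∀ a ∈ A, f * a = a * f := fun f hf a ha =>
    RankOne.commute_of_commutator_eq_bot hEA hf ha
  have hle : ⁅E, C⁆ ≤ N := commutator_le_of_conj hN hμ hCμ hEA'
  rcases H.hS.pair E hE C hC with h | hp | hc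
  · exact absurd h hEC
  · -- rank one pair (E, C)
    obtain ⟨e, he, he1⟩ := RankOne.exists_ne_one_left hp
    obtain ⟨c, hc, hc1⟩ := RankOne.exists_ne_one_right hp
    have hw : ⁅e, c⁆ ∈ N := hle (Subgroup.commutator_mem_commutator he hc)
    have hwX : ⁅e, c⁆ ∈ E ⊔ C := by
      rw [commutatorElement_def]
      exact Subgroup.mul_mem _ (Subgroup.mul_mem _ (Subgroup.mul_mem _ (le_sup_left (a := E) he)
        (le_sup_right (a := E) hc)) (Subgroup.inv_mem _ (le_sup_left (a := E) he)))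
        (Subgroup.inv_mem _ (le_sup_right (a := E) hc))
    have hmv : Cfsg.conjBy E ⁅e, c⁆ ≠ E := by
      intro h0
      rw [commutatorElement_def] at h0
      have e1 : e * c * e⁻¹ * c⁻¹ = e * (c * (e⁻¹ * c⁻¹)) := by group
      rw [e1, ← conjBy_conjBy, ← conjBy_conjBy, ← conjBy_conjBy] at h0
      -- conjBy (conjBy (conjBy (conjBy E c⁻¹) e⁻¹) c) e = E
      have h1 : Cfsg.conjBy (Cfsg.conjBy (Cfsg.conjBy E c⁻¹) e⁻¹) c = E := by
        have := conjBy_eq_iff.1 h0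
        rw [this, conjBy_of_mem (E.inv_mem he)]
      have h2 : Cfsg.conjBy (Cfsg.conjBy E c⁻¹) e⁻¹ = Cfsg.conjBy E c⁻¹ := conjBy_eq_iff.1 h1
      have hPm : Cfsg.conjBy E c⁻¹ ∈ Cfsg.unipotentSubgroups E C :=
        ⟨c⁻¹, Subgroup.inv_mem _ (le_sup_right (a := E) hc), rfl⟩
      have hPne : E ≠ Cfsg.conjBy E c⁻¹ := by
        intro h3
        have := RankOne.eq_one_of_normalizes (Cfsg.RankOnePair_symm hp) (C.inv_mem hc) h3.symm
        exact hc1 (inv_eq_one.mp this)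
      have := RankOne.eq_one_of_normalizes' hp (RankOne.left_mem E C) hPm hPne (E.inv_mem he) h2
      exact he1 (inv_eq_one.mp this)
    obtain ⟨m, hm, hCm⟩ := exists_conj_of_moves hp hN hw hwX hmv
    exact H.exists_le_of_rankOne hN hE hC hp hm hCm
  · exact ⟨⁅E, C⁆, hc.1, hle⟩

/-- Step (b): a non-central normal subgroup meets some member non-trivially. -/
theorem exists_mem_inf {N : Subgroup G} (hN : N.Normal) (hnc : ¬ N ≤ Subgroup.center G) :
    ∃ D ∈ S, ∃ x ∈ D, x ∈ N ∧ x ≠ 1 := by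
  -- (a)
  have ha : ∃ ν ∈ N, ∃ A ∈ S, ∃ a ∈ A, ν * a ≠ a * ν := by
    by_contra hcon
    push Not at hcon
    apply hnc
    intro ν hν
    have h1 : (⨆ A ∈ S, A) ≤ Subgroup.centralizer {ν} := by
      refine iSup₂_le fun A hA => ?_
      intro a ha
      rw [Subgroup.mem_centralizer_iff]
      intro y hy
      rw [Set.mem_singleton_iff] at hy
      rw [hy]
      exact hcon ν hν A hA a ha
    rw [H.hS.generates] at h1
    rw [Subgroup.mem_center_iff]
    intro g
    have := h1 (Subgroup.mem_top g)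
    rw [Subgroup.mem_centralizer_iff] at this
    exact (this ν rfl).symm
  obtain ⟨ν, hν, A, hA, a, haA, hne⟩ := ha
  have hν' : ν⁻¹ ∈ N := N.inv_mem hν
  have hCS : Cfsg.conjBy A ν ∈ S := H.hS.conj_mem A hA ν
  have hfromle : (∃ D ∈ S, D ≤ N) → ∃ D ∈ S, ∃ x ∈ D, x ∈ N ∧ x ≠ 1 := by
    rintro ⟨D, hD, hDN⟩
    rcases D.bot_or_exists_ne_one with hb | ⟨x, hx, hx1⟩
    · exact absurd hb (H.hS.ne_bot D hD)
    · exact ⟨D, hD, x, hx, hDN hx, hx1⟩
  by_cases hCA : Cfsg.conjBy A ν = A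
  · refine ⟨A, hA, ν * a * ν⁻¹ * a⁻¹, ?_, ?_, ?_⟩
    · refine A.mul_mem ?_ (A.inv_mem haA)
      rw [← hCA, mem_conjBy]; simpa [mul_assoc] using haA
    · have : ν * a * ν⁻¹ * a⁻¹ = ν * (a * ν⁻¹ * a⁻¹) := by group
      rw [this]
      exact N.mul_mem hν (hN.conj_mem _ hν' a)
    · intro h0; apply hne
      have := congrArg (fun x => x * a * ν) h0
      simpa [mul_assoc] using this
  · apply hfromle
    rcases H.hS.pair A hA _ hCS with h | hp | hc
    · -- commuting case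
      have hdiff := H.h2' A hA _ hCS (Ne.symm hCA)
      have : ∃ E, (E ∈ Cfsg.centralizingMembers S A ∧ E ∉ Cfsg.centralizingMembers S (Cfsg.conjBy A ν)) ∨
          (E ∈ Cfsg.centralizingMembers S (Cfsg.conjBy A ν) ∧ E ∉ Cfsg.centralizingMembers S A) := by
        by_contra hcon
        push Not at hcon
        apply hdiff
        ext E
        constructor
        · intro hE
          exact (hcon E).1 hE
        · intro hE
          exact (hcon E).2 hE
      obtain ⟨E, hE | hE⟩ := this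
      · obtain ⟨⟨hES, hEA⟩, hEC⟩ := hE
        have h1 : ⁅E, A⁆ = ⊥ := Subgroup.commutator_eq_bot_iff_le_centralizer.2 hEA
        have h2 : ⁅E, Cfsg.conjBy A ν⁆ ≠ ⊥ := by
          intro h0
          exact hEC ⟨hES, Subgroup.commutator_eq_bot_iff_le_centralizer.1 h0⟩
        exact H.exists_le_of_comm hN hES hA hCS hν rfl h1 h2
      · obtain ⟨⟨hES, hEC⟩, hEA⟩ := hE
        have h1 : ⁅E, Cfsg.conjBy A ν⁆ = ⊥ := Subgroup.commutator_eq_bot_iff_le_centralizer.2 hEC
        have h2 : ⁅E, A⁆ ≠ ⊥ := by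
          intro h0
          exact hEA ⟨hES, Subgroup.commutator_eq_bot_iff_le_centralizer.1 h0⟩
        have h3 : A = Cfsg.conjBy (Cfsg.conjBy A ν) ν⁻¹ := by
          rw [conjBy_conjBy]; simp [conjBy_one]
        exact H.exists_le_of_comm hN hES hCS hA hν' h3 h1 h2
    · exact H.exists_le_of_rankOne hN hA hCS hp hν rfl
    · refine ⟨⁅A, Cfsg.conjBy A ν⁆, hc.1, ?_⟩
      exact commutator_le_of_conj hN hν rfl (H.comm_elem hA)

/-- Step (c). -/
theorem eq_top_of_mem_inf {N : Subgroup G} (hN : N.Normal) {D : Subgroup G} (hD : D ∈ S) {x : G}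
    (hxD : x ∈ D) (hxN : x ∈ N) (hx1 : x ≠ 1) : N = ⊤ := by
  -- every member meets N
  have hall : ∀ A ∈ S, ∃ y ∈ A, y ∈ N ∧ y ≠ 1 := by
    intro A hA
    obtain ⟨g, hg⟩ := H.conjClass.2 D hD A hA
    refine ⟨g * x * g⁻¹, ?_, hN.conj_mem x hxN g, ?_⟩
    · rw [hg, mem_conjBy]; simpa [mul_assoc] using hxD
    · intro h0; apply hx1
      have : x = g⁻¹ * (g * x * g⁻¹) * g := by group
      rw [this, h0]; group
  -- adjacent members agree modulo N
  have hadj : ∀ A ∈ S, ∀ B ∈ S, Cfsg.IsRankOnePair A B → B ≤ N ⊔ A := by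
    intro A hA B hB hp
    obtain ⟨y, hyB, hyN, hy1⟩ := hall B hB
    have hmv : Cfsg.conjBy A y ≠ A := by
      intro h0
      exact hy1 (RankOne.eq_one_of_normalizes (Cfsg.RankOnePair_symm hp) hyB h0)
    obtain ⟨m, hm, hBm⟩ := exists_conj_of_moves hp hN hyN (le_sup_right (a := A) hyB) hmv
    intro b hb
    rw [hBm, mem_conjBy] at hb
    have : b = m * (m⁻¹ * b * m) * m⁻¹ := by group
    rw [this]
    exact Subgroup.mul_mem _ (Subgroup.mul_mem _ (le_sup_left (a := N) hm)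
      (le_sup_right (a := N) hb)) (Subgroup.inv_mem _ (le_sup_left (a := N) hm))
  have hreach : ∀ C, Relation.ReflTransGen (Cfsg.FAdj S) D C → C ≤ N ⊔ D := by
    intro C hr
    induction hr with
    | refl => exact le_sup_right
    | tail _ hXY ih =>
      refine le_trans (hadj _ hXY.1 _ hXY.2.1 hXY.2.2) ?_
      exact sup_le le_sup_left ih
  have htop : N ⊔ D = ⊤ := by
    rw [eq_top_iff, ← H.hS.generates]
    exact iSup₂_le fun C hC => hreach C (H.h1 D hD C hC)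
  have := commutator_le_of_sup_eq_top hN htop (H.comm_elem hD)
  rw [H.perfect] at this
  exact eq_top_iff.2 this

theorem normal_le_center_or_eq_top {N : Subgroup G} (hN : N.Normal) :
    N ≤ Subgroup.center G ∨ N = ⊤ := by
  by_cases hnc : N ≤ Subgroup.center G
  · exact Or.inl hnc
  · right
    obtain ⟨D, hD, x, hxD, hxN, hx1⟩ := H.exists_mem_inf hN hnc
    exact H.eq_top_of_mem_inf hN hD hxD hxN hx1

end Hyp

end RootQS
end Cfsg.Agent.Helper25
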