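import Mathlib
import Cfsg.Prelude.Def_RootSubgroups
import Cfsg.Agent.Lib.Helper25.RootSL2
import Cfsg.Agent.Lib.Helper25.RootComm

set_option autoImplicit false

namespace Cfsg.Agent.Helper25
namespace RootSL

open Matrix
open scoped commutatorElement

variable {ι : Type*} [Fintype ι] [DecidableEq ι] {k : Type*} [Field k]

/-- commuting transvections. -/
theorem T_commute {v f w h : ι → k} (hfv : f ⬝ᵥ v = 0) (hhw : h ⬝ᵥ w = 0)
    (hfw : f ⬝ᵥ w = 0) (hhv : h ⬝ᵥ v = 0) (c d : k) :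
    T v f hfv c * T w h hhw d = T w h hhw d * T v f hfv c := by
  apply Subtype.ext
  rw [val_mul, val_mul, T_val, T_val, tmat_mul, tmat_mul, hfw, hhv, mul_zero, mul_zero, zero_smul,
    zero_smul]
  abel

/-- the commutator relation. -/
theorem T_comm_rel {v f w h : ι → k} (hfv : f ⬝ᵥ v = 0) (hhw : h ⬝ᵥ w = 0)
    (hfw : f ⬝ᵥ w = 0) (c d : k) :
    T v f hfv c * T w h hhw d =
      T w f hfw (-(c * d * (h ⬝ᵥ v))) * (T w h hhw d * T v f hfv c) := by
  apply Subtype.ext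
  rw [val_mul, val_mul, val_mul, T_val, T_val, T_val, Matrix.ext_iff_mulVec]
  intro x
  simp only [← mulVec_mulVec, tmat_mulVec, dotProduct_add, dotProduct_smul, smul_eq_mul,
    hfv, hfw]
  module

theorem T_commutator {v f w h : ι → k} (hfv : f ⬝ᵥ v = 0) (hhw : h ⬝ᵥ w = 0)
    (hfw : f ⬝ᵥ w = 0) (c d : k) :
    ⁅T v f hfv c, T w h hhw d⁆ = T w f hfw (-(c * d * (h ⬝ᵥ v))) := by
  rw [commutatorElement_def, T_comm_rel hfv hhw hfw]
  group

theorem T_eq_one_iff {v f : ι → k} (hv : v ≠ 0) (hf : f ≠ 0) (hfv : f ⬝ᵥ v = 0) (c : k) :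
    T v f hfv c = 1 ↔ c = 0 := by
  constructor
  · intro h
    obtain ⟨i, hi⟩ := Function.ne_iff.1 hv
    obtain ⟨j, hj⟩ := Function.ne_iff.1 hf
    have h1 : tmat v f c = 1 := congrArg Subtype.val h
    have h2 := congrFun (congrFun h1 i) j
    unfold tmat at h2
    rw [Matrix.add_apply, Matrix.smul_apply, vecMulVec_apply, add_eq_left, smul_eq_mul] at h2
    rcases mul_eq_zero.1 h2 with h3 | h3
    · exact h3
    · rcases mul_eq_zero.1 h3 with h4 | h4
      · exact absurd h4 hi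
      · exact absurd h4 hj
  · rintro rfl
    exact T_zero v f hfv

theorem T_injective {v f : ι → k} (hv : v ≠ 0) (hf : f ≠ 0) (hfv : f ⬝ᵥ v = 0) :
    Function.Injective (T v f hfv) := by
  intro c d hcd
  have : T v f hfv (c - d) = 1 := by
    rw [sub_eq_add_neg, ← T_mul, ← T_inv, hcd, mul_inv_cancel]
  exact sub_eq_zero.1 ((T_eq_one_iff hv hf hfv _).1 this)

theorem R_comm (v f : ι → k) (hfv : f ⬝ᵥ v = 0) : IsMulCommutative (R v f) := by
  refine ⟨⟨?_⟩⟩
  rintro ⟨a, ha⟩ ⟨b, hb⟩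
  obtain ⟨c, rfl⟩ := (mem_R' hfv).1 ha
  obtain ⟨d, rfl⟩ := (mem_R' hfv).1 hb
  apply Subtype.ext
  change T v f hfv c * T v f hfv d = T v f hfv d * T v f hfv c
  rw [T_mul, T_mul, add_comm]

theorem R_ne_bot {v f : ι → k} (hv : v ≠ 0) (hf : f ≠ 0) (hfv : f ⬝ᵥ v = 0) : R v f ≠ ⊥ := by
  intro h
  have h1 : T v f hfv 1 ∈ R v f := T_mem v f hfv 1
  rw [h, Subgroup.mem_bot, T_eq_one_iff hv hf] at h1
  exact one_ne_zero h1

/-- the commuting case. -/
theorem comm_eq_bot {v f w h : ι → k} (hfv : f ⬝ᵥ v = 0) (hhw : h ⬝ᵥ w = 0)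
    (hfw : f ⬝ᵥ w = 0) (hhv : h ⬝ᵥ v = 0) : ⁅R v f, R w h⁆ = ⊥ := by
  rw [eq_bot_iff, Subgroup.commutator_le]
  intro a ha b hb
  obtain ⟨c, rfl⟩ := (mem_R' hfv).1 ha
  obtain ⟨d, rfl⟩ := (mem_R' hhw).1 hb
  rw [Subgroup.mem_bot, commutatorElement_eq_one_iff_mul_comm]
  exact T_commute hfv hhw hfw hhv c d

theorem commute_of {v f w h : ι → k} (hfv : f ⬝ᵥ v = 0) (hhw : h ⬝ᵥ w = 0)
    (hfw : f ⬝ᵥ w = 0) (hhv : h ⬝ᵥ v = 0) {a b : SpecialLinearGroup ι k} (ha : a ∈ R v f)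
    (hb : b ∈ R w h) : a * b = b * a := by
  obtain ⟨c, rfl⟩ := (mem_R' hfv).1 ha
  obtain ⟨d, rfl⟩ := (mem_R' hhw).1 hb
  exact T_commute hfv hhw hfw hhv c d

/-- the commutator subgroup in the commutator case. -/
theorem comm_eq {v f w h : ι → k} (hfv : f ⬝ᵥ v = 0) (hhw : h ⬝ᵥ w = 0)
    (hfw : f ⬝ᵥ w = 0) (hhv : h ⬝ᵥ v ≠ 0) : ⁅R v f, R w h⁆ = R w f := by
  apply le_antisymm
  · rw [Subgroup.commutator_le]
    intro a ha b hb
    obtain ⟨c, rfl⟩ := (mem_R' hfv).1 ha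
    obtain ⟨d, rfl⟩ := (mem_R' hhw).1 hb
    rw [T_commutator hfv hhw hfw]
    exact T_mem _ _ _ _
  · intro g hg
    obtain ⟨e, rfl⟩ := (mem_R' hfw).1 hg
    have h1 : ⁅T v f hfv 1, T w h hhw (-(e / (h ⬝ᵥ v)))⁆ = T w f hfw e := by
      rw [T_commutator hfv hhw hfw]
      congr 1
      field_simp
    rw [← h1]
    exact Subgroup.commutator_mem_commutator (T_mem _ _ _ _) (T_mem _ _ _ _)

/-- the commutator case. -/
theorem commCase {S : Set (Subgroup (SpecialLinearGroup ι k))} {v f w h : ι → k}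
    (hv : v ≠ 0) (hf : f ≠ 0) (hw : w ≠ 0) (hh : h ≠ 0)
    (hfv : f ⬝ᵥ v = 0) (hhw : h ⬝ᵥ w = 0)
    (hfw : f ⬝ᵥ w = 0) (hhv : h ⬝ᵥ v ≠ 0) (hS : R w f ∈ S) :
    Cfsg.RootCommutatorCase S (R v f) (R w h) := by
  have hc := comm_eq hfv hhw hfw hhv
  refine ⟨by rw [hc]; exact hS, ?_, ?_, ?_⟩
  · intro c hcm x hx
    rw [hc] at hcm
    have hle : R v f ⊔ R w h ≤ Subgroup.centralizer {c} := by
      apply sup_le
      · intro a ha
        rw [Subgroup.mem_centralizer_singleton_iff]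
        exact commute_of hfv hfw hfw hfv ha hcm
      · intro b hb
        rw [Subgroup.mem_centralizer_singleton_iff]
        exact commute_of hhw hfw hhw hfw hb hcm
    have := hle hx
    rw [Subgroup.mem_centralizer_singleton_iff] at this
    exact this.symm
  · intro a ha ha1
    obtain ⟨c, rfl⟩ := (mem_R' hfv).1 ha
    have hc0 : c ≠ 0 := fun h0 => ha1 ((T_eq_one_iff hv hf hfv c).2 h0)
    rw [hc]
    apply le_antisymm
    · rw [Subgroup.closure_le]
      rintro _ ⟨b, hb, rfl⟩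
      obtain ⟨d, rfl⟩ := (mem_R' hhw).1 hb
      have := T_commutator hfv hhw hfw c d
      rw [commutatorElement_def] at this
      simp only [this]
      exact T_mem _ _ _ _
    · intro g hg
      obtain ⟨e, rfl⟩ := (mem_R' hfw).1 hg
      apply Subgroup.subset_closure
      refine ⟨T w h hhw (-(e / (c * (h ⬝ᵥ v)))), T_mem _ _ _ _, ?_⟩
      have := T_commutator hfv hhw hfw c (-(e / (c * (h ⬝ᵥ v))))
      rw [commutatorElement_def] at this
      simp only [this]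
      congr 1
      field_simp
  · intro b hb hb1
    obtain ⟨d, rfl⟩ := (mem_R' hhw).1 hb
    have hd0 : d ≠ 0 := fun h0 => hb1 ((T_eq_one_iff hw hh hhw d).2 h0)
    rw [hc]
    apply le_antisymm
    · rw [Subgroup.closure_le]
      rintro _ ⟨a, ha, rfl⟩
      obtain ⟨c, rfl⟩ := (mem_R' hfv).1 ha
      have := T_commutator hfv hhw hfw c d
      rw [commutatorElement_def] at this
      simp only [this]
      exact T_mem _ _ _ _
    · intro g hg
      obtain ⟨e, rfl⟩ := (mem_R' hfw).1 hg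
      apply Subgroup.subset_closure
      refine ⟨T v f hfv (-(e / (d * (h ⬝ᵥ v)))), T_mem _ _ _ _, ?_⟩
      have := T_commutator hfv hhw hfw (-(e / (d * (h ⬝ᵥ v)))) d
      rw [commutatorElement_def] at this
      simp only [this]
      congr 1
      field_simp

end RootSL
end Cfsg.Agent.Helper25
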