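import Mathlib
import Cfsg.Prelude.Def_RootSubgroups
import Cfsg.Agent.Lib.Helper25.RootSL3

set_option autoImplicit false

namespace Cfsg.Agent.Helper25
namespace RootSL

open Matrix
open scoped commutatorElement

variable {ι : Type*} [Fintype ι] [DecidableEq ι] {k : Type*} [Field k]

/-- the root groups attached to incident point–hyperplane pairs. -/
def flagGroups (ι : Type*) [Fintype ι] [DecidableEq ι] (k : Type*) [Field k] :
    Set (Subgroup (SpecialLinearGroup ι k)) :=
  {A | ∃ v f : ι → k, v ≠ 0 ∧ f ≠ 0 ∧ f ⬝ᵥ v = 0 ∧ A = R v f}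

theorem mulVec_ne_zero (g : SpecialLinearGroup ι k) {v : ι → k} (hv : v ≠ 0) :
    (g : Matrix ι ι k) *ᵥ v ≠ 0 := by
  intro h
  apply hv
  have : v = ((g⁻¹ : SpecialLinearGroup ι k) : Matrix ι ι k) *ᵥ ((g : Matrix ι ι k) *ᵥ v) := by
    rw [mulVec_mulVec, val_inv_mul, one_mulVec]
  rw [this, h, mulVec_zero]

theorem vecMul_ne_zero (g : SpecialLinearGroup ι k) {f : ι → k} (hf : f ≠ 0) :
    f ᵥ* (g : Matrix ι ι k) ≠ 0 := by
  intro h
  apply hf
  have : f = (f ᵥ* (g : Matrix ι ι k)) ᵥ* ((g⁻¹ : SpecialLinearGroup ι k) : Matrix ι ι k) := by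
    rw [vecMul_vecMul, val_mul_inv, vecMul_one]
  rw [this, h, zero_vecMul]

theorem flag_conj_mem {A : Subgroup (SpecialLinearGroup ι k)} (hA : A ∈ flagGroups ι k)
    (g : SpecialLinearGroup ι k) : Cfsg.conjBy A g ∈ flagGroups ι k := by
  obtain ⟨v, f, hv, hf, hfv, rfl⟩ := hA
  refine ⟨_, _, mulVec_ne_zero g hv, vecMul_ne_zero g⁻¹ hf, (dot_conj g v f).trans hfv,
    conjBy_R g v f hfv⟩

theorem flag_mem {v f : ι → k} (hv : v ≠ 0) (hf : f ≠ 0) (hfv : f ⬝ᵥ v = 0) :
    R v f ∈ flagGroups ι k := ⟨v, f, hv, hf, hfv, rfl⟩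

/-- the classification of pairs. -/
theorem flag_cases {v f w h : ι → k} (hv : v ≠ 0) (hf : f ≠ 0) (hw : w ≠ 0) (hh : h ≠ 0)
    (hfv : f ⬝ᵥ v = 0) (hhw : h ⬝ᵥ w = 0) :
    ⁅R v f, R w h⁆ = ⊥ ∨
      (Cfsg.IsRankOnePair (R v f) (R w h) ∧ Cfsg.IsPSL2PairOver k (R v f) (R w h)) ∨
      Cfsg.RootCommutatorCase (flagGroups ι k) (R v f) (R w h) := by
  by_cases hfw : f ⬝ᵥ w = 0
  · by_cases hhv : h ⬝ᵥ v = 0
    · exact Or.inl (comm_eq_bot hfv hhw hfw hhv)
    · exact Or.inr (Or.inr (commCase hv hf hw hh hfv hhw hfw hhv (flag_mem hw hf hfw)))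
  · by_cases hhv : h ⬝ᵥ v = 0
    · exact Or.inr (Or.inr (RootComm.symm
        (commCase hw hh hv hf hhw hfv hhv hfw (flag_mem hv hh hhv))))
    · exact Or.inr (Or.inl ⟨rankOne_of hfv hhw hfw hhv, isPSL2_of hfv hhw hfw hhv⟩)

theorem flag_pair {A B : Subgroup (SpecialLinearGroup ι k)} (hA : A ∈ flagGroups ι k)
    (hB : B ∈ flagGroups ι k) :
    ⁅A, B⁆ = ⊥ ∨ Cfsg.IsRankOnePair A B ∨ Cfsg.RootCommutatorCase (flagGroups ι k) A B := by
  obtain ⟨v, f, hv, hf, hfv, rfl⟩ := hA
  obtain ⟨w, h, hw, hh, hhw, rfl⟩ := hB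
  rcases flag_cases hv hf hw hh hfv hhw with h1 | h1 | h1
  · exact Or.inl h1
  · exact Or.inr (Or.inl h1.1)
  · exact Or.inr (Or.inr h1)

/-! ### generation -/

theorem transvection_eq (i j : ι) (c : k) :
    Matrix.transvection i j c = tmat (Pi.single i 1) (Pi.single j 1) c := by
  unfold Matrix.transvection tmat
  rw [← single_eq_single_vecMulVec_single, Matrix.smul_single, smul_eq_mul, mul_one]

theorem single_dot_ne {i j : ι} (hij : i ≠ j) :
    (Pi.single j (1 : k) : ι → k) ⬝ᵥ Pi.single i 1 = 0 := by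
  rw [dotProduct_single, mul_one, Pi.single_apply, if_neg hij]

theorem single_dot_self (i : ι) :
    (Pi.single i (1 : k) : ι → k) ⬝ᵥ Pi.single i 1 = 1 := by
  rw [dotProduct_single, mul_one, Pi.single_apply, if_pos rfl]

theorem single_ne_zero' (i : ι) : (Pi.single i (1 : k) : ι → k) ≠ 0 := by
  intro h
  have := congrFun h i
  rw [Pi.single_eq_same, Pi.zero_apply] at this
  exact one_ne_zero this

theorem pairing_single {i j : ι} (hij : i ≠ j) :
    Pairing (Pi.single i (1 : k)) (Pi.single j 1) (Pi.single i 1) (Pi.single j 1) :=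
  ⟨single_dot_self i, single_dot_ne hij.symm, single_dot_ne hij, single_dot_self j⟩

theorem rho_diag {i j : ι} (hij : i ≠ j) (c : k) (hc : c ≠ 0) :
    (pairing_single (k := k) hij).rho (SpecialLinearGroup.diag2 c hc) =
      SpecialLinearGroup.diag2n hij c hc := by
  apply Subtype.ext
  rw [Pairing.rho_val, SpecialLinearGroup.diag2_coe', SpecialLinearGroup.diag2n_coe]
  ext x y
  unfold rhoMat
  simp only [Matrix.add_apply, Matrix.mul_apply, Fin.sum_univ_two, Umat, Vmat, Matrix.of_apply,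
    Matrix.sub_apply, Matrix.one_apply, diagonal_apply, Pi.single_apply]
  by_cases hxy : x = y
  · subst hxy
    by_cases hxi : x = i
    · subst hxi
      simp [hij]
    · by_cases hxj : x = j
      · subst hxj
        simp [hxi]
      · simp [hxi, hxj]
  · by_cases hxi : x = i
    · subst hxi
      have : ¬ y = x := fun h => hxy h.symm
      simp [hxy, this, hij]
    · by_cases hxj : x = j
      · subst hxj
        have : ¬ y = x := fun h => hxy h.symm
        simp [hxy, this, hxi]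
      · simp [hxy, hxi, hxj]

theorem flag_generates [Nontrivial ι] : (⨆ A ∈ flagGroups ι k, A) = ⊤ := by
  rw [eq_top_iff]
  intro M _
  have hle : ∀ {i j : ι}, i ≠ j → R (Pi.single i (1 : k)) (Pi.single j 1) ≤ ⨆ A ∈ flagGroups ι k, A := by
    intro i j hij
    exact le_iSup₂ (f := fun (A : Subgroup (SpecialLinearGroup ι k)) (_ : A ∈ flagGroups ι k) => A) _
      (flag_mem (single_ne_zero' i) (single_ne_zero' j) (single_dot_ne hij))
  refine SpecialLinearGroup.diagonal_transvection_induction'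
    (fun M => M ∈ ⨆ A ∈ flagGroups ι k, A) M ?_ ?_ ?_
  · intro i j hij c hc
    rw [← rho_diag hij c hc]
    have h1 : (pairing_single (k := k) hij).rho (SpecialLinearGroup.diag2 c hc) ∈
        (pairing_single (k := k) hij).rho.range := ⟨_, rfl⟩
    rw [Pairing.range_rho] at h1
    exact (sup_le (hle hij) (hle hij.symm)) h1
  · intro i j hij a
    apply hle hij
    rw [mem_R (single_dot_ne hij)]
    exact ⟨a, by rw [SpecialLinearGroup.transvection_coe]; exact transvection_eq i j a⟩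
  · intro A B hA hB
    exact mul_mem hA hB

theorem flag_rootSet [Nontrivial ι] : Cfsg.IsRootSubgroupSet (flagGroups ι k) where
  commutative := by
    rintro A ⟨v, f, _, _, hfv, rfl⟩
    exact R_comm v f hfv
  ne_bot := by
    rintro A ⟨v, f, hv, hf, hfv, rfl⟩
    exact R_ne_bot hv hf hfv
  generates := flag_generates
  conj_mem := fun A hA g => flag_conj_mem hA g
  pair := fun A hA B hB => flag_pair hA hB

end RootSL
end Cfsg.Agent.Helper25
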