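import Mathlib
import Cfsg.Prelude.Def_RootSubgroups
import Cfsg.Agent.Lib.Helper25.RootSL4

set_option autoImplicit false

namespace Cfsg.Agent.Helper25
namespace RootSL

open Matrix
open scoped commutatorElement

variable {ι : Type*} [Fintype ι] [DecidableEq ι] {k : Type*} [Field k]

/-- move a vector onto a coordinate axis. -/
theorem move_vec (x : ι → k) (i : ι) (hx : x i ≠ 0) :
    ∃ g : SpecialLinearGroup ι k, (g : Matrix ι ι k) *ᵥ x = x i • Pi.single i 1 := by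
  have h0 : (Pi.single i (1 : k) : ι → k) ⬝ᵥ (Pi.single i 1 - (x i)⁻¹ • x) = 0 := by
    rw [dotProduct_sub, single_dot_self, dotProduct_smul, single_dotProduct, one_mul, smul_eq_mul,
      inv_mul_cancel₀ hx, sub_self]
  refine ⟨T (Pi.single i 1 - (x i)⁻¹ • x) (Pi.single i 1) h0 1, ?_⟩
  rw [T_val, tmat_mulVec, single_dotProduct, one_mul, one_mul, smul_sub, smul_smul,
    mul_inv_cancel₀ hx, one_smul]
  abel

theorem move_vec' (i₀ : ι) {v : ι → k} (hv : v ≠ 0) :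
    ∃ g : SpecialLinearGroup ι k, ∃ a : k, a ≠ 0 ∧ (g : Matrix ι ι k) *ᵥ v = a • Pi.single i₀ 1 := by
  by_cases h0 : v i₀ = 0
  · obtain ⟨j, hj⟩ := Function.ne_iff.1 hv
    rw [Pi.zero_apply] at hj
    have hji : j ≠ i₀ := by
      rintro rfl
      exact hj h0
    have hd : (Pi.single j (1 : k) : ι → k) ⬝ᵥ Pi.single i₀ 1 = 0 := single_dot_ne hji.symm
    have h1 : (tmat (Pi.single i₀ 1) (Pi.single j 1) (1 : k) *ᵥ v) i₀ ≠ 0 := by
      rw [tmat_mulVec, single_dotProduct, one_mul, one_mul, Pi.add_apply, Pi.smul_apply,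
        Pi.single_eq_same, h0, zero_add, smul_eq_mul, mul_one]
      exact hj
    obtain ⟨g, hg⟩ := move_vec _ i₀ h1
    refine ⟨g * T (Pi.single i₀ 1) (Pi.single j 1) hd 1, _, h1, ?_⟩
    rw [val_mul, ← mulVec_mulVec, T_val]
    exact hg
  · obtain ⟨g, hg⟩ := move_vec v i₀ h0
    exact ⟨g, _, h0, hg⟩

/-- move a covector onto a coordinate axis. -/
theorem move_covec (f : ι → k) (i : ι) (hf : f i ≠ 0) :
    ∃ y : SpecialLinearGroup ι k, f ᵥ* (y : Matrix ι ι k) = f i • Pi.single i 1 ∧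
      ∀ z : ι → k, f ⬝ᵥ z = 0 → z i = 0 → (y : Matrix ι ι k) *ᵥ z = z := by
  have h0 : (Pi.single i 1 - (f i)⁻¹ • f) ⬝ᵥ (Pi.single i (1 : k) : ι → k) = 0 := by
    rw [sub_dotProduct, single_dot_self, smul_dotProduct, dotProduct_single, mul_one, smul_eq_mul,
      inv_mul_cancel₀ hf, sub_self]
  refine ⟨T (Pi.single i 1) (Pi.single i 1 - (f i)⁻¹ • f) h0 1, ?_, ?_⟩
  · rw [T_val, vecMul_tmat, dotProduct_single, mul_one, one_mul, smul_sub, smul_smul,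
      mul_inv_cancel₀ hf, one_smul]
    abel
  · intro z hz hzi
    rw [T_val, tmat_mulVec, sub_dotProduct, single_dotProduct, one_mul, smul_dotProduct, hz, hzi,
      smul_zero, sub_zero, mul_zero, zero_smul, add_zero]

theorem move_covec' {i₀ i₁ : ι} (hi : i₀ ≠ i₁) {f : ι → k} (hf : f ≠ 0) (hf0 : f i₀ = 0) :
    ∃ y : SpecialLinearGroup ι k, ∃ b : k, b ≠ 0 ∧
      f ᵥ* (y : Matrix ι ι k) = b • Pi.single i₁ 1 ∧
      (y : Matrix ι ι k) *ᵥ Pi.single i₀ 1 = Pi.single i₀ 1 := by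
  by_cases h1 : f i₁ = 0
  · obtain ⟨j, hj⟩ := Function.ne_iff.1 hf
    rw [Pi.zero_apply] at hj
    have hj1 : j ≠ i₁ := by
      rintro rfl
      exact hj h1
    have hd : (Pi.single i₁ (1 : k) : ι → k) ⬝ᵥ Pi.single j 1 = 0 := single_dot_ne hj1
    have hf' : f ᵥ* tmat (Pi.single j 1) (Pi.single i₁ 1) (1 : k) = f + f j • Pi.single i₁ 1 := by
      rw [vecMul_tmat, dotProduct_single, mul_one, one_mul]
    have h2 : (f ᵥ* tmat (Pi.single j 1) (Pi.single i₁ 1) (1 : k)) i₁ ≠ 0 := by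
      rw [hf', Pi.add_apply, Pi.smul_apply, Pi.single_eq_same, h1, zero_add, smul_eq_mul, mul_one]
      exact hj
    have h3 : (f ᵥ* tmat (Pi.single j 1) (Pi.single i₁ 1) (1 : k)) ⬝ᵥ Pi.single i₀ 1 = 0 := by
      rw [dotProduct_single, mul_one, hf', Pi.add_apply, Pi.smul_apply, hf0, zero_add,
        Pi.single_apply, if_neg hi, smul_zero]
    obtain ⟨y, hy1, hy2⟩ := move_covec _ i₁ h2
    refine ⟨T (Pi.single j 1) (Pi.single i₁ 1) hd 1 * y, _, h2, ?_, ?_⟩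
    · rw [val_mul, ← vecMul_vecMul, T_val]
      exact hy1
    · rw [val_mul, ← mulVec_mulVec, hy2 _ h3 (by rw [Pi.single_apply, if_neg hi.symm]), T_val,
        tmat_mulVec, single_dot_ne hi, mul_zero, zero_smul, add_zero]
  · obtain ⟨y, hy1, hy2⟩ := move_covec f i₁ h1
    refine ⟨y, _, h1, hy1, hy2 _ ?_ ?_⟩
    · rw [dotProduct_single, mul_one, hf0]
    · rw [Pi.single_apply, if_neg hi.symm]

/-- flag transitivity. -/
theorem flag_trans {i₀ i₁ : ι} (hi : i₀ ≠ i₁) {A : Subgroup (SpecialLinearGroup ι k)}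
    (hA : A ∈ flagGroups ι k) :
    ∃ g : SpecialLinearGroup ι k, A = Cfsg.conjBy (R (Pi.single i₀ (1 : k)) (Pi.single i₁ 1)) g := by
  obtain ⟨v, f, hv, hf, hfv, rfl⟩ := hA
  obtain ⟨g₁, a, ha, hg₁⟩ := move_vec' i₀ hv
  have hf'0 : f ᵥ* ((g₁⁻¹ : SpecialLinearGroup ι k) : Matrix ι ι k) ≠ 0 := vecMul_ne_zero g₁⁻¹ hf
  have hd := (dot_conj g₁ v f).trans hfv
  rw [hg₁, dotProduct_smul, dotProduct_single, mul_one, smul_eq_mul] at hd
  have hf'i : (f ᵥ* ((g₁⁻¹ : SpecialLinearGroup ι k) : Matrix ι ι k)) i₀ = 0 := by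
    rcases mul_eq_zero.1 hd with h | h
    · exact absurd h ha
    · exact h
  have hfe : (f ᵥ* ((g₁⁻¹ : SpecialLinearGroup ι k) : Matrix ι ι k)) ⬝ᵥ Pi.single i₀ 1 = 0 := by
    rw [dotProduct_single, mul_one, hf'i]
  obtain ⟨y, b, hb, hy1, hy2⟩ := move_covec' hi hf'0 hf'i
  have hy3 : ((y⁻¹ : SpecialLinearGroup ι k) : Matrix ι ι k) *ᵥ Pi.single i₀ 1 =
      (Pi.single i₀ 1 : ι → k) := by
    conv_lhs => rw [← hy2]
    rw [mulVec_mulVec, val_inv_mul, one_mulVec]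
  have h1 : Cfsg.conjBy (R v f) g₁ =
      R (Pi.single i₀ 1) (f ᵥ* ((g₁⁻¹ : SpecialLinearGroup ι k) : Matrix ι ι k)) := by
    rw [conjBy_R g₁ v f hfv, hg₁, R_smul_left _ _ ha]
  have h2 : Cfsg.conjBy (R (Pi.single i₀ 1)
      (f ᵥ* ((g₁⁻¹ : SpecialLinearGroup ι k) : Matrix ι ι k))) y⁻¹ =
      R (Pi.single i₀ (1 : k)) (Pi.single i₁ 1) := by
    rw [conjBy_R y⁻¹ _ _ hfe, hy3, inv_inv, hy1, R_smul_right _ _ hb]
  refine ⟨(y⁻¹ * g₁)⁻¹, ?_⟩
  rw [← conjBy_eq_iff, ← conjBy_conjBy, h1, h2]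

end RootSL
end Cfsg.Agent.Helper25
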