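import Mathlib
import Cfsg.Agent.Lib.Helper25.SL2RankOne

set_option autoImplicit false

namespace Cfsg.Agent.Helper25
namespace SL2Char2

open Matrix

variable {F : Type*} [Field F] [CharP F 2]

theorem two_eq_zero' : (2 : F) = 0 := CharTwo.two_eq_zero

/-- Cayley–Hamilton in characteristic 2 for determinant one. -/
theorem sq_eq (A : Matrix (Fin 2) (Fin 2) F) (hdet : A.det = 1) :
    A * A = A.trace • A + 1 := by
  have h2 : (2 : F) = 0 := two_eq_zero'
  rw [Matrix.det_fin_two] at hdet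
  ext i j
  fin_cases i <;> fin_cases j <;>
    simp [Matrix.mul_apply, Fin.sum_univ_two, Matrix.trace_fin_two]
  · linear_combination -hdet - h2
  · ring
  · ring
  · linear_combination -hdet - h2

theorem pow_span (A : Matrix (Fin 2) (Fin 2) F) (hdet : A.det = 1) (j : ℕ) :
    ∃ x y : F, A ^ j = x • A + y • (1 : Matrix (Fin 2) (Fin 2) F) := by
  induction j with
  | zero => exact ⟨0, 1, by simp⟩
  | succ j ih =>
    obtain ⟨x, y, h⟩ := ih
    refine ⟨x * A.trace + y, x, ?_⟩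
    rw [pow_succ, h, add_mul, smul_mul_assoc, sq_eq A hdet, smul_mul_assoc, one_mul]
    module

/-- a power of `A` squaring to one is one. -/
theorem pow_eq_one_of_sq (A : Matrix (Fin 2) (Fin 2) F) (hdet : A.det = 1) (hb : A 0 1 ≠ 0)
    (ht : A.trace ≠ 0) (j : ℕ) (hN : A ^ j * A ^ j = 1) : A ^ j = 1 := by
  have h2 : (2 : F) = 0 := two_eq_zero'
  obtain ⟨x, y, h⟩ := pow_span A hdet j
  rw [h] at hN ⊢
  have e01 := congrFun (congrFun hN 0) 1
  have e00 := congrFun (congrFun hN 0) 0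
  simp [Matrix.mul_apply, Fin.sum_univ_two] at e01 e00
  rw [Matrix.trace_fin_two] at ht
  have hx2 : x ^ 2 * (A 0 1 * (A 0 0 + A 1 1)) = 0 := by
    linear_combination e01 - x * y * A 0 1 * h2
  have hx : x = 0 := by
    rcases mul_eq_zero.1 hx2 with h3 | h3
    · exact pow_eq_zero_iff (two_ne_zero) |>.1 h3
    · rcases mul_eq_zero.1 h3 with h4 | h4
      · exact absurd h4 hb
      · exact absurd h4 ht
  subst hx
  simp at e00
  have hy : (y - 1) ^ 2 = 0 := by
    linear_combination e00 - y * h2 + h2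
  have hy1 : y = 1 := sub_eq_zero.1 (pow_eq_zero_iff (two_ne_zero) |>.1 hy)
  subst hy1
  simp

theorem odd_orderOf (M : SpecialLinearGroup (Fin 2) F) (hfin : IsOfFinOrder M)
    (hb : (M : Matrix (Fin 2) (Fin 2) F) 0 1 ≠ 0)
    (ht : (M : Matrix (Fin 2) (Fin 2) F).trace ≠ 0) : Odd (orderOf M) := by
  rw [← Nat.not_even_iff_odd]
  rintro ⟨m, hm⟩
  have hpos : 0 < orderOf M := hfin.orderOf_pos
  have h1 : M ^ m * M ^ m = 1 := by
    rw [← pow_add, ← hm, pow_orderOf_eq_one]
  have h2 : (M : Matrix (Fin 2) (Fin 2) F) ^ m * (M : Matrix (Fin 2) (Fin 2) F) ^ m = 1 := by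
    have := congrArg (fun X : SpecialLinearGroup (Fin 2) F => (X : Matrix (Fin 2) (Fin 2) F)) h1
    simpa using this
  have h3 := pow_eq_one_of_sq (M : Matrix (Fin 2) (Fin 2) F) M.2 hb ht m h2
  have h4 : M ^ m = 1 := by
    apply Subtype.ext
    simpa using h3
  have := Nat.le_of_dvd (by omega) (orderOf_dvd_of_pow_eq_one h4)
  omega

theorem cube_eq_one (M : SpecialLinearGroup (Fin 2) F)
    (ht : (M : Matrix (Fin 2) (Fin 2) F).trace = 1) : M ^ 3 = 1 := by
  have h2 : (2 : F) = 0 := two_eq_zero'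
  have hs := sq_eq (M : Matrix (Fin 2) (Fin 2) F) M.2
  rw [ht, one_smul] at hs
  apply Subtype.ext
  have : ((M ^ 3 : SpecialLinearGroup (Fin 2) F) : Matrix (Fin 2) (Fin 2) F) =
      (M : Matrix (Fin 2) (Fin 2) F) * (M : Matrix (Fin 2) (Fin 2) F) *
        (M : Matrix (Fin 2) (Fin 2) F) := by
    rw [pow_succ, pow_two]; rfl
  rw [this, hs, add_mul, one_mul, hs]
  have h3 : (M : Matrix (Fin 2) (Fin 2) F) + 1 + (M : Matrix (Fin 2) (Fin 2) F) =
      (2 : F) • (M : Matrix (Fin 2) (Fin 2) F) + 1 := by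
    rw [two_smul]; abel
  rw [h3, h2, zero_smul, zero_add]
  rfl

end SL2Char2
end Cfsg.Agent.Helper25
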