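import Mathlib
import Cfsg.Prelude.Def_RootSubgroups
import Cfsg.Agent.Lib.Helper25.RootSL5
import Cfsg.Agent.Lib.Helper25.SL2Char2

set_option autoImplicit false

namespace Cfsg.Agent.Helper25
namespace RootSL

open Matrix
open scoped commutatorElement

variable {ι : Type*} [Fintype ι] [DecidableEq ι] {F : Type*} [Field F]

/-- the set of transvections. -/
def transv (ι : Type*) [Fintype ι] [DecidableEq ι] (F : Type*) [Field F] :
    Set (SpecialLinearGroup ι F) :=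
  {t | ∃ v f : ι → F, v ≠ 0 ∧ f ≠ 0 ∧ ∃ hfv : f ⬝ᵥ v = 0, t = T v f hfv 1}

theorem T_mem_transv {v f : ι → F} (hv : v ≠ 0) (hf : f ≠ 0) (hfv : f ⬝ᵥ v = 0) {c : F}
    (hc : c ≠ 0) : T v f hfv c ∈ transv ι F := by
  refine ⟨c • v, f, smul_ne_zero hc hv, hf, by rw [dotProduct_smul, hfv, smul_zero], ?_⟩
  apply Subtype.ext
  rw [T_val, T_val, tmat_smul_left, one_mul]

theorem conj_T (g : SpecialLinearGroup ι F) (v f : ι → F) (hfv : f ⬝ᵥ v = 0) (c : F) :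
    g * T v f hfv c * g⁻¹ =
      T ((g : Matrix ι ι F) *ᵥ v) (f ᵥ* ((g⁻¹ : SpecialLinearGroup ι F) : Matrix ι ι F))
        ((dot_conj g v f).trans hfv) c := by
  apply Subtype.ext
  rw [val_mul, val_mul, T_val, T_val, conj_tmat]

theorem transv_conj {t : SpecialLinearGroup ι F} (ht : t ∈ transv ι F) (g : SpecialLinearGroup ι F) :
    g * t * g⁻¹ ∈ transv ι F := by
  obtain ⟨v, f, hv, hf, hfv, rfl⟩ := ht
  rw [conj_T]
  exact ⟨_, _, mulVec_ne_zero g hv, vecMul_ne_zero g⁻¹ hf, _, rfl⟩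

theorem transv_generates [Nontrivial ι] : Subgroup.closure (transv ι F) = ⊤ := by
  rw [eq_top_iff, ← flag_generates]
  apply iSup₂_le
  rintro A ⟨v, f, hv, hf, hfv, rfl⟩
  intro g hg
  obtain ⟨c, rfl⟩ := (mem_R' hfv).1 hg
  by_cases hc : c = 0
  · subst hc
    rw [T_zero]
    exact one_mem _
  · exact Subgroup.subset_closure (T_mem_transv hv hf hfv hc)

section char2

variable [CharP F 2]

theorem T_sq (v f : ι → F) (hfv : f ⬝ᵥ v = 0) (c : F) : T v f hfv c * T v f hfv c = 1 := by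
  rw [T_mul, CharTwo.add_self_eq_zero, T_zero]

theorem T_inv' (v f : ι → F) (hfv : f ⬝ᵥ v = 0) (c : F) : (T v f hfv c)⁻¹ = T v f hfv c := by
  rw [T_inv, CharTwo.neg_eq]

theorem orderOf_T {v f : ι → F} (hv : v ≠ 0) (hf : f ≠ 0) (hfv : f ⬝ᵥ v = 0) {c : F}
    (hc : c ≠ 0) : orderOf (T v f hfv c) = 2 := by
  apply orderOf_eq_prime
  · rw [pow_two, T_sq]
  · intro h
    exact hc ((T_eq_one_iff hv hf hfv c).1 h)

theorem orderOf_transv {t : SpecialLinearGroup ι F} (ht : t ∈ transv ι F) : orderOf t = 2 := by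
  obtain ⟨v, f, hv, hf, hfv, rfl⟩ := ht
  exact orderOf_T hv hf hfv one_ne_zero

/-- the order 4 case. -/
theorem four_case {v f w h : ι → F} (hv : v ≠ 0) (hf : f ≠ 0) (hw : w ≠ 0) (hh : h ≠ 0)
    (hfv : f ⬝ᵥ v = 0) (hhw : h ⬝ᵥ w = 0) (hfw : f ⬝ᵥ w = 0) (hhv : h ⬝ᵥ v ≠ 0) :
    orderOf (T v f hfv 1 * T w h hhw 1) = 4 ∧ (T v f hfv 1 * T w h hhw 1) ^ 2 ∈ transv ι F ∧
    orderOf (T w h hhw 1 * T v f hfv 1) = 4 ∧ (T w h hhw 1 * T v f hfv 1) ^ 2 ∈ transv ι F := by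
  have hz : (T v f hfv 1 * T w h hhw 1) ^ 2 = T w f hfw (-(1 * 1 * (h ⬝ᵥ v))) := by
    rw [← T_commutator hfv hhw hfw, commutatorElement_def, T_inv', T_inv', pow_two]
    group
  have hz' : (T w h hhw 1 * T v f hfv 1) ^ 2 = T w f hfw (-(1 * 1 * (h ⬝ᵥ v))) := by
    have h1 : (T w h hhw 1 * T v f hfv 1) ^ 2 = ⁅T w h hhw 1, T v f hfv 1⁆ := by
      rw [commutatorElement_def, T_inv', T_inv', pow_two]
      group
    rw [h1, ← commutatorElement_inv, T_commutator hfv hhw hfw, T_inv']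
  have hne : -(1 * 1 * (h ⬝ᵥ v)) ≠ 0 := by
    rw [one_mul, one_mul]
    exact neg_ne_zero.2 hhv
  have ho : ∀ x : SpecialLinearGroup ι F, x ^ 2 = T w f hfw (-(1 * 1 * (h ⬝ᵥ v))) →
      orderOf x = 4 := by
    intro x hx
    have := orderOf_eq_prime_pow (x := x) (p := 2) (n := 1)
      (by
        rw [pow_one, hx]
        intro h1
        exact hne ((T_eq_one_iff hw hf hfw _).1 h1))
      (by
        rw [show 2 ^ (1 + 1) = 2 * 2 from rfl, pow_mul, hx, pow_two, T_sq])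
    rw [this]
    rfl
  refine ⟨ho _ hz, ?_, ho _ hz', ?_⟩
  · rw [hz]
    exact T_mem_transv hw hf hfw hne
  · rw [hz']
    exact T_mem_transv hw hf hfw hne

/-- the odd order case. -/
theorem odd_case [Finite F] {v f w h : ι → F}
    (hfv : f ⬝ᵥ v = 0) (hhw : h ⬝ᵥ w = 0) (hfw : f ⬝ᵥ w ≠ 0) (hhv : h ⬝ᵥ v ≠ 0) :
    Odd (orderOf (T v f hfv 1 * T w h hhw 1)) ∧
      ((f ⬝ᵥ w) * (h ⬝ᵥ v) = 1 → (T v f hfv 1 * T w h hhw 1) ^ 3 = 1) := by
  have P := pairing_of hfv hhw hfw hhv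
  have ha : T v f hfv 1 = P.rho (SL2.U (f ⬝ᵥ w)) := by
    rw [P.rho_U]
    apply Subtype.ext
    rw [T_val, T_val, tmat_smul_right, mul_inv_cancel₀ hfw]
  have hb : T w h hhw 1 = P.rho (SL2.L (h ⬝ᵥ v)) := by
    rw [P.rho_L]
    apply Subtype.ext
    rw [T_val, T_val, tmat_smul_right, mul_inv_cancel₀ hhv]
  have hM : ((SL2.U (f ⬝ᵥ w) * SL2.L (h ⬝ᵥ v) : SpecialLinearGroup (Fin 2) F) :
      Matrix (Fin 2) (Fin 2) F) = !![1 + (f ⬝ᵥ w) * (h ⬝ᵥ v), f ⬝ᵥ w; h ⬝ᵥ v, 1] := by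
    rw [val_mul, SL2.U_val, SL2.L_val]
    ext i j
    fin_cases i <;> fin_cases j <;> simp [Matrix.mul_apply, Fin.sum_univ_two]
  have htr : ((SL2.U (f ⬝ᵥ w) * SL2.L (h ⬝ᵥ v) : SpecialLinearGroup (Fin 2) F) :
      Matrix (Fin 2) (Fin 2) F).trace = (f ⬝ᵥ w) * (h ⬝ᵥ v) := by
    rw [hM, Matrix.trace_fin_two]
    simp only [Matrix.of_apply, Matrix.cons_val', Matrix.cons_val_zero, Matrix.cons_val_one,
      Matrix.cons_val_fin_one]
    have h2 : (2 : F) = 0 := SL2Char2.two_eq_zero'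
    linear_combination h2
  rw [ha, hb, ← map_mul]
  constructor
  · rw [orderOf_injective P.rho P.rho_injective]
    apply SL2Char2.odd_orderOf _ (isOfFinOrder_of_finite _)
    · rw [hM]
      simpa using hfw
    · rw [htr]
      exact mul_ne_zero hfw hhv
  · intro h1
    rw [← map_pow, SL2Char2.cube_eq_one _ (htr.trans h1), map_one]

end char2

end RootSL
end Cfsg.Agent.Helper25
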