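import Mathlib
import Cfsg.Prelude.Def_RootSubgroups
import Cfsg.Agent.Lib.Helper25.GroupAux
import Cfsg.Agent.Lib.Helper25.RootComm2
import Cfsg.Agent.Lib.Helper25.RankOne3

set_option autoImplicit false

namespace Cfsg.Agent.Helper25
namespace RootTriple

open scoped commutatorElement
open Cfsg

variable {G : Type*} [Group G] {S : Set (Subgroup G)} {A B C : Subgroup G}

/-- Configuration: `A, B, C ∈ S`, `⁅B, A⁆ ∈ S`, `⁅B, C⁆ ∈ S`, and `A`, `C` commute. -/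
structure Config (S : Set (Subgroup G)) (A B C : Subgroup G) : Prop where
  hS : Cfsg.IsRootSubgroupSet S
  hA : A ∈ S
  hB : B ∈ S
  hC : C ∈ S
  hE : ⁅B, A⁆ ∈ S
  hF : ⁅B, C⁆ ∈ S
  hAC : ⁅A, C⁆ = ⊥

theorem Config.symm (h : Config S A B C) : Config S C B A :=
  ⟨h.hS, h.hC, h.hB, h.hA, h.hF, h.hE, by rw [Subgroup.commutator_comm]; exact h.hAC⟩

section
variable (h : Config S A B C)
include h

theorem caseBA : Cfsg.RootCommutatorCase S B A :=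
  RootComm.commCase_of_comm_mem h.hS h.hB h.hA h.hE

theorem caseBC : Cfsg.RootCommutatorCase S B C :=
  RootComm.commCase_of_comm_mem h.hS h.hB h.hC h.hF

theorem comm_AC {a c : G} (ha : a ∈ A) (hc : c ∈ C) : a * c = c * a :=
  RankOne.commute_of_commutator_eq_bot h.hAC ha hc

theorem comm_AA {a a' : G} (ha : a ∈ A) (ha' : a' ∈ A) : a * a' = a' * a := by
  have := (h.hS.commutative A h.hA).is_comm.comm ⟨a, ha⟩ ⟨a', ha'⟩
  exact congrArg Subtype.val this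

theorem comm_EA {e a : G} (he : e ∈ ⁅B, A⁆) (ha : a ∈ A) : e * a = a * e :=
  RootComm.central (caseBA h) he (le_sup_right (a := B) ha)

theorem comm_EB {e b : G} (he : e ∈ ⁅B, A⁆) (hb : b ∈ B) : e * b = b * e :=
  RootComm.central (caseBA h) he (le_sup_left (a := B) hb)

theorem comm_FC {f c : G} (hf : f ∈ ⁅B, C⁆) (hc : c ∈ C) : f * c = c * f :=
  RootComm.central (caseBC h) hf (le_sup_right (a := B) hc)

theorem comm_FB {f b : G} (hf : f ∈ ⁅B, C⁆) (hb : b ∈ B) : f * b = b * f :=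
  RootComm.central (caseBC h) hf (le_sup_left (a := B) hb)

theorem comm_mem_F {b c : G} (hb : b ∈ B) (hc : c ∈ C) : ⁅b, c⁆ ∈ ⁅B, C⁆ :=
  Subgroup.commutator_mem_commutator hb hc

theorem comm_mem_E {b a : G} (hb : b ∈ B) (ha : a ∈ A) : ⁅b, a⁆ ∈ ⁅B, A⁆ :=
  Subgroup.commutator_mem_commutator hb ha

/-- `A` and `⁅B, C⁆` do not form a rank one pair. -/
theorem not_rankOne_AF : ¬ Cfsg.IsRankOnePair A ⁅B, C⁆ := by
  intro hro
  obtain ⟨f₀, hf₀, hf₀1⟩ := ((⁅B, C⁆).bot_or_exists_ne_one).resolve_left (h.hS.ne_bot _ h.hF)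
  obtain ⟨b, hb, hb1⟩ := (B.bot_or_exists_ne_one).resolve_left (h.hS.ne_bot _ h.hB)
  obtain ⟨c, hc, hcf⟩ := RootComm.exists_comm_eq (caseBC h) hb hb1 hf₀
  have hc1 : c ≠ 1 := by
    intro h1
    apply hf₀1
    rw [← hcf, h1]
    simp
  have hz : ∀ x ∈ ⁅B, C⁆ ⊔ A, c * x = x * c := by
    apply GroupAux.commute_sup_right
    · intro f hf; exact (comm_FC h hf hc).symm
    · intro a ha; exact (comm_AC h ha hc).symm
  have hM : Cfsg.conjBy C b ∈ S := h.hS.conj_mem C h.hC b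
  have hmem : c * f₀ ∈ Cfsg.conjBy C b := by
    rw [mem_conjBy]
    have e : b⁻¹ * (c * f₀) * b = c := by
      rw [(comm_FC h hf₀ hc).symm, ← hcf, commutatorElement_def]
      group
    rw [e]; exact hc
  exact RankOne.mul_not_mem_of_centralizes h.hS h.hF h.hA (Cfsg.RankOnePair_symm hro) hz hc1 hf₀ hf₀1
    hM hmem

/-- `⁅A, ⁅B, C⁆⁆` is central in `A ⊔ ⁅B, C⁆`. -/
theorem central_AF {z x : G} (hz : z ∈ ⁅A, ⁅B, C⁆⁆) (hx : x ∈ A ⊔ ⁅B, C⁆) : z * x = x * z := by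
  rcases h.hS.pair A h.hA _ h.hF with h1 | h1 | h1
  · rw [h1, Subgroup.mem_bot] at hz
    rw [hz]; simp
  · exact absurd h1 (not_rankOne_AF h)
  · exact h1.2.1 z hz x hx

/-- `⁅B, A⁆` and `⁅B, C⁆` do not form a rank one pair. -/
theorem not_rankOne_EF : ¬ Cfsg.IsRankOnePair ⁅B, A⁆ ⁅B, C⁆ := by
  intro hro
  obtain ⟨e₀, he₀, he₀1⟩ := ((⁅B, A⁆).bot_or_exists_ne_one).resolve_left (h.hS.ne_bot _ h.hE)
  obtain ⟨b, hb, hb1⟩ := (B.bot_or_exists_ne_one).resolve_left (h.hS.ne_bot _ h.hB)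
  obtain ⟨a, ha, hae⟩ := RootComm.exists_comm_eq (caseBA h) hb hb1 he₀
  have hz : ∀ x ∈ ⁅B, A⁆ ⊔ ⁅B, C⁆, b⁻¹ * x = x * b⁻¹ := by
    apply GroupAux.commute_sup_right
    · intro e he; exact (comm_EB h he (B.inv_mem hb)).symm
    · intro f hf; exact (comm_FB h hf (B.inv_mem hb)).symm
  have hM : Cfsg.conjBy B a ∈ S := h.hS.conj_mem B h.hB a
  have hmem : b⁻¹ * e₀ ∈ Cfsg.conjBy B a := by
    rw [mem_conjBy]
    have e : a⁻¹ * (b⁻¹ * e₀) * a = b⁻¹ := by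
      rw [← hae, commutatorElement_def]
      group
    rw [e]; exact B.inv_mem hb
  exact RankOne.mul_not_mem_of_centralizes h.hS h.hE h.hF hro hz (by simpa using hb1) he₀ he₀1
    hM hmem

/-- `⁅⁅B, A⁆, ⁅B, C⁆⁆` is central in `⁅B, A⁆ ⊔ ⁅B, C⁆`. -/
theorem central_EF {z x : G} (hz : z ∈ ⁅⁅B, A⁆, ⁅B, C⁆⁆) (hx : x ∈ ⁅B, A⁆ ⊔ ⁅B, C⁆) :
    z * x = x * z := by
  rcases h.hS.pair _ h.hE _ h.hF with h1 | h1 | h1
  · rw [h1, Subgroup.mem_bot] at hz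
    rw [hz]; simp
  · exact absurd h1 (not_rankOne_EF h)
  · exact h1.2.1 z hz x hx

/-- elements of `conjBy C b` for `b ∈ B` -/
theorem mem_conjBy_C {b d : G} (hb : b ∈ B) (hd : d ∈ Cfsg.conjBy C b) :
    ∃ c ∈ C, d = ⁅b, c⁆ * c := by
  rw [mem_conjBy] at hd
  refine ⟨b⁻¹ * d * b, hd, ?_⟩
  rw [commutatorElement_def]; group

theorem mul_mem_conjBy_C {b c : G} (hc : c ∈ C) : ⁅b, c⁆ * c ∈ Cfsg.conjBy C b := by
  rw [mem_conjBy]
  have e : b⁻¹ * (⁅b, c⁆ * c) * b = c := by rw [commutatorElement_def]; group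
  rw [e]; exact hc

/-- `⁅a, ⁅b, c⁆ * c⁆ = ⁅a, ⁅b, c⁆⁆`. -/
theorem comm_a_d {a c f : G} (ha : a ∈ A) (hc : c ∈ C) : ⁅a, f * c⁆ = ⁅a, f⁆ := by
  rw [commutatorElement_mul_right_eq_mul_conj]
  have : ⁅a, c⁆ = 1 := by
    rw [commutatorElement_eq_one_iff_mul_comm]; exact comm_AC h ha hc
  rw [this]; group

theorem comm_A_F_of_bot (hbot : ⁅A, ⁅B, C⁆⁆ = ⊥) {a f : G} (ha : a ∈ A) (hf : f ∈ ⁅B, C⁆) :
    a * f = f * a :=
  RankOne.commute_of_commutator_eq_bot hbot ha hf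

theorem comm_conjBy_C {b d d' : G} (hd : d ∈ Cfsg.conjBy C b) (hd' : d' ∈ Cfsg.conjBy C b) :
    d * d' = d' * d := by
  have hM : Cfsg.conjBy C b ∈ S := h.hS.conj_mem C h.hC b
  have := (h.hS.commutative _ hM).is_comm.comm ⟨d, hd⟩ ⟨d', hd'⟩
  exact congrArg Subtype.val this

/-- If `A` and `⁅B, C⁆` commute then `A ⊔ conjBy C b` is abelian. -/
theorem abelianX_of (hbot : ⁅A, ⁅B, C⁆⁆ = ⊥) {b : G} (hb : b ∈ B) :
    ∀ x ∈ A ⊔ Cfsg.conjBy C b, ∀ y ∈ A ⊔ Cfsg.conjBy C b, x * y = y * x := by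
  have key : ∀ a ∈ A, ∀ d ∈ Cfsg.conjBy C b, a * d = d * a := by
    intro a ha d hd
    obtain ⟨c, hc, rfl⟩ := mem_conjBy_C h hb hd
    have h1 := comm_A_F_of_bot h hbot ha (comm_mem_F h hb hc)
    have h2 := comm_AC h ha hc
    rw [← mul_assoc, h1, mul_assoc, h2, mul_assoc]
  apply GroupAux.commute_sup_sup
  · intro a ha a' ha'; exact comm_AA h ha ha'
  · exact key
  · intro d hd a ha; exact (key a ha d hd).symm
  · intro d hd d' hd'; exact comm_conjBy_C h hd hd'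

/-- If `A` and `⁅B, C⁆` do not commute then `A ⊔ conjBy C b` is not abelian (`b ≠ 1`). -/
theorem not_abelianX (hne : ⁅A, ⁅B, C⁆⁆ ≠ ⊥) {b : G} (hb : b ∈ B) (hb1 : b ≠ 1) :
    ¬ ∀ x ∈ A ⊔ Cfsg.conjBy C b, ∀ y ∈ A ⊔ Cfsg.conjBy C b, x * y = y * x := by
  intro hcomm
  apply hne
  rw [eq_bot_iff, Subgroup.commutator_le]
  intro a ha f hf
  rw [Subgroup.mem_bot, commutatorElement_eq_one_iff_mul_comm]
  obtain ⟨c, hc, rfl⟩ := RootComm.exists_comm_eq (caseBC h) hb hb1 hf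
  have hd : ⁅b, c⁆ * c ∈ Cfsg.conjBy C b := mul_mem_conjBy_C h hc
  have h1 := hcomm a (le_sup_left (a := A) ha) _ (le_sup_right (a := A) hd)
  have h2 := comm_AC h ha hc
  -- a f c = f c a = f a c
  have h3 : a * ⁅b, c⁆ * c = ⁅b, c⁆ * a * c := by
    rw [mul_assoc, h1, mul_assoc, ← h2, mul_assoc]
  exact mul_right_cancel h3

/-- every element of `⁅A, ⁅B, C⁆⁆` commutes with every element of `C` -/
theorem comm_Z1_C {z c : G} (hz : z ∈ ⁅A, ⁅B, C⁆⁆) (hc : c ∈ C) : z * c = c * z := by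
  have hle : ⁅A, ⁅B, C⁆⁆ ≤ Subgroup.centralizer {c} := by
    rw [Subgroup.commutator_le]
    intro a ha f hf
    have h1 : c * a = a * c := (comm_AC h ha hc).symm
    have h2 : c * f = f * c := (comm_FC h hf hc).symm
    rw [Subgroup.mem_centralizer_iff]
    intro x hx
    rw [Set.mem_singleton_iff] at hx
    rw [hx, commutatorElement_def]
    have h1' : c * a⁻¹ = a⁻¹ * c := by
      calc c * a⁻¹ = a⁻¹ * (a * c) * a⁻¹ := by group
        _ = a⁻¹ * (c * a) * a⁻¹ := by rw [h1]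
        _ = a⁻¹ * c := by group
    have h2' : c * f⁻¹ = f⁻¹ * c := by
      calc c * f⁻¹ = f⁻¹ * (f * c) * f⁻¹ := by group
        _ = f⁻¹ * (c * f) * f⁻¹ := by rw [h2]
        _ = f⁻¹ * c := by group
    calc c * (a * f * a⁻¹ * f⁻¹) = (c * a) * f * a⁻¹ * f⁻¹ := by group
      _ = a * (c * f) * a⁻¹ * f⁻¹ := by rw [h1]; group
      _ = a * f * (c * a⁻¹) * f⁻¹ := by rw [h2]; group
      _ = a * f * a⁻¹ * (c * f⁻¹) := by rw [h1']; group
      _ = a * f * a⁻¹ * f⁻¹ * c := by rw [h2']; group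
  have := hle hz
  rw [Subgroup.mem_centralizer_iff] at this
  exact (this c rfl).symm

end

end RootTriple
end Cfsg.Agent.Helper25
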