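import Mathlib
import Cfsg.Agent.Lib.Helper25.RootTriple1

set_option autoImplicit false

namespace Cfsg.Agent.Helper25
namespace RootTriple

open scoped commutatorElement
open Cfsg

variable {G : Type*} [Group G] {S : Set (Subgroup G)} {A B C : Subgroup G}

theorem commute_commutator {a d y : G} (h1 : a * y = y * a) (h2 : d * y = y * d) :
    ⁅a, d⁆ * y = y * ⁅a, d⁆ := by
  have ha : a ∈ Subgroup.centralizer {y} := by
    rw [Subgroup.mem_centralizer_iff]; intro x hx; rw [Set.mem_singleton_iff] at hx; rw [hx, h1]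
  have hd : d ∈ Subgroup.centralizer {y} := by
    rw [Subgroup.mem_centralizer_iff]; intro x hx; rw [Set.mem_singleton_iff] at hx; rw [hx, h2]
  have : ⁅a, d⁆ ∈ Subgroup.centralizer {y} := by
    rw [commutatorElement_def]
    exact Subgroup.mul_mem _ (Subgroup.mul_mem _ (Subgroup.mul_mem _ ha hd) (Subgroup.inv_mem _ ha))
      (Subgroup.inv_mem _ hd)
  rw [Subgroup.mem_centralizer_iff] at this
  exact (this y rfl).symm

/-- a subgroup commutator commutes with `y` if all generators' entries do -/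
theorem commutator_commute {P Q : Subgroup G} {y : G} (hP : ∀ p ∈ P, p * y = y * p)
    (hQ : ∀ q ∈ Q, q * y = y * q) : ∀ z ∈ ⁅P, Q⁆, z * y = y * z := by
  have hle : ⁅P, Q⁆ ≤ Subgroup.centralizer {y} := by
    rw [Subgroup.commutator_le]
    intro p hp q hq
    rw [Subgroup.mem_centralizer_iff]
    intro x hx
    rw [Set.mem_singleton_iff] at hx
    rw [hx]
    exact (commute_commutator (hP p hp) (hQ q hq)).symm
  intro z hz
  have := hle hz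
  rw [Subgroup.mem_centralizer_iff] at this
  exact (this y rfl).symm

section
variable (h : Config S A B C)
include h

/-- `Z₁ = ⁅A, ⁅B, C⁆⁆` commutes with `X = A ⊔ conjBy C b`. -/
theorem comm_Z1_X {b : G} (hb : b ∈ B) {z x : G} (hz : z ∈ ⁅A, ⁅B, C⁆⁆)
    (hx : x ∈ A ⊔ Cfsg.conjBy C b) : z * x = x * z := by
  revert x
  apply GroupAux.commute_sup_right
  · intro a ha
    exact central_AF h hz (le_sup_left (a := A) ha)
  · intro d hd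
    obtain ⟨c, hc, rfl⟩ := mem_conjBy_C h hb hd
    have h1 := central_AF h hz (le_sup_right (a := A) (comm_mem_F h hb hc))
    have h2 := comm_Z1_C h hz hc
    rw [← mul_assoc, h1, mul_assoc, h2, mul_assoc]

/-- all commutators of `X = A ⊔ conjBy C b` lie in `Z₁`. -/
theorem comm_X_mem {b : G} (hb : b ∈ B) :
    ∀ x ∈ A ⊔ Cfsg.conjBy C b, ∀ y ∈ A ⊔ Cfsg.conjBy C b, ⁅x, y⁆ ∈ ⁅A, ⁅B, C⁆⁆ := by
  have hcl : Subgroup.closure ((A : Set G) ∪ (Cfsg.conjBy C b : Set G)) = A ⊔ Cfsg.conjBy C b := by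
    rw [Subgroup.closure_union, Subgroup.closure_eq, Subgroup.closure_eq]
  have hsub : ∀ u ∈ (A : Set G) ∪ (Cfsg.conjBy C b : Set G), u ∈ A ⊔ Cfsg.conjBy C b := by
    rintro u (hu | hu)
    · exact le_sup_left (a := A) hu
    · exact le_sup_right (a := A) hu
  have key := GroupAux.commutator_mem_of_gens (Z := ⁅A, ⁅B, C⁆⁆)
    (T := (A : Set G) ∪ (Cfsg.conjBy C b : Set G)) (U := (A : Set G) ∪ (Cfsg.conjBy C b : Set G))
    ?_ Subgroup.subset_closure ?_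
  · rw [hcl] at key; exact key
  · intro u hu z hz
    have h1 := comm_Z1_X h hb hz (hsub u hu)
    have e1 : u * z * u⁻¹ = z := by rw [← h1]; group
    have e2 : u⁻¹ * z * u = z := by rw [mul_assoc, h1]; group
    rw [e1, e2]; exact ⟨hz, hz⟩
  · have hAd : ∀ a ∈ A, ∀ d ∈ Cfsg.conjBy C b, ⁅a, d⁆ ∈ ⁅A, ⁅B, C⁆⁆ := by
      intro a ha d hd
      obtain ⟨c, hc, rfl⟩ := mem_conjBy_C h hb hd
      rw [comm_a_d h ha hc]
      exact Subgroup.commutator_mem_commutator ha (comm_mem_F h hb hc)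
    rintro t (ht | ht) u (hu | hu)
    · have : ⁅t, u⁆ = 1 := by
        rw [commutatorElement_eq_one_iff_mul_comm]; exact comm_AA h ht hu
      rw [this]; exact Subgroup.one_mem _
    · exact hAd t ht u hu
    · rw [← commutatorElement_inv]
      exact Subgroup.inv_mem _ (hAd u hu t ht)
    · have : ⁅t, u⁆ = 1 := by
        rw [commutatorElement_eq_one_iff_mul_comm]; exact comm_conjBy_C h ht hu
      rw [this]; exact Subgroup.one_mem _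

/-- `X = A ⊔ conjBy C b` has class at most two. -/
theorem class2X {b : G} (hb : b ∈ B) :
    ⁅⁅A ⊔ Cfsg.conjBy C b, A ⊔ Cfsg.conjBy C b⁆, A ⊔ Cfsg.conjBy C b⁆ = ⊥ := by
  rw [eq_bot_iff, Subgroup.commutator_le]
  intro w hw x hx
  have hle : ⁅A ⊔ Cfsg.conjBy C b, A ⊔ Cfsg.conjBy C b⁆ ≤ ⁅A, ⁅B, C⁆⁆ := by
    rw [Subgroup.commutator_le]
    exact comm_X_mem h hb
  rw [Subgroup.mem_bot, commutatorElement_eq_one_iff_mul_comm]
  exact comm_Z1_X h hb (hle hw) hx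

/-- `conjBy A b` and `conjBy C b` commute. -/
theorem comm_conj_conj {b x y : G} (hx : x ∈ Cfsg.conjBy A b) (hy : y ∈ Cfsg.conjBy C b) :
    x * y = y * x := by
  rw [mem_conjBy] at hx hy
  have := comm_AC h hx hy
  calc x * y = b * ((b⁻¹ * x * b) * (b⁻¹ * y * b)) * b⁻¹ := by group
    _ = b * ((b⁻¹ * y * b) * (b⁻¹ * x * b)) * b⁻¹ := by rw [this]
    _ = y * x := by group

/-- `A` commutes with `conjBy A b`. -/
theorem comm_A_conjA {b a y : G} (hb : b ∈ B) (ha : a ∈ A) (hy : y ∈ Cfsg.conjBy A b) :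
    a * y = y * a := by
  obtain ⟨a', ha', rfl⟩ := mem_conjBy_C h.symm hb hy
  have h1 : a * ⁅b, a'⁆ = ⁅b, a'⁆ * a := (comm_EA h (comm_mem_E h hb ha') ha).symm
  have h2 := comm_AA h ha ha'
  rw [← mul_assoc, h1, mul_assoc, h2, mul_assoc]

/-- `Z₁` commutes with `E = ⁅B, A⁆`. -/
theorem comm_Z1_E {z e : G} (hz : z ∈ ⁅A, ⁅B, C⁆⁆) (he : e ∈ ⁅B, A⁆) : z * e = e * z := by
  obtain ⟨b, hb, hb1⟩ := (B.bot_or_exists_ne_one).resolve_left (h.hS.ne_bot _ h.hB)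
  obtain ⟨a', ha', rfl⟩ := RootComm.exists_comm_eq (caseBA h) hb hb1 he
  have hle : ⁅A, ⁅B, C⁆⁆ ≤ Subgroup.centralizer {⁅b, a'⁆} := by
    rw [Subgroup.commutator_le]
    intro a ha f hf
    obtain ⟨c, hc, rfl⟩ := RootComm.exists_comm_eq (caseBC h) hb hb1 hf
    have hy : ⁅b, a'⁆ * a' ∈ Cfsg.conjBy A b := mul_mem_conjBy_C h.symm ha'
    have hd : ⁅b, c⁆ * c ∈ Cfsg.conjBy C b := mul_mem_conjBy_C h hc
    have h1 : a * (⁅b, a'⁆ * a') = (⁅b, a'⁆ * a') * a := comm_A_conjA h hb ha hy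
    have h2 : (⁅b, c⁆ * c) * (⁅b, a'⁆ * a') = (⁅b, a'⁆ * a') * (⁅b, c⁆ * c) :=
      (comm_conj_conj h hy hd).symm
    have h3 := commute_commutator h1 h2
    rw [comm_a_d h ha hc] at h3
    have h4 : ⁅a, ⁅b, c⁆⁆ * a' = a' * ⁅a, ⁅b, c⁆⁆ :=
      central_AF h (Subgroup.commutator_mem_commutator ha (comm_mem_F h hb hc))
        (le_sup_left (a := A) ha')
    rw [Subgroup.mem_centralizer_iff]
    intro x hx
    rw [Set.mem_singleton_iff] at hx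
    rw [hx]
    -- ⁅b,a'⁆ = y * a'⁻¹
    have h4' : ⁅a, ⁅b, c⁆⁆ * a'⁻¹ = a'⁻¹ * ⁅a, ⁅b, c⁆⁆ := by
      calc ⁅a, ⁅b, c⁆⁆ * a'⁻¹ = a'⁻¹ * (a' * ⁅a, ⁅b, c⁆⁆) * a'⁻¹ := by group
        _ = a'⁻¹ * (⁅a, ⁅b, c⁆⁆ * a') * a'⁻¹ := by rw [h4]
        _ = a'⁻¹ * ⁅a, ⁅b, c⁆⁆ := by group
    calc ⁅b, a'⁆ * ⁅a, ⁅b, c⁆⁆ = (⁅b, a'⁆ * a') * (a'⁻¹ * ⁅a, ⁅b, c⁆⁆) := by group
      _ = (⁅b, a'⁆ * a') * (⁅a, ⁅b, c⁆⁆ * a'⁻¹) := by rw [h4']
      _ = ((⁅b, a'⁆ * a') * ⁅a, ⁅b, c⁆⁆) * a'⁻¹ := by group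
      _ = (⁅a, ⁅b, c⁆⁆ * (⁅b, a'⁆ * a')) * a'⁻¹ := by rw [h3]
      _ = ⁅a, ⁅b, c⁆⁆ * ⁅b, a'⁆ := by group
  have := hle hz
  rw [Subgroup.mem_centralizer_iff] at this
  exact (this _ rfl).symm

/-- `W = ⁅⁅B, A⁆, ⁅B, C⁆⁆` commutes with `B`. -/
theorem comm_W_B {w b : G} (hw : w ∈ ⁅⁅B, A⁆, ⁅B, C⁆⁆) (hb : b ∈ B) : w * b = b * w := by
  revert w
  apply commutator_commute
  · intro e he; exact comm_EB h he hb
  · intro f hf; exact comm_FB h hf hb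

/-- `W` commutes with `A`. -/
theorem comm_W_A {w a : G} (hw : w ∈ ⁅⁅B, A⁆, ⁅B, C⁆⁆) (ha : a ∈ A) : w * a = a * w := by
  have hle : ⁅⁅B, A⁆, ⁅B, C⁆⁆ ≤ Subgroup.centralizer {a} := by
    rw [Subgroup.commutator_le]
    intro e he f hf
    rw [Subgroup.mem_centralizer_iff]
    intro x hx
    rw [Set.mem_singleton_iff] at hx
    rw [hx]
    -- a ⁅e,f⁆ a⁻¹ = ⁅e, ⁅a,f⁆ f⁆ = ⁅e,f⁆
    have hz : ⁅a, f⁆ ∈ ⁅A, ⁅B, C⁆⁆ := Subgroup.commutator_mem_commutator ha hf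
    have h1 : a * e * a⁻¹ = e := by rw [← comm_EA h he ha]; group
    have h2 : a * f * a⁻¹ = ⁅a, f⁆ * f := by rw [commutatorElement_def]; group
    have h3 : ⁅e, ⁅a, f⁆⁆ = 1 := by
      rw [commutatorElement_eq_one_iff_mul_comm]
      exact (comm_Z1_E h hz he).symm
    have h4 : ⁅a, f⁆ * ⁅e, f⁆ = ⁅e, f⁆ * ⁅a, f⁆ :=
      (commute_commutator (comm_Z1_E h hz he).symm
        (central_AF h hz (le_sup_right (a := A) hf)).symm).symm
    have h5 : a * ⁅e, f⁆ * a⁻¹ = ⁅e, f⁆ := by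
      rw [conjugate_commutatorElement, h1, h2, commutatorElement_mul_right_eq_mul_conj, h3, one_mul,
        h4]
      group
    calc a * ⁅e, f⁆ = (a * ⁅e, f⁆ * a⁻¹) * a := by group
      _ = ⁅e, f⁆ * a := by rw [h5]
  have := hle hw
  rw [Subgroup.mem_centralizer_iff] at this
  exact (this a rfl).symm

/-- action of `B` on generators of `Z₁`. -/
theorem conj_Z1 {b a f : G} (hb : b ∈ B) (ha : a ∈ A) (hf : f ∈ ⁅B, C⁆) :
    b * ⁅a, f⁆ * b⁻¹ = ⁅a, f⁆ * ⁅⁅b, a⁆, f⁆ := by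
  have hz : ⁅a, f⁆ ∈ ⁅A, ⁅B, C⁆⁆ := Subgroup.commutator_mem_commutator ha hf
  have h1 : b * f * b⁻¹ = f := by rw [← comm_FB h hf hb]; group
  have h2 : b * a * b⁻¹ = ⁅b, a⁆ * a := by rw [commutatorElement_def]; group
  have h3 := comm_Z1_E h hz (comm_mem_E h hb ha)
  rw [conjugate_commutatorElement, h1, h2, commutatorElement_mul_left_eq_conj_mul]
  calc ⁅b, a⁆ * ⁅a, f⁆ * ⁅b, a⁆⁻¹ * ⁅⁅b, a⁆, f⁆
      = (⁅b, a⁆ * ⁅a, f⁆) * ⁅b, a⁆⁻¹ * ⁅⁅b, a⁆, f⁆ := by group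
    _ = (⁅a, f⁆ * ⁅b, a⁆) * ⁅b, a⁆⁻¹ * ⁅⁅b, a⁆, f⁆ := by rw [h3]
    _ = ⁅a, f⁆ * ⁅⁅b, a⁆, f⁆ := by group

end

end RootTriple
end Cfsg.Agent.Helper25
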