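import Mathlib
import Cfsg.Agent.Lib.Helper25.RootTriple2

set_option autoImplicit false

namespace Cfsg.Agent.Helper25
namespace RootTriple

open scoped commutatorElement
open Cfsg

variable {G : Type*} [Group G] {S : Set (Subgroup G)} {A B C : Subgroup G}

theorem sup3_induction {P Q R : Subgroup G} {p : G → Prop} (hP : ∀ x ∈ P, p x) (hQ : ∀ x ∈ Q, p x)
    (hR : ∀ x ∈ R, p x) (hmul : ∀ a b, p a → p b → p (a * b)) {z : G} (hz : z ∈ P ⊔ Q ⊔ R) :
    p z := by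
  refine sup_induction (Q := P ⊔ Q) (R := R) (C := p) ?_ hR (fun a b _ _ ha hb => hmul a b ha hb) hz
  intro x hx
  exact sup_induction (Q := P) (R := Q) (C := p) hP hQ (fun a b _ _ ha hb => hmul a b ha hb) hx

theorem conjBy_commutator_le {P Q Z : Subgroup G} {g : G}
    (hgen : ∀ p ∈ P, ∀ q ∈ Q, g * ⁅p, q⁆ * g⁻¹ ∈ Z) : ∀ x ∈ ⁅P, Q⁆, g * x * g⁻¹ ∈ Z := by
  have hle : ⁅P, Q⁆ ≤ Z.comap (MulAut.conj g).toMonoidHom := by
    rw [Subgroup.commutator_le]
    intro p hp q hq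
    rw [Subgroup.mem_comap]
    change g * ⁅p, q⁆ * g⁻¹ ∈ Z
    exact hgen p hp q hq
  intro x hx
  have := hle hx
  rw [Subgroup.mem_comap] at this
  exact this

theorem closure_union3 (P Q R : Subgroup G) :
    Subgroup.closure ((P : Set G) ∪ (Q : Set G) ∪ (R : Set G)) = P ⊔ Q ⊔ R := by
  rw [Subgroup.closure_union, Subgroup.closure_union, Subgroup.closure_eq, Subgroup.closure_eq,
    Subgroup.closure_eq]

section
variable (h : Config S A B C)
include h

/-- the subgroup `T = Z₁ ⊔ Z₂ ⊔ W`. -/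
def Tsub (_h : Config S A B C) : Subgroup G :=
  ⁅A, ⁅B, C⁆⁆ ⊔ ⁅C, ⁅B, A⁆⁆ ⊔ ⁅⁅B, A⁆, ⁅B, C⁆⁆

/-- the subgroup `K₁ = E ⊔ F ⊔ T`. -/
def K1sub (h : Config S A B C) : Subgroup G :=
  ⁅B, A⁆ ⊔ ⁅B, C⁆ ⊔ Tsub h

theorem W_comm : ⁅⁅B, C⁆, ⁅B, A⁆⁆ = ⁅⁅B, A⁆, ⁅B, C⁆⁆ := Subgroup.commutator_comm _ _

theorem comm_W_C {w c : G} (hw : w ∈ ⁅⁅B, A⁆, ⁅B, C⁆⁆) (hc : c ∈ C) : w * c = c * w := by
  rw [← W_comm h] at hw
  exact comm_W_A h.symm hw hc

theorem comm_T_A {t a : G} (ht : t ∈ Tsub h) (ha : a ∈ A) : t * a = a * t := by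
  refine sup3_induction (p := fun t => t * a = a * t) ?_ ?_ ?_ ?_ ht
  · intro z hz; exact central_AF h hz (le_sup_left (a := A) ha)
  · intro z hz; exact comm_Z1_C h.symm hz ha
  · intro w hw; exact comm_W_A h hw ha
  · intro x y hx hy
    rw [mul_assoc, hy, ← mul_assoc, hx, mul_assoc]

theorem comm_T_C {t c : G} (ht : t ∈ Tsub h) (hc : c ∈ C) : t * c = c * t := by
  refine sup3_induction (p := fun t => t * c = c * t) ?_ ?_ ?_ ?_ ht
  · intro z hz; exact comm_Z1_C h hz hc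
  · intro z hz; exact central_AF h.symm hz (le_sup_left (a := C) hc)
  · intro w hw; exact comm_W_C h hw hc
  · intro x y hx hy
    rw [mul_assoc, hy, ← mul_assoc, hx, mul_assoc]

theorem comm_T_E {t e : G} (ht : t ∈ Tsub h) (he : e ∈ ⁅B, A⁆) : t * e = e * t := by
  refine sup3_induction (p := fun t => t * e = e * t) ?_ ?_ ?_ ?_ ht
  · intro z hz; exact comm_Z1_E h hz he
  · intro z hz; exact central_AF h.symm hz (le_sup_right (a := C) he)
  · intro w hw; exact central_EF h hw (le_sup_left (a := ⁅B, A⁆) he)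
  · intro x y hx hy
    rw [mul_assoc, hy, ← mul_assoc, hx, mul_assoc]

theorem comm_T_F {t f : G} (ht : t ∈ Tsub h) (hf : f ∈ ⁅B, C⁆) : t * f = f * t := by
  refine sup3_induction (p := fun t => t * f = f * t) ?_ ?_ ?_ ?_ ht
  · intro z hz; exact central_AF h hz (le_sup_right (a := A) hf)
  · intro z hz; exact comm_Z1_E h.symm hz hf
  · intro w hw; exact central_EF h hw (le_sup_right (a := ⁅B, A⁆) hf)
  · intro x y hx hy
    rw [mul_assoc, hy, ← mul_assoc, hx, mul_assoc]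

theorem Z1_le_T : ⁅A, ⁅B, C⁆⁆ ≤ Tsub h := le_sup_of_le_left le_sup_left
theorem Z2_le_T : ⁅C, ⁅B, A⁆⁆ ≤ Tsub h := le_sup_of_le_left le_sup_right
theorem W_le_T : ⁅⁅B, A⁆, ⁅B, C⁆⁆ ≤ Tsub h := le_sup_right

theorem E_le_K1 : ⁅B, A⁆ ≤ K1sub h := le_sup_of_le_left le_sup_left
theorem F_le_K1 : ⁅B, C⁆ ≤ K1sub h := le_sup_of_le_left le_sup_right
theorem T_le_K1 : Tsub h ≤ K1sub h := le_sup_right

/-- `B` normalizes `T`. -/
theorem conj_T_B {b t : G} (hb : b ∈ B) (ht : t ∈ Tsub h) : b * t * b⁻¹ ∈ Tsub h := by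
  refine sup3_induction (p := fun t => b * t * b⁻¹ ∈ Tsub h) ?_ ?_ ?_ ?_ ht
  · apply conjBy_commutator_le
    intro a ha f hf
    rw [conj_Z1 h hb ha hf]
    exact Subgroup.mul_mem _ (Z1_le_T h (Subgroup.commutator_mem_commutator ha hf))
      (W_le_T h (Subgroup.commutator_mem_commutator (comm_mem_E h hb ha) hf))
  · apply conjBy_commutator_le
    intro c hc e he
    rw [conj_Z1 h.symm hb hc he]
    refine Subgroup.mul_mem _ (Z2_le_T h (Subgroup.commutator_mem_commutator hc he)) (W_le_T h ?_)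
    rw [← W_comm h]
    exact Subgroup.commutator_mem_commutator (comm_mem_F h hb hc) he
  · intro w hw
    have : b * w * b⁻¹ = w := by rw [← comm_W_B h hw hb]; group
    rw [this]; exact W_le_T h hw
  · intro x y hx hy
    have e : b * (x * y) * b⁻¹ = (b * x * b⁻¹) * (b * y * b⁻¹) := by group
    rw [e]; exact Subgroup.mul_mem _ hx hy

theorem conj_K1_A {a z : G} (ha : a ∈ A) (hz : z ∈ K1sub h) : a * z * a⁻¹ ∈ K1sub h := by
  refine sup3_induction (p := fun z => a * z * a⁻¹ ∈ K1sub h) ?_ ?_ ?_ ?_ hz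
  · intro e he
    have : a * e * a⁻¹ = e := by rw [← comm_EA h he ha]; group
    rw [this]; exact E_le_K1 h he
  · intro f hf
    have : a * f * a⁻¹ = ⁅a, f⁆ * f := by rw [commutatorElement_def]; group
    rw [this]
    exact Subgroup.mul_mem _ (T_le_K1 h (Z1_le_T h (Subgroup.commutator_mem_commutator ha hf)))
      (F_le_K1 h hf)
  · intro t ht
    have : a * t * a⁻¹ = t := by rw [← comm_T_A h ht ha]; group
    rw [this]; exact T_le_K1 h ht
  · intro x y hx hy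
    have e : a * (x * y) * a⁻¹ = (a * x * a⁻¹) * (a * y * a⁻¹) := by group
    rw [e]; exact Subgroup.mul_mem _ hx hy

theorem conj_K1_B {b z : G} (hb : b ∈ B) (hz : z ∈ K1sub h) : b * z * b⁻¹ ∈ K1sub h := by
  refine sup3_induction (p := fun z => b * z * b⁻¹ ∈ K1sub h) ?_ ?_ ?_ ?_ hz
  · intro e he
    have : b * e * b⁻¹ = e := by rw [← comm_EB h he hb]; group
    rw [this]; exact E_le_K1 h he
  · intro f hf
    have : b * f * b⁻¹ = f := by rw [← comm_FB h hf hb]; group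
    rw [this]; exact F_le_K1 h hf
  · intro t ht
    exact T_le_K1 h (conj_T_B h hb ht)
  · intro x y hx hy
    have e : b * (x * y) * b⁻¹ = (b * x * b⁻¹) * (b * y * b⁻¹) := by group
    rw [e]; exact Subgroup.mul_mem _ hx hy

end

theorem Tsub_symm (h : Config S A B C) : Tsub h.symm = Tsub h := by
  unfold Tsub
  rw [W_comm h, sup_comm (⁅C, ⁅B, A⁆⁆) (⁅A, ⁅B, C⁆⁆)]

theorem K1sub_symm (h : Config S A B C) : K1sub h.symm = K1sub h := by
  unfold K1sub
  rw [Tsub_symm h, sup_comm (⁅B, C⁆) (⁅B, A⁆)]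

theorem conj_K1_C (h : Config S A B C) {c z : G} (hc : c ∈ C) (hz : z ∈ K1sub h) :
    c * z * c⁻¹ ∈ K1sub h := by
  rw [← K1sub_symm h] at hz ⊢
  exact conj_K1_A h.symm hc hz

end RootTriple
end Cfsg.Agent.Helper25
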