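import Mathlib
import Cfsg.Agent.Lib.Helper25.RootTriple3

set_option autoImplicit false

namespace Cfsg.Agent.Helper25
namespace RootTriple

open scoped commutatorElement
open Cfsg

variable {G : Type*} [Group G] {S : Set (Subgroup G)} {A B C : Subgroup G}

theorem commutator_le_of_le {P Q R : Subgroup G} (hP : P ≤ R) (hQ : Q ≤ R) : ⁅P, Q⁆ ≤ R := by
  rw [Subgroup.commutator_le]
  intro p hp q hq
  rw [commutatorElement_def]
  exact R.mul_mem (R.mul_mem (R.mul_mem (hP hp) (hQ hq)) (R.inv_mem (hP hp))) (R.inv_mem (hQ hq))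

theorem comm_one_of_commute {x y : G} (hxy : x * y = y * x) : ⁅x, y⁆ = 1 :=
  commutatorElement_eq_one_iff_mul_comm.2 hxy

theorem conj_pair_of_commute {Z : Subgroup G} {u z : G} (hz : z ∈ Z) (hc : z * u = u * z) :
    u * z * u⁻¹ ∈ Z ∧ u⁻¹ * z * u ∈ Z := by
  have e1 : u * z * u⁻¹ = z := by rw [← hc]; group
  have e2 : u⁻¹ * z * u = z := by rw [mul_assoc, hc]; group
  rw [e1, e2]; exact ⟨hz, hz⟩

section
variable (h : Config S A B C)
include h

theorem comm_BB {b b' : G} (hb : b ∈ B) (hb' : b' ∈ B) : b * b' = b' * b := by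
  have := (h.hS.commutative B h.hB).is_comm.comm ⟨b, hb⟩ ⟨b', hb'⟩
  exact congrArg Subtype.val this

theorem comm_CC {c c' : G} (hc : c ∈ C) (hc' : c' ∈ C) : c * c' = c' * c := comm_AA h.symm hc hc'

theorem E_le_R : ⁅B, A⁆ ≤ A ⊔ B ⊔ C :=
  commutator_le_of_le (le_sup_of_le_left le_sup_right) (le_sup_of_le_left le_sup_left)

theorem F_le_R : ⁅B, C⁆ ≤ A ⊔ B ⊔ C :=
  commutator_le_of_le (le_sup_of_le_left le_sup_right) le_sup_right

theorem T_le_R : Tsub h ≤ A ⊔ B ⊔ C := by
  unfold Tsub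
  refine sup_le (sup_le ?_ ?_) ?_
  · exact commutator_le_of_le (le_sup_of_le_left le_sup_left) (F_le_R h)
  · exact commutator_le_of_le le_sup_right (E_le_R h)
  · exact commutator_le_of_le (E_le_R h) (F_le_R h)

theorem step0 : ∀ x ∈ A ⊔ B ⊔ C, ∀ g ∈ A ⊔ B ⊔ C, ⁅x, g⁆ ∈ K1sub h := by
  have key := GroupAux.commutator_mem_of_gens (Z := K1sub h)
    (T := (A : Set G) ∪ (B : Set G) ∪ (C : Set G)) (U := (A : Set G) ∪ (B : Set G) ∪ (C : Set G))
    ?_ Subgroup.subset_closure ?_
  · rw [closure_union3] at key; exact key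
  · rintro u ((hu | hu) | hu) z hz
    · refine ⟨conj_K1_A h hu hz, ?_⟩
      have := conj_K1_A h (A.inv_mem hu) hz
      simpa using this
    · refine ⟨conj_K1_B h hu hz, ?_⟩
      have := conj_K1_B h (B.inv_mem hu) hz
      simpa using this
    · refine ⟨conj_K1_C h hu hz, ?_⟩
      have := conj_K1_C h (C.inv_mem hu) hz
      simpa using this
  · rintro t ((ht | ht) | ht) u ((hu | hu) | hu)
    · rw [comm_one_of_commute (comm_AA h ht hu)]; exact Subgroup.one_mem _
    · rw [← commutatorElement_inv]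
      exact Subgroup.inv_mem _ (E_le_K1 h (comm_mem_E h hu ht))
    · rw [comm_one_of_commute (comm_AC h ht hu)]; exact Subgroup.one_mem _
    · exact E_le_K1 h (comm_mem_E h ht hu)
    · rw [comm_one_of_commute (comm_BB h ht hu)]; exact Subgroup.one_mem _
    · exact F_le_K1 h (comm_mem_F h ht hu)
    · rw [comm_one_of_commute (comm_AC h hu ht).symm]; exact Subgroup.one_mem _
    · rw [← commutatorElement_inv]
      exact Subgroup.inv_mem _ (F_le_K1 h (comm_mem_F h hu ht))
    · rw [comm_one_of_commute (comm_CC h ht hu)]; exact Subgroup.one_mem _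

theorem step1 : ∀ x ∈ K1sub h, ∀ g ∈ A ⊔ B ⊔ C, ⁅x, g⁆ ∈ Tsub h := by
  have key := GroupAux.commutator_mem_of_gens (Z := Tsub h)
    (T := ((⁅B, A⁆ : Subgroup G) : Set G) ∪ ((⁅B, C⁆ : Subgroup G) : Set G) ∪ (Tsub h : Set G))
    (U := (A : Set G) ∪ (B : Set G) ∪ (C : Set G)) ?_ ?_ ?_
  · rw [closure_union3, closure_union3] at key; exact key
  · rintro u ((hu | hu) | hu) z hz
    · exact conj_pair_of_commute hz (comm_T_A h hz hu)
    · refine ⟨conj_T_B h hu hz, ?_⟩
      have := conj_T_B h (B.inv_mem hu) hz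
      simpa using this
    · exact conj_pair_of_commute hz (comm_T_C h hz hu)
  · rw [closure_union3]
    rintro t ((ht | ht) | ht)
    · exact E_le_R h ht
    · exact F_le_R h ht
    · exact T_le_R h ht
  · rintro t ((ht | ht) | ht) u ((hu | hu) | hu)
    · rw [comm_one_of_commute (comm_EA h ht hu)]; exact Subgroup.one_mem _
    · rw [comm_one_of_commute (comm_EB h ht hu)]; exact Subgroup.one_mem _
    · rw [← commutatorElement_inv]
      exact Subgroup.inv_mem _ (Z2_le_T h (Subgroup.commutator_mem_commutator hu ht))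
    · rw [← commutatorElement_inv]
      exact Subgroup.inv_mem _ (Z1_le_T h (Subgroup.commutator_mem_commutator hu ht))
    · rw [comm_one_of_commute (comm_FB h ht hu)]; exact Subgroup.one_mem _
    · rw [comm_one_of_commute (comm_FC h ht hu)]; exact Subgroup.one_mem _
    · rw [comm_one_of_commute (comm_T_A h ht hu)]; exact Subgroup.one_mem _
    · rw [commutatorElement_def]
      have h1 := conj_T_B h hu (Subgroup.inv_mem _ ht)
      have e : t * u * t⁻¹ * u⁻¹ = t * (u * t⁻¹ * u⁻¹) := by group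
      rw [e]; exact Subgroup.mul_mem _ ht h1
    · rw [comm_one_of_commute (comm_T_C h ht hu)]; exact Subgroup.one_mem _

end

end RootTriple
end Cfsg.Agent.Helper25
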