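import Mathlib
import Cfsg.Agent.Lib.Helper25.RootTriple4

set_option autoImplicit false

namespace Cfsg.Agent.Helper25
namespace RootTriple

open scoped commutatorElement
open Cfsg

variable {G : Type*} [Group G] {S : Set (Subgroup G)} {A B C : Subgroup G}

section
variable (h : Config S A B C)
include h

/-- `⁅⁅a, f⁆, b⁆ ∈ W`. -/
theorem comm_Z1gen_B {a f b : G} (ha : a ∈ A) (hf : f ∈ ⁅B, C⁆) (hb : b ∈ B) :
    ⁅⁅a, f⁆, b⁆ ∈ ⁅⁅B, A⁆, ⁅B, C⁆⁆ := by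
  have hz : ⁅a, f⁆ ∈ ⁅A, ⁅B, C⁆⁆ := Subgroup.commutator_mem_commutator ha hf
  have hw : ⁅⁅b, a⁆, f⁆ ∈ ⁅⁅B, A⁆, ⁅B, C⁆⁆ :=
    Subgroup.commutator_mem_commutator (comm_mem_E h hb ha) hf
  have h1 := conj_Z1 h hb ha hf
  -- ⁅t, b⁆ = t * (b t b⁻¹)⁻¹
  have h2 : ⁅a, f⁆ * ⁅⁅b, a⁆, f⁆ = ⁅⁅b, a⁆, f⁆ * ⁅a, f⁆ :=
    (commute_commutator (comm_Z1_E h hz (comm_mem_E h hb ha)).symm
      (central_AF h hz (le_sup_right (a := A) hf)).symm).symm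
  have e : ⁅⁅a, f⁆, b⁆ = (⁅⁅b, a⁆, f⁆)⁻¹ := by
    calc ⁅⁅a, f⁆, b⁆ = ⁅a, f⁆ * (b * ⁅a, f⁆ * b⁻¹)⁻¹ := by
          rw [commutatorElement_def ⁅a, f⁆ b]; group
      _ = ⁅a, f⁆ * (⁅a, f⁆ * ⁅⁅b, a⁆, f⁆)⁻¹ := by rw [h1]
      _ = ⁅a, f⁆ * (⁅⁅b, a⁆, f⁆ * ⁅a, f⁆)⁻¹ := by rw [h2]
      _ = (⁅⁅b, a⁆, f⁆)⁻¹ := by group
  rw [e]
  exact Subgroup.inv_mem _ hw

theorem step2 : ∀ x ∈ Tsub h, ∀ g ∈ A ⊔ B ⊔ C, ⁅x, g⁆ ∈ ⁅⁅B, A⁆, ⁅B, C⁆⁆ := by
  have key := GroupAux.commutator_mem_of_gens (Z := ⁅⁅B, A⁆, ⁅B, C⁆⁆)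
    (T := {g | ∃ a ∈ A, ∃ f ∈ ⁅B, C⁆, ⁅a, f⁆ = g} ∪ {g | ∃ c ∈ C, ∃ e ∈ ⁅B, A⁆, ⁅c, e⁆ = g} ∪
      ((⁅⁅B, A⁆, ⁅B, C⁆⁆ : Subgroup G) : Set G))
    (U := (A : Set G) ∪ (B : Set G) ∪ (C : Set G)) ?_ ?_ ?_
  · rw [closure_union3, Subgroup.closure_union, Subgroup.closure_union,
      ← Subgroup.commutator_def, ← Subgroup.commutator_def, Subgroup.closure_eq] at key
    exact key
  · rintro u ((hu | hu) | hu) z hz
    · exact conj_pair_of_commute hz (comm_W_A h hz hu)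
    · exact conj_pair_of_commute hz (comm_W_B h hz hu)
    · exact conj_pair_of_commute hz (comm_W_C h hz hu)
  · rw [closure_union3]
    rintro t ((⟨a, ha, f, hf, rfl⟩ | ⟨c, hc, e, he, rfl⟩) | ht)
    · exact T_le_R h (Z1_le_T h (Subgroup.commutator_mem_commutator ha hf))
    · exact T_le_R h (Z2_le_T h (Subgroup.commutator_mem_commutator hc he))
    · exact T_le_R h (W_le_T h ht)
  · rintro t ((⟨a, ha, f, hf, rfl⟩ | ⟨c, hc, e, he, rfl⟩) | ht) u ((hu | hu) | hu)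
    · have ht : ⁅a, f⁆ ∈ Tsub h := Z1_le_T h (Subgroup.commutator_mem_commutator ha hf)
      rw [comm_one_of_commute (comm_T_A h ht hu)]; exact Subgroup.one_mem _
    · exact comm_Z1gen_B h ha hf hu
    · have ht : ⁅a, f⁆ ∈ Tsub h := Z1_le_T h (Subgroup.commutator_mem_commutator ha hf)
      rw [comm_one_of_commute (comm_T_C h ht hu)]; exact Subgroup.one_mem _
    · have ht : ⁅c, e⁆ ∈ Tsub h := Z2_le_T h (Subgroup.commutator_mem_commutator hc he)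
      rw [comm_one_of_commute (comm_T_A h ht hu)]; exact Subgroup.one_mem _
    · have := comm_Z1gen_B h.symm hc he hu
      rw [W_comm h] at this
      exact this
    · have ht : ⁅c, e⁆ ∈ Tsub h := Z2_le_T h (Subgroup.commutator_mem_commutator hc he)
      rw [comm_one_of_commute (comm_T_C h ht hu)]; exact Subgroup.one_mem _
    · rw [comm_one_of_commute (comm_W_A h ht hu)]; exact Subgroup.one_mem _
    · rw [comm_one_of_commute (comm_W_B h ht hu)]; exact Subgroup.one_mem _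
    · rw [comm_one_of_commute (comm_W_C h ht hu)]; exact Subgroup.one_mem _

theorem step3 : ∀ x ∈ ⁅⁅B, A⁆, ⁅B, C⁆⁆, ∀ g ∈ A ⊔ B ⊔ C, ⁅x, g⁆ = 1 := by
  intro x hx g hg
  apply comm_one_of_commute
  revert g
  apply GroupAux.commute_sup_right
  · apply GroupAux.commute_sup_right
    · intro a ha; exact comm_W_A h hx ha
    · intro b hb; exact comm_W_B h hx hb
  · intro c hc; exact comm_W_C h hx hc

/-- `R = A ⊔ B ⊔ C` is nilpotent. -/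
theorem nilpotent_R : Group.IsNilpotent ↥(A ⊔ B ⊔ C) := by
  refine GroupAux.isNilpotent_of_series
    (fun i => match i with
      | 0 => A ⊔ B ⊔ C
      | 1 => K1sub h
      | 2 => Tsub h
      | 3 => ⁅⁅B, A⁆, ⁅B, C⁆⁆
      | _ => ⊥) 4 le_rfl rfl ?_
  intro i x hx hxR g hg
  match i with
  | 0 => exact step0 h x hx g hg
  | 1 => exact step1 h x hx g hg
  | 2 => exact step2 h x hx g hg
  | 3 =>
    have := step3 h x hx g hg
    show ⁅x, g⁆ ∈ (⊥ : Subgroup G)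
    rw [this]; exact Subgroup.one_mem _
  | (n + 4) =>
    have hx' : x ∈ (⊥ : Subgroup G) := hx
    rw [Subgroup.mem_bot] at hx'
    show ⁅x, g⁆ ∈ (⊥ : Subgroup G)
    rw [hx']; simp

end

end RootTriple
end Cfsg.Agent.Helper25
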