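import Mathlib
import Cfsg.Agent.Lib.Helper25.RootTriple5

set_option autoImplicit false

namespace Cfsg.Agent.Helper25
namespace RootTriple

open scoped commutatorElement
open Cfsg

variable {G : Type*} [Group G] {S : Set (Subgroup G)} {A B C : Subgroup G}

theorem rot (h : Config S A B C) (hbot : ⁅A, ⁅B, C⁆⁆ = ⊥) : ⁅C, ⁅B, A⁆⁆ = ⊥ := by
  rw [Subgroup.commutator_comm]
  apply Subgroup.commutator_commutator_eq_bot_of_rotate
  · rw [h.hAC]; exact Subgroup.commutator_bot_left B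
  · rw [Subgroup.commutator_comm C B, Subgroup.commutator_comm]; exact hbot

section
variable (h : Config S A B C)
include h

/-- `X` and `Y` commute. -/
theorem comm_XY {b : G} (hb : b ∈ B) :
    ⁅A ⊔ Cfsg.conjBy C b, Cfsg.conjBy A b ⊔ C⁆ = ⊥ := by
  have key : ∀ x ∈ A ⊔ Cfsg.conjBy C b, ∀ y ∈ Cfsg.conjBy A b ⊔ C, x * y = y * x := by
    apply GroupAux.commute_sup_sup
    · intro a ha y hy; exact comm_A_conjA h hb ha hy
    · intro a ha c hc; exact comm_AC h ha hc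
    · intro d hd y hy; exact (comm_conj_conj h hy hd).symm
    · intro d hd c hc; exact (comm_A_conjA h.symm hb hc hd).symm
  rw [eq_bot_iff, Subgroup.commutator_le]
  intro x hx y hy
  rw [Subgroup.mem_bot, commutatorElement_eq_one_iff_mul_comm]
  exact key x hx y hy

/-- the subgroup `M = X ⊔ Y`. -/
def Msub (_h : Config S A B C) (b : G) : Subgroup G :=
  (A ⊔ Cfsg.conjBy C b) ⊔ (Cfsg.conjBy A b ⊔ C)

theorem A_le_M (b : G) : A ≤ Msub h b := le_sup_of_le_left le_sup_left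
theorem C_le_M (b : G) : C ≤ Msub h b := le_sup_of_le_right le_sup_right
theorem conjC_le_M (b : G) : Cfsg.conjBy C b ≤ Msub h b := le_sup_of_le_left le_sup_right
theorem conjA_le_M (b : G) : Cfsg.conjBy A b ≤ Msub h b := le_sup_of_le_right le_sup_left

theorem F_le_M {b : G} (hb : b ∈ B) (hb1 : b ≠ 1) : ⁅B, C⁆ ≤ Msub h b := by
  intro f hf
  obtain ⟨c, hc, rfl⟩ := RootComm.exists_comm_eq (caseBC h) hb hb1 hf
  have e : ⁅b, c⁆ = (⁅b, c⁆ * c) * c⁻¹ := by group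
  rw [e]
  exact Subgroup.mul_mem _ (conjC_le_M h b (mul_mem_conjBy_C h hc))
    (Subgroup.inv_mem _ (C_le_M h b hc))

theorem E_le_M {b : G} (hb : b ∈ B) (hb1 : b ≠ 1) : ⁅B, A⁆ ≤ Msub h b := by
  intro e he
  obtain ⟨a, ha, rfl⟩ := RootComm.exists_comm_eq (caseBA h) hb hb1 he
  have e : ⁅b, a⁆ = (⁅b, a⁆ * a) * a⁻¹ := by group
  rw [e]
  exact Subgroup.mul_mem _ (conjA_le_M h b (mul_mem_conjBy_C h.symm ha))
    (Subgroup.inv_mem _ (A_le_M h b ha))

theorem conjC_any_le_M {b β : G} (hb : b ∈ B) (hb1 : b ≠ 1) (hβ : β ∈ B) :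
    Cfsg.conjBy C β ≤ Msub h b := by
  intro x hx
  obtain ⟨c, hc, rfl⟩ := mem_conjBy_C h hβ hx
  exact Subgroup.mul_mem _ (F_le_M h hb hb1 (comm_mem_F h hβ hc)) (C_le_M h b hc)

theorem conjA_any_le_M {b β : G} (hb : b ∈ B) (hb1 : b ≠ 1) (hβ : β ∈ B) :
    Cfsg.conjBy A β ≤ Msub h b := by
  intro x hx
  obtain ⟨a, ha, rfl⟩ := mem_conjBy_C h.symm hβ hx
  exact Subgroup.mul_mem _ (E_le_M h hb hb1 (comm_mem_E h hβ ha)) (A_le_M h b ha)

theorem conjM_le {b β : G} (hb : b ∈ B) (hb1 : b ≠ 1) (hβ : β ∈ B) :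
    Cfsg.conjBy (Msub h b) β ≤ Msub h b := by
  unfold Msub
  unfold Cfsg.conjBy
  rw [Subgroup.map_sup, Subgroup.map_sup, Subgroup.map_sup]
  have e1 : Subgroup.map (MulAut.conj β).toMonoidHom (Subgroup.map (MulAut.conj b).toMonoidHom C) =
      Cfsg.conjBy C (β * b) := conjBy_conjBy C b β
  have e2 : Subgroup.map (MulAut.conj β).toMonoidHom (Subgroup.map (MulAut.conj b).toMonoidHom A) =
      Cfsg.conjBy A (β * b) := conjBy_conjBy A b β
  rw [e1, e2]
  refine sup_le (sup_le ?_ ?_) (sup_le ?_ ?_)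
  · exact conjA_any_le_M h hb hb1 hβ
  · exact conjC_any_le_M h hb hb1 (B.mul_mem hβ hb)
  · exact conjA_any_le_M h hb hb1 (B.mul_mem hβ hb)
  · exact conjC_any_le_M h hb hb1 hβ

theorem conjM_eq_B {b β : G} (hb : b ∈ B) (hb1 : b ≠ 1) (hβ : β ∈ B) :
    Cfsg.conjBy (Msub h b) β = Msub h b := by
  apply le_antisymm (conjM_le h hb hb1 hβ)
  have h1 := conjM_le h hb hb1 (B.inv_mem hβ)
  have h2 : Cfsg.conjBy (Cfsg.conjBy (Msub h b) β⁻¹) β ≤ Cfsg.conjBy (Msub h b) β :=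
    Subgroup.map_mono h1
  rw [conjBy_conjBy] at h2
  simpa [conjBy_one] using h2

/-- `M` is normalized by `R = A ⊔ B ⊔ C`. -/
theorem conjM_eq {b : G} (hb : b ∈ B) (hb1 : b ≠ 1) :
    ∀ r ∈ A ⊔ B ⊔ C, Cfsg.conjBy (Msub h b) r = Msub h b := by
  intro r hr
  refine sup3_induction (p := fun r => Cfsg.conjBy (Msub h b) r = Msub h b) ?_ ?_ ?_ ?_ hr
  · intro a ha; exact conjBy_of_mem (A_le_M h b ha)
  · intro β hβ; exact conjM_eq_B h hb hb1 hβ
  · intro c hc; exact conjBy_of_mem (C_le_M h b hc)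
  · intro x y hx hy
    show Cfsg.conjBy (Msub h b) (x * y) = Msub h b
    rw [← conjBy_conjBy, hy, hx]

theorem M_sup_B {b : G} (hb : b ∈ B) : Msub h b ⊔ B = A ⊔ B ⊔ C := by
  apply le_antisymm
  · refine sup_le ?_ (le_sup_of_le_left le_sup_right)
    unfold Msub
    refine sup_le (sup_le (le_sup_of_le_left le_sup_left) ?_) (sup_le ?_ le_sup_right)
    · intro x hx
      obtain ⟨c, hc, rfl⟩ := mem_conjBy_C h hb hx
      exact Subgroup.mul_mem _ (F_le_R h (comm_mem_F h hb hc)) (le_sup_right (a := A ⊔ B) hc)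
    · intro x hx
      obtain ⟨a, ha, rfl⟩ := mem_conjBy_C h.symm hb hx
      exact Subgroup.mul_mem _ (E_le_R h (comm_mem_E h hb ha))
        (le_sup_of_le_left le_sup_left (a := A ⊔ B) (b := C) ha)
  · refine sup_le (sup_le ?_ le_sup_right) ?_
    · exact le_sup_of_le_left (A_le_M h b)
    · exact le_sup_of_le_left (C_le_M h b)

end

end RootTriple
end Cfsg.Agent.Helper25
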