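import Mathlib
import Cfsg.Agent.Lib.Helper11.S11Defs

/-!
# S3211 piece S11-RIN: `rin_card`
-/

set_option autoImplicit false
set_option linter.unusedVariables false

namespace Cfsg.Agent.Helper11.S11

/-- commuting elements of `L` with equal squares differ by `1` or `z` -/
theorem s11_rin_eq_or {G : Type*} [Group G] {L : Subgroup G} {n z a : G} (h : Hyp L n z a)
    (x w : G) (hx : x ∈ L) (hw : w ∈ L) (hc : x * w = w * x) (hsq : x * x = w * w) :
    x = w ∨ x = z * w := by
  have hd : x * w⁻¹ ∈ L := L.mul_mem hx (L.inv_mem hw)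
  have hc' : Commute x w := hc
  have hdd : (x * w⁻¹) * (x * w⁻¹) = 1 := by
    have h1 : (x * w⁻¹) * (x * w⁻¹) = (x * x) * (w⁻¹ * w⁻¹) :=
      (hc'.inv_right.symm).mul_mul_mul_comm x w⁻¹
    rw [h1, hsq]; group
  rcases h.inv_unique _ hd hdd with h1 | h1
  · left
    have : x = (x * w⁻¹) * w := by group
    rw [this, h1, one_mul]
  · right
    have : x = (x * w⁻¹) * w := by group
    rw [this, h1]

/-- the four combinations collapse to two -/
theorem s11_rin_combo {G : Type*} [Group G] {L : Subgroup G} {n z a : G} (h : Hyp L n z a)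
    (p r wp wr : G) (hwp : wp ∈ L) (hwr : wr ∈ L) (hp : p = wp ∨ p = z * wp)
    (hr : r = wr ∨ r = z * wr) :
    p * sg n r = wp * sg n wr ∨ p * sg n r = z * (wp * sg n wr) := by
  have e1 : wp * sg n (z * wr) = z * (wp * sg n wr) := by
    rw [sg_mul, h.sg_z, ← mul_assoc, h.z_central wp hwp, mul_assoc]
  rcases hp with rfl | rfl <;> rcases hr with rfl | rfl
  · left; rfl
  · right; exact e1
  · right; rw [mul_assoc]
  · left
    rw [mul_assoc, e1, ← mul_assoc, h.z_sq, one_mul]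

/-- an element of `L` whose square is `a` or `z * a` commutes with `a` -/
theorem s11_rin_comm_a {G : Type*} [Group G] {L : Subgroup G} {n z a : G} (h : Hyp L n z a)
    (p : G) (hp : p ∈ L) (hpp : p * p = a ∨ p * p = z * a) : p * a = a * p := by
  rcases hpp with h1 | h1
  · rw [← h1]; group
  · have ha : a = z * (p * p) := by
      rw [h1, ← mul_assoc, h.z_sq, one_mul]
    have hz := h.z_central p hp
    rw [ha]
    calc p * (z * (p * p)) = (p * z) * (p * p) := by group
      _ = (z * p) * (p * p) := by rw [hz]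
      _ = z * (p * p) * p := by group

theorem s11_rin_za_inv {G : Type*} [Group G] {L : Subgroup G} {n z a : G} (h : Hyp L n z a) :
    (z * a)⁻¹ = a := by
  rw [← h.a_inv, inv_inv]

/-- PIECE S11-RIN -/
theorem rin_card {G : Type*} [Group G] [Finite G] {L : Subgroup G} {n z a : G}
    (h : Hyp L n z a) :
    Set.ncard {y : G | (∃ p ∈ L, ∃ r ∈ L, y = p * sg n r) ∧ y * y = a * sg n a} ≤ 4 := by
  classical
  set S : Set G := {y : G | (∃ p ∈ L, ∃ r ∈ L, y = p * sg n r) ∧ y * y = a * sg n a} with hS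
  by_cases hne : S = ∅
  · rw [hne, Set.ncard_empty]; omega
  obtain ⟨y0, hy0⟩ := Set.nonempty_iff_ne_empty.2 hne
  obtain ⟨⟨p0, hp0, r0, hr0, rfl⟩, hy0sq⟩ := hy0
  rw [h.inner_sq p0 r0 hp0 hr0] at hy0sq
  have hcase0 := h.split _ _ _ _ (L.mul_mem hp0 hp0) (L.mul_mem hr0 hr0) h.a_mem h.a_mem hy0sq
  have hp0a : p0 * a = a * p0 := s11_rin_comm_a h p0 hp0 (by
    rcases hcase0 with ⟨h1, -⟩ | ⟨h1, -⟩
    · exact Or.inl h1
    · exact Or.inr h1)
  have hr0a : r0 * a = a * r0 := s11_rin_comm_a h r0 hr0 (by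
    rcases hcase0 with ⟨-, h1⟩ | ⟨-, h1⟩
    · exact Or.inl h1
    · exact Or.inr h1)
  have hsub : S ⊆ ↑({p0 * sg n r0, z * (p0 * sg n r0), (p0 * sg n r0)⁻¹,
      z * (p0 * sg n r0)⁻¹} : Finset G) := by
    rintro y ⟨⟨p, hp, r, hr, rfl⟩, hysq⟩
    rw [h.inner_sq p r hp hr] at hysq
    have hcase := h.split _ _ _ _ (L.mul_mem hp hp) (L.mul_mem hr hr) h.a_mem h.a_mem hysq
    have hpa : p * a = a * p := s11_rin_comm_a h p hp (by
      rcases hcase with ⟨h1, -⟩ | ⟨h1, -⟩
      · exact Or.inl h1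
      · exact Or.inr h1)
    have hra : r * a = a * r := s11_rin_comm_a h r hr (by
      rcases hcase with ⟨-, h1⟩ | ⟨-, h1⟩
      · exact Or.inl h1
      · exact Or.inr h1)
    have hpp0 : p * p0 = p0 * p := h.cent_comm p hp p0 hp0 hpa hp0a
    have hrr0 : r * r0 = r0 * r := h.cent_comm r hr r0 hr0 hra hr0a
    have hpp0' : p * p0⁻¹ = p0⁻¹ * p := by
      have : Commute p p0 := hpp0
      exact this.inv_right
    have hrr0' : r * r0⁻¹ = r0⁻¹ * r := by
      have : Commute r r0 := hrr0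
      exact this.inv_right
    simp only [Finset.coe_insert, Finset.coe_singleton, Set.mem_insert_iff,
      Set.mem_singleton_iff]
    -- same case or different case
    have hsame : (p * p = p0 * p0 ∧ r * r = r0 * r0) ∨
        (p * p = p0⁻¹ * p0⁻¹ ∧ r * r = r0⁻¹ * r0⁻¹) := by
      have hinv : ∀ w : G, w⁻¹ * w⁻¹ = (w * w)⁻¹ := fun w => by group
      rcases hcase with ⟨h1, h2⟩ | ⟨h1, h2⟩ <;> rcases hcase0 with ⟨h3, h4⟩ | ⟨h3, h4⟩
      · left; exact ⟨h1.trans h3.symm, h2.trans h4.symm⟩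
      · right
        rw [hinv, hinv, h3, h4, s11_rin_za_inv h]
        exact ⟨h1, h2⟩
      · right
        rw [hinv, hinv, h3, h4, h.a_inv]
        exact ⟨h1, h2⟩
      · left; exact ⟨h1.trans h3.symm, h2.trans h4.symm⟩
    rcases hsame with ⟨e1, e2⟩ | ⟨e1, e2⟩
    · have hp' := s11_rin_eq_or h p p0 hp hp0 hpp0 e1
      have hr' := s11_rin_eq_or h r r0 hr hr0 hrr0 e2
      rcases s11_rin_combo h p r p0 r0 hp0 hr0 hp' hr' with h5 | h5
      · left; exact h5
      · right; left; exact h5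
    · have hp' := s11_rin_eq_or h p p0⁻¹ hp (L.inv_mem hp0) hpp0' e1
      have hr' := s11_rin_eq_or h r r0⁻¹ hr (L.inv_mem hr0) hrr0' e2
      rw [h.inner_inv p0 r0 hp0 hr0]
      rcases s11_rin_combo h p r p0⁻¹ r0⁻¹ (L.inv_mem hp0) (L.inv_mem hr0) hp' hr' with h5 | h5
      · right; right; left; exact h5
      · right; right; right; exact h5
  calc S.ncard ≤ (↑({p0 * sg n r0, z * (p0 * sg n r0), (p0 * sg n r0)⁻¹,
      z * (p0 * sg n r0)⁻¹} : Finset G) : Set G).ncard :=
        Set.ncard_le_ncard hsub (Finset.finite_toSet _)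
    _ = ({p0 * sg n r0, z * (p0 * sg n r0), (p0 * sg n r0)⁻¹,
      z * (p0 * sg n r0)⁻¹} : Finset G).card := Set.ncard_coe_finset _
    _ ≤ 4 := Finset.card_le_four

end Cfsg.Agent.Helper11.S11
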