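import Mathlib
import Cfsg.Agent.Lib.Helper8.RegOrbDefs
import Cfsg.Agent.Lib.Helper8.RegOrbA
import Cfsg.Agent.Lib.Helper19.S4330P1

set_option autoImplicit false
set_option linter.unusedSectionVars false
set_option linter.unusedVariables false
set_option linter.style.haveILetI false

/-! PIECE 2 of S4330 for helper8: existence of a regular orbit for an odd `p`-group of
automorphisms of class at most two with cyclic centre acting fixed point freely. -/

namespace Cfsg.Agent.Helper25.S4330P2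

open Cfsg.Agent.Helper8.RegOrb Cfsg.Agent.Helper19.S4330P1 Finset

universe u

section basics

variable {N : Type*} [CommGroup N]

/-- fixed points of a single automorphism -/
def fx (g : MulAut N) : Subgroup N where
  carrier := {v | g v = v}
  one_mem' := by simp
  mul_mem' := by
    intro a b ha hb
    simp only [Set.mem_ofPred_eq] at ha hb ⊢
    rw [map_mul, ha, hb]
  inv_mem' := by
    intro a ha
    simp only [Set.mem_ofPred_eq] at ha ⊢
    rw [map_inv, ha]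

theorem mem_fx {g : MulAut N} {v : N} : v ∈ fx g ↔ g v = v := Iff.rfl

theorem mem_fx_conj {h b : MulAut N} {u : N} : h u ∈ fx (h * b * h⁻¹) ↔ u ∈ fx b := by
  rw [mem_fx, mem_fx]
  simp only [MulAut.mul_apply, MulAut.inv_apply_self]
  exact h.injective.eq_iff

theorem mem_fx_conj' {h b : MulAut N} {u : N} : u ∈ fx (h * b * h⁻¹) ↔ h⁻¹ u ∈ fx b := by
  rw [← mem_fx_conj (h := h) (b := b) (u := h⁻¹ u)]
  simp

theorem inv_apply_of_fixed {g : MulAut N} {v : N} (h : g v = v) : g⁻¹ v = v := by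
  calc g⁻¹ v = g⁻¹ (g v) := by rw [h]
    _ = v := MulAut.inv_apply_self _ _ _

theorem eq_of_pow_eq [Finite N] {p : ℕ} (hcop : (Nat.card N).Coprime p) {v w : N}
    (h : v ^ p = w ^ p) : v = w := by
  have h1 : (v / w) ^ p ∈ (⊥ : Subgroup N) := by
    rw [div_pow, h, div_self']
    exact Subgroup.mem_bot.mpr rfl
  have h2 := pow_mem_imp_mem hcop ⊥ h1
  exact div_eq_one.mp (Subgroup.mem_bot.mp h2)

theorem Tg_mul' (p : ℕ) (g : MulAut N) (u w : N) : Tg p g (u * w) = Tg p g u * Tg p g w := by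
  unfold Tg
  rw [← Finset.prod_mul_distrib]
  apply Finset.prod_congr rfl
  intro i _
  exact map_mul _ _ _

theorem Tg_one' (p : ℕ) (g : MulAut N) : Tg p g (1 : N) = 1 := by
  unfold Tg
  apply Finset.prod_eq_one
  intro i _
  exact map_one _

theorem Tg_of_fixed (p : ℕ) {g : MulAut N} {u : N} (h : g u = u) : Tg p g u = u ^ p := by
  unfold Tg
  have hpow : ∀ i : ℕ, (g ^ i) u = u := by
    intro i
    induction i with
    | zero => rfl
    | succ i ih => rw [pow_succ, MulAut.mul_apply, h, ih]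
  rw [Finset.prod_congr rfl (fun i _ => hpow i)]
  simp

theorem Tg_conj (p : ℕ) (h g : MulAut N) (u : N) :
    h (Tg p g u) = Tg p (h * g * h⁻¹) (h u) := by
  unfold Tg
  rw [map_prod]
  apply Finset.prod_congr rfl
  intro i _
  rw [conj_pow]
  simp [MulAut.mul_apply]

theorem mem_zpowers_of_ne_one {G : Type*} [Group G] {p : ℕ} [hp : Fact p.Prime] {z c : G}
    (hzp : z ^ p = 1) (hc : c ∈ Subgroup.zpowers z) (hc1 : c ≠ 1) : z ∈ Subgroup.zpowers c := by
  have hz1 : z ≠ 1 := by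
    rintro rfl
    rw [Subgroup.zpowers_one_eq_bot, Subgroup.mem_bot] at hc
    exact hc1 hc
  have hord : orderOf z = p := orderOf_eq_prime hzp hz1
  have hcard : Nat.card (Subgroup.zpowers z) = p := by rw [Nat.card_zpowers, hord]
  have hne : (⟨c, hc⟩ : Subgroup.zpowers z) ≠ 1 := by
    intro h; exact hc1 (congrArg Subtype.val h)
  have hmem := mem_zpowers_of_prime_card (G := Subgroup.zpowers z) hcard (g := ⟨c, hc⟩)
    (g' := ⟨z, Subgroup.mem_zpowers z⟩) hne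
  obtain ⟨k, hk⟩ := Subgroup.mem_zpowers_iff.mp hmem
  have := congrArg Subtype.val hk
  rw [Subgroup.coe_zpow] at this
  exact Subgroup.mem_zpowers_iff.mpr ⟨k, this⟩

theorem exists_pow_order_p {G : Type*} [Group G] {p : ℕ} :
    ∀ (k : ℕ) (g : G), g ^ p ^ k = 1 → g ≠ 1 → ∃ m : ℕ, g ^ m ≠ 1 ∧ (g ^ m) ^ p = 1 := by
  intro k
  induction k with
  | zero =>
    intro g hg hg1
    simp at hg
    exact absurd hg hg1
  | succ k ih =>
    intro g hg hg1
    by_cases h : g ^ p = 1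
    · exact ⟨1, by simpa using hg1, by simpa using h⟩
    · have : (g ^ p) ^ p ^ k = 1 := by rw [← pow_mul, ← pow_succ']; exact hg
      obtain ⟨m, hm1, hm2⟩ := ih (g ^ p) this h
      exact ⟨p * m, by rwa [pow_mul], by rwa [pow_mul]⟩

/-- the configuration: a central subgroup `Z` of `W` of exponent `p` acting fixed point freely and
containing all commutators -/
structure Cfg (p : ℕ) (W Z : Subgroup (MulAut N)) : Prop where
  le : Z ≤ W
  central : ∀ c ∈ Z, ∀ g ∈ W, c * g = g * c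
  exp : ∀ c ∈ Z, c ^ p = 1
  fpf : ∀ c ∈ Z, c ≠ 1 → ∀ v : N, c v = v → v = 1
  comm : ∀ x ∈ W, ∀ y ∈ W, x * y * x⁻¹ * y⁻¹ ∈ Z

theorem cfg_of {p : ℕ} [Fact p.Prime] {W : Subgroup (MulAut N)} {z : MulAut N} (hzW : z ∈ W)
    (hzp : z ^ p = 1) (hzc : ∀ g ∈ W, z * g = g * z) (hzfix : ∀ v : N, z v = v → v = 1)
    (hcomm : ∀ x ∈ W, ∀ y ∈ W, x * y * x⁻¹ * y⁻¹ ∈ Subgroup.zpowers z) :
    Cfg p W (Subgroup.zpowers z) where
  le := (Subgroup.zpowers_le).mpr hzW
  central := by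
    intro c hc g hg
    obtain ⟨k, rfl⟩ := Subgroup.mem_zpowers_iff.mp hc
    have : Commute z g := hzc g hg
    exact (this.zpow_left k).eq
  exp := by
    intro c hc
    obtain ⟨k, rfl⟩ := Subgroup.mem_zpowers_iff.mp hc
    rw [← zpow_natCast, ← zpow_mul, mul_comm, zpow_mul, zpow_natCast, hzp, one_zpow]
  fpf := by
    intro c hc hc1 v hv
    have hz : z ∈ Subgroup.zpowers c := mem_zpowers_of_ne_one hzp hc hc1
    apply hzfix
    exact (mem_fixOf_zpowers.mpr hv) z hz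
  comm := hcomm

/-- the commutator `[g, a]` -/
def kap (a g : MulAut N) : MulAut N := g * a * g⁻¹ * a⁻¹

variable {p : ℕ} {W Z : Subgroup (MulAut N)}

theorem kap_mem (h : Cfg p W Z) {a g : MulAut N} (ha : a ∈ W) (hg : g ∈ W) : kap a g ∈ Z :=
  h.comm g hg a ha

theorem conj_eq_kap (a g : MulAut N) : g * a * g⁻¹ = kap a g * a := by
  unfold kap; group

theorem kap_eq_one_iff {a g : MulAut N} : kap a g = 1 ↔ a * g = g * a := by
  unfold kap
  constructor
  · intro h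
    have h1 : g * a * g⁻¹ = a := by
      have := congrArg (· * a) h
      simpa using this
    calc a * g = (g * a * g⁻¹) * g := by rw [h1]
      _ = g * a := by group
  · intro h
    calc g * a * g⁻¹ * a⁻¹ = (g * a) * g⁻¹ * a⁻¹ := by group
      _ = (a * g) * g⁻¹ * a⁻¹ := by rw [h]
      _ = 1 := by group

theorem kap_mul (h : Cfg p W Z) {a g g' : MulAut N} (ha : a ∈ W) (hg : g ∈ W) (hg' : g' ∈ W) :
    kap a (g * g') = kap a g * kap a g' := by
  have hk : kap a g' ∈ Z := kap_mem h ha hg'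
  have hkg : kap a g' * g = g * kap a g' := h.central _ hk g hg
  have hkk : kap a g' * kap a g = kap a g * kap a g' :=
    h.central _ hk _ (h.le (kap_mem h ha hg))
  have h1 : g' * a * g'⁻¹ = kap a g' * a := conj_eq_kap a g'
  generalize kap a g' = k at *
  calc kap a (g * g') = g * (g' * a * g'⁻¹) * g⁻¹ * a⁻¹ := by unfold kap; group
    _ = g * (k * a) * g⁻¹ * a⁻¹ := by rw [h1]
    _ = (g * k) * a * g⁻¹ * a⁻¹ := by group
    _ = (k * g) * a * g⁻¹ * a⁻¹ := by rw [hkg]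
    _ = k * kap a g := by unfold kap; group
    _ = kap a g * k := hkk

/-- `kap a` as a homomorphism on `W` -/
def kapHom (h : Cfg p W Z) {a : MulAut N} (ha : a ∈ W) : ↥W →* MulAut N where
  toFun g := kap a g.1
  map_one' := by simp [kap]
  map_mul' g g' := kap_mul h ha g.2 g'.2

theorem kap_zpow (h : Cfg p W Z) {a g : MulAut N} (ha : a ∈ W) (hg : g ∈ W) (m : ℤ) :
    kap a (g ^ m) = (kap a g) ^ m := by
  have := map_zpow (kapHom h ha) ⟨g, hg⟩ m
  simpa [kapHom] using this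

theorem kap_inv (h : Cfg p W Z) {a g : MulAut N} (ha : a ∈ W) (hg : g ∈ W) :
    kap a g⁻¹ = (kap a g)⁻¹ := by
  have := map_inv (kapHom h ha) ⟨g, hg⟩
  simpa [kapHom] using this

theorem conj_ac (h : Cfg p W Z) {a g c : MulAut N} (ha : a ∈ W) (hg : g ∈ W) (hc : c ∈ Z) :
    g * (a * c) * g⁻¹ = a * (kap a g * c) := by
  have hcg : c * g⁻¹ = g⁻¹ * c := h.central c hc _ (W.inv_mem hg)
  have hka : kap a g * a = a * kap a g := h.central _ (kap_mem h ha hg) a ha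
  calc g * (a * c) * g⁻¹ = g * a * (c * g⁻¹) := by group
    _ = g * a * (g⁻¹ * c) := by rw [hcg]
    _ = (g * a * g⁻¹) * c := by group
    _ = (kap a g * a) * c := by rw [conj_eq_kap]
    _ = (a * kap a g) * c := by rw [hka]
    _ = a * (kap a g * c) := by group

theorem ac_pow (h : Cfg p W Z) {a c : MulAut N} (ha : a ∈ W) (hap : a ^ p = 1) (hc : c ∈ Z) :
    (a * c) ^ p = 1 := by
  have hcomm : Commute a c := (h.central c hc a ha).symm
  rw [hcomm.mul_pow, hap, h.exp c hc, one_mul]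

theorem Tg_eq_one_of_ne (h : Cfg p W Z) {a c c' : MulAut N} (ha : a ∈ W) (hap : a ^ p = 1)
    (hc : c ∈ Z) (hc' : c' ∈ Z) (hne : c ≠ c') {u : N} (hu : u ∈ fx (a * c')) :
    Tg p (a * c) u = 1 := by
  have h1 : (a * c) (Tg p (a * c) u) = Tg p (a * c) u := Tg_fixed (ac_pow h ha hap hc) u
  have hcomm : (a * c') * (a * c) = (a * c) * (a * c') := by
    have e1 : c' * a = a * c' := h.central c' hc' a ha
    have e2 : c * a = a * c := h.central c hc a ha
    have e3 : c' * c = c * c' := h.central c' hc' c (h.le hc)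
    calc (a * c') * (a * c) = a * (c' * a) * c := by group
      _ = a * (a * c') * c := by rw [e1]
      _ = a * a * (c' * c) := by group
      _ = a * a * (c * c') := by rw [e3]
      _ = a * (a * c) * c' := by group
      _ = a * (c * a) * c' := by rw [e2]
      _ = (a * c) * (a * c') := by group
  have h2 : (a * c') (Tg p (a * c) u) = Tg p (a * c) u := by
    rw [Tg_comm hcomm, mem_fx.mp hu]
  have h3 : ((a * c)⁻¹ * (a * c')) (Tg p (a * c) u) = Tg p (a * c) u := by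
    rw [MulAut.mul_apply, h2]
    exact inv_apply_of_fixed h1
  have h4 : (a * c)⁻¹ * (a * c') = c⁻¹ * c' := by group
  rw [h4] at h3
  have h5 : c⁻¹ * c' ∈ Z := Z.mul_mem (Z.inv_mem hc) hc'
  have h6 : c⁻¹ * c' ≠ 1 := by
    intro h7
    exact hne (inv_mul_eq_one.mp h7)
  exact h.fpf _ h5 h6 _ h3

theorem apply_Tg (h : Cfg p W Z) {a g c : MulAut N} (ha : a ∈ W) (hg : g ∈ W) (hc : c ∈ Z)
    (u : N) : g (Tg p (a * c) u) = Tg p (a * (kap a g * c)) (g u) := by
  rw [Tg_conj, conj_ac h ha hg hc]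

theorem apply_mem_fx (h : Cfg p W Z) {a g c : MulAut N} (ha : a ∈ W) (hg : g ∈ W) (hc : c ∈ Z)
    {u : N} (hu : u ∈ fx (a * c)) : g u ∈ fx (a * (kap a g * c)) := by
  rw [← conj_ac h ha hg hc]
  exact mem_fx_conj.mpr hu

theorem eq_one_of_trivial_on (h : Cfg p W Z) [Finite N] [hp : Fact p.Prime]
    (hcop : (Nat.card N).Coprime p) {a z : MulAut N} (ha : a ∈ W) (hap : a ^ p = 1) (hz : z ∈ Z)
    (hz1 : z ≠ 1) {g : MulAut N} (hg : ∀ j : ℕ, ∀ u ∈ fx (a * z ^ j), g u = u) : g = 1 := by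
  have hzp : z ^ p = 1 := h.exp z hz
  have haz : a * z = z * a := (h.central z hz a ha).symm
  have key : ∀ v : N, v ^ p = ∏ j ∈ range p, Tg p (a * z ^ j) v := by
    intro v
    have hid := rank_two_identity hp.out haz hap hzp v
    have h1 : Tg p z v = 1 := h.fpf z hz hz1 _ (Tg_fixed hzp v)
    rw [h1, Tg_one', mul_one, mul_one] at hid
    exact hid
  apply MulEquiv.ext
  intro v
  rw [MulAut.one_apply]
  apply eq_of_pow_eq hcop
  rw [← map_pow, key v, map_prod]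
  apply Finset.prod_congr rfl
  intro j _
  apply hg j
  exact mem_fx.mpr (Tg_fixed (ac_pow h ha hap (Z.pow_mem hz j)) v)

theorem eq_one_of_comm (h : Cfg p W Z) [Finite N] [hp : Fact p.Prime]
    (hcop : (Nat.card N).Coprime p) {a y z : MulAut N} (ha : a ∈ W) (hap : a ^ p = 1)
    (hy : y ∈ W) (hz : z ∈ Z) (hz1 : z ≠ 1) (hky : kap a y = z) {g : MulAut N}
    (hgy : g * y = y * g) (hg : ∀ u ∈ fx a, g u = u) : g = 1 := by
  apply eq_one_of_trivial_on h hcop ha hap hz hz1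
  intro j
  induction j with
  | zero =>
    intro u hu
    rw [pow_zero, mul_one] at hu
    exact hg u hu
  | succ j ih =>
    intro u hu
    have hconj : y * (a * z ^ j) * y⁻¹ = a * z ^ (j + 1) := by
      rw [conj_ac h ha hy (Z.pow_mem hz j), hky, pow_succ']
    rw [← hconj, mem_fx_conj'] at hu
    have h1 := ih _ hu
    have h2 : g * y⁻¹ = y⁻¹ * g := by
      have : Commute g y := hgy
      exact this.inv_right.eq
    have h3 : y⁻¹ (g u) = y⁻¹ u := by
      calc y⁻¹ (g u) = (y⁻¹ * g) u := rfl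
        _ = (g * y⁻¹) u := by rw [h2]
        _ = g (y⁻¹ u) := rfl
        _ = y⁻¹ u := h1
    exact y⁻¹.injective h3

theorem sq_ne_one_of_odd {G : Type*} [Group G] {q : ℕ} (hq : q.Prime) (hq2 : q ≠ 2) {z : G}
    (hzq : z ^ q = 1) (hz1 : z ≠ 1) : z * z ≠ 1 := by
  intro h2
  apply hz1
  have h2' : z ^ 2 = 1 := by rw [pow_two]; exact h2
  have hd2 : orderOf z ∣ 2 := orderOf_dvd_of_pow_eq_one h2'
  have hdq : orderOf z ∣ q := orderOf_dvd_of_pow_eq_one hzq
  have hc : Nat.Coprime 2 q := (Nat.coprime_primes Nat.prime_two hq).mpr (Ne.symm hq2)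
  exact orderOf_eq_one_iff.mp (Nat.eq_one_of_dvd_coprimes hc hd2 hdq)

theorem final (h : Cfg p W Z) [Finite N] [hp : Fact p.Prime] (hp2 : p ≠ 2)
    (hcop : (Nat.card N).Coprime p) {a y z : MulAut N} (ha : a ∈ W) (hap : a ^ p = 1)
    (hy : y ∈ W) (hz : z ∈ Z) (hz1 : z ≠ 1) (hky : kap a y = z) {v0 : N} (hv0 : v0 ∈ fx a)
    (hv01 : v0 ≠ 1)
    (hreg : ∀ g ∈ W, a * g = g * a → g v0 = v0 → ∀ u ∈ fx a, g u = u) :
    ∀ g ∈ W, g (v0 * y v0) = v0 * y v0 → g = 1 := by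
  intro g hg hgv
  have hzz1 : z * z ≠ 1 := sq_ne_one_of_odd hp.out hp2 (h.exp z hz) hz1
  have hzz : z * z ≠ z := by
    intro h'
    apply hz1
    exact mul_eq_right.mp h'
  have h1Z : (1 : MulAut N) ∈ Z := Z.one_mem
  have hv0' : v0 ∈ fx (a * 1) := by rwa [mul_one]
  have hyv0 : y v0 ∈ fx (a * z) := by
    have := apply_mem_fx h ha hy h1Z hv0'
    rwa [hky, mul_one] at this
  have hyv01 : y v0 ≠ 1 := by
    intro h'
    apply hv01
    exact (map_eq_one_iff y y.injective).mp h'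
  -- the projections of `v`
  have hπ1 : Tg p (a * 1) (v0 * y v0) = v0 ^ p := by
    rw [Tg_mul', Tg_of_fixed p (mem_fx.mp hv0'),
      Tg_eq_one_of_ne h ha hap h1Z hz (Ne.symm hz1) hyv0, mul_one]
  have hπz : Tg p (a * z) (v0 * y v0) = (y v0) ^ p := by
    rw [Tg_mul', Tg_eq_one_of_ne h ha hap hz h1Z hz1 hv0', Tg_of_fixed p (mem_fx.mp hyv0),
      one_mul]
  have hπc : ∀ c ∈ Z, c ≠ 1 → c ≠ z → Tg p (a * c) (v0 * y v0) = 1 := by
    intro c hc hc1 hcz
    rw [Tg_mul', Tg_eq_one_of_ne h ha hap hc h1Z hc1 hv0',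
      Tg_eq_one_of_ne h ha hap hc hz hcz hyv0, mul_one]
  have hpow_ne : ∀ w : N, w ≠ 1 → g (w ^ p) ≠ 1 := by
    intro w hw h'
    apply hw
    have h1 : w ^ p = 1 := (map_eq_one_iff g g.injective).mp h'
    exact eq_of_pow_eq hcop (by rw [h1, one_pow])
  have hk : kap a g ∈ Z := kap_mem h ha hg
  have e1 : g (v0 ^ p) = Tg p (a * kap a g) (v0 * y v0) := by
    have := apply_Tg h ha hg h1Z (v0 * y v0)
    rw [hπ1, hgv, mul_one] at this
    exact this
  have ez : g ((y v0) ^ p) = Tg p (a * (kap a g * z)) (v0 * y v0) := by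
    have := apply_Tg h ha hg hz (v0 * y v0)
    rw [hπz, hgv] at this
    exact this
  have hk1 : kap a g = 1 := by
    by_contra hk1
    by_cases hkz : kap a g = z
    · rw [hkz] at ez
      rw [hπc (z * z) (Z.mul_mem hz hz) hzz1 hzz] at ez
      exact hpow_ne _ hyv01 ez
    · rw [hπc _ hk hk1 hkz] at e1
      exact hpow_ne _ hv01 e1
  have hag : a * g = g * a := kap_eq_one_iff.mp hk1
  rw [hk1, hπ1] at e1
  rw [hk1, one_mul, hπz] at ez
  have hgv0 : g v0 = v0 := by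
    apply eq_of_pow_eq hcop
    rw [← map_pow]; exact e1
  have hgyv0 : g (y v0) = y v0 := by
    apply eq_of_pow_eq hcop
    rw [← map_pow]; exact ez
  have hg0 := hreg g hg hag hgv0
  have hh'v0 : (y⁻¹ * g * y) v0 = v0 := by
    simp only [MulAut.mul_apply]
    rw [hgyv0]
    exact MulAut.inv_apply_self _ _ _
  have hm : g⁻¹ * (y⁻¹ * g * y) ∈ Z := by
    have := h.comm g⁻¹ (W.inv_mem hg) y⁻¹ (W.inv_mem hy)
    simp only [inv_inv] at this
    convert this using 1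
    group
  have hmv : (g⁻¹ * (y⁻¹ * g * y)) v0 = v0 := by
    rw [MulAut.mul_apply, hh'v0]
    exact inv_apply_of_fixed hgv0
  have hm1 : g⁻¹ * (y⁻¹ * g * y) = 1 := by
    by_contra hne
    exact hv01 (h.fpf _ hm hne v0 hmv)
  have hgy : g * y = y * g := by
    have h1 : y⁻¹ * g * y = g := (inv_mul_eq_one.mp hm1).symm
    calc g * y = y * (y⁻¹ * g * y) := by group
      _ = y * g := by rw [h1]
  exact eq_one_of_comm h hcop ha hap hy hz hz1 hky hgy hg0

end basics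

section induction

variable {N : Type u} [CommGroup N] [Finite N] [Nontrivial N] {p : ℕ} [hp : Fact p.Prime]

theorem exists_v0
    (IH : ∀ (N₁ : Type u) [CommGroup N₁] [Finite N₁] [Nontrivial N₁],
      Nat.card N₁ < Nat.card N → (Nat.card N₁).Coprime p →
      ∀ (W₁ : Subgroup (MulAut N₁)), IsPGroup p W₁ → ∀ z₁ : MulAut N₁, z₁ ∈ W₁ → z₁ ^ p = 1 →
      (∀ g ∈ W₁, z₁ * g = g * z₁) → (∀ v : N₁, z₁ v = v → v = 1) →
      (∀ x ∈ W₁, ∀ y ∈ W₁, x * y * x⁻¹ * y⁻¹ ∈ Subgroup.zpowers z₁) →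
      (∀ x ∈ W₁, (∀ g ∈ W₁, x * g = g * x) → x ^ p = 1 → x ∈ Subgroup.zpowers z₁) →
      ∃ v : N₁, ∀ g ∈ W₁, g v = v → g = 1)
    (hcop : (Nat.card N).Coprime p) (W : Subgroup (MulAut N)) (hW : IsPGroup p W)
    (z : MulAut N) (hzW : z ∈ W) (hzp : z ^ p = 1) (hzc : ∀ g ∈ W, z * g = g * z)
    (hzfix : ∀ v : N, z v = v → v = 1)
    (hcomm : ∀ x ∈ W, ∀ y ∈ W, x * y * x⁻¹ * y⁻¹ ∈ Subgroup.zpowers z)
    (hcen : ∀ x ∈ W, (∀ g ∈ W, x * g = g * x) → x ^ p = 1 → x ∈ Subgroup.zpowers z)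
    {a y : MulAut N} (ha : a ∈ W) (hap : a ^ p = 1) (haZ : a ∉ Subgroup.zpowers z)
    (hy : y ∈ W) (hky : kap a y = z) :
    ∃ v0 ∈ fx a, v0 ≠ 1 ∧ ∀ g ∈ W, a * g = g * a → g v0 = v0 → ∀ u ∈ fx a, g u = u := by
  have h : Cfg p W (Subgroup.zpowers z) := cfg_of hzW hzp hzc hzfix hcomm
  have hz : z ∈ Subgroup.zpowers z := Subgroup.mem_zpowers z
  have hz1 : z ≠ 1 := by
    intro h1
    obtain ⟨v, hv⟩ := exists_ne (1 : N)
    exact hv (hzfix v (by rw [h1]; rfl))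
  -- `fx a` is a proper nontrivial subgroup
  have hN₀bot : fx a ≠ ⊥ := by
    intro hbot
    apply hz1
    apply eq_one_of_comm h hcop ha hap hy hz hz1 hky (hzc y hy)
    intro u hu
    rw [hbot, Subgroup.mem_bot] at hu
    rw [hu, map_one]
  have hN₀top : fx a ≠ ⊤ := by
    intro htop
    apply haZ
    have h1 : a = 1 := by
      apply MulEquiv.ext
      intro v
      have : v ∈ fx a := by rw [htop]; trivial
      exact this
    rw [h1]
    exact Subgroup.one_mem _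
  haveI : Nontrivial ↥(fx a) := (Subgroup.nontrivial_iff_ne_bot (fx a)).mpr hN₀bot
  have hcard : Nat.card ↥(fx a) < Nat.card N := by
    have hle : Nat.card ↥(fx a) ≤ Nat.card N := Subgroup.card_le_card_group (fx a)
    rcases lt_or_eq_of_le hle with h' | h'
    · exact h'
    · exact absurd ((Subgroup.card_eq_iff_eq_top (fx a)).mp h') hN₀top
  have hcop' : (Nat.card ↥(fx a)).Coprime p :=
    Nat.Coprime.coprime_dvd_left (Subgroup.card_subgroup_dvd_card (fx a)) hcop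
  -- the centralizer of `a` in `W`
  obtain ⟨W0, memW0⟩ : ∃ W0 : Subgroup (MulAut N), ∀ g, g ∈ W0 ↔ g ∈ W ∧ a * g = g * a := by
    refine ⟨W ⊓ Subgroup.centralizer {a}, ?_⟩
    intro g
    simp only [Subgroup.mem_inf, Subgroup.mem_centralizer_iff, Set.mem_singleton_iff, forall_eq]
  have hW0W : W0 ≤ W := fun g hg => ((memW0 g).mp hg).1
  have hstab : W0 ≤ stab (fx a) := by
    intro g hg
    obtain ⟨hgW, hga⟩ := (memW0 g).mp hg
    rw [mem_stab]
    intro v
    rw [mem_fx, mem_fx]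
    constructor
    · intro h1
      have : g (a v) = g v := by
        calc g (a v) = (g * a) v := rfl
          _ = (a * g) v := by rw [hga]
          _ = a (g v) := rfl
          _ = g v := h1
      exact g.injective this
    · intro h1
      calc a (g v) = (a * g) v := rfl
        _ = (g * a) v := by rw [hga]
        _ = g (a v) := rfl
        _ = g v := by rw [h1]
  have hzW0 : z ∈ W0 := (memW0 z).mpr ⟨hzW, (hzc a ha).symm⟩
  have haW0 : a ∈ W0 := (memW0 a).mpr ⟨ha, rfl⟩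
  -- coercion facts
  have hresval : ∀ (σ : stab (fx a)) (u : N) (hu : u ∈ fx a),
      ((res (fx a) σ ⟨u, hu⟩ : ↥(fx a)) : N) = σ.1 u := fun σ u hu => rfl
  -- the hypotheses of the inductive hypothesis on `fx a`
  have g1 : (res (fx a) ⟨z, hstab hzW0⟩) ^ p = 1 := by
    rw [← map_pow]
    have : (⟨z, hstab hzW0⟩ : stab (fx a)) ^ p = 1 := by
      apply Subtype.ext
      simpa using hzp
    rw [this, map_one]
  have g2 : ∀ g' ∈ resGroup (fx a) W0,
      res (fx a) ⟨z, hstab hzW0⟩ * g' = g' * res (fx a) ⟨z, hstab hzW0⟩ := by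
    intro g' hg'
    obtain ⟨σ, hσ, rfl⟩ := mem_resGroup.mp hg'
    rw [← map_mul, ← map_mul]
    congr 1
    apply Subtype.ext
    exact hzc σ.1 (hW0W hσ)
  have g3 : ∀ w : ↥(fx a), res (fx a) ⟨z, hstab hzW0⟩ w = w → w = 1 := by
    intro w hw
    apply Subtype.ext
    have := congrArg Subtype.val hw
    exact hzfix w.1 this
  have g4 : ∀ x' ∈ resGroup (fx a) W0, ∀ y' ∈ resGroup (fx a) W0,
      x' * y' * x'⁻¹ * y'⁻¹ ∈ Subgroup.zpowers (res (fx a) ⟨z, hstab hzW0⟩) := by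
    intro x' hx' y' hy'
    obtain ⟨σ, hσ, rfl⟩ := mem_resGroup.mp hx'
    obtain ⟨τ, hτ, rfl⟩ := mem_resGroup.mp hy'
    obtain ⟨k, hk⟩ := Subgroup.mem_zpowers_iff.mp (hcomm σ.1 (hW0W hσ) τ.1 (hW0W hτ))
    rw [Subgroup.mem_zpowers_iff]
    refine ⟨k, ?_⟩
    rw [← map_zpow, ← map_inv, ← map_inv, ← map_mul, ← map_mul, ← map_mul]
    congr 1
    apply Subtype.ext
    simpa using hk
  have g5 : ∀ x' ∈ resGroup (fx a) W0, (∀ g' ∈ resGroup (fx a) W0, x' * g' = g' * x') →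
      x' ^ p = 1 → x' ∈ Subgroup.zpowers (res (fx a) ⟨z, hstab hzW0⟩) := by
    intro x' hx' hx'c hx'p
    obtain ⟨σ, hσ, rfl⟩ := mem_resGroup.mp hx'
    obtain ⟨hxW, hxa⟩ := (memW0 σ.1).mp hσ
    -- translation of the hypotheses
    have T1 : ∀ g ∈ W0, ∀ u ∈ fx a, σ.1 (g u) = g (σ.1 u) := by
      intro g hg u hu
      have h1 := hx'c (res (fx a) ⟨g, hstab hg⟩) (res_mem_resGroup g (hstab hg) hg)
      have h2 := congrArg (fun f => ((f ⟨u, hu⟩ : ↥(fx a)) : N)) h1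
      exact h2
    have T2 : ∀ u ∈ fx a, (σ.1 ^ p) u = u := by
      intro u hu
      have h3 : res (fx a) (σ ^ p) = 1 := by rw [map_pow]; exact hx'p
      have h2 := congrArg (fun f => ((f ⟨u, hu⟩ : ↥(fx a)) : N)) h3
      have h4 : ((σ ^ p : stab (fx a)) : MulAut N) = σ.1 ^ p := by simp
      rw [← h4]
      exact h2
    -- (i) `x` is central in `W0`
    have hxc : ∀ g ∈ W0, σ.1 * g = g * σ.1 := by
      intro g hg
      have hgW := hW0W hg
      have hm : σ.1 * g * σ.1⁻¹ * g⁻¹ ∈ Subgroup.zpowers z := hcomm σ.1 hxW g hgW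
      by_contra hne
      have hm1 : σ.1 * g * σ.1⁻¹ * g⁻¹ ≠ 1 := by
        intro h1
        apply hne
        calc σ.1 * g = (σ.1 * g * σ.1⁻¹ * g⁻¹) * (g * σ.1) := by group
          _ = g * σ.1 := by rw [h1, one_mul]
      obtain ⟨w, hw⟩ := exists_ne (1 : ↥(fx a))
      have hw1 : (w : N) ≠ 1 := fun h' => hw (Subtype.ext h')
      have hfix : (σ.1 * g * σ.1⁻¹ * g⁻¹) (g (σ.1 w.1)) = g (σ.1 w.1) := by
        simp only [MulAut.mul_apply, MulAut.inv_apply_self]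
        exact T1 g hg w.1 w.2
      have h3 := h.fpf _ hm hm1 _ hfix
      apply hw1
      have h4 : σ.1 w.1 = 1 := (map_eq_one_iff g g.injective).mp h3
      exact (map_eq_one_iff σ.1 σ.1.injective).mp h4
    -- (ii) the element `c`
    obtain ⟨i, hi⟩ := Subgroup.mem_zpowers_iff.mp (hcomm y hy σ.1 hxW)
    have hcW : σ.1 * a ^ (-i) ∈ W := W.mul_mem hxW (W.zpow_mem ha _)
    have hzi : ∀ g ∈ W, z ^ i * g = g * z ^ i :=
      fun g hg => h.central _ (Subgroup.zpow_mem _ hz i) g hg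
    have hcy : (σ.1 * a ^ (-i)) * y = y * (σ.1 * a ^ (-i)) := by
      have e1 : y * a ^ (-i) * y⁻¹ = (z * a) ^ (-i) := by
        have h1 := map_zpow (MulAut.conj y) a (-i)
        simp only [MulAut.conj_apply] at h1
        rw [h1, conj_eq_kap, hky]
      have e2 : (z * a) ^ (-i) = z ^ (-i) * a ^ (-i) :=
        Commute.mul_zpow (hzc a ha) (-i)
      have e3 : y * σ.1 * y⁻¹ = z ^ i * σ.1 := by rw [hi]; group
      have e4 : z ^ i * σ.1 = σ.1 * z ^ i := hzi σ.1 hxW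
      have e5 : y * (σ.1 * a ^ (-i)) * y⁻¹ = σ.1 * a ^ (-i) := by
        calc y * (σ.1 * a ^ (-i)) * y⁻¹ = (y * σ.1 * y⁻¹) * (y * a ^ (-i) * y⁻¹) := by group
          _ = (z ^ i * σ.1) * (z ^ (-i) * a ^ (-i)) := by rw [e3, e1, e2]
          _ = (σ.1 * z ^ i) * (z ^ (-i) * a ^ (-i)) := by rw [e4]
          _ = σ.1 * a ^ (-i) := by rw [zpow_neg, zpow_neg]; group
      calc (σ.1 * a ^ (-i)) * y = (y * (σ.1 * a ^ (-i)) * y⁻¹) * y := by rw [e5]
        _ = y * (σ.1 * a ^ (-i)) := by group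
    -- (iii) `c` is central in `W`
    have hcW0 : ∀ g ∈ W0, (σ.1 * a ^ (-i)) * g = g * (σ.1 * a ^ (-i)) := by
      intro g hg
      have c1 : Commute σ.1 g := hxc g hg
      have c2 : Commute a g := ((memW0 g).mp hg).2
      exact (c1.mul_left (c2.zpow_left _)).eq
    have hccen : ∀ g ∈ W, (σ.1 * a ^ (-i)) * g = g * (σ.1 * a ^ (-i)) := by
      intro g hg
      obtain ⟨t, ht⟩ := Subgroup.mem_zpowers_iff.mp (kap_mem h ha hg)
      have hg0W : y ^ (-t) * g ∈ W := W.mul_mem (W.zpow_mem hy _) hg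
      have hg0 : y ^ (-t) * g ∈ W0 := by
        rw [memW0]
        refine ⟨hg0W, kap_eq_one_iff.mp ?_⟩
        rw [kap_mul h ha (W.zpow_mem hy _) hg, kap_zpow h ha hy, hky, ← ht, zpow_neg,
          inv_mul_cancel]
      have c1 : Commute (σ.1 * a ^ (-i)) (y ^ t) := Commute.zpow_right hcy t
      have c2 : Commute (σ.1 * a ^ (-i)) (y ^ (-t) * g) := hcW0 _ hg0
      have e : g = y ^ t * (y ^ (-t) * g) := by rw [zpow_neg]; group
      rw [e]
      exact (c1.mul_right c2).eq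
    -- (iv) `c ^ p = 1`
    have hxai : Commute σ.1 (a ^ (-i)) := by
      have : Commute a σ.1 := hxa
      exact (this.zpow_left _).symm
    have hcp : (σ.1 * a ^ (-i)) ^ p = σ.1 ^ p := by
      rw [hxai.mul_pow]
      have : (a ^ (-i)) ^ p = 1 := by
        rw [← zpow_natCast, ← zpow_mul, mul_comm, zpow_mul, zpow_natCast, hap, one_zpow]
      rw [this, mul_one]
    have hcp1 : (σ.1 * a ^ (-i)) ^ p = 1 := by
      apply eq_one_of_comm h hcop ha hap hy hz hz1 hky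
      · have : Commute (σ.1 * a ^ (-i)) y := hcy
        exact (this.pow_left p).eq
      · intro u hu
        rw [hcp]
        exact T2 u hu
    -- (v)
    obtain ⟨s, hs⟩ := Subgroup.mem_zpowers_iff.mp (hcen _ hcW hccen hcp1)
    rw [Subgroup.mem_zpowers_iff]
    refine ⟨s, ?_⟩
    rw [← map_zpow]
    apply MulEquiv.ext
    intro u
    apply Subtype.ext
    have hai : (a ^ (-i)) u.1 = u.1 :=
      (mem_fixOf_zpowers.mpr (mem_fx.mp u.2)) _ (Subgroup.zpow_mem _ (Subgroup.mem_zpowers a) _)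
    have h1 : ((res (fx a) ((⟨z, hstab hzW0⟩ : stab (fx a)) ^ s) u : ↥(fx a)) : N)
        = (z ^ s) u.1 := by
      rw [res_apply]
      simp
    rw [h1, hs, MulAut.mul_apply, hai]
    rfl
  -- the inductive hypothesis on `fx a`
  obtain ⟨v0, hv0⟩ := IH ↥(fx a) hcard hcop' (resGroup (fx a) W0)
    (isPGroup_resGroup (hW.to_le hW0W))
    (res (fx a) ⟨z, hstab hzW0⟩) (res_mem_resGroup z (hstab hzW0) hzW0) g1 g2 g3 g4 g5
  refine ⟨v0.1, v0.2, ?_, ?_⟩
  · intro h1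
    have hv01 : v0 = 1 := Subtype.ext h1
    have hz'1 : res (fx a) ⟨z, hstab hzW0⟩ = 1 := by
      apply hv0 _ (res_mem_resGroup z (hstab hzW0) hzW0)
      rw [hv01, map_one]
    obtain ⟨w, hw⟩ := exists_ne (1 : ↥(fx a))
    apply hw
    apply g3
    rw [hz'1]
    rfl
  · intro g hg hga hgv0 u hu
    have hgW0 : g ∈ W0 := (memW0 g).mpr ⟨hg, hga⟩
    have h1 : res (fx a) ⟨g, hstab hgW0⟩ = 1 := by
      apply hv0 _ (res_mem_resGroup g (hstab hgW0) hgW0)
      apply Subtype.ext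
      exact hgv0
    have h2 := congrArg (fun f => ((f ⟨u, hu⟩ : ↥(fx a)) : N)) h1
    exact h2

theorem step (hp2 : p ≠ 2)
    (IH : ∀ (N₁ : Type u) [CommGroup N₁] [Finite N₁] [Nontrivial N₁],
      Nat.card N₁ < Nat.card N → (Nat.card N₁).Coprime p →
      ∀ (W₁ : Subgroup (MulAut N₁)), IsPGroup p W₁ → ∀ z₁ : MulAut N₁, z₁ ∈ W₁ → z₁ ^ p = 1 →
      (∀ g ∈ W₁, z₁ * g = g * z₁) → (∀ v : N₁, z₁ v = v → v = 1) →
      (∀ x ∈ W₁, ∀ y ∈ W₁, x * y * x⁻¹ * y⁻¹ ∈ Subgroup.zpowers z₁) →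
      (∀ x ∈ W₁, (∀ g ∈ W₁, x * g = g * x) → x ^ p = 1 → x ∈ Subgroup.zpowers z₁) →
      ∃ v : N₁, ∀ g ∈ W₁, g v = v → g = 1)
    (hcop : (Nat.card N).Coprime p) (W : Subgroup (MulAut N)) (hW : IsPGroup p W)
    (z : MulAut N) (hzW : z ∈ W) (hzp : z ^ p = 1) (hzc : ∀ g ∈ W, z * g = g * z)
    (hzfix : ∀ v : N, z v = v → v = 1)
    (hcomm : ∀ x ∈ W, ∀ y ∈ W, x * y * x⁻¹ * y⁻¹ ∈ Subgroup.zpowers z)
    (hcen : ∀ x ∈ W, (∀ g ∈ W, x * g = g * x) → x ^ p = 1 → x ∈ Subgroup.zpowers z) :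
    ∃ v : N, ∀ g ∈ W, g v = v → g = 1 := by
  have h : Cfg p W (Subgroup.zpowers z) := cfg_of hzW hzp hzc hzfix hcomm
  have hz1 : z ≠ 1 := by
    intro h1
    obtain ⟨v, hv⟩ := exists_ne (1 : N)
    exact hv (hzfix v (by rw [h1]; rfl))
  by_cases hall : ∀ x ∈ W, x ^ p = 1 → x ∈ Subgroup.zpowers z
  · obtain ⟨v, hv⟩ := exists_ne (1 : N)
    refine ⟨v, ?_⟩
    intro g hg hgv
    by_contra hg1
    obtain ⟨k, hk⟩ := hW ⟨g, hg⟩
    have hk' : g ^ p ^ k = 1 := by simpa using congrArg Subtype.val hk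
    obtain ⟨m, hm1, hm2⟩ := exists_pow_order_p k g hk' hg1
    have hmW : g ^ m ∈ W := W.pow_mem hg m
    have hmZ := hall _ hmW hm2
    have hfix : (g ^ m) v = v :=
      (mem_fixOf_zpowers.mpr hgv) _ (Subgroup.pow_mem _ (Subgroup.mem_zpowers g) m)
    exact hv (h.fpf _ hmZ hm1 v hfix)
  · push Not at hall
    obtain ⟨a, ha, hap, haZ⟩ := hall
    have hnc : ¬ ∀ g ∈ W, a * g = g * a := fun hc => haZ (hcen a ha hc hap)
    push Not at hnc
    obtain ⟨y₀, hy₀, hne⟩ := hnc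
    have hk₀ : kap a y₀ ∈ Subgroup.zpowers z := kap_mem h ha hy₀
    have hk₀1 : kap a y₀ ≠ 1 := fun h1 => hne (kap_eq_one_iff.mp h1)
    obtain ⟨m, hm⟩ := Subgroup.mem_zpowers_iff.mp (mem_zpowers_of_ne_one hzp hk₀ hk₀1)
    have hy : y₀ ^ m ∈ W := W.zpow_mem hy₀ m
    have hky : kap a (y₀ ^ m) = z := by rw [kap_zpow h ha hy₀, hm]
    obtain ⟨v0, hv0, hv01, hreg⟩ :=
      exists_v0 IH hcop W hW z hzW hzp hzc hzfix hcomm hcen ha hap haZ hy hky
    exact ⟨v0 * (y₀ ^ m) v0,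
      final h hp2 hcop ha hap hy (Subgroup.mem_zpowers z) hz1 hky hv0 hv01 hreg⟩

end induction

theorem regular_orbit_aux {p : ℕ} [Fact p.Prime] (hp2 : p ≠ 2) :
    ∀ n : ℕ, ∀ (N : Type u) [CommGroup N] [Finite N] [Nontrivial N], Nat.card N = n →
      (Nat.card N).Coprime p →
      ∀ (W : Subgroup (MulAut N)), IsPGroup p W → ∀ z : MulAut N, z ∈ W → z ^ p = 1 →
      (∀ g ∈ W, z * g = g * z) → (∀ v : N, z v = v → v = 1) →
      (∀ x ∈ W, ∀ y ∈ W, x * y * x⁻¹ * y⁻¹ ∈ Subgroup.zpowers z) →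
      (∀ x ∈ W, (∀ g ∈ W, x * g = g * x) → x ^ p = 1 → x ∈ Subgroup.zpowers z) →
      ∃ v : N, ∀ g ∈ W, g v = v → g = 1 := by
  intro n
  induction n using Nat.strong_induction_on with
  | _ n ih =>
    intro N _ _ _ hn hcop W hW z hzW hzp hzc hzfix hcomm hcen
    apply step hp2 _ hcop W hW z hzW hzp hzc hzfix hcomm hcen
    intro N₁ _ _ _ hlt hcop₁ W₁ hW₁ z₁ hz₁W hz₁p hz₁c hz₁fix hcomm₁ hcen₁
    exact ih (Nat.card N₁) (hn ▸ hlt) N₁ rfl hcop₁ W₁ hW₁ z₁ hz₁W hz₁p hz₁c hz₁fix hcomm₁ hcen₁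

/-- PIECE 2 for helper8 (S4330): the regular orbit. -/
theorem regular_orbit {N : Type u} [CommGroup N] [Finite N] [Nontrivial N] {p : ℕ}
    [Fact p.Prime] (hp2 : p ≠ 2) (hcop : (Nat.card N).Coprime p) (W : Subgroup (MulAut N))
    (hW : IsPGroup p W) (z : MulAut N) (hzW : z ∈ W) (hzp : z ^ p = 1)
    (hzc : ∀ g ∈ W, z * g = g * z) (hzfix : ∀ v : N, z v = v → v = 1)
    (hcomm : ∀ x ∈ W, ∀ y ∈ W, x * y * x⁻¹ * y⁻¹ ∈ Subgroup.zpowers z)
    (hcen : ∀ x ∈ W, (∀ g ∈ W, x * g = g * x) → x ^ p = 1 → x ∈ Subgroup.zpowers z) :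
    ∃ v : N, ∀ g ∈ W, g v = v → g = 1 :=
  regular_orbit_aux hp2 (Nat.card N) N rfl hcop W hW z hzW hzp hzc hzfix hcomm hcen

end Cfsg.Agent.Helper25.S4330P2
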