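import Mathlib
import Cfsg.Agent.S3762
import Cfsg.Agent.S0126

/-!
Piece 4 of S4330 (for helper8): a `p`-group `M` (`p` odd) normalized by `H`, with `Z = Ω₁(Z(M))` of
order `p` and no `H`-invariant elementary abelian `E` with `Z < E ≤ M`, `[E, M] ≤ Z`, has
`[M, M] ≤ Z`.
-/

set_option autoImplicit false
open scoped commutatorElement

namespace Cfsg.Agent.Helper25.S4330P4

section core

variable {P : Type*} [Group P]

theorem char_of_forall' (K : Subgroup P) (h : ∀ φ : P ≃* P, ∀ x ∈ K, φ x ∈ K) :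
    K.Characteristic := by
  rw [Subgroup.characteristic_iff_map_le]
  intro φ
  rintro _ ⟨x, hx, rfl⟩
  exact h φ x hx

theorem char_mem {K : Subgroup P} (hK : K.Characteristic) (φ : P ≃* P) {x : P} (hx : x ∈ K) :
    φ x ∈ K := by
  have := (Subgroup.characteristic_iff_map_le.mp hK) φ
  exact this ⟨x, hx, rfl⟩

/-- the `p`-torsion of an abelian subgroup -/
def tors (p : ℕ) (A : Subgroup P) (hA : ∀ x ∈ A, ∀ y ∈ A, x * y = y * x) : Subgroup P where
  carrier := {x | x ∈ A ∧ x ^ p = 1}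
  mul_mem' := by
    rintro x y ⟨hx, hx1⟩ ⟨hy, hy1⟩
    refine ⟨A.mul_mem hx hy, ?_⟩
    have hc : Commute x y := hA x hx y hy
    rw [hc.mul_pow, hx1, hy1, one_mul]
  one_mem' := ⟨A.one_mem, one_pow _⟩
  inv_mem' := by
    rintro x ⟨hx, hx1⟩
    exact ⟨A.inv_mem hx, by rw [inv_pow, hx1, inv_one]⟩

/-- the product set `Z * T` of a central subgroup and a subgroup, as a subgroup -/
def prodZT (Z T : Subgroup P) (hc : ∀ z ∈ Z, ∀ m : P, z * m = m * z) : Subgroup P where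
  carrier := {x | ∃ z ∈ Z, ∃ t ∈ T, x = z * t}
  mul_mem' := by
    rintro _ _ ⟨z, hz, t, ht, rfl⟩ ⟨z', hz', t', ht', rfl⟩
    refine ⟨z * z', Z.mul_mem hz hz', t * t', T.mul_mem ht ht', ?_⟩
    calc z * t * (z' * t') = z * (t * z') * t' := by group
      _ = z * (z' * t) * t' := by rw [hc z' hz' t]
      _ = z * z' * (t * t') := by group
  one_mem' := ⟨1, Z.one_mem, 1, T.one_mem, by simp⟩
  inv_mem' := by
    rintro _ ⟨z, hz, t, ht, rfl⟩
    refine ⟨z⁻¹, Z.inv_mem hz, t⁻¹, T.inv_mem ht, ?_⟩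
    rw [mul_inv_rev]
    exact (hc z⁻¹ (Z.inv_mem hz) t⁻¹).symm

/-- the descending chain `B 0 = A₁`, `B (i+1) = ⁅B i, ⊤⁆` -/
def chain (A₁ : Subgroup P) : ℕ → Subgroup P
  | 0 => A₁
  | (i + 1) => ⁅chain A₁ i, (⊤ : Subgroup P)⁆

theorem chain_char (A₁ : Subgroup P) (h : A₁.Characteristic) : ∀ i, (chain A₁ i).Characteristic
  | 0 => h
  | (i + 1) => by
    haveI := chain_char A₁ h i
    show (⁅chain A₁ i, (⊤ : Subgroup P)⁆).Characteristic
    infer_instance

theorem chain_succ_le (A₁ : Subgroup P) (h : A₁.Characteristic) (i : ℕ) :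
    chain A₁ (i + 1) ≤ chain A₁ i := by
  haveI := chain_char A₁ h i
  show ⁅chain A₁ i, (⊤ : Subgroup P)⁆ ≤ chain A₁ i
  exact Subgroup.commutator_le_left _ _

theorem chain_le (A₁ : Subgroup P) (h : A₁.Characteristic) : ∀ i, chain A₁ i ≤ A₁
  | 0 => le_rfl
  | (i + 1) => (chain_succ_le A₁ h i).trans (chain_le A₁ h i)

theorem chain_le_lcs (A₁ : Subgroup P) : ∀ i, chain A₁ i ≤ (⊤ : Subgroup P).lowerCentralSeries i
  | 0 => by simp
  | (i + 1) => by
    show ⁅chain A₁ i, (⊤ : Subgroup P)⁆ ≤ ⁅(⊤ : Subgroup P).lowerCentralSeries i, (⊤ : Subgroup P)⁆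
    exact Subgroup.commutator_mono (chain_le_lcs A₁ i) le_rfl

theorem comm_pow_of_central {t m : P} (hc : ∀ x : P, (t * m * t⁻¹ * m⁻¹) * x = x * (t * m * t⁻¹ * m⁻¹)) :
    ∀ k : ℕ, t ^ k * m * (t ^ k)⁻¹ * m⁻¹ = (t * m * t⁻¹ * m⁻¹) ^ k
  | 0 => by simp
  | (k + 1) => by
    have ih := comm_pow_of_central hc k
    set c := t * m * t⁻¹ * m⁻¹ with hcdef
    calc t ^ (k + 1) * m * (t ^ (k + 1))⁻¹ * m⁻¹
        = t * (t ^ k * m * (t ^ k)⁻¹ * m⁻¹) * m * t⁻¹ * m⁻¹ := by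
          rw [pow_succ']; group
      _ = t * c ^ k * m * t⁻¹ * m⁻¹ := by rw [ih]
      _ = c ^ k * (t * m * t⁻¹ * m⁻¹) := by
          have h1 : t * c ^ k = c ^ k * t := by
            have : Commute c t := hc t
            exact ((this.pow_left k).eq).symm
          rw [h1]; group
      _ = c ^ (k + 1) := by rw [← hcdef, pow_succ]

variable [Finite P] {p : ℕ} [Fact p.Prime]

theorem char_abelian_cyclic (hp2 : p ≠ 2) (hP : IsPGroup p P) (Zp : Subgroup P)
    (hZ : ∀ x, x ∈ Zp ↔ x ^ p = 1 ∧ ∀ m : P, x * m = m * x) (hcard : Nat.card Zp = p)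
    (hno : ¬ ∃ E : Subgroup P, Zp ≤ E ∧ E ≠ Zp ∧ E.Characteristic ∧
      (∀ x ∈ E, ∀ y ∈ E, x * y = y * x) ∧ (∀ x ∈ E, x ^ p = 1) ∧
      (∀ e ∈ E, ∀ m : P, e * m * e⁻¹ * m⁻¹ ∈ Zp))
    (A : Subgroup P) (hAc : A.Characteristic) (hAab : IsMulCommutative A) : IsCyclic A := by
  classical
  have hp : p.Prime := Fact.out
  by_contra hnc
  have hAcomm : ∀ x ∈ A, ∀ y ∈ A, x * y = y * x := by
    intro x hx y hy
    have := hAab.is_comm.comm ⟨x, hx⟩ ⟨y, hy⟩
    exact congrArg Subtype.val this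
  obtain ⟨A₂, -, ⟨-, hA₂e⟩, hA₂card⟩ := Cfsg.Agent.S0126.result hp2 (hP.to_subgroup A) hnc
  set A₁ := tors p A hAcomm with hA₁
  have hA₁char : A₁.Characteristic := by
    apply char_of_forall'
    rintro φ x ⟨hx, hx1⟩
    exact ⟨char_mem hAc φ hx, by rw [← map_pow, hx1, map_one]⟩
  have hle : A₂.map A.subtype ≤ A₁ := by
    rintro _ ⟨x, hx, rfl⟩
    refine ⟨x.2, ?_⟩
    have := hA₂e x hx
    have h2 := congrArg Subtype.val this
    simpa using h2
  have hcardA₁ : p ^ 2 ≤ Nat.card A₁ := by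
    have h1 : Nat.card (A₂.map A.subtype) = p ^ 2 := by
      rw [← hA₂card]
      exact (Nat.card_congr (A₂.equivMapOfInjective A.subtype A.subtype_injective).toEquiv).symm
    rw [← h1]
    exact Subgroup.card_le_of_le hle
  have hZc : ∀ z ∈ Zp, ∀ m : P, z * m = m * z := fun z hz => ((hZ z).mp hz).2
  by_cases hcen : A₁ ≤ Subgroup.center P
  · have : A₁ ≤ Zp := by
      intro x hx
      rw [hZ]
      refine ⟨hx.2, fun m => ?_⟩
      have := Subgroup.mem_center_iff.mp (hcen hx) m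
      exact this.symm
    have h1 := Subgroup.card_le_of_le this
    rw [hcard] at h1
    have : p < p ^ 2 := by
      calc p = p ^ 1 := (pow_one p).symm
        _ < p ^ 2 := Nat.pow_lt_pow_right hp.one_lt (by norm_num)
    omega
  · -- descend
    have hnil : Group.IsNilpotent P := hP.isNilpotent
    obtain ⟨n, hn⟩ := Subgroup.nilpotent_iff_lowerCentralSeries.mp hnil
    have hex : ∃ i, chain A₁ i ≤ Subgroup.center P :=
      ⟨n, by
        have := chain_le_lcs A₁ n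
        rw [hn] at this
        exact this.trans bot_le⟩
    set i₀ := Nat.find hex with hi₀
    have hi₀s : chain A₁ i₀ ≤ Subgroup.center P := Nat.find_spec hex
    have hi₀0 : i₀ ≠ 0 := by
      intro h0
      rw [h0] at hi₀s
      exact hcen hi₀s
    obtain ⟨j, hj⟩ := Nat.exists_eq_succ_of_ne_zero hi₀0
    set T := chain A₁ j with hT
    have hT1 : ¬ T ≤ Subgroup.center P := by
      have : j < i₀ := by omega
      exact Nat.find_min hex this
    have hT2 : ⁅T, (⊤ : Subgroup P)⁆ ≤ Subgroup.center P := by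
      have : chain A₁ i₀ = ⁅T, (⊤ : Subgroup P)⁆ := by rw [hj]; rfl
      rw [← this]; exact hi₀s
    have hTchar : T.Characteristic := chain_char A₁ hA₁char j
    have hTle : T ≤ A₁ := chain_le A₁ hA₁char j
    apply hno
    refine ⟨prodZT Zp T hZc, ?_, ?_, ?_, ?_, ?_, ?_⟩
    · intro z hz
      exact ⟨z, hz, 1, T.one_mem, by simp⟩
    · intro hE
      apply hT1
      intro t ht
      have : t ∈ prodZT Zp T hZc := ⟨1, Zp.one_mem, t, ht, by simp⟩
      rw [hE] at this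
      rw [Subgroup.mem_center_iff]
      intro m
      exact (hZc t this m).symm
    · apply char_of_forall'
      rintro φ _ ⟨z, hz, t, ht, rfl⟩
      refine ⟨φ z, ?_, φ t, char_mem hTchar φ ht, map_mul φ z t⟩
      rw [hZ]
      obtain ⟨hz1, hz2⟩ := (hZ z).mp hz
      refine ⟨by rw [← map_pow, hz1, map_one], fun m => ?_⟩
      have := hz2 (φ.symm m)
      have h2 := congrArg φ this
      simpa using h2
    · rintro _ ⟨z, hz, t, ht, rfl⟩ _ ⟨z', hz', t', ht', rfl⟩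
      have htt : t * t' = t' * t := hAcomm t (hTle ht).1 t' (hTle ht').1
      calc z * t * (z' * t') = z * (t * z') * t' := by group
        _ = z * (z' * t) * t' := by rw [hZc z' hz' t]
        _ = z' * z * (t * t') := by
            have e : z * (z' * t) * t' = (z * z') * (t * t') := by group
            rw [e, hZc z hz z']
        _ = z' * z * (t' * t) := by rw [htt]
        _ = z' * (z * t') * t := by group
        _ = z' * (t' * z) * t := by rw [hZc z hz t']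
        _ = z' * t' * (z * t) := by group
    · rintro _ ⟨z, hz, t, ht, rfl⟩
      have hc : Commute z t := hZc z hz t
      rw [hc.mul_pow, ((hZ z).mp hz).1, (hTle ht).2, one_mul]
    · rintro _ ⟨z, hz, t, ht, rfl⟩ m
      have h1 : z * t * m * (z * t)⁻¹ * m⁻¹ = t * m * t⁻¹ * m⁻¹ := by
        have e1 : z * t * m * (z * t)⁻¹ * m⁻¹ = z * (t * m * t⁻¹) * z⁻¹ * m⁻¹ := by group
        rw [e1, hZc z hz (t * m * t⁻¹)]; group
      rw [h1]
      have hcmem : t * m * t⁻¹ * m⁻¹ ∈ Subgroup.center P := by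
        apply hT2
        exact Subgroup.commutator_mem_commutator ht (Subgroup.mem_top m)
      have hcc : ∀ x : P, (t * m * t⁻¹ * m⁻¹) * x = x * (t * m * t⁻¹ * m⁻¹) := by
        intro x
        exact (Subgroup.mem_center_iff.mp hcmem x).symm
      rw [hZ]
      refine ⟨?_, hcc⟩
      rw [← comm_pow_of_central hcc p, (hTle ht).2]
      group

theorem core (hp2 : p ≠ 2) (hP : IsPGroup p P) (Zp : Subgroup P)
    (hZ : ∀ x, x ∈ Zp ↔ x ^ p = 1 ∧ ∀ m : P, x * m = m * x) (hcard : Nat.card Zp = p)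
    (hno : ¬ ∃ E : Subgroup P, Zp ≤ E ∧ E ≠ Zp ∧ E.Characteristic ∧
      (∀ x ∈ E, ∀ y ∈ E, x * y = y * x) ∧ (∀ x ∈ E, x ^ p = 1) ∧
      (∀ e ∈ E, ∀ m : P, e * m * e⁻¹ * m⁻¹ ∈ Zp)) :
    ∀ x y : P, x * y * x⁻¹ * y⁻¹ ∈ Zp := by
  classical
  have hp : p.Prime := Fact.out
  obtain ⟨E, R, hER, hsup, hE, hR⟩ := Cfsg.Agent.S3762.result hP
    (char_abelian_cyclic hp2 hP Zp hZ hcard hno)
  have hRcyc : IsCyclic R := by
    rcases hR with h | ⟨h2, -⟩
    · exact h
    · exact absurd h2 hp2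
  have hRcomm : ∀ r ∈ R, ∀ r' ∈ R, r * r' = r' * r := by
    intro r hr r' hr'
    have := (IsCyclic.isMulCommutative (α := ↥R)).is_comm.comm ⟨r, hr⟩ ⟨r', hr'⟩
    exact congrArg Subtype.val this
  -- R is normal
  have hRn : R.Normal := by
    rw [← Subgroup.normalizer_eq_top_iff]
    rw [eq_top_iff, ← hsup, sup_le_iff]
    constructor
    · intro e he
      rw [Subgroup.mem_normalizer_iff]
      intro r
      constructor
      · intro hr
        have : e * r * e⁻¹ = r := by rw [hER e he r hr]; group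
        rw [this]; exact hr
      · intro hr
        have h1 : e⁻¹ * (e * r * e⁻¹) * e = r := by group
        have h2 : e⁻¹ * (e * r * e⁻¹) * e = e * r * e⁻¹ := by
          have := hER e⁻¹ (E.inv_mem he) (e * r * e⁻¹) hr
          rw [this]; group
        rw [← h1, h2]; exact hr
    · exact Subgroup.le_normalizer
  have hdec : ∀ x : P, ∃ e ∈ E, ∃ r ∈ R, x = e * r := by
    intro x
    have hx : x ∈ E ⊔ R := by rw [hsup]; trivial
    have : (x : P) ∈ ((E ⊔ R : Subgroup P) : Set P) := hx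
    rw [Subgroup.mul_normal E R] at this
    obtain ⟨e, he, r, hr, rfl⟩ := this
    exact ⟨e, he, r, hr, rfl⟩
  intro x y
  obtain ⟨e, he, r, hr, rfl⟩ := hdec x
  obtain ⟨e', he', r', hr', rfl⟩ := hdec y
  have hcomm : e * r * (e' * r') * (e * r)⁻¹ * (e' * r')⁻¹ = e * e' * e⁻¹ * e'⁻¹ := by
    have h1 : r * e' = e' * r := (hER e' he' r hr).symm
    have h2 : r * r' = r' * r := hRcomm r hr r' hr'
    have h3 : r' * e⁻¹ = e⁻¹ * r' := (hER e⁻¹ (E.inv_mem he) r' hr').symm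
    have h4 : r * e⁻¹ = e⁻¹ * r := (hER e⁻¹ (E.inv_mem he) r hr).symm
    have h5 : r' * e'⁻¹ = e'⁻¹ * r' := (hER e'⁻¹ (E.inv_mem he') r' hr').symm
    have h6 : r * e'⁻¹ = e'⁻¹ * r := (hER e'⁻¹ (E.inv_mem he') r hr).symm
    calc e * r * (e' * r') * (e * r)⁻¹ * (e' * r')⁻¹
        = e * (r * e') * r' * r⁻¹ * e⁻¹ * r'⁻¹ * e'⁻¹ := by group
      _ = e * (e' * r) * r' * r⁻¹ * e⁻¹ * r'⁻¹ * e'⁻¹ := by rw [h1]
      _ = e * e' * (r * r') * r⁻¹ * e⁻¹ * r'⁻¹ * e'⁻¹ := by group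
      _ = e * e' * (r' * r) * r⁻¹ * e⁻¹ * r'⁻¹ * e'⁻¹ := by rw [h2]
      _ = e * e' * (r' * e⁻¹) * r'⁻¹ * e'⁻¹ := by group
      _ = e * e' * (e⁻¹ * r') * r'⁻¹ * e'⁻¹ := by rw [h3]
      _ = e * e' * e⁻¹ * e'⁻¹ := by group
  rw [hcomm]
  rcases hE with hE | hE
  · rw [hE, Subgroup.mem_bot] at he he'
    rw [he, he']
    simp
  · obtain ⟨⟨-, -, hcz⟩, hzcard⟩ := hE
    -- the commutator of e, e' in ↥E lies in the center of ↥E
    set c : ↥E := ⁅(⟨e, he⟩ : ↥E), ⟨e', he'⟩⁆ with hc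
    have hcv : (c : P) = e * e' * e⁻¹ * e'⁻¹ := by
      rw [hc, commutatorElement_def]; rfl
    have hcmem : c ∈ Subgroup.center ↥E := by
      rw [← hcz]
      exact Subgroup.commutator_mem_commutator (Subgroup.mem_top _) (Subgroup.mem_top _)
    rw [← hcv, hZ]
    constructor
    · have h1 : (⟨c, hcmem⟩ : Subgroup.center ↥E) ^ p = 1 := by
        have := pow_card_eq_one' (G := Subgroup.center ↥E) (x := ⟨c, hcmem⟩)
        rwa [hzcard] at this
      have h2 := congrArg (fun z : Subgroup.center ↥E => ((z : ↥E) : P)) h1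
      simpa using h2
    · -- c commutes with everything
      have hcE : ∀ e₁ ∈ E, (c : P) * e₁ = e₁ * (c : P) := by
        intro e₁ he₁
        have := Subgroup.mem_center_iff.mp hcmem ⟨e₁, he₁⟩
        have h2 := congrArg Subtype.val this
        exact h2.symm
      intro m
      obtain ⟨e₁, he₁, r₁, hr₁, rfl⟩ := hdec m
      calc (c : P) * (e₁ * r₁) = ((c : P) * e₁) * r₁ := by group
        _ = e₁ * ((c : P) * r₁) := by rw [hcE e₁ he₁]; group
        _ = e₁ * (r₁ * (c : P)) := by rw [hER (c : P) c.2 r₁ hr₁]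
        _ = e₁ * r₁ * (c : P) := by group

end core

theorem comm_le_of_no_E {𝔄 : Type*} [Group 𝔄] {p : ℕ} [Fact p.Prime] (hp2 : p ≠ 2)
    (H M Z : Subgroup 𝔄) [Finite M] (hMH : M ≤ H)
    (hnorm : ∀ h ∈ H, ∀ m ∈ M, h * m * h⁻¹ ∈ M) (hMp : IsPGroup p M)
    (hZ : ∀ x, x ∈ Z ↔ x ∈ M ∧ x ^ p = 1 ∧ ∀ m ∈ M, x * m = m * x)
    (hZcard : Nat.card Z = p)
    (hno : ¬ ∃ E : Subgroup 𝔄, Z ≤ E ∧ E ≤ M ∧ E ≠ Z ∧ (∀ h ∈ H, ∀ e ∈ E, h * e * h⁻¹ ∈ E) ∧
      (∀ x ∈ E, ∀ y ∈ E, x * y = y * x) ∧ (∀ x ∈ E, x ^ p = 1) ∧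
      (∀ e ∈ E, ∀ m ∈ M, e * m * e⁻¹ * m⁻¹ ∈ Z)) :
    ∀ x ∈ M, ∀ y ∈ M, x * y * x⁻¹ * y⁻¹ ∈ Z := by
  classical
  have hZM : Z ≤ M := fun x hx => ((hZ x).mp hx).1
  set Zp : Subgroup ↥M := Z.subgroupOf M with hZp
  have hZp' : ∀ x : ↥M, x ∈ Zp ↔ x ^ p = 1 ∧ ∀ m : ↥M, x * m = m * x := by
    intro x
    rw [hZp, Subgroup.mem_subgroupOf, hZ]
    constructor
    · rintro ⟨-, h1, h2⟩
      refine ⟨Subtype.ext (by simpa using h1), fun m => Subtype.ext ?_⟩
      simpa using h2 m m.2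
    · rintro ⟨h1, h2⟩
      refine ⟨x.2, ?_, fun m hm => ?_⟩
      · have := congrArg Subtype.val h1
        simpa using this
      · have := congrArg Subtype.val (h2 ⟨m, hm⟩)
        simpa using this
  have hcard : Nat.card Zp = p := by
    rw [← hZcard]
    exact Nat.card_congr (Subgroup.subgroupOfEquivOfLe hZM).toEquiv
  -- conjugation by h ∈ H as an automorphism of ↥M
  have hconj : ∀ h ∈ H, ∃ φ : ↥M ≃* ↥M, ∀ m : ↥M, ((φ m : ↥M) : 𝔄) = h * m * h⁻¹ := by
    intro h hh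
    refine ⟨{ toFun := fun m => ⟨h * m * h⁻¹, hnorm h hh m m.2⟩
              invFun := fun m => ⟨h⁻¹ * m * h, by
                have := hnorm h⁻¹ (H.inv_mem hh) m m.2
                simpa using this⟩
              left_inv := fun m => Subtype.ext (by simp [mul_assoc])
              right_inv := fun m => Subtype.ext (by simp [mul_assoc])
              map_mul' := fun a b => Subtype.ext (by simp [mul_assoc]) }, fun m => rfl⟩
  have hcore := core (P := ↥M) hp2 hMp Zp hZp' hcard (by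
    rintro ⟨E, hZE, hEne, hEchar, hEab, hEp, hEcomm⟩
    apply hno
    refine ⟨E.map M.subtype, ?_, ?_, ?_, ?_, ?_, ?_, ?_⟩
    · intro z hz
      exact ⟨⟨z, hZM hz⟩, hZE (by rw [hZp, Subgroup.mem_subgroupOf]; exact hz), rfl⟩
    · rintro _ ⟨x, -, rfl⟩
      exact x.2
    · intro hE
      apply hEne
      apply le_antisymm _ hZE
      intro x hx
      rw [hZp, Subgroup.mem_subgroupOf, ← hE]
      exact ⟨x, hx, rfl⟩
    · rintro h hh _ ⟨x, hx, rfl⟩
      obtain ⟨φ, hφ⟩ := hconj h hh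
      refine ⟨φ x, char_mem hEchar φ hx, ?_⟩
      exact hφ x
    · rintro _ ⟨x, hx, rfl⟩ _ ⟨y, hy, rfl⟩
      have := hEab x hx y hy
      exact congrArg Subtype.val this
    · rintro _ ⟨x, hx, rfl⟩
      have := hEp x hx
      have h2 := congrArg Subtype.val this
      simpa using h2
    · rintro _ ⟨x, hx, rfl⟩ m hm
      have := hEcomm x hx ⟨m, hm⟩
      rw [hZp, Subgroup.mem_subgroupOf] at this
      simpa using this)
  intro x hx y hy
  have := hcore ⟨x, hx⟩ ⟨y, hy⟩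
  rw [hZp, Subgroup.mem_subgroupOf] at this
  simpa using this

end Cfsg.Agent.Helper25.S4330P4
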