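import Mathlib

/-!
# Groups generated by two elements of order `p` satisfying the `SL₂(p)` braid relations (helper25)

`x`, `y` with `x^p = y^p = 1` and `x^t y^(-1/t) x^t = y^(-1/t) x^t y^(-1/t)` for all `t ∈ 𝔽_p^*`.
We show that the subgroup generated by `x` and `y` has at most `p (p² - 1)` elements.
-/

set_option autoImplicit false

namespace Cfsg.Agent.Helper25
namespace SL2p

variable {D : Type*} [Group D] {p : ℕ} [hp : Fact p.Prime]

/-- `X x t = x ^ t` for `t ∈ ZMod p`. -/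
def X (x : D) (t : ZMod p) : D := x ^ t.val

theorem X_natCast {x : D} (hx : x ^ p = 1) (n : ℕ) : X x (n : ZMod p) = x ^ n := by
  unfold X
  rw [ZMod.val_natCast]
  exact (pow_eq_pow_mod n hx).symm

theorem X_zero (x : D) : X x (0 : ZMod p) = 1 := by
  unfold X; simp

theorem X_one (x : D) : X x (1 : ZMod p) = x := by
  unfold X
  haveI : Fact (1 < p) := ⟨hp.out.one_lt⟩
  rw [ZMod.val_one, pow_one]

theorem X_add {x : D} (hx : x ^ p = 1) (s t : ZMod p) : X x (s + t) = X x s * X x t := by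
  have h1 : s + t = ((s.val + t.val : ℕ) : ZMod p) := by
    rw [Nat.cast_add, ZMod.natCast_zmod_val, ZMod.natCast_zmod_val]
  rw [h1, X_natCast hx, pow_add]
  rfl

theorem X_comm {x : D} (s t : ZMod p) : X x s * X x t = X x t * X x s := by
  unfold X
  rw [← pow_add, ← pow_add, add_comm]

theorem X_neg {x : D} (hx : x ^ p = 1) (t : ZMod p) : X x (-t) = (X x t)⁻¹ := by
  have h := X_add hx (-t) t
  rw [neg_add_cancel, X_zero] at h
  exact eq_inv_of_mul_eq_one_left h.symm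

theorem X_sub {x : D} (hx : x ^ p = 1) (s t : ZMod p) : X x (s - t) = X x s * (X x t)⁻¹ := by
  rw [sub_eq_add_neg, X_add hx, X_neg hx]

theorem X_pow {x : D} (hx : x ^ p = 1) (t : ZMod p) (k : ℕ) :
    (X x t) ^ k = X x ((k : ZMod p) * t) := by
  have h1 : (k : ZMod p) * t = ((k * t.val : ℕ) : ZMod p) := by
    rw [Nat.cast_mul, ZMod.natCast_zmod_val]
  rw [h1, X_natCast hx]
  unfold X
  rw [← pow_mul, mul_comm]

/-- `X (k * t) = (X t) ^ k.val`. -/
theorem X_mul {x : D} (hx : x ^ p = 1) (k t : ZMod p) : X x (k * t) = (X x t) ^ k.val := by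
  rw [X_pow hx, ZMod.natCast_zmod_val]

/-- The braid relations. -/
structure Braid (p : ℕ) [Fact p.Prime] (x y : D) : Prop where
  hx : x ^ p = 1
  hy : y ^ p = 1
  braid : ∀ t : ZMod p, t ≠ 0 →
    X x t * X y (-t⁻¹) * X x t = X y (-t⁻¹) * X x t * X y (-t⁻¹)

/-- `W t = X t * Y (-1/t) * X t`. -/
def W (x y : D) (t : ZMod p) : D := X x t * X y (-t⁻¹) * X x t

variable {x y : D}

theorem W_eq (hB : Braid p x y) {t : ZMod p} (ht : t ≠ 0) :
    W x y t = X y (-t⁻¹) * X x t * X y (-t⁻¹) := hB.braid t ht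

theorem W_inv (hB : Braid p x y) (t : ZMod p) : (W x y t)⁻¹ = W x y (-t) := by
  unfold W
  rw [X_neg hB.hx, inv_neg, neg_neg, mul_inv_rev, mul_inv_rev, ← X_neg hB.hy, neg_neg, mul_assoc]

theorem W_conj_X_self (hB : Braid p x y) {t : ZMod p} (ht : t ≠ 0) :
    W x y t * X x t * (W x y t)⁻¹ = X y (-t⁻¹) := by
  have h1 : W x y t * X x t = X y (-t⁻¹) * W x y t := by
    conv_lhs => rw [W_eq hB ht]
    unfold W
    group
  rw [h1]; group

theorem W_conj_Y_self (hB : Braid p x y) {t : ZMod p} (ht : t ≠ 0) :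
    W x y t * X y (-t⁻¹) * (W x y t)⁻¹ = X x t := by
  have h1 : W x y t * X y (-t⁻¹) = X x t * W x y t := by
    conv_rhs => rw [W_eq hB ht]
    unfold W
    group
  rw [h1]; group

/-- `W t X s W t⁻¹ = Y (-s/t²)`. -/
theorem W_conj_X (hB : Braid p x y) {t : ZMod p} (ht : t ≠ 0) (s : ZMod p) :
    W x y t * X x s * (W x y t)⁻¹ = X y (-(s * t⁻¹ * t⁻¹)) := by
  have h1 : s = (s * t⁻¹) * t := by field_simp
  have h2 : X x s = (X x t) ^ (s * t⁻¹).val := by
    conv_lhs => rw [h1]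
    exact X_mul hB.hx _ _
  rw [h2, ← conj_pow, W_conj_X_self hB ht, ← X_mul hB.hy]
  congr 1; ring

/-- `W t Y s W t⁻¹ = X (-t² s)`. -/
theorem W_conj_Y (hB : Braid p x y) {t : ZMod p} (ht : t ≠ 0) (s : ZMod p) :
    W x y t * X y s * (W x y t)⁻¹ = X x (-(t * t * s)) := by
  have h1 : s = (-(s * t)) * (-t⁻¹) := by field_simp
  have h2 : X y s = (X y (-t⁻¹)) ^ (-(s * t)).val := by
    conv_lhs => rw [h1]
    exact X_mul hB.hy _ _
  rw [h2, ← conj_pow, W_conj_Y_self hB ht, ← X_mul hB.hx]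
  congr 1; ring

theorem W_conj_W (hB : Braid p x y) {u t : ZMod p} (hu : u ≠ 0) (ht : t ≠ 0) :
    W x y u * W x y t * (W x y u)⁻¹ = W x y (u * u * t⁻¹) := by
  have h0 : u * u * t⁻¹ ≠ 0 := mul_ne_zero (mul_ne_zero hu hu) (inv_ne_zero ht)
  have e1 : W x y u * W x y t * (W x y u)⁻¹ =
      (W x y u * X x t * (W x y u)⁻¹) * (W x y u * X y (-t⁻¹) * (W x y u)⁻¹) *
        (W x y u * X x t * (W x y u)⁻¹) := by
    unfold W; group
  rw [e1, W_conj_X hB hu, W_conj_Y hB hu, W_eq hB h0]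
  have e2 : -(t * u⁻¹ * u⁻¹) = -(u * u * t⁻¹)⁻¹ := by field_simp
  have e3 : -(u * u * -t⁻¹) = u * u * t⁻¹ := by ring
  rw [e2, e3]

end SL2p
end Cfsg.Agent.Helper25
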