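import Mathlib
import Cfsg.Agent.Lib.Helper25.SL2pA

set_option autoImplicit false

namespace Cfsg.Agent.Helper25
namespace SL2p

variable {D : Type*} [Group D] {p : ℕ} [hp : Fact p.Prime] {x y : D}

/-- `H t = W t * (W 1)⁻¹`. -/
def H (x y : D) (t : ZMod p) : D := W x y t * (W x y (1 : ZMod p))⁻¹

theorem H_one (x y : D) : H x y (1 : ZMod p) = 1 := by
  unfold H; group

theorem W_one_inv_conj_X (hB : Braid p x y) (s : ZMod p) :
    (W x y (1 : ZMod p))⁻¹ * X x s * W x y (1 : ZMod p) = X y (-s) := by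
  have h1 : (-1 : ZMod p) ≠ 0 := neg_ne_zero.2 one_ne_zero
  have h := W_conj_X hB h1 s
  rw [W_inv hB (-1), neg_neg, ← W_inv hB 1] at h
  rw [h]
  congr 1
  field_simp

theorem W_one_inv_conj_Y (hB : Braid p x y) (s : ZMod p) :
    (W x y (1 : ZMod p))⁻¹ * X y s * W x y (1 : ZMod p) = X x (-s) := by
  have h1 : (-1 : ZMod p) ≠ 0 := neg_ne_zero.2 one_ne_zero
  have h := W_conj_Y hB h1 s
  rw [W_inv hB (-1), neg_neg, ← W_inv hB 1] at h
  rw [h]
  congr 1
  ring

theorem H_conj_X (hB : Braid p x y) {t : ZMod p} (ht : t ≠ 0) (s : ZMod p) :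
    H x y t * X x s * (H x y t)⁻¹ = X x (t * t * s) := by
  have e : H x y t * X x s * (H x y t)⁻¹ =
      W x y t * ((W x y (1 : ZMod p))⁻¹ * X x s * W x y (1 : ZMod p)) * (W x y t)⁻¹ := by
    unfold H; group
  rw [e, W_one_inv_conj_X hB, W_conj_Y hB ht]
  congr 1; ring

theorem H_conj_Y (hB : Braid p x y) {t : ZMod p} (ht : t ≠ 0) (s : ZMod p) :
    H x y t * X y s * (H x y t)⁻¹ = X y (s * t⁻¹ * t⁻¹) := by
  have e : H x y t * X y s * (H x y t)⁻¹ =
      W x y t * ((W x y (1 : ZMod p))⁻¹ * X y s * W x y (1 : ZMod p)) * (W x y t)⁻¹ := by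
    unfold H; group
  rw [e, W_one_inv_conj_Y hB, W_conj_X hB ht]
  congr 1; ring

theorem H_conj_W (hB : Braid p x y) {t u : ZMod p} (ht : t ≠ 0) (hu : u ≠ 0) :
    H x y t * W x y u * (H x y t)⁻¹ = W x y (t * t * u) := by
  have e : H x y t * W x y u * (H x y t)⁻¹ =
      (H x y t * X x u * (H x y t)⁻¹) * (H x y t * X y (-u⁻¹) * (H x y t)⁻¹) *
        (H x y t * X x u * (H x y t)⁻¹) := by
    unfold W; group
  rw [e, H_conj_X hB ht, H_conj_Y hB ht]
  unfold W
  have e2 : -u⁻¹ * t⁻¹ * t⁻¹ = -(t * t * u)⁻¹ := by field_simp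
  rw [e2]

theorem H_conj_H (hB : Braid p x y) {t u : ZMod p} (ht : t ≠ 0) (hu : u ≠ 0) :
    H x y t * H x y u * (H x y t)⁻¹ = H x y (t * t * u) * (H x y (t * t))⁻¹ := by
  have e : H x y t * H x y u * (H x y t)⁻¹ =
      (H x y t * W x y u * (H x y t)⁻¹) * (H x y t * W x y (1 : ZMod p) * (H x y t)⁻¹)⁻¹ := by
    unfold H; group
  rw [e, H_conj_W hB ht hu, H_conj_W hB ht one_ne_zero, mul_one]
  unfold H; group

/-- `z` commutes with all `X s` and `Y s`. -/
def Zc (x y : D) (p : ℕ) (z : D) : Prop :=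
  (∀ s : ZMod p, z * X x s = X x s * z) ∧ (∀ s : ZMod p, z * X y s = X y s * z)

theorem Zc.comm_W {z : D} (hz : Zc x y p z) (t : ZMod p) : z * W x y t = W x y t * z := by
  unfold W
  rw [← mul_assoc, ← mul_assoc, hz.1, mul_assoc (X x t), hz.2, ← mul_assoc, mul_assoc _ z, hz.1,
    ← mul_assoc]

theorem Zc.comm_W_inv {z : D} (hz : Zc x y p z) (t : ZMod p) :
    z * (W x y t)⁻¹ = (W x y t)⁻¹ * z := by
  have := hz.comm_W t
  calc z * (W x y t)⁻¹ = (W x y t)⁻¹ * (W x y t * z) * (W x y t)⁻¹ := by group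
    _ = (W x y t)⁻¹ * (z * W x y t) * (W x y t)⁻¹ := by rw [this]
    _ = (W x y t)⁻¹ * z := by group

theorem Zc.comm_H {z : D} (hz : Zc x y p z) (t : ZMod p) : z * H x y t = H x y t * z := by
  unfold H
  rw [← mul_assoc, hz.comm_W, mul_assoc, hz.comm_W_inv, ← mul_assoc]

/-- `h` acts on `X s`, `Y s` through the scalar `c`. -/
def Acts (x y : D) (p : ℕ) (h : D) (c : ZMod p) : Prop :=
  (∀ s : ZMod p, h * X x s * h⁻¹ = X x (c * s)) ∧ (∀ s : ZMod p, h * X y s * h⁻¹ = X y (c⁻¹ * s))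

theorem Acts.one : Acts x y p (1 : D) 1 := by
  constructor <;> intro s <;> simp

theorem Acts.mul {h h' : D} {c c' : ZMod p} (h1 : Acts x y p h c) (h2 : Acts x y p h' c') :
    Acts x y p (h * h') (c * c') := by
  constructor
  · intro s
    have : h * h' * X x s * (h * h')⁻¹ = h * (h' * X x s * h'⁻¹) * h⁻¹ := by group
    rw [this, h2.1, h1.1, mul_assoc]
  · intro s
    have : h * h' * X y s * (h * h')⁻¹ = h * (h' * X y s * h'⁻¹) * h⁻¹ := by group
    rw [this, h2.2, h1.2, mul_inv, mul_assoc]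

theorem Acts.inv {h : D} {c : ZMod p} (hc : c ≠ 0) (h1 : Acts x y p h c) :
    Acts x y p h⁻¹ c⁻¹ := by
  constructor
  · intro s
    have h3 := h1.1 (c⁻¹ * s)
    rw [← mul_assoc, mul_inv_cancel₀ hc, one_mul] at h3
    rw [← h3]; group
  · intro s
    have h3 := h1.2 (c * s)
    rw [← mul_assoc, inv_mul_cancel₀ hc, one_mul] at h3
    rw [inv_inv, ← h3]; group

theorem Acts.zpow {h : D} {c : ZMod p} (hc : c ≠ 0) (h1 : Acts x y p h c) (j : ℤ) :
    Acts x y p (h ^ j) (c ^ j) := by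
  induction j using Int.induction_on with
  | zero => simpa using Acts.one
  | succ i ih =>
    rw [zpow_add_one, zpow_add_one₀ hc]
    exact ih.mul h1
  | pred i ih =>
    rw [zpow_sub_one, zpow_sub_one₀ hc]
    exact ih.mul (h1.inv hc)

theorem H_acts (hB : Braid p x y) {t : ZMod p} (ht : t ≠ 0) : Acts x y p (H x y t) (t * t) := by
  constructor
  · intro s; exact H_conj_X hB ht s
  · intro s
    rw [H_conj_Y hB ht]
    congr 1
    field_simp

theorem Zc_of_acts {h h' : D} {c : ZMod p} (hc : c ≠ 0) (h1 : Acts x y p h c)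
    (h2 : Acts x y p h' c) : Zc x y p (h⁻¹ * h') := by
  have h3 := (h1.inv hc).mul h2
  rw [inv_mul_cancel₀ hc] at h3
  constructor
  · intro s
    have := h3.1 s
    rw [one_mul] at this
    calc h⁻¹ * h' * X x s = (h⁻¹ * h' * X x s * (h⁻¹ * h')⁻¹) * (h⁻¹ * h') := by group
      _ = X x s * (h⁻¹ * h') := by rw [this]
  · intro s
    have := h3.2 s
    rw [inv_one, one_mul] at this
    calc h⁻¹ * h' * X y s = (h⁻¹ * h' * X y s * (h⁻¹ * h')⁻¹) * (h⁻¹ * h') := by group
      _ = X y s * (h⁻¹ * h') := by rw [this]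

/-- The `H t` commute pairwise. -/
theorem H_comm (hB : Braid p x y) {t u : ZMod p} (ht : t ≠ 0) (hu : u ≠ 0) :
    H x y t * H x y u = H x y u * H x y t := by
  obtain ⟨g, hg⟩ := IsCyclic.exists_generator (α := (ZMod p)ˣ)
  have hg0 : (g : ZMod p) ≠ 0 := g.ne_zero
  -- every H t is (H g)^j times a "central" element
  have key : ∀ t : ZMod p, t ≠ 0 → ∃ (j : ℤ) (c : D), Zc x y p c ∧ H x y t = (H x y (g : ZMod p)) ^ j * c := by
    intro t ht
    obtain ⟨j, hj⟩ := Subgroup.mem_zpowers_iff.1 (hg (Units.mk0 t ht))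
    have hj' : ((g : ZMod p)) ^ j = t := by
      have := congrArg (fun u : (ZMod p)ˣ => (u : ZMod p)) hj
      simpa using this
    refine ⟨j, ((H x y (g : ZMod p)) ^ j)⁻¹ * H x y t, ?_, by group⟩
    have h1 := (H_acts hB hg0).zpow (mul_ne_zero hg0 hg0) j
    have h2 := H_acts hB ht
    have e : ((g : ZMod p) * g) ^ j = t * t := by rw [mul_zpow, hj']
    rw [e] at h1
    exact Zc_of_acts (mul_ne_zero ht ht) h1 h2
  obtain ⟨j, c, hc, e1⟩ := key t ht
  obtain ⟨i, d, hd, e2⟩ := key u hu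
  set h := H x y (g : ZMod p) with hh
  have hch : ∀ k : ℤ, c * h ^ k = h ^ k * c := by
    intro k
    have hc1 : c * h = h * c := hc.comm_H _
    exact (Commute.zpow_right hc1 k)
  have hdh : ∀ k : ℤ, d * h ^ k = h ^ k * d := by
    intro k
    have hd1 : d * h = h * d := hd.comm_H _
    exact (Commute.zpow_right hd1 k)
  have hcd : c * d = d * c := by
    have hd' : d = (h ^ i)⁻¹ * H x y u := by rw [e2]; group
    have h1 : c * (h ^ i)⁻¹ = (h ^ i)⁻¹ * c := by
      have := hch (-i)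
      rwa [zpow_neg] at this
    rw [hd', ← mul_assoc, h1, mul_assoc, hc.comm_H, ← mul_assoc]
  rw [e1, e2]
  calc h ^ j * c * (h ^ i * d) = h ^ j * (c * h ^ i) * d := by group
    _ = h ^ j * (h ^ i * c) * d := by rw [hch]
    _ = (h ^ j * h ^ i) * (c * d) := by group
    _ = (h ^ i * h ^ j) * (d * c) := by rw [hcd, ← zpow_add, ← zpow_add, add_comm]
    _ = h ^ i * (h ^ j * d) * c := by group
    _ = h ^ i * (d * h ^ j) * c := by rw [hdh]
    _ = h ^ i * d * (h ^ j * c) := by group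

/-- multiplicativity when one argument is a square -/
theorem H_sq_mul (hB : Braid p x y) {t u : ZMod p} (ht : t ≠ 0) (hu : u ≠ 0) :
    H x y (t * t * u) = H x y (t * t) * H x y u := by
  have h1 := H_conj_H hB ht hu
  have h2 : H x y t * H x y u * (H x y t)⁻¹ = H x y u := by
    rw [H_comm hB ht hu]; group
  rw [h2] at h1
  have h3 : H x y (t * t * u) = H x y u * H x y (t * t) := by
    rw [h1]; group
  rw [h3]
  exact H_comm hB hu (mul_ne_zero ht ht)

end SL2p
end Cfsg.Agent.Helper25
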