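import Mathlib
import Cfsg.Agent.Lib.Helper25.SL2pA
import Cfsg.Agent.Lib.Helper25.SL2pB

set_option autoImplicit false

namespace Cfsg.Agent.Helper25
namespace SL2p

variable {D : Type*} [Group D] {p : ℕ} [hp : Fact p.Prime] {x y : D}

theorem Y_eq (hB : Braid p x y) {s : ZMod p} (hs : s ≠ 0) :
    X y s = X x s⁻¹ * W x y (-s⁻¹) * X x s⁻¹ := by
  unfold W
  have e : -(-s⁻¹)⁻¹ = s := by rw [inv_neg, inv_inv, neg_neg]
  rw [e, X_neg hB.hx]
  group

theorem X_eq (hB : Braid p x y) {m : ZMod p} (hm : m ≠ 0) :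
    X x m = X y m⁻¹ * W x y m * X y m⁻¹ := by
  rw [W_eq hB hm, X_neg hB.hy]
  group

/-- The relation `{α, 1-α} = 1`. -/
theorem H_steinberg (hB : Braid p x y) {α : ZMod p} (h0 : α ≠ 0) (h1 : α ≠ 1) :
    H x y α * H x y (1 - α) = H x y (α * (1 - α)) := by
  have hr : α - 1 ≠ 0 := sub_ne_zero.2 h1
  have hs : -α⁻¹ ≠ 0 := neg_ne_zero.2 (inv_ne_zero h0)
  have hm1 : (-1 : ZMod p) ≠ 0 := neg_ne_zero.2 one_ne_zero
  -- D1
  have D1 : X y (-α⁻¹) * X x (α - 1) = X x (α * α - α) * H x y α * X y (-1 : ZMod p) := by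
    rw [Y_eq hB hs]
    have e1 : (-α⁻¹)⁻¹ = -α := by rw [inv_neg, inv_inv]
    rw [e1, neg_neg]
    have e2 : X x (-α) * W x y α * X x (-α) * X x (α - 1) = X x (-α) * W x y α * X x (-1 : ZMod p) := by
      rw [mul_assoc (X x (-α) * W x y α), ← X_add hB.hx]
      congr 2; ring
    rw [e2, X_eq hB hm1]
    have e3 : (-1 : ZMod p)⁻¹ = -1 := by rw [inv_neg, inv_one]
    rw [e3]
    have e4 : X x (-α) * W x y α * (X y (-1 : ZMod p) * W x y (-1 : ZMod p) * X y (-1 : ZMod p)) =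
        X x (-α) * (W x y α * X y (-1 : ZMod p) * (W x y α)⁻¹) * (W x y α * W x y (-1 : ZMod p)) *
          X y (-1 : ZMod p) := by
      group
    rw [e4, W_conj_Y hB h0, ← W_inv hB 1]
    have e5 : W x y α * (W x y (1 : ZMod p))⁻¹ = H x y α := rfl
    rw [e5, ← X_add hB.hx]
    congr 3; ring
  -- D2
  have D2 : X y (-α⁻¹) * X x (α - 1) =
      X x (α * α - α) * (W x y (-(α * α - α)) * W x y (α - 1)) * X y (-1 : ZMod p) := by
    have hv : α * α - α ≠ 0 := by
      have : α * α - α = α * (α - 1) := by ring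
      rw [this]; exact mul_ne_zero h0 hr
    have hn : (-α⁻¹ + (α - 1)⁻¹) = (α * α - α)⁻¹ := by
      field_simp
      ring
    have hn0 : (-α⁻¹ + (α - 1)⁻¹) ≠ 0 := by rw [hn]; exact inv_ne_zero hv
    conv_lhs => rw [X_eq hB hr]
    have e1 : X y (-α⁻¹) * (X y (α - 1)⁻¹ * W x y (α - 1) * X y (α - 1)⁻¹) =
        X y (-α⁻¹ + (α - 1)⁻¹) * W x y (α - 1) * X y (α - 1)⁻¹ := by
      rw [X_add hB.hy]; group
    rw [e1, Y_eq hB hn0, hn, inv_inv]
    have e2 : X x (α * α - α) * W x y (-(α * α - α)) * X x (α * α - α) * W x y (α - 1) *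
        X y (α - 1)⁻¹ = X x (α * α - α) * (W x y (-(α * α - α)) * W x y (α - 1)) *
        (((W x y (α - 1))⁻¹ * X x (α * α - α) * W x y (α - 1)) * X y (α - 1)⁻¹) := by
      group
    rw [e2]
    have e3 : (W x y (α - 1))⁻¹ * X x (α * α - α) * W x y (α - 1) =
        X y (-((α * α - α) * (-(α - 1))⁻¹ * (-(α - 1))⁻¹)) := by
      have h := W_conj_X hB (neg_ne_zero.2 hr) (α * α - α)
      rw [← W_inv hB (α - 1), inv_inv] at h
      exact h
    rw [e3, ← X_add hB.hy]
    congr 2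
    field_simp
    ring
  rw [D1] at D2
  have e6 : H x y α = W x y (-(α * α - α)) * W x y (α - 1) := by
    have := mul_right_cancel D2
    exact mul_left_cancel this
  have e7 : -(α * α - α) = α * (1 - α) := by ring
  have e8 : α - 1 = -(1 - α) := by ring
  rw [e6, e7, e8, ← W_inv hB]
  unfold H
  group

/-- existence of `α` with `α` and `1 - α` both non-squares -/
theorem exists_nonsq_pair (hp2 : p ≠ 2) :
    ∃ α : ZMod p, α ≠ 0 ∧ α ≠ 1 ∧ ¬ IsSquare α ∧ ¬ IsSquare (1 - α) := by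
  have hchar : ringChar (ZMod p) ≠ 2 := by rw [ZMod.ringChar_zmod_n]; exact hp2
  obtain ⟨a, ha⟩ := FiniteField.exists_nonsquare hchar
  have hex : ∃ k : ℕ, ¬ IsSquare (k : ZMod p) := ⟨a.val, by rwa [ZMod.natCast_zmod_val]⟩
  classical
  set k := Nat.find hex with hk
  have hkns : ¬ IsSquare (k : ZMod p) := Nat.find_spec hex
  have hk0 : k ≠ 0 := by
    intro h0; rw [h0] at hkns; apply hkns; simp
  have hk1 : k ≠ 1 := by
    intro h0; rw [h0] at hkns; apply hkns; simp
  have hprev : IsSquare ((k - 1 : ℕ) : ZMod p) := by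
    by_contra hc
    have := Nat.find_min' hex hc
    omega
  set n : ZMod p := (k : ZMod p) with hn
  have hn0 : n ≠ 0 := by
    intro h0; apply hkns; rw [h0]; simp
  have hm : ((k - 1 : ℕ) : ZMod p) = n - 1 := by
    rw [Nat.cast_sub (by omega), Nat.cast_one]
  rw [hm] at hprev
  have hm0 : n - 1 ≠ 0 := by
    intro h0
    apply hkns
    have : n = 1 := by linear_combination h0
    rw [this]; simp
  obtain ⟨d, hd⟩ := hprev
  refine ⟨(n - 1) / n, div_ne_zero hm0 hn0, ?_, ?_, ?_⟩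
  · intro h1
    rw [div_eq_one_iff_eq hn0] at h1
    have : (1 : ZMod p) = 0 := by linear_combination -h1
    exact one_ne_zero this
  · rintro ⟨c, hc⟩
    have hc0 : c ≠ 0 := by
      rintro rfl
      rw [mul_zero] at hc
      exact (div_ne_zero hm0 hn0) hc
    apply hkns
    refine ⟨d / c, ?_⟩
    have : n = (n - 1) / ((n - 1) / n) := by field_simp
    rw [this, hc, hd]
    field_simp
  · rintro ⟨c, hc⟩
    have e : 1 - (n - 1) / n = n⁻¹ := by field_simp; ring
    rw [e] at hc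
    have hc0 : c ≠ 0 := by
      rintro rfl
      rw [mul_zero] at hc
      exact (inv_ne_zero hn0) hc
    apply hkns
    refine ⟨c⁻¹, ?_⟩
    have : n = (n⁻¹)⁻¹ := (inv_inv n).symm
    rw [this, hc]
    field_simp

theorem isSquare_mul_of_nonsq (hp2 : p ≠ 2) {a b : ZMod p} (ha : ¬ IsSquare a) (hb : ¬ IsSquare b) :
    IsSquare (a * b) := by
  have hchar : ringChar (ZMod p) ≠ 2 := by rw [ZMod.ringChar_zmod_n]; exact hp2
  have ha0 : a ≠ 0 := by rintro rfl; apply ha; simp
  have hb0 : b ≠ 0 := by rintro rfl; apply hb; simp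
  have h1 := (quadraticChar_neg_one_iff_not_isSquare (F := ZMod p)).2 ha
  have h2 := (quadraticChar_neg_one_iff_not_isSquare (F := ZMod p)).2 hb
  have h3 : quadraticChar (ZMod p) (a * b) = 1 := by
    rw [map_mul, h1, h2]; norm_num
  exact (quadraticChar_one_iff_isSquare (mul_ne_zero ha0 hb0)).1 h3

theorem zmod2_eq_one : ∀ t : ZMod 2, t ≠ 0 → t = 1 := by decide

/-- `H` is multiplicative. -/
theorem H_mul (hB : Braid p x y) {t u : ZMod p} (ht : t ≠ 0) (hu : u ≠ 0) :
    H x y (t * u) = H x y t * H x y u := by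
  by_cases hst : IsSquare t
  · obtain ⟨v, rfl⟩ := hst
    have hv : v ≠ 0 := by rintro rfl; simp at ht
    exact H_sq_mul hB hv hu
  by_cases hsu : IsSquare u
  · obtain ⟨v, rfl⟩ := hsu
    have hv : v ≠ 0 := by rintro rfl; simp at hu
    rw [mul_comm t, H_sq_mul hB hv ht]
    exact H_comm hB (mul_ne_zero hv hv) ht
  -- both non-squares
  have hp2 : p ≠ 2 := by
    rintro rfl
    apply hst
    rw [zmod2_eq_one t ht]; simp
  obtain ⟨α, hα0, hα1, hαns, hβns⟩ := exists_nonsq_pair (p := p) hp2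
  have hβ0 : 1 - α ≠ 0 := by
    intro h0; apply hα1; linear_combination -h0
  obtain ⟨c, hc⟩ := isSquare_mul_of_nonsq hp2 hst hαns
  obtain ⟨d, hd⟩ := isSquare_mul_of_nonsq hp2 hsu hβns
  have hc0 : c ≠ 0 := by
    rintro rfl
    rw [mul_zero] at hc
    exact (mul_ne_zero ht hα0) hc
  have hd0 : d ≠ 0 := by
    rintro rfl
    rw [mul_zero] at hd
    exact (mul_ne_zero hu hβ0) hd
  set e := c / α with he
  set f := d / (1 - α) with hf
  have he0 : e ≠ 0 := div_ne_zero hc0 hα0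
  have hf0 : f ≠ 0 := div_ne_zero hd0 hβ0
  have et : t = e * e * α := by
    rw [he]; field_simp; linear_combination hc
  have eu : u = f * f * (1 - α) := by
    rw [hf]; field_simp; linear_combination hd
  have etu : t * u = (e * f) * (e * f) * (α * (1 - α)) := by rw [et, eu]; ring
  have eef : (e * f) * (e * f) = e * e * (f * f) := by ring
  have hee : e * e ≠ 0 := mul_ne_zero he0 he0
  have hff : f * f ≠ 0 := mul_ne_zero hf0 hf0
  rw [etu, H_sq_mul hB (mul_ne_zero he0 hf0) (mul_ne_zero hα0 hβ0), eef, H_sq_mul hB he0 hff,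
    ← H_steinberg hB hα0 hα1, et, eu, H_sq_mul hB he0 hα0, H_sq_mul hB hf0 hβ0]
  have c1 := H_comm hB hff hα0
  calc H x y (e * e) * H x y (f * f) * (H x y α * H x y (1 - α))
      = H x y (e * e) * (H x y (f * f) * H x y α) * H x y (1 - α) := by group
    _ = H x y (e * e) * (H x y α * H x y (f * f)) * H x y (1 - α) := by rw [c1]
    _ = H x y (e * e) * H x y α * (H x y (f * f) * H x y (1 - α)) := by group

end SL2p
end Cfsg.Agent.Helper25
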