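import Mathlib
import Cfsg.Agent.Lib.Helper25.SL2pA
import Cfsg.Agent.Lib.Helper25.SL2pB
import Cfsg.Agent.Lib.Helper25.SL2pC

set_option autoImplicit false

namespace Cfsg.Agent.Helper25
namespace SL2p

variable {D : Type*} [Group D] {p : ℕ} [hp : Fact p.Prime] {x y : D}

theorem H_mul_X (hB : Braid p x y) {t : ZMod p} (ht : t ≠ 0) (s : ZMod p) :
    H x y t * X x s = X x (t * t * s) * H x y t := by
  rw [← H_conj_X hB ht s]; group

theorem X_mul_H (hB : Braid p x y) {t : ZMod p} (ht : t ≠ 0) (s : ZMod p) :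
    X x s * H x y t = H x y t * X x (t⁻¹ * t⁻¹ * s) := by
  rw [H_mul_X hB ht]
  congr 2
  field_simp

theorem W_eq_H_mul (t : ZMod p) : W x y t = H x y t * W x y (1 : ZMod p) := by
  unfold H; group

theorem w_mul_H (hB : Braid p x y) {t : ZMod p} (ht : t ≠ 0) :
    W x y (1 : ZMod p) * H x y t = H x y t⁻¹ * W x y (1 : ZMod p) := by
  have h := W_conj_W hB (one_ne_zero (α := ZMod p)) ht
  rw [one_mul, one_mul] at h
  have e : W x y (1 : ZMod p) * H x y t =
      (W x y (1 : ZMod p) * W x y t * (W x y (1 : ZMod p))⁻¹) := by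
    unfold H; group
  rw [e, h, W_eq_H_mul]

theorem H_neg_one_sq (hB : Braid p x y) : H x y (-1 : ZMod p) * H x y (-1 : ZMod p) = 1 := by
  have h1 : (-1 : ZMod p) ≠ 0 := neg_ne_zero.2 one_ne_zero
  rw [← H_mul hB h1 h1]
  have : (-1 : ZMod p) * -1 = 1 := by ring
  rw [this, H_one]

theorem w_mul_w (hB : Braid p x y) :
    W x y (1 : ZMod p) * W x y (1 : ZMod p) = H x y (-1 : ZMod p) := by
  have h1 : H x y (-1 : ZMod p) = (W x y (1 : ZMod p))⁻¹ * (W x y (1 : ZMod p))⁻¹ := by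
    unfold H
    rw [← W_inv hB 1]
  have h2 := H_neg_one_sq hB
  have h3 : H x y (-1 : ZMod p) = (H x y (-1 : ZMod p))⁻¹ := eq_inv_of_mul_eq_one_left h2
  rw [h3, h1, mul_inv_rev, inv_inv]

theorem w_inv_eq (hB : Braid p x y) :
    (W x y (1 : ZMod p))⁻¹ = H x y (-1 : ZMod p) * W x y (1 : ZMod p) := by
  unfold H
  rw [← W_inv hB 1]; group

theorem w_mul_X (hB : Braid p x y) {r : ZMod p} (hr : r ≠ 0) :
    W x y (1 : ZMod p) * X x r =
      X x (-r⁻¹) * H x y r⁻¹ * W x y (1 : ZMod p) * X x (-r⁻¹) * W x y (1 : ZMod p) := by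
  have h1 := W_conj_X hB (one_ne_zero (α := ZMod p)) r
  have e1 : -(r * (1 : ZMod p)⁻¹ * (1 : ZMod p)⁻¹) = -r := by simp
  rw [e1] at h1
  have h2 := Y_eq hB (neg_ne_zero.2 hr)
  have e2 : (-r)⁻¹ = -r⁻¹ := inv_neg
  rw [e2, neg_neg, W_eq_H_mul] at h2
  have : W x y (1 : ZMod p) * X x r = X y (-r) * W x y (1 : ZMod p) := by
    rw [← h1]; group
  rw [this, h2]; group

/-- Borel elements -/
def Bo (x y : D) (r : ZMod p) (t : (ZMod p)ˣ) : D := X x r * H x y (t : ZMod p)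

/-- big cell elements -/
def Cc (x y : D) (r : ZMod p) (t : (ZMod p)ˣ) (s : ZMod p) : D :=
  X x r * H x y (t : ZMod p) * W x y (1 : ZMod p) * X x s

/-- the union of the two cells -/
def Yset (x y : D) (p : ℕ) [Fact p.Prime] : Set D :=
  {g | (∃ (r : ZMod p) (t : (ZMod p)ˣ), g = Bo x y r t) ∨
    (∃ (r : ZMod p) (t : (ZMod p)ˣ) (s : ZMod p), g = Cc x y r t s)}

theorem one_mem_Yset : (1 : D) ∈ Yset x y p := by
  left
  refine ⟨0, 1, ?_⟩
  unfold Bo
  rw [X_zero, Units.val_one, H_one, one_mul]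

theorem X_mul_mem (hB : Braid p x y) (r' : ZMod p) {g : D} (hg : g ∈ Yset x y p) :
    X x r' * g ∈ Yset x y p := by
  rcases hg with ⟨r, t, rfl⟩ | ⟨r, t, s, rfl⟩
  · left
    refine ⟨r' + r, t, ?_⟩
    unfold Bo
    rw [X_add hB.hx, mul_assoc]
  · right
    refine ⟨r' + r, t, s, ?_⟩
    unfold Cc
    rw [X_add hB.hx]; group

theorem H_mul_mem (hB : Braid p x y) (t' : (ZMod p)ˣ) {g : D} (hg : g ∈ Yset x y p) :
    H x y (t' : ZMod p) * g ∈ Yset x y p := by
  have ht' : (t' : ZMod p) ≠ 0 := t'.ne_zero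
  rcases hg with ⟨r, t, rfl⟩ | ⟨r, t, s, rfl⟩
  · left
    refine ⟨(t' : ZMod p) * t' * r, t' * t, ?_⟩
    unfold Bo
    rw [Units.val_mul, H_mul hB ht' t.ne_zero, ← mul_assoc, H_mul_X hB ht', mul_assoc]
  · right
    refine ⟨(t' : ZMod p) * t' * r, t' * t, s, ?_⟩
    unfold Cc
    rw [Units.val_mul, H_mul hB ht' t.ne_zero]
    have := H_mul_X hB ht' r
    calc H x y (t' : ZMod p) * (X x r * H x y (t : ZMod p) * W x y (1 : ZMod p) * X x s)
        = (H x y (t' : ZMod p) * X x r) * H x y (t : ZMod p) * W x y (1 : ZMod p) * X x s := by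
          group
      _ = _ := by rw [this]; group

theorem w_mul_mem (hB : Braid p x y) {g : D} (hg : g ∈ Yset x y p) :
    W x y (1 : ZMod p) * g ∈ Yset x y p := by
  have hm1 : (-1 : ZMod p) ≠ 0 := neg_ne_zero.2 one_ne_zero
  rcases hg with ⟨r, t, rfl⟩ | ⟨r, t, s, rfl⟩
  · right
    have ht : (t : ZMod p) ≠ 0 := t.ne_zero
    refine ⟨0, t⁻¹, (t : ZMod p)⁻¹ * (t : ZMod p)⁻¹ * r, ?_⟩
    unfold Bo Cc
    rw [X_zero, one_mul, X_mul_H hB ht, ← mul_assoc, w_mul_H hB ht, Units.val_inv_eq_inv_val]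
  · have ht : (t : ZMod p) ≠ 0 := t.ne_zero
    have hti : ((t : ZMod p))⁻¹ ≠ 0 := inv_ne_zero ht
    by_cases hr : r = 0
    · left
      subst hr
      refine ⟨(-(t : ZMod p)⁻¹) * (-(t : ZMod p)⁻¹) * s, -t⁻¹, ?_⟩
      unfold Bo Cc
      rw [X_zero, one_mul]
      have e1 : W x y (1 : ZMod p) * (H x y (t : ZMod p) * W x y (1 : ZMod p) * X x s) =
          (W x y (1 : ZMod p) * H x y (t : ZMod p)) * W x y (1 : ZMod p) * X x s := by group
      rw [e1, w_mul_H hB ht]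
      have e2 : H x y (t : ZMod p)⁻¹ * W x y (1 : ZMod p) * W x y (1 : ZMod p) * X x s =
          H x y (t : ZMod p)⁻¹ * (W x y (1 : ZMod p) * W x y (1 : ZMod p)) * X x s := by group
      rw [e2, w_mul_w hB, ← H_mul hB hti hm1]
      have e3 : ((t : ZMod p))⁻¹ * -1 = -(t : ZMod p)⁻¹ := by ring
      rw [e3, H_mul_X hB (neg_ne_zero.2 hti)]
      have e4 : ((-t⁻¹ : (ZMod p)ˣ) : ZMod p) = -(t : ZMod p)⁻¹ := by
        rw [Units.val_neg, Units.val_inv_eq_inv_val]
      rw [e4]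
    · right
      have hri : r⁻¹ ≠ 0 := inv_ne_zero hr
      refine ⟨-r⁻¹, Units.mk0 (r⁻¹ * (-(t : ZMod p))) (mul_ne_zero hri (neg_ne_zero.2 ht)),
        s - (t : ZMod p) * (t : ZMod p) * r⁻¹, ?_⟩
      unfold Cc
      rw [Units.val_mk0]
      have e1 : W x y (1 : ZMod p) * (X x r * H x y (t : ZMod p) * W x y (1 : ZMod p) * X x s) =
          (W x y (1 : ZMod p) * X x r) * H x y (t : ZMod p) * W x y (1 : ZMod p) * X x s := by group
      rw [e1, w_mul_X hB hr]
      -- X(-r⁻¹) H(r⁻¹) w X(-r⁻¹) w H t w X s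
      have e2 : X x (-r⁻¹) * H x y r⁻¹ * W x y (1 : ZMod p) * X x (-r⁻¹) * W x y (1 : ZMod p) *
          H x y (t : ZMod p) * W x y (1 : ZMod p) * X x s =
          X x (-r⁻¹) * H x y r⁻¹ * W x y (1 : ZMod p) * X x (-r⁻¹) *
          ((W x y (1 : ZMod p) * H x y (t : ZMod p)) * W x y (1 : ZMod p)) * X x s := by group
      rw [e2, w_mul_H hB ht]
      have e3 : H x y (t : ZMod p)⁻¹ * W x y (1 : ZMod p) * W x y (1 : ZMod p) =
          H x y (-(t : ZMod p)⁻¹) := by
        rw [mul_assoc, w_mul_w hB, ← H_mul hB hti hm1]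
        congr 1; ring
      rw [e3]
      have hnt : -(t : ZMod p)⁻¹ ≠ 0 := neg_ne_zero.2 hti
      have e4 : X x (-r⁻¹) * H x y (-(t : ZMod p)⁻¹) =
          H x y (-(t : ZMod p)⁻¹) * X x (-((t : ZMod p) * (t : ZMod p) * r⁻¹)) := by
        rw [X_mul_H hB hnt]
        congr 2
        field_simp
      have e5 : X x (-r⁻¹) * H x y r⁻¹ * W x y (1 : ZMod p) * X x (-r⁻¹) *
          H x y (-(t : ZMod p)⁻¹) * X x s =
          X x (-r⁻¹) * H x y r⁻¹ * W x y (1 : ZMod p) * (X x (-r⁻¹) *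
          H x y (-(t : ZMod p)⁻¹)) * X x s := by group
      rw [e5, e4]
      have e6 : X x (-r⁻¹) * H x y r⁻¹ * W x y (1 : ZMod p) *
          (H x y (-(t : ZMod p)⁻¹) * X x (-((t : ZMod p) * (t : ZMod p) * r⁻¹))) * X x s =
          X x (-r⁻¹) * H x y r⁻¹ * (W x y (1 : ZMod p) * H x y (-(t : ZMod p)⁻¹)) *
          (X x (-((t : ZMod p) * (t : ZMod p) * r⁻¹)) * X x s) := by group
      rw [e6, w_mul_H hB hnt, ← X_add hB.hx]
      have e7 : (-(t : ZMod p)⁻¹)⁻¹ = -(t : ZMod p) := by rw [inv_neg, inv_inv]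
      rw [e7, H_mul hB hri (neg_ne_zero.2 ht)]
      have e8 : -((t : ZMod p) * (t : ZMod p) * r⁻¹) + s = s - (t : ZMod p) * (t : ZMod p) * r⁻¹ := by ring
      rw [e8]; group

theorem w_inv_mul_mem (hB : Braid p x y) {g : D} (hg : g ∈ Yset x y p) :
    (W x y (1 : ZMod p))⁻¹ * g ∈ Yset x y p := by
  rw [w_inv_eq hB, mul_assoc]
  have h1 := w_mul_mem hB hg
  have := H_mul_mem hB (-1 : (ZMod p)ˣ) h1
  simpa using this

theorem Y_mul_mem (hB : Braid p x y) (s : ZMod p) {g : D} (hg : g ∈ Yset x y p) :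
    X y s * g ∈ Yset x y p := by
  have h1 := W_conj_X hB (one_ne_zero (α := ZMod p)) (-s)
  have e1 : -(-s * (1 : ZMod p)⁻¹ * (1 : ZMod p)⁻¹) = s := by simp
  rw [e1] at h1
  rw [← h1]
  have : W x y (1 : ZMod p) * X x (-s) * (W x y (1 : ZMod p))⁻¹ * g =
      W x y (1 : ZMod p) * (X x (-s) * ((W x y (1 : ZMod p))⁻¹ * g)) := by group
  rw [this]
  exact w_mul_mem hB (X_mul_mem hB _ (w_inv_mul_mem hB hg))

theorem closure_subset_Yset (hB : Braid p x y) :
    ((Subgroup.closure ({x, y} : Set D) : Subgroup D) : Set D) ⊆ Yset x y p := by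
  intro g hg
  refine Subgroup.closure_induction_left (p := fun g _ => g ∈ Yset x y p) one_mem_Yset ?_ ?_ hg
  · intro z hz g _ hgY
    rcases hz with rfl | hz
    · have := X_mul_mem hB (1 : ZMod p) hgY
      rwa [X_one] at this
    · rw [Set.mem_singleton_iff] at hz
      subst hz
      have := Y_mul_mem hB (1 : ZMod p) hgY
      rwa [X_one] at this
  · intro z hz g _ hgY
    rcases hz with rfl | hz
    · have := X_mul_mem hB (-1 : ZMod p) hgY
      rwa [X_neg hB.hx, X_one] at this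
    · rw [Set.mem_singleton_iff] at hz
      subst hz
      have := Y_mul_mem hB (-1 : ZMod p) hgY
      rwa [X_neg hB.hy, X_one] at this

theorem Yset_finite_card : (Yset x y p).Finite ∧ (Yset x y p).ncard ≤ p * (p - 1) + p * (p - 1) * p := by
  classical
  set f₁ : ZMod p × (ZMod p)ˣ → D := fun q => Bo x y q.1 q.2 with hf₁
  set f₂ : ZMod p × (ZMod p)ˣ × ZMod p → D := fun q => Cc x y q.1 q.2.1 q.2.2 with hf₂
  have hsub : Yset x y p ⊆ ((Finset.univ.image f₁ ∪ Finset.univ.image f₂ : Finset D) : Set D) := by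
    intro g hg
    rw [Finset.coe_union, Finset.coe_image, Finset.coe_image]
    rcases hg with ⟨r, t, rfl⟩ | ⟨r, t, s, rfl⟩
    · left; exact ⟨(r, t), by simp, rfl⟩
    · right; exact ⟨(r, t, s), by simp, rfl⟩
  have hfin : (Yset x y p).Finite := Set.Finite.subset (Finset.finite_toSet _) hsub
  refine ⟨hfin, ?_⟩
  calc (Yset x y p).ncard ≤ ((Finset.univ.image f₁ ∪ Finset.univ.image f₂ : Finset D) : Set D).ncard :=
        Set.ncard_le_ncard hsub (Finset.finite_toSet _)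
    _ = (Finset.univ.image f₁ ∪ Finset.univ.image f₂ : Finset D).card := Set.ncard_coe_finset _
    _ ≤ (Finset.univ.image f₁).card + (Finset.univ.image f₂).card := Finset.card_union_le _ _
    _ ≤ (Finset.univ : Finset (ZMod p × (ZMod p)ˣ)).card +
        (Finset.univ : Finset (ZMod p × (ZMod p)ˣ × ZMod p)).card :=
        add_le_add Finset.card_image_le Finset.card_image_le
    _ = p * (p - 1) + p * (p - 1) * p := by
        rw [Finset.card_univ, Finset.card_univ, Fintype.card_prod, Fintype.card_prod,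
          Fintype.card_prod, ZMod.card, ZMod.card_units, mul_assoc]

/-- The order bound. -/
theorem card_closure_le (hB : Braid p x y) :
    Finite ↥(Subgroup.closure ({x, y} : Set D)) ∧
    Nat.card ↥(Subgroup.closure ({x, y} : Set D)) ≤ p * (p - 1) + p * (p - 1) * p := by
  obtain ⟨hfin, hcard⟩ := Yset_finite_card (x := x) (y := y) (p := p)
  have hsub := closure_subset_Yset hB
  have hfin' : ((Subgroup.closure ({x, y} : Set D) : Subgroup D) : Set D).Finite :=
    Set.Finite.subset hfin hsub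
  refine ⟨hfin'.to_subtype, ?_⟩
  have h1 : Nat.card ↥(Subgroup.closure ({x, y} : Set D)) =
      ((Subgroup.closure ({x, y} : Set D) : Subgroup D) : Set D).ncard := by
    rw [← Nat.card_coe_set_eq]; rfl
  rw [h1]
  exact le_trans (Set.ncard_le_ncard hsub hfin) hcard

end SL2p
end Cfsg.Agent.Helper25
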