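import Mathlib
import Cfsg.Agent.Lib.Helper25.SL2pA
import Cfsg.Agent.Lib.Helper25.SL2pD
import Cfsg.Agent.Lib.Helper25.SL2RankOne
import Cfsg.Agent.Lib.Helper12.SL2Upper

set_option autoImplicit false

namespace Cfsg.Agent.Helper25
namespace SL2p

open Matrix

variable {p : ℕ} [hp : Fact p.Prime]

theorem U_pow (k : Type*) [Field k] (s : k) (n : ℕ) : (SL2.U s) ^ n = SL2.U ((n : k) * s) := by
  induction n with
  | zero => simp [SL2.U_zero]
  | succ n ih => rw [pow_succ, ih, SL2.U_mul]; congr 1; push_cast; ring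

theorem L_pow (k : Type*) [Field k] (s : k) (n : ℕ) : (SL2.L s) ^ n = SL2.L ((n : k) * s) := by
  induction n with
  | zero => simp [SL2.L_zero]
  | succ n ih => rw [pow_succ, ih, SL2.L_mul]; congr 1; push_cast; ring

theorem X_U (t : ZMod p) : X (SL2.U (1 : ZMod p)) t = SL2.U t := by
  unfold X
  rw [U_pow, mul_one, ZMod.natCast_zmod_val]

theorem X_L (t : ZMod p) : X (SL2.L (1 : ZMod p)) t = SL2.L t := by
  unfold X
  rw [L_pow, mul_one, ZMod.natCast_zmod_val]

theorem braid_SL2 : Braid p (SL2.U (1 : ZMod p)) (SL2.L (1 : ZMod p)) := by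
  refine ⟨?_, ?_, ?_⟩
  · rw [U_pow, mul_one, ZMod.natCast_self, SL2.U_zero]
  · rw [L_pow, mul_one, ZMod.natCast_self, SL2.L_zero]
  · intro t ht
    rw [X_U, X_L]
    apply Subtype.ext
    rw [SL2.ULU_val, SL2.LUL_val]
    ext i j
    fin_cases i <;> fin_cases j <;> simp [ht]

theorem closure_SL2 : Subgroup.closure ({SL2.U (1 : ZMod p), SL2.L (1 : ZMod p)} :
    Set (SpecialLinearGroup (Fin 2) (ZMod p))) = ⊤ := by
  rw [eq_top_iff, ← SL2.sup_eq_top]
  refine sup_le ?_ ?_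
  · intro g hg
    obtain ⟨t, rfl⟩ := SL2.mem_lower_iff.mp hg
    have e : SL2.L t = (SL2.L (1 : ZMod p)) ^ t.val := (X_L t).symm
    have h := Subgroup.pow_mem _ (Subgroup.subset_closure (k := ({SL2.U (1 : ZMod p), SL2.L (1 : ZMod p)} :
      Set (SpecialLinearGroup (Fin 2) (ZMod p)))) (Set.mem_insert_of_mem _ rfl)) t.val
    rw [← e] at h
    exact h
  · intro g hg
    obtain ⟨t, rfl⟩ := SL2.mem_upper_iff.mp hg
    have e : SL2.U t = (SL2.U (1 : ZMod p)) ^ t.val := (X_U t).symm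
    have h := Subgroup.pow_mem _ (Subgroup.subset_closure (k := ({SL2.U (1 : ZMod p), SL2.L (1 : ZMod p)} :
      Set (SpecialLinearGroup (Fin 2) (ZMod p)))) (Set.mem_insert _ _)) t.val
    rw [← e] at h
    exact h

theorem card_SL2p : Nat.card (SpecialLinearGroup (Fin 2) (ZMod p)) = p * (p - 1) + p * (p - 1) * p := by
  rw [Cfsg.Agent.Helper12.card_SL2, ZMod.card]
  have h1 : 1 ≤ p := hp.out.one_lt.le
  obtain ⟨q, rfl⟩ : ∃ q, p = q + 1 := ⟨p - 1, by omega⟩
  simp only [Nat.add_sub_cancel]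
  have : (q + 1) ^ 2 - 1 = q * (q + 2) := by
    have : (q + 1) ^ 2 = q * (q + 2) + 1 := by ring
    rw [this, Nat.add_sub_cancel]
  rw [this]; ring

end SL2p
end Cfsg.Agent.Helper25
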