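import Mathlib
import Cfsg.Agent.Lib.Helper25.SL2pA
import Cfsg.Agent.Lib.Helper25.SL2pD
import Cfsg.Agent.Lib.Helper25.SL2pE

set_option autoImplicit false

namespace Cfsg.Agent.Helper25
namespace SL2p

open Matrix

variable {p : ℕ} [hp : Fact p.Prime] {G : Type*} [Group G]

theorem X_prod {S : Type*} [Group S] (a : G) (u : S) (t : ZMod p) :
    X ((a, u) : G × S) t = (X a t, X u t) := by
  unfold X
  rw [Prod.pow_mk]

theorem braid_prod {S : Type*} [Group S] {a b : G} {u l : S} (h1 : Braid p a b) (h2 : Braid p u l) :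
    Braid p ((a, u) : G × S) ((b, l) : G × S) := by
  refine ⟨?_, ?_, ?_⟩
  · rw [Prod.pow_mk, h1.hx, h2.hx]; rfl
  · rw [Prod.pow_mk, h1.hy, h2.hy]; rfl
  · intro t ht
    rw [X_prod, X_prod]
    simp only [Prod.mk_mul_mk]
    rw [h1.braid t ht, h2.braid t ht]

/-- A group generated by `a`, `b` satisfying the braid relations is a homomorphic image of `SL₂(p)`. -/
theorem exists_hom {a b : G} (hB : Braid p a b) :
    ∃ ψ : SpecialLinearGroup (Fin 2) (ZMod p) →* G,
      ψ.range = Subgroup.closure ({a, b} : Set G) ∧ ψ (SL2.U (1 : ZMod p)) = a ∧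
      ψ (SL2.L (1 : ZMod p)) = b := by
  set S := SpecialLinearGroup (Fin 2) (ZMod p) with hS
  set u : S := SL2.U (1 : ZMod p) with hu
  set l : S := SL2.L (1 : ZMod p) with hl
  have hB' : Braid p ((a, u) : G × S) ((b, l) : G × S) := braid_prod hB braid_SL2
  set Dg : Subgroup (G × S) := Subgroup.closure ({(a, u), (b, l)} : Set (G × S)) with hD
  obtain ⟨hfin, hcard⟩ := card_closure_le hB'
  haveI : Finite ↥Dg := hfin
  set π₂ : ↥Dg →* S := (MonoidHom.snd G S).comp Dg.subtype with hπ₂
  set π₁ : ↥Dg →* G := (MonoidHom.fst G S).comp Dg.subtype with hπ₁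
  have hr2 : π₂.range = ⊤ := by
    rw [hπ₂, MonoidHom.range_comp, Subgroup.range_subtype, hD, MonoidHom.map_closure]
    have : (MonoidHom.snd G S) '' ({(a, u), (b, l)} : Set (G × S)) = {u, l} := by
      rw [Set.image_insert_eq, Set.image_singleton]; rfl
    rw [this]
    exact closure_SL2
  have hr1 : π₁.range = Subgroup.closure ({a, b} : Set G) := by
    rw [hπ₁, MonoidHom.range_comp, Subgroup.range_subtype, hD, MonoidHom.map_closure]
    have : (MonoidHom.fst G S) '' ({(a, u), (b, l)} : Set (G × S)) = {a, b} := by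
      rw [Set.image_insert_eq, Set.image_singleton]; rfl
    rw [this]
  have hsurj : Function.Surjective π₂ := MonoidHom.range_eq_top.1 hr2
  have hcS : Nat.card S = p * (p - 1) + p * (p - 1) * p := card_SL2p
  have hbij : Function.Bijective π₂ := by
    rw [Nat.bijective_iff_surjective_and_card]
    refine ⟨hsurj, le_antisymm ?_ ?_⟩
    · rw [hcS]; exact hcard
    · exact Nat.card_le_card_of_surjective π₂ hsurj
  set e : ↥Dg ≃* S := MulEquiv.ofBijective π₂ hbij with he
  refine ⟨π₁.comp e.symm.toMonoidHom, ?_, ?_, ?_⟩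
  · rw [MonoidHom.range_comp]
    have : (e.symm.toMonoidHom).range = ⊤ := MonoidHom.range_eq_top.2 e.symm.surjective
    rw [this, ← MonoidHom.range_eq_map, hr1]
  · have hx : ((a, u) : G × S) ∈ Dg := Subgroup.subset_closure (Set.mem_insert _ _)
    have h1 : e ⟨(a, u), hx⟩ = u := rfl
    have h2 : e.symm u = ⟨(a, u), hx⟩ := e.symm_apply_eq.2 h1.symm
    show π₁ (e.symm u) = a
    rw [h2]; rfl
  · have hy : ((b, l) : G × S) ∈ Dg := Subgroup.subset_closure (Set.mem_insert_of_mem _ rfl)
    have h1 : e ⟨(b, l), hy⟩ = l := rfl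
    have h2 : e.symm l = ⟨(b, l), hy⟩ := e.symm_apply_eq.2 h1.symm
    show π₁ (e.symm l) = b
    rw [h2]; rfl

end SL2p
end Cfsg.Agent.Helper25
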