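import Mathlib
import Cfsg.Prelude.Def_RootSubgroups
import Cfsg.Prelude.Def_Transfer
import Cfsg.Agent.Lib.Helper25.SL2pA
import Cfsg.Agent.Lib.Helper25.SL2pF
import Cfsg.Agent.Lib.Helper25.SpecialRankOne
import Cfsg.Agent.Lib.Helper25.RankOneP1
import Cfsg.Agent.S5016
import Cfsg.Agent.S5017

set_option autoImplicit false

namespace Cfsg.Agent.Helper25
namespace SL2p

open Matrix SpecialRankOne

variable {p : ℕ} [hp : Fact p.Prime] {G : Type*} [Group G] {A B : Subgroup G}

/-- Part IV: a related pair in a special rank one pair with `A` of exponent `p` satisfies the braid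
relations. -/
theorem braid_of_rel (hs : Cfsg.IsSpecialRankOnePair A B) (hA : ∀ x ∈ A, x ^ p = 1) {a b : G}
    (hrel : Rel A B a b) : Braid p a b := by
  have hpr := hs.1
  have ha := hrel.1
  have hb := hrel.2.2.1
  have hap : a ^ p = 1 := hA a ha
  have hbp : b ^ p = 1 := (hrel.pow_eq_one_iff hs p).1 hap
  refine ⟨hap, hbp, ?_⟩
  intro t ht
  -- Rel (X a t) (X b t⁻¹)
  have hti : t⁻¹ ≠ 0 := inv_ne_zero ht
  set m := (t⁻¹).val with hm
  have hm0 : m ≠ 0 := by
    rw [hm]; intro h0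
    exact hti ((ZMod.val_eq_zero _).1 h0)
  have hbm : b ^ m ≠ 1 := by
    intro h0
    have hcop : Nat.Coprime m p := by
      rw [Nat.coprime_comm, Nat.Prime.coprime_iff_not_dvd hp.out]
      intro hdvd
      have := Nat.le_of_dvd (Nat.pos_of_ne_zero hm0) hdvd
      have h2 := ZMod.val_lt (t⁻¹)
      omega
    have h1 : orderOf b ∣ m := orderOf_dvd_of_pow_eq_one h0
    have h2 : orderOf b ∣ p := orderOf_dvd_of_pow_eq_one hbp
    have h3 : orderOf b ∣ 1 := by
      have := Nat.dvd_gcd h1 h2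
      rwa [hcop] at this
    have h4 : orderOf b = 1 := Nat.dvd_one.1 h3
    exact hrel.2.2.2.1 (orderOf_eq_one_iff.1 h4)
  obtain ⟨ψ, hψ⟩ := exists_left hpr (B.pow_mem hb m) hbm
  obtain ⟨j, hj⟩ : ∃ j, m = j + 1 := ⟨m - 1, by omega⟩
  have hk := kstar j A B hs a b ψ hrel (by rw [← hj]; exact hbm) (by rw [← hj]; exact hψ)
  rw [← hj] at hk
  -- ψ = X a t
  have hψp : ψ ^ p = 1 := hA ψ hψ.1
  have hψa : X a t = ψ := by
    unfold X
    rw [← hk, ← pow_mul]
    have h1 : ((m * t.val : ℕ) : ZMod p) = 1 := by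
      rw [Nat.cast_mul, hm, ZMod.natCast_zmod_val, ZMod.natCast_zmod_val, inv_mul_cancel₀ ht]
    have h2 := X_natCast hψp (m * t.val)
    rw [h1, X_one] at h2
    exact h2.symm
  have hrel' : Rel A B (X a t) (X b t⁻¹) := by
    rw [hψa]; exact hψ
  have hbr := RankOneP.braid hs hrel'
  rw [← X_neg hbp] at hbr
  exact hbr

theorem center_SL2_eq {F : Type*} [Field F]
    {z z' : SpecialLinearGroup (Fin 2) F} (hz : z ∈ Subgroup.center (SpecialLinearGroup (Fin 2) F))
    (hz' : z' ∈ Subgroup.center (SpecialLinearGroup (Fin 2) F)) (h1 : z ≠ 1) (h1' : z' ≠ 1) :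
    z = z' := by
  rw [Matrix.SpecialLinearGroup.mem_center_iff] at hz hz'
  obtain ⟨r, hr, hrz⟩ := hz
  obtain ⟨r', hr', hrz'⟩ := hz'
  rw [Fintype.card_fin] at hr hr'
  have key : ∀ r : F, r ^ 2 = 1 → r = 1 ∨ r = -1 := by
    intro r hr
    have : (r - 1) * (r + 1) = 0 := by ring_nf; rw [hr]; ring
    rcases mul_eq_zero.1 this with h | h
    · left; linear_combination h
    · right; linear_combination h
  have hne : ∀ (r : F) (z : SpecialLinearGroup (Fin 2) F), scalar (Fin 2) r = z → z ≠ 1 → r ≠ 1 := by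
    intro r z hrz h1 hr1
    apply h1
    apply Subtype.ext
    rw [← hrz, hr1]
    simp
  have e1 : r = -1 := (key r hr).resolve_left (hne r z hrz h1)
  have e2 : r' = -1 := (key r' hr').resolve_left (hne r' z' hrz' h1')
  apply Subtype.ext
  rw [← hrz, ← hrz', e1, e2]

theorem ker_eq_bot_or_center {F : Type*} [Field F] {K : Subgroup (SpecialLinearGroup (Fin 2) F)}
    (hK : K ≤ Subgroup.center (SpecialLinearGroup (Fin 2) F)) :
    K = ⊥ ∨ K = Subgroup.center (SpecialLinearGroup (Fin 2) F) := by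
  rcases K.bot_or_exists_ne_one with h | ⟨z₀, hz₀, hz₀1⟩
  · exact Or.inl h
  · right
    refine le_antisymm hK ?_
    intro z hz
    by_cases h1 : z = 1
    · rw [h1]; exact K.one_mem
    · rw [center_SL2_eq hz (hK hz₀) h1 hz₀1]; exact hz₀

/-- The main theorem: `⟨a, b⟩ ≅ SL₂(p)` or `PSL₂(p)`. -/
theorem closure_equiv (hs : Cfsg.IsSpecialRankOnePair A B) (hA : ∀ x ∈ A, x ^ p = 1) {a b : G}
    (hrel : Rel A B a b) :
    Nonempty (↥(Subgroup.closure ({a, b} : Set G)) ≃* SpecialLinearGroup (Fin 2) (ZMod p)) ∨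
    Nonempty (↥(Subgroup.closure ({a, b} : Set G)) ≃*
      ProjectiveSpecialLinearGroup (Fin 2) (ZMod p)) := by
  have hpr := hs.1
  have hB := braid_of_rel hs hA hrel
  obtain ⟨ψ, hrange, hψu, hψl⟩ := exists_hom hB
  have hker : ψ.ker ≤ Subgroup.center (SpecialLinearGroup (Fin 2) (ZMod p)) := by
    rcases (Cfsg.Agent.S5017.result (Cfsg.Agent.S5016.result (ZMod p)).1).1 ψ.ker inferInstance
      with h | h
    · exfalso
      have hu : SL2.U (1 : ZMod p) ∈ ψ.ker ⊔ Cfsg.lowerUnipotentSL2 (ZMod p) := by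
        rw [h]; exact Subgroup.mem_top _
      have h1 : ψ (SL2.U (1 : ZMod p)) ∈ (ψ.ker ⊔ Cfsg.lowerUnipotentSL2 (ZMod p)).map ψ :=
        ⟨_, hu, rfl⟩
      rw [Subgroup.map_sup] at h1
      have h2 : ψ.ker.map ψ = ⊥ := by
        rw [eq_bot_iff]
        rintro _ ⟨n, hn, rfl⟩
        rw [Subgroup.mem_bot]
        exact hn
      rw [h2, bot_sup_eq, hψu] at h1
      obtain ⟨g, hg, hga⟩ := h1
      obtain ⟨t, rfl⟩ := SL2.mem_lower_iff.mp hg
      have e : SL2.L t = (SL2.L (1 : ZMod p)) ^ t.val := (X_L t).symm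
      rw [e, map_pow, hψl] at hga
      have haB : a ∈ B := by rw [← hga]; exact B.pow_mem hrel.2.2.1 _
      have hbot := RankOne.inf_eq_bot hpr (RankOne.left_mem A B) (RankOne.right_mem hpr) hpr.ne
      have : a ∈ A ⊓ B := ⟨hrel.1, haB⟩
      rw [hbot, Subgroup.mem_bot] at this
      exact hrel.2.1 this
    · exact h
  rcases ker_eq_bot_or_center hker with h | h
  · left
    have hinj : Function.Injective ψ := (MonoidHom.ker_eq_bot_iff ψ).1 h
    exact ⟨((MonoidHom.ofInjective hinj).trans (MulEquiv.subgroupCongr hrange)).symm⟩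
  · right
    refine ⟨(((QuotientGroup.quotientMulEquivOfEq h.symm).trans
      (QuotientGroup.quotientKerEquivRange ψ)).trans (MulEquiv.subgroupCongr hrange)).symm⟩

end SL2p
end Cfsg.Agent.Helper25
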