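import Mathlib
import Cfsg.Agent.Lib.Helper23.SlhDefs
import Cfsg.Agent.Lib.Helper25.SLHGEXPCore
import Cfsg.Agent.Lib.Helper22.SlhE4ADD

/-!
# S3050 piece SLH-GEXP (helper25): transfer of SLH-E4ADD to an abelian `Γ`-group.
-/

set_option autoImplicit false
set_option linter.unusedSectionVars false
set_option linter.unusedVariables false

namespace Cfsg.Agent.Helper23.Slh

open Cfsg.Agent.Helper12.NatMod

local notation "SL2" => Matrix.SpecialLinearGroup (Fin 2)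

section PartG

variable {Γ : Type*} [Group Γ] {F : Type*} [Field F] {S : Sys Γ F}

/-- PIECE SLH-GEXP.  Transfer of SLH-E4ADD to an abelian `Γ`-group: `Z = {y | y * y = 1}`. -/
theorem exp_two_of_nf [Fintype F] [CharP F 2] (hF : ∃ s : F, s ≠ 0 ∧ s ≠ 1) {Q : Type*} [Group Q] [Finite Q]
    (A : GGrp S Q) (hcomm : ∀ a b : Q, a * b = b * a) (Z : Subgroup Q) [Z.Normal]
    (hZmem : ∀ y, y ∈ Z ↔ y * y = 1)
    (AZ : GGrp S ↥Z) (hAZ : ∀ (g : Γ) (z : ↥Z), ((AZ.φ g z : ↥Z) : Q) = A.φ g (z : Q))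
    (AQ : GGrp S (Q ⧸ Z)) (hAQ : ∀ (g : Γ) (y : Q), AQ.φ g (QuotientGroup.mk y) = QuotientGroup.mk (A.φ g y))
    (hZ : AZ.NF) (hQ : AQ.NF) : ∀ y : Q, y * y = 1 :=
  slh_gexp_core
    (fun c hc0 hc1 Q' _ Z' hZ' T B T' hTT hBB hTB kz ψZ kq ψQ hψQ hker hZT hZB hZT' hQT hQB hQT' =>
      exp4_add c hc0 hc1 Z' hZ' T B T' hTT hBB hTB ψZ ψQ hψQ hker hZT hZB hZT' hQT hQB hQT')
    hF A hcomm Z hZmem AZ hAZ AQ hAQ hZ hQ

end PartG

end Cfsg.Agent.Helper23.Slh
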