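import Mathlib
import Cfsg.Prelude.Def_Blocks
import Cfsg.Agent.Lib.Helper24.CharLinear
import Cfsg.Agent.Lib.Helper24.CharComplete
import Cfsg.Agent.Lib.Helper24.CharAlgebra
import Cfsg.Agent.Lib.Helper24.CharHom

/-!
# S3341 piece LIN (helper25): `two_le_degree`

A simple group with a subgroup of order 9 has no non-principal linear character.
-/

set_option autoImplicit false
set_option linter.unusedSectionVars false
set_option linter.unusedVariables false
set_option linter.style.haveILetI false

namespace Cfsg.Agent.Helper16.SSC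

open Cfsg Cfsg.Agent.Helper24
open scoped ComplexConjugate

universe u

namespace LIN

/-- a commutative simple group has no subgroup of order 9 -/
theorem not_comm {G : Type u} [Group G] [Finite G] [IsSimpleGroup G]
    (hcomm : ∀ a b : G, a * b = b * a) (P : Subgroup G) (hcard : Nat.card P = 9) : False := by
  have hnorm : ∀ H : Subgroup G, H.Normal := by
    intro H
    constructor
    intro n hn g
    rw [hcomm g n, mul_inv_cancel_right]
    exact hn
  have h9 : 9 ∣ Nat.card G := by
    rw [← hcard]
    exact Subgroup.card_subgroup_dvd_card P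
  haveI : Fact (Nat.Prime 3) := ⟨by norm_num⟩
  obtain ⟨x, hx⟩ := exists_prime_orderOf_dvd_card' (G := G) 3 (dvd_trans (by norm_num) h9)
  have hz : Nat.card (Subgroup.zpowers x) = 3 := by rw [Nat.card_zpowers, hx]
  rcases (hnorm (Subgroup.zpowers x)).eq_bot_or_eq_top with h | h
  · rw [h, Subgroup.card_bot] at hz
    omega
  · rw [h, Subgroup.card_top] at hz
    rw [hz] at h9
    omega

end LIN

section Chr

variable {G : Type u} [Group G] [Finite G] (P : Sylow 3 G)

/-- PIECE LIN: a simple group with a subgroup of order 9 has no non-principal linear character. -/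
theorem two_le_degree [IsSimpleGroup G] (hcard : Nat.card (P : Subgroup G) = 9)
    (χ : IrrCharacter G) (hχ : χ ≠ principalChar G) : 2 ≤ charDegree (χ : G → ℂ) := by
  by_contra hlt
  have hpos := charDegree_pos χ.2
  have h1 : charDegree (χ : G → ℂ) = 1 := by omega
  have hc : IsCharacter G (χ : G → ℂ) := isCharacter_of_isIrrCharacter χ.2
  have h11 : (χ : G → ℂ) 1 = 1 := by
    rw [irr_one_eq_charDegree χ.2, h1, Nat.cast_one]
  have hmul := char_mul_of_degree_one hc h11
  rcases (charKer_normal hc).eq_bot_or_eq_top with hb | ht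
  · -- faithful: `G` is commutative
    apply LIN.not_comm _ (P : Subgroup G) hcard
    intro a b
    have h2 : (χ : G → ℂ) (a * b * (b * a)⁻¹) = (χ : G → ℂ) 1 := by
      rw [hmul (a * b), hmul a b, mul_comm ((χ : G → ℂ) a), ← hmul b a, ← hmul, mul_inv_cancel]
    have h3 : a * b * (b * a)⁻¹ ∈ charKer hc := (mem_charKer hc _).mpr h2
    rw [hb, Subgroup.mem_bot] at h3
    rwa [mul_inv_eq_one] at h3
  · -- trivial
    apply hχ
    apply Subtype.ext
    funext g
    have hg : g ∈ charKer hc := by rw [ht]; trivial
    rw [mem_charKer] at hg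
    rw [hg, h11]
    rfl

end Chr

end Cfsg.Agent.Helper16.SSC
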