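import Mathlib

set_option autoImplicit false

namespace Cfsg.Agent.Helper25
namespace SUField

open Polynomial

variable {F : Type*} [Field F] [Fintype F]

/-- the data of a field with `q²` elements. -/
theorem exists_prime_pow {q : ℕ} (hF : Fintype.card F = q ^ 2) :
    ∃ (p k : ℕ), p.Prime ∧ CharP F p ∧ k ≠ 0 ∧ q = p ^ k := by
  obtain ⟨p, hchar, n, hp, hn⟩ := FiniteField.card' F
  have hq1 : q ≠ 1 := by
    rintro rfl
    have : 1 < Fintype.card F := Fintype.one_lt_card
    rw [hF] at this
    simp at this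
  have hdvd : q ∣ p ^ (n : ℕ) := by
    rw [← hn, hF]
    exact dvd_pow_self q two_ne_zero
  obtain ⟨k, _, hk⟩ := (Nat.dvd_prime_pow hp).1 hdvd
  refine ⟨p, k, hp, hchar, ?_, hk⟩
  rintro rfl
  exact hq1 (by simpa using hk)

/-- raising to the power `q` as a ring homomorphism. -/
def powHom (q : ℕ) (hq : q ≠ 0) (hadd : ∀ x y : F, (x + y) ^ q = x ^ q + y ^ q) : F →+* F where
  toFun x := x ^ q
  map_one' := one_pow q
  map_mul' x y := mul_pow x y q
  map_zero' := zero_pow hq
  map_add' := hadd

theorem powHom_apply (q : ℕ) (hq : q ≠ 0) (hadd : ∀ x y : F, (x + y) ^ q = x ^ q + y ^ q)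
    (x : F) : powHom q hq hadd x = x ^ q := rfl

theorem add_pow_q {p k : ℕ} (hp : p.Prime) [CharP F p] (x y : F) :
    (x + y) ^ (p ^ k) = x ^ (p ^ k) + y ^ (p ^ k) := by
  haveI := Fact.mk hp
  exact add_pow_char_pow x y p k

theorem pow_pow_q {q : ℕ} (hF : Fintype.card F = q ^ 2) (x : F) : (x ^ q) ^ q = x := by
  rw [← pow_mul, ← sq, ← hF, FiniteField.pow_card]

theorem exists_pow_ne {q : ℕ} (hF : Fintype.card F = q ^ 2) : ∃ a : F, a ^ q ≠ a := by
  have hq : 1 < q := by
    by_contra h
    have h1 : q ≤ 1 := not_lt.1 h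
    have h2 : q ^ 2 ≤ 1 := by
      calc q ^ 2 ≤ 1 ^ 2 := Nat.pow_le_pow_left h1 2
        _ = 1 := one_pow 2
    have : 1 < Fintype.card F := Fintype.one_lt_card
    omega
  by_contra hall
  push Not at hall
  have h1 : ∀ x : Fˣ, x ^ (q - 1) = 1 := by
    intro x
    apply Units.ext
    have h2 := hall (x : F)
    have h3 : (x : F) ^ (q - 1) * (x : F) = (x : F) := by
      rw [← pow_succ, Nat.sub_add_cancel hq.le, h2]
    have h4 : (x : F) ^ (q - 1) = 1 := by
      have := mul_right_cancel₀ x.ne_zero (h3.trans (one_mul _).symm)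
      exact this
    simpa using h4
  have h5 := (FiniteField.forall_pow_eq_one_iff F (q - 1)).1 h1
  rw [hF] at h5
  have h6 : q ^ 2 - 1 ≤ q - 1 := Nat.le_of_dvd (by omega) h5
  have h7 : q < q ^ 2 := by nlinarith
  omega


theorem div_aux {q : ℕ} (hq : 1 < q) : (q ^ 2 - 1) / (q - 1) = q + 1 := by
  obtain ⟨j, rfl⟩ : ∃ j, q = j + 2 := ⟨q - 2, by omega⟩
  apply Nat.div_eq_of_eq_mul_right (by omega)
  have : (j + 2) ^ 2 - 1 = (j + 2 - 1) * (j + 2 + 1) := by
    have h1 : j + 2 - 1 = j + 1 := by omega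
    rw [h1]
    have h2 : (j + 2) ^ 2 = (j + 1) * (j + 2 + 1) + 1 := by ring
    rw [h2]
    omega
  exact this

/-- the subfield with `q` elements, as a type in the lowest universe. -/
theorem exists_subfield {q : ℕ} (hF : Fintype.card F = q ^ 2) :
    ∃ (L : Type) (_ : Field L) (_ : Fintype L) (ιL : L →+* F), Fintype.card L = q ∧
      (∀ x : L, (ιL x) ^ q = ιL x) ∧ (∀ y : F, y ^ q = y → ∃ s : L, ιL s = y) ∧
      ∃ β : F, β * β ^ q = -1 := by
  obtain ⟨p, k, hp, hchar, hk, rfl⟩ := exists_prime_pow hF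
  haveI := Fact.mk hp
  letI : Fintype (GaloisField p k) := Fintype.ofFinite _
  have hcard : Fintype.card (GaloisField p k) = p ^ k := by
    rw [Fintype.card_eq_nat_card, GaloisField.card p k hk]
  letI : Algebra (ZMod p) F := ZMod.algebra F p
  have hfin : Module.finrank (ZMod p) F = 2 * k := by
    have h1 := FiniteField.pow_finrank_eq_card p F
    rw [hF, ← pow_mul, mul_comm] at h1
    exact Nat.pow_right_injective hp.two_le h1
  obtain ⟨f⟩ := FiniteField.nonempty_algHom_of_finrank_dvd (F := ZMod p) (K := GaloisField p k)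
    (L := F) (by rw [GaloisField.finrank p hk, hfin]; exact dvd_mul_left k 2)
  have hq1 : 1 < p ^ k := Nat.one_lt_pow hk hp.one_lt
  refine ⟨GaloisField p k, inferInstance, inferInstance, f.toRingHom, hcard, ?_, ?_, ?_⟩
  · intro x
    rw [← map_pow, ← hcard, FiniteField.pow_card]
  · intro y hy
    have hne : (X ^ (p ^ k) - X : F[X]) ≠ 0 := FiniteField.X_pow_card_sub_X_ne_zero F hq1
    have hroot : y ∈ (X ^ (p ^ k) - X : F[X]).roots := by
      rw [mem_roots hne, IsRoot.def, eval_sub, eval_pow, eval_X, hy, sub_self]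
    have hmap : (X ^ (p ^ k) - X : (GaloisField p k)[X]).map f.toRingHom =
        (X ^ (p ^ k) - X : F[X]) := by
      rw [Polynomial.map_sub, Polynomial.map_pow, Polynomial.map_X]
    have hr : (X ^ (p ^ k) - X : (GaloisField p k)[X]).roots = Finset.univ.val := by
      rw [← hcard]
      exact FiniteField.roots_X_pow_card_sub_X (GaloisField p k)
    have hcardroots : Multiset.card (X ^ (p ^ k) - X : (GaloisField p k)[X]).roots =
        (X ^ (p ^ k) - X : (GaloisField p k)[X]).natDegree := by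
      rw [hr, FiniteField.X_pow_card_sub_X_natDegree_eq _ hq1]
      show Fintype.card (GaloisField p k) = p ^ k
      exact hcard
    have h2 := roots_map_of_injective_of_card_eq_natDegree f.toRingHom.injective hcardroots
    rw [hmap, hr] at h2
    rw [← h2, Multiset.mem_map] at hroot
    obtain ⟨s, _, hs⟩ := hroot
    exact ⟨s, hs⟩
  · letI : Algebra (GaloisField p k) F := f.toRingHom.toAlgebra
    obtain ⟨x, hx⟩ := FiniteField.norm_surjective (GaloisField p k) F (-1)
    have h3 := FiniteField.algebraMap_norm_eq_pow (K := GaloisField p k) (K' := F) (x := x)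
    rw [hx, map_neg, map_one, ← Fintype.card_eq_nat_card, ← Fintype.card_eq_nat_card, hF, hcard,
      div_aux hq1] at h3
    exact ⟨x, by rw [← pow_succ', ← h3]⟩

end SUField
end Cfsg.Agent.Helper25
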