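import Mathlib
import Cfsg.Prelude.Def_RootSubgroups
import Cfsg.Agent.Lib.Helper25.RootSL3

set_option autoImplicit false

namespace Cfsg.Agent.Helper25
namespace SURoot

open Matrix

variable {ι : Type*} [Fintype ι] [DecidableEq ι] {F : Type*} [Field F]

/-- the conjugate vector. -/
def bar (σ : F →+* F) (v : ι → F) : ι → F := fun i => σ (v i)

/-- the Hermitian form `Σ uᵢ σ(vᵢ)`. -/
def hf (σ : F →+* F) (u v : ι → F) : F := u ⬝ᵥ bar σ v

variable (σ : F →+* F)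

theorem bar_add (u v : ι → F) : bar σ (u + v) = bar σ u + bar σ v := by
  ext i; simp [bar]

theorem bar_smul (c : F) (v : ι → F) : bar σ (c • v) = σ c • bar σ v := by
  ext i; simp [bar]

theorem bar_zero : bar σ (0 : ι → F) = 0 := by
  ext i; simp [bar]

theorem bar_ne_zero {v : ι → F} (hv : v ≠ 0) : bar σ v ≠ 0 := by
  obtain ⟨i, hi⟩ := Function.ne_iff.1 hv
  intro h
  have := congrFun h i
  simp only [bar, Pi.zero_apply] at this
  exact hi ((map_eq_zero σ).1 this)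

theorem bar_dot (u v : ι → F) : bar σ v ⬝ᵥ u = hf σ u v := dotProduct_comm _ _

theorem hf_add_left (u u' v : ι → F) : hf σ (u + u') v = hf σ u v + hf σ u' v :=
  add_dotProduct _ _ _

theorem hf_smul_left (c : F) (u v : ι → F) : hf σ (c • u) v = c * hf σ u v := by
  unfold hf
  rw [smul_dotProduct, smul_eq_mul]

theorem hf_add_right (u v v' : ι → F) : hf σ u (v + v') = hf σ u v + hf σ u v' := by
  unfold hf
  rw [bar_add, dotProduct_add]

theorem hf_smul_right (c : F) (u v : ι → F) : hf σ u (c • v) = σ c * hf σ u v := by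
  unfold hf
  rw [bar_smul, dotProduct_smul, smul_eq_mul]

theorem hf_zero_left (v : ι → F) : hf σ 0 v = 0 := zero_dotProduct _

theorem hf_zero_right (u : ι → F) : hf σ u 0 = 0 := by
  unfold hf
  rw [bar_zero, dotProduct_zero]

variable {σ}

theorem hf_swap (hσ : ∀ x, σ (σ x) = x) (u v : ι → F) : σ (hf σ u v) = hf σ v u := by
  unfold hf dotProduct bar
  rw [map_sum]
  apply Finset.sum_congr rfl
  intro i _
  rw [map_mul, hσ, mul_comm]

theorem hf_self_fixed (hσ : ∀ x, σ (σ x) = x) (v : ι → F) : σ (hf σ v v) = hf σ v v :=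
  hf_swap hσ v v

theorem hf_eq_zero_swap (hσ : ∀ x, σ (σ x) = x) {u v : ι → F} (h : hf σ u v = 0) :
    hf σ v u = 0 := by
  rw [← hf_swap hσ, h, map_zero]

theorem hf_ne_zero_swap (hσ : ∀ x, σ (σ x) = x) {u v : ι → F} (h : hf σ u v ≠ 0) :
    hf σ v u ≠ 0 := fun h' => h (hf_eq_zero_swap hσ h')

theorem exists_hf_eq_one {v : ι → F} (hv : v ≠ 0) : ∃ w : ι → F, hf σ w v = 1 := by
  obtain ⟨i, hi⟩ := Function.ne_iff.1 hv
  have hi' : σ (v i) ≠ 0 := by
    intro h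
    exact hi ((map_eq_zero σ).1 h)
  refine ⟨Pi.single i (σ (v i))⁻¹, ?_⟩
  unfold hf
  rw [single_dotProduct]
  show (σ (v i))⁻¹ * σ (v i) = 1
  exact inv_mul_cancel₀ hi'

theorem exists_hf_ne_two {p r : ι → F} (hp : p ≠ 0) (hr : r ≠ 0) :
    ∃ w : ι → F, hf σ w p ≠ 0 ∧ hf σ w r ≠ 0 := by
  obtain ⟨w₁, h₁⟩ := exists_hf_eq_one (σ := σ) hp
  obtain ⟨w₂, h₂⟩ := exists_hf_eq_one (σ := σ) hr
  by_cases h3 : hf σ w₁ r = 0
  · by_cases h4 : hf σ w₂ p = 0
    · refine ⟨w₁ + w₂, ?_, ?_⟩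
      · rw [hf_add_left, h₁, h4, add_zero]; exact one_ne_zero
      · rw [hf_add_left, h₂, h3, zero_add]; exact one_ne_zero
    · exact ⟨w₂, h4, by rw [h₂]; exact one_ne_zero⟩
  · exact ⟨w₁, by rw [h₁]; exact one_ne_zero, h3⟩

/-- a unitary transvection preserves the form. -/
theorem tmat_unitary (hσ : ∀ x, σ (σ x) = x) {p : ι → F} (hp : hf σ p p = 0) {c : F}
    (hc : σ c = -c) (u v : ι → F) :
    hf σ (RootSL.tmat p (bar σ p) c *ᵥ u) (RootSL.tmat p (bar σ p) c *ᵥ v) = hf σ u v := by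
  rw [RootSL.tmat_mulVec, RootSL.tmat_mulVec, bar_dot, bar_dot, hf_add_left, hf_add_right,
    hf_add_right, hf_smul_left, hf_smul_left, hf_smul_right, hf_smul_right, hp, map_mul, hc,
    hf_swap hσ]
  ring

/-- the subgroup `H` is the group of isometries of the form. -/
def IsUni (σ : F →+* F) (H : Subgroup (SpecialLinearGroup ι F)) : Prop :=
  ∀ g : SpecialLinearGroup ι F, g ∈ H ↔
    ∀ u v : ι → F, hf σ ((g : Matrix ι ι F) *ᵥ u) ((g : Matrix ι ι F) *ᵥ v) = hf σ u v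

theorem bar_vecMul_inv {H : Subgroup (SpecialLinearGroup ι F)} (hH : IsUni σ H)
    {g : SpecialLinearGroup ι F} (hg : g ∈ H) (p : ι → F) :
    bar σ p ᵥ* ((g⁻¹ : SpecialLinearGroup ι F) : Matrix ι ι F) =
      bar σ ((g : Matrix ι ι F) *ᵥ p) := by
  apply dotProduct_eq
  intro x
  rw [← dotProduct_mulVec, bar_dot, bar_dot, ← (hH g).1 hg, mulVec_mulVec, RootSL.val_mul_inv,
    one_mulVec]

theorem isotropic_mulVec {H : Subgroup (SpecialLinearGroup ι F)} (hH : IsUni σ H)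
    {g : SpecialLinearGroup ι F} (hg : g ∈ H) {p : ι → F} (hp : hf σ p p = 0) :
    hf σ ((g : Matrix ι ι F) *ᵥ p) ((g : Matrix ι ι F) *ᵥ p) = 0 := by
  rw [(hH g).1 hg, hp]

theorem T_mem (hσ : ∀ x, σ (σ x) = x) {H : Subgroup (SpecialLinearGroup ι F)} (hH : IsUni σ H)
    {p : ι → F} (hp : hf σ p p = 0) (hfv : bar σ p ⬝ᵥ p = 0) {c : F} (hc : σ c = -c) :
    RootSL.T p (bar σ p) hfv c ∈ H :=
  (hH _).2 (tmat_unitary hσ hp hc)

end SURoot
end Cfsg.Agent.Helper25
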