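import Mathlib
import Cfsg.Prelude.Def_RootSubgroups
import Cfsg.Agent.Lib.Helper25.SURoot1
import Cfsg.Agent.Lib.Helper25.RootTransfer

set_option autoImplicit false

namespace Cfsg.Agent.Helper25
namespace SURoot

open Matrix
open scoped commutatorElement

variable {ι : Type*} [Fintype ι] [DecidableEq ι] {F : Type*} [Field F] {σ : F →+* F}

theorem hfv_of {p : ι → F} (hp : hf σ p p = 0) : bar σ p ⬝ᵥ p = 0 := by
  rw [bar_dot]; exact hp

/-- the group of unitary transvections with centre `p`. -/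
def US (H : Subgroup (SpecialLinearGroup ι F)) (σ : F →+* F) (p : ι → F) (hp : hf σ p p = 0) :
    Subgroup ↥H where
  carrier := {g | ∃ c : F, σ c = -c ∧
    ((g : SpecialLinearGroup ι F) : Matrix ι ι F) = RootSL.tmat p (bar σ p) c}
  mul_mem' := by
    rintro a b ⟨c, hc, hac⟩ ⟨d, hd, hbd⟩
    refine ⟨c + d, by rw [map_add, hc, hd, neg_add], ?_⟩
    show ((a : SpecialLinearGroup ι F) : Matrix ι ι F) * ((b : SpecialLinearGroup ι F) : Matrix ι ι F) = _
    rw [hac, hbd, RootSL.tmat_mul_same p (bar σ p) (hfv_of hp)]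
  one_mem' := ⟨0, by rw [map_zero, neg_zero], by rw [RootSL.tmat_zero]; rfl⟩
  inv_mem' := by
    rintro a ⟨c, hc, hac⟩
    refine ⟨-c, by rw [map_neg, hc], ?_⟩
    have : (a : SpecialLinearGroup ι F) = RootSL.T p (bar σ p) (hfv_of hp) c := Subtype.ext hac
    show (((a : SpecialLinearGroup ι F)⁻¹ : SpecialLinearGroup ι F) : Matrix ι ι F) = _
    rw [this, RootSL.T_inv]
    rfl

variable {H : Subgroup (SpecialLinearGroup ι F)}

theorem mem_US {p : ι → F} {hp : hf σ p p = 0} {g : ↥H} :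
    g ∈ US H σ p hp ↔ ∃ c : F, σ c = -c ∧
      ((g : SpecialLinearGroup ι F) : Matrix ι ι F) = RootSL.tmat p (bar σ p) c := Iff.rfl

/-- the statement's generating set is the root group. -/
theorem gen_set_eq (hσ : ∀ x, σ (σ x) = x) (hH : IsUni σ H) {p : ι → F} (hp0 : p ≠ 0)
    (hp : hf σ p p = 0) :
    {g : ↥H | (∀ v : ι → F, ∃ c : F,
        ((g : SpecialLinearGroup ι F) : Matrix ι ι F) *ᵥ v = v + c • p) ∧
      ∀ v : ι → F, hf σ v p = 0 → ((g : SpecialLinearGroup ι F) : Matrix ι ι F) *ᵥ v = v} =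
    (US H σ p hp : Set ↥H) := by
  ext g
  constructor
  · rintro ⟨h1, h2⟩
    obtain ⟨w, hw⟩ := exists_hf_eq_one (σ := σ) hp0
    obtain ⟨c₀, hc₀⟩ := h1 w
    have hmat : ∀ v : ι → F, ((g : SpecialLinearGroup ι F) : Matrix ι ι F) *ᵥ v =
        v + (c₀ * hf σ v p) • p := by
      intro v
      have hv : hf σ (v - hf σ v p • w) p = 0 := by
        rw [sub_eq_add_neg, hf_add_left, ← neg_smul, hf_smul_left, hw]
        ring
      have h3 := h2 _ hv
      rw [mulVec_sub, mulVec_smul, hc₀] at h3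
      have : ((g : SpecialLinearGroup ι F) : Matrix ι ι F) *ᵥ v =
          v - hf σ v p • w + hf σ v p • (w + c₀ • p) := by
        rw [← h3]; abel
      rw [this, smul_add, smul_smul, mul_comm c₀]
      abel
    have hc : σ c₀ = -c₀ := by
      have h4 := (hH _).1 g.2 w w
      rw [hc₀, hf_add_left, hf_add_right, hf_add_right, hf_smul_left, hf_smul_left,
        hf_smul_right, hf_smul_right, hp, hw, ← hf_swap hσ w p, hw, map_one] at h4
      have : σ c₀ + c₀ = 0 := by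
        have h5 : hf σ w w + σ c₀ * 1 + (c₀ * 1 + c₀ * (σ c₀ * 0)) - hf σ w w = 0 := by
          rw [h4, sub_self]
        rw [← h5]; ring
      exact eq_neg_of_add_eq_zero_left this
    refine ⟨c₀, hc, ?_⟩
    apply Matrix.ext_iff_mulVec.2
    intro v
    rw [hmat v, RootSL.tmat_mulVec, bar_dot]
  · rintro ⟨c, hc, hg⟩
    constructor
    · intro v
      refine ⟨c * hf σ v p, ?_⟩
      rw [hg, RootSL.tmat_mulVec, bar_dot]
    · intro v hv
      rw [hg, RootSL.tmat_mulVec, bar_dot, hv, mul_zero, zero_smul, add_zero]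

theorem closure_eq_US (hσ : ∀ x, σ (σ x) = x) (hH : IsUni σ H) {p : ι → F} (hp0 : p ≠ 0)
    (hp : hf σ p p = 0) :
    Subgroup.closure {g : ↥H | (∀ v : ι → F, ∃ c : F,
        ((g : SpecialLinearGroup ι F) : Matrix ι ι F) *ᵥ v = v + c • p) ∧
      ∀ v : ι → F, hf σ v p = 0 → ((g : SpecialLinearGroup ι F) : Matrix ι ι F) *ᵥ v = v} =
    US H σ p hp := by
  rw [gen_set_eq hσ hH hp0 hp]
  exact Subgroup.closure_eq _

/-- the unitary transvection as an element of `H`. -/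
def Tu (hσ : ∀ x, σ (σ x) = x) (hH : IsUni σ H) {p : ι → F} (hp : hf σ p p = 0) {c : F}
    (hc : σ c = -c) : ↥H :=
  ⟨RootSL.T p (bar σ p) (hfv_of hp) c, T_mem hσ hH hp (hfv_of hp) hc⟩

theorem Tu_mem (hσ : ∀ x, σ (σ x) = x) (hH : IsUni σ H) {p : ι → F} (hp : hf σ p p = 0) {c : F}
    (hc : σ c = -c) : Tu hσ hH hp hc ∈ US H σ p hp := ⟨c, hc, rfl⟩

theorem map_US_le {p : ι → F} (hp : hf σ p p = 0) :
    (US H σ p hp).map H.subtype ≤ RootSL.R p (bar σ p) := by
  rintro _ ⟨g, ⟨c, _, hg⟩, rfl⟩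
  rw [RootSL.mem_R (hfv_of hp)]
  exact ⟨c, hg⟩

theorem US_comm {p : ι → F} (hp : hf σ p p = 0) : IsMulCommutative (US H σ p hp) := by
  refine ⟨⟨?_⟩⟩
  rintro ⟨a, c, hc, hac⟩ ⟨b, d, hd, hbd⟩
  apply Subtype.ext
  apply Subtype.ext
  apply Subtype.ext
  show ((a : SpecialLinearGroup ι F) : Matrix ι ι F) * ((b : SpecialLinearGroup ι F) : Matrix ι ι F) =
    ((b : SpecialLinearGroup ι F) : Matrix ι ι F) * ((a : SpecialLinearGroup ι F) : Matrix ι ι F)
  rw [hac, hbd, RootSL.tmat_mul_same p (bar σ p) (hfv_of hp),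
    RootSL.tmat_mul_same p (bar σ p) (hfv_of hp), add_comm]

theorem US_ne_bot (hσ : ∀ x, σ (σ x) = x) (hH : IsUni σ H) {p : ι → F} (hp0 : p ≠ 0)
    (hp : hf σ p p = 0) {ε : F} (hε : σ ε = -ε) (hε0 : ε ≠ 0) : US H σ p hp ≠ ⊥ := by
  intro h
  have h1 : Tu hσ hH hp hε ∈ US H σ p hp := Tu_mem hσ hH hp hε
  rw [h, Subgroup.mem_bot] at h1
  have h2 : RootSL.T p (bar σ p) (hfv_of hp) ε = 1 := congrArg Subtype.val h1
  exact hε0 ((RootSL.T_eq_one_iff hp0 (bar_ne_zero σ hp0) (hfv_of hp) ε).1 h2)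

/-- conjugation moves the centre. -/
theorem conjBy_US (hH : IsUni σ H) {p : ι → F} (hp : hf σ p p = 0) (g : ↥H) :
    Cfsg.conjBy (US H σ p hp) g =
      US H σ (((g : SpecialLinearGroup ι F) : Matrix ι ι F) *ᵥ p) (isotropic_mulVec hH g.2 hp) := by
  ext x
  rw [mem_conjBy, mem_US, mem_US]
  constructor
  · rintro ⟨c, hc, hx⟩
    refine ⟨c, hc, ?_⟩
    have hx' : x = g * (g⁻¹ * x * g) * g⁻¹ := by group
    have : ((x : SpecialLinearGroup ι F) : Matrix ι ι F) =
        ((g : SpecialLinearGroup ι F) : Matrix ι ι F) *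
          (((g⁻¹ * x * g : ↥H) : SpecialLinearGroup ι F) : Matrix ι ι F) *
          (((g : SpecialLinearGroup ι F)⁻¹ : SpecialLinearGroup ι F) : Matrix ι ι F) := by
      conv_lhs => rw [hx']
      rfl
    rw [this, hx, RootSL.conj_tmat, bar_vecMul_inv hH g.2]
  · rintro ⟨c, hc, hx⟩
    refine ⟨c, hc, ?_⟩
    show (((g : SpecialLinearGroup ι F)⁻¹ : SpecialLinearGroup ι F) : Matrix ι ι F) *
      ((x : SpecialLinearGroup ι F) : Matrix ι ι F) *
      ((g : SpecialLinearGroup ι F) : Matrix ι ι F) = _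
    rw [hx]
    have h := RootSL.conj_tmat (g : SpecialLinearGroup ι F)⁻¹
      (((g : SpecialLinearGroup ι F) : Matrix ι ι F) *ᵥ p)
      (bar σ (((g : SpecialLinearGroup ι F) : Matrix ι ι F) *ᵥ p)) c
    rw [inv_inv] at h
    rw [h, mulVec_mulVec, RootSL.val_inv_mul, one_mulVec, ← bar_vecMul_inv hH g.2,
      vecMul_vecMul, RootSL.val_inv_mul, vecMul_one]

/-- scaling the centre does not change the group. -/
theorem US_smul (hσ : ∀ x, σ (σ x) = x) {p : ι → F} (hp : hf σ p p = 0) {a : F} (ha : a ≠ 0)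
    (hp' : hf σ (a • p) (a • p) = 0) : US H σ (a • p) hp' = US H σ p hp := by
  have hfix : σ (a * σ a) = a * σ a := by rw [map_mul, hσ, mul_comm]
  have hne : a * σ a ≠ 0 := mul_ne_zero ha (fun h => ha ((map_eq_zero σ).1 h))
  have key : ∀ c : F, RootSL.tmat (a • p) (bar σ (a • p)) c =
      RootSL.tmat p (bar σ p) (c * (a * σ a)) := by
    intro c
    rw [bar_smul, RootSL.tmat_smul_left, RootSL.tmat_smul_right, mul_assoc]
  ext g
  rw [mem_US, mem_US]
  constructor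
  · rintro ⟨c, hc, hg⟩
    refine ⟨c * (a * σ a), by rw [map_mul, hc, hfix, neg_mul], ?_⟩
    rw [hg, key]
  · rintro ⟨c, hc, hg⟩
    refine ⟨c * (a * σ a)⁻¹, by rw [map_mul, map_inv₀, hc, hfix, neg_mul], ?_⟩
    rw [hg, key, mul_assoc, inv_mul_cancel₀ hne, mul_one]

/-- orthogonal centres give commuting groups. -/
theorem comm_eq_bot_of (hσ : ∀ x, σ (σ x) = x) {p r : ι → F} (hp : hf σ p p = 0)
    (hr : hf σ r r = 0) (h : hf σ p r = 0) : ⁅US H σ p hp, US H σ r hr⁆ = ⊥ := by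
  apply RootTransfer.commutator_eq_bot_of_map (Subgroup.subtype_injective H)
  rw [eq_bot_iff]
  refine le_trans (Subgroup.commutator_mono (map_US_le hp) (map_US_le hr)) ?_
  rw [RootSL.comm_eq_bot (hfv_of hp) (hfv_of hr)]
  · rw [bar_dot]; exact hf_eq_zero_swap hσ h
  · rw [bar_dot]; exact h

end SURoot
end Cfsg.Agent.Helper25
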