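import Mathlib
import Cfsg.Prelude.Def_RootSubgroups
import Cfsg.Agent.Lib.Helper25.SURoot2
import Cfsg.Agent.Lib.Helper25.RootSL2

set_option autoImplicit false

namespace Cfsg.Agent.Helper25
namespace SURoot

open Matrix
open scoped commutatorElement

variable {ι : Type*} [Fintype ι] [DecidableEq ι] {F : Type*} [Field F] {σ : F →+* F}
variable {L : Type*} [Field L]

theorem map_U (ιL : L →+* F) (s : L) :
    SpecialLinearGroup.map ιL (SL2.U s) = SL2.U (ιL s) := by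
  apply Subtype.ext
  ext i j
  show ιL ((SL2.U s : Matrix (Fin 2) (Fin 2) L) i j) = (SL2.U (ιL s) : Matrix (Fin 2) (Fin 2) F) i j
  fin_cases i <;> fin_cases j <;> simp [SL2.U_val]

theorem map_L (ιL : L →+* F) (s : L) :
    SpecialLinearGroup.map ιL (SL2.L s) = SL2.L (ιL s) := by
  apply Subtype.ext
  ext i j
  show ιL ((SL2.L s : Matrix (Fin 2) (Fin 2) L) i j) = (SL2.L (ιL s) : Matrix (Fin 2) (Fin 2) F) i j
  fin_cases i <;> fin_cases j <;> simp [SL2.L_val]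

theorem map_injective (ιL : L →+* F) :
    Function.Injective (SpecialLinearGroup.map (n := Fin 2) ιL) := by
  intro g g' h
  apply Subtype.ext
  ext i j
  have h1 : ιL ((g : Matrix (Fin 2) (Fin 2) L) i j) = ιL ((g' : Matrix (Fin 2) (Fin 2) L) i j) := by
    have := congrArg (fun x : SpecialLinearGroup (Fin 2) F => (x : Matrix (Fin 2) (Fin 2) F) i j) h
    exact this
  exact ιL.injective h1

/-- normalized data for a hyperbolic pair. -/
structure NormPair (σ : F →+* F) (p r : ι → F) (ε : F) : Prop where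
  hp : hf σ p p = 0
  hr : hf σ r r = 0
  hε : σ ε = -ε
  hε0 : ε ≠ 0
  hrp : hf σ r p = ε⁻¹

theorem NormPair.pairing {p r : ι → F} {ε : F} (N : NormPair σ p r ε) (hσ : ∀ x, σ (σ x) = x) :
    RootSL.Pairing p r (-ε • bar σ r) (ε • bar σ p) := by
  refine ⟨?_, ?_, ?_, ?_⟩
  · rw [smul_dotProduct, bar_dot, ← hf_swap hσ, N.hrp, map_inv₀, N.hε, smul_eq_mul,
      mul_inv_cancel₀ (neg_ne_zero.2 N.hε0)]
  · rw [smul_dotProduct, bar_dot, N.hr, smul_zero]
  · rw [smul_dotProduct, bar_dot, N.hp, smul_zero]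
  · rw [smul_dotProduct, bar_dot, N.hrp, smul_eq_mul, mul_inv_cancel₀ N.hε0]

/-- the embedding of `SL₂(L)` into the special linear group. -/
noncomputable def phi0 {p r : ι → F} {ε : F} (N : NormPair σ p r ε) (hσ : ∀ x, σ (σ x) = x)
    (ιL : L →+* F) : SpecialLinearGroup (Fin 2) L →* SpecialLinearGroup ι F :=
  (N.pairing hσ).rho.comp (SpecialLinearGroup.map ιL)

theorem phi0_U {p r : ι → F} {ε : F} (N : NormPair σ p r ε) (hσ : ∀ x, σ (σ x) = x)
    (ιL : L →+* F) (s : L) :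
    ((phi0 N hσ ιL (SL2.U s) : SpecialLinearGroup ι F) : Matrix ι ι F) =
      RootSL.tmat p (bar σ p) (ιL s * ε) := by
  show (((N.pairing hσ).rho (SpecialLinearGroup.map ιL (SL2.U s)) : SpecialLinearGroup ι F) :
    Matrix ι ι F) = _
  rw [map_U, RootSL.Pairing.rho_U, RootSL.T_val, RootSL.tmat_smul_right]

theorem phi0_L {p r : ι → F} {ε : F} (N : NormPair σ p r ε) (hσ : ∀ x, σ (σ x) = x)
    (ιL : L →+* F) (s : L) :
    ((phi0 N hσ ιL (SL2.L s) : SpecialLinearGroup ι F) : Matrix ι ι F) =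
      RootSL.tmat r (bar σ r) (ιL s * -ε) := by
  show (((N.pairing hσ).rho (SpecialLinearGroup.map ιL (SL2.L s)) : SpecialLinearGroup ι F) :
    Matrix ι ι F) = _
  rw [map_L, RootSL.Pairing.rho_L, RootSL.T_val, RootSL.tmat_smul_right]

theorem phi0_injective {p r : ι → F} {ε : F} (N : NormPair σ p r ε) (hσ : ∀ x, σ (σ x) = x)
    (ιL : L →+* F) : Function.Injective (phi0 N hσ ιL) := by
  intro g g' h
  exact map_injective ιL ((N.pairing hσ).rho_injective h)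

variable {H : Subgroup (SpecialLinearGroup ι F)}

theorem phi0_mem {p r : ι → F} {ε : F} (N : NormPair σ p r ε) (hσ : ∀ x, σ (σ x) = x)
    (hH : IsUni σ H) (ιL : L →+* F) (hfix : ∀ x : L, σ (ιL x) = ιL x)
    (M : SpecialLinearGroup (Fin 2) L) : phi0 N hσ ιL M ∈ H := by
  have hle : (⊤ : Subgroup (SpecialLinearGroup (Fin 2) L)) ≤ H.comap (phi0 N hσ ιL) := by
    rw [← SL2.sup_eq_top]
    apply sup_le
    · intro M hM
      obtain ⟨s, rfl⟩ := SL2.mem_lower_iff.1 hM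
      rw [Subgroup.mem_comap, hH]
      rw [phi0_L]
      exact tmat_unitary hσ N.hr (by rw [map_mul, hfix, map_neg, N.hε, neg_neg, mul_neg, neg_neg])
    · intro M hM
      obtain ⟨s, rfl⟩ := SL2.mem_upper_iff.1 hM
      rw [Subgroup.mem_comap, hH]
      rw [phi0_U]
      exact tmat_unitary hσ N.hp (by rw [map_mul, hfix, N.hε, mul_neg])
  exact hle (Subgroup.mem_top M)

/-- the embedding of `SL₂(L)` into the unitary group. -/
noncomputable def phi {p r : ι → F} {ε : F} (N : NormPair σ p r ε) (hσ : ∀ x, σ (σ x) = x)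
    (hH : IsUni σ H) (ιL : L →+* F) (hfix : ∀ x : L, σ (ιL x) = ιL x) :
    SpecialLinearGroup (Fin 2) L →* ↥H :=
  (phi0 N hσ ιL).codRestrict H (phi0_mem N hσ hH ιL hfix)

theorem phi_injective {p r : ι → F} {ε : F} (N : NormPair σ p r ε) (hσ : ∀ x, σ (σ x) = x)
    (hH : IsUni σ H) (ιL : L →+* F) (hfix : ∀ x : L, σ (ιL x) = ιL x) :
    Function.Injective (phi N hσ hH ιL hfix) := by
  intro g g' h
  apply phi0_injective N hσ ιL
  exact congrArg Subtype.val h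

theorem phi_map_upper {p r : ι → F} {ε : F} (N : NormPair σ p r ε) (hσ : ∀ x, σ (σ x) = x)
    (hH : IsUni σ H) (ιL : L →+* F) (hfix : ∀ x : L, σ (ιL x) = ιL x)
    (hsurj : ∀ x : F, σ x = x → ∃ s : L, ιL s = x) :
    (Cfsg.upperUnipotentSL2 L).map (phi N hσ hH ιL hfix) = US H σ p N.hp := by
  ext g
  rw [Subgroup.mem_map, mem_US]
  constructor
  · rintro ⟨M, hM, rfl⟩
    obtain ⟨s, rfl⟩ := SL2.mem_upper_iff.1 hM
    exact ⟨ιL s * ε, by rw [map_mul, hfix, N.hε, mul_neg], phi0_U N hσ ιL s⟩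
  · rintro ⟨c, hc, hg⟩
    obtain ⟨s, hs⟩ := hsurj (c * ε⁻¹) (by rw [map_mul, map_inv₀, hc, N.hε, inv_neg, neg_mul_neg])
    refine ⟨SL2.U s, SL2.U_mem s, ?_⟩
    apply Subtype.ext
    apply Subtype.ext
    show ((phi0 N hσ ιL (SL2.U s) : SpecialLinearGroup ι F) : Matrix ι ι F) = _
    rw [phi0_U, hg, hs, mul_assoc, inv_mul_cancel₀ N.hε0, mul_one]

theorem phi_map_lower {p r : ι → F} {ε : F} (N : NormPair σ p r ε) (hσ : ∀ x, σ (σ x) = x)
    (hH : IsUni σ H) (ιL : L →+* F) (hfix : ∀ x : L, σ (ιL x) = ιL x)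
    (hsurj : ∀ x : F, σ x = x → ∃ s : L, ιL s = x) :
    (Cfsg.lowerUnipotentSL2 L).map (phi N hσ hH ιL hfix) = US H σ r N.hr := by
  ext g
  rw [Subgroup.mem_map, mem_US]
  constructor
  · rintro ⟨M, hM, rfl⟩
    obtain ⟨s, rfl⟩ := SL2.mem_lower_iff.1 hM
    exact ⟨ιL s * -ε, by rw [map_mul, hfix, map_neg, N.hε, neg_neg, mul_neg, neg_neg],
      phi0_L N hσ ιL s⟩
  · rintro ⟨c, hc, hg⟩
    obtain ⟨s, hs⟩ := hsurj (c * (-ε)⁻¹)
      (by rw [map_mul, map_inv₀, hc, map_neg, N.hε, neg_neg, inv_neg, neg_mul, mul_neg])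
    refine ⟨SL2.L s, SL2.L_mem s, ?_⟩
    apply Subtype.ext
    apply Subtype.ext
    show ((phi0 N hσ ιL (SL2.L s) : SpecialLinearGroup ι F) : Matrix ι ι F) = _
    rw [phi0_L, hg, hs, mul_assoc, inv_mul_cancel₀ (neg_ne_zero.2 N.hε0), mul_one]

theorem NormPair.rankOne {p r : ι → F} {ε : F} (N : NormPair σ p r ε) (hσ : ∀ x, σ (σ x) = x)
    (hH : IsUni σ H) (ιL : L →+* F) (hfix : ∀ x : L, σ (ιL x) = ιL x)
    (hsurj : ∀ x : F, σ x = x → ∃ s : L, ιL s = x) :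
    Cfsg.IsRankOnePair (US H σ p N.hp) (US H σ r N.hr) := by
  have hp := Cfsg.Agent.S5016.pair L
  rcases Cfsg.Agent.S5035.map_rankOne (phi N hσ hH ιL hfix) hp with h1 | h1
  · exact absurd (Subgroup.map_injective (phi_injective N hσ hH ιL hfix) h1) hp.ne
  · rw [phi_map_lower N hσ hH ιL hfix hsurj, phi_map_upper N hσ hH ιL hfix hsurj] at h1
    exact Cfsg.RankOnePair_symm h1

theorem NormPair.isPSL2 {p r : ι → F} {ε : F} (N : NormPair σ p r ε) (hσ : ∀ x, σ (σ x) = x)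
    (hH : IsUni σ H) (ιL : L →+* F) (hfix : ∀ x : L, σ (ιL x) = ιL x)
    (hsurj : ∀ x : F, σ x = x → ∃ s : L, ιL s = x) :
    Cfsg.IsPSL2PairOver L (US H σ p N.hp) (US H σ r N.hr) := by
  refine ⟨phi N hσ hH ιL hfix, ?_, ?_, phi_map_upper N hσ hH ιL hfix hsurj,
    phi_map_lower N hσ hH ιL hfix hsurj⟩
  · rw [MonoidHom.range_eq_map, ← SL2.sup_eq_top, Subgroup.map_sup,
      phi_map_lower N hσ hH ιL hfix hsurj, phi_map_upper N hσ hH ιL hfix hsurj, sup_comm]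
  · rw [(MonoidHom.ker_eq_bot_iff _).2 (phi_injective N hσ hH ιL hfix)]
    exact bot_le

/-- the general (unnormalized) statement. -/
theorem rankOne_of (hσ : ∀ x, σ (σ x) = x) (hH : IsUni σ H) (ιL : L →+* F)
    (hfix : ∀ x : L, σ (ιL x) = ιL x) (hsurj : ∀ x : F, σ x = x → ∃ s : L, ιL s = x)
    {ε : F} (hε : σ ε = -ε) (hε0 : ε ≠ 0) {p r : ι → F} (hp : hf σ p p = 0)
    (hr : hf σ r r = 0) (h : hf σ r p ≠ 0) :
    Cfsg.IsRankOnePair (US H σ p hp) (US H σ r hr) ∧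
      Cfsg.IsPSL2PairOver L (US H σ p hp) (US H σ r hr) := by
  have ha : ε⁻¹ * (hf σ r p)⁻¹ ≠ 0 := mul_ne_zero (inv_ne_zero hε0) (inv_ne_zero h)
  have hr' : hf σ ((ε⁻¹ * (hf σ r p)⁻¹) • r) ((ε⁻¹ * (hf σ r p)⁻¹) • r) = 0 := by
    rw [hf_smul_left, hf_smul_right, hr, mul_zero, mul_zero]
  have N : NormPair σ p ((ε⁻¹ * (hf σ r p)⁻¹) • r) ε :=
    ⟨hp, hr', hε, hε0, by rw [hf_smul_left, mul_assoc, inv_mul_cancel₀ h, mul_one]⟩
  have e : US H σ ((ε⁻¹ * (hf σ r p)⁻¹) • r) hr' = US H σ r hr := US_smul hσ hr ha hr'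
  have h1 := N.rankOne hσ hH ιL hfix hsurj
  have h2 := N.isPSL2 hσ hH ιL hfix hsurj
  rw [e] at h1 h2
  exact ⟨h1, h2⟩

end SURoot
end Cfsg.Agent.Helper25
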