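import Mathlib
import Cfsg.Prelude.Def_RootSubgroups
import Cfsg.Agent.Lib.Helper25.SURoot3
import Cfsg.Agent.Lib.Helper25.RootSubOf
import Cfsg.Agent.Lib.Helper25.RootSL4
import Cfsg.Agent.S5032

set_option autoImplicit false

namespace Cfsg.Agent.Helper25
namespace SURoot

open Matrix
open scoped commutatorElement

variable {ι : Type*} [Fintype ι] [DecidableEq ι] {F : Type*} [Field F] {σ : F →+* F}
variable {L : Type*} [Field L] {ιL : L →+* F}

/-- the field data. -/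
structure Data (σ : F →+* F) (ιL : L →+* F) : Prop where
  invol : ∀ x, σ (σ x) = x
  fix : ∀ x : L, σ (ιL x) = ιL x
  surj : ∀ x : F, σ x = x → ∃ s : L, ιL s = x
  ne : ∃ a, σ a ≠ a

theorem Data.exists_eps (D : Data σ ιL) : ∃ ε : F, σ ε = -ε ∧ ε ≠ 0 := by
  obtain ⟨a, ha⟩ := D.ne
  exact ⟨a - σ a, by rw [map_sub, D.invol]; ring, sub_ne_zero.2 (Ne.symm ha)⟩

theorem Data.exists_theta (D : Data σ ιL) : ∃ θ : F, θ + σ θ = 1 := by
  by_cases h2 : (2 : F) = 0
  · obtain ⟨a, ha⟩ := D.ne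
    have haa : a + a = 0 := by rw [← two_mul, h2, zero_mul]
    have ht : a + σ a ≠ 0 := by
      intro h
      apply ha
      have h1 : σ a = -a := eq_neg_of_add_eq_zero_right h
      rw [h1]
      exact neg_eq_of_add_eq_zero_left haa
    have hfix : σ (a + σ a) = a + σ a := by rw [map_add, D.invol, add_comm]
    refine ⟨a / (a + σ a), ?_⟩
    rw [map_div₀, hfix, ← add_div, div_self ht]
  · refine ⟨1 / 2, ?_⟩
    rw [map_div₀, map_one, map_ofNat]
    field_simp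
    norm_num

/-- an isotropic vector not orthogonal to two orthogonal isotropic vectors. -/
theorem Data.exists_adj (D : Data σ ιL) {p r : ι → F} (hp0 : p ≠ 0) (hr0 : r ≠ 0)
    (hp : hf σ p p = 0) (hpr : hf σ p r = 0) :
    ∃ s : ι → F, hf σ s s = 0 ∧ hf σ s p ≠ 0 ∧ hf σ s r ≠ 0 := by
  obtain ⟨w, hwp, hwr⟩ := exists_hf_ne_two (σ := σ) hp0 hr0
  obtain ⟨θ, hθ⟩ := D.exists_theta
  have hpw : hf σ p w ≠ 0 := hf_ne_zero_swap D.invol hwp
  have hb : σ (hf σ w w) = hf σ w w := hf_self_fixed D.invol w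
  have e1 : -(hf σ w w * θ) / hf σ p w * hf σ p w = -(hf σ w w * θ) := div_mul_cancel₀ _ hpw
  have e2 : σ (-(hf σ w w * θ) / hf σ p w) * hf σ w p = -(hf σ w w * σ θ) := by
    rw [← hf_swap D.invol p w, ← map_mul, e1, map_neg, map_mul, hb]
  refine ⟨w + (-(hf σ w w * θ) / hf σ p w) • p, ?_, ?_, ?_⟩
  · rw [hf_add_left, hf_add_right, hf_add_right, hf_smul_left, hf_smul_left, hf_smul_right,
      hf_smul_right, hp, e2, e1]
    have : hf σ w w * (1 - (θ + σ θ)) = 0 := by rw [hθ, sub_self, mul_zero]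
    linear_combination this
  · rw [hf_add_left, hf_smul_left, hp, mul_zero, add_zero]
    exact hwp
  · rw [hf_add_left, hf_smul_left, hpr, mul_zero, add_zero]
    exact hwr

/-- the set of root groups. -/
def USet (H : Subgroup (SpecialLinearGroup ι F)) (σ : F →+* F) : Set (Subgroup ↥H) :=
  {A | ∃ (p : ι → F) (hp : hf σ p p = 0), p ≠ 0 ∧ A = US H σ p hp}

variable {H : Subgroup (SpecialLinearGroup ι F)}

theorem ne_zero_of_hf_ne {s p : ι → F} (h : hf σ s p ≠ 0) : s ≠ 0 := by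
  rintro rfl
  exact h (hf_zero_left σ p)

theorem pair_cases (D : Data σ ιL) (hH : IsUni σ H) {A B : Subgroup ↥H} (hA : A ∈ USet H σ)
    (hB : B ∈ USet H σ) :
    ⁅A, B⁆ = ⊥ ∨ (Cfsg.IsRankOnePair A B ∧ Cfsg.IsPSL2PairOver L A B) := by
  obtain ⟨p, hp, hp0, rfl⟩ := hA
  obtain ⟨r, hr, hr0, rfl⟩ := hB
  obtain ⟨ε, hε, hε0⟩ := D.exists_eps
  by_cases h : hf σ r p = 0
  · exact Or.inl (comm_eq_bot_of D.invol hp hr (hf_eq_zero_swap D.invol h))
  · exact Or.inr (rankOne_of D.invol hH ιL D.fix D.surj hε hε0 hp hr h)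

theorem isPSL2_of_rankOne (D : Data σ ιL) (hH : IsUni σ H) {A B : Subgroup ↥H}
    (hA : A ∈ USet H σ) (hB : B ∈ USet H σ) (hro : Cfsg.IsRankOnePair A B) :
    Cfsg.IsPSL2PairOver L A B := by
  rcases pair_cases D hH hA hB with h | h
  · exfalso
    apply RootOrder.not_commute_of_rankOne hro
    intro a ha b hb
    have : ⁅a, b⁆ ∈ ⁅A, B⁆ := Subgroup.commutator_mem_commutator ha hb
    rw [h, Subgroup.mem_bot, commutatorElement_eq_one_iff_mul_comm] at this
    exact this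
  · exact h.2

theorem connected (D : Data σ ιL) (hH : IsUni σ H) :
    Cfsg.IsConnectedFamily (Cfsg.FAdj (USet H σ)) (USet H σ) := by
  rintro A ⟨p, hp, hp0, rfl⟩ B ⟨r, hr, hr0, rfl⟩
  obtain ⟨ε, hε, hε0⟩ := D.exists_eps
  by_cases h : hf σ r p = 0
  · obtain ⟨s, hs, hsp, hsr⟩ := D.exists_adj hp0 hr0 hp (hf_eq_zero_swap D.invol h)
    have hs0 : s ≠ 0 := ne_zero_of_hf_ne hsp
    have h1 := (rankOne_of D.invol hH ιL D.fix D.surj hε hε0 hp hs hsp).1
    have h2 := (rankOne_of D.invol hH ιL D.fix D.surj hε hε0 hs hr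
      (hf_ne_zero_swap D.invol hsr)).1
    exact (Relation.ReflTransGen.single ⟨⟨p, hp, hp0, rfl⟩, ⟨s, hs, hs0, rfl⟩, h1⟩).tail
      ⟨⟨s, hs, hs0, rfl⟩, ⟨r, hr, hr0, rfl⟩, h2⟩
  · exact Relation.ReflTransGen.single ⟨⟨p, hp, hp0, rfl⟩, ⟨r, hr, hr0, rfl⟩,
      (rankOne_of D.invol hH ιL D.fix D.surj hε hε0 hp hr h).1⟩

theorem nonempty_of (D : Data σ ιL) {i₀ i₁ : ι} (hi : i₀ ≠ i₁) {β : F} (hβ : β * σ β = -1) :
    (USet H σ).Nonempty := by
  have h00 : hf σ (Pi.single i₀ (1 : F)) (Pi.single i₀ (1 : F)) = 1 := by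
    unfold hf; rw [single_dotProduct]; simp [bar]
  have h11 : hf σ (Pi.single i₁ (1 : F)) (Pi.single i₁ (1 : F)) = 1 := by
    unfold hf; rw [single_dotProduct]; simp [bar]
  have h01 : hf σ (Pi.single i₀ (1 : F)) (Pi.single i₁ (1 : F)) = 0 := by
    unfold hf; rw [single_dotProduct]; simp [bar, hi]
  have h10 : hf σ (Pi.single i₁ (1 : F)) (Pi.single i₀ (1 : F)) = 0 := by
    unfold hf; rw [single_dotProduct]; simp [bar, hi.symm]
  have hp : hf σ (Pi.single i₀ (1 : F) + β • Pi.single i₁ (1 : F))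
      (Pi.single i₀ (1 : F) + β • Pi.single i₁ (1 : F)) = 0 := by
    rw [hf_add_left, hf_add_right, hf_add_right, hf_smul_left, hf_smul_left, hf_smul_right,
      hf_smul_right, h00, h11, h01, h10]
    have : 1 + β * σ β = 0 := by rw [hβ]; ring
    linear_combination this
  refine ⟨_, _, hp, ?_, rfl⟩
  intro h
  have := congrFun h i₀
  simp [hi] at this

/-- the main theorem in the abstract setting. -/
theorem main (D : Data σ ιL) (hH : IsUni σ H) (hne : (USet H σ).Nonempty) :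
    Cfsg.IsRootSubgroupClass
      ((fun A : Subgroup ↥H => A.subgroupOf (⨆ B ∈ USet H σ, B)) '' USet H σ) ∧
    Cfsg.IsDegenerateRootSet
      ((fun A : Subgroup ↥H => A.subgroupOf (⨆ B ∈ USet H σ, B)) '' USet H σ) ∧
    Cfsg.IsKRootSubgroupSet L
      ((fun A : Subgroup ↥H => A.subgroupOf (⨆ B ∈ USet H σ, B)) '' USet H σ) ∧
    Cfsg.IsConnectedFamily
      (Cfsg.FAdj ((fun A : Subgroup ↥H => A.subgroupOf (⨆ B ∈ USet H σ, B)) '' USet H σ))
      ((fun A : Subgroup ↥H => A.subgroupOf (⨆ B ∈ USet H σ, B)) '' USet H σ) := by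
  obtain ⟨ε, hε, hε0⟩ := D.exists_eps
  have hpair : ∀ A ∈ USet H σ, ∀ B ∈ USet H σ, ⁅A, B⁆ = ⊥ ∨ Cfsg.IsRankOnePair A B := by
    intro A hA B hB
    rcases pair_cases D hH hA hB with h | h
    · exact Or.inl h
    · exact Or.inr h.1
  have hS : Cfsg.IsRootSubgroupSet
      ((fun A : Subgroup ↥H => A.subgroupOf (⨆ B ∈ USet H σ, B)) '' USet H σ) := by
    apply RootSubOf.rootSet
    · rintro A ⟨p, hp, hp0, rfl⟩
      exact US_comm hp
    · rintro A ⟨p, hp, hp0, rfl⟩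
      exact US_ne_bot D.invol hH hp0 hp hε hε0
    · rintro A ⟨p, hp, hp0, rfl⟩ g _
      exact ⟨_, isotropic_mulVec hH g.2 hp, RootSL.mulVec_ne_zero _ hp0, conjBy_US hH hp g⟩
    · intro A hA B hB
      rcases hpair A hA B hB with h | h
      · exact Or.inl h
      · exact Or.inr (Or.inl h)
  have hconn := RootSubOf.connected (USet H σ) (connected D hH)
  refine ⟨⟨hS, ?_, ?_⟩, RootSubOf.degenerate (USet H σ) hS hpair,
    RootSubOf.kRoot (USet H σ) L hS (fun A hA B hB h => isPSL2_of_rankOne D hH hA hB h), hconn⟩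
  · obtain ⟨A, hA⟩ := hne
    exact ⟨_, A, hA, rfl⟩
  · intro A hA B hB
    exact Cfsg.Agent.S5032.exists_conj_of_reach (hconn A hA B hB)

end SURoot
end Cfsg.Agent.Helper25
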