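import Mathlib
import Cfsg.Agent.Lib.Helper3.SmAbDefs
import Cfsg.Agent.Lib.Helper3.CoprimeSmallExp
import Cfsg.Agent.Lib.Helper21.MetaFusionOdd
import Cfsg.Agent.Lib.Helper25.FusionAlperin
import Cfsg.Agent.Lib.Helper25.FusionSat4
import Cfsg.Agent.Lib.Helper25.FusionSat3
import Cfsg.Agent.Lib.Helper25.FusionRecept
import Cfsg.Agent.Lib.Helper25.FusionNormal3
import Cfsg.Agent.Lib.Helper25.FusionTransport
import Cfsg.Agent.Lib.Helper25.FusionSylow2

set_option autoImplicit false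
set_option linter.unusedSectionVars false
set_option linter.unusedVariables false
set_option linter.style.haveILetI false

/-! PIECE CENT of S5296 for helper3: an `Aut_F(R)`-invariant self-centralizing subgroup of a centric
radical subgroup `R` is centric. -/

namespace Cfsg.Agent.Helper25.SmAbCent

open Cfsg Cfsg.FusionSystem Cfsg.Agent.Helper25

/-- (a) a `p'`-automorphism of a finite `p`-group fixing pointwise a self-centralizing subgroup is
trivial -/
theorem aut_eq_one_of_fix {U : Type*} [Group U] [Finite U] {p : ℕ} [Fact p.Prime]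
    (hU : IsPGroup p U) (α : MulAut U) {m : ℕ} (hαm : α ^ m = 1) (hm : m.Coprime p)
    (Y' : Subgroup U) (hfix : ∀ y ∈ Y', α y = y)
    (hcen : ∀ u : U, (∀ y ∈ Y', u * y = y * u) → u ∈ Y') : α = 1 := by
  let Fix : Subgroup U := (α.toMonoidHom).eqLocus (MonoidHom.id U)
  have hFix : ∀ u, u ∈ Fix ↔ α u = u := fun u => Iff.rfl
  have hYF : Y' ≤ Fix := fun y hy => (hFix y).mpr (hfix y hy)
  have hN : Subgroup.normalizer (Fix : Set U) ≤ Fix := by
    intro n hn
    have hc : ∀ y ∈ Fix, (α n * n⁻¹) * y = y * (α n * n⁻¹) := by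
      intro y hy
      have h1 : n⁻¹ * y * n ∈ Fix := by
        have := (Subgroup.mem_normalizer_iff.mp (Subgroup.inv_mem _ hn) y).mp hy
        simpa using this
      have h2 : α (n⁻¹ * y * n) = n⁻¹ * y * n := (hFix _).mp h1
      rw [map_mul, map_mul, map_inv, (hFix y).mp hy] at h2
      calc α n * n⁻¹ * y = α n * (n⁻¹ * y * n) * n⁻¹ := by group
        _ = α n * ((α n)⁻¹ * y * α n) * n⁻¹ := by rw [h2]
        _ = y * (α n * n⁻¹) := by group
    have hcY : α n * n⁻¹ ∈ Y' := hcen _ (fun y hy => hc y (hYF hy))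
    have hcF : α (α n * n⁻¹) = α n * n⁻¹ := hfix _ hcY
    have hαn : α n = (α n * n⁻¹) * n := by group
    have h1 := Cfsg.Agent.Helper3.SmallExp.eq_one_of_map_eq_mul' hU α hαm hm hαn hcF
    exact (hFix n).mpr (mul_inv_eq_one.mp h1)
  haveI : Group.IsNilpotent U := hU.isNilpotent
  have hnc : NormalizerCondition U := Group.normalizerCondition_of_isNilpotent
  have htop : Fix = ⊤ := by
    by_contra hne
    have h1 := hnc Fix (lt_top_iff_ne_top.mpr hne)
    exact absurd (le_antisymm hN Subgroup.le_normalizer) (ne_of_gt h1)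
  apply MulEquiv.ext
  intro u
  have : u ∈ Fix := by rw [htop]; trivial
  exact (hFix u).mp this

variable {Ω : Type*} [Group Ω] {S : Subgroup Ω}

/-- the automorphisms in `Aut_F(R)` fixing `Y` pointwise -/
def fixGroup (F : FusionSystem S) (R Y : Subgroup Ω) : Subgroup (MulAut R) where
  carrier := {α | α ∈ F.autGroup R ∧ ∀ x : R, (x : Ω) ∈ Y → α x = x}
  one_mem' := ⟨Subgroup.one_mem _, fun x _ => rfl⟩
  mul_mem' := by
    rintro α β ⟨hα, hα'⟩ ⟨hβ, hβ'⟩
    refine ⟨Subgroup.mul_mem _ hα hβ, fun x hx => ?_⟩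
    rw [MulAut.mul_apply, hβ' x hx, hα' x hx]
  inv_mem' := by
    rintro α ⟨hα, hα'⟩
    refine ⟨Subgroup.inv_mem _ hα, fun x hx => ?_⟩
    calc α⁻¹ x = α⁻¹ (α x) := by rw [hα' x hx]
      _ = x := MulAut.inv_apply_self _ _ _

theorem mem_fixGroup {F : FusionSystem S} {R Y : Subgroup Ω} {α : MulAut R} :
    α ∈ fixGroup F R Y ↔ α ∈ F.autGroup R ∧ ∀ x : R, (x : Ω) ∈ Y → α x = x := Iff.rfl

/-- (b) the group of automorphisms fixing `Y` pointwise consists of inner automorphisms -/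
theorem fixGroup_le_inn [Finite S] (p : ℕ) [Fact p.Prime] (hS : IsPGroup p S) (F : FusionSystem S)
    {R Y : Subgroup Ω} (hRr : F.IsRadical p R) (hYR : Y ≤ R)
    (hinv : ∀ α ∈ F.autGroup R, ∀ x : R, (x : Ω) ∈ Y → ((α x : R) : Ω) ∈ Y)
    (hcen : ∀ r ∈ R, (∀ y ∈ Y, r * y = y * r) → r ∈ Y) : fixGroup F R Y ≤ Inn R := by
  have hRS : R ≤ S := hRr.1
  haveI : Finite R := finite_of_le_finite hRS
  have hRp : IsPGroup p R := hS.to_le hRS
  apply Cfsg.Agent.Helper21.MetaFusionOdd.le_inn_of_radical' F hRr (fixGroup F R Y) (fun α hα => hα.1)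
  · -- normality
    refine ⟨fun α hα β => ?_⟩
    rw [Subgroup.mem_subgroupOf] at hα ⊢
    refine ⟨(β * α * β⁻¹).2, fun x hx => ?_⟩
    have hβinv : ((β⁻¹ : F.autGroup R) : MulAut R) ∈ F.autGroup R := (β⁻¹).2
    have h1 : ((((β⁻¹ : F.autGroup R) : MulAut R) x : R) : Ω) ∈ Y := hinv _ hβinv x hx
    have h2 := hα.2 _ h1
    show (β : MulAut R) ((α : MulAut R) (((β⁻¹ : F.autGroup R) : MulAut R) x)) = x
    rw [h2]
    show (β : MulAut R) ((β : MulAut R)⁻¹ x) = x
    exact MulAut.apply_inv_self _ _ _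
  · -- `p`-group
    intro α
    have hn0 : orderOf (α : MulAut R) ≠ 0 := (orderOf_pos _).ne'
    obtain ⟨a, m', hm', hn⟩ :=
      Nat.exists_eq_pow_mul_and_not_dvd hn0 p (Fact.out : p.Prime).one_lt.ne'
    have hcop : m'.Coprime p :=
      (Nat.Prime.coprime_iff_not_dvd (Fact.out : p.Prime)).mpr hm' |>.symm
    have hγm : ((α : MulAut R) ^ p ^ a) ^ m' = 1 := by
      rw [← pow_mul, ← hn, pow_orderOf_eq_one]
    have hγK : (α : MulAut R) ^ p ^ a ∈ fixGroup F R Y := Subgroup.pow_mem _ α.2 _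
    have h1 : (α : MulAut R) ^ p ^ a = 1 := by
      apply aut_eq_one_of_fix hRp _ hγm hcop (Y.subgroupOf R)
      · intro y hy
        exact hγK.2 y (Subgroup.mem_subgroupOf.mp hy)
      · intro u hu
        rw [Subgroup.mem_subgroupOf]
        apply hcen u.1 u.2
        intro y hy
        have := hu ⟨y, hYR hy⟩ (Subgroup.mem_subgroupOf.mpr hy)
        exact congrArg Subtype.val this
    refine ⟨a, ?_⟩
    apply Subtype.ext
    simpa using h1

/-- (c) -/
theorem centralizerIn_le_of_inner [Finite S] {p : ℕ} [Fact p.Prime] (hS : IsPGroup p S)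
    (F : FusionSystem S) {R' Y' : Subgroup Ω} (hR'S : R' ≤ S)
    (hR'c : centralizerIn S R' ≤ R') (hYR : Y' ≤ R')
    (hYn : R' ≤ Subgroup.normalizer (Y' : Set Ω))
    (hcen : ∀ r ∈ R', (∀ y ∈ Y', r * y = y * r) → r ∈ Y')
    (hinn : ∀ β ∈ F.autGroup R', (∀ x : R', (x : Ω) ∈ Y' → β x = x) → β ∈ Inn R') :
    centralizerIn S Y' ≤ Y' := by
  have hCR : centralizerIn S Y' ≤ R' := by
    by_contra hnot
    -- work inside `N := N_S(Y')`
    have hNS : normalizerIn S Y' ≤ S := inf_le_left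
    haveI : Finite ↥(normalizerIn S Y') := finite_of_le_finite hNS
    have hNp : IsPGroup p ↥(normalizerIn S Y') := hS.to_le hNS
    have hRN : R' ≤ normalizerIn S Y' := fun r hr => ⟨hR'S hr, hYn hr⟩
    have hCN : centralizerIn S Y' ≤ normalizerIn S Y' := by
      intro c hc
      rw [mem_centralizerIn] at hc
      refine ⟨hc.1, ?_⟩
      show c ∈ Subgroup.normalizer (Y' : Set Ω)
      rw [Subgroup.mem_normalizer_iff]
      intro y
      have e : ∀ z ∈ Y', c * z * c⁻¹ = z := by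
        intro z hz
        rw [← hc.2 z hz, mul_inv_cancel_right]
      constructor
      · intro hy
        rw [e y hy]; exact hy
      · intro hy
        have h1 := e _ hy
        have h2 : y = c * y * c⁻¹ := by
          have := hc.2 _ hy
          -- c * y * c⁻¹ * c = c * (c * y * c⁻¹): so y = c y c⁻¹
          calc y = c⁻¹ * (c * y * c⁻¹ * c) := by group
            _ = c⁻¹ * (c * (c * y * c⁻¹)) := by rw [this]
            _ = c * y * c⁻¹ := by group
        rw [h2]; exact hy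
    have hCn : ∀ g ∈ normalizerIn S Y', ∀ v ∈ centralizerIn S Y', g⁻¹ * v * g ∈ centralizerIn S Y' := by
      intro g hg v hv
      rw [mem_centralizerIn] at hv ⊢
      refine ⟨S.mul_mem (S.mul_mem (S.inv_mem hg.1) hv.1) hg.1, ?_⟩
      intro y hy
      have hgy : g * y * g⁻¹ ∈ Y' := (Subgroup.mem_normalizer_iff.mp hg.2 y).mp hy
      have h1 := hv.2 _ hgy
      calc y * (g⁻¹ * v * g) = g⁻¹ * ((g * y * g⁻¹) * v) * g := by group
        _ = g⁻¹ * (v * (g * y * g⁻¹)) * g := by rw [h1]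
        _ = g⁻¹ * v * g * y := by group
    obtain ⟨x, hxC, hxN, hxR⟩ :=
      exists_mem_normalizer_not_mem_of_not_le (S := normalizerIn S Y') hNp hRN hCN hCn hnot
    have hxS : x ∈ S := (mem_centralizerIn.mp hxC).1
    -- the automorphism induced by `x`
    have hβS : R'.normalizerMonoidHom ⟨x, hxN⟩ ∈ autInducedBy S R' := by
      rw [mem_autInducedBy_iff]
      exact ⟨x, hxS, fun y => rfl⟩
    have hβA := autInducedBy_le_autGroup F hR'S hβS
    have hβfix : ∀ y : R', (y : Ω) ∈ Y' → R'.normalizerMonoidHom ⟨x, hxN⟩ y = y := by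
      intro y hy
      apply Subtype.ext
      rw [normalizerMonoidHom_apply_coe]
      show x * (y : Ω) * x⁻¹ = y
      rw [← (mem_centralizerIn.mp hxC).2 _ hy, mul_inv_cancel_right]
    have hβI := hinn _ hβA hβfix
    exact hxR (mem_of_induces_inner hR'S hR'c hβI hxS (fun y => rfl))
  intro c hc
  apply hcen c (hCR hc)
  intro y hy
  exact ((mem_centralizerIn.mp hc).2 y hy).symm

/-- PIECE CENT for helper3 (S5296). -/
theorem centric_of_invariant [Finite S] (p : ℕ) [Fact p.Prime] (hS : IsPGroup p S)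
    (F : FusionSystem S) (hF : F.IsSaturated p) {R Y : Subgroup Ω} (hRc : F.IsCentric R)
    (hRr : F.IsRadical p R) (hYR : Y ≤ R)
    (hinv : ∀ α ∈ F.autGroup R, ∀ x : R, (x : Ω) ∈ Y → ((α x : R) : Ω) ∈ Y)
    (hcen : ∀ r ∈ R, (∀ y ∈ Y, r * y = y * r) → r ∈ Y) : F.IsCentric Y := by
  have hRS : R ≤ S := hRc.1
  have hYS : Y ≤ S := hYR.trans hRS
  have hK := fixGroup_le_inn p hS F hRr hYR hinv hcen
  -- `R` normalizes `Y`
  have hconj : ∀ r ∈ R, ∀ y ∈ Y, r * y * r⁻¹ ∈ Y := by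
    intro r hr y hy
    have hα : MulAut.conj (⟨r, hr⟩ : R) ∈ F.autGroup R :=
      autInducedBy_le_autGroup F hRS (inn_le_autInducedBy hRS ⟨_, rfl⟩)
    have := hinv _ hα ⟨y, hYR hy⟩ hy
    simpa [MulAut.conj_apply] using this
  have hRnY : R ≤ Subgroup.normalizer (Y : Set Ω) := by
    intro r hr
    apply mem_normalizer_of_forall
    · exact hconj r hr
    · intro y hy
      have := hconj r⁻¹ (R.inv_mem hr) y hy
      simpa using this
  -- a fully normalized conjugate of `Y`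
  obtain ⟨Y₁, hYY₁, hY₁fn⟩ := exists_isConj_fullyNormalized F hYS
  obtain ⟨hY₁fc, hY₁fa, hY₁rec⟩ := of_fullyNormalized p hS F hF hY₁fn
  obtain ⟨ρ, hρ, hρN, hρY, hρimg⟩ := exists_normalizer_map p hS F Y₁ Y hY₁fa hY₁rec hYY₁
  have hRN : R ≤ normalizerIn S Y := fun r hr => ⟨hRS hr, hRnY hr⟩
  have hYN : Y ≤ normalizerIn S Y := hYR.trans hRN
  have hρR : ρ.comp (Subgroup.inclusion hRN) ∈ F.Hom R := restrict_mem F hRN hρ
  have hρinj := F.injective_of_mem hρ
  have hRR₁ : F.IsConj R (ρ.comp (Subgroup.inclusion hRN)).range := ⟨_, hρR, rfl⟩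
  have hR₁S : (ρ.comp (Subgroup.inclusion hRN)).range ≤ S := range_le F hρR
  have hR₁c : centralizerIn S (ρ.comp (Subgroup.inclusion hRN)).range
      ≤ (ρ.comp (Subgroup.inclusion hRN)).range := hRc.2 _ hRR₁
  have hY₁mem : ∀ z, z ∈ Y₁ ↔ ∃ y, ∃ hy : y ∈ Y, ρ ⟨y, hYN hy⟩ = z := by
    intro z
    rw [← hρimg]
    constructor
    · rintro ⟨w, hw, rfl⟩
      exact ⟨w.1, Subgroup.mem_subgroupOf.mp hw, rfl⟩
    · rintro ⟨y, hy, rfl⟩
      exact ⟨⟨y, hYN hy⟩, Subgroup.mem_subgroupOf.mpr hy, rfl⟩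
  have hY₁R₁ : Y₁ ≤ (ρ.comp (Subgroup.inclusion hRN)).range := by
    intro z hz
    obtain ⟨y, hy, rfl⟩ := (hY₁mem z).mp hz
    exact ⟨⟨y, hYR hy⟩, rfl⟩
  have hconj₁ : ∀ r : R, ∀ z ∈ Y₁, (ρ.comp (Subgroup.inclusion hRN)) r * z *
      ((ρ.comp (Subgroup.inclusion hRN)) r)⁻¹ ∈ Y₁ := by
    intro r z hz
    obtain ⟨y, hy, rfl⟩ := (hY₁mem z).mp hz
    have hry : (r : Ω) * y * (r : Ω)⁻¹ ∈ Y := hconj r.1 r.2 y hy
    rw [hY₁mem]
    refine ⟨_, hry, ?_⟩
    have : (⟨(r : Ω) * y * (r : Ω)⁻¹, hYN hry⟩ : normalizerIn S Y)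
        = (Subgroup.inclusion hRN r) * ⟨y, hYN hy⟩ * (Subgroup.inclusion hRN r)⁻¹ := by
      apply Subtype.ext
      rfl
    rw [this, map_mul, map_mul, map_inv]
    rfl
  have hR₁n : (ρ.comp (Subgroup.inclusion hRN)).range ≤ Subgroup.normalizer (Y₁ : Set Ω) := by
    rintro _ ⟨r, rfl⟩
    apply mem_normalizer_of_forall
    · exact hconj₁ r
    · intro z hz
      have := hconj₁ r⁻¹ z hz
      rw [map_inv, inv_inv] at this
      exact this
  have hcen₁ : ∀ r₁ ∈ (ρ.comp (Subgroup.inclusion hRN)).range,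
      (∀ z ∈ Y₁, r₁ * z = z * r₁) → r₁ ∈ Y₁ := by
    rintro _ ⟨r, rfl⟩ hcomm
    have hrY : (r : Ω) ∈ Y := by
      apply hcen r.1 r.2
      intro y hy
      have h1 := hcomm (ρ ⟨y, hYN hy⟩) ((hY₁mem _).mpr ⟨y, hy, rfl⟩)
      have h2 : ρ ((Subgroup.inclusion hRN r) * ⟨y, hYN hy⟩)
          = ρ (⟨y, hYN hy⟩ * (Subgroup.inclusion hRN r)) := by
        rw [map_mul, map_mul]
        exact h1
      exact congrArg Subtype.val (hρinj h2)
    exact (hY₁mem _).mpr ⟨r.1, hrY, rfl⟩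
  have hinn₁ : ∀ β ∈ F.autGroup (ρ.comp (Subgroup.inclusion hRN)).range,
      (∀ x : (ρ.comp (Subgroup.inclusion hRN)).range, (x : Ω) ∈ Y₁ → β x = x) →
      β ∈ Inn (ρ.comp (Subgroup.inclusion hRN)).range := by
    intro β hβ hβfix
    have he : (ρ.comp (Subgroup.inclusion hRN)).range.subtype.comp
        (homEquiv F hρR).toMonoidHom ∈ F.Hom R := by
      have : (ρ.comp (Subgroup.inclusion hRN)).range.subtype.comp
          (homEquiv F hρR).toMonoidHom = ρ.comp (Subgroup.inclusion hRN) := by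
        ext x; rfl
      rw [this]; exact hρR
    have hes := symm_mem F (homEquiv F hρR) he
    have hβ' : MulAut.congr (homEquiv F hρR).symm β ∈ F.autGroup R :=
      congr_mem_autGroup' F (homEquiv F hρR).symm hes hβ
    have hβ'fix : ∀ x : R, (x : Ω) ∈ Y → MulAut.congr (homEquiv F hρR).symm β x = x := by
      intro x hx
      have h1 : (((homEquiv F hρR) x : (ρ.comp (Subgroup.inclusion hRN)).range) : Ω) ∈ Y₁ :=
        (hY₁mem _).mpr ⟨x.1, hx, rfl⟩
      show (homEquiv F hρR).symm (β ((homEquiv F hρR).symm.symm x)) = x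
      rw [MulEquiv.symm_symm, hβfix _ h1, MulEquiv.symm_apply_apply]
    obtain ⟨r, hr⟩ := hK ⟨hβ', hβ'fix⟩
    refine ⟨(homEquiv F hρR) r, ?_⟩
    apply MulEquiv.ext
    intro x₁
    have h2 := congrArg (fun f : MulAut R => f ((homEquiv F hρR).symm x₁)) hr
    simp only [MulAut.conj_apply] at h2
    have h3 : MulAut.congr (homEquiv F hρR).symm β ((homEquiv F hρR).symm x₁)
        = (homEquiv F hρR).symm (β x₁) := by
      show (homEquiv F hρR).symm (β ((homEquiv F hρR).symm.symm ((homEquiv F hρR).symm x₁))) = _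
      rw [MulEquiv.symm_symm, MulEquiv.apply_symm_apply]
    rw [h3] at h2
    rw [MulAut.conj_apply]
    have h4 := congrArg (homEquiv F hρR) h2
    rw [MulEquiv.apply_symm_apply, map_mul, map_mul, map_inv, MulEquiv.apply_symm_apply] at h4
    exact h4
  have hC := centralizerIn_le_of_inner hS F hR₁S hR₁c hY₁R₁ hR₁n hcen₁ hinn₁
  have hY₁cent : F.IsCentric Y₁ := isCentric_of_fullyCentralized F hY₁fc hC
  refine ⟨hYS, fun Q hQ => ?_⟩
  exact hY₁cent.2 Q (isConj_trans F (isConj_symm F hYY₁) hQ)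

end Cfsg.Agent.Helper25.SmAbCent
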