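import Mathlib
import Cfsg.Agent.Lib.Helper3.SmAbDefs

set_option autoImplicit false
set_option linter.unusedSectionVars false
set_option linter.unusedVariables false

/-! PIECE CNT of S5296 for helper3: passing to the centralizer system of a non-central subgroup
strictly decreases the number of maps. -/

namespace Cfsg.Agent.Helper25.SmAbCnt

open Cfsg Cfsg.FusionSystem Cfsg.Agent.Helper25 Cfsg.Agent.Helper3.SmAb

variable {Ω : Type*} [Group Ω] {S : Subgroup Ω}

/-- the type of maps of a fusion system over a finite group is finite -/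
theorem finite_maps [Finite S] (F : FusionSystem S) :
    Finite {x : Σ P : Subgroup Ω, (P →* Ω) // x.2 ∈ F.Hom x.1} := by
  classical
  let f : {x : Σ P : Subgroup Ω, (P →* Ω) // x.2 ∈ F.Hom x.1} → Set S × (S → S) := fun x =>
    ({s : S | (s : Ω) ∈ x.1.1},
      fun s => if h : (s : Ω) ∈ x.1.1 then ⟨x.1.2 ⟨s, h⟩, (F.le_of_mem x.2).2 _⟩ else 1)
  apply Finite.of_injective f
  rintro ⟨⟨P, φ⟩, hφ⟩ ⟨⟨P', φ'⟩, hφ'⟩ heq
  simp only [f, Prod.mk.injEq] at heq
  obtain ⟨h1, h2⟩ := heq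
  have hPS : P ≤ S := (F.le_of_mem hφ).1
  have hP'S : P' ≤ S := (F.le_of_mem hφ').1
  have hP : P = P' := by
    ext x
    constructor
    · intro hx
      have : (⟨x, hPS hx⟩ : S) ∈ {s : S | (s : Ω) ∈ P} := hx
      rw [h1] at this
      exact this
    · intro hx
      have : (⟨x, hP'S hx⟩ : S) ∈ {s : S | (s : Ω) ∈ P'} := hx
      rw [← h1] at this
      exact this
  subst hP
  have hφφ' : φ = φ' := by
    ext ⟨x, hx⟩
    have := congrFun h2 ⟨x, hPS hx⟩
    simp only [dif_pos hx] at this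
    exact congrArg Subtype.val this
  subst hφφ'
  rfl

/-- PIECE CNT for helper3 (S5296). -/
theorem morCount_centSys_lt [Finite S] (F : FusionSystem S) (A : Subgroup Ω) (hAS : A ≤ S)
    (h : ¬ CentralIn F A) : morCount (centSys F A hAS) < morCount F := by
  unfold morCount
  haveI := finite_maps F
  unfold CentralIn at h
  push Not at h
  obtain ⟨P, hP⟩ := h
  rw [Set.not_subset] at hP
  obtain ⟨φ, hφ, hφn⟩ := hP
  let g : {x : Σ P : Subgroup Ω, (P →* Ω) // x.2 ∈ (centSys F A hAS).Hom x.1} →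
      {x : Σ P : Subgroup Ω, (P →* Ω) // x.2 ∈ F.Hom x.1} := fun x => ⟨x.1, x.2.1⟩
  have hg : Function.Injective g := by
    intro x y hxy
    apply Subtype.ext
    show (g x).1 = (g y).1
    rw [hxy]
  haveI : Finite {x : Σ P : Subgroup Ω, (P →* Ω) // x.2 ∈ (centSys F A hAS).Hom x.1} :=
    Finite.of_injective g hg
  letI := Fintype.ofFinite {x : Σ P : Subgroup Ω, (P →* Ω) // x.2 ∈ (centSys F A hAS).Hom x.1}
  letI := Fintype.ofFinite {x : Σ P : Subgroup Ω, (P →* Ω) // x.2 ∈ F.Hom x.1}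
  rw [Nat.card_eq_fintype_card, Nat.card_eq_fintype_card]
  apply Fintype.card_lt_of_injective_of_notMem g hg (b := ⟨⟨P, φ⟩, hφ⟩)
  rintro ⟨⟨⟨P', φ'⟩, h'⟩, hx⟩
  have h1 : (⟨P', φ'⟩ : Σ P : Subgroup Ω, (P →* Ω)) = ⟨P, φ⟩ := congrArg Subtype.val hx
  obtain ⟨rfl, h2⟩ := Sigma.mk.inj_iff.mp h1
  have h3 := eq_of_heq h2
  subst h3
  exact hφn h'

end Cfsg.Agent.Helper25.SmAbCnt
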