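import Mathlib
import Cfsg.Agent.Lib.Helper3.SmAbDefs
import Cfsg.Agent.Lib.Helper3.CoprimeSmallExpFam
import Cfsg.Agent.Lib.Helper3.HypCyclic
import Cfsg.Agent.Lib.Helper25.FusionAut

set_option autoImplicit false
set_option linter.unusedSectionVars false
set_option linter.unusedVariables false
set_option linter.style.haveILetI false

/-! PIECE NONC of S5296 for helper3: if `Aut_F(R)` has a nontrivial element of order prime to `p`
then some small abelian subgroup of `R ∩ hyp(F)`, normalized by `N_S(R)`, is not central in `F`. -/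

namespace Cfsg.Agent.Helper25.SmAbNonc

open Cfsg Cfsg.FusionSystem Cfsg.Agent.Helper25 Cfsg.Agent.Helper3.SmAb
open scoped commutatorElement

variable {Ω : Type*} [Group Ω] {S : Subgroup Ω}

theorem le_normalizer_of_conj {M H : Subgroup Ω} (h : ∀ g ∈ M, ∀ a ∈ H, g * a * g⁻¹ ∈ H) :
    M ≤ Subgroup.normalizer (H : Set Ω) := by
  intro g hg
  rw [Subgroup.mem_normalizer_iff]
  intro a
  constructor
  · exact h g hg a
  · intro ha
    have := h g⁻¹ (M.inv_mem hg) _ ha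
    simpa [mul_assoc] using this

/-- a subgroup central in `F` is centralized by `S` -/
theorem comm_of_centralIn (F : FusionSystem S) {A : Subgroup Ω} (hA : CentralIn F A) :
    ∀ s ∈ S, ∀ a ∈ A, s * a = a * s := by
  have h1 : conjHom S 1 ∈ F.Hom S := F.conj_mem le_rfl S.one_mem
  have h2 := hA S h1
  obtain ⟨-, h3, -⟩ := h2
  intro s hs a ha
  have h4 : s ∈ Subgroup.centralizer (A : Set Ω) := (h3 hs).2
  rw [Subgroup.mem_centralizer_iff] at h4
  exact (h4 a ha).symm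

/-- a subgroup of `R` central in `F` is fixed pointwise by `Aut_F(R)` -/
theorem fix_of_centralIn (F : FusionSystem S) {A R : Subgroup Ω} (hRS : R ≤ S)
    (hA : CentralIn F A) (α : MulAut R) (hα : α ∈ F.autGroup R) (a : R) (ha : (a : Ω) ∈ A) :
    α a = a := by
  have h1 : R.subtype.comp α.toMonoidHom ∈ F.Hom R := (mem_autGroup_iff F hRS α).mp hα
  obtain ⟨-, -, -, ψ, hψ, hψ1, hψ2⟩ := hA R h1
  have e1 := hψ1 a
  have e2 := hψ2 ⟨(a : Ω), ha⟩
  have e3 : (Subgroup.inclusion le_sup_left a : ↥(R ⊔ A)) =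
      Subgroup.inclusion le_sup_right (⟨(a : Ω), ha⟩ : A) := Subtype.ext rfl
  rw [e3, e2] at e1
  apply Subtype.ext
  exact e1.symm

/-- PIECE NONC for helper3 (S5296). -/
theorem exists_noncentral [Finite S] (p : ℕ) [Fact p.Prime] (hS : IsPGroup p S)
    (F : FusionSystem S) {R : Subgroup Ω} (hRS : R ≤ S)
    (hnp : ∃ b ∈ F.autGroup R, (∃ m : ℕ, m.Coprime p ∧ b ^ m = 1) ∧ b ≠ 1) :
    ∃ A : Subgroup Ω, A ≤ R ∧ A ≤ F.hyperfocalSubgroup p ∧ Small p A ∧
      normalizerIn S R ≤ Subgroup.normalizer (A : Set Ω) ∧ ¬ CentralIn F A := by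
  classical
  haveI : Finite R := Finite.of_injective _ (Subgroup.inclusion_injective hRS)
  have hRp : IsPGroup p R := hS.to_le hRS
  set 𝒢 : Subgroup (MulAut R) := F.autGroup R with h𝒢
  set 𝒥 : Set (MulAut R) := {b | b ∈ 𝒢 ∧ ∃ m : ℕ, m.Coprime p ∧ b ^ m = 1} with h𝒥
  have h𝒥𝒢 : 𝒥 ⊆ 𝒢 := fun b hb => hb.1
  have hcop : ∀ b ∈ 𝒥, ∃ m : ℕ, m.Coprime p ∧ b ^ m = 1 := fun b hb => hb.2
  have hconj : ∀ g ∈ 𝒢, ∀ b ∈ 𝒥, g * b * g⁻¹ ∈ 𝒥 := by
    rintro g hg b ⟨hb, m, hm, hbm⟩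
    refine ⟨𝒢.mul_mem (𝒢.mul_mem hg hb) (𝒢.inv_mem hg), m, hm, ?_⟩
    rw [conj_pow, hbm, mul_one, mul_inv_cancel]
  have hne : ∃ b ∈ 𝒥, b ≠ 1 := by
    obtain ⟨b, hb, hbm, hb1⟩ := hnp
    exact ⟨b, ⟨hb, hbm⟩, hb1⟩
  obtain ⟨D, hDinv, ⟨b₀, hb₀, x₀, hx₀D, hx₀⟩, hDcomm, hDexp⟩ :=
    Cfsg.Agent.Helper3.SmallExp.exists_small_exp_sub_family p hRp 𝒢 𝒥 h𝒥𝒢 hcop hconj hne
  set M : Subgroup Ω := normalizerIn S R with hM
  set D' : Subgroup Ω := D.map R.subtype with hD'
  have hD'R : D' ≤ R := Subgroup.map_subtype_le D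
  have hD'S : D' ≤ S := hD'R.trans hRS
  have hRM : R ≤ M := le_inf hRS Subgroup.le_normalizer
  have hMS : M ≤ S := inf_le_left
  -- `D'` lies in the hyperfocal subgroup
  have hcs : ∀ y ∈ Cfsg.Agent.Helper3.SmallExp.commSubSet 𝒥, (y : Ω) ∈ F.hyperfocalSubgroup p := by
    intro y hy
    unfold Cfsg.Agent.Helper3.SmallExp.commSubSet at hy
    induction hy using Subgroup.closure_induction with
    | mem y hy =>
      obtain ⟨b, ⟨hb, m, hm, hbm⟩, x, rfl⟩ := hy
      refine Cfsg.Agent.Helper3.HypCyclic.commSub_le_hyperfocal F hRS b hb hbm hm _ ?_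
      exact Subgroup.subset_closure ⟨x, rfl⟩
    | one => exact Subgroup.one_mem _
    | mul a b _ _ ha hb => exact Subgroup.mul_mem _ ha hb
    | inv a _ ha => exact Subgroup.inv_mem _ ha
  have hD'hyp : D' ≤ F.hyperfocalSubgroup p := by
    rintro _ ⟨d, hd, rfl⟩
    exact hcs d (hDcomm hd)
  have hD'exp : ∀ a ∈ D', a ^ (if p = 2 then 4 else p) = 1 := by
    rintro _ ⟨d, hd, rfl⟩
    have := hDexp d hd
    have h2 := congrArg (R.subtype) this
    rw [map_pow, map_one] at h2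
    exact h2
  -- `M` normalizes `D'`
  have hMD' : ∀ g ∈ M, ∀ a ∈ D', g * a * g⁻¹ ∈ D' := by
    rintro g hg _ ⟨d, hd, rfl⟩
    set β : MulAut R := R.normalizerMonoidHom ⟨g, hg.2⟩ with hβ
    have hβS : β ∈ autInducedBy S R := (mem_autInducedBy_iff β).mpr ⟨g, hg.1, fun x => rfl⟩
    have hβA : β ∈ 𝒢 := autInducedBy_le_autGroup F hRS hβS
    exact ⟨β d, hDinv β hβA d hd, rfl⟩
  by_contra hcon
  push Not at hcon
  have hall : ∀ A : Subgroup Ω, A ≤ D' → Small p A → M ≤ Subgroup.normalizer (A : Set Ω) →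
      CentralIn F A := fun A hA hs hn => hcon A (hA.trans hD'R) (hA.trans hD'hyp) hs hn
  -- if `D'` were central in `F`, `b₀` would fix `x₀`
  have hD'nc : ¬ CentralIn F D' := by
    intro hc
    apply hx₀
    exact fix_of_centralIn F hRS hc b₀ hb₀.1 x₀ ⟨x₀, hx₀D, rfl⟩
  set Z : Subgroup Ω := D' ⊓ Subgroup.centralizer (D' : Set Ω) with hZ
  have hZD' : Z ≤ D' := inf_le_left
  have hZcomm : ∀ a ∈ Z, ∀ b ∈ D', a * b = b * a := by
    intro a ha b hb
    have : a ∈ Subgroup.centralizer (D' : Set Ω) := ha.2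
    rw [Subgroup.mem_centralizer_iff] at this
    exact (this b hb).symm
  have hZsmall : Small p Z :=
    small_of_comm (fun a ha b hb => hZcomm a ha b (hZD' hb)) (fun a ha => hD'exp a (hZD' ha))
  have hMZ : ∀ g ∈ M, ∀ a ∈ Z, g * a * g⁻¹ ∈ Z := by
    intro g hg a ha
    refine ⟨hMD' g hg a ha.1, ?_⟩
    show g * a * g⁻¹ ∈ Subgroup.centralizer (D' : Set Ω)
    rw [Subgroup.mem_centralizer_iff]
    intro d hd
    have h1 : g⁻¹ * d * g⁻¹⁻¹ ∈ D' := hMD' g⁻¹ (M.inv_mem hg) d hd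
    have h2 := hZcomm a ha _ h1
    rw [inv_inv] at h2
    calc d * (g * a * g⁻¹) = g * ((g⁻¹ * d * g) * a) * g⁻¹ := by group
      _ = g * (a * (g⁻¹ * d * g)) * g⁻¹ := by rw [h2]
      _ = g * a * g⁻¹ * d := by group
  have hZc : CentralIn F Z := hall Z hZD' hZsmall (le_normalizer_of_conj hMZ)
  have hD'Z : ¬ D' ≤ Z := by
    intro h
    have heq : D' = Z := le_antisymm h hZD'
    apply hD'nc
    rw [heq]
    exact hZc
  -- the iterated commutators
  let Dseq : ℕ → Subgroup Ω := fun i => Nat.rec D' (fun _ K => ⁅K, M⁆) i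
  have hDseq0 : Dseq 0 = D' := rfl
  have hDseqS : ∀ i, Dseq (i + 1) = ⁅Dseq i, M⁆ := fun i => rfl
  have hDseqD' : ∀ i, Dseq i ≤ D' := by
    intro i
    induction i with
    | zero => exact le_rfl
    | succ i ih =>
      rw [hDseqS, Subgroup.commutator_le]
      intro d hd g hg
      have h1 : g * d⁻¹ * g⁻¹ ∈ D' := hMD' g hg _ (D'.inv_mem (ih hd))
      have : ⁅d, g⁆ = d * (g * d⁻¹ * g⁻¹) := by
        rw [commutatorElement_def]; group
      rw [this]
      exact D'.mul_mem (ih hd) h1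
  haveI : Finite M := Finite.of_injective _ (Subgroup.inclusion_injective hMS)
  have hMp : IsPGroup p M := hS.to_le hMS
  haveI : Group.IsNilpotent M := hMp.isNilpotent
  have hDseqL : ∀ i, Dseq i ≤ M.lowerCentralSeries i := by
    intro i
    induction i with
    | zero =>
      rw [hDseq0, Subgroup.lowerCentralSeries_zero]
      exact hD'R.trans hRM
    | succ i ih =>
      rw [hDseqS, Subgroup.lowerCentralSeries_succ]
      exact Subgroup.commutator_mono ih le_rfl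
  obtain ⟨n, hn⟩ := (Subgroup.isNilpotent_iff_lowerCentralSeries M).mp
    (inferInstance : Group.IsNilpotent M)
  have hex : ∃ i, Dseq i ≤ Z := by
    refine ⟨n, ?_⟩
    have := hDseqL n
    rw [hn] at this
    exact this.trans bot_le
  obtain ⟨i, hi1, himin⟩ : ∃ i, Dseq i ≤ Z ∧ ∀ k < i, ¬ Dseq k ≤ Z := by
    haveI : DecidablePred (fun n => Dseq n ≤ Z) := Classical.decPred _
    exact ⟨Nat.find hex, Nat.find_spec hex, fun k hk => Nat.find_min hex hk⟩
  have hi0 : i ≠ 0 := by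
    intro h0
    rw [h0, hDseq0] at hi1
    exact hD'Z hi1
  obtain ⟨j, hj⟩ := Nat.exists_eq_succ_of_ne_zero hi0
  have hj1 : ¬ Dseq j ≤ Z := himin j (by rw [hj]; exact Nat.lt_succ_self j)
  obtain ⟨x, hxj, hxZ⟩ := SetLike.not_le_iff_exists.mp hj1
  have hxD' : x ∈ D' := hDseqD' j hxj
  have hxg : ∀ g ∈ M, ⁅x, g⁆ ∈ Z := by
    intro g hg
    apply hi1
    rw [hj]
    show ⁅x, g⁆ ∈ Dseq (j + 1)
    rw [hDseqS]
    exact Subgroup.commutator_mem_commutator hxj hg
  -- the subgroup `A = Z ⟨x⟩`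
  set A : Subgroup Ω := Z ⊔ Subgroup.zpowers x with hA
  have hzxD' : Subgroup.zpowers x ≤ D' := by
    rw [Subgroup.zpowers_le]; exact hxD'
  have hAD' : A ≤ D' := sup_le hZD' hzxD'
  have hzsmall : Small p (Subgroup.zpowers x) := by
    refine small_of_comm ?_ (fun a ha => hD'exp a (hzxD' ha))
    intro a ha b hb
    obtain ⟨m, rfl⟩ := Subgroup.mem_zpowers_iff.mp ha
    obtain ⟨k, rfl⟩ := Subgroup.mem_zpowers_iff.mp hb
    exact ((Commute.refl x).zpow_zpow m k).eq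
  have hAsmall : Small p A :=
    small_sup hZsmall hzsmall (fun a ha b hb => hZcomm a ha b (hzxD' hb))
  have hMA : ∀ g ∈ M, ∀ a ∈ A, g * a * g⁻¹ ∈ A := by
    intro g hg a ha
    have h1 : A.map (MulAut.conj g).toMonoidHom ≤ A := by
      rw [hA, Subgroup.map_sup]
      refine sup_le ?_ ?_
      · refine le_trans ?_ le_sup_left
        rintro _ ⟨z, hz, rfl⟩
        exact hMZ g hg z hz
      · rw [MonoidHom.map_zpowers, Subgroup.zpowers_le]
        show g * x * g⁻¹ ∈ Z ⊔ Subgroup.zpowers x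
        have h2 : g * x * g⁻¹ = (⁅x, g⁆)⁻¹ * x := by
          rw [commutatorElement_def]; group
        rw [h2]
        exact Subgroup.mul_mem _ (Subgroup.mem_sup_left (Z.inv_mem (hxg g hg)))
          (Subgroup.mem_sup_right (Subgroup.mem_zpowers x))
    exact h1 ⟨a, ha, rfl⟩
  have hAc : CentralIn F A := hall A hAD' hAsmall (le_normalizer_of_conj hMA)
  have hxA : x ∈ A := Subgroup.mem_sup_right (Subgroup.mem_zpowers x)
  apply hxZ
  refine ⟨hxD', ?_⟩
  show x ∈ Subgroup.centralizer (D' : Set Ω)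
  rw [Subgroup.mem_centralizer_iff]
  intro d hd
  exact comm_of_centralIn F hAc d (hD'S hd) x hxA

end Cfsg.Agent.Helper25.SmAbNonc
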