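import Mathlib
import Cfsg.Agent.Lib.Helper25.FusionSimpCrit6

/-!
# `Sp₄(F)` as `2 × 2` matrices over `2 × 2` matrices: tensors, the subgroup `SL₂ ≀ 2`
-/

set_option autoImplicit false
set_option linter.style.haveILetI false
set_option linter.unusedSectionVars false
set_option linter.unusedSimpArgs false

namespace Cfsg.Agent.Helper25.Sp4

open Matrix

variable {F : Type*} [Field F]

local notation "M2" => Matrix (Fin 2) (Fin 2) F
local notation "M4" => Matrix (Fin 2 ⊕ Fin 2) (Fin 2 ⊕ Fin 2) F

/-- the Kronecker product, with the first factor indexing the blocks -/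
def tens (x u : M2) : M4 := fromBlocks (x 0 0 • u) (x 0 1 • u) (x 1 0 • u) (x 1 1 • u)

theorem tens_mul (x u y v : M2) : tens x u * tens y v = tens (x * y) (u * v) := by
  unfold tens
  rw [fromBlocks_multiply]
  simp only [Matrix.mul_apply, Fin.sum_univ_two, smul_mul_assoc, mul_smul_comm, smul_smul,
    ← add_smul]
  congr 1 <;> congr 1 <;> ring

theorem tens_add_left (x y u : M2) : tens (x + y) u = tens x u + tens y u := by
  unfold tens
  rw [fromBlocks_add]
  simp only [Matrix.add_apply, add_smul]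

theorem tens_add_right (x u v : M2) : tens x (u + v) = tens x u + tens x v := by
  unfold tens
  rw [fromBlocks_add]
  simp only [smul_add]

theorem tens_one : tens (1 : M2) 1 = 1 := by
  unfold tens
  simp [fromBlocks_one]

theorem tens_transpose (x u : M2) : (tens x u)ᵀ = tens xᵀ uᵀ := by
  unfold tens
  rw [fromBlocks_transpose]
  simp [transpose_smul]

theorem tens_smul_left (c : F) (x u : M2) : tens (c • x) u = c • tens x u := by
  unfold tens
  rw [fromBlocks_smul]
  simp only [Matrix.smul_apply, smul_eq_mul, smul_smul]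

theorem tens_smul_right (c : F) (x u : M2) : tens x (c • u) = c • tens x u := by
  unfold tens
  rw [fromBlocks_smul]
  simp only [smul_smul, mul_comm]

theorem tens_zero_left (u : M2) : tens (0 : M2) u = 0 := by
  unfold tens
  simp [fromBlocks_zero]

theorem tens_zero_right (x : M2) : tens x (0 : M2) = 0 := by
  unfold tens
  simp [fromBlocks_zero]

theorem tens_neg_left (x u : M2) : tens (-x) u = -tens x u := by
  have := tens_smul_left (-1 : F) x u
  simpa using this

theorem tens_neg_right (x u : M2) : tens x (-u) = -tens x u := by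
  have := tens_smul_right (-1 : F) x u
  simpa using this

/-- the symplectic form on the first factor -/
def Iw : M2 := !![0, -1; 1, 0]

theorem J_eq_tens : Matrix.J (Fin 2) F = tens Iw 1 := by
  unfold tens Matrix.J Iw
  simp

/-! ### the idempotents and the swap -/

def E1 : M2 := !![1, 0; 0, 0]
def E2 : M2 := !![0, 0; 0, 1]
def sw : M2 := !![0, 1; 1, 0]
def dl : M2 := !![1, 0; 0, -1]
def rho : M2 := !![0, 1; -1, 0]

theorem E1_mul_E1 : (E1 : M2) * E1 = E1 := by
  ext i j; fin_cases i <;> fin_cases j <;> simp [E1, Matrix.mul_apply, Fin.sum_univ_two]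
theorem E2_mul_E2 : (E2 : M2) * E2 = E2 := by
  ext i j; fin_cases i <;> fin_cases j <;> simp [E2, Matrix.mul_apply, Fin.sum_univ_two]
theorem E1_mul_E2 : (E1 : M2) * E2 = 0 := by
  ext i j; fin_cases i <;> fin_cases j <;> simp [E1, E2, Matrix.mul_apply, Fin.sum_univ_two]
theorem E2_mul_E1 : (E2 : M2) * E1 = 0 := by
  ext i j; fin_cases i <;> fin_cases j <;> simp [E1, E2, Matrix.mul_apply, Fin.sum_univ_two]
theorem E1_add_E2 : (E1 : M2) + E2 = 1 := by
  ext i j; fin_cases i <;> fin_cases j <;> simp [E1, E2, Matrix.one_apply]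
theorem E1_sub_E2 : (E1 : M2) - E2 = dl := by
  ext i j; fin_cases i <;> fin_cases j <;> simp [E1, E2, dl]
theorem sw_mul_E1 : (sw : M2) * E1 = E2 * sw := by
  ext i j; fin_cases i <;> fin_cases j <;> simp [E1, E2, sw, Matrix.mul_apply, Fin.sum_univ_two]
theorem sw_mul_E2 : (sw : M2) * E2 = E1 * sw := by
  ext i j; fin_cases i <;> fin_cases j <;> simp [E1, E2, sw, Matrix.mul_apply, Fin.sum_univ_two]
theorem sw_mul_sw : (sw : M2) * sw = 1 := by
  ext i j; fin_cases i <;> fin_cases j <;>
    simp [sw, Matrix.mul_apply, Fin.sum_univ_two, Matrix.one_apply]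
theorem E1_transpose : (E1 : M2)ᵀ = E1 := by
  ext i j; fin_cases i <;> fin_cases j <;> simp [E1]
theorem E2_transpose : (E2 : M2)ᵀ = E2 := by
  ext i j; fin_cases i <;> fin_cases j <;> simp [E2]
theorem sw_transpose : (sw : M2)ᵀ = sw := by
  ext i j; fin_cases i <;> fin_cases j <;> simp [sw]

/-- `x` on the first hyperbolic plane, `y` on the second -/
def bi (x y : M2) : M4 := tens x E1 + tens y E2

theorem bi_mul (x y x' y' : M2) : bi x y * bi x' y' = bi (x * x') (y * y') := by
  unfold bi
  rw [Matrix.add_mul, Matrix.mul_add, Matrix.mul_add, tens_mul, tens_mul, tens_mul, tens_mul,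
    E1_mul_E1, E2_mul_E2, E1_mul_E2, E2_mul_E1, tens_zero_right, tens_zero_right, add_zero,
    zero_add]

theorem bi_one : bi (1 : M2) 1 = 1 := by
  unfold bi
  rw [← tens_add_right, E1_add_E2, tens_one]

theorem bi_transpose (x y : M2) : (bi x y)ᵀ = bi xᵀ yᵀ := by
  unfold bi
  rw [Matrix.transpose_add, tens_transpose, tens_transpose, E1_transpose, E2_transpose]

theorem bi_same (x : M2) : bi x x = tens x 1 := by
  unfold bi
  rw [← tens_add_right, E1_add_E2]

theorem bi_neg (x y : M2) : bi (-x) (-y) = -bi x y := by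
  unfold bi
  rw [tens_neg_left, tens_neg_left, neg_add]

/-- the swap of the two hyperbolic planes -/
def tau : M4 := tens 1 sw

theorem tau_mul_bi (x y : M2) : tau * bi x y = bi y x * tau := by
  unfold tau bi
  rw [Matrix.mul_add, Matrix.add_mul, tens_mul, tens_mul, tens_mul, tens_mul, Matrix.one_mul,
    Matrix.one_mul, Matrix.mul_one, Matrix.mul_one, sw_mul_E1, sw_mul_E2, add_comm]

theorem tau_mul_tau : (tau : M4) * tau = 1 := by
  unfold tau
  rw [tens_mul, Matrix.one_mul, sw_mul_sw, tens_one]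

theorem bi_apply (x y : M2) :
    bi x y = fromBlocks !![x 0 0, 0; 0, y 0 0] !![x 0 1, 0; 0, y 0 1]
      !![x 1 0, 0; 0, y 1 0] !![x 1 1, 0; 0, y 1 1] := by
  unfold bi tens
  rw [fromBlocks_add]
  congr 1 <;> (ext i j; fin_cases i <;> fin_cases j <;> simp [E1, E2])

theorem bi_inj {x y x' y' : M2} (h : bi x y = bi x' y') : x = x' ∧ y = y' := by
  rw [bi_apply, bi_apply, fromBlocks_inj] at h
  obtain ⟨h1, h2, h3, h4⟩ := h
  constructor
  · ext i j
    fin_cases i <;> fin_cases j
    · simpa using congrFun (congrFun h1 0) 0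
    · simpa using congrFun (congrFun h2 0) 0
    · simpa using congrFun (congrFun h3 0) 0
    · simpa using congrFun (congrFun h4 0) 0
  · ext i j
    fin_cases i <;> fin_cases j
    · simpa using congrFun (congrFun h1 1) 1
    · simpa using congrFun (congrFun h2 1) 1
    · simpa using congrFun (congrFun h3 1) 1
    · simpa using congrFun (congrFun h4 1) 1

theorem tau_ne_bi (x y : M2) : (tau : M4) ≠ bi x y := by
  intro h
  have h1 : (tau : M4) (Sum.inl 0) (Sum.inl 1) = bi x y (Sum.inl 0) (Sum.inl 1) := by rw [h]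
  rw [bi_apply] at h1
  simp [tau, tens, sw] at h1

theorem mul_Iw_transpose (x : M2) : x * Iw * xᵀ = x.det • Iw := by
  ext i j
  fin_cases i <;> fin_cases j <;>
    simp [Iw, Matrix.mul_apply, Fin.sum_univ_two, Matrix.det_fin_two] <;> ring

theorem bi_mem {x y : M2} (hx : x.det = 1) (hy : y.det = 1) :
    bi x y ∈ Matrix.symplecticGroup (Fin 2) F := by
  rw [SymplecticGroup.mem_iff, J_eq_tens, bi_transpose, ← bi_same, bi_mul, bi_mul,
    mul_Iw_transpose, mul_Iw_transpose, hx, hy, one_smul]

theorem tau_mem : (tau : M4) ∈ Matrix.symplecticGroup (Fin 2) F := by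
  rw [SymplecticGroup.mem_iff, J_eq_tens]
  unfold tau
  rw [tens_transpose, tens_mul, tens_mul, Matrix.transpose_one, Matrix.one_mul, Matrix.mul_one,
    Matrix.mul_one, sw_transpose, sw_mul_sw]

/-- a matrix commuting with `1 ⊗ diag(1,-1)` has diagonal blocks -/
theorem eq_bi_of_comm (h2 : (2 : F) ≠ 0) {M : M4} (h : M * tens 1 dl = tens 1 dl * M) :
    ∃ x y : M2, M = bi x y := by
  have hM : M = fromBlocks M.toBlocks₁₁ M.toBlocks₁₂ M.toBlocks₂₁ M.toBlocks₂₂ :=
    (fromBlocks_toBlocks M).symm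
  have hd : tens (1 : M2) dl = fromBlocks dl 0 0 dl := by
    unfold tens
    simp
  rw [hd, hM, fromBlocks_multiply, fromBlocks_multiply] at h
  simp only [Matrix.mul_zero, Matrix.zero_mul, add_zero, zero_add, fromBlocks_inj] at h
  obtain ⟨h11, h12, h21, h22⟩ := h
  have key : ∀ N : M2, N * dl = dl * N → N 0 1 = 0 ∧ N 1 0 = 0 := by
    intro N hN
    have e01 := congrFun (congrFun hN 0) 1
    have e10 := congrFun (congrFun hN 1) 0
    simp [dl, Matrix.mul_apply, Fin.sum_univ_two] at e01 e10
    constructor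
    · have : 2 * N 0 1 = 0 := by linear_combination -e01
      rcases mul_eq_zero.mp this with h3 | h3
      · exact absurd h3 h2
      · exact h3
    · have : 2 * N 1 0 = 0 := by linear_combination e10
      rcases mul_eq_zero.mp this with h3 | h3
      · exact absurd h3 h2
      · exact h3
  obtain ⟨a1, a2⟩ := key _ h11
  obtain ⟨b1, b2⟩ := key _ h12
  obtain ⟨c1, c2⟩ := key _ h21
  obtain ⟨d1, d2⟩ := key _ h22
  refine ⟨!![M.toBlocks₁₁ 0 0, M.toBlocks₁₂ 0 0; M.toBlocks₂₁ 0 0, M.toBlocks₂₂ 0 0],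
    !![M.toBlocks₁₁ 1 1, M.toBlocks₁₂ 1 1; M.toBlocks₂₁ 1 1, M.toBlocks₂₂ 1 1], ?_⟩
  rw [bi_apply]
  conv_lhs => rw [hM]
  congr 1 <;> (ext i j; fin_cases i <;> fin_cases j <;> simp [a1, a2, b1, b2, c1, c2, d1, d2])

theorem det_eq_one_of_bi_mem {x y : M2} (h : bi x y ∈ Matrix.symplecticGroup (Fin 2) F) :
    x.det = 1 ∧ y.det = 1 := by
  rw [SymplecticGroup.mem_iff, J_eq_tens, bi_transpose, ← bi_same, bi_mul, bi_mul,
    mul_Iw_transpose, mul_Iw_transpose] at h
  obtain ⟨h1, h2⟩ := bi_inj h
  constructor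
  · have := congrFun (congrFun h1 1) 0
    simpa [Iw] using this
  · have := congrFun (congrFun h2 1) 0
    simpa [Iw] using this

end Cfsg.Agent.Helper25.Sp4
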