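import Mathlib
import Cfsg.Agent.Lib.Helper25.Sp4Tens
import Cfsg.Agent.Lib.Helper25.PSL2Fus2

/-!
# The subgroup `P ≀ 2` of `Sp₄(F)` and its normaliser
-/

set_option autoImplicit false
set_option linter.style.haveILetI false
set_option linter.unusedSectionVars false
set_option linter.unusedSimpArgs false

namespace Cfsg.Agent.Helper25.Sp4

open Matrix Cfsg.Agent.Helper12

variable {F : Type*} [Field F]

local notation "M2" => Matrix (Fin 2) (Fin 2) F
local notation "M4" => Matrix (Fin 2 ⊕ Fin 2) (Fin 2 ⊕ Fin 2) F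
local notation "HH" => Matrix.SpecialLinearGroup (Fin 2) F

/-- `Sp₄(F)` as a type -/
abbrev SpG (F : Type*) [Field F] : Type _ := ↥(Matrix.symplecticGroup (Fin 2) F)

local notation "GG" => SpG F

/-- the embedding of `SL₂ × SL₂` -/
def io (a b : HH) : GG := ⟨bi a.1 b.1, bi_mem a.2 b.2⟩

theorem io_val (a b : HH) : (io a b).1 = bi a.1 b.1 := rfl

theorem io_mul (a b a' b' : HH) : io a b * io a' b' = io (a * a') (b * b') := by
  apply Subtype.ext
  show bi a.1 b.1 * bi a'.1 b'.1 = bi (a * a').1 (b * b').1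
  rw [bi_mul]
  rfl

theorem io_one : io (1 : HH) 1 = 1 := by
  apply Subtype.ext
  show bi (1 : HH).1 (1 : HH).1 = 1
  rw [Matrix.SpecialLinearGroup.coe_one, bi_one]

theorem io_inv (a b : HH) : (io a b)⁻¹ = io a⁻¹ b⁻¹ := by
  rw [inv_eq_iff_mul_eq_one, io_mul, mul_inv_cancel, mul_inv_cancel, io_one]

theorem io_inj {a b a' b' : HH} (h : io a b = io a' b') : a = a' ∧ b = b' := by
  have := congrArg Subtype.val h
  obtain ⟨h1, h2⟩ := bi_inj this
  exact ⟨Subtype.ext h1, Subtype.ext h2⟩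

theorem io_pow (a b : HH) (n : ℕ) : (io a b) ^ n = io (a ^ n) (b ^ n) := by
  induction n with
  | zero => simp [io_one]
  | succ n ih => rw [pow_succ, ih, io_mul, ← pow_succ, ← pow_succ]

/-- the swap -/
def tG : GG := ⟨tau, tau_mem⟩

theorem tG_mul_io (a b : HH) : tG * io a b = io b a * tG := Subtype.ext (tau_mul_bi _ _)

theorem tG_mul_tG : (tG : GG) * tG = 1 := Subtype.ext tau_mul_tau

theorem tG_inv : (tG : GG)⁻¹ = tG := inv_eq_of_mul_eq_one_left tG_mul_tG

theorem tG_ne_io (a b : HH) : (tG : GG) ≠ io a b := fun h =>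
  tau_ne_bi _ _ (congrArg Subtype.val h)

theorem io_mul_tG_ne (a b a' b' : HH) : io a b * tG ≠ io a' b' := by
  intro h
  have : tG = io (a⁻¹ * a') (b⁻¹ * b') := by
    rw [← io_mul, ← io_inv, ← h]
    group
  exact tG_ne_io _ _ this

theorem conj_io_tG (a b : HH) : io a b * tG * (io a b)⁻¹ = io (a * b⁻¹) (b * a⁻¹) * tG := by
  rw [io_inv, mul_assoc, tG_mul_io, ← mul_assoc, io_mul]

theorem conj_tG_io (a b : HH) : tG * io a b * tG⁻¹ = io b a := by
  rw [tG_mul_io, mul_assoc, tG_inv, tG_mul_tG, mul_one]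

/-- the central involution -/
def negG : GG := io negOneSL negOneSL

theorem negG_val : (negG : GG).1 = -1 := by
  show bi (negOneSL : HH).1 (negOneSL : HH).1 = -1
  rw [negOneSL_coe, bi_neg, bi_one]

theorem negG_comm (g : GG) : negG * g = g * negG := by
  apply Subtype.ext
  show (negG : GG).1 * g.1 = g.1 * (negG : GG).1
  rw [negG_val]
  simp

theorem negG_mul_negG : (negG : GG) * negG = 1 := by
  unfold negG
  rw [io_mul, negOneSL_mul_self, io_one]

/-- `P ≀ 2` -/
def wr (P : Subgroup HH) : Subgroup GG where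
  carrier := {g | ∃ a ∈ P, ∃ b ∈ P, g = io a b ∨ g = io a b * tG}
  mul_mem' := by
    rintro x y ⟨a, ha, b, hb, hx⟩ ⟨a', ha', b', hb', hy⟩
    rcases hx with rfl | rfl <;> rcases hy with rfl | rfl
    · exact ⟨a * a', P.mul_mem ha ha', b * b', P.mul_mem hb hb', Or.inl (io_mul _ _ _ _)⟩
    · refine ⟨a * a', P.mul_mem ha ha', b * b', P.mul_mem hb hb', Or.inr ?_⟩
      rw [← mul_assoc, io_mul]
    · refine ⟨a * b', P.mul_mem ha hb', b * a', P.mul_mem hb ha', Or.inr ?_⟩
      rw [mul_assoc, tG_mul_io, ← mul_assoc, io_mul]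
    · refine ⟨a * b', P.mul_mem ha hb', b * a', P.mul_mem hb ha', Or.inl ?_⟩
      rw [mul_assoc, ← mul_assoc tG, tG_mul_io, mul_assoc, tG_mul_tG, mul_one, io_mul]
  one_mem' := ⟨1, P.one_mem, 1, P.one_mem, Or.inl io_one.symm⟩
  inv_mem' := by
    rintro x ⟨a, ha, b, hb, rfl | rfl⟩
    · exact ⟨a⁻¹, P.inv_mem ha, b⁻¹, P.inv_mem hb, Or.inl (io_inv _ _)⟩
    · refine ⟨b⁻¹, P.inv_mem hb, a⁻¹, P.inv_mem ha, Or.inr ?_⟩
      rw [_root_.mul_inv_rev, tG_inv, io_inv, tG_mul_io]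

theorem mem_wr_iff {P : Subgroup HH} {g : GG} :
    g ∈ wr P ↔ ∃ a ∈ P, ∃ b ∈ P, g = io a b ∨ g = io a b * tG := Iff.rfl

theorem io_mem_wr_iff {P : Subgroup HH} {a b : HH} : io a b ∈ wr P ↔ a ∈ P ∧ b ∈ P := by
  constructor
  · rintro ⟨a', ha', b', hb', h | h⟩
    · obtain ⟨rfl, rfl⟩ := io_inj h
      exact ⟨ha', hb'⟩
    · exact absurd h.symm (io_mul_tG_ne _ _ _ _)
  · rintro ⟨ha, hb⟩
    exact ⟨a, ha, b, hb, Or.inl rfl⟩

theorem tG_mem_wr (P : Subgroup HH) : tG ∈ wr P :=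
  ⟨1, P.one_mem, 1, P.one_mem, Or.inr (by rw [io_one, one_mul])⟩

theorem io_mul_tG_mem_wr_iff {P : Subgroup HH} {a b : HH} :
    io a b * tG ∈ wr P ↔ a ∈ P ∧ b ∈ P := by
  constructor
  · intro h
    have := (wr P).mul_mem h (tG_mem_wr P)
    rw [mul_assoc, tG_mul_tG, mul_one] at this
    exact io_mem_wr_iff.mp this
  · rintro ⟨ha, hb⟩
    exact ⟨a, ha, b, hb, Or.inr rfl⟩

theorem z2_val : (io (1 : HH) negOneSL).1 = tens 1 dl := by
  show bi (1 : HH).1 (negOneSL : HH).1 = tens 1 dl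
  rw [Matrix.SpecialLinearGroup.coe_one, negOneSL_coe]
  unfold bi
  rw [tens_neg_left, ← tens_neg_right, ← tens_add_right, ← sub_eq_add_neg, E1_sub_E2]

theorem z1_val : (io (negOneSL : HH) 1).1 = -tens 1 dl := by
  show bi (negOneSL : HH).1 (1 : HH).1 = -tens 1 dl
  rw [Matrix.SpecialLinearGroup.coe_one, negOneSL_coe]
  unfold bi
  rw [tens_neg_left, ← tens_neg_right, ← tens_add_right, ← tens_neg_right]
  congr 1
  rw [← E1_sub_E2]
  abel

/-- an element commuting with `1 ⊗ diag(1,-1)` lies in `SL₂ × SL₂` -/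
theorem exists_io_of_comm (h2 : (2 : F) ≠ 0) {g : GG}
    (h : g.1 * tens 1 dl = tens 1 dl * g.1) : ∃ a b : HH, g = io a b := by
  obtain ⟨x, y, hxy⟩ := eq_bi_of_comm h2 h
  have hm : bi x y ∈ Matrix.symplecticGroup (Fin 2) F := hxy ▸ g.2
  obtain ⟨hx, hy⟩ := det_eq_one_of_bi_mem hm
  exact ⟨⟨x, hx⟩, ⟨y, hy⟩, Subtype.ext hxy⟩

theorem exists_io_of_comm_z1 (h2 : (2 : F) ≠ 0) {g : GG}
    (h : g * io negOneSL 1 = io negOneSL 1 * g) : ∃ a b : HH, g = io a b := by
  apply exists_io_of_comm h2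
  have h1 : g.1 * (io (negOneSL : HH) 1).1 = (io (negOneSL : HH) 1).1 * g.1 :=
    congrArg Subtype.val h
  rw [z1_val] at h1
  simpa using h1

theorem negOneSL_ne_one' (h2 : (2 : F) ≠ 0) : (1 : HH) ≠ negOneSL := fun h =>
  negOneSL_ne_one h2 h.symm

/-- squares in `P ≀ 2` which are non-central involutions -/
theorem sq_involution (h2 : (2 : F) ≠ 0) {P : Subgroup HH} {y : GG} (hy : y ∈ wr P)
    (h4 : (y * y) * (y * y) = 1) :
    y * y = 1 ∨ y * y = negG ∨ y * y = io negOneSL 1 ∨ y * y = io 1 negOneSL := by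
  obtain ⟨a, -, b, -, rfl | rfl⟩ := hy
  · rw [io_mul] at h4 ⊢
    rw [io_mul, ← io_one] at h4
    obtain ⟨ha, hb⟩ := io_inj h4
    rcases SL2_sq_eq_one h2 _ ha with ha | ha <;> rcases SL2_sq_eq_one h2 _ hb with hb | hb <;>
      rw [ha, hb]
    · left; exact io_one
    · right; right; right; rfl
    · right; right; left; rfl
    · right; left; rfl
  · have e : io a b * tG * (io a b * tG) = io (a * b) (b * a) := by
      rw [mul_assoc, ← mul_assoc tG, tG_mul_io, mul_assoc, tG_mul_tG, mul_one, io_mul]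
    rw [e] at h4 ⊢
    rw [io_mul, ← io_one] at h4
    obtain ⟨ha, -⟩ := io_inj h4
    have hba : b * a = a⁻¹ * (a * b) * a := by group
    rcases SL2_sq_eq_one h2 _ ha with ha | ha
    · left
      rw [hba, ha]
      simp [io_one]
    · right; left
      rw [hba, ha]
      have : a⁻¹ * negOneSL * a = negOneSL := by
        rw [mul_assoc, negOneSL_comm, ← mul_assoc, inv_mul_cancel, one_mul]
      rw [this]
      rfl

theorem io_sq_c {c : HH} (hc : c * c = negOneSL) : io c 1 * io c 1 = io negOneSL 1 := by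
  rw [io_mul, hc, one_mul]

/-- a normalising element sends `z₁` to `z₁` or `z₂` -/
theorem conj_z1 (h2 : (2 : F) ≠ 0) {P : Subgroup HH} {c : HH} (hc : c * c = negOneSL)
    (hcP : c ∈ P) {g : GG} (hg : g ∈ Subgroup.normalizer ((wr P : Subgroup GG) : Set GG)) :
    g * io negOneSL 1 * g⁻¹ = io negOneSL 1 ∨ g * io negOneSL 1 * g⁻¹ = io 1 negOneSL := by
  have hy : g * io c 1 * g⁻¹ ∈ wr P :=
    (Subgroup.mem_normalizer_iff.mp hg _).mp (io_mem_wr_iff.mpr ⟨hcP, P.one_mem⟩)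
  have e : (g * io c 1 * g⁻¹) * (g * io c 1 * g⁻¹) = g * io negOneSL 1 * g⁻¹ := by
    rw [← io_sq_c hc]
    group
  have hz : io (negOneSL : HH) 1 * io negOneSL 1 = 1 := by
    rw [io_mul, negOneSL_mul_self, one_mul, io_one]
  have h4 : (g * io negOneSL 1 * g⁻¹) * (g * io negOneSL 1 * g⁻¹) = 1 := by
    have : (g * io negOneSL 1 * g⁻¹) * (g * io negOneSL 1 * g⁻¹) =
        g * (io negOneSL 1 * io negOneSL 1) * g⁻¹ := by group
    rw [this, hz]
    group
  have h5 := sq_involution h2 hy (by rw [e]; exact h4)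
  rw [e] at h5
  rcases h5 with h5 | h5 | h5 | h5
  · exfalso
    have : io (negOneSL : HH) 1 = 1 := by
      have e2 : io (negOneSL : HH) 1 = g⁻¹ * (g * io negOneSL 1 * g⁻¹) * g := by group
      rw [e2, h5]
      group
    rw [← io_one] at this
    exact negOneSL_ne_one h2 (io_inj this).1
  · exfalso
    have : io (negOneSL : HH) 1 = negG := by
      have e2 : io (negOneSL : HH) 1 = g⁻¹ * (g * io negOneSL 1 * g⁻¹) * g := by group
      rw [e2, h5, mul_assoc, negG_comm, ← mul_assoc, inv_mul_cancel, one_mul]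
    exact negOneSL_ne_one' h2 (io_inj this).2
  · left; exact h5
  · right; exact h5

/-- the normaliser of `P ≀ 2`, when `P` contains an element of order four -/
theorem normalizer_wr (h2 : (2 : F) ≠ 0) {P : Subgroup HH} {c : HH} (hc : c * c = negOneSL)
    (hcP : c ∈ P) {g : GG} (hg : g ∈ Subgroup.normalizer ((wr P : Subgroup GG) : Set GG)) :
    ∃ h₁ h₂ : HH, h₁ ∈ Subgroup.normalizer ((P : Subgroup HH) : Set HH) ∧
      h₂ ∈ Subgroup.normalizer ((P : Subgroup HH) : Set HH) ∧ h₁ * h₂⁻¹ ∈ P ∧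
      (g = io h₁ h₂ ∨ g = io h₁ h₂ * tG) := by
  -- first the case of an element of `SL₂ × SL₂`
  have key : ∀ h₁ h₂ : HH, io h₁ h₂ ∈ Subgroup.normalizer ((wr P : Subgroup GG) : Set GG) →
      h₁ ∈ Subgroup.normalizer ((P : Subgroup HH) : Set HH) ∧
      h₂ ∈ Subgroup.normalizer ((P : Subgroup HH) : Set HH) ∧ h₁ * h₂⁻¹ ∈ P := by
    intro h₁ h₂ hn
    have hn' := Subgroup.mem_normalizer_iff.mp hn
    refine ⟨?_, ?_, ?_⟩
    · rw [Subgroup.mem_normalizer_iff]
      intro x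
      have e : io h₁ h₂ * io x 1 * (io h₁ h₂)⁻¹ = io (h₁ * x * h₁⁻¹) 1 := by
        rw [io_inv, io_mul, io_mul, mul_one, mul_inv_cancel]
      have := hn' (io x 1)
      rw [e, io_mem_wr_iff, io_mem_wr_iff] at this
      constructor
      · intro hx
        exact (this.mp ⟨hx, P.one_mem⟩).1
      · intro hx
        exact (this.mpr ⟨hx, P.one_mem⟩).1
    · rw [Subgroup.mem_normalizer_iff]
      intro x
      have e : io h₁ h₂ * io 1 x * (io h₁ h₂)⁻¹ = io 1 (h₂ * x * h₂⁻¹) := by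
        rw [io_inv, io_mul, io_mul, mul_one, mul_inv_cancel]
      have := hn' (io 1 x)
      rw [e, io_mem_wr_iff, io_mem_wr_iff] at this
      constructor
      · intro hx
        exact (this.mp ⟨P.one_mem, hx⟩).2
      · intro hx
        exact (this.mpr ⟨P.one_mem, hx⟩).2
    · have := (hn' tG).mp (tG_mem_wr P)
      rw [conj_io_tG, io_mul_tG_mem_wr_iff] at this
      exact this.1
  rcases conj_z1 h2 hc hcP hg with h | h
  · have hcomm : g * io negOneSL 1 = io negOneSL 1 * g := by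
      calc g * io negOneSL 1 = (g * io negOneSL 1 * g⁻¹) * g := by group
        _ = io negOneSL 1 * g := by rw [h]
    obtain ⟨a, b, rfl⟩ := exists_io_of_comm_z1 h2 hcomm
    obtain ⟨k1, k2, k3⟩ := key a b hg
    exact ⟨a, b, k1, k2, k3, Or.inl rfl⟩
  · have hcomm : (tG * g) * io negOneSL 1 = io negOneSL 1 * (tG * g) := by
      have e1 : tG * io (1 : HH) negOneSL * tG⁻¹ = io negOneSL 1 := conj_tG_io _ _
      calc tG * g * io negOneSL 1 = tG * (g * io negOneSL 1 * g⁻¹) * g := by group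
        _ = tG * io 1 negOneSL * g := by rw [h]
        _ = (tG * io 1 negOneSL * tG⁻¹) * (tG * g) := by group
        _ = io negOneSL 1 * (tG * g) := by rw [e1]
    obtain ⟨a, b, hab⟩ := exists_io_of_comm_z1 h2 hcomm
    have hg' : g = io b a * tG := by
      have : g = tG * io a b := by
        rw [← hab, ← mul_assoc, tG_mul_tG, one_mul]
      rw [this, tG_mul_io]
    have hn : io b a ∈ Subgroup.normalizer ((wr P : Subgroup GG) : Set GG) := by
      have : io b a = g * tG := by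
        rw [hg', mul_assoc, tG_mul_tG, mul_one]
      rw [this]
      exact Subgroup.mul_mem _ hg (Subgroup.le_normalizer (tG_mem_wr P))
    obtain ⟨k1, k2, k3⟩ := key b a hn
    exact ⟨b, a, k1, k2, k3, Or.inr hg'⟩

end Cfsg.Agent.Helper25.Sp4
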