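import Mathlib
import Cfsg.Agent.Lib.Helper25.Sp4Wr

/-!
# `P ≀ 2` is a Sylow 2-subgroup of `Sp₄(F)`; the centre of `Sp₄(F)`
-/

set_option autoImplicit false
set_option linter.style.haveILetI false
set_option linter.unusedSectionVars false
set_option linter.unusedSimpArgs false

namespace Cfsg.Agent.Helper25.Sp4

open Matrix Cfsg.Agent.Helper12

variable {F : Type*} [Field F]

local notation "M2" => Matrix (Fin 2) (Fin 2) F
local notation "M4" => Matrix (Fin 2 ⊕ Fin 2) (Fin 2 ⊕ Fin 2) F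
local notation "HH" => Matrix.SpecialLinearGroup (Fin 2) F
local notation "GG" => SpG F

/-- a `p`-element normalising a Sylow `p`-subgroup lies in it -/
theorem mem_sylow_of_normalizer_pow {G : Type*} [Group G] {p : ℕ} [Fact p.Prime] (P : Sylow p G)
    {h : G} (hN : h ∈ Subgroup.normalizer ((P : Subgroup G) : Set G)) {k : ℕ}
    (hk : h ^ p ^ k = 1) : h ∈ (P : Subgroup G) := by
  have hz : IsPGroup p (Subgroup.zpowers h) := by
    rintro ⟨x, hx⟩
    obtain ⟨i, rfl⟩ := Subgroup.mem_zpowers_iff.mp hx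
    refine ⟨k, Subtype.ext ?_⟩
    show (h ^ i) ^ p ^ k = 1
    rw [← zpow_natCast, ← _root_.zpow_mul, mul_comm, _root_.zpow_mul, zpow_natCast, hk, _root_.one_zpow]
  have hle : Subgroup.zpowers h ≤ Subgroup.normalizer ((P : Subgroup G) : Set G) :=
    Subgroup.zpowers_le.mpr hN
  have hsup := IsPGroup.to_sup_of_normal_right' hz P.isPGroup' hle
  have := P.is_maximal' hsup le_sup_right
  rw [← this]
  exact (le_sup_left : Subgroup.zpowers h ≤ _) (Subgroup.mem_zpowers h)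

/-- an element commuting with four generators of `2^{1+4}` is `± 1` -/
theorem eq_one_or_negG_of_comm (h2 : (2 : F) ≠ 0) {c w : HH} (hc : c * c = negOneSL)
    (hw : w * c * w⁻¹ = c⁻¹) {g : GG}
    (h1 : g * io 1 negOneSL = io 1 negOneSL * g) (ht : g * tG = tG * g)
    (h3 : g * io c c = io c c * g) (h4 : g * io w w = io w w * g) :
    g = 1 ∨ g = negG := by
  have h1' : g.1 * tens 1 dl = tens 1 dl * g.1 := by
    have := congrArg Subtype.val h1
    rw [← z2_val]
    exact this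
  obtain ⟨a, b, rfl⟩ := exists_io_of_comm h2 h1'
  have hab : a = b := by
    rw [tG_mul_io] at ht
    have := mul_right_cancel ht
    exact (io_inj this).1
  subst hab
  rw [io_mul, io_mul] at h3 h4
  have hac : a * c = c * a := (io_inj h3).1
  have haw : a * w = w * a := (io_inj h4).1
  have hmem : a ∈ torus c := by
    rw [mem_torus_iff]
    exact hac.symm
  have hinv := inverts_torus (not_scalar_of_sq h2 hc) w hw a hmem
  have h5 : w * a * w⁻¹ = a := by
    rw [← haw, mul_assoc, mul_inv_cancel, mul_one]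
  rw [h5] at hinv
  have h6 : a * a = 1 := by
    nth_rw 1 [hinv]
    exact inv_mul_cancel a
  rcases SL2_sq_eq_one h2 a h6 with h7 | h7
  · left
    rw [h7, io_one]
  · right
    rw [h7]
    rfl

theorem mem_center_iff_negG (h2 : (2 : F) ≠ 0) {c w : HH} (hc : c * c = negOneSL)
    (hw : w * c * w⁻¹ = c⁻¹) {g : GG} :
    g ∈ Subgroup.center GG ↔ g = 1 ∨ g = negG := by
  constructor
  · intro hg
    rw [Subgroup.mem_center_iff] at hg
    exact eq_one_or_negG_of_comm h2 hc hw (hg _).symm (hg _).symm (hg _).symm (hg _).symm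
  · rintro (rfl | rfl)
    · exact Subgroup.one_mem _
    · rw [Subgroup.mem_center_iff]
      intro x
      exact (negG_comm x).symm

theorem isPGroup_wr {P : Subgroup HH} (hP : IsPGroup 2 P) : IsPGroup 2 (wr P) := by
  have key : ∀ a ∈ P, ∀ b ∈ P, ∃ k : ℕ, (io a b) ^ 2 ^ k = 1 := by
    intro a ha b hb
    obtain ⟨k, hk⟩ := hP ⟨a, ha⟩
    obtain ⟨l, hl⟩ := hP ⟨b, hb⟩
    have hk' : a ^ 2 ^ k = 1 := by simpa using congrArg Subtype.val hk
    have hl' : b ^ 2 ^ l = 1 := by simpa using congrArg Subtype.val hl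
    refine ⟨k + l, ?_⟩
    rw [io_pow, pow_add, pow_mul, hk', one_pow, mul_comm, pow_mul, hl', one_pow, io_one]
  rintro ⟨x, a, ha, b, hb, rfl | rfl⟩
  · obtain ⟨k, hk⟩ := key a ha b hb
    exact ⟨k, Subtype.ext hk⟩
  · have e : io a b * tG * (io a b * tG) = io (a * b) (b * a) := by
      rw [mul_assoc, ← mul_assoc tG, tG_mul_io, mul_assoc, tG_mul_tG, mul_one, io_mul]
    obtain ⟨k, hk⟩ := key (a * b) (P.mul_mem ha hb) (b * a) (P.mul_mem hb ha)
    refine ⟨k + 1, Subtype.ext ?_⟩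
    show (io a b * tG) ^ 2 ^ (k + 1) = 1
    rw [pow_succ, mul_comm, pow_mul, pow_two, e, hk]

theorem exists_sylow_wr [Finite F] (h2 : (2 : F) ≠ 0) (P : Sylow 2 HH) {c : HH}
    (hc : c * c = negOneSL) (hcP : c ∈ (P : Subgroup HH)) :
    ∃ U : Sylow 2 GG, (U : Subgroup GG) = wr (P : Subgroup HH) := by
  classical
  haveI := Fintype.ofFinite F
  apply SimpCrit.exists_sylow_of_normalizer 2 _ (isPGroup_wr P.isPGroup')
  intro g hg ⟨k, hk⟩
  obtain ⟨h₁, h₂, hn1, hn2, h12, rfl | rfl⟩ := normalizer_wr h2 hc hcP hg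
  · rw [io_pow, ← io_one] at hk
    obtain ⟨hk1, hk2⟩ := io_inj hk
    exact io_mem_wr_iff.mpr ⟨mem_sylow_of_normalizer_pow P hn1 hk1,
      mem_sylow_of_normalizer_pow P hn2 hk2⟩
  · have e : io h₁ h₂ * tG * (io h₁ h₂ * tG) = io (h₁ * h₂) (h₂ * h₁) := by
      rw [mul_assoc, ← mul_assoc tG, tG_mul_io, mul_assoc, tG_mul_tG, mul_one, io_mul]
    have hk' : (io (h₁ * h₂) (h₂ * h₁)) ^ 2 ^ k = 1 := by
      rw [← e, ← pow_two, ← pow_mul, mul_comm, pow_mul, hk, one_pow]
    rw [io_pow, ← io_one] at hk'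
    obtain ⟨hk1, -⟩ := io_inj hk'
    have hm1 : h₁ * h₂ ∈ (P : Subgroup HH) :=
      mem_sylow_of_normalizer_pow P (Subgroup.mul_mem _ hn1 hn2) hk1
    have hm2 : h₂ * h₂ ∈ (P : Subgroup HH) := by
      have : h₂ * h₂ = (h₁ * h₂⁻¹)⁻¹ * (h₁ * h₂) := by group
      rw [this]
      exact Subgroup.mul_mem _ (Subgroup.inv_mem _ h12) hm1
    obtain ⟨l, hl⟩ := P.isPGroup' ⟨h₂ * h₂, hm2⟩
    have hl' : (h₂ * h₂) ^ 2 ^ l = 1 := by simpa using congrArg Subtype.val hl
    have hl2 : h₂ ^ 2 ^ (l + 1) = 1 := by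
      rw [pow_succ, mul_comm, pow_mul, pow_two, hl']
    have hm3 : h₂ ∈ (P : Subgroup HH) := mem_sylow_of_normalizer_pow P hn2 hl2
    have hm4 : h₁ ∈ (P : Subgroup HH) := by
      have : h₁ = (h₁ * h₂⁻¹) * h₂ := by group
      rw [this]
      exact Subgroup.mul_mem _ h12 hm3
    exact io_mul_tG_mem_wr_iff.mpr ⟨hm4, hm3⟩

end Cfsg.Agent.Helper25.Sp4
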