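import Mathlib
import Cfsg.Agent.Lib.Helper25.Sp4Syl

/-!
# No fusion-closed subgroup strictly between the centre and `P ≀ 2` in `Sp₄(F)`
-/

set_option autoImplicit false
set_option linter.style.haveILetI false
set_option linter.unusedSectionVars false
set_option linter.unusedSimpArgs false

namespace Cfsg.Agent.Helper25.Sp4

open Matrix Cfsg.Agent.Helper12 Cfsg.Agent.Helper25.SimpCrit Cfsg.Agent.Helper25.PSL2Fus

variable {F : Type*} [Field F]

local notation "M2" => Matrix (Fin 2) (Fin 2) F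
local notation "M4" => Matrix (Fin 2 ⊕ Fin 2) (Fin 2 ⊕ Fin 2) F
local notation "HH" => Matrix.SpecialLinearGroup (Fin 2) F
local notation "GG" => SpG F

theorem tens_mem {x u : M2} (h : x.det • (u * uᵀ) = 1) :
    tens x u ∈ Matrix.symplecticGroup (Fin 2) F := by
  rw [SymplecticGroup.mem_iff, J_eq_tens, tens_transpose, tens_mul, tens_mul, mul_Iw_transpose,
    Matrix.mul_one, tens_smul_left, ← tens_smul_right, h]

/-- the matrix `diag(1, 1/2)` -/
def Dm : M2 := !![1, 0; 0, 1 / 2]

/-- the Hadamard matrix -/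
def hm : M2 := !![1, 1; 1, -1]

theorem hm_mul_dl : (hm : M2) * dl = sw * hm := by
  ext i j; fin_cases i <;> fin_cases j <;> simp [hm, dl, sw, Matrix.mul_apply, Fin.sum_univ_two]

theorem hm_mul_transpose : (hm : M2) * hmᵀ = (2 : F) • (1 : M2) := by
  ext i j
  fin_cases i <;> fin_cases j <;>
    simp [hm, Matrix.mul_apply, Matrix.transpose_apply, Fin.sum_univ_two, Matrix.one_apply] <;>
    norm_num

theorem det_Dm : (Dm : M2).det = 1 / 2 := by
  simp [Dm, Matrix.det_fin_two]

theorem g0_mem (h2 : (2 : F) ≠ 0) : tens (Dm : M2) hm ∈ Matrix.symplecticGroup (Fin 2) F := by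
  apply tens_mem
  rw [hm_mul_transpose, det_Dm, smul_smul, one_div, inv_mul_cancel₀ h2, one_smul]

/-- the element fusing `z₂` to the swap -/
def g0 (h2 : (2 : F) ≠ 0) : GG := ⟨tens Dm hm, g0_mem h2⟩

theorem g0_conj (h2 : (2 : F) ≠ 0) : g0 h2 * io 1 negOneSL * (g0 h2)⁻¹ = tG := by
  rw [mul_inv_eq_iff_eq_mul]
  apply Subtype.ext
  show tens Dm hm * (io (1 : HH) negOneSL).1 = tau * tens Dm hm
  rw [z2_val]
  unfold tau
  rw [tens_mul, tens_mul, Matrix.mul_one, Matrix.one_mul, hm_mul_dl]

theorem comm_tG_form (a b s : HH) :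
    io a b * tG * io s 1 * (io a b * tG)⁻¹ * (io s 1)⁻¹ = io s⁻¹ (b * s * b⁻¹) := by
  have e1 : tG * io s 1 = io 1 s * tG := tG_mul_io _ _
  calc io a b * tG * io s 1 * (io a b * tG)⁻¹ * (io s 1)⁻¹
      = io a b * (tG * io s 1) * tG⁻¹ * (io a b)⁻¹ * (io s 1)⁻¹ := by group
    _ = io a b * (io 1 s * tG) * tG⁻¹ * (io a b)⁻¹ * (io s 1)⁻¹ := by rw [e1]
    _ = io a b * io 1 s * (io a b)⁻¹ * (io s 1)⁻¹ := by group
    _ = io s⁻¹ (b * s * b⁻¹) := by
        rw [io_inv, io_inv, io_mul, io_mul, io_mul]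
        congr 1 <;> group

variable [Fintype F] [DecidableEq F]

theorem noClosedAbove_wr (hF : ringChar F ≠ 2) (P : Sylow 2 HH) {c : HH}
    (hq : QuatData (P : Subgroup HH) c) : NoClosedAbove (wr (P : Subgroup HH)) := by
  intro T hZT hTS hne hfc
  have h2 : (2 : F) ≠ 0 := Ring.two_ne_zero hF
  have hc := hq.sq
  have hcP : c ∈ (P : Subgroup HH) := hq.self_mem hF
  obtain ⟨w, hwP, hwT⟩ := hq.exists_not_mem
  have hwc := hq.inverts hF w hwP hwT
  have hcen : ∀ g : GG, g ∈ Subgroup.center GG ↔ g = 1 ∨ g = negG :=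
    fun g => mem_center_iff_negG h2 hc hwc
  have hnegT : (negG : GG) ∈ T := hZT ((hcen _).mpr (Or.inr rfl))
  have hnorm : ∀ x ∈ T, ∀ u ∈ wr (P : Subgroup HH), u * x * u⁻¹ ∈ T := fun x hx u hu =>
    hfc x hx u (Subgroup.mul_mem _ (Subgroup.mul_mem _ hu (hTS hx)) (Subgroup.inv_mem _ hu))
  obtain ⟨x, hxT, hxZ, hxc⟩ := exists_central_mod 2 (isPGroup_wr P.isPGroup') hZT hTS hne hnorm
  have hcne1 : c ≠ 1 := by
    intro h
    rw [h, one_mul] at hc
    exact negOneSL_ne_one h2 hc.symm
  have hcne2 : c ≠ negOneSL := by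
    intro h
    rw [h, negOneSL_mul_self] at hc
    exact negOneSL_ne_one h2 hc.symm
  -- the non-central element is `z₁` or `z₂`
  have hz2 : io (1 : HH) negOneSL ∈ T := by
    obtain ⟨a, ha, b, hb, rfl | rfl⟩ := hTS hxT
    · have hcent : ∀ a' b' : HH, a' ∈ (P : Subgroup HH) → b' ∈ (P : Subgroup HH) →
          (∀ s ∈ (P : Subgroup HH),
            io a' b' * io s 1 * (io a' b')⁻¹ * (io s 1)⁻¹ ∈ Subgroup.center GG) →
          a' = 1 ∨ a' = negOneSL := by
        intro a' b' ha' hb' h
        have : a' ∈ Subgroup.centralizer ((P : Subgroup HH) : Set HH) := by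
          rw [Subgroup.mem_centralizer_iff]
          intro s hs
          have h1 := h s hs
          have e : io a' b' * io s 1 * (io a' b')⁻¹ * (io s 1)⁻¹ = io (a' * s * a'⁻¹ * s⁻¹) 1 := by
            rw [io_inv, io_inv, io_mul, io_mul, io_mul]
            congr 1
            group
          rw [e, hcen] at h1
          rcases h1 with h1 | h1
          · rw [← io_one] at h1
            have h3 := (io_inj h1).1
            calc s * a' = (a' * s * a'⁻¹ * s⁻¹)⁻¹ * (a' * s) := by group
              _ = a' * s := by rw [h3]; group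
          · exact absurd (io_inj h1).2 (negOneSL_ne_one' h2)
        rw [hq.centralizer_eq hF] at this
        exact (isScalar2_iff_eq a').1 (isScalar2_of_mem_center a' this)
      have ha' := hcent a b ha hb (fun s hs => hxc _ (io_mem_wr_iff.mpr ⟨hs, Subgroup.one_mem _⟩))
      have hb' : b = 1 ∨ b = negOneSL := by
        apply hcent b a hb ha
        intro s hs
        have h1 := hxc (io 1 s) (io_mem_wr_iff.mpr ⟨Subgroup.one_mem _, hs⟩)
        have h3 : tG * (io a b * io 1 s * (io a b)⁻¹ * (io 1 s)⁻¹) * tG⁻¹ ∈ Subgroup.center GG :=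
          Subgroup.Normal.conj_mem inferInstance _ h1 _
        have e : tG * (io a b * io 1 s * (io a b)⁻¹ * (io 1 s)⁻¹) * tG⁻¹ =
            io b a * io s 1 * (io b a)⁻¹ * (io s 1)⁻¹ := by
          rw [io_inv, io_inv, io_inv, io_inv, io_mul, io_mul, io_mul, io_mul, io_mul, io_mul,
            conj_tG_io]
        rw [e] at h3
        exact h3
      rcases ha' with rfl | rfl <;> rcases hb' with rfl | rfl
      · exact absurd ((hcen _).mpr (Or.inl io_one)) hxZ
      · exact hxT
      · have : io (1 : HH) negOneSL = io negOneSL 1 * negG := by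
          unfold negG
          rw [io_mul, negOneSL_mul_self, one_mul]
        rw [this]
        exact T.mul_mem hxT hnegT
      · exact absurd ((hcen _).mpr (Or.inr rfl)) hxZ
    · exfalso
      have h1 := hxc (io c 1) (io_mem_wr_iff.mpr ⟨hcP, Subgroup.one_mem _⟩)
      rw [comm_tG_form, hcen] at h1
      rcases h1 with h1 | h1
      · rw [← io_one] at h1
        have := (io_inj h1).1
        exact hcne1 (inv_eq_one.mp this)
      · have h3 : c⁻¹ = negOneSL := (io_inj h1).1
        apply hcne2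
        rw [← inv_inv c, h3, negOneSL_inv]
  -- the swap
  have htG : (tG : GG) ∈ T := by
    have := hfc _ hz2 (g0 h2) (by rw [g0_conj]; exact tG_mem_wr _)
    rwa [g0_conj] at this
  have hanti : ∀ a ∈ (P : Subgroup HH), io a a⁻¹ ∈ T := by
    intro a ha
    have h1 := hnorm _ htG (io a 1) (io_mem_wr_iff.mpr ⟨ha, Subgroup.one_mem _⟩)
    rw [conj_io_tG] at h1
    have h3 := T.mul_mem h1 htG
    rw [mul_assoc, tG_mul_tG, mul_one] at h3
    simpa using h3
  have hcc : io c c ∈ T := by
    have h1 := T.mul_mem (hanti c hcP) hz2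
    rw [io_mul, mul_one, inv_eq_neg_of_sq hc, ← negOneSL_comm, ← mul_assoc, negOneSL_mul_self,
      one_mul] at h1
    exact h1
  obtain ⟨u, hu⟩ := exists_conj_of_not_mem_torus hq hF w hwP hwT
  have hcw : io c w ∈ T := by
    have e : io 1 u * io c c * (io 1 u)⁻¹ = io c w := by
      rw [io_inv, io_mul, io_mul, hu]
      congr 1
      group
    have := hfc _ hcc (io 1 u) (by rw [e]; exact io_mem_wr_iff.mpr ⟨hcP, hwP⟩)
    rwa [e] at this
  have h1w : io 1 (c⁻¹ * w) ∈ T := by
    have := T.mul_mem (T.inv_mem hcc) hcw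
    rw [io_inv, io_mul, inv_mul_cancel] at this
    exact this
  -- the subgroup of `P` of elements `x` with `1 × x ∈ T`
  let X : Subgroup HH :=
    { carrier := {x | x ∈ (P : Subgroup HH) ∧ io 1 x ∈ T}
      mul_mem' := by
        rintro x y ⟨hx1, hx2⟩ ⟨hy1, hy2⟩
        refine ⟨Subgroup.mul_mem _ hx1 hy1, ?_⟩
        have := T.mul_mem hx2 hy2
        rwa [io_mul, one_mul] at this
      one_mem' := ⟨Subgroup.one_mem _, by rw [io_one]; exact T.one_mem⟩
      inv_mem' := by
        rintro x ⟨hx1, hx2⟩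
        refine ⟨Subgroup.inv_mem _ hx1, ?_⟩
        have := T.inv_mem hx2
        rwa [io_inv, inv_one] at this }
  have hXP : X ≤ (P : Subgroup HH) := fun x hx => hx.1
  have hXfc : FusClosed (P : Subgroup HH) X := by
    intro x hx g hg
    refine ⟨hg, ?_⟩
    have e : io 1 g * io 1 x * (io 1 g)⁻¹ = io 1 (g * x * g⁻¹) := by
      rw [io_inv, io_mul, io_mul]
      congr 1
      group
    have := hfc _ hx.2 (io 1 g) (by rw [e]; exact io_mem_wr_iff.mpr ⟨Subgroup.one_mem _, hg⟩)
    rwa [e] at this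
  have hXeq : X = (P : Subgroup HH) := by
    apply eq_of_fusClosed hq hF P.isPGroup' X hXP hXfc (c⁻¹ * w)
      ⟨Subgroup.mul_mem _ (Subgroup.inv_mem _ hcP) hwP, h1w⟩
    · intro h
      apply hwT
      have : w = c := by
        calc w = c * (c⁻¹ * w) := by group
          _ = c := by rw [h, mul_one]
      rw [this]
      exact self_mem_torus c
    · intro h
      apply hwT
      have : w = c * negOneSL := by
        calc w = c * (c⁻¹ * w) := by group
          _ = c * negOneSL := by rw [h]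
      rw [this]
      exact Subgroup.mul_mem _ (self_mem_torus c) (negOneSL_mem_torus c)
  have h1x : ∀ x ∈ (P : Subgroup HH), io 1 x ∈ T := by
    intro x hx
    have : x ∈ X := by rw [hXeq]; exact hx
    exact this.2
  have hx1 : ∀ x ∈ (P : Subgroup HH), io x 1 ∈ T := by
    intro x hx
    have := hnorm _ (h1x x hx) tG (tG_mem_wr _)
    rwa [conj_tG_io] at this
  apply le_antisymm hTS
  rintro g ⟨a, ha, b, hb, rfl | rfl⟩
  · have := T.mul_mem (hx1 a ha) (h1x b hb)
    rwa [io_mul, mul_one, one_mul] at this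
  · have := T.mul_mem (hx1 a ha) (h1x b hb)
    rw [io_mul, mul_one, one_mul] at this
    exact T.mul_mem this htG

end Cfsg.Agent.Helper25.Sp4
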