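import Mathlib
import Cfsg.Agent.Lib.Helper25.Sp4Closed

/-!
# The quaternion Sylow 2-subgroup of `SL₂(F)` of order eight and its normaliser
-/

set_option autoImplicit false
set_option linter.style.haveILetI false
set_option linter.unusedSectionVars false
set_option linter.unusedSimpArgs false

namespace Cfsg.Agent.Helper25.Sp4

open Matrix Cfsg.Agent.Helper12 Cfsg.Agent.Helper25.SimpCrit Cfsg.Agent.Helper25.PSL2Fus

variable {F : Type*} [Field F]

local notation "M2" => Matrix (Fin 2) (Fin 2) F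
local notation "HH" => Matrix.SpecialLinearGroup (Fin 2) F

/-- the Hurwitz unit, with its matrix -/
theorem exists_hurwitz' (h2 : (2 : F) ≠ 0) (c w : HH)
    (hc : c * c = negOneSL) (hw : w * w = negOneSL) (hwc : w * c * w⁻¹ = c⁻¹) :
    ∃ u : HH, (u : M2) = (2⁻¹ : F) • ((1 + (c : M2)) * (1 + (w : M2))) ∧
      u * c * u⁻¹ = w ∧ u * w * u⁻¹ = c * w := by
  have hCC : (c : M2) * (c : M2) = -1 := by
    rw [← Matrix.SpecialLinearGroup.coe_mul, hc, negOneSL_coe]
  have hWW : (w : M2) * (w : M2) = -1 := by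
    rw [← Matrix.SpecialLinearGroup.coe_mul, hw, negOneSL_coe]
  have hWC : (w : M2) * (c : M2) = -((c : M2) * (w : M2)) := by
    rw [mul_inv_eq_iff_eq_mul, inv_eq_neg_of_sq hc] at hwc
    have := congrArg (fun x : HH => (x : M2)) hwc
    simp only [Matrix.SpecialLinearGroup.coe_mul, negOneSL_coe] at this
    rw [this]
    simp
  obtain ⟨hr1, hr2⟩ := hurwitz_rel _ _ hCC hWW hWC
  have hdet : ((2⁻¹ : F) • ((1 + (c : M2)) * (1 + (w : M2)))).det = 1 := by
    rw [Matrix.det_smul, Matrix.det_mul, det_one_add_of_sq h2 hc, det_one_add_of_sq h2 hw,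
      Fintype.card_fin]
    field_simp
  obtain ⟨u, hu⟩ : ∃ u : HH, (u : M2) = (2⁻¹ : F) • ((1 + (c : M2)) * (1 + (w : M2))) :=
    ⟨⟨_, hdet⟩, rfl⟩
  refine ⟨u, hu, ?_, ?_⟩
  · rw [mul_inv_eq_iff_eq_mul]
    apply Subtype.ext
    rw [Matrix.SpecialLinearGroup.coe_mul, Matrix.SpecialLinearGroup.coe_mul, hu,
      Matrix.smul_mul, Matrix.mul_smul, hr1]
  · rw [mul_inv_eq_iff_eq_mul]
    apply Subtype.ext
    rw [Matrix.SpecialLinearGroup.coe_mul, Matrix.SpecialLinearGroup.coe_mul,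
      Matrix.SpecialLinearGroup.coe_mul, hu, Matrix.smul_mul, Matrix.mul_smul, hr2]

/-- a quaternion group of order eight in `SL₂(F)` -/
structure Q8Data (P : Subgroup HH) (c w : HH) : Prop where
  hc : c * c = negOneSL
  hw : w * w = negOneSL
  hwc : w * c * w⁻¹ = c⁻¹
  hcP : c ∈ P
  hwP : w ∈ P
  gen : ∀ s ∈ P, ∃ i : ℕ, s = c ^ i ∨ s = w * c ^ i

theorem pow_four_c {c : HH} (hc : c * c = negOneSL) : c ^ 4 = 1 := by
  have : c ^ 4 = (c * c) * (c * c) := by
    rw [← pow_two, ← pow_two, ← pow_mul]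
  rw [this, hc, negOneSL_mul_self]

theorem conj_mul_negOne (v x : HH) : v⁻¹ * (x * negOneSL) * v = (v⁻¹ * x * v) * negOneSL := by
  calc v⁻¹ * (x * negOneSL) * v = v⁻¹ * x * (negOneSL * v) := by group
    _ = v⁻¹ * x * (v * negOneSL) := by rw [negOneSL_comm]
    _ = (v⁻¹ * x * v) * negOneSL := by group

theorem mul_negOne_eq_inv {c : HH} (hc : c * c = negOneSL) : c * negOneSL = c⁻¹ := by
  rw [inv_eq_neg_of_sq hc, negOneSL_comm]

theorem pow_eq_pow_mod_four {c : HH} (hc : c * c = negOneSL) (i : ℕ) : c ^ i = c ^ (i % 4) := by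
  conv_lhs => rw [← Nat.div_add_mod i 4, pow_add, pow_mul, pow_four_c hc, one_pow, one_mul]

theorem pow_three_c {c : HH} (hc : c * c = negOneSL) : c ^ 3 = c⁻¹ := by
  rw [eq_inv_iff_mul_eq_one, ← pow_succ]
  exact pow_four_c hc

theorem pow_two_c {c : HH} (hc : c * c = negOneSL) : c ^ 2 = negOneSL := by
  rw [pow_two, hc]

/-- elements of the torus of `c` with square `-1` -/
theorem eq_or_eq_inv_of_sq (h2 : (2 : F) ≠ 0) {c k : HH} (hc : c * c = negOneSL)
    (hk : k ∈ torus c) (hkk : k * k = negOneSL) : k = c ∨ k = c⁻¹ := by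
  rw [mem_torus_iff] at hk
  have hk' : c⁻¹ * k = k * c⁻¹ := by
    rw [inv_mul_eq_iff_eq_mul, ← mul_assoc, hk, mul_assoc, mul_inv_cancel, mul_one]
  have h1 : (k * c⁻¹) * (k * c⁻¹) = 1 := by
    calc (k * c⁻¹) * (k * c⁻¹) = k * (c⁻¹ * k) * c⁻¹ := by group
      _ = k * (k * c⁻¹) * c⁻¹ := by rw [hk']
      _ = (k * k) * (c * c)⁻¹ := by group
      _ = 1 := by rw [hkk, hc, mul_inv_cancel]
  rcases SL2_sq_eq_one h2 _ h1 with h3 | h3
  · left
    exact mul_inv_eq_one.mp h3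
  · right
    rw [inv_eq_neg_of_sq hc, ← h3]
    group

theorem inv_mul_mem_torus' {c w x : HH} (hw : w * c * w⁻¹ = c⁻¹) (hx : x * c * x⁻¹ = c⁻¹) :
    w⁻¹ * x ∈ torus c := by
  rw [mem_torus_iff]
  have hx' : x * c = c⁻¹ * x := mul_inv_eq_iff_eq_mul.mp hx
  have hw' : w * c = c⁻¹ * w := mul_inv_eq_iff_eq_mul.mp hw
  have hw'' : w⁻¹ * c⁻¹ = c * w⁻¹ := by
    calc w⁻¹ * c⁻¹ = w⁻¹ * (c⁻¹ * w) * w⁻¹ := by group
      _ = w⁻¹ * (w * c) * w⁻¹ := by rw [hw']
      _ = c * w⁻¹ := by group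
  calc c * (w⁻¹ * x) = (c * w⁻¹) * x := by group
    _ = (w⁻¹ * c⁻¹) * x := by rw [hw'']
    _ = w⁻¹ * (c⁻¹ * x) := by group
    _ = w⁻¹ * (x * c) := by rw [hx']
    _ = (w⁻¹ * x) * c := by group

namespace Q8Data

theorem negOne_mem {P : Subgroup HH} {c w : HH} (d : Q8Data P c w) : negOneSL ∈ P := by
  rw [← d.hc]
  exact P.mul_mem d.hcP d.hcP

theorem hcw {P : Subgroup HH} {c w : HH} (d : Q8Data P c w) : c * w * c⁻¹ = w⁻¹ := by
  have h1 : w * c * w = c := by
    calc w * c * w = (w * c * w⁻¹) * (w * w) := by group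
      _ = c⁻¹ * negOneSL := by rw [d.hwc, d.hw]
      _ = c := by
        rw [inv_eq_neg_of_sq d.hc, mul_assoc, ← negOneSL_comm c, ← mul_assoc, negOneSL_mul_self,
          one_mul]
  calc c * w * c⁻¹ = w⁻¹ * (w * c * w) * c⁻¹ := by group
    _ = w⁻¹ * c * c⁻¹ := by rw [h1]
    _ = w⁻¹ := by group

/-- an element acting on `c` and `w` by `± 1` lies in `P` -/
theorem mem_of_torus {P : Subgroup HH} {c w : HH} (d : Q8Data P c w) (h2 : (2 : F) ≠ 0) {x : HH} (hx : x ∈ torus c)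
    (hxw : x * w * x⁻¹ = w ∨ x * w * x⁻¹ = w⁻¹) : x ∈ P := by
  have hinv := inverts_torus (not_scalar_of_sq h2 d.hc) w d.hwc x hx
  rcases hxw with h | h
  · have h5 : w * x * w⁻¹ = x := by
      have : x * w = w * x := mul_inv_eq_iff_eq_mul.mp h
      rw [← this, mul_assoc, mul_inv_cancel, mul_one]
    rw [h5] at hinv
    have h6 : x * x = 1 := by
      nth_rw 1 [hinv]
      exact inv_mul_cancel x
    rcases SL2_sq_eq_one h2 x h6 with h7 | h7
    · rw [h7]; exact P.one_mem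
    · rw [h7]; exact d.negOne_mem
  · have h5 : w * x⁻¹ = x * w := by
      have : w * x = x⁻¹ * w := mul_inv_eq_iff_eq_mul.mp hinv
      calc w * x⁻¹ = x * (x⁻¹ * w) * x⁻¹ := by group
        _ = x * (w * x) * x⁻¹ := by rw [this]
        _ = x * w := by group
    have h6 : x * x = negOneSL := by
      have h7 : x * x * w = w⁻¹ := by
        rw [mul_assoc, ← h5, ← mul_assoc]
        exact h
      have : x * x = w⁻¹ * w⁻¹ := by
        calc x * x = (x * x * w) * w⁻¹ := by group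
          _ = w⁻¹ * w⁻¹ := by rw [h7]
      rw [this, ← _root_.mul_inv_rev, d.hw, negOneSL_inv]
    rcases eq_or_eq_inv_of_sq h2 d.hc hx h6 with h7 | h7
    · rw [h7]; exact d.hcP
    · rw [h7]; exact P.inv_mem d.hcP

theorem mem_of_conj_pm {P : Subgroup HH} {c w : HH} (d : Q8Data P c w) (h2 : (2 : F) ≠ 0) {x : HH}
    (hxc : x * c * x⁻¹ = c ∨ x * c * x⁻¹ = c⁻¹)
    (hxw : x * w * x⁻¹ = w ∨ x * w * x⁻¹ = w⁻¹) : x ∈ P := by
  rcases hxc with h | h
  · apply d.mem_of_torus h2 _ hxw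
    rw [mem_torus_iff]
    exact (mul_inv_eq_iff_eq_mul.mp h).symm
  · have h1 : w⁻¹ * x ∈ torus c := inv_mul_mem_torus' d.hwc h
    have h3 : (w⁻¹ * x) * w * (w⁻¹ * x)⁻¹ = w ∨ (w⁻¹ * x) * w * (w⁻¹ * x)⁻¹ = w⁻¹ := by
      have e : (w⁻¹ * x) * w * (w⁻¹ * x)⁻¹ = w⁻¹ * (x * w * x⁻¹) * w := by group
      rw [e]
      rcases hxw with h5 | h5
      · left; rw [h5]; group
      · right; rw [h5]; group
    have := d.mem_of_torus h2 h1 h3
    have e : x = w * (w⁻¹ * x) := by group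
    rw [e]
    exact P.mul_mem d.hwP this

end Q8Data

variable [Fintype F] [DecidableEq F]

theorem exists_q8Data (hF : ringChar F ≠ 2) (P : Sylow 2 HH) {c : HH}
    (hq : QuatData (P : Subgroup HH) c) (h8 : ¬ 8 ∣ Nat.card (torus c)) :
    ∃ w : HH, Q8Data (P : Subgroup HH) c w := by
  have h2 : (2 : F) ≠ 0 := Ring.two_ne_zero hF
  have hcS := hq.self_mem hF
  have hcardK : Nat.card ((P : Subgroup HH) ⊓ torus c : Subgroup HH) = 4 := by
    have h4 := four_dvd_card_torus h2 hq.sq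
    have hlt : (Nat.card (torus c)).factorization 2 < 3 := by
      by_contra hcon
      push Not at hcon
      apply h8
      have : (8 : ℕ) = 2 ^ 3 := by norm_num
      rw [this]
      exact (Nat.Prime.pow_dvd_iff_le_factorization Nat.prime_two Nat.card_pos.ne').2 hcon
    have hge : 2 ≤ (Nat.card (torus c)).factorization 2 := by
      have : (4 : ℕ) = 2 ^ 2 := by norm_num
      rw [this] at h4
      exact (Nat.Prime.pow_dvd_iff_le_factorization Nat.prime_two Nat.card_pos.ne').1 h4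
    have : (Nat.card (torus c)).factorization 2 = 2 := by omega
    rw [hq.cardT, this]
    norm_num
  have hKc : ∀ k ∈ ((P : Subgroup HH) ⊓ torus c : Subgroup HH), ∃ i : ℕ, k = c ^ i := by
    have hle : Subgroup.zpowers c ≤ ((P : Subgroup HH) ⊓ torus c : Subgroup HH) := by
      rw [Subgroup.zpowers_le]
      exact ⟨hcS, self_mem_torus c⟩
    have hcardz : Nat.card (Subgroup.zpowers c) = 4 := by
      rw [Nat.card_zpowers, orderOf_of_sq h2 hq.sq]
    have heq := Subgroup.eq_of_le_of_card_ge hle (by rw [hcardK, hcardz])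
    intro k hk
    rw [← heq] at hk
    obtain ⟨i, hi⟩ := mem_powers_iff_mem_zpowers.2 hk
    exact ⟨i, hi.symm⟩
  obtain ⟨w, hwS, hwT⟩ := hq.exists_not_mem
  have hwc := hq.inverts hF w hwS hwT
  have hww := sq_of_not_mem_torus hq hF w hwS hwT
  refine ⟨w, ⟨hq.sq, hww, hwc, hcS, hwS, ?_⟩⟩
  intro s hs
  by_cases hsT : s ∈ torus c
  · obtain ⟨i, hi⟩ := hKc s ⟨hs, hsT⟩
    exact ⟨i, Or.inl hi⟩
  · have h1 : w⁻¹ * s ∈ torus c := inv_mul_mem_torus_of_inverts hwc (hq.inverts hF s hs hsT)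
    obtain ⟨i, hi⟩ := hKc (w⁻¹ * s)
      ⟨(P : Subgroup HH).mul_mem ((P : Subgroup HH).inv_mem hwS) hs, h1⟩
    refine ⟨i, Or.inr ?_⟩
    rw [← hi]
    group

theorem hur_mem_normalizer {P : Subgroup HH} {c w : HH} (d : Q8Data P c w) {u : HH}
    (huc : u * c * u⁻¹ = w) (huw : u * w * u⁻¹ = c * w) :
    u ∈ Subgroup.normalizer ((P : Subgroup HH) : Set HH) := by
  apply Subgroup.mem_normalizer_fintype
  intro s hs
  have hci : ∀ i : ℕ, u * c ^ i * u⁻¹ = w ^ i := fun i => by rw [← huc, conj_pow]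
  obtain ⟨i, rfl | rfl⟩ := d.gen s hs
  · show u * c ^ i * u⁻¹ ∈ P
    rw [hci]
    exact pow_mem d.hwP i
  · show u * (w * c ^ i) * u⁻¹ ∈ P
    have e : u * (w * c ^ i) * u⁻¹ = (u * w * u⁻¹) * (u * c ^ i * u⁻¹) := by group
    rw [e, huw, hci]
    exact P.mul_mem (P.mul_mem d.hcP d.hwP) (pow_mem d.hwP i)

/-- the normaliser of `P` is `P ∪ uP ∪ u²P` -/
theorem normalizer_cases (hF : ringChar F ≠ 2) (P : Sylow 2 HH) {c w : HH}
    (hq : QuatData (P : Subgroup HH) c) (d : Q8Data (P : Subgroup HH) c w) {u : HH}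
    (huc : u * c * u⁻¹ = w) (huw : u * w * u⁻¹ = c * w) {h : HH}
    (hh : h ∈ Subgroup.normalizer (((P : Subgroup HH) : Subgroup HH) : Set HH)) :
    h ∈ (P : Subgroup HH) ∨ u⁻¹ * h ∈ (P : Subgroup HH) ∨ (u * u)⁻¹ * h ∈ (P : Subgroup HH) := by
  have h2 : (2 : F) ≠ 0 := Ring.two_ne_zero hF
  have hc := d.hc
  have htr := trace_sq_ne_of_sq h2 hc
  obtain ⟨hr, -, -⟩ := regular_of_trace_sq_ne hF c htr
  have huN := hur_mem_normalizer d huc huw
  have key : ∀ g : HH, g ∈ Subgroup.normalizer (((P : Subgroup HH) : Subgroup HH) : Set HH) →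
      (g * c * g⁻¹ = c ∨ g * c * g⁻¹ = c⁻¹) → g ∈ (P : Subgroup HH) := by
    intro g hg hgc
    exact hq.normalizer_inf_le hF ⟨hg, (mem_normalizer_torus_iff hr g).2 hgc⟩
  have hy : h * c * h⁻¹ ∈ (P : Subgroup HH) := (Subgroup.mem_normalizer_iff.mp hh c).mp d.hcP
  have hcne1 : c ≠ 1 := by
    intro h
    rw [h, one_mul] at hc
    exact negOneSL_ne_one h2 hc.symm
  have hcne2 : c ≠ negOneSL := by
    intro h
    rw [h, negOneSL_mul_self] at hc
    exact negOneSL_ne_one h2 hc.symm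
  have huu : (u * u) * c * (u * u)⁻¹ = c * w := by
    have : (u * u) * c * (u * u)⁻¹ = u * (u * c * u⁻¹) * u⁻¹ := by group
    rw [this, huc, huw]
  have hwc' : w * c = c⁻¹ * w := mul_inv_eq_iff_eq_mul.mp d.hwc
  have hwci : w * c⁻¹ = c * w := by
    calc w * c⁻¹ = c * (c⁻¹ * w) * c⁻¹ := by group
      _ = c * (w * c) * c⁻¹ := by rw [hwc']
      _ = c * w := by group
  obtain ⟨i, hi | hi⟩ := d.gen _ hy
  · left
    apply key h hh
    rw [pow_eq_pow_mod_four hc] at hi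
    have hlt : i % 4 < 4 := Nat.mod_lt _ (by norm_num)
    interval_cases (i % 4)
    · exfalso
      rw [pow_zero] at hi
      apply hcne1
      calc c = h⁻¹ * (h * c * h⁻¹) * h := by group
        _ = 1 := by rw [hi]; group
    · left; rw [hi, pow_one]
    · exfalso
      rw [pow_two_c hc] at hi
      apply hcne2
      calc c = h⁻¹ * (h * c * h⁻¹) * h := by group
        _ = negOneSL := by
          rw [hi, mul_assoc, negOneSL_comm, ← mul_assoc, inv_mul_cancel, one_mul]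
    · right; rw [hi, pow_three_c hc]
  · rw [pow_eq_pow_mod_four hc] at hi
    have hlt : i % 4 < 4 := Nat.mod_lt _ (by norm_num)
    have hN1 : u⁻¹ * h ∈ Subgroup.normalizer (((P : Subgroup HH) : Subgroup HH) : Set HH) :=
      Subgroup.mul_mem _ (Subgroup.inv_mem _ huN) hh
    have hN2 : (u * u)⁻¹ * h ∈
        Subgroup.normalizer (((P : Subgroup HH) : Subgroup HH) : Set HH) :=
      Subgroup.mul_mem _ (Subgroup.inv_mem _ (Subgroup.mul_mem _ huN huN)) hh
    have e0 : ∀ v : HH, (v⁻¹ * h) * c * (v⁻¹ * h)⁻¹ = v⁻¹ * (h * c * h⁻¹) * v := fun v => by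
      group
    have e1 := e0 u
    have e2 := e0 (u * u)
    have huc' : u⁻¹ * w * u = c := by rw [← huc]; group
    have huu' : (u * u)⁻¹ * (c * w) * (u * u) = c := by rw [← huu]; group
    interval_cases (i % 4)
    · right; left
      apply key _ hN1
      left
      rw [e1, hi, pow_zero, mul_one, huc']
    · right; right
      apply key _ hN2
      right
      rw [e2, hi, pow_one, hwc']
      have : c⁻¹ * w = (c * w) * negOneSL := by
        rw [inv_eq_neg_of_sq hc, negOneSL_comm, mul_assoc, mul_assoc, ← negOneSL_comm w]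
      rw [this, conj_mul_negOne, huu', mul_negOne_eq_inv hc]
    · right; left
      apply key _ hN1
      right
      rw [e1, hi, pow_two_c hc, conj_mul_negOne, huc', mul_negOne_eq_inv hc]
    · right; right
      apply key _ hN2
      left
      rw [e2, hi, pow_three_c hc, hwci, huu']

end Cfsg.Agent.Helper25.Sp4
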