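import Mathlib
import Cfsg.Agent.Lib.Helper25.Sp4Q8

/-!
# The extraspecial subgroup `2^{1+4}_-` of `Sp₄(F)` and some `2`-elements normalising it
-/

set_option autoImplicit false
set_option linter.style.haveILetI false
set_option linter.unusedSectionVars false
set_option linter.unusedSimpArgs false

namespace Cfsg.Agent.Helper25.Sp4

open Matrix Cfsg.Agent.Helper12 Cfsg.Agent.Helper25.SimpCrit Cfsg.Agent.Helper25.PSL2Fus

variable {F : Type*} [Field F]

local notation "M2" => Matrix (Fin 2) (Fin 2) F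
local notation "M4" => Matrix (Fin 2 ⊕ Fin 2) (Fin 2 ⊕ Fin 2) F
local notation "HH" => Matrix.SpecialLinearGroup (Fin 2) F
local notation "GG" => SpG F

theorem conj_negG_mul (g X : GG) : g * (negG * X) * g⁻¹ = negG * (g * X * g⁻¹) := by
  rw [← mul_assoc, ← negG_comm, mul_assoc, mul_assoc, mul_assoc]

/-- the elements conjugating `A` to `± A` -/
def pmStab (A : GG) : Subgroup GG where
  carrier := {g | g * A * g⁻¹ = A ∨ g * A * g⁻¹ = negG * A}
  mul_mem' := by
    intro g h hg hh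
    have e : (g * h) * A * (g * h)⁻¹ = g * (h * A * h⁻¹) * g⁻¹ := by group
    have e2 : g * (negG * A) * g⁻¹ = negG * (g * A * g⁻¹) := by
      rw [← mul_assoc, ← negG_comm, mul_assoc, mul_assoc, mul_assoc]
    show (g * h) * A * (g * h)⁻¹ = A ∨ (g * h) * A * (g * h)⁻¹ = negG * A
    rw [e]
    rcases hh with hh | hh <;> rcases hg with hg | hg <;> rw [hh]
    · left; exact hg
    · right; exact hg
    · right; rw [e2, hg]
    · left; rw [e2, hg, ← mul_assoc, negG_mul_negG, one_mul]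
  one_mem' := by
    left
    group
  inv_mem' := by
    intro g hg
    show g⁻¹ * A * g⁻¹⁻¹ = A ∨ g⁻¹ * A * g⁻¹⁻¹ = negG * A
    rcases hg with hg | hg
    · left
      nth_rw 1 [← hg]
      group
    · right
      have h1 : g⁻¹ * (negG * A) * g⁻¹⁻¹ = negG * (g⁻¹ * A * g⁻¹⁻¹) := conj_negG_mul g⁻¹ A
      have h3 : g⁻¹ * (g * A * g⁻¹) * g⁻¹⁻¹ = A := by group
      rw [hg, h1] at h3
      calc g⁻¹ * A * g⁻¹⁻¹ = negG * (negG * (g⁻¹ * A * g⁻¹⁻¹)) := by
            rw [← mul_assoc, negG_mul_negG, one_mul]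
        _ = negG * A := by rw [h3]

theorem mem_pmStab_iff {A g : GG} : g ∈ pmStab A ↔ g * A * g⁻¹ = A ∨ g * A * g⁻¹ = negG * A :=
  Iff.rfl

theorem dl_mul_sw : (dl : M2) * sw = rho := by
  ext i j; fin_cases i <;> fin_cases j <;> simp [dl, sw, rho, Matrix.mul_apply, Fin.sum_univ_two]

theorem rho_mul_rho : (rho : M2) * rho = -1 := by
  ext i j; fin_cases i <;> fin_cases j <;>
    simp [rho, Matrix.mul_apply, Fin.sum_univ_two, Matrix.one_apply]

theorem one_add_rho_mul_transpose : (1 + (rho : M2)) * (1 + rho)ᵀ = (2 : F) • (1 : M2) := by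
  ext i j
  fin_cases i <;> fin_cases j <;>
    simp [rho, Matrix.mul_apply, Matrix.transpose_apply, Fin.sum_univ_two, Matrix.one_apply] <;>
    norm_num

theorem one_add_rho_sq : (1 + (rho : M2)) * (1 + rho) = (2 : F) • rho := by
  ext i j
  fin_cases i <;> fin_cases j <;>
    simp [rho, Matrix.mul_apply, Fin.sum_univ_two, Matrix.one_apply] <;> norm_num

/-- the element `B = 1 ⊗ ρ` of order four -/
def Bg : GG := io 1 negOneSL * tG

theorem Bg_val : (Bg : GG).1 = tens 1 rho := by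
  show (io (1 : HH) negOneSL).1 * tau = tens 1 rho
  rw [z2_val]
  unfold tau
  rw [tens_mul, Matrix.one_mul, dl_mul_sw]

theorem ioyy_val (y : HH) : (io y y).1 = tens y.1 1 := by
  show bi y.1 y.1 = tens y.1 1
  rw [bi_same]

theorem conj_io_Bg (a b : HH) :
    io a b * Bg * (io a b)⁻¹ = io (a * b⁻¹) (b * negOneSL * a⁻¹) * tG := by
  unfold Bg
  rw [io_inv, ← mul_assoc, io_mul, mul_assoc, tG_mul_io, ← mul_assoc, io_mul, mul_one]

theorem negG_mul_io (a b : HH) : negG * io a b = io (negOneSL * a) (negOneSL * b) := by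
  unfold negG
  rw [io_mul]

theorem conj_io_io (a b y : HH) :
    io a b * io y y * (io a b)⁻¹ = io (a * y * a⁻¹) (b * y * b⁻¹) := by
  rw [io_inv, io_mul, io_mul]

/-- the group `2^{1+4}` -/
def Eh (c w : HH) : Subgroup GG := Subgroup.closure {io c c, io w w, io 1 negOneSL, tG}

theorem ioc_mem_Eh (c w : HH) : io c c ∈ Eh c w := Subgroup.subset_closure (by simp)
theorem iow_mem_Eh (c w : HH) : io w w ∈ Eh c w := Subgroup.subset_closure (by simp)
theorem z2_mem_Eh (c w : HH) : io 1 negOneSL ∈ Eh c w := Subgroup.subset_closure (by simp)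
theorem tG_mem_Eh (c w : HH) : tG ∈ Eh c w := Subgroup.subset_closure (by simp)
theorem Bg_mem_Eh (c w : HH) : Bg ∈ Eh c w :=
  Subgroup.mul_mem _ (z2_mem_Eh c w) (tG_mem_Eh c w)

theorem negG_mem_Eh {c : HH} (w : HH) (hc : c * c = negOneSL) : negG ∈ Eh c w := by
  have : (negG : GG) = io c c * io c c := by
    rw [io_mul, hc]
    rfl
  rw [this]
  exact Subgroup.mul_mem _ (ioc_mem_Eh c w) (ioc_mem_Eh c w)

section Q8

theorem Eh_le_wr {P : Subgroup HH} {c w : HH} (d : Q8Data P c w) : Eh c w ≤ wr P := by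
  unfold Eh
  rw [Subgroup.closure_le]
  intro g hg
  simp only [Set.mem_insert_iff, Set.mem_singleton_iff] at hg
  rcases hg with rfl | rfl | rfl | rfl
  · exact io_mem_wr_iff.mpr ⟨d.hcP, d.hcP⟩
  · exact io_mem_wr_iff.mpr ⟨d.hwP, d.hwP⟩
  · exact io_mem_wr_iff.mpr ⟨P.one_mem, d.negOne_mem⟩
  · exact tG_mem_wr P

theorem ioxx_mem_Eh {P : Subgroup HH} {c w : HH} (d : Q8Data P c w) {x : HH} (hx : x ∈ P) : io x x ∈ Eh c w := by
  obtain ⟨i, rfl | rfl⟩ := d.gen x hx
  · rw [← io_pow]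
    exact Subgroup.pow_mem _ (ioc_mem_Eh c w) i
  · rw [← io_mul, ← io_pow]
    exact Subgroup.mul_mem _ (iow_mem_Eh c w) (Subgroup.pow_mem _ (ioc_mem_Eh c w) i)

theorem ioxnx_mem_Eh {P : Subgroup HH} {c w : HH} (d : Q8Data P c w) {x : HH} (hx : x ∈ P) :
    io x (negOneSL * x) ∈ Eh c w := by
  have : io x (negOneSL * x) = io 1 negOneSL * io x x := by
    rw [io_mul, one_mul]
  rw [this]
  exact Subgroup.mul_mem _ (z2_mem_Eh c w) (ioxx_mem_Eh d hx)

theorem Eh_le_pmStab_c {P : Subgroup HH} {c w : HH} (d : Q8Data P c w) : Eh c w ≤ pmStab (io c c) := by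
  unfold Eh
  rw [Subgroup.closure_le]
  intro g hg
  simp only [Set.mem_insert_iff, Set.mem_singleton_iff] at hg
  rcases hg with rfl | rfl | rfl | rfl
  · left
    group
  · right
    rw [conj_io_io, d.hwc, negG_mul_io, inv_eq_neg_of_sq d.hc]
  · left
    rw [conj_io_io, one_mul, inv_one, mul_one, negOneSL_comm, mul_assoc, mul_inv_cancel, mul_one]
  · left
    exact conj_tG_io c c

theorem Eh_le_pmStab_w {P : Subgroup HH} {c w : HH} (d : Q8Data P c w) : Eh c w ≤ pmStab (io w w) := by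
  unfold Eh
  rw [Subgroup.closure_le]
  intro g hg
  simp only [Set.mem_insert_iff, Set.mem_singleton_iff] at hg
  rcases hg with rfl | rfl | rfl | rfl
  · right
    rw [conj_io_io, d.hcw, negG_mul_io, inv_eq_neg_of_sq d.hw]
  · left
    group
  · left
    rw [conj_io_io, one_mul, inv_one, mul_one, negOneSL_comm, mul_assoc, mul_inv_cancel, mul_one]
  · left
    exact conj_tG_io w w

theorem Eh_le_pmStab_Bg (c w : HH) : Eh c w ≤ pmStab (Bg : GG) := by
  have hB : (negG : GG) * Bg = io negOneSL 1 * tG := by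
    unfold Bg
    rw [← mul_assoc, negG_mul_io, mul_one, negOneSL_mul_self]
  unfold Eh
  rw [Subgroup.closure_le]
  intro g hg
  simp only [Set.mem_insert_iff, Set.mem_singleton_iff] at hg
  rcases hg with rfl | rfl | rfl | rfl
  · left
    rw [conj_io_Bg, mul_inv_cancel, ← negOneSL_comm, mul_assoc, mul_inv_cancel, mul_one]
    rfl
  · left
    rw [conj_io_Bg, mul_inv_cancel, ← negOneSL_comm, mul_assoc, mul_inv_cancel, mul_one]
    rfl
  · right
    rw [conj_io_Bg, hB, one_mul, negOneSL_inv, negOneSL_mul_self, inv_one, mul_one]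
  · right
    rw [hB]
    unfold Bg
    rw [tG_inv, mul_assoc, mul_assoc, tG_mul_tG, mul_one, tG_mul_io]

end Q8

/-! ### conjugation by `(1 + A)(1 + B)/2` -/

theorem one_add_comm {A e : M4} (h : e * A = A * e) : (1 + A) * e = e * (1 + A) := by
  rw [add_mul, mul_add, one_mul, mul_one, h]

theorem one_add_anti {A e : M4} (hA : A * A = -1) (h : e * A = -(A * e)) :
    (1 + A) * e = (A * e) * (1 + A) := by
  rw [add_mul, mul_add, one_mul, mul_one, mul_assoc, h, mul_neg, ← mul_assoc, hA]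
  simp [add_comm]

theorem pm_step {E : Subgroup GG} {A e : GG} (hA : A.1 * A.1 = -1) (hAE : A ∈ E) (he : e ∈ E)
    (hs : e ∈ pmStab A) : ∃ e' ∈ E, (1 + A.1) * e.1 = e'.1 * (1 + A.1) := by
  rcases hs with hs | hs
  · refine ⟨e, he, one_add_comm ?_⟩
    have : e * A = A * e := mul_inv_eq_iff_eq_mul.mp hs
    exact congrArg Subtype.val this
  · refine ⟨A * e, E.mul_mem hAE he, one_add_anti hA ?_⟩
    have : e * A = negG * A * e := mul_inv_eq_iff_eq_mul.mp hs
    have h1 : e.1 * A.1 = (negG : GG).1 * A.1 * e.1 := congrArg Subtype.val this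
    rw [h1, negG_val]
    simp [Matrix.mul_assoc]

theorem conj_mem_of_pm (h2 : (2 : F) ≠ 0) {E : Subgroup GG} {A B u : GG}
    (hA : A.1 * A.1 = -1) (hB : B.1 * B.1 = -1) (hAE : A ∈ E) (hBE : B ∈ E)
    (hEA : E ≤ pmStab A) (hEB : E ≤ pmStab B)
    (hu : (2 : F) • u.1 = (1 + A.1) * (1 + B.1)) :
    ∀ e ∈ E, u * e * u⁻¹ ∈ E := by
  intro e he
  obtain ⟨e', he', h1⟩ := pm_step hB hBE he (hEB he)
  obtain ⟨e'', he'', h3⟩ := pm_step hA hAE he' (hEA he')
  have h4 : ((2 : F) • u.1) * e.1 = e''.1 * ((2 : F) • u.1) := by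
    rw [hu, Matrix.mul_assoc, h1, ← Matrix.mul_assoc, h3, Matrix.mul_assoc]
  rw [Matrix.smul_mul, Matrix.mul_smul] at h4
  have h5 : u.1 * e.1 = e''.1 * u.1 := by
    have := congrArg (fun M : M4 => (2⁻¹ : F) • M) h4
    simpa [smul_smul, inv_mul_cancel₀ h2] using this
  have h6 : u * e = e'' * u := Subtype.ext h5
  have : u * e * u⁻¹ = e'' := by
    rw [h6, mul_assoc, mul_inv_cancel, mul_one]
  rw [this]
  exact he''

/-- the `2`-element `(1 + y ⊗ 1)(1 + 1 ⊗ ρ)/2` -/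
def uy (h2 : (2 : F) ≠ 0) (y : HH) (hy : y * y = negOneSL) : GG :=
  ⟨tens ((2⁻¹ : F) • (1 + y.1)) (1 + rho), by
    apply tens_mem
    rw [Matrix.det_smul, det_one_add_of_sq h2 hy, Fintype.card_fin, one_add_rho_mul_transpose,
      smul_smul]
    have : (2⁻¹ : F) ^ 2 * 2 * 2 = 1 := by field_simp
    rw [this, one_smul]⟩

theorem uy_val (h2 : (2 : F) ≠ 0) (y : HH) (hy : y * y = negOneSL) :
    (uy h2 y hy).1 = tens ((2⁻¹ : F) • (1 + y.1)) (1 + rho) := rfl

theorem two_smul_uy (h2 : (2 : F) ≠ 0) (y : HH) (hy : y * y = negOneSL) :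
    (2 : F) • (uy h2 y hy).1 = (1 + (io y y).1) * (1 + (Bg : GG).1) := by
  rw [uy_val, ioyy_val, Bg_val, tens_smul_left, smul_smul, mul_inv_cancel₀ h2, one_smul]
  have e1 : (1 : M4) + tens y.1 1 = tens (1 + y.1) 1 := by
    rw [tens_add_left, tens_one]
  have e2 : (1 : M4) + tens 1 rho = tens 1 (1 + rho) := by
    rw [tens_add_right, tens_one]
  rw [e1, e2, tens_mul, Matrix.mul_one, Matrix.one_mul]

theorem coe_sq_of_sq {y : HH} (hy : y * y = negOneSL) : y.1 * y.1 = -1 := by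
  rw [← Matrix.SpecialLinearGroup.coe_mul, hy, negOneSL_coe]

theorem uy_pow_four (h2 : (2 : F) ≠ 0) (y : HH) (hy : y * y = negOneSL) :
    (uy h2 y hy) ^ 2 ^ 2 = 1 := by
  have hyy := coe_sq_of_sq hy
  have e0 : (1 + y.1) * (1 + y.1) = (2 : F) • y.1 := by
    have : (1 + y.1) * (1 + y.1) = 1 + y.1 + y.1 + y.1 * y.1 := by
      simp only [add_mul, mul_add, one_mul, mul_one]
      abel
    rw [this, hyy, two_smul]
    abel
  have e1 : ((2⁻¹ : F) • (1 + y.1)) * ((2⁻¹ : F) • (1 + y.1)) = (2⁻¹ : F) • y.1 := by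
    rw [Matrix.smul_mul, Matrix.mul_smul, smul_smul, e0, smul_smul]
    congr 1
    field_simp
  have hsq : (uy h2 y hy).1 * (uy h2 y hy).1 = tens y.1 rho := by
    rw [uy_val, tens_mul, e1, one_add_rho_sq, tens_smul_left, tens_smul_right, smul_smul,
      inv_mul_cancel₀ h2, one_smul]
  apply Subtype.ext
  show ((uy h2 y hy) ^ 2 ^ 2).1 = 1
  have : (uy h2 y hy) ^ 2 ^ 2 = (uy h2 y hy * uy h2 y hy) * (uy h2 y hy * uy h2 y hy) := by
    rw [show (2 : ℕ) ^ 2 = 2 * 2 by norm_num, pow_mul, pow_two, pow_two]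
  rw [this]
  show ((uy h2 y hy).1 * (uy h2 y hy).1) * ((uy h2 y hy).1 * (uy h2 y hy).1) = 1
  rw [hsq, tens_mul, hyy, rho_mul_rho, tens_neg_left, tens_neg_right, neg_neg, tens_one]

theorem uy_mul_uy (h2 : (2 : F) ≠ 0) {c w u : HH} (hc : c * c = negOneSL)
    (hw : w * w = negOneSL)
    (hu : (u : M2) = (2⁻¹ : F) • ((1 + (c : M2)) * (1 + (w : M2)))) :
    uy h2 c hc * uy h2 w hw = io u u * Bg := by
  apply Subtype.ext
  show (uy h2 c hc).1 * (uy h2 w hw).1 = (io u u).1 * (Bg : GG).1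
  rw [uy_val, uy_val, ioyy_val, Bg_val, tens_mul, tens_mul, Matrix.mul_one, Matrix.one_mul,
    one_add_rho_sq, hu, Matrix.smul_mul, Matrix.mul_smul, tens_smul_left, tens_smul_left,
    tens_smul_right, tens_smul_left, smul_smul, smul_smul]
  congr 1
  field_simp

end Cfsg.Agent.Helper25.Sp4
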