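import Mathlib
import Cfsg.Agent.Lib.Helper25.Sp4E

/-!
# The 2-fusion system of `PSp₄(F)`, `|F|` odd, is simple
-/

set_option autoImplicit false
set_option linter.style.haveILetI false
set_option linter.unusedSectionVars false
set_option linter.unusedSimpArgs false

namespace Cfsg.Agent.Helper25.Sp4

open Matrix Cfsg Cfsg.Agent.Helper12 Cfsg.Agent.Helper25.SimpCrit Cfsg.Agent.Helper25.PSL2Fus

variable {F : Type*} [Field F]

local notation "M2" => Matrix (Fin 2) (Fin 2) F
local notation "M4" => Matrix (Fin 2 ⊕ Fin 2) (Fin 2 ⊕ Fin 2) F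
local notation "HH" => Matrix.SpecialLinearGroup (Fin 2) F
local notation "GG" => SpG F

theorem ioyy_sq {y : HH} (hy : y * y = negOneSL) : (io y y).1 * (io y y).1 = -1 := by
  rw [ioyy_val, tens_mul, coe_sq_of_sq hy, Matrix.one_mul, tens_neg_left, tens_one]

theorem Bg_sq : (Bg : GG).1 * (Bg : GG).1 = -1 := by
  rw [Bg_val, tens_mul, rho_mul_rho, Matrix.one_mul, tens_neg_right, tens_one]

section Q8

theorem centric_io {P : Subgroup HH} {c w : HH} (h2 : (2 : F) ≠ 0) (d : Q8Data P c w) (x y : HH)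
    (h1 : io x y * tG * (io x y)⁻¹ * tG⁻¹ ∈ Subgroup.center GG)
    (hc : io x y * io c c * (io x y)⁻¹ * (io c c)⁻¹ ∈ Subgroup.center GG)
    (hw : io x y * io w w * (io x y)⁻¹ * (io w w)⁻¹ ∈ Subgroup.center GG) :
    io x y ∈ Eh c w := by
  have hcen : ∀ g : GG, g ∈ Subgroup.center GG ↔ g = 1 ∨ g = negG :=
    fun g => mem_center_iff_negG h2 d.hc d.hwc
  have e1 : io x y * tG * (io x y)⁻¹ * tG⁻¹ = io (x * y⁻¹) (y * x⁻¹) := by
    rw [conj_io_tG, mul_assoc, mul_inv_cancel, mul_one]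
  have e2 : ∀ v : HH, io x y * io v v * (io x y)⁻¹ * (io v v)⁻¹ =
      io (x * v * x⁻¹ * v⁻¹) (y * v * y⁻¹ * v⁻¹) := by
    intro v
    rw [io_inv, io_inv, io_mul, io_mul, io_mul]
  have key : ∀ v : HH, v * v = negOneSL →
      io x y * io v v * (io x y)⁻¹ * (io v v)⁻¹ ∈ Subgroup.center GG →
      x * v * x⁻¹ = v ∨ x * v * x⁻¹ = v⁻¹ := by
    intro v hv h
    rw [e2, hcen] at h
    rcases h with h | h
    · left
      rw [← io_one] at h
      exact mul_inv_eq_one.mp (io_inj h).1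
    · right
      have h3 : x * v * x⁻¹ * v⁻¹ = negOneSL := (io_inj h).1
      rw [inv_eq_neg_of_sq hv, ← h3]
      group
  have hxP : x ∈ P := d.mem_of_conj_pm h2 (key c d.hc hc) (key w d.hw hw)
  rw [e1, hcen] at h1
  rcases h1 with h1 | h1
  · rw [← io_one] at h1
    have hxy : x = y := by
      have := (io_inj h1).1
      exact mul_inv_eq_one.mp this
    rw [← hxy]
    exact ioxx_mem_Eh d hxP
  · have h3 : y * x⁻¹ = negOneSL := (io_inj h1).2
    have hy : y = negOneSL * x := by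
      rw [← h3]
      group
    rw [hy]
    exact ioxnx_mem_Eh d hxP

theorem Eh_centric {P : Subgroup HH} {c w : HH} (h2 : (2 : F) ≠ 0) (d : Q8Data P c w) (g : GG)
    (H : ∀ a ∈ Eh c w, g * a * g⁻¹ * a⁻¹ ∈ Subgroup.center GG) : g ∈ Eh c w := by
  have hcen : ∀ g : GG, g ∈ Subgroup.center GG ↔ g = 1 ∨ g = negG :=
    fun g => mem_center_iff_negG h2 d.hc d.hwc
  have hz := H _ (z2_mem_Eh c w)
  rw [hcen] at hz
  have hcomm : ∀ g' : GG, g' * io 1 negOneSL = io 1 negOneSL * g' → ∃ x y : HH, g' = io x y := by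
    intro g' h
    apply exists_io_of_comm h2
    have := congrArg Subtype.val h
    rw [← z2_val]
    exact this
  rcases hz with hz | hz
  · have h1 : g * io 1 negOneSL = io 1 negOneSL * g := by
      calc g * io 1 negOneSL = (g * io 1 negOneSL * g⁻¹ * (io 1 negOneSL)⁻¹) * io 1 negOneSL * g := by
            group
        _ = io 1 negOneSL * g := by rw [hz, one_mul]
    obtain ⟨x, y, rfl⟩ := hcomm g h1
    exact centric_io h2 d x y (H _ (tG_mem_Eh c w)) (H _ (ioc_mem_Eh c w)) (H _ (iow_mem_Eh c w))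
  · have h1 : (tG * g) * io 1 negOneSL = io 1 negOneSL * (tG * g) := by
      have e : tG * (negG * io 1 negOneSL) * tG⁻¹ = io (1 : HH) negOneSL := by
        rw [negG_mul_io, mul_one, negOneSL_mul_self, conj_tG_io]
      calc (tG * g) * io 1 negOneSL
          = tG * ((g * io 1 negOneSL * g⁻¹ * (io 1 negOneSL)⁻¹) * io 1 negOneSL) * tG⁻¹ * (tG * g) := by
            group
        _ = io 1 negOneSL * (tG * g) := by rw [hz, e]
    obtain ⟨x, y, hxy⟩ := hcomm _ h1
    have htr : ∀ a : GG, tG * a = a * tG → g * a * g⁻¹ * a⁻¹ ∈ Subgroup.center GG →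
        io x y * a * (io x y)⁻¹ * a⁻¹ ∈ Subgroup.center GG := by
      intro a ha h
      rw [← hxy]
      have h5 : tG⁻¹ * a⁻¹ = a⁻¹ * tG⁻¹ := by
        rw [← _root_.mul_inv_rev, ← _root_.mul_inv_rev, ha]
      have e : (tG * g) * a * (tG * g)⁻¹ * a⁻¹ = tG * (g * a * g⁻¹ * a⁻¹) * tG⁻¹ := by
        calc (tG * g) * a * (tG * g)⁻¹ * a⁻¹ = tG * g * a * g⁻¹ * (tG⁻¹ * a⁻¹) := by group
          _ = tG * g * a * g⁻¹ * (a⁻¹ * tG⁻¹) := by rw [h5]
          _ = tG * (g * a * g⁻¹ * a⁻¹) * tG⁻¹ := by group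
      rw [e]
      exact Subgroup.Normal.conj_mem inferInstance _ h _
    have hmem : io x y ∈ Eh c w :=
      centric_io h2 d x y (htr _ rfl (H _ (tG_mem_Eh c w)))
        (htr _ (tG_mul_io c c) (H _ (ioc_mem_Eh c w)))
        (htr _ (tG_mul_io w w) (H _ (iow_mem_Eh c w)))
    have : g = tG⁻¹ * io x y := by
      rw [← hxy]
      group
    rw [this]
    exact Subgroup.mul_mem _ (Subgroup.inv_mem _ (tG_mem_Eh c w)) hmem

end Q8

variable [Fintype F] [DecidableEq F]

theorem io_diag_mem_normalizer {P : Subgroup HH} {u : HH}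
    (hu : u ∈ Subgroup.normalizer ((P : Subgroup HH) : Set HH)) :
    io u u ∈ Subgroup.normalizer ((wr P : Subgroup GG) : Set GG) := by
  apply Subgroup.mem_normalizer_fintype
  have hconj : ∀ a ∈ P, u * a * u⁻¹ ∈ P := fun a ha =>
    (Subgroup.mem_normalizer_iff.mp hu a).mp ha
  rintro s ⟨a, ha, b, hb, rfl | rfl⟩
  · show io u u * io a b * (io u u)⁻¹ ∈ wr P
    rw [io_inv, io_mul, io_mul]
    exact io_mem_wr_iff.mpr ⟨hconj a ha, hconj b hb⟩
  · show io u u * (io a b * tG) * (io u u)⁻¹ ∈ wr P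
    have e : io u u * (io a b * tG) * (io u u)⁻¹ = io (u * a * u⁻¹) (u * b * u⁻¹) * tG := by
      rw [io_inv, mul_assoc, mul_assoc, tG_mul_io, ← mul_assoc, ← mul_assoc, io_mul, io_mul]
    rw [e]
    exact io_mul_tG_mem_wr_iff.mpr ⟨hconj a ha, hconj b hb⟩

theorem normalizer_le_goodQ (hF : ringChar F ≠ 2) (P : Sylow 2 HH) {c : HH}
    (hq : QuatData (P : Subgroup HH) c) :
    Subgroup.normalizer ((wr (P : Subgroup HH) : Subgroup GG) : Set GG) ≤
      Subgroup.closure (GoodQ 2 (wr (P : Subgroup HH))) := by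
  have h2 : (2 : F) ≠ 0 := Ring.two_ne_zero hF
  have hinl : ∀ x ∈ wr (P : Subgroup HH), x ∈ Subgroup.closure (GoodQ 2 (wr (P : Subgroup HH))) :=
    fun x hx => Subgroup.subset_closure (Or.inl hx)
  have key : ∀ h ∈ Subgroup.normalizer (((P : Subgroup HH) : Subgroup HH) : Set HH),
      io h h ∈ Subgroup.closure (GoodQ 2 (wr (P : Subgroup HH))) := by
    by_cases h8 : 8 ∣ Nat.card (torus c)
    · intro h hh
      rw [hq.normalizer_eq hF h8] at hh
      exact hinl _ (io_mem_wr_iff.mpr ⟨hh, hh⟩)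
    · obtain ⟨w, d⟩ := exists_q8Data hF P hq h8
      obtain ⟨u, hu, huc, huw⟩ := exists_hurwitz' h2 c w d.hc d.hw d.hwc
      have hcen : ∀ g : GG, g ∈ Subgroup.center GG ↔ g = 1 ∨ g = negG :=
        fun g => mem_center_iff_negG h2 d.hc d.hwc
      have huN := hur_mem_normalizer d huc huw
      have hgood : io u u ∈ GoodQ 2 (wr (P : Subgroup HH)) := by
        right
        refine ⟨io_diag_mem_normalizer huN, Eh c w, ?_, Eh_le_wr d, Eh_centric h2 d, ?_⟩
        · intro z hz
          rcases (hcen z).mp hz with rfl | rfl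
          · exact Subgroup.one_mem _
          · exact negG_mem_Eh w d.hc
        · have hN : ∀ y : HH, ∀ hy : y * y = negOneSL, io y y ∈ Eh c w →
              Eh c w ≤ pmStab (io y y) →
              uy h2 y hy ∈ {y | y ∈ Subgroup.normalizer ((Eh c w : Subgroup GG) : Set GG) ∧
                ∃ k : ℕ, y ^ 2 ^ k = 1} := by
            intro y hy hmem hle
            refine ⟨?_, 2, uy_pow_four h2 y hy⟩
            apply Subgroup.mem_normalizer_fintype
            exact conj_mem_of_pm h2 (ioyy_sq hy) Bg_sq hmem (Bg_mem_Eh c w) hle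
              (Eh_le_pmStab_Bg c w) (two_smul_uy h2 y hy)
          have e : io u u = uy h2 c d.hc * uy h2 w d.hw * Bg⁻¹ := by
            rw [uy_mul_uy h2 d.hc d.hw hu, mul_assoc, mul_inv_cancel, mul_one]
          rw [e]
          apply Subgroup.mul_mem _ (Subgroup.mul_mem _ _ _) _
          · exact Subgroup.subset_closure (hN c d.hc (ioc_mem_Eh c w) (Eh_le_pmStab_c d))
          · exact Subgroup.subset_closure (hN w d.hw (iow_mem_Eh c w) (Eh_le_pmStab_w d))
          · apply Subgroup.subset_closure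
            have hB : (Bg : GG)⁻¹ ∈ Eh c w := Subgroup.inv_mem _ (Bg_mem_Eh c w)
            refine ⟨Subgroup.le_normalizer hB, ?_⟩
            obtain ⟨k, hk⟩ := (isPGroup_wr P.isPGroup') ⟨(Bg : GG)⁻¹, Eh_le_wr d hB⟩
            exact ⟨k, by simpa using congrArg Subtype.val hk⟩
      have huu : io u u ∈ Subgroup.closure (GoodQ 2 (wr (P : Subgroup HH))) :=
        Subgroup.subset_closure hgood
      intro h hh
      rcases normalizer_cases hF P hq d huc huw hh with h1 | h1 | h1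
      · exact hinl _ (io_mem_wr_iff.mpr ⟨h1, h1⟩)
      · have e : io h h = io u u * io (u⁻¹ * h) (u⁻¹ * h) := by
          rw [io_mul, mul_inv_cancel_left]
        rw [e]
        exact Subgroup.mul_mem _ huu (hinl _ (io_mem_wr_iff.mpr ⟨h1, h1⟩))
      · have e : io h h = io u u * io u u * io ((u * u)⁻¹ * h) ((u * u)⁻¹ * h) := by
          rw [io_mul, io_mul, mul_inv_cancel_left]
        rw [e]
        exact Subgroup.mul_mem _ (Subgroup.mul_mem _ huu huu)
          (hinl _ (io_mem_wr_iff.mpr ⟨h1, h1⟩))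
  intro g hg
  obtain ⟨h₁, h₂, hn1, hn2, h12, hg'⟩ := normalizer_wr h2 hq.sq (hq.self_mem hF) hg
  have e : io h₁ h₂ = io (h₁ * h₂⁻¹) 1 * io h₂ h₂ := by
    rw [io_mul, one_mul, inv_mul_cancel_right]
  have h3 : io h₁ h₂ ∈ Subgroup.closure (GoodQ 2 (wr (P : Subgroup HH))) := by
    rw [e]
    exact Subgroup.mul_mem _ (hinl _ (io_mem_wr_iff.mpr ⟨h12, Subgroup.one_mem _⟩)) (key h₂ hn2)
  rcases hg' with rfl | rfl
  · exact h3
  · exact Subgroup.mul_mem _ h3 (hinl _ (tG_mem_wr _))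

/-- **The 2-fusion system of `PSp₄(F)` is simple for `|F|` odd.** -/
theorem psp4_fusion_simple (hodd : Fintype.card F % 2 = 1)
    (S : Sylow 2 (GG ⧸ Subgroup.center GG)) :
    (groupFusionSystem (S : Subgroup (GG ⧸ Subgroup.center GG))).IsSimple 2 := by
  have hF : ringChar F ≠ 2 := by
    intro h
    have := (FiniteField.even_card_iff_char_two).mp h
    omega
  have h2 : (2 : F) ≠ 0 := Ring.two_ne_zero hF
  obtain ⟨P⟩ : Nonempty (Sylow 2 HH) := inferInstance
  obtain ⟨c, hq⟩ := exists_quatData (Nat.odd_iff.mpr hodd) P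
  have hcP := hq.self_mem hF
  obtain ⟨w, hwP, hwT⟩ := hq.exists_not_mem
  have hwc := hq.inverts hF w hwP hwT
  have hcen : ∀ g : GG, g ∈ Subgroup.center GG ↔ g = 1 ∨ g = negG :=
    fun g => mem_center_iff_negG h2 hq.sq hwc
  obtain ⟨U, hU⟩ := exists_sylow_wr h2 P hq.sq hcP
  have hneg : negOneSL ∈ (P : Subgroup HH) := by
    rw [← hq.sq]
    exact Subgroup.mul_mem _ hcP hcP
  apply isSimple_of_central_quotient_above 2 U
  · rw [hU]
    intro z hz
    rcases (hcen z).mp hz with rfl | rfl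
    · exact Subgroup.one_mem _
    · exact io_mem_wr_iff.mpr ⟨hneg, hneg⟩
  · refine ⟨io c 1, ?_, ?_⟩
    · rw [hU]
      exact io_mem_wr_iff.mpr ⟨hcP, Subgroup.one_mem _⟩
    · intro h
      rcases (hcen _).mp h with h | h
      · rw [← io_one] at h
        have h3 := (io_inj h).1
        have := hq.sq
        rw [h3, one_mul] at this
        exact negOneSL_ne_one h2 this.symm
      · exact negOneSL_ne_one' h2 (io_inj h).2
  · rw [hU]
    exact noClosedAbove_wr hF P hq
  · rw [hU]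
    exact normalizer_le_goodQ hF P hq

end Cfsg.Agent.Helper25.Sp4
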