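import Mathlib
import Cfsg.Agent.Lib.Helper6.SpP0
import Cfsg.Agent.Lib.Helper6.SLnM

/-!
Central extensions of a group with Steinberg relations of type `C`: lifts of commuting root elements commute
(piece CL of the Schur multiplier of `PSp_2m(q)`).
-/

set_option autoImplicit false
set_option linter.unusedSectionVars false
set_option linter.unusedVariables false

namespace Cfsg.Agent.Helper25.SpExtCL

open Cfsg.Agent.Helper6 Cfsg.Agent.Helper6.SLn Cfsg.Agent.Helper6.SpN

variable {I : Type*} [Fintype I] [DecidableEq I] {K : Type*} [Field K] {Γ E : Type*} [Group Γ] [Group E]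
  {T : I ⊕ I → I ⊕ I → K → Γ} {L : I ⊕ I → K → Γ}

omit [DecidableEq I] in
theorem exists_av_ne2 (h3 : 3 ≤ Fintype.card I) (i j : I) : ∃ e : I ⊕ I, av e ≠ i ∧ av e ≠ j := by
  classical
  by_contra h
  push Not at h
  have hall : ∀ k : I, k ∈ ({i, j} : Finset I) := by
    intro k
    by_cases hk : k = i
    · simp [hk]
    · have := h (Sum.inl k) hk
      simp only [Finset.mem_insert, Finset.mem_singleton]
      right; exact this
  have h1 : Fintype.card I ≤ ({i, j} : Finset I).card := by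
    rw [← Finset.card_univ]
    exact Finset.card_le_card (fun k _ => hall k)
  have h2 : ({i, j} : Finset I).card ≤ 2 := Finset.card_le_two
  omega

omit [DecidableEq I] in
theorem exists_av_ne3 (h4 : 4 ≤ Fintype.card I) (i j k : I) :
    ∃ e : I ⊕ I, av e ≠ i ∧ av e ≠ j ∧ av e ≠ k := by
  classical
  by_contra h
  push Not at h
  have hall : ∀ l : I, l ∈ ({i, j, k} : Finset I) := by
    intro l
    by_cases hl : l = i
    · simp [hl]
    by_cases hl2 : l = j
    · simp [hl2]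
    · have := h (Sum.inl l) hl hl2
      simp only [Finset.mem_insert, Finset.mem_singleton]
      right; right; exact this
  have h1 : Fintype.card I ≤ ({i, j, k} : Finset I).card := by
    rw [← Finset.card_univ]
    exact Finset.card_le_card (fun l _ => hall l)
  have h2 : ({i, j, k} : Finset I).card ≤ 3 := Finset.card_le_three
  omega

omit [Fintype I] [DecidableEq I] in
/-- all the inequalities between `a, -a` and `e, -e` when the underlying indices differ -/
theorem ne8 {a e : I ⊕ I} (h : av e ≠ av a) :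
    e ≠ a ∧ e ≠ ng a ∧ a ≠ e ∧ a ≠ ng e ∧ ng e ≠ a ∧ ng a ≠ e ∧ ng e ≠ ng a ∧ ng a ≠ ng e := by
  have h1 : e ≠ a := ne_of_av_ne h
  have h2 : e ≠ ng a := ne_ng_of_av_ne h
  have h3 : a ≠ e := h1.symm
  have h4 : a ≠ ng e := ne_ng_of_av_ne (Ne.symm h)
  refine ⟨h1, h2, h3, h4, ng_ne_iff.2 h2, ng_ne_iff.2 h4, ng_ne_ng.2 h1, ng_ne_ng.2 h3⟩

omit [Fintype I] [DecidableEq I] in
theorem av_ne_of {a e : I ⊕ I} (h1 : e ≠ a) (h2 : e ≠ ng a) : av e ≠ av a := av_ne_iff.2 ⟨h1, h2⟩

section core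

variable (R : SpRel T L) (π : E →* Γ) (hc : π.ker ≤ Subgroup.center E) (hs : Function.Surjective π)
include R hc hs

omit R hs [Fintype I] [DecidableEq I] in
theorem commute_of_mul_right {x y z w : E} (hw : π w = π y * π z) (h1 : Commute x w) (h2 : Commute x z) :
    Commute x y := by
  have h3 : Commute x (y * z) := commute_of_map_eq π hc (a := w) (a' := y * z) (by rw [hw, map_mul]) h1
  have e : y = (y * z) * z⁻¹ := by group
  rw [e]
  exact h3.mul_right h2.inv_right

omit R hs [Fintype I] [DecidableEq I] in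
theorem commute_of_mul_left {x y z w : E} (hw : π w = π z * π y) (h1 : Commute x w) (h2 : Commute x z) :
    Commute x y := by
  have h3 : Commute x (z * y) := commute_of_map_eq π hc (a := w) (a' := z * y) (by rw [hw, map_mul]) h1
  have e : y = z⁻¹ * (z * y) := by group
  rw [e]
  exact h2.inv_right.mul_right h3

/-- (5a) lifts of `x_ab` and `l_a` commute -/
theorem tl_same (h3 : 3 ≤ Fintype.card I) {a b : I ⊕ I} (hab : a ≠ b) (hab' : a ≠ ng b) (t u : K) {x y : E}
    (hx : π x = T a b t) (hy : π y = L a u) : Commute x y := by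
  obtain ⟨e, he1, he2⟩ := exists_av_ne2 h3 (av a) (av b)
  obtain ⟨ea1, ea2, ea3, ea4, ea5, ea6, ea7, ea8⟩ := ne8 he1
  obtain ⟨eb1, eb2, eb3, eb4, eb5, eb6, eb7, eb8⟩ := ne8 he2
  obtain ⟨a1, ha1⟩ := hs (T a e t)
  obtain ⟨a2, ha2⟩ := hs (T e b 1)
  have e1 : π x = cm (π a1) (π a2) := by
    rw [hx, ha1, ha2]
    unfold cm
    rw [R.r3 a e b ea3 ea4 eb1 eb2 hab hab' t 1, mul_one]
  refine (commute_of_decomp π hc ?_ ?_ e1).symm
  · rw [hy, ha1]
    exact (R.commTL a e a ea3 ea4 ea3 (ne_ng a) t u).symm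
  · rw [hy, ha2]
    exact (R.commTL e b a eb1 eb2 hab ea4 1 u).symm

/-- (1) lifts of `x_ab(t)` and `x_ab(u)` commute -/
theorem tt_same (h3 : 3 ≤ Fintype.card I) {a b : I ⊕ I} (hab : a ≠ b) (hab' : a ≠ ng b) (t u : K) {x y : E}
    (hx : π x = T a b t) (hy : π y = T a b u) : Commute x y := by
  obtain ⟨e, he1, he2⟩ := exists_av_ne2 h3 (av a) (av b)
  obtain ⟨ea1, ea2, ea3, ea4, ea5, ea6, ea7, ea8⟩ := ne8 he1
  obtain ⟨eb1, eb2, eb3, eb4, eb5, eb6, eb7, eb8⟩ := ne8 he2
  obtain ⟨a1, ha1⟩ := hs (T a e u)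
  obtain ⟨a2, ha2⟩ := hs (T e b 1)
  have e1 : π y = cm (π a1) (π a2) := by
    rw [hy, ha1, ha2]
    unfold cm
    rw [R.r3 a e b ea3 ea4 eb1 eb2 hab hab' u 1, mul_one]
  refine commute_of_decomp π hc ?_ ?_ e1
  · rw [hx, ha1]
    exact R.commTT a b a e hab hab' ea3 ea4 hab (ne_ng a) ea1 eb2 t u
  · rw [hx, ha2]
    exact R.commTT a b e b hab hab' eb1 eb2 eb1 ea2 hab.symm (ne_ng b) t 1

/-- (2a) lifts of `x_ab` and `x_ad` commute -/
theorem tt_first (h3 : 3 ≤ Fintype.card I) {a b d : I ⊕ I} (hab : a ≠ b) (hab' : a ≠ ng b)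
    (hda : av d ≠ av a) (hdb : av d ≠ av b) (t u : K) {x y : E}
    (hx : π x = T a b t) (hy : π y = T a d u) : Commute x y := by
  obtain ⟨da1, da2, da3, da4, da5, da6, da7, da8⟩ := ne8 hda
  obtain ⟨db1, db2, db3, db4, db5, db6, db7, db8⟩ := ne8 hdb
  obtain ⟨a1, ha1⟩ := hs (T a (ng d) 1)
  obtain ⟨a2, ha2⟩ := hs (L (ng d) u)
  obtain ⟨z, hz⟩ := hs (L a (sg K a * sg K (ng d) * 1 ^ 2 * u))
  have hw : π (y * z) = cm (π a1) (π a2) := by
    rw [map_mul, hy, hz, ha1, ha2]
    unfold cm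
    rw [R.r4 a (ng d) da4 (by rw [ng_ng]; exact da3) 1 u, ng_ng, one_mul]
  have h1 : Commute x (y * z) := by
    refine commute_of_decomp π hc ?_ ?_ hw
    · rw [hx, ha1]
      exact R.commTT a b a (ng d) hab hab' da4 (by rw [ng_ng]; exact da3) hab (ne_ng a) da5 db7 t 1
    · rw [hx, ha2]
      exact R.commTL a b (ng d) hab hab' db5 da7 t u
  have h2 : Commute x z := tl_same R π hc hs h3 hab hab' t _ hx hz
  exact commute_of_mul_right π hc (w := y * z) (by rw [map_mul]) h1 h2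

/-- (2b) lifts of `x_ab` and `x_cb` commute -/
theorem tt_second (h3 : 3 ≤ Fintype.card I) {a b c : I ⊕ I} (hab : a ≠ b) (hab' : a ≠ ng b)
    (hca : av c ≠ av a) (hcb : av c ≠ av b) (t u : K) {x y : E}
    (hx : π x = T a b t) (hy : π y = T c b u) : Commute x y := by
  obtain ⟨ca1, ca2, ca3, ca4, ca5, ca6, ca7, ca8⟩ := ne8 hca
  obtain ⟨cb1, cb2, cb3, cb4, cb5, cb6, cb7, cb8⟩ := ne8 hcb
  have hx' : π x = T (ng b) (ng a) (-(sg K a * sg K b * t)) := by rw [hx, R.symT a b hab hab' t]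
  have hy' : π y = T (ng b) (ng c) (-(sg K c * sg K b * u)) := by rw [hy, R.symT c b cb1 cb2 u]
  have hba : ng b ≠ ng a := ng_ne_ng.2 hab.symm
  have hba' : ng b ≠ ng (ng a) := by rw [ng_ng]; exact fun h => hab' h.symm
  exact tt_first R π hc hs h3 hba hba' (by rw [av_ng, av_ng]; exact hcb) (by rw [av_ng, av_ng]; exact hca)
    _ _ hx' hy'

/-- (6a) lifts of `l_a(t)` and `l_a(u)` commute -/
theorem ll_same (h3 : 3 ≤ Fintype.card I) (a : I ⊕ I) (t u : K) {x y : E}
    (hx : π x = L a t) (hy : π y = L a u) : Commute x y := by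
  obtain ⟨b, hb1, _⟩ := exists_av_ne2 h3 (av a) (av a)
  obtain ⟨ba1, ba2, ba3, ba4, ba5, ba6, ba7, ba8⟩ := ne8 hb1
  obtain ⟨a1, ha1⟩ := hs (T a b 1)
  obtain ⟨a2, ha2⟩ := hs (L b (sg K a * sg K b * u))
  obtain ⟨z, hz⟩ := hs (T a (ng b) (1 * (sg K a * sg K b * u)))
  have hsc : sg K a * sg K b * 1 ^ 2 * (sg K a * sg K b * u) = u := by
    have e1 := sg_mul_self (K := K) a
    have e2 := sg_mul_self (K := K) b
    linear_combination (u * sg K b * sg K b) * e1 + u * e2
  have hw : π (z * y) = cm (π a1) (π a2) := by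
    rw [map_mul, hy, hz, ha1, ha2]
    unfold cm
    rw [R.r4 a b ba3 ba4 1 (sg K a * sg K b * u), hsc]
  have h1 : Commute x (z * y) := by
    refine commute_of_decomp π hc ?_ ?_ hw
    · rw [hx, ha1]
      exact (R.commTL a b a ba3 ba4 ba3 (ne_ng a) 1 t).symm
    · rw [hx, ha2]
      exact R.commLL a b ba2 t _
  have h2 : Commute x z :=
    (tl_same R π hc hs h3 ba4 (by rw [ng_ng]; exact ba3) _ t hz hx).symm
  exact commute_of_mul_left π hc (w := z * y) (by rw [map_mul]) h1 h2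

/-- (5b) lifts of `x_ab` and `l_c` commute -/
theorem tl_diff (h3 : 3 ≤ Fintype.card I) (hK : Fintype.card I = 3 → ∃ s : K, s ≠ 0 ∧ s ≠ 1)
    {a b c : I ⊕ I} (hab : a ≠ b) (hab' : a ≠ ng b)
    (hca : av c ≠ av a) (hcb : av c ≠ av b) (t u : K) {x y : E}
    (hx : π x = T a b t) (hy : π y = L c u) : Commute x y := by
  obtain ⟨ca1, ca2, ca3, ca4, ca5, ca6, ca7, ca8⟩ := ne8 hca
  obtain ⟨cb1, cb2, cb3, cb4, cb5, cb6, cb7, cb8⟩ := ne8 hcb
  by_cases h4 : 4 ≤ Fintype.card I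
  · obtain ⟨e, he1, he2, he3⟩ := exists_av_ne3 h4 (av a) (av b) (av c)
    obtain ⟨ea1, ea2, ea3, ea4, ea5, ea6, ea7, ea8⟩ := ne8 he1
    obtain ⟨eb1, eb2, eb3, eb4, eb5, eb6, eb7, eb8⟩ := ne8 he2
    obtain ⟨ec1, ec2, ec3, ec4, ec5, ec6, ec7, ec8⟩ := ne8 he3
    obtain ⟨a1, ha1⟩ := hs (T a e t)
    obtain ⟨a2, ha2⟩ := hs (T e b 1)
    have e1 : π x = cm (π a1) (π a2) := by
      rw [hx, ha1, ha2]
      unfold cm
      rw [R.r3 a e b ea3 ea4 eb1 eb2 hab hab' t 1, mul_one]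
    refine (commute_of_decomp π hc ?_ ?_ e1).symm
    · rw [hy, ha1]
      exact (R.commTL a e c ea3 ea4 ec3 ca2 t u).symm
    · rw [hy, ha2]
      exact (R.commTL e b c eb1 eb2 cb1 ec4 1 u).symm
  · have h3' : Fintype.card I = 3 := by omega
    obtain ⟨s, hs0, hs1⟩ := hK h3'
    have hDg : hL L a s * L c u * (hL L a s)⁻¹ = L c u := by
      have := R.hL_cj_L hab hab' c s hs0 u
      unfold cj at this
      rw [this, wtL_out ca1 ca2, one_pow, one_mul]
    have hDy : ∀ v, hL L a s * T a b v * (hL L a s)⁻¹ = T a b (s * v) := by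
      intro v
      have := R.hL_cj_T (a := a) hab hab' s hs0 v
      unfold cj at this
      rw [this, wtL_a, wtL_out hab.symm (fun h => hab' (by rw [h, ng_ng])), inv_one, mul_one]
    exact (commute_lifts_of_scaling π hc hs (L c u) (T a b) (R.addT a b hab hab')
      (fun v => (R.commTL a b c hab hab' cb1 ca2 v u).symm) (hL L a s) s hs1 hDg hDy t hy hx).symm

/-- (6b) lifts of `l_a` and `l_c` commute -/
theorem ll_diff (h3 : 3 ≤ Fintype.card I) (hK : Fintype.card I = 3 → ∃ s : K, s ≠ 0 ∧ s ≠ 1)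
    {a c : I ⊕ I} (hca : av c ≠ av a) (t u : K) {x y : E}
    (hx : π x = L a t) (hy : π y = L c u) : Commute x y := by
  obtain ⟨ca1, ca2, ca3, ca4, ca5, ca6, ca7, ca8⟩ := ne8 hca
  obtain ⟨e, he1, he2⟩ := exists_av_ne2 h3 (av a) (av c)
  obtain ⟨ea1, ea2, ea3, ea4, ea5, ea6, ea7, ea8⟩ := ne8 he1
  obtain ⟨ec1, ec2, ec3, ec4, ec5, ec6, ec7, ec8⟩ := ne8 he2
  obtain ⟨a1, ha1⟩ := hs (T c e 1)
  obtain ⟨a2, ha2⟩ := hs (L e (sg K c * sg K e * u))
  obtain ⟨z, hz⟩ := hs (T c (ng e) (1 * (sg K c * sg K e * u)))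
  have hsc : sg K c * sg K e * 1 ^ 2 * (sg K c * sg K e * u) = u := by
    have e1 := sg_mul_self (K := K) c
    have e2 := sg_mul_self (K := K) e
    linear_combination (u * sg K e * sg K e) * e1 + u * e2
  have hw : π (z * y) = cm (π a1) (π a2) := by
    rw [map_mul, hy, hz, ha1, ha2]
    unfold cm
    rw [R.r4 c e ec3 ec4 1 (sg K c * sg K e * u), hsc]
  have h1 : Commute x (z * y) := by
    refine commute_of_decomp π hc ?_ ?_ hw
    · rw [hx, ha1]
      exact (R.commTL c e a ec3 ec4 ea3 ca4 1 t).symm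
    · rw [hx, ha2]
      exact R.commLL a e ea2 t _
  have h2 : Commute x z :=
    (tl_diff R π hc hs h3 hK ec4 (by rw [ng_ng]; exact ec3) (Ne.symm hca)
      (by rw [av_ng]; exact Ne.symm he1) _ t hz hx).symm
  exact commute_of_mul_left π hc (w := z * y) (by rw [map_mul]) h1 h2

/-- (3a) lifts of `x_ab` and `x_cd` with four different underlying indices commute -/
theorem tt_disj (h3 : 3 ≤ Fintype.card I) (hK : Fintype.card I = 3 → ∃ s : K, s ≠ 0 ∧ s ≠ 1)
    {a b c d : I ⊕ I} (hab : a ≠ b) (hab' : a ≠ ng b)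
    (hca : av c ≠ av a) (hcb : av c ≠ av b) (hda : av d ≠ av a) (hdb : av d ≠ av b) (hdc : av d ≠ av c)
    (t u : K) {x y : E} (hx : π x = T a b t) (hy : π y = T c d u) : Commute x y := by
  obtain ⟨ca1, ca2, ca3, ca4, ca5, ca6, ca7, ca8⟩ := ne8 hca
  obtain ⟨cb1, cb2, cb3, cb4, cb5, cb6, cb7, cb8⟩ := ne8 hcb
  obtain ⟨da1, da2, da3, da4, da5, da6, da7, da8⟩ := ne8 hda
  obtain ⟨db1, db2, db3, db4, db5, db6, db7, db8⟩ := ne8 hdb
  obtain ⟨dc1, dc2, dc3, dc4, dc5, dc6, dc7, dc8⟩ := ne8 hdc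
  obtain ⟨a1, ha1⟩ := hs (T c (ng d) 1)
  obtain ⟨a2, ha2⟩ := hs (L (ng d) u)
  obtain ⟨z, hz⟩ := hs (L c (sg K c * sg K (ng d) * 1 ^ 2 * u))
  have hw : π (y * z) = cm (π a1) (π a2) := by
    rw [map_mul, hy, hz, ha1, ha2]
    unfold cm
    rw [R.r4 c (ng d) dc4 (by rw [ng_ng]; exact dc3) 1 u, ng_ng, one_mul]
  have h1 : Commute x (y * z) := by
    refine commute_of_decomp π hc ?_ ?_ hw
    · rw [hx, ha1]
      exact R.commTT a b c (ng d) hab hab' dc4 (by rw [ng_ng]; exact dc3) cb1 ca2 da5 db7 t 1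
    · rw [hx, ha2]
      exact R.commTL a b (ng d) hab hab' db5 da7 t u
  have h2 : Commute x z := tl_diff R π hc hs h3 hK hab hab' hca hcb t _ hx hz
  exact commute_of_mul_right π hc (w := y * z) (by rw [map_mul]) h1 h2

end core

/-- **Piece CL**: in a central extension of a group with Steinberg relations of type `C` (rank at least `3`),
arbitrary lifts of commuting root elements commute. -/
theorem cLift_of_spRel (R : SpRel T L) (π : E →* Γ) (hc : π.ker ≤ Subgroup.center E)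
    (hs : Function.Surjective π) (h3 : 3 ≤ Fintype.card I)
    (hK : Fintype.card I = 3 → ∃ s : K, s ≠ 0 ∧ s ≠ 1) : CLift T L π := by
  refine ⟨?_, ?_, ?_⟩
  · intro a b c d hab hab' hcd hcd' hcb hcna hda hdnb t u x y hx hy
    by_cases hca : c = a
    · subst hca
      by_cases hdb : d = b
      · subst hdb
        exact tt_same R π hc hs h3 hab hab' t u hx hy
      · have hdnc : d ≠ ng c := fun h => hcd' (by rw [h, ng_ng])
        exact tt_first R π hc hs h3 hab hab' (av_ne_of hda hdnc) (av_ne_of hdb hdnb) t u hx hy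
    by_cases hcnb : c = ng b
    · subst hcnb
      have hy' : π y = T (ng d) b (-(sg K (ng b) * sg K d * u)) := by
        rw [hy, R.symT (ng b) d hcd hcd' u, ng_ng]
      by_cases hdna : d = ng a
      · subst hdna
        rw [ng_ng] at hy'
        exact tt_same R π hc hs h3 hab hab' t _ hx hy'
      · have hdb : d ≠ b := fun h => hcd' (by rw [h])
        have h1 : ng d ≠ a := ng_ne_iff.2 hdna
        have h2 : ng d ≠ ng a := ng_ne_ng.2 hda
        have h3' : ng d ≠ b := ng_ne_iff.2 hdnb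
        have h4 : ng d ≠ ng b := ng_ne_ng.2 hdb
        exact tt_second R π hc hs h3 hab hab' (av_ne_of h1 h2) (av_ne_of h3' h4) t _ hx hy'
    have hcA : av c ≠ av a := av_ne_of hca hcna
    have hcB : av c ≠ av b := av_ne_of hcb hcnb
    by_cases hdb : d = b
    · subst hdb
      exact tt_second R π hc hs h3 hab hab' hcA hcB t u hx hy
    by_cases hdna : d = ng a
    · subst hdna
      have hy' : π y = T a (ng c) (sg K c * sg K a * u) := by
        rw [hy, R.symT_ng hca hcna u]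
      exact tt_first R π hc hs h3 hab hab' (by rw [av_ng]; exact hcA) (by rw [av_ng]; exact hcB) t _ hx hy'
    · have hdA : av d ≠ av a := av_ne_of hda hdna
      have hdB : av d ≠ av b := av_ne_of hdb hdnb
      have hdC : av d ≠ av c := av_ne_of hcd.symm (fun h => hcd' (by rw [h, ng_ng]))
      exact tt_disj R π hc hs h3 hK hab hab' hcA hcB hdA hdB hdC t u hx hy
  · intro a b c hab hab' hcb hcna t u x y hx hy
    by_cases hca : c = a
    · subst hca
      exact tl_same R π hc hs h3 hab hab' t u hx hy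
    by_cases hcnb : c = ng b
    · subst hcnb
      have hx' : π x = T (ng b) (ng a) (-(sg K a * sg K b * t)) := by rw [hx, R.symT a b hab hab' t]
      have hba : ng b ≠ ng a := ng_ne_ng.2 hab.symm
      have hba' : ng b ≠ ng (ng a) := by rw [ng_ng]; exact fun h => hab' h.symm
      exact tl_same R π hc hs h3 hba hba' _ u hx' hy
    · have hcnb' : c ≠ ng b := hcnb
      exact tl_diff R π hc hs h3 hK hab hab' (av_ne_of hca hcna) (av_ne_of hcb hcnb) t u hx hy
  · intro a c hcna t u x y hx hy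
    by_cases hca : c = a
    · subst hca
      exact ll_same R π hc hs h3 c t u hx hy
    · exact ll_diff R π hc hs h3 hK (av_ne_of hca hcna) t u hx hy

end Cfsg.Agent.Helper25.SpExtCL
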