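import Mathlib
import Cfsg.Prelude.Def_RootSubgroups
import Cfsg.Agent.Lib.Helper25.SpRoot3
import Cfsg.Agent.Lib.Helper25.RootSL4
import Cfsg.Agent.Lib.Helper25.RootTransfer
import Cfsg.Agent.Lib.Helper25.RootComm2
import Cfsg.Agent.Lib.Helper25.RootOrder

set_option autoImplicit false

namespace Cfsg.Agent.Helper25
namespace SpRoot

open Matrix
open scoped commutatorElement

variable {l : Type*} [Fintype l] [DecidableEq l] {F : Type*} [Field F]

/-- the root group of `p`. -/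
def RS (p : l ⊕ l → F) : Subgroup ↥(symplecticGroup l F) where
  carrier := {g | ∃ c : F, g = Tp p c}
  mul_mem' := by
    rintro _ _ ⟨c, rfl⟩ ⟨d, rfl⟩
    exact ⟨c + d, Tp_mul p c d⟩
  one_mem' := ⟨0, (Tp_zero p).symm⟩
  inv_mem' := by
    rintro _ ⟨c, rfl⟩
    exact ⟨-c, Tp_inv p c⟩

theorem mem_RS {p : l ⊕ l → F} {g : ↥(symplecticGroup l F)} : g ∈ RS p ↔ ∃ c : F, g = Tp p c :=
  Iff.rfl

theorem Tp_mem_RS (p : l ⊕ l → F) (c : F) : Tp p c ∈ RS p := ⟨c, rfl⟩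

/-- the statement's closure is the root group. -/
theorem closure_eq_RS (p : l ⊕ l → F) :
    Subgroup.closure {g : ↥(symplecticGroup l F) | ∃ c : F, ∀ v : l ⊕ l → F,
      (g : Matrix (l ⊕ l) (l ⊕ l) F) *ᵥ v = v + (c * (v ⬝ᵥ (J l F *ᵥ p))) • p} = RS p := by
  have : {g : ↥(symplecticGroup l F) | ∃ c : F, ∀ v : l ⊕ l → F,
      (g : Matrix (l ⊕ l) (l ⊕ l) F) *ᵥ v = v + (c * (v ⬝ᵥ (J l F *ᵥ p))) • p} =
      (RS p : Set ↥(symplecticGroup l F)) := by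
    ext g
    constructor
    · rintro ⟨c, hc⟩
      refine ⟨c, ?_⟩
      apply sp_ext
      intro x
      rw [hc x, Tp_mulVec]
      rfl
    · rintro ⟨c, rfl⟩
      refine ⟨c, fun v => ?_⟩
      rw [Tp_mulVec]
      rfl
  rw [this]
  exact Subgroup.closure_eq (RS p)

/-- the inclusion into the special linear group. -/
def psi (l : Type*) [Fintype l] [DecidableEq l] (F : Type*) [Field F] :
    ↥(symplecticGroup l F) →* SpecialLinearGroup (l ⊕ l) F where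
  toFun g := ⟨(g : Matrix (l ⊕ l) (l ⊕ l) F), SymplecticGroup.det_eq_one g.2⟩
  map_one' := rfl
  map_mul' _ _ := rfl

theorem psi_injective : Function.Injective (psi l F) := by
  intro g h hgh
  apply Subtype.ext
  have := congrArg (fun x : SpecialLinearGroup (l ⊕ l) F => (x : Matrix (l ⊕ l) (l ⊕ l) F)) hgh
  exact this

theorem psi_val (g : ↥(symplecticGroup l F)) :
    ((psi l F g : SpecialLinearGroup (l ⊕ l) F) : Matrix (l ⊕ l) (l ⊕ l) F) =
      (g : Matrix (l ⊕ l) (l ⊕ l) F) := rfl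

theorem map_RS (p : l ⊕ l → F) : (RS p).map (psi l F) = RootSL.R p (om p) := by
  ext g'
  rw [RootSL.mem_R (om_self p)]
  constructor
  · rintro ⟨g, ⟨c, rfl⟩, rfl⟩
    exact ⟨c, rfl⟩
  · rintro ⟨c, hc⟩
    refine ⟨Tp p c, Tp_mem_RS p c, ?_⟩
    apply Subtype.ext
    rw [hc]
    rfl

theorem om_ne_zero {p : l ⊕ l → F} (hp : p ≠ 0) : om p ≠ 0 := by
  obtain ⟨w, hw⟩ := exists_Bf_ne hp
  intro h
  apply hw
  rw [Bf_swap, ← om_dot, h, zero_dotProduct, neg_zero]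

theorem RS_comm (p : l ⊕ l → F) : IsMulCommutative (RS p) := by
  refine ⟨⟨?_⟩⟩
  rintro ⟨_, c, rfl⟩ ⟨_, d, rfl⟩
  apply Subtype.ext
  show Tp p c * Tp p d = Tp p d * Tp p c
  rw [Tp_mul, Tp_mul, add_comm]

theorem RS_ne_bot {p : l ⊕ l → F} (hp : p ≠ 0) : RS p ≠ ⊥ := by
  intro h
  have h1 := RootSL.R_ne_bot hp (om_ne_zero hp) (om_self p)
  apply h1
  rw [← map_RS, h, Subgroup.map_bot]

theorem conjBy_RS (p : l ⊕ l → F) (g : ↥(symplecticGroup l F)) :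
    Cfsg.conjBy (RS p) g = RS ((g : Matrix (l ⊕ l) (l ⊕ l) F) *ᵥ p) := by
  ext x
  rw [mem_conjBy, mem_RS, mem_RS]
  constructor
  · rintro ⟨c, hc⟩
    refine ⟨c, ?_⟩
    rw [← conj_Tp, ← hc]
    group
  · rintro ⟨c, rfl⟩
    refine ⟨c, ?_⟩
    rw [← conj_Tp]
    group

/-- the commuting case. -/
theorem comm_eq_bot_of {p q : l ⊕ l → F} (h : Bf p q = 0) : ⁅RS p, RS q⁆ = ⊥ := by
  apply RootTransfer.commutator_eq_bot_of_map psi_injective
  rw [map_RS, map_RS]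
  apply RootSL.comm_eq_bot (om_self p) (om_self q)
  · rw [om_dot, Bf_swap, h, neg_zero]
  · rw [om_dot, h]

/-- the rank one case. -/
theorem rankOne_of {p q : l ⊕ l → F} (h : Bf p q ≠ 0) :
    Cfsg.IsRankOnePair (RS p) (RS q) ∧ Cfsg.IsPSL2PairOver F (RS p) (RS q) := by
  have h1 : om p ⬝ᵥ q ≠ 0 := by
    rw [om_dot, Bf_swap]; exact neg_ne_zero.2 h
  have h2 : om q ⬝ᵥ p ≠ 0 := by
    rw [om_dot]; exact h
  constructor
  · apply RootTransfer.rankOnePair_of_map psi_injective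
    rw [map_RS, map_RS]
    exact RootSL.rankOne_of (om_self p) (om_self q) h1 h2
  · apply RootTransfer.isPSL2_of_map psi_injective
    rw [map_RS, map_RS]
    exact RootSL.isPSL2_of (om_self p) (om_self q) h1 h2

/-- transitivity on non-zero vectors. -/
theorem exists_map {p q : l ⊕ l → F} (hp : p ≠ 0) (hq : q ≠ 0) :
    ∃ g : ↥(symplecticGroup l F), (g : Matrix (l ⊕ l) (l ⊕ l) F) *ᵥ p = q := by
  have key : ∀ a b : l ⊕ l → F, Bf a b ≠ 0 →
      ((Tp (a - b) (Bf a b)⁻¹ : ↥(symplecticGroup l F)) : Matrix (l ⊕ l) (l ⊕ l) F) *ᵥ a = b := by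
    intro a b hab
    rw [Tp_mulVec, Bf_sub_right, Bf_self, zero_sub, mul_neg, inv_mul_cancel₀ hab, neg_smul, one_smul]
    abel
  by_cases h : Bf p q = 0
  · obtain ⟨r, hr1, hr2⟩ := exists_Bf_ne_two hp hq
    have hr2' : Bf r q ≠ 0 := by rw [Bf_swap]; exact neg_ne_zero.2 hr2
    refine ⟨Tp (r - q) (Bf r q)⁻¹ * Tp (p - r) (Bf p r)⁻¹, ?_⟩
    rw [sp_val_mul, ← mulVec_mulVec, key p r hr1, key r q hr2']
  · exact ⟨_, key p q h⟩

/-- the set of root groups. -/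
def SpSet (l : Type*) [Fintype l] [DecidableEq l] (F : Type*) [Field F] :
    Set (Subgroup ↥(symplecticGroup l F)) :=
  {A | ∃ p : l ⊕ l → F, p ≠ 0 ∧ A = RS p}

theorem mulVec_ne_zero' (g : ↥(symplecticGroup l F)) {p : l ⊕ l → F} (hp : p ≠ 0) :
    (g : Matrix (l ⊕ l) (l ⊕ l) F) *ᵥ p ≠ 0 := by
  intro h
  apply hp
  rw [← sp_inv_mulVec g p, h, mulVec_zero]

theorem Tp_zero_vec (c : F) : Tp (0 : l ⊕ l → F) c = 1 := by
  apply sp_ext
  intro x
  rw [Tp_mulVec, smul_zero, add_zero, sp_val_one, one_mulVec]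

theorem sp_rootSet : Cfsg.IsRootSubgroupSet (SpSet l F) where
  commutative := by
    rintro A ⟨p, _, rfl⟩
    exact RS_comm p
  ne_bot := by
    rintro A ⟨p, hp, rfl⟩
    exact RS_ne_bot hp
  generates := by
    rw [eq_top_iff, ← Hsub_eq_top]
    unfold Hsub
    rw [Subgroup.closure_le]
    rintro _ ⟨u, c, rfl⟩
    by_cases hu : u = 0
    · rw [hu, Tp_zero_vec]
      exact one_mem _
    · have hle : RS u ≤ ⨆ A ∈ SpSet l F, A :=
        le_iSup₂ (f := fun (A : Subgroup ↥(symplecticGroup l F)) (_ : A ∈ SpSet l F) => A) _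
          ⟨u, hu, rfl⟩
      exact hle (Tp_mem_RS u c)
  conj_mem := by
    rintro A ⟨p, hp, rfl⟩ g
    exact ⟨_, mulVec_ne_zero' g hp, conjBy_RS p g⟩
  pair := by
    rintro A ⟨p, hp, rfl⟩ B ⟨q, hq, rfl⟩
    by_cases h : Bf p q = 0
    · exact Or.inl (comm_eq_bot_of h)
    · exact Or.inr (Or.inl (rankOne_of h).1)

theorem sp_conjClass [Nonempty l] : Cfsg.IsConjClassOfSubgroups (SpSet l F) := by
  obtain ⟨i⟩ := ‹Nonempty l›
  refine ⟨⟨RS (Pi.single (Sum.inl i) 1), _, RootSL.single_ne_zero' _, rfl⟩, ?_⟩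
  rintro A ⟨p, hp, rfl⟩ B ⟨q, hq, rfl⟩
  obtain ⟨g, hg⟩ := exists_map hp hq
  exact ⟨g, by rw [conjBy_RS, hg]⟩

theorem sp_degenerate : Cfsg.IsDegenerateRootSet (SpSet l F) := by
  rintro A ⟨p, hp, rfl⟩ B ⟨q, hq, rfl⟩ hcc
  by_cases h : Bf p q = 0
  · have := hcc.1
    rw [comm_eq_bot_of h] at this
    exact sp_rootSet.ne_bot _ this rfl
  · exact RootComm.comm_not_mem_of_rankOne sp_rootSet ⟨p, hp, rfl⟩ ⟨q, hq, rfl⟩ (rankOne_of h).1 hcc.1

theorem sp_kRoot : Cfsg.IsKRootSubgroupSet F (SpSet l F) := by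
  refine ⟨sp_rootSet, ?_⟩
  rintro A ⟨p, hp, rfl⟩ B ⟨q, hq, rfl⟩ hro
  by_cases h : Bf p q = 0
  · exfalso
    apply RootOrder.not_commute_of_rankOne hro
    intro a ha b hb
    have : ⁅a, b⁆ ∈ ⁅RS p, RS q⁆ := Subgroup.commutator_mem_commutator ha hb
    rw [comm_eq_bot_of h, Subgroup.mem_bot, commutatorElement_eq_one_iff_mul_comm] at this
    exact this
  · exact (rankOne_of h).2

end SpRoot
end Cfsg.Agent.Helper25
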