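import Mathlib
import Cfsg.Prelude.Def_KGroupFacts

set_option autoImplicit false
set_option linter.unusedSectionVars false
set_option linter.unusedVariables false
set_option linter.style.haveILetI false

/-! PIECE PRIMEQ of S2036 for helper29: a stem extension whose kernel properly contains `N` has a
quotient stem extension, killing `N`, with kernel of prime order. -/

namespace Cfsg.Agent.Helper25.StemPrimeQ

universe u v

theorem exists_prime_stem_quotient {Γ : Type u} [Group Γ] [Finite Γ] {G : Type v} [Group G]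
    (σ : Γ →* G) (hσ : Cfsg.IsStemExtension σ) (N : Subgroup Γ) (hN : N ≤ σ.ker)
    (hne : N ≠ σ.ker) :
    ∃ (Γ' : Type u) (_ : Group Γ') (_ : Finite Γ') (σ' : Γ' →* G) (π : Γ →* Γ'),
      Cfsg.IsStemExtension σ' ∧ (Nat.card σ'.ker).Prime ∧ (∀ g, σ' (π g) = σ g) ∧ N ≤ π.ker := by
  classical
  obtain ⟨hs, hK, hK'⟩ := hσ
  let 𝒮 : Set (Subgroup Γ) := {M | N ≤ M ∧ M ≤ σ.ker ∧ M ≠ σ.ker}
  have h𝒮 : 𝒮.Nonempty := ⟨N, le_rfl, hN, hne⟩
  obtain ⟨M, ⟨hNM, hMK, hMne⟩, hMmax⟩ :=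
    Set.exists_max_image 𝒮 (fun M => Nat.card M) (Set.toFinite _) h𝒮
  have hMn : M.Normal := by
    constructor
    intro n hn g
    have hc : n ∈ Subgroup.center Γ := hK (hMK hn)
    have := Subgroup.mem_center_iff.1 hc g
    have e : g * n * g⁻¹ = n := by rw [this]; group
    rw [e]
    exact hn
  set σ' : Γ ⧸ M →* G := QuotientGroup.lift M σ hMK with hσ'
  have hσ'mk : ∀ x : Γ, σ' (QuotientGroup.mk x) = σ x := fun x => QuotientGroup.lift_mk _ _ _
  have hkermem : ∀ x : Γ, (QuotientGroup.mk x : Γ ⧸ M) ∈ σ'.ker ↔ x ∈ σ.ker := by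
    intro x
    rw [MonoidHom.mem_ker, hσ'mk, MonoidHom.mem_ker]
  have hstem : Cfsg.IsStemExtension σ' := by
    refine ⟨?_, ?_, ?_⟩
    · intro g
      obtain ⟨x, hx⟩ := hs g
      exact ⟨QuotientGroup.mk x, by rw [hσ'mk]; exact hx⟩
    · intro y hy
      obtain ⟨x, rfl⟩ := QuotientGroup.mk_surjective y
      rw [hkermem] at hy
      have hc : x ∈ Subgroup.center Γ := hK hy
      rw [Subgroup.mem_center_iff]
      intro w
      obtain ⟨w', rfl⟩ := QuotientGroup.mk_surjective w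
      rw [← QuotientGroup.mk_mul, ← QuotientGroup.mk_mul, Subgroup.mem_center_iff.1 hc w']
    · intro y hy
      obtain ⟨x, rfl⟩ := QuotientGroup.mk_surjective y
      rw [hkermem] at hy
      have hc : x ∈ commutator Γ := hK' hy
      have h1 : (commutator Γ).map (QuotientGroup.mk' M) ≤ commutator (Γ ⧸ M) := by
        rw [commutator_def, commutator_def, Subgroup.map_commutator]
        exact Subgroup.commutator_mono le_top le_top
      exact h1 ⟨x, hc, rfl⟩
  -- the kernel of `σ'` is nontrivial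
  obtain ⟨x₀, hx₀K, hx₀M⟩ : ∃ x ∈ σ.ker, x ∉ M := by
    by_contra hno
    push Not at hno
    exact hMne (le_antisymm hMK hno)
  have hcard1 : Nat.card σ'.ker ≠ 1 := by
    intro h1
    have htriv : ∀ z : σ'.ker, z = 1 := by
      haveI : Subsingleton σ'.ker := (Nat.card_eq_one_iff_unique.mp h1).1
      intro z; exact Subsingleton.elim _ _
    have := htriv ⟨QuotientGroup.mk x₀, (hkermem x₀).mpr hx₀K⟩
    have h2 : (QuotientGroup.mk x₀ : Γ ⧸ M) = 1 := congrArg Subtype.val this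
    rw [QuotientGroup.eq_one_iff] at h2
    exact hx₀M h2
  obtain ⟨p, hp, hpd⟩ := Nat.exists_prime_and_dvd hcard1
  haveI : Fact p.Prime := ⟨hp⟩
  obtain ⟨y, hy⟩ := exists_prime_orderOf_dvd_card' p hpd
  have hyo : orderOf (y : Γ ⧸ M) = p := by rw [Subgroup.orderOf_coe]; exact hy
  set M' : Subgroup Γ := (Subgroup.zpowers (y : Γ ⧸ M)).comap (QuotientGroup.mk' M) with hM'
  have hMM' : M ≤ M' := by
    intro m hm
    show (QuotientGroup.mk' M m) ∈ Subgroup.zpowers (y : Γ ⧸ M)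
    have : (QuotientGroup.mk' M m) = 1 := (QuotientGroup.eq_one_iff m).mpr hm
    rw [this]
    exact Subgroup.one_mem _
  have hM'K : M' ≤ σ.ker := by
    intro z hz
    have h1 : (QuotientGroup.mk z : Γ ⧸ M) ∈ Subgroup.zpowers (y : Γ ⧸ M) := hz
    have h2 : Subgroup.zpowers (y : Γ ⧸ M) ≤ σ'.ker := by
      rw [Subgroup.zpowers_le]; exact y.2
    exact (hkermem z).mp (h2 h1)
  obtain ⟨x, hx⟩ := QuotientGroup.mk_surjective (y : Γ ⧸ M)
  have hxM' : x ∈ M' := by
    show (QuotientGroup.mk' M x) ∈ Subgroup.zpowers (y : Γ ⧸ M)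
    show (QuotientGroup.mk x : Γ ⧸ M) ∈ Subgroup.zpowers (y : Γ ⧸ M)
    rw [hx]
    exact Subgroup.mem_zpowers _
  have hxM : x ∉ M := by
    intro h
    have h1 : (QuotientGroup.mk x : Γ ⧸ M) = 1 := (QuotientGroup.eq_one_iff x).mpr h
    rw [hx] at h1
    rw [h1, orderOf_one] at hyo
    exact hp.ne_one hyo.symm
  have hM'eq : M' = σ.ker := by
    by_contra hne'
    have hmem : M' ∈ 𝒮 := ⟨hNM.trans hMM', hM'K, hne'⟩
    have h1 := hMmax M' hmem
    have h2 : M = M' := Subgroup.eq_of_le_of_card_ge hMM' h1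
    exact hxM (h2 ▸ hxM')
  have hkereq : σ'.ker = Subgroup.zpowers (y : Γ ⧸ M) := by
    apply le_antisymm
    · intro z hz
      obtain ⟨w, rfl⟩ := QuotientGroup.mk_surjective z
      have hw : w ∈ σ.ker := (hkermem w).mp hz
      rw [← hM'eq] at hw
      exact hw
    · rw [Subgroup.zpowers_le]; exact y.2
  refine ⟨Γ ⧸ M, inferInstance, inferInstance, σ', QuotientGroup.mk' M, hstem, ?_, ?_, ?_⟩
  · rw [hkereq, Nat.card_zpowers, hyo]
    exact hp
  · intro g
    exact hσ'mk g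
  · rw [QuotientGroup.ker_mk']
    exact hNM

end Cfsg.Agent.Helper25.StemPrimeQ
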