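import Mathlib

set_option autoImplicit false

/-! PIECE ZMOD12 of S2036 for helper29: a group generated by commuting elements of orders
dividing `4` and `3` is a quotient of the cyclic group of order `12`. -/

namespace Cfsg.Agent.Helper25.SurjZMod12

theorem exists_surj_zmod12 {K : Type*} [Group K] (c2 c3 : K) (h2 : c2 ^ 4 = 1) (h3 : c3 ^ 3 = 1)
    (hc : c2 * c3 = c3 * c2) (hgen : Subgroup.closure {c2, c3} = (⊤ : Subgroup K)) :
    ∃ π : Multiplicative (ZMod 12) →* K, Function.Surjective π := by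
  have hcomm : Commute c2 c3 := hc
  set g : K := c2 * c3 with hg
  have hg12 : g ^ 12 = 1 := by
    rw [hg, hcomm.mul_pow]
    have e2 : c2 ^ 12 = 1 := by
      have : c2 ^ 12 = (c2 ^ 4) ^ 3 := by rw [← pow_mul]
      rw [this, h2, one_pow]
    have e3 : c3 ^ 12 = 1 := by
      have : c3 ^ 12 = (c3 ^ 3) ^ 4 := by rw [← pow_mul]
      rw [this, h3, one_pow]
    rw [e2, e3, one_mul]
  have hg9 : g ^ 9 = c2 := by
    rw [hg, hcomm.mul_pow]
    have e2 : c2 ^ 9 = c2 := by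
      have : c2 ^ 9 = (c2 ^ 4) ^ 2 * c2 := by rw [← pow_mul, ← pow_succ]
      rw [this, h2, one_pow, one_mul]
    have e3 : c3 ^ 9 = 1 := by
      have : c3 ^ 9 = (c3 ^ 3) ^ 3 := by rw [← pow_mul]
      rw [this, h3, one_pow]
    rw [e2, e3, mul_one]
  have hg4 : g ^ 4 = c3 := by
    rw [hg, hcomm.mul_pow]
    have e3 : c3 ^ 4 = c3 := by
      have : c3 ^ 4 = c3 ^ 3 * c3 := by rw [← pow_succ]
      rw [this, h3, one_mul]
    rw [h2, e3, one_mul]
  -- the homomorphism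
  let f0 : ℤ →+ Additive K := zmultiplesHom (Additive K) (Additive.ofMul g)
  have hf0 : ∀ n : ℤ, f0 n = Additive.ofMul (g ^ n) := by
    intro n
    show n • Additive.ofMul g = Additive.ofMul (g ^ n)
    rfl
  have hker : f0 ((12 : ℕ) : ℤ) = 0 := by
    rw [hf0]
    have : g ^ (((12 : ℕ) : ℤ)) = 1 := by
      rw [zpow_natCast]; exact hg12
    rw [this]; rfl
  let f1 : ZMod 12 →+ Additive K := ZMod.lift 12 ⟨f0, hker⟩
  have hf1 : ∀ n : ℤ, f1 (n : ZMod 12) = Additive.ofMul (g ^ n) := by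
    intro n
    show ZMod.lift 12 ⟨f0, hker⟩ (n : ZMod 12) = _
    rw [ZMod.lift_coe]
    exact hf0 n
  let π : Multiplicative (ZMod 12) →* K := AddMonoidHom.toMultiplicativeLeft f1
  have hπ : ∀ n : ℤ, π (Multiplicative.ofAdd (n : ZMod 12)) = g ^ n := by
    intro n
    show Additive.toMul (f1 (n : ZMod 12)) = g ^ n
    rw [hf1]
    rfl
  refine ⟨π, ?_⟩
  rw [← MonoidHom.range_eq_top, eq_top_iff, ← hgen, Subgroup.closure_le]
  rintro x (rfl | rfl)
  · refine ⟨Multiplicative.ofAdd ((9 : ℤ) : ZMod 12), ?_⟩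
    rw [hπ]
    exact_mod_cast hg9
  · refine ⟨Multiplicative.ofAdd ((4 : ℤ) : ZMod 12), ?_⟩
    rw [hπ]
    exact_mod_cast hg4

end Cfsg.Agent.Helper25.SurjZMod12
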