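import Mathlib
import Cfsg.Agent.Lib.Helper27.SyDefs

/-!
# S1774, piece SY-FP (helper25): a fixed coset of `z` on `Qa / {1, a}`
-/

set_option autoImplicit false
set_option linter.unusedSectionVars false
set_option linter.unusedVariables false

namespace Cfsg.Agent.Helper27.Sy

variable {G : Type*} [Group G]

section FP
theorem exists_fixed [Finite G] (Qa : Subgroup G) (hQa : IsPGroup 2 ↥Qa) (a z : G) (haQ : a ∈ Qa)
    (haa : a * a = 1) (hac : ∀ y ∈ Qa, y * a = a * y) (hzz : z * z = 1) (hza : z * a = a * z)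
    (hzn : ∀ y ∈ Qa, z * y * z⁻¹ ∈ Qa) (hbig : ∃ y ∈ Qa, y ≠ 1 ∧ y ≠ a) :
    ∃ y ∈ Qa, y ≠ 1 ∧ y ≠ a ∧ (z * y * z⁻¹ = y ∨ z * y * z⁻¹ = a * y) := by
  classical
  have hzinv : z⁻¹ = z := inv_eq_of_mul_eq_one_right hzz
  have hainv : a⁻¹ = a := inv_eq_of_mul_eq_one_right haa
  have hzaz : z * a * z⁻¹ = a := by rw [hza, mul_assoc, mul_inv_cancel, mul_one]
  let a' : ↥Qa := ⟨a, haQ⟩
  let A : Subgroup ↥Qa :=
    { carrier := {y | y = 1 ∨ y = a'}
      one_mem' := Or.inl rfl
      mul_mem' := by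
        rintro x y (rfl | rfl) (rfl | rfl)
        · left; rw [mul_one]
        · right; rw [one_mul]
        · right; rw [mul_one]
        · left; apply Subtype.ext; exact haa
      inv_mem' := by
        rintro x (rfl | rfl)
        · left; rw [inv_one]
        · right; apply Subtype.ext; exact hainv }
  have hAmem : ∀ y : ↥Qa, y ∈ A ↔ y = 1 ∨ y = a' := fun y => Iff.rfl
  have hAn : A.Normal := ⟨by
    rintro n (rfl | rfl) g
    · left; rw [mul_one, mul_inv_cancel]
    · right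
      apply Subtype.ext
      show (g : G) * a * (g : G)⁻¹ = a
      rw [hac g g.2, mul_assoc, mul_inv_cancel, mul_one]⟩
  have hinvol : ∀ y : G, z * (z * y * z⁻¹) * z⁻¹ = y := by
    intro y
    have : z * (z * y * z⁻¹) * z⁻¹ = (z * z) * y * (z * z)⁻¹ := by group
    rw [this, hzz, one_mul, inv_one, mul_one]
  let φ : ↥Qa ≃* ↥Qa :=
    { toFun := fun y => ⟨z * y * z⁻¹, hzn y y.2⟩
      invFun := fun y => ⟨z * y * z⁻¹, hzn y y.2⟩
      left_inv := fun y => Subtype.ext (hinvol y)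
      right_inv := fun y => Subtype.ext (hinvol y)
      map_mul' := fun x y => Subtype.ext (by
        show z * ((x : G) * (y : G)) * z⁻¹ = (z * x * z⁻¹) * (z * y * z⁻¹)
        group) }
  have hφ_apply : ∀ y : ↥Qa, ((φ y : ↥Qa) : G) = z * y * z⁻¹ := fun y => rfl
  have hφφ : ∀ y : ↥Qa, φ (φ y) = y := fun y => Subtype.ext (hinvol y)
  have hφ1 : φ 1 = 1 := map_one φ
  have hφa : φ a' = a' := Subtype.ext hzaz
  have hφA : A.map (φ : ↥Qa →* ↥Qa) = A := by
    ext y
    constructor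
    · rintro ⟨x, (rfl | rfl), rfl⟩
      · left; exact hφ1
      · right; exact hφa
    · rintro (rfl | rfl)
      · exact ⟨1, Or.inl rfl, hφ1⟩
      · exact ⟨a', Or.inr rfl, hφa⟩
  let ψ : (↥Qa ⧸ A) ≃* (↥Qa ⧸ A) := QuotientGroup.congr A A φ hφA
  have hψ_mk : ∀ y : ↥Qa, ψ (QuotientGroup.mk y) = QuotientGroup.mk (φ y) := fun y => rfl
  let σ : Equiv.Perm (↥Qa ⧸ A) := ψ.toEquiv
  have hσ2 : σ ^ 2 ^ 1 = 1 := by
    ext q
    obtain ⟨y, rfl⟩ := QuotientGroup.mk_surjective q
    show σ (σ (QuotientGroup.mk y)) = QuotientGroup.mk y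
    show ψ (ψ (QuotientGroup.mk y)) = QuotientGroup.mk y
    rw [hψ_mk, hψ_mk, hφφ]
  have hσ1 : σ (1 : ↥Qa ⧸ A) = 1 := map_one ψ
  -- the quotient is a non-trivial 2-group
  obtain ⟨y0, hy0Q, hy01, hy0a⟩ := hbig
  have hy0A : (⟨y0, hy0Q⟩ : ↥Qa) ∉ A := by
    rintro (h | h)
    · exact hy01 (congrArg Subtype.val h)
    · exact hy0a (congrArg Subtype.val h)
  have hPq : IsPGroup 2 (↥Qa ⧸ A) := hQa.to_quotient A
  haveI : Fintype (↥Qa ⧸ A) := Fintype.ofFinite _
  have hdvd : 2 ∣ Fintype.card (↥Qa ⧸ A) := by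
    rw [← Nat.card_eq_fintype_card]
    rcases hPq.card_eq_or_dvd with h1 | h2
    · exfalso
      rw [Nat.card_eq_one_iff_unique] at h1
      obtain ⟨hs, -⟩ := h1
      apply hy0A
      have : (QuotientGroup.mk (⟨y0, hy0Q⟩ : ↥Qa) : ↥Qa ⧸ A) = 1 := Subsingleton.elim _ _
      exact (QuotientGroup.eq_one_iff _).mp this
    · exact h2
  obtain ⟨q, hq, hq1⟩ := Equiv.Perm.exists_fixed_point_of_prime' (p := 2) (n := 1) hdvd hσ2 hσ1
  obtain ⟨y, rfl⟩ := QuotientGroup.mk_surjective q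
  have hyA : y ∉ A := fun h => hq1 ((QuotientGroup.eq_one_iff _).mpr h)
  have hfix : (φ y)⁻¹ * y ∈ A := by
    have : (QuotientGroup.mk (φ y) : ↥Qa ⧸ A) = QuotientGroup.mk y := hq
    exact QuotientGroup.eq.mp this
  refine ⟨y, y.2, ?_, ?_, ?_⟩
  · intro h
    exact hyA (Or.inl (Subtype.ext h))
  · intro h
    exact hyA (Or.inr (Subtype.ext h))
  · rcases hfix with h | h
    · left
      have h1 : y = φ y := by
        have := congrArg (fun t => φ y * t) h
        simp only [mul_inv_cancel_left, mul_one] at this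
        exact this
      have := congrArg Subtype.val h1
      rw [hφ_apply] at this
      exact this.symm
    · right
      have h1 : y = φ y * a' := by
        have := congrArg (fun t => φ y * t) h
        simp only [mul_inv_cancel_left] at this
        exact this
      have h2 := congrArg Subtype.val h1
      rw [Subgroup.coe_mul, hφ_apply] at h2
      -- y = z y z⁻¹ * a
      have h3 : z * (y : G) * z⁻¹ = (y : G) * a := by
        calc z * (y : G) * z⁻¹ = (z * (y : G) * z⁻¹ * a) * a := by rw [mul_assoc _ a a, haa, mul_one]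
          _ = (y : G) * a := by rw [← h2]
      rw [h3, hac y y.2]
end FP

end Cfsg.Agent.Helper27.Sy
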