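import Mathlib
import Cfsg.Agent.Lib.Helper19.PGroupBasic

/-!
# Groups of order 81 with a core-free subgroup of order 9 (helper25; for S5239, case `|S| = 81`)

* `sylow_of_core_bot`: a group of order `81` with a core-free subgroup of order `9` is isomorphic to a
  Sylow `3`-subgroup of `Sym(9)`.
* `exists_plane_core_bot`: a group of order `81` with centre of order `3` and an elementary abelian subgroup of
  order `27` has a core-free subgroup of order `9`.
-/

set_option autoImplicit false

namespace Cfsg.Agent.Helper25.SylPerm9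

theorem factorization_perm9 : (Nat.card (Equiv.Perm (Fin 9))).factorization 3 = 4 := by
  rw [Nat.card_eq_fintype_card, Fintype.card_perm, Fintype.card_fin]
  have h9 : Nat.factorial 9 = 3 ^ 4 * 4480 := by decide
  rw [h9, Nat.factorization_mul (by norm_num) (by norm_num), Nat.factorization_pow]
  simp [Nat.Prime.factorization_self Nat.prime_three,
    Nat.factorization_eq_zero_of_not_dvd (show ¬ 3 ∣ 4480 by norm_num)]

/-- two elementwise commuting subgroups with trivial intersection -/
theorem card_sup_of_commute {G : Type*} [Group G] (A B : Subgroup G)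
    (hc : ∀ a ∈ A, ∀ b ∈ B, a * b = b * a) (hd : A ⊓ B = ⊥) :
    Nat.card ↥(A ⊔ B) = Nat.card A * Nat.card B := by
  have comm : ∀ (m : A) (n : B), Commute (A.subtype m) (B.subtype n) := fun m n => hc m m.2 n n.2
  have hinj : Function.Injective (MonoidHom.noncommCoprod A.subtype B.subtype comm) := by
    rw [MonoidHom.noncommCoprod_injective]
    refine ⟨A.subtype_injective, B.subtype_injective, ?_⟩
    rw [Subgroup.range_subtype, Subgroup.range_subtype, disjoint_iff, hd]
  have hr := MonoidHom.noncommCoprod_range A.subtype B.subtype comm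
  rw [Subgroup.range_subtype, Subgroup.range_subtype] at hr
  rw [← hr, ← Nat.card_prod]
  exact (Nat.card_congr (MonoidHom.ofInjective hinj).toEquiv).symm

/-- (P1) a group of order `81` with a core-free subgroup of order `9` is a Sylow `3`-subgroup of `Sym(9)` -/
theorem sylow_of_core_bot {X : Type*} [Group X] [Finite X] (hcard : Nat.card X = 81)
    (U : Subgroup X) (hU : Nat.card U = 9) (hcore : U.normalCore = ⊥) :
    ∃ W : Sylow 3 (Equiv.Perm (Fin 9)), Nonempty (X ≃* ↥(W : Subgroup (Equiv.Perm (Fin 9)))) := by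
  classical
  have : Fact (Nat.Prime 3) := ⟨Nat.prime_three⟩
  have hidx : U.index = 9 := by
    have := U.card_mul_index
    rw [hU, hcard] at this
    omega
  have hq : Nat.card (X ⧸ U) = 9 := hidx
  let e : (X ⧸ U) ≃ Fin 9 := Finite.equivFinOfCardEq hq
  let φ : X →* Equiv.Perm (Fin 9) :=
    (e.permCongrHom : Equiv.Perm (X ⧸ U) →* Equiv.Perm (Fin 9)).comp (MulAction.toPermHom X (X ⧸ U))
  have hinj : Function.Injective φ := by
    rw [injective_iff_map_eq_one]
    intro g hg
    have h1 : (MulAction.toPermHom X (X ⧸ U)) g = 1 := by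
      have h2 : e.permCongrHom ((MulAction.toPermHom X (X ⧸ U)) g) = 1 := hg
      exact (MulEquiv.map_eq_one_iff e.permCongrHom).1 h2
    have h3 : g ∈ U.normalCore := by
      rw [Subgroup.normalCore_eq_ker]
      exact h1
    rw [hcore] at h3
    exact Subgroup.mem_bot.1 h3
  have hrange : Nat.card φ.range = 81 := by
    rw [← hcard]
    exact (Nat.card_congr (MonoidHom.ofInjective hinj).toEquiv).symm
  refine ⟨Sylow.ofCard φ.range (by rw [hrange, factorization_perm9]; norm_num), ⟨?_⟩⟩
  exact MonoidHom.ofInjective hinj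

/-- (P2) a core-free plane in an elementary abelian subgroup of order `27` -/
theorem exists_plane_core_bot {X : Type*} [Group X] [Finite X] (hcard : Nat.card X = 81)
    (hZ : Nat.card (Subgroup.center X) = 3) (H : Subgroup X) (hH : Nat.card H = 27)
    (hab : ∀ x ∈ H, ∀ y ∈ H, x * y = y * x) (hexp : ∀ x ∈ H, x ^ 3 = 1) :
    ∃ U : Subgroup X, Nat.card U = 9 ∧ U.normalCore = ⊥ := by
  classical
  have : Fact (Nat.Prime 3) := ⟨Nat.prime_three⟩
  have hX3 : IsPGroup 3 X := IsPGroup.of_card (n := 4) (by rw [hcard]; norm_num)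
  have h1 : ¬ H ≤ Subgroup.center X := by
    intro hle
    have := Subgroup.card_le_of_le hle
    omega
  obtain ⟨a, haH, haZ⟩ := SetLike.not_le_iff_exists.1 h1
  have ha1 : a ≠ 1 := fun h => haZ (h ▸ one_mem _)
  have hoa : orderOf a = 3 := orderOf_eq_prime (hexp a haH) ha1
  have hA : Nat.card (Subgroup.zpowers a) = 3 := by rw [Nat.card_zpowers, hoa]
  have hAZ : Subgroup.zpowers a ⊓ Subgroup.center X = ⊥ := by
    by_contra hne
    have hd : Nat.card ↥(Subgroup.zpowers a ⊓ Subgroup.center X) ∣ 3 :=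
      hA ▸ Subgroup.card_dvd_of_le inf_le_left
    rcases (Nat.dvd_prime Nat.prime_three).1 hd with h | h
    · exact hne (Subgroup.card_eq_one.1 h)
    · have e1 : Subgroup.zpowers a ⊓ Subgroup.center X = Subgroup.zpowers a :=
        Subgroup.eq_of_le_of_card_ge inf_le_left (by rw [h, hA])
      have e2 : Subgroup.zpowers a ≤ Subgroup.center X := e1 ▸ inf_le_right
      exact haZ (e2 (Subgroup.mem_zpowers a))
  have hAZc : Nat.card ↥(Subgroup.zpowers a ⊔ Subgroup.center X) = 9 := by
    rw [card_sup_of_commute _ _ ?_ hAZ, hA, hZ]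
    intro x _ z hz
    exact (Subgroup.mem_center_iff.1 hz) x
  have h2 : ¬ H ≤ Subgroup.zpowers a ⊔ Subgroup.center X := by
    intro hle
    have := Subgroup.card_le_of_le hle
    omega
  obtain ⟨b, hbH, hbAZ⟩ := SetLike.not_le_iff_exists.1 h2
  have hb1 : b ≠ 1 := fun h => hbAZ (h ▸ one_mem _)
  have hob : orderOf b = 3 := orderOf_eq_prime (hexp b hbH) hb1
  have hB : Nat.card (Subgroup.zpowers b) = 3 := by rw [Nat.card_zpowers, hob]
  have hAB : Subgroup.zpowers a ⊓ Subgroup.zpowers b = ⊥ := by
    by_contra hne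
    have hd : Nat.card ↥(Subgroup.zpowers a ⊓ Subgroup.zpowers b) ∣ 3 :=
      hB ▸ Subgroup.card_dvd_of_le inf_le_right
    rcases (Nat.dvd_prime Nat.prime_three).1 hd with h | h
    · exact hne (Subgroup.card_eq_one.1 h)
    · have e1 : Subgroup.zpowers a ⊓ Subgroup.zpowers b = Subgroup.zpowers b :=
        Subgroup.eq_of_le_of_card_ge inf_le_right (by rw [h, hB])
      have e2 : Subgroup.zpowers b ≤ Subgroup.zpowers a := e1 ▸ inf_le_left
      exact hbAZ (Subgroup.mem_sup_left (e2 (Subgroup.mem_zpowers b)))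
  have hAH : Subgroup.zpowers a ≤ H := (Subgroup.zpowers_le).2 haH
  have hBH : Subgroup.zpowers b ≤ H := (Subgroup.zpowers_le).2 hbH
  have hUc : Nat.card ↥(Subgroup.zpowers a ⊔ Subgroup.zpowers b) = 9 := by
    rw [card_sup_of_commute _ _ (fun x hx y hy => hab x (hAH hx) y (hBH hy)) hAB, hA, hB]
  refine ⟨Subgroup.zpowers a ⊔ Subgroup.zpowers b, hUc, ?_⟩
  by_contra hne
  have h3 := Cfsg.Agent.Helper19.normal_inf_center_ne_bot hX3
    (Subgroup.zpowers a ⊔ Subgroup.zpowers b).normalCore hne
  have hd : Nat.card ↥((Subgroup.zpowers a ⊔ Subgroup.zpowers b).normalCore ⊓ Subgroup.center X) ∣ 3 :=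
    hZ ▸ Subgroup.card_dvd_of_le inf_le_right
  rcases (Nat.dvd_prime Nat.prime_three).1 hd with h | h
  · exact h3 (Subgroup.card_eq_one.1 h)
  · have e1 : (Subgroup.zpowers a ⊔ Subgroup.zpowers b).normalCore ⊓ Subgroup.center X = Subgroup.center X :=
      Subgroup.eq_of_le_of_card_ge inf_le_right (by rw [h, hZ])
    have hZU : Subgroup.center X ≤ Subgroup.zpowers a ⊔ Subgroup.zpowers b := by
      rw [← e1]
      exact inf_le_left.trans (Subgroup.normalCore_le _)
    have hle : Subgroup.zpowers a ⊔ Subgroup.center X ≤ Subgroup.zpowers a ⊔ Subgroup.zpowers b :=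
      sup_le le_sup_left hZU
    have heq : Subgroup.zpowers a ⊔ Subgroup.center X = Subgroup.zpowers a ⊔ Subgroup.zpowers b :=
      Subgroup.eq_of_le_of_card_ge hle (by rw [hAZc, hUc])
    exact hbAZ (heq ▸ Subgroup.mem_sup_right (Subgroup.mem_zpowers b))

/-- (P3) a group of order `81` with centre of order `3` and an elementary abelian subgroup of order `27` is a
Sylow `3`-subgroup of `Sym(9)` -/
theorem sylow_perm9_of_elemAb {X : Type*} [Group X] [Finite X] (hcard : Nat.card X = 81)
    (hZ : Nat.card (Subgroup.center X) = 3) (H : Subgroup X) (hH : Nat.card H = 27)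
    (hab : ∀ x ∈ H, ∀ y ∈ H, x * y = y * x) (hexp : ∀ x ∈ H, x ^ 3 = 1) :
    ∃ W : Sylow 3 (Equiv.Perm (Fin 9)), Nonempty (X ≃* ↥(W : Subgroup (Equiv.Perm (Fin 9)))) := by
  obtain ⟨U, hU, hcore⟩ := exists_plane_core_bot hcard hZ H hH hab hexp
  exact sylow_of_core_bot hcard U hU hcore

end Cfsg.Agent.Helper25.SylPerm9
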