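import Mathlib
import Cfsg.Agent.Lib.Helper12.NatModA

/-!
# S1786 piece TI-SL2REC (helper25): two shear groups generate `SL₂(F)` modulo the centralizer of `W = V × A`.
-/

set_option autoImplicit false

namespace Cfsg.Agent.Helper26.TI

open Multiplicative
open Cfsg.Agent.Helper12.NatMod

section aux

variable {G : Type*} [Group G] (V A : Subgroup G) (F : Type) [Field F]
  (eV : ↥V ≃* Multiplicative F) (eA : ↥A ≃* Multiplicative F)

/-- `h` acts on `W = V × A` (coordinates `(s, t) = (eV v, eA a)`, column vectors) through the matrix `M` -/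
def ti_sl2rec_Acts (h : G) (M : Matrix (Fin 2) (Fin 2) F) : Prop :=
  (∀ v : ↥V, ∃ v' : ↥V, ∃ a' : ↥A, h * (v : G) * h⁻¹ = (v' : G) * (a' : G) ∧
      toAdd (eV v') = M 0 0 * toAdd (eV v) ∧ toAdd (eA a') = M 1 0 * toAdd (eV v)) ∧
  (∀ a : ↥A, ∃ v' : ↥V, ∃ a' : ↥A, h * (a : G) * h⁻¹ = (v' : G) * (a' : G) ∧
      toAdd (eV v') = M 0 1 * toAdd (eA a) ∧ toAdd (eA a') = M 1 1 * toAdd (eA a))

variable {V A F eV eA}

theorem ti_sl2rec_acts_one : ti_sl2rec_Acts V A F eV eA 1 1 := by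
  constructor
  · intro v
    refine ⟨v, 1, by simp, by simp, by simp⟩
  · intro a
    refine ⟨1, a, by simp, by simp, by simp⟩

theorem ti_sl2rec_acts_mul (hVA : ∀ v ∈ V, ∀ a ∈ A, v * a = a * v) {h h' : G}
    {M M' : Matrix (Fin 2) (Fin 2) F}
    (hM : ti_sl2rec_Acts V A F eV eA h M) (hM' : ti_sl2rec_Acts V A F eV eA h' M') :
    ti_sl2rec_Acts V A F eV eA (h * h') (M * M') := by
  -- a general computation: the image of `v1 * a1`
  have key : ∀ (v1 : ↥V) (a1 : ↥A), ∃ v' : ↥V, ∃ a' : ↥A,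
      h * ((v1 : G) * (a1 : G)) * h⁻¹ = (v' : G) * (a' : G) ∧
      toAdd (eV v') = M 0 0 * toAdd (eV v1) + M 0 1 * toAdd (eA a1) ∧
      toAdd (eA a') = M 1 0 * toAdd (eV v1) + M 1 1 * toAdd (eA a1) := by
    intro v1 a1
    obtain ⟨v2, a2, h2, hv2, ha2⟩ := hM.1 v1
    obtain ⟨v3, a3, h3, hv3, ha3⟩ := hM.2 a1
    refine ⟨v2 * v3, a2 * a3, ?_, ?_, ?_⟩
    · have e1 : h * ((v1 : G) * (a1 : G)) * h⁻¹ = (h * (v1 : G) * h⁻¹) * (h * (a1 : G) * h⁻¹) := by
        group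
      rw [e1, h2, h3, Subgroup.coe_mul, Subgroup.coe_mul]
      have hc : (a2 : G) * (v3 : G) = (v3 : G) * (a2 : G) := (hVA v3 v3.2 a2 a2.2).symm
      calc (v2 : G) * (a2 : G) * ((v3 : G) * (a3 : G))
          = (v2 : G) * ((a2 : G) * (v3 : G)) * (a3 : G) := by group
        _ = (v2 : G) * ((v3 : G) * (a2 : G)) * (a3 : G) := by rw [hc]
        _ = (v2 : G) * (v3 : G) * ((a2 : G) * (a3 : G)) := by group
    · rw [map_mul, toAdd_mul, hv2, hv3]
    · rw [map_mul, toAdd_mul, ha2, ha3]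
  constructor
  · intro v
    obtain ⟨v1, a1, h1, hv1, ha1⟩ := hM'.1 v
    obtain ⟨v', a', hk, hv', ha'⟩ := key v1 a1
    refine ⟨v', a', ?_, ?_, ?_⟩
    · have e1 : h * h' * (v : G) * (h * h')⁻¹ = h * (h' * (v : G) * h'⁻¹) * h⁻¹ := by group
      rw [e1, h1, hk]
    · rw [hv', hv1, ha1, Matrix.mul_apply, Fin.sum_univ_two]; ring
    · rw [ha', hv1, ha1, Matrix.mul_apply, Fin.sum_univ_two]; ring
  · intro a
    obtain ⟨v1, a1, h1, hv1, ha1⟩ := hM'.2 a
    obtain ⟨v', a', hk, hv', ha'⟩ := key v1 a1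
    refine ⟨v', a', ?_, ?_, ?_⟩
    · have e1 : h * h' * (a : G) * (h * h')⁻¹ = h * (h' * (a : G) * h'⁻¹) * h⁻¹ := by group
      rw [e1, h1, hk]
    · rw [hv', hv1, ha1, Matrix.mul_apply, Fin.sum_univ_two]; ring
    · rw [ha', hv1, ha1, Matrix.mul_apply, Fin.sum_univ_two]; ring

theorem ti_sl2rec_split (hdisj : V ⊓ A = ⊥) {v v' : ↥V} {a a' : ↥A}
    (h : (v : G) * (a : G) = (v' : G) * (a' : G)) : v = v' ∧ a = a' := by
  have h1 : ((v' : G))⁻¹ * (v : G) = (a' : G) * ((a : G))⁻¹ := by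
    have : (v : G) = (v' : G) * (a' : G) * ((a : G))⁻¹ := by rw [← h]; group
    rw [this]; group
  have h2 : ((v' : G))⁻¹ * (v : G) ∈ V ⊓ A := by
    refine ⟨V.mul_mem (V.inv_mem v'.2) v.2, ?_⟩
    rw [h1]
    exact A.mul_mem a'.2 (A.inv_mem a.2)
  rw [hdisj, Subgroup.mem_bot] at h2
  have h3 : (v : G) = (v' : G) := by
    have := inv_mul_eq_one.1 h2
    exact this.symm
  refine ⟨Subtype.ext h3, ?_⟩
  apply Subtype.ext
  rw [h3] at h
  exact mul_left_cancel h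

theorem ti_sl2rec_acts_unique (hdisj : V ⊓ A = ⊥) {h : G} {M M' : Matrix (Fin 2) (Fin 2) F}
    (hM : ti_sl2rec_Acts V A F eV eA h M) (hM' : ti_sl2rec_Acts V A F eV eA h M') : M = M' := by
  have hv0 : toAdd (eV (eV.symm (ofAdd (1 : F)))) = 1 := by
    rw [MulEquiv.apply_symm_apply]; rfl
  have ha0 : toAdd (eA (eA.symm (ofAdd (1 : F)))) = 1 := by
    rw [MulEquiv.apply_symm_apply]; rfl
  obtain ⟨v1, a1, h1, hv1, ha1⟩ := hM.1 (eV.symm (ofAdd (1 : F)))
  obtain ⟨v2, a2, h2, hv2, ha2⟩ := hM'.1 (eV.symm (ofAdd (1 : F)))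
  obtain ⟨v3, a3, h3, hv3, ha3⟩ := hM.2 (eA.symm (ofAdd (1 : F)))
  obtain ⟨v4, a4, h4, hv4, ha4⟩ := hM'.2 (eA.symm (ofAdd (1 : F)))
  obtain ⟨e12, f12⟩ := ti_sl2rec_split hdisj (h1.symm.trans h2)
  obtain ⟨e34, f34⟩ := ti_sl2rec_split hdisj (h3.symm.trans h4)
  rw [hv0, mul_one] at hv1 hv2 ha1 ha2
  rw [ha0, mul_one] at hv3 hv4 ha3 ha4
  ext i j
  fin_cases i <;> fin_cases j
  · show M 0 0 = M' 0 0
    rw [← hv1, ← hv2, e12]
  · show M 0 1 = M' 0 1
    rw [← hv3, ← hv4, e34]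
  · show M 1 0 = M' 1 0
    rw [← ha1, ← ha2, f12]
  · show M 1 1 = M' 1 1
    rw [← ha3, ← ha4, f34]

end aux

local notation "SL2" => Matrix.SpecialLinearGroup (Fin 2)

open Multiplicative in
/-- **SL2REC** (sub-project, independent of the rest): two "shear groups" `P`, `PA` acting on `W = V × A`
through a field `F` generate `SL₂(F)` modulo the centralizer of `W`. -/
theorem sl2_of_shears {G : Type*} [Group G] (V A P PA : Subgroup G)
    (F : Type) [Field F] [Fintype F]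
    (eV : ↥V ≃* Multiplicative F) (eA : ↥A ≃* Multiplicative F)
    (hVA : ∀ v ∈ V, ∀ a ∈ A, v * a = a * v) (hdisj : V ⊓ A = ⊥)
    (hPV : ∀ x ∈ P, ∀ v ∈ V, x * v = v * x)
    (hPAA : ∀ y ∈ PA, ∀ a ∈ A, y * a = a * y)
    (hP : ∀ x ∈ P, ∃ f : F, ∀ a : ↥A, ∃ v : ↥V,
      x * (a : G) * x⁻¹ = (v : G) * (a : G) ∧ toAdd (eV v) = f * toAdd (eA a))
    (hPall : ∀ f : F, ∃ x ∈ P, ∀ a : ↥A, ∃ v : ↥V,
      x * (a : G) * x⁻¹ = (v : G) * (a : G) ∧ toAdd (eV v) = f * toAdd (eA a))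
    (hPA : ∀ y ∈ PA, ∃ f : F, ∀ v : ↥V, ∃ a : ↥A,
      y * (v : G) * y⁻¹ = (a : G) * (v : G) ∧ toAdd (eA a) = f * toAdd (eV v))
    (hPAall : ∀ f : F, ∃ y ∈ PA, ∀ v : ↥V, ∃ a : ↥A,
      y * (v : G) * y⁻¹ = (a : G) * (v : G) ∧ toAdd (eA a) = f * toAdd (eV v)) :
    ∀ hN : ((Subgroup.centralizer ((V ⊔ A : Subgroup G) : Set G)).subgroupOf (P ⊔ PA)).Normal,
      Nonempty (↥(P ⊔ PA) ⧸ (Subgroup.centralizer ((V ⊔ A : Subgroup G) : Set G)).subgroupOf (P ⊔ PA) ≃*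
        Matrix.SpecialLinearGroup (Fin 2) F) := by
  classical
  -- shears act by `uu f`, `ll f`
  have hactP : ∀ x ∈ P, ∀ f : F, (∀ a : ↥A, ∃ v : ↥V,
      x * (a : G) * x⁻¹ = (v : G) * (a : G) ∧ toAdd (eV v) = f * toAdd (eA a)) →
      ti_sl2rec_Acts V A F eV eA x ((uu f : SL2 F) : Matrix (Fin 2) (Fin 2) F) := by
    intro x hx f hf
    constructor
    · intro v
      refine ⟨v, 1, ?_, by simp, by simp⟩
      rw [hPV x hx v v.2]; simp
    · intro a
      obtain ⟨v', h1, h2⟩ := hf a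
      exact ⟨v', a, h1, by simpa using h2, by simp⟩
  have hactPA : ∀ y ∈ PA, ∀ f : F, (∀ v : ↥V, ∃ a : ↥A,
      y * (v : G) * y⁻¹ = (a : G) * (v : G) ∧ toAdd (eA a) = f * toAdd (eV v)) →
      ti_sl2rec_Acts V A F eV eA y ((ll f : SL2 F) : Matrix (Fin 2) (Fin 2) F) := by
    intro y hy f hf
    constructor
    · intro v
      obtain ⟨a', h1, h2⟩ := hf v
      refine ⟨v, a', ?_, by simp, by simpa using h2⟩
      rw [h1]; exact (hVA v v.2 a' a'.2).symm
    · intro a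
      refine ⟨1, a, ?_, by simp, by simp⟩
      rw [hPAA y hy a a.2]; simp
  -- the subgroup of elements acting through `SL₂`
  let S : Subgroup G :=
    { carrier := {h | (∃ M : SL2 F, ti_sl2rec_Acts V A F eV eA h (M : Matrix (Fin 2) (Fin 2) F)) ∧
        ∃ M' : SL2 F, ti_sl2rec_Acts V A F eV eA h⁻¹ (M' : Matrix (Fin 2) (Fin 2) F)}
      mul_mem' := by
        rintro h h' ⟨⟨M1, h1⟩, ⟨M1', h1'⟩⟩ ⟨⟨M2, h2⟩, ⟨M2', h2'⟩⟩
        refine ⟨⟨M1 * M2, ?_⟩, ⟨M2' * M1', ?_⟩⟩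
        · rw [Matrix.SpecialLinearGroup.coe_mul]
          exact ti_sl2rec_acts_mul hVA h1 h2
        · rw [Matrix.SpecialLinearGroup.coe_mul, mul_inv_rev]
          exact ti_sl2rec_acts_mul hVA h2' h1'
      one_mem' := by
        refine ⟨⟨1, ?_⟩, ⟨1, ?_⟩⟩
        · rw [Matrix.SpecialLinearGroup.coe_one]; exact ti_sl2rec_acts_one
        · rw [Matrix.SpecialLinearGroup.coe_one, inv_one]; exact ti_sl2rec_acts_one
      inv_mem' := by
        rintro h ⟨h1, h2⟩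
        refine ⟨h2, ?_⟩
        rw [inv_inv]; exact h1 }
  have hPS : P ≤ S := by
    intro x hx
    obtain ⟨f, hf⟩ := hP x hx
    obtain ⟨f', hf'⟩ := hP x⁻¹ (P.inv_mem hx)
    exact ⟨⟨uu f, hactP x hx f hf⟩, ⟨uu f', hactP x⁻¹ (P.inv_mem hx) f' hf'⟩⟩
  have hPAS : PA ≤ S := by
    intro y hy
    obtain ⟨f, hf⟩ := hPA y hy
    obtain ⟨f', hf'⟩ := hPA y⁻¹ (PA.inv_mem hy)
    exact ⟨⟨ll f, hactPA y hy f hf⟩, ⟨ll f', hactPA y⁻¹ (PA.inv_mem hy) f' hf'⟩⟩
  have hHS : P ⊔ PA ≤ S := sup_le hPS hPAS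
  have good : ∀ h : ↥(P ⊔ PA), ∃ M : SL2 F,
      ti_sl2rec_Acts V A F eV eA (h : G) (M : Matrix (Fin 2) (Fin 2) F) := fun h => (hHS h.2).1
  choose ρ₀ hρ₀ using good
  have huniq : ∀ (h : ↥(P ⊔ PA)) (M : SL2 F),
      ti_sl2rec_Acts V A F eV eA (h : G) (M : Matrix (Fin 2) (Fin 2) F) → ρ₀ h = M := by
    intro h M hM
    apply Subtype.ext
    exact ti_sl2rec_acts_unique hdisj (hρ₀ h) hM
  let ρ : ↥(P ⊔ PA) →* SL2 F := MonoidHom.mk' ρ₀ (by
    intro h h'
    apply huniq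
    rw [Matrix.SpecialLinearGroup.coe_mul, Subgroup.coe_mul]
    exact ti_sl2rec_acts_mul hVA (hρ₀ h) (hρ₀ h'))
  have hρ : ∀ h, ρ h = ρ₀ h := fun h => rfl
  -- surjectivity
  have hsurj : Function.Surjective ρ := by
    rw [← MonoidHom.range_eq_top]
    apply eq_top_of_uu_ll
    · intro f
      obtain ⟨x, hx, hf⟩ := hPall f
      refine ⟨⟨x, Subgroup.mem_sup_left hx⟩, ?_⟩
      rw [hρ]
      exact huniq _ _ (hactP x hx f hf)
    · intro f
      obtain ⟨y, hy, hf⟩ := hPAall f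
      refine ⟨⟨y, Subgroup.mem_sup_right hy⟩, ?_⟩
      rw [hρ]
      exact huniq _ _ (hactPA y hy f hf)
  -- the kernel
  have hcent : ∀ g : G, g ∈ Subgroup.centralizer ((V ⊔ A : Subgroup G) : Set G) ↔
      (∀ v ∈ V, v * g = g * v) ∧ (∀ a ∈ A, a * g = g * a) := by
    intro g
    rw [Subgroup.mem_centralizer_iff]
    constructor
    · intro h
      exact ⟨fun v hv => h v (Subgroup.mem_sup_left hv), fun a ha => h a (Subgroup.mem_sup_right ha)⟩
    · rintro ⟨h1, h2⟩ w hw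
      have hle : V ⊔ A ≤ Subgroup.centralizer ({g} : Set G) := by
        apply sup_le
        · intro v hv
          rw [Subgroup.mem_centralizer_iff]
          intro g' hg'
          rw [Set.mem_singleton_iff] at hg'
          rw [hg']; exact (h1 v hv).symm
        · intro a ha
          rw [Subgroup.mem_centralizer_iff]
          intro g' hg'
          rw [Set.mem_singleton_iff] at hg'
          rw [hg']; exact (h2 a ha).symm
      have := hle hw
      rw [Subgroup.mem_centralizer_iff] at this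
      exact (this g rfl).symm
  have hker : ρ.ker = (Subgroup.centralizer ((V ⊔ A : Subgroup G) : Set G)).subgroupOf (P ⊔ PA) := by
    ext h
    rw [MonoidHom.mem_ker, Subgroup.mem_subgroupOf, hcent, hρ]
    constructor
    · intro h1
      have hact := hρ₀ h
      rw [h1, Matrix.SpecialLinearGroup.coe_one] at hact
      constructor
      · intro v hv
        obtain ⟨v', a', e1, e2, e3⟩ := hact.1 ⟨v, hv⟩
        rw [Matrix.one_apply_eq, one_mul] at e2
        rw [Matrix.one_apply_ne (by decide), zero_mul] at e3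
        have hv' : v' = ⟨v, hv⟩ := eV.injective (toAdd.injective e2)
        have ha' : a' = 1 := by
          apply eA.injective
          apply toAdd.injective
          rw [e3, map_one]; rfl
        rw [hv', ha'] at e1
        simp only [Subgroup.coe_one, mul_one] at e1
        exact (mul_inv_eq_iff_eq_mul.1 e1).symm
      · intro a ha
        obtain ⟨v', a', e1, e2, e3⟩ := hact.2 ⟨a, ha⟩
        rw [Matrix.one_apply_ne (by decide), zero_mul] at e2
        rw [Matrix.one_apply_eq, one_mul] at e3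
        have ha' : a' = ⟨a, ha⟩ := eA.injective (toAdd.injective e3)
        have hv' : v' = 1 := by
          apply eV.injective
          apply toAdd.injective
          rw [e2, map_one]; rfl
        rw [hv', ha'] at e1
        simp only [Subgroup.coe_one, one_mul] at e1
        exact (mul_inv_eq_iff_eq_mul.1 e1).symm
    · rintro ⟨h1, h2⟩
      apply huniq
      rw [Matrix.SpecialLinearGroup.coe_one]
      constructor
      · intro v
        refine ⟨v, 1, ?_, by simp, by simp⟩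
        rw [← h1 v v.2]; simp
      · intro a
        refine ⟨1, a, ?_, by simp, by simp⟩
        rw [← h2 a a.2]; simp
  intro hN
  exact ⟨(QuotientGroup.quotientMulEquivOfEq hker.symm).trans
    (QuotientGroup.quotientKerEquivOfSurjective ρ hsurj)⟩

end Cfsg.Agent.Helper26.TI
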