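import Mathlib
import Cfsg.Prelude.Def_FischerSpaces
import Cfsg.Agent.Lib.Helper25.ThreeTransp1

/-!
# S5354 (helper25): `⟨C_D(d)⟩` is a maximal `D`-subgroup in the primitive case
-/

set_option autoImplicit false

namespace Cfsg.Agent.Helper25.TT

open Cfsg

variable {G : Type*} [Group G] {D : Set G}

/-- for non-commuting involutions with the braid relation, `g = (a g) a (a g)⁻¹`. -/
theorem eq_conj_of_braid {a g : G} (ha : a * a = 1) (hg : g * g = 1) (hbr : a * g * a = g * a * g) :
    g = (a * g) * a * (a * g)⁻¹ := by
  have hai : a⁻¹ = a := inv_eq_of_mul_eq_one_left ha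
  have hgi : g⁻¹ = g := inv_eq_of_mul_eq_one_left hg
  rw [mul_inv_rev, hai, hgi]
  calc g = a * (a * g * a) * a := by
        rw [show a * (a * g * a) * a = (a * a) * g * (a * a) by group, ha]; simp
    _ = a * (g * a * g) * a := by rw [hbr]
    _ = a * g * a * (g * a) := by group

/-- conjugating by a non-commuting 3-transposition gives a non-commuting element. -/
theorem not_commute_conj_self (hS : IsThreeTranspositionSet D) {t b : G} (ht : t ∈ D)
    (hb : b ∈ D) (h : ¬ Commute t b) : ¬ Commute (t * b * t⁻¹) b := by
  intro hc
  apply h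
  have hti := inv_eq hS ht
  have htt := mul_self hS ht
  have hbb := mul_self hS hb
  have hbr : t * b * t = b * t * b := braid hS ht hb h
  rw [hti, hbr] at hc
  -- `b t b` commutes with `b`, so `t` commutes with `b`
  have h1 : b * t * b * b = b * (b * t * b) := hc.eq
  have h2 : b * t = t * b := by
    calc b * t = b * t * b * b := by rw [mul_assoc (b * t), hbb, mul_one]
      _ = b * (b * t * b) := h1
      _ = (b * b) * t * b := by group
      _ = t * b := by rw [hbb, one_mul]
  exact h2.symm

end Cfsg.Agent.Helper25.TT
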