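import Mathlib
import Cfsg.Agent.Lib.Helper25.TT54a

/-!
# S5354 (helper25): a `D`-subgroup properly containing `⟨C_D(d)⟩` is everything
-/

set_option autoImplicit false

namespace Cfsg.Agent.Helper25.TT

open Cfsg

variable {G : Type*} [Group G] {D : Set G}

theorem commute_conj_conj' {c x y : G} (h : Commute x y) :
    Commute (c * x * c⁻¹) (c * y * c⁻¹) := by
  show c * x * c⁻¹ * (c * y * c⁻¹) = c * y * c⁻¹ * (c * x * c⁻¹)
  calc c * x * c⁻¹ * (c * y * c⁻¹) = c * (x * y) * c⁻¹ := by group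
    _ = c * (y * x) * c⁻¹ := by rw [h.eq]
    _ = _ := by group

/-- the stabilizer of a set under conjugation, as a subgroup. -/
def conjStab (Γ : Set G) : Subgroup G where
  carrier := {g | ∀ y, y ∈ Γ ↔ g * y * g⁻¹ ∈ Γ}
  one_mem' := by intro y; simp
  mul_mem' := by
    intro g g' hg hg' y
    rw [hg' y, hg (g' * y * g'⁻¹)]
    have : g * (g' * y * g'⁻¹) * g⁻¹ = g * g' * y * (g * g')⁻¹ := by group
    rw [this]
  inv_mem' := by
    intro g hg y
    rw [hg (g⁻¹ * y * g⁻¹⁻¹)]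
    have : g * (g⁻¹ * y * g⁻¹⁻¹) * g⁻¹ = y := by group
    rw [this]

theorem mem_conjStab_of_forall {Γ : Set G} {g : G} (h1 : ∀ y ∈ Γ, g * y * g⁻¹ ∈ Γ)
    (h2 : ∀ y ∈ Γ, g⁻¹ * y * g ∈ Γ) : g ∈ conjStab Γ := by
  intro y
  constructor
  · exact h1 y
  · intro h
    have := h2 _ h
    rwa [show g⁻¹ * (g * y * g⁻¹) * g = y by group] at this

/-- **Key lemma.** In the primitive case with connected commuting graph, a `D`-subgroup
containing `C_D(d)` and a member of `D` not commuting with `d` is everything. -/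
theorem eq_top_of_mem_not_commute [Finite G] (hS : IsThreeTranspositionSet D)
    (hconj : ∀ g : G, ∀ x ∈ D, g * x * g⁻¹ ∈ D) (hgen : Subgroup.closure D = ⊤)
    (hprim : Cfsg.IsPrimitiveUnderConj D) (hconn : (Cfsg.commutingGraph D).Connected)
    {d : G} (hd : d ∈ D) (H : Subgroup G) (hHD : Cfsg.IsDSubgroup D H)
    (hM : Subgroup.closure {y : G | y ∈ D ∧ Commute d y} ≤ H)
    {e : G} (he : e ∈ D) (heH : e ∈ H) (hde : ¬ Commute d e) : H = ⊤ := by
  obtain ⟨hall, hD2, hblk⟩ := hprim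
  have hdH : d ∈ H := hM (Subgroup.subset_closure ⟨hd, Commute.refl d⟩)
  have hCd : ∀ y ∈ D, Commute d y → y ∈ H :=
    fun y hy hc => hM (Subgroup.subset_closure ⟨hy, hc⟩)
  set Δ : Set G := {b | ∃ h ∈ H, b = h * d * h⁻¹} with hΔ
  have hΔD : Δ ⊆ D := by
    rintro _ ⟨h, hh, rfl⟩; exact hconj h d hd
  have hΔH : ∀ b ∈ Δ, b ∈ H := by
    rintro _ ⟨h, hh, rfl⟩
    exact H.mul_mem (H.mul_mem hh hdH) (H.inv_mem hh)
  have hdΔ : d ∈ Δ := ⟨1, H.one_mem, by simp⟩
  have hΔconj : ∀ h ∈ H, ∀ b ∈ Δ, h * b * h⁻¹ ∈ Δ := by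
    rintro h hh _ ⟨k, hk, rfl⟩
    exact ⟨h * k, H.mul_mem hh hk, by group⟩
  have hF1 : ∀ a ∈ Δ, ∀ g ∈ D, g ∈ H → ¬ Commute a g → g ∈ Δ := by
    intro a ha g hg hgH hnc
    have haD := hΔD ha
    have hbr := braid hS haD hg hnc
    have heq := eq_conj_of_braid (mul_self hS haD) (mul_self hS hg) hbr
    rw [heq]
    exact hΔconj (a * g) (H.mul_mem (hΔH a ha) hgH) a ha
  have heΔ : e ∈ Δ := hF1 d hdΔ e he heH hde
  have hF2 : ∀ b ∈ Δ, ∀ y ∈ D, Commute b y → y ∈ H := by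
    rintro _ ⟨h, hh, rfl⟩ y hy hc
    have h1 : Commute d (h⁻¹ * y * h) := (commute_conj_iff h d y).mp hc
    have h2 : h⁻¹ * y * h ∈ D := by
      have := hconj h⁻¹ y hy
      rwa [inv_inv] at this
    have h3 := hCd _ h2 h1
    have : y = h * (h⁻¹ * y * h) * h⁻¹ := by group
    rw [this]
    exact H.mul_mem (H.mul_mem hh h3) (H.inv_mem hh)
  have hpartner : ∀ b ∈ Δ, ∃ b' ∈ Δ, ¬ Commute b b' := by
    rintro _ ⟨h, hh, rfl⟩
    refine ⟨h * e * h⁻¹, hΔconj h hh e heΔ, ?_⟩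
    intro hc
    apply hde
    have := (commute_conj_iff h d (h * e * h⁻¹)).mp hc
    rwa [show h⁻¹ * (h * e * h⁻¹) * h = e by group] at this
  set Γ : Set G := {y | y ∈ D ∧ y ∈ H ∧ y ∉ Δ} with hΓ
  have hΓcomm : ∀ a ∈ Δ, ∀ g ∈ Γ, Commute a g := by
    intro a ha g hg
    by_contra hnc
    exact hg.2.2 (hF1 a ha g hg.1 hg.2.1 hnc)
  -- `Γ` is invariant under `H`
  have hΓH : ∀ h ∈ H, ∀ y ∈ Γ, h * y * h⁻¹ ∈ Γ := by
    intro h hh y hy
    refine ⟨hconj h y hy.1, H.mul_mem (H.mul_mem hh hy.2.1) (H.inv_mem hh), ?_⟩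
    intro hmem
    apply hy.2.2
    have := hΔconj h⁻¹ (H.inv_mem hh) _ hmem
    rwa [show h⁻¹ * (h * y * h⁻¹) * h⁻¹⁻¹ = y by group] at this
  -- `Γ` is invariant under the centralizer of `d`
  have hΓc : ∀ c : G, Commute c d → ∀ γ ∈ Γ, c * γ * c⁻¹ ∈ Γ := by
    intro c hc γ hγ
    have hcd : c * d * c⁻¹ = d := by rw [hc.eq, mul_inv_cancel_right]
    have hγ'D : c * γ * c⁻¹ ∈ D := hconj c γ hγ.1
    have hγd : Commute d γ := hΓcomm d hdΔ γ hγ
    have hγ'd : Commute d (c * γ * c⁻¹) := by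
      have := commute_conj_conj' (c := c) hγd
      rwa [hcd] at this
    have hγ'H : c * γ * c⁻¹ ∈ H := hCd _ hγ'D hγ'd
    by_contra hnot
    have hγ'Δ : c * γ * c⁻¹ ∈ Δ := by
      by_contra h
      exact hnot ⟨hγ'D, hγ'H, h⟩
    have h1 : ∀ b ∈ Δ, Commute (c * γ * c⁻¹) (c * b * c⁻¹) := fun b hb =>
      commute_conj_conj' (hΓcomm b hb γ hγ).symm
    have h2 : ∀ b ∈ Δ, c * b * c⁻¹ ∈ H := fun b hb =>
      hF2 _ hγ'Δ _ (hconj c b (hΔD hb)) (h1 b hb)
    have hcΔ : ∀ h ∈ H, c * (h * d * h⁻¹) * c⁻¹ ∈ Δ := by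
      intro h hh
      rw [← hHD] at hh
      induction hh using Subgroup.closure_induction_left with
      | one => simp only [one_mul, inv_one, mul_one]; rw [hcd]; exact hdΔ
      | mul_left t ht y hy ih =>
        have hyH : y ∈ H := by rw [← hHD]; exact hy
        have hb₀ : y * d * y⁻¹ ∈ Δ := ⟨y, hyH, rfl⟩
        have htb₀ : t * (y * d * y⁻¹) * t⁻¹ ∈ Δ := hΔconj t ht.2 _ hb₀
        have e1 : c * (t * y * d * (t * y)⁻¹) * c⁻¹ = c * (t * (y * d * y⁻¹) * t⁻¹) * c⁻¹ := by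
          group
        have e2 : c * (t * (y * d * y⁻¹) * t⁻¹) * c⁻¹ =
            (c * t * c⁻¹) * (c * (y * d * y⁻¹) * c⁻¹) * (c * t * c⁻¹)⁻¹ := by group
        rw [e1]
        have htargH : c * (t * (y * d * y⁻¹) * t⁻¹) * c⁻¹ ∈ H := h2 _ htb₀
        have htargD : c * (t * (y * d * y⁻¹) * t⁻¹) * c⁻¹ ∈ D := hconj c _ (hΔD htb₀)
        have ht'D : c * t * c⁻¹ ∈ D := hconj c t ht.1
        by_cases hcomm : Commute (c * t * c⁻¹) (c * (y * d * y⁻¹) * c⁻¹)
        · rw [e2, hcomm.eq, mul_inv_cancel_right]; exact ih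
        · have hnc := not_commute_conj_self hS ht'D (hΔD ih) hcomm
          rw [← e2] at hnc
          exact hF1 _ ih _ htargD htargH (fun h => hnc h.symm)
      | inv_mul_cancel t ht y hy ih =>
        have hti : t⁻¹ = t := inv_eq hS ht.1
        have hyH : y ∈ H := by rw [← hHD]; exact hy
        have hb₀ : y * d * y⁻¹ ∈ Δ := ⟨y, hyH, rfl⟩
        have htb₀ : t * (y * d * y⁻¹) * t⁻¹ ∈ Δ := hΔconj t ht.2 _ hb₀
        have e1 : c * (t⁻¹ * y * d * (t⁻¹ * y)⁻¹) * c⁻¹ =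
            c * (t * (y * d * y⁻¹) * t⁻¹) * c⁻¹ := by
          have e0 : c * (t⁻¹ * y * d * (t⁻¹ * y)⁻¹) * c⁻¹ =
              c * (t⁻¹ * (y * d * y⁻¹) * (t⁻¹)⁻¹) * c⁻¹ := by group
          rw [e0, hti, hti]
        have e2 : c * (t * (y * d * y⁻¹) * t⁻¹) * c⁻¹ =
            (c * t * c⁻¹) * (c * (y * d * y⁻¹) * c⁻¹) * (c * t * c⁻¹)⁻¹ := by group
        rw [e1]
        have htargH : c * (t * (y * d * y⁻¹) * t⁻¹) * c⁻¹ ∈ H := h2 _ htb₀
        have htargD : c * (t * (y * d * y⁻¹) * t⁻¹) * c⁻¹ ∈ D := hconj c _ (hΔD htb₀)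
        have ht'D : c * t * c⁻¹ ∈ D := hconj c t ht.1
        by_cases hcomm : Commute (c * t * c⁻¹) (c * (y * d * y⁻¹) * c⁻¹)
        · rw [e2, hcomm.eq, mul_inv_cancel_right]; exact ih
        · have hnc := not_commute_conj_self hS ht'D (hΔD ih) hcomm
          rw [← e2] at hnc
          exact hF1 _ ih _ htargD htargH (fun h => hnc h.symm)
    -- the conjugation map sends `Δ` into `Δ`, hence onto `Δ`
    have himg : (fun b => c * b * c⁻¹) '' Δ = Δ := by
      have hfin : Δ.Finite := Set.toFinite Δ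
      apply Set.eq_of_subset_of_ncard_le _ _ hfin
      · rintro _ ⟨b, ⟨h, hh, rfl⟩, rfl⟩
        exact hcΔ h hh
      · rw [Set.ncard_image_of_injective]
        intro x y hxy
        simpa using hxy
    obtain ⟨b', hb', hnc⟩ := hpartner _ hγ'Δ
    rw [← himg] at hb'
    obtain ⟨b, hb, rfl⟩ := hb'
    exact hnc (h1 b hb)
  -- the stabilizer of `Γ` is everything
  set X := conjStab Γ with hX
  have hHX : H ≤ X := fun h hh =>
    mem_conjStab_of_forall (hΓH h hh) (fun y hy => by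
      have := hΓH h⁻¹ (H.inv_mem hh) y hy
      rwa [inv_inv] at this)
  have hcX : ∀ c : G, Commute c d → c ∈ X := fun c hc =>
    mem_conjStab_of_forall (hΓc c hc) (fun y hy => by
      have := hΓc c⁻¹ hc.inv_left y hy
      rwa [inv_inv] at this)
  have hXtop : X = ⊤ := by
    set B : Set G := {b | ∃ x ∈ X, b = x * d * x⁻¹} with hB
    have hBD : B ⊆ D := by rintro _ ⟨x, -, rfl⟩; exact hconj x d hd
    have hBblk : ∀ g : G, (fun x => g * x * g⁻¹) '' B = B ∨
        Disjoint ((fun x => g * x * g⁻¹) '' B) B := by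
      intro g
      by_cases hg : g ∈ X
      · left
        ext z
        constructor
        · rintro ⟨_, ⟨x, hx, rfl⟩, rfl⟩
          exact ⟨g * x, X.mul_mem hg hx, by group⟩
        · rintro ⟨x, hx, rfl⟩
          exact ⟨g⁻¹ * x * d * (g⁻¹ * x)⁻¹, ⟨g⁻¹ * x, X.mul_mem (X.inv_mem hg) hx, rfl⟩, by group⟩
      · right
        rw [Set.disjoint_left]
        rintro _ ⟨_, ⟨x, hx, rfl⟩, rfl⟩ ⟨x', hx', heq⟩
        apply hg
        have heq : g * (x * d * x⁻¹) * g⁻¹ = x' * d * x'⁻¹ := heq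
        have hc : Commute (x'⁻¹ * g * x) d := by
          show x'⁻¹ * g * x * d = d * (x'⁻¹ * g * x)
          have h1 : x'⁻¹ * (g * (x * d * x⁻¹) * g⁻¹) * x' = d := by rw [heq]; group
          calc x'⁻¹ * g * x * d = (x'⁻¹ * (g * (x * d * x⁻¹) * g⁻¹) * x') * (x'⁻¹ * g * x) := by
                group
            _ = d * (x'⁻¹ * g * x) := by rw [h1]
        have h3 := hcX _ hc
        have : g = x' * (x'⁻¹ * g * x) * x⁻¹ := by group
        rw [this]
        exact X.mul_mem (X.mul_mem hx' h3) (X.inv_mem hx)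
    rcases hblk B hBD hBblk with hsub | hBeq
    · exfalso
      have h1 : d ∈ B := ⟨1, X.one_mem, by simp⟩
      have h2 : e * d * e⁻¹ ∈ B := ⟨e, hHX heH, rfl⟩
      have h3 := hsub h1 h2
      apply hde
      show d * e = e * d
      calc d * e = (e * d * e⁻¹) * e := by rw [← h3]
        _ = e * d := by group
    · rw [eq_top_iff]
      intro g _
      have hgd : g * d * g⁻¹ ∈ B := by rw [hBeq]; exact hconj g d hd
      obtain ⟨x, hx, hxe⟩ := hgd
      have hc : Commute (x⁻¹ * g) d := by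
        show x⁻¹ * g * d = d * (x⁻¹ * g)
        have h1 : x⁻¹ * (g * d * g⁻¹) * x = d := by rw [hxe]; group
        calc x⁻¹ * g * d = (x⁻¹ * (g * d * g⁻¹) * x) * (x⁻¹ * g) := by group
          _ = d * (x⁻¹ * g) := by rw [h1]
      have h3 := hcX _ hc
      have : g = x * (x⁻¹ * g) := by group
      rw [this]
      exact X.mul_mem hx h3
  -- hence `Γ` is empty
  have hΓempty : ∀ y, y ∉ Γ := by
    intro y hy
    obtain ⟨g, hg⟩ := hall y hy.1 d hd
    have hgX : g ∈ X := by rw [hXtop]; exact Subgroup.mem_top g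
    have := (hgX y).mp hy
    rw [hg] at this
    exact this.2.2 hdΔ
  -- so `Δ` is closed under commuting
  have hclosed : ∀ b ∈ Δ, ∀ y ∈ D, Commute b y → y ∈ Δ := by
    intro b hb y hy hc
    by_contra hn
    exact hΓempty y ⟨hy, hF2 b hb y hy hc, hn⟩
  have key : ∀ (u v : D), (Cfsg.commutingGraph D).Walk u v → (u : G) ∈ Δ → (v : G) ∈ Δ := by
    intro u v w
    induction w with
    | nil => exact id
    | @cons u v w hadj _ ih =>
      intro hu
      have hadj' := hadj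
      unfold Cfsg.commutingGraph at hadj'
      rw [SimpleGraph.fromRel_adj] at hadj'
      have hc : Commute (u : G) (v : G) := by
        rcases hadj'.2 with h | h
        · exact h
        · exact h.symm
      exact ih (hclosed _ hu _ v.2 hc)
  rw [eq_top_iff, ← hgen, Subgroup.closure_le]
  intro x hx
  obtain ⟨w⟩ := hconn.preconnected ⟨d, hd⟩ ⟨x, hx⟩
  exact hΔH _ (key _ _ w hdΔ)

end Cfsg.Agent.Helper25.TT
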