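import Mathlib
import Cfsg.Prelude.Def_FischerSpaces
import Cfsg.Prelude.Def_Solvable
import Cfsg.Agent.Lib.Helper25.InvOdd4
import Cfsg.Agent.Lib.Helper25.ThreeTransp1

/-!
# 3-transposition groups of width one (helper25), modulo the `Z*`-theorem

`ZStarAt G` is the statement of Glauberman's `Z*`-theorem for the group `G`.
-/

set_option autoImplicit false

namespace Cfsg.Agent.Helper25.TT

open Cfsg

/-- The statement of Glauberman's `Z*`-theorem for the group `G`. -/
def ZStarAt (G : Type*) [Group G] : Prop :=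
  ∀ (P : Sylow 2 G) (u : G), orderOf u = 2 → u ∈ P →
    (∀ g : G, g * u * g⁻¹ ∈ P → g * u * g⁻¹ = u) →
    ∃ N : Subgroup G, N.Normal ∧ Odd (Nat.card N) ∧ ∀ g : G, u * g * u⁻¹ * g⁻¹ ∈ N

variable {G : Type*} [Group G] {D : Set G}

theorem prod_mem_pCore_of_ZStarAt [Finite G] (hZ : ZStarAt G) (d : G) (hd : orderOf d = 2)
    (hprod : ∀ a ∈ conjugatesOf d, ∀ b ∈ conjugatesOf d, ∃ k : ℕ, orderOf (a * b) = 3 ^ k) :
    ∀ a ∈ conjugatesOf d, ∀ b ∈ conjugatesOf d, a * b ∈ Cfsg.pCore 3 G := by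
  haveI : Fact (Nat.Prime 2) := ⟨Nat.prime_two⟩
  have hprod' : ∀ g : G, ∃ k : ℕ, orderOf (d * (g * d * g⁻¹)) = 3 ^ k := by
    intro g
    apply hprod d (mem_conjugatesOf_self) (g * d * g⁻¹)
    exact isConj_iff.mpr ⟨g, rfl⟩
  have hp : IsPGroup 2 (Subgroup.zpowers d) := by
    apply IsPGroup.of_card (n := 1)
    rw [Nat.card_zpowers, hd, pow_one]
  obtain ⟨P, hP⟩ := hp.exists_le_sylow
  have hdP : d ∈ P := hP (Subgroup.mem_zpowers d)
  exact InvOdd.prod_mem_pCore_of_zstar d hd hprod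
    (hZ P d hd hdP (InvOdd.isolated_of_prod d hd hprod' P hdP))

/-- the order of a product of two members of a set of 3-transpositions without commuting pairs
is a power of `3`. -/
theorem orderOf_mul_of_noncommuting (hD : IsThreeTranspositionSet D)
    (hnc : ∀ a ∈ D, ∀ b ∈ D, Commute a b → a = b) {a b : G} (ha : a ∈ D) (hb : b ∈ D) :
    ∃ k : ℕ, orderOf (a * b) = 3 ^ k := by
  by_cases hab : a = b
  · subst hab
    exact ⟨0, by rw [mul_self hD ha, orderOf_one, pow_zero]⟩
  · have hnot : ¬ Commute a b := fun h => hab (hnc a ha b hb h)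
    have h3 := cube_of_not_commute hD ha hb hnot
    have hdvd : orderOf (a * b) ∣ 3 := orderOf_dvd_of_pow_eq_one h3
    rcases (Nat.dvd_prime Nat.prime_three).mp hdvd with h | h
    · exact ⟨0, by rw [h, pow_zero]⟩
    · exact ⟨1, by rw [h, pow_one]⟩

/-- in a set of 3-transpositions without commuting pairs, closed under conjugation, any two
members are conjugate. -/
theorem conj_of_noncommuting (hD : IsThreeTranspositionSet D) {a b : G} (ha : a ∈ D) (hb : b ∈ D)
    (hnot : ¬ Commute a b) : (a * b) * a * (a * b)⁻¹ = b := by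
  have hbr := braid hD ha hb hnot
  have : (a * b) * a * (a * b)⁻¹ = (a * b * a) * b⁻¹ * a⁻¹ := by group
  rw [this, hbr]; group

theorem mem_conjugatesOf_of_noncommuting (hD : IsThreeTranspositionSet D)
    (hnc : ∀ a ∈ D, ∀ b ∈ D, Commute a b → a = b) {a b : G} (ha : a ∈ D) (hb : b ∈ D) :
    b ∈ conjugatesOf a := by
  by_cases hab : a = b
  · subst hab; exact mem_conjugatesOf_self
  · have hnot : ¬ Commute a b := fun h => hab (hnc a ha b hb h)
    exact isConj_iff.mpr ⟨a * b, conj_of_noncommuting hD ha hb hnot⟩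

/-- **Width one, hard direction** (modulo `Z*`): all products of two members lie in `O₃(G)`. -/
theorem mul_mem_pCore_three [Finite G] (hZ : ZStarAt G) (hD : IsThreeTranspositionSet D)
    (hconj : ∀ g : G, ∀ x ∈ D, g * x * g⁻¹ ∈ D)
    (hnc : ∀ a ∈ D, ∀ b ∈ D, Commute a b → a = b) {a b : G} (ha : a ∈ D) (hb : b ∈ D) :
    a * b ∈ Cfsg.pCore 3 G := by
  have hsub : ∀ x ∈ conjugatesOf a, x ∈ D := by
    intro x hx
    obtain ⟨g, rfl⟩ := isConj_iff.mp hx
    exact hconj g a ha
  apply prod_mem_pCore_of_ZStarAt hZ a (hD.1 a ha) _ a mem_conjugatesOf_self b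
    (mem_conjugatesOf_of_noncommuting hD hnc ha hb)
  intro x hx y hy
  exact orderOf_mul_of_noncommuting hD hnc (hsub x hx) (hsub y hy)

end Cfsg.Agent.Helper25.TT
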