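import Mathlib
import Cfsg.Agent.Lib.Helper25.WidthOne1

/-!
# Width one iff `G = ⟨d⟩ O₃(G)` (helper25), modulo the `Z*`-theorem
-/

set_option autoImplicit false

namespace Cfsg.Agent.Helper25.TT

open Cfsg

variable {G : Type*} [Group G] {D : Set G}

theorem eq_one_of_sq_of_mem_three {O : Subgroup G} (hO : IsPGroup 3 O) {x : G} (hx : x ∈ O)
    (h2 : x ^ 2 = 1) : x = 1 := by
  obtain ⟨k, hk⟩ := hO ⟨x, hx⟩
  have hk' : x ^ 3 ^ k = 1 := by
    have := congrArg Subtype.val hk
    simpa using this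
  have h1 : orderOf x ∣ 2 := orderOf_dvd_of_pow_eq_one h2
  have h3 : orderOf x ∣ 3 ^ k := orderOf_dvd_of_pow_eq_one hk'
  have hc : Nat.Coprime 2 (3 ^ k) := Nat.Coprime.pow_right k (by norm_num)
  have := Nat.eq_one_of_dvd_coprimes hc h1 h3
  exact orderOf_eq_one_iff.mp this

theorem mem_zpowers_invol {d : G} (hd : d * d = 1) {h : G} (hh : h ∈ Subgroup.zpowers d) :
    h = 1 ∨ h = d := by
  obtain ⟨k, rfl⟩ := Subgroup.mem_zpowers_iff.mp hh
  have h2 : d ^ (2 : ℤ) = 1 := by rw [zpow_two]; exact hd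
  rcases Int.even_or_odd' k with ⟨m, rfl | rfl⟩
  · left; rw [zpow_mul, h2, one_zpow]
  · right; rw [zpow_add, zpow_mul, h2, one_zpow, one_mul, zpow_one]

/-- no commuting pairs when `G = ⟨d⟩ O₃(G)`. -/
theorem noncommuting_of_top [Finite G] (hD : IsThreeTranspositionSet D) {d : G} (hd : d ∈ D)
    (htop : Subgroup.zpowers d ⊔ Cfsg.pCore 3 G = ⊤) :
    ∀ a ∈ D, ∀ b ∈ D, Commute a b → a = b := by
  haveI : Fact (Nat.Prime 3) := ⟨Nat.prime_three⟩
  have hO : IsPGroup 3 (Cfsg.pCore 3 G) := Cfsg.Agent.Helper25.isPGroup_pCore' 3 G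
  haveI hOn : (Cfsg.pCore 3 G).Normal := Cfsg.pCore_normal 3 G
  have hdd := mul_self hD hd
  have hdi := inv_eq hD hd
  have key : ∀ x ∈ D, ∃ n ∈ Cfsg.pCore 3 G, x = d * n := by
    intro x hx
    have hxtop : x ∈ ((Subgroup.zpowers d ⊔ Cfsg.pCore 3 G : Subgroup G) : Set G) := by
      rw [htop]; trivial
    rw [Subgroup.mul_normal] at hxtop
    obtain ⟨h, hh, n, hn, rfl⟩ := Set.mem_mul.mp hxtop
    rcases mem_zpowers_invol hdd hh with rfl | rfl
    · exfalso
      rw [one_mul] at hx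
      have : n = 1 := eq_one_of_sq_of_mem_three hO hn (by rw [pow_two]; exact mul_self hD hx)
      exact ne_one hD hx this
    · exact ⟨n, hn, rfl⟩
  intro a ha b hb hab
  obtain ⟨n, hn, rfl⟩ := key a ha
  obtain ⟨m, hm, rfl⟩ := key b hb
  have hmem : d * n * (d * m) ∈ Cfsg.pCore 3 G := by
    have : d * n * (d * m) = (d * n * d⁻¹) * m := by rw [hdi]; group
    rw [this]
    exact Subgroup.mul_mem _ (hOn.conj_mem n hn d) hm
  have h1 : d * n * (d * m) = 1 :=
    eq_one_of_sq_of_mem_three hO hmem (sq_of_commute hD ha hb hab)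
  have : d * n = (d * m)⁻¹ := eq_inv_of_mul_eq_one_left h1
  rw [this, inv_eq hD hb]

theorem commutingWidth_eq_one_iff [Finite G] (hD : IsThreeTranspositionSet D) {d : G} (hd : d ∈ D) :
    Cfsg.commutingWidth D = 1 ↔ ∀ a ∈ D, ∀ b ∈ D, Commute a b → a = b := by
  unfold Cfsg.commutingWidth
  set S : Set ℕ := {n : ℕ | ∃ E : Set G, E ⊆ D ∧ E.Finite ∧ (∀ a ∈ E, ∀ b ∈ E, Commute a b) ∧
    E.ncard = n} with hS
  have hbdd : BddAbove S := by
    refine ⟨Nat.card G, ?_⟩
    rintro n ⟨E, -, -, -, rfl⟩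
    exact Set.ncard_le_card E
  have h1 : 1 ∈ S := by
    refine ⟨{d}, by simpa using hd, Set.finite_singleton d, ?_, Set.ncard_singleton d⟩
    intro a ha b hb
    rw [Set.mem_singleton_iff] at ha hb
    rw [ha, hb]
  constructor
  · intro hw a ha b hb hab
    by_contra hne
    have h2 : 2 ∈ S := by
      refine ⟨{a, b}, ?_, Set.toFinite _, ?_, Set.ncard_pair hne⟩
      · intro x hx
        rcases hx with rfl | rfl
        · exact ha
        · exact hb
      · intro x hx y hy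
        rcases hx with rfl | rfl <;> rcases hy with rfl | rfl
        · exact Commute.refl _
        · exact hab
        · exact hab.symm
        · exact Commute.refl _
    have := le_csSup hbdd h2
    omega
  · intro hnc
    apply le_antisymm
    · apply csSup_le ⟨1, h1⟩
      rintro n ⟨E, hED, hEf, hEc, rfl⟩
      rw [Set.ncard_le_one hEf]
      intro a ha b hb
      exact hnc a (hED ha) b (hED hb) (hEc a ha b hb)
    · exact le_csSup hbdd h1

/-- **S5346 modulo `Z*`.** -/
theorem width_one_iff_of_ZStarAt [Finite G] (hZ : ZStarAt G) (hD : Cfsg.IsThreeTranspositionGroup D)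
    {d : G} (hd : d ∈ D) :
    Cfsg.commutingWidth D = 1 ↔ Subgroup.zpowers d ⊔ Cfsg.pCore 3 G = ⊤ := by
  rw [commutingWidth_eq_one_iff hD.1 hd]
  constructor
  · intro hnc
    rw [eq_top_iff, ← hD.2.2, Subgroup.closure_le]
    intro e he
    have h1 : d * e ∈ Cfsg.pCore 3 G := mul_mem_pCore_three hZ hD.1 hD.2.1 hnc hd he
    have h2 : e = d * (d * e) := by
      rw [← mul_assoc, mul_self hD.1 hd, one_mul]
    rw [h2]
    exact Subgroup.mul_mem _ (Subgroup.mem_sup_left (Subgroup.mem_zpowers d))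
      (Subgroup.mem_sup_right h1)
  · intro htop
    exact noncommuting_of_top hD.1 hd htop

end Cfsg.Agent.Helper25.TT
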