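import Mathlib
import Cfsg.Agent.Lib.Helper25.WidthOne2

/-!
# The relation "same commuting partners other than itself" on 3-transpositions (helper25)

`Dd D x` is the set of members of `D` other than `x` commuting with `x`; `WSim D a b` says
`Dd D a = Dd D b`.  Main result of this file: `WSim.conj_mul`: if `a`, `b` are `WSim`-related
members of `D` then conjugation by `a * b` preserves every `WSim`-class.
-/

set_option autoImplicit false

namespace Cfsg.Agent.Helper25.TT

open Cfsg

variable {G : Type*} [Group G] {D : Set G}

/-- the members of `D` other than `x` commuting with `x`. -/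
def Dd (D : Set G) (x : G) : Set G := {y | y ∈ D ∧ y ≠ x ∧ Commute x y}

/-- same commuting partners (other than themselves). -/
def WSim (D : Set G) (a b : G) : Prop := Dd D a = Dd D b

theorem WSim.refl (a : G) : WSim D a a := rfl
theorem WSim.symm {a b : G} (h : WSim D a b) : WSim D b a := Eq.symm h
theorem WSim.trans {a b c : G} (h1 : WSim D a b) (h2 : WSim D b c) : WSim D a c := Eq.trans h1 h2

theorem commute_conj_invol {b : G} (hb : b * b = 1) (x y : G) :
    Commute (b * x * b) y ↔ Commute x (b * y * b) := by
  have hbi : b⁻¹ = b := inv_eq_of_mul_eq_one_right hb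
  have := commute_conj_iff b x y
  rwa [hbi] at this

theorem conj_conj_invol {b : G} (hb : b * b = 1) (x : G) : b * (b * x * b) * b = x := by
  rw [show b * (b * x * b) * b = (b * b) * x * (b * b) by group, hb]; simp

theorem conj_mem_invol (hD : IsThreeTranspositionSet D)
    (hconj : ∀ g : G, ∀ x ∈ D, g * x * g⁻¹ ∈ D) {b x : G} (hb : b ∈ D) (hx : x ∈ D) :
    b * x * b ∈ D := by
  have := hconj b x hx
  rwa [inv_eq hD hb] at this

theorem conj_injective_invol {b : G} (hb : b * b = 1) {x y : G} (h : b * x * b = b * y * b) :
    x = y := by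
  have := congrArg (fun z => b * z * b) h
  simpa [conj_conj_invol hb] using this

/-- distinct `WSim`-related members do not commute. -/
theorem WSim.not_commute {a b : G} (hb : b ∈ D) (h : WSim D a b) (hne : a ≠ b) :
    ¬ Commute a b := by
  intro hc
  have : b ∈ Dd D a := ⟨hb, hne.symm, hc⟩
  rw [h] at this
  exact this.2.1 rfl

theorem mem_Dd_conj_iff (hconj : ∀ g : G, ∀ x ∈ D, g * x * g⁻¹ ∈ D) (g x y : G) :
    y ∈ Dd D (g * x * g⁻¹) ↔ g⁻¹ * y * g ∈ Dd D x := by
  unfold Dd
  simp only [Set.mem_ofPred_eq]
  constructor
  · rintro ⟨hy, hne, hc⟩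
    refine ⟨by simpa using hconj g⁻¹ y hy, ?_, (commute_conj_iff g x y).mp hc⟩
    intro h
    apply hne
    rw [← h]; group
  · rintro ⟨hy, hne, hc⟩
    refine ⟨?_, ?_, (commute_conj_iff g x y).mpr hc⟩
    · have := hconj g _ hy
      simpa [mul_assoc] using this
    · intro h
      apply hne
      rw [h]; group

theorem WSim.conj (hconj : ∀ g : G, ∀ x ∈ D, g * x * g⁻¹ ∈ D) {a b : G} (h : WSim D a b) (g : G) :
    WSim D (g * a * g⁻¹) (g * b * g⁻¹) := by
  ext y
  rw [mem_Dd_conj_iff hconj, mem_Dd_conj_iff hconj, h]

/-- the main computation: `e^b` commutes with `f^a`. -/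
theorem commute_conj_conj (hD : IsThreeTranspositionSet D)
    (hconj : ∀ g : G, ∀ x ∈ D, g * x * g⁻¹ ∈ D) {a b e f : G} (ha : a ∈ D) (hb : b ∈ D)
    (he : e ∈ D) (hf : f ∈ D) (hab : WSim D a b) (heb : ¬ Commute e b)
    (hfa : ¬ Commute f a) (hfb : ¬ Commute f b) (hef : Commute e f) (hne : e ≠ f) :
    Commute (b * e * b) (a * f * a) := by
  have haa := mul_self hD ha
  have hbb := mul_self hD hb
  have hee := mul_self hD he
  have hff := mul_self hD hf
  have br_eb : e * b * e = b * e * b := braid hD he hb heb
  have br_fb : f * b * f = b * f * b := braid hD hf hb hfb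
  have br_fa : f * a * f = a * f * a := braid hD hf ha hfa
  have hp'D : b * e * b ∈ D := conj_mem_invol hD hconj hb he
  -- `p' = b e b` does not commute with `f`
  have hp'f : ¬ Commute (b * e * b) f := by
    intro h
    have h1 : Commute e (b * f * b) := (commute_conj_invol hbb e f).mp h
    rw [← br_fb] at h1
    -- e commutes with f and f b f, hence with b
    have h2 : Commute e (f * (f * b * f) * f) := (hef.mul_right h1).mul_right hef
    rw [conj_conj_invol hff] at h2
    exact heb h2
  have br_p'f : (b * e * b) * f * (b * e * b) = f * (b * e * b) * f := braid hD hp'D hf hp'f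
  -- `u' = f (e b e) f`
  have hu'D : f * (e * b * e) * f ∈ D :=
    conj_mem_invol hD hconj hf (conj_mem_invol hD hconj he hb)
  have hbu' : b * (f * (e * b * e) * f) * b = f * (e * b * e) * f := by
    calc b * (f * (e * b * e) * f) * b = b * ((b * e * b) * f * (b * e * b)) * b := by
          rw [br_eb, br_p'f]
      _ = (b * b) * e * (b * f * b) * e * (b * b) := by group
      _ = e * (f * b * f) * e := by rw [hbb, br_fb]; group
      _ = (e * f) * b * (f * e) := by group
      _ = (f * e) * b * (e * f) := by rw [hef.eq]
      _ = f * (e * b * e) * f := by group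
  have hcomm_bu' : Commute b (f * (e * b * e) * f) := by
    show b * (f * (e * b * e) * f) = (f * (e * b * e) * f) * b
    calc b * (f * (e * b * e) * f) = (b * (f * (e * b * e) * f) * b) * b := by
          rw [mul_assoc (b * (f * (e * b * e) * f)), hbb, mul_one]
      _ = (f * (e * b * e) * f) * b := by rw [hbu']
  have hu'ne : f * (e * b * e) * f ≠ b := by
    intro h
    -- e b e = f b f
    have h1 : e * b * e = f * b * f := by
      have := congrArg (fun z => f * z * f) h
      simpa [conj_conj_invol hff] using this
    rw [br_eb, br_fb] at h1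
    exact hne (conj_injective_invol hbb h1)
  have hu'mem : f * (e * b * e) * f ∈ Dd D a := by
    rw [hab]
    exact ⟨hu'D, hu'ne, hcomm_bu'⟩
  have hcomm_au' : Commute a (f * (e * b * e) * f) := hu'mem.2.2
  -- conjugate by `f`
  have h6 : Commute (f * a * f) (e * b * e) := by
    rw [commute_conj_invol hff]
    exact hcomm_au'
  rw [br_fa, br_eb] at h6
  exact h6.symm

/-- `e` does not commute with its conjugate under `a b`. -/
theorem not_commute_conj_mul (hD : IsThreeTranspositionSet D) {a b e : G} (ha : a ∈ D)
    (hb : b ∈ D) (he : e ∈ D) (hnab : ¬ Commute a b) (hea : ¬ Commute e a)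
    (heb : ¬ Commute e b) : ¬ Commute e (a * (b * e * b) * a) := by
  have haa := mul_self hD ha
  have hee := mul_self hD he
  intro h
  have h1 : Commute (a * e * a) (b * e * b) := by
    rw [commute_conj_invol haa]; exact h
  rw [← braid hD he ha hea, ← braid hD he hb heb, commute_conj_invol hee, conj_conj_invol hee] at h1
  exact hnab h1

/-- conjugation by `a b` (`a`, `b` related) does not decrease the set of commuting partners. -/
theorem Dd_subset_conj_mul (hD : IsThreeTranspositionSet D)
    (hconj : ∀ g : G, ∀ x ∈ D, g * x * g⁻¹ ∈ D) {a b : G} (ha : a ∈ D) (hb : b ∈ D)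
    (hab : WSim D a b) {e : G} (he : e ∈ D) : Dd D e ⊆ Dd D (a * (b * e * b) * a) := by
  have haa := mul_self hD ha
  have hbb := mul_self hD hb
  by_cases hne : a = b
  · subst hne
    rw [show a * (a * e * a) * a = e from conj_conj_invol haa e]
  have hnab : ¬ Commute a b := hab.not_commute hb hne
  by_cases hea : Commute e a
  · by_cases hea' : e = a
    · -- `e = a`, conjugate is `b`
      subst hea'
      have : e * (b * e * b) * e = b := by
        rw [← braid hD he hb hnab]
        rw [show e * (e * b * e) * e = (e * e) * b * (e * e) by group, haa]; simp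
      rw [this, hab]
    · -- `e` commutes with `a`, hence with `b`
      have h1 : e ∈ Dd D a := ⟨he, hea', hea.symm⟩
      rw [hab] at h1
      have heb : Commute b e := h1.2.2
      have : a * (b * e * b) * a = e := by
        have e1 : b * e * b = e := by rw [heb.eq, mul_assoc, hbb, mul_one]
        rw [e1, ← hea.eq, mul_assoc, haa, mul_one]
      rw [this]
  · by_cases heb : Commute e b
    · -- then `e = b`
      have heb' : e = b := by
        by_contra hne'
        have h1 : e ∈ Dd D b := ⟨he, hne', heb.symm⟩
        rw [← hab] at h1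
        exact hea h1.2.2.symm
      subst heb'
      have : a * (e * e * e) * a = a * e * a⁻¹ := by
        rw [hbb, one_mul, inv_eq hD ha]
      rw [this]
      have h2 : WSim D (a * a * a⁻¹) (a * e * a⁻¹) := hab.conj hconj a
      rw [show a * a * a⁻¹ = a by group] at h2
      rw [← h2, hab]
    · -- main case
      intro f hf
      obtain ⟨hfD, hfe, hef⟩ := hf
      by_cases hfa : Commute f a
      · -- `f` commutes with `a` and `b`
        have hfa' : f ≠ a := by
          rintro rfl; exact hea hef
        have h1 : f ∈ Dd D a := ⟨hfD, hfa', hfa.symm⟩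
        rw [hab] at h1
        have hfb : Commute b f := h1.2.2
        have hfix : a * (b * f * b) * a = f := by
          have e1 : b * f * b = f := by rw [hfb.eq, mul_assoc, hbb, mul_one]
          rw [e1, ← hfa.eq, mul_assoc, haa, mul_one]
        refine ⟨hfD, ?_, ?_⟩
        · intro h
          apply hfe
          have : a * (b * f * b) * a = a * (b * e * b) * a := by rw [hfix, h]
          exact conj_injective_invol hbb (conj_injective_invol haa this)
        · rw [← hfix, commute_conj_invol haa, conj_conj_invol haa, commute_conj_invol hbb,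
            conj_conj_invol hbb]
          exact hef
      · have hfb : ¬ Commute f b := by
          intro hfb
          by_cases hfb' : f = b
          · subst hfb'; exact heb hef
          · have h1 : f ∈ Dd D b := ⟨hfD, hfb', hfb.symm⟩
            rw [← hab] at h1
            exact hfa h1.2.2.symm
        refine ⟨hfD, ?_, ?_⟩
        · intro h
          have := not_commute_conj_mul hD ha hb he hnab hea heb
          rw [← h] at this
          exact this hef
        · rw [commute_conj_invol haa]
          exact commute_conj_conj hD hconj ha hb he hfD hab heb hfa hfb hef hfe.symm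

/-- conjugation by `a * b` preserves `WSim`-classes. -/
theorem WSim.conj_mul (hD : IsThreeTranspositionSet D)
    (hconj : ∀ g : G, ∀ x ∈ D, g * x * g⁻¹ ∈ D) {a b : G} (ha : a ∈ D) (hb : b ∈ D)
    (hab : WSim D a b) {e : G} (he : e ∈ D) : WSim D e ((a * b) * e * (a * b)⁻¹) := by
  have haa := mul_self hD ha
  have hbb := mul_self hD hb
  have hform : (a * b) * e * (a * b)⁻¹ = a * (b * e * b) * a := by
    rw [mul_inv_rev, inv_eq hD ha, inv_eq hD hb]; group
  rw [hform]
  apply Set.Subset.antisymm (Dd_subset_conj_mul hD hconj ha hb hab he)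
  have he' : a * (b * e * b) * a ∈ D :=
    conj_mem_invol hD hconj ha (conj_mem_invol hD hconj hb he)
  have := Dd_subset_conj_mul hD hconj hb ha hab.symm he'
  rwa [conj_conj_invol haa, conj_conj_invol hbb] at this

end Cfsg.Agent.Helper25.TT
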