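import Mathlib
import Cfsg.Agent.Lib.Helper25.WSim1

/-!
# `W_d = D ∩ d O₃(G) = d^{O₃(G)}` modulo the `Z*`-theorem (helper25)
-/

set_option autoImplicit false

namespace Cfsg.Agent.Helper25.TT

open Cfsg

variable {G : Type*} [Group G] {D : Set G}

/-- a set of 3-transpositions without commuting pairs, closed under conjugation by its members:
the products of two members generate a `3`-group (modulo `Z*` for the generated subgroup). -/
theorem isPGroup_three_closure_mul [Finite G] {X : Set G} (hX : IsThreeTranspositionSet X)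
    (hnc : ∀ a ∈ X, ∀ b ∈ X, Commute a b → a = b)
    (hXconj : ∀ a ∈ X, ∀ b ∈ X, a * b * a⁻¹ ∈ X) (hZ : ZStarAt ↥(Subgroup.closure X)) :
    IsPGroup 3 (Subgroup.closure {x | ∃ a ∈ X, ∃ b ∈ X, x = a * b}) := by
  haveI : Fact (Nat.Prime 3) := ⟨Nat.prime_three⟩
  set H : Subgroup G := Subgroup.closure X with hH
  -- `X` is invariant under conjugation by `H`
  have hinv : ∀ g ∈ H, (∀ x ∈ X, g * x * g⁻¹ ∈ X) ∧ (∀ x ∈ X, g⁻¹ * x * g ∈ X) := by
    intro g hg
    induction hg using Subgroup.closure_induction with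
    | mem a ha =>
      refine ⟨fun x hx => hXconj a ha x hx, fun x hx => ?_⟩
      have := hXconj a ha x hx
      rwa [inv_eq hX ha] at this ⊢
    | one => simp
    | mul g h _ _ ihg ihh =>
      refine ⟨fun x hx => ?_, fun x hx => ?_⟩
      · have := ihg.1 _ (ihh.1 x hx)
        rwa [show g * (h * x * h⁻¹) * g⁻¹ = g * h * x * (g * h)⁻¹ by group] at this
      · have := ihh.2 _ (ihg.2 x hx)
        rwa [show h⁻¹ * (g⁻¹ * x * g) * h = (g * h)⁻¹ * x * (g * h) by group] at this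
    | inv g _ ihg =>
      refine ⟨fun x hx => ?_, fun x hx => ?_⟩
      · have := ihg.2 x hx
        rwa [show g⁻¹ * x * g = g⁻¹ * x * g⁻¹⁻¹ by group] at this
      · have := ihg.1 x hx
        rwa [show g * x * g⁻¹ = g⁻¹⁻¹ * x * g⁻¹ by group] at this
  set X' : Set H := {h | (h : G) ∈ X} with hX'
  have hX'3 : IsThreeTranspositionSet X' := by
    refine ⟨fun h hh => ?_, fun h hh k hk => ?_⟩
    · rw [← Subgroup.orderOf_coe]; exact hX.1 _ hh
    · rcases hX.2 _ hh _ hk with h2 | h3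
      · left; apply Subtype.ext; simpa using h2
      · right; apply Subtype.ext; simpa using h3
  have hX'conj : ∀ g : H, ∀ x ∈ X', g * x * g⁻¹ ∈ X' := by
    intro g x hx
    exact (hinv g g.2).1 x hx
  have hX'nc : ∀ a ∈ X', ∀ b ∈ X', Commute a b → a = b := by
    intro a ha b hb hab
    apply Subtype.ext
    apply hnc _ ha _ hb
    have := congrArg Subtype.val hab.eq
    exact this
  have hO : IsPGroup 3 (Cfsg.pCore 3 H) := Cfsg.Agent.Helper25.isPGroup_pCore' 3 H
  have hO' : IsPGroup 3 ((Cfsg.pCore 3 H).map H.subtype) := hO.map _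
  apply hO'.to_le
  rw [Subgroup.closure_le]
  rintro _ ⟨a, ha, b, hb, rfl⟩
  have haH : a ∈ H := Subgroup.subset_closure ha
  have hbH : b ∈ H := Subgroup.subset_closure hb
  have := mul_mem_pCore_three hZ hX'3 hX'conj hX'nc (a := ⟨a, haH⟩) (b := ⟨b, hbH⟩) ha hb
  exact ⟨_, this, rfl⟩

/-- the generators: products of two related members of `D`. -/
def wGens (D : Set G) : Set G := {x | ∃ a ∈ D, ∃ b ∈ D, WSim D a b ∧ x = a * b}

/-- the subgroup generated by products of related members. -/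
def wM (D : Set G) : Subgroup G := Subgroup.closure (wGens D)

theorem wM_preserves (hD : IsThreeTranspositionSet D)
    (hconj : ∀ g : G, ∀ x ∈ D, g * x * g⁻¹ ∈ D) {g : G} (hg : g ∈ wM D) :
    (∀ e ∈ D, WSim D e (g * e * g⁻¹)) ∧ (∀ e ∈ D, WSim D e (g⁻¹ * e * g)) := by
  induction hg using Subgroup.closure_induction with
  | mem x hx =>
    obtain ⟨a, ha, b, hb, hab, rfl⟩ := hx
    refine ⟨fun e he => hab.conj_mul hD hconj ha hb he, fun e he => ?_⟩
    have := hab.symm.conj_mul hD hconj hb ha he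
    rwa [show (b * a) * e * (b * a)⁻¹ = (a * b)⁻¹ * e * (a * b) by
      rw [mul_inv_rev, mul_inv_rev, inv_eq hD ha, inv_eq hD hb]] at this
  | one => simp [WSim.refl]
  | mul g h _ _ ihg ihh =>
    refine ⟨fun e he => ?_, fun e he => ?_⟩
    · have h1 := ihh.1 e he
      have h2 := ihg.1 _ (hconj h e he)
      rw [show g * (h * e * h⁻¹) * g⁻¹ = g * h * e * (g * h)⁻¹ by group] at h2
      exact h1.trans h2
    · have h1 := ihg.2 e he
      have hmem : g⁻¹ * e * g ∈ D := by simpa using hconj g⁻¹ e he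
      have h2 := ihh.2 _ hmem
      rw [show h⁻¹ * (g⁻¹ * e * g) * h = (g * h)⁻¹ * e * (g * h) by group] at h2
      exact h1.trans h2
  | inv g _ ihg =>
    refine ⟨fun e he => ?_, fun e he => ?_⟩
    · have := ihg.2 e he
      rwa [show g⁻¹ * e * g = g⁻¹ * e * g⁻¹⁻¹ by group] at this
    · have := ihg.1 e he
      rwa [show g * e * g⁻¹ = g⁻¹⁻¹ * e * g⁻¹ by group] at this

theorem wM_normal (hconj : ∀ g : G, ∀ x ∈ D, g * x * g⁻¹ ∈ D) : (wM D).Normal := by
  constructor
  intro n hn h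
  induction hn using Subgroup.closure_induction with
  | mem x hx =>
    obtain ⟨a, ha, b, hb, hab, rfl⟩ := hx
    apply Subgroup.subset_closure
    refine ⟨h * a * h⁻¹, hconj h a ha, h * b * h⁻¹, hconj h b hb, hab.conj hconj h, by group⟩
  | one => simp
  | mul x y _ _ hx hy =>
    have : h * (x * y) * h⁻¹ = (h * x * h⁻¹) * (h * y * h⁻¹) := by group
    rw [this]; exact Subgroup.mul_mem _ hx hy
  | inv x _ hx =>
    have : h * x⁻¹ * h⁻¹ = (h * x * h⁻¹)⁻¹ := by group
    rw [this]; exact Subgroup.inv_mem _ hx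

/-- the `WSim`-class of `e`. -/
def wClass (D : Set G) (e : G) : Set G := {w | w ∈ D ∧ WSim D e w}

theorem wClass_three (hD : IsThreeTranspositionSet D) (e : G) :
    IsThreeTranspositionSet (wClass D e) :=
  ⟨fun x hx => hD.1 x hx.1, fun x hx y hy => hD.2 x hx.1 y hy.1⟩

theorem wClass_nc (e : G) : ∀ a ∈ wClass D e, ∀ b ∈ wClass D e, Commute a b → a = b := by
  intro a ha b hb hab
  by_contra hne
  exact (ha.2.symm.trans hb.2).not_commute hb.1 hne hab

theorem wClass_conj (hconj : ∀ g : G, ∀ x ∈ D, g * x * g⁻¹ ∈ D) (e : G) :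
    ∀ a ∈ wClass D e, ∀ b ∈ wClass D e, a * b * a⁻¹ ∈ wClass D e := by
  intro a ha b hb
  refine ⟨hconj a b hb.1, ?_⟩
  -- WSim a b, conjugate by a: WSim a (a b a⁻¹)
  have h1 : WSim D a b := ha.2.symm.trans hb.2
  have h2 := h1.conj hconj a
  rw [show a * a * a⁻¹ = a by group] at h2
  exact ha.2.trans h2

/-- products of two members of one class. -/
def wR (D : Set G) (e : G) : Subgroup G :=
  Subgroup.closure {x | ∃ a ∈ wClass D e, ∃ b ∈ wClass D e, x = a * b}

theorem wR_le_wM (e : G) : wR D e ≤ wM D := by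
  unfold wR wM
  apply Subgroup.closure_mono
  rintro _ ⟨a, ha, b, hb, rfl⟩
  exact ⟨a, ha.1, b, hb.1, ha.2.symm.trans hb.2, rfl⟩

theorem wM_le_normalizer_wR (hD : IsThreeTranspositionSet D)
    (hconj : ∀ g : G, ∀ x ∈ D, g * x * g⁻¹ ∈ D) (e : G) :
    wM D ≤ Subgroup.normalizer (wR D e : Set G) := by
  intro g hg
  have hpres := wM_preserves hD hconj hg
  have key : ∀ g : G, (∀ x ∈ D, WSim D x (g * x * g⁻¹)) → ∀ n ∈ wR D e, g * n * g⁻¹ ∈ wR D e := by
    intro g hg1 n hn
    induction hn using Subgroup.closure_induction with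
    | mem x hx =>
      obtain ⟨a, ha, b, hb, rfl⟩ := hx
      apply Subgroup.subset_closure
      exact ⟨g * a * g⁻¹, ⟨hconj g a ha.1, ha.2.trans (hg1 a ha.1)⟩, g * b * g⁻¹,
        ⟨hconj g b hb.1, hb.2.trans (hg1 b hb.1)⟩, by group⟩
    | one => simp
    | mul x y _ _ hx hy =>
      have : g * (x * y) * g⁻¹ = (g * x * g⁻¹) * (g * y * g⁻¹) := by group
      rw [this]; exact Subgroup.mul_mem _ hx hy
    | inv x _ hx =>
      have : g * x⁻¹ * g⁻¹ = (g * x * g⁻¹)⁻¹ := by group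
      rw [this]; exact Subgroup.inv_mem _ hx
  rw [Subgroup.mem_normalizer_iff]
  intro n
  constructor
  · exact key g hpres.1 n
  · intro h
    have := key g⁻¹ (by simpa using hpres.2) _ h
    rwa [show g⁻¹ * (g * n * g⁻¹) * g⁻¹⁻¹ = n by group] at this

theorem wM_isPGroup [Finite G] (hZ : ∀ H : Subgroup G, ZStarAt H) (hD : IsThreeTranspositionSet D)
    (hconj : ∀ g : G, ∀ x ∈ D, g * x * g⁻¹ ∈ D) : IsPGroup 3 (wM D) := by
  haveI : Fact (Nat.Prime 3) := ⟨Nat.prime_three⟩
  obtain ⟨P₀⟩ : Nonempty (Sylow 3 (wM D)) := inferInstance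
  set Q : Subgroup G := (P₀ : Subgroup (wM D)).map (wM D).subtype with hQ
  have hQM : Q ≤ wM D := by
    rintro _ ⟨x, -, rfl⟩; exact x.2
  have hQp : IsPGroup 3 Q := P₀.isPGroup'.map _
  have hQc : Nat.card Q = 3 ^ (Nat.card (wM D)).factorization 3 := by
    rw [hQ, Subgroup.card_map_of_injective (wM D).subtype_injective]
    exact P₀.card_eq_multiplicity
  apply hQp.to_le
  unfold wM
  rw [Subgroup.closure_le]
  rintro _ ⟨a, ha, b, hb, hab, rfl⟩
  have hRp : IsPGroup 3 (wR D a) :=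
    isPGroup_three_closure_mul (wClass_three hD a) (wClass_nc a) (wClass_conj hconj a) (hZ _)
  have hle : wR D a ≤ Q :=
    InvOdd.le_of_card_sylow (wR_le_wM a) hRp (wM_le_normalizer_wR hD hconj a) hQM hQp hQc
  apply hle
  exact Subgroup.subset_closure ⟨a, ⟨ha, WSim.refl a⟩, b, ⟨hb, hab⟩, rfl⟩

theorem wM_le_pCore [Finite G] (hZ : ∀ H : Subgroup G, ZStarAt H)
    (hD : IsThreeTranspositionSet D) (hconj : ∀ g : G, ∀ x ∈ D, g * x * g⁻¹ ∈ D) :
    wM D ≤ Cfsg.pCore 3 G :=
  Cfsg.Agent.Helper25.le_pCore' (wM_normal hconj) (wM_isPGroup hZ hD hconj)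

end Cfsg.Agent.Helper25.TT
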