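import Mathlib
import Cfsg.Agent.Lib.Helper25.WSim2

/-!
# S5350 modulo the `Z*`-theorem (helper25)
-/

set_option autoImplicit false

namespace Cfsg.Agent.Helper25.TT

open Cfsg

variable {G : Type*} [Group G] {D : Set G}

/-- if `d * w ∈ O₃(G)` then every partner of `d` is a partner of `w`. -/
theorem Dd_subset_of_mul_mem [Finite G] (hD : IsThreeTranspositionSet D) {d w : G} (hd : d ∈ D)
    (hw : w ∈ D) (hdw : d * w ∈ Cfsg.pCore 3 G) : Dd D d ⊆ Dd D w := by
  haveI : Fact (Nat.Prime 3) := ⟨Nat.prime_three⟩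
  have hO : IsPGroup 3 (Cfsg.pCore 3 G) := Cfsg.Agent.Helper25.isPGroup_pCore' 3 G
  haveI hOn : (Cfsg.pCore 3 G).Normal := Cfsg.pCore_normal 3 G
  have hdd := mul_self hD hd
  have hww := mul_self hD hw
  rintro y ⟨hy, hyd, hdy⟩
  have hyy := mul_self hD hy
  have hcomm : Commute w y := by
    by_contra hnc
    have h3 : (y * w) ^ 3 = 1 := cube_of_not_commute hD hy hw (fun h => hnc h.symm)
    -- (y w)^2 = [y, w] ∈ O₃
    have h2 : (y * w) ^ 2 ∈ Cfsg.pCore 3 G := by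
      set n := w * d with hn
      have hnO : n ∈ Cfsg.pCore 3 G := by
        have : n = (d * w)⁻¹ := by
          rw [hn, mul_inv_rev, inv_eq hD hd, inv_eq hD hw]
        rw [this]; exact Subgroup.inv_mem _ hdw
      have hwn : w = n * d := by rw [hn, mul_assoc, hdd, mul_one]
      have : (y * w) ^ 2 = (y * n * y⁻¹) * n⁻¹ := by
        rw [pow_two]
        have e1 : y * w * (y * w) = y * w * y⁻¹ * w⁻¹ := by
          rw [inv_eq hD hy, inv_eq hD hw]; group
        rw [e1]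
        nth_rewrite 1 [hwn]
        have e2 : y * (n * d) * y⁻¹ = y * n * y⁻¹ * d := by
          have : d * y⁻¹ = y⁻¹ * d := by
            rw [inv_eq hD hy]; exact hdy.eq
          calc y * (n * d) * y⁻¹ = y * n * (d * y⁻¹) := by group
            _ = y * n * (y⁻¹ * d) := by rw [this]
            _ = y * n * y⁻¹ * d := by group
        rw [e2]
        have e3 : w⁻¹ = d * n⁻¹ := by
          rw [hwn, mul_inv_rev, inv_eq hD hd]
        rw [e3]
        calc y * n * y⁻¹ * d * (d * n⁻¹) = y * n * y⁻¹ * (d * d) * n⁻¹ := by group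
          _ = y * n * y⁻¹ * n⁻¹ := by rw [hdd, mul_one]
      rw [this]
      exact Subgroup.mul_mem _ (hOn.conj_mem n hnO y) (Subgroup.inv_mem _ hnO)
    have hyw : y * w ∈ Cfsg.pCore 3 G := by
      have : y * w = ((y * w) ^ 2)⁻¹ := by
        have h4 : (y * w) ^ 2 * (y * w) = 1 := by rw [← pow_succ]; exact h3
        exact eq_inv_of_mul_eq_one_right h4
      rw [this]; exact Subgroup.inv_mem _ h2
    have hdy' : d * y ∈ Cfsg.pCore 3 G := by
      have : d * y = (d * w) * (y * w)⁻¹ := by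
        rw [mul_inv_rev, inv_eq hD hy, inv_eq hD hw]
        calc d * y = d * (w * w) * y := by rw [hww, mul_one]
          _ = d * w * (w * y) := by group
      rw [this]
      exact Subgroup.mul_mem _ hdw (Subgroup.inv_mem _ hyw)
    have h1 : d * y = 1 := eq_one_of_sq_of_mem_three hO hdy' (sq_of_commute hD hd hy hdy)
    have : d = y⁻¹ := eq_inv_of_mul_eq_one_left h1
    rw [inv_eq hD hy] at this
    exact hyd this.symm
  refine ⟨hy, ?_, hcomm⟩
  rintro rfl
  -- `y = w` commutes with `d`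
  have h1 : d * y = 1 := eq_one_of_sq_of_mem_three hO hdw (sq_of_commute hD hd hy hdy)
  have : d = y⁻¹ := eq_inv_of_mul_eq_one_left h1
  rw [inv_eq hD hy] at this
  exact hyd this.symm

/-- **S5350 modulo `Z*`.** -/
theorem wClass_eq_of_ZStar [Finite G] (hZ : ∀ H : Subgroup G, ZStarAt H)
    (hD : IsThreeTranspositionSet D) (hconj : ∀ g : G, ∀ x ∈ D, g * x * g⁻¹ ∈ D) {d : G}
    (hd : d ∈ D) :
    {w : G | w ∈ D ∧ Dd D d = Dd D w} = {w : G | w ∈ D ∧ d⁻¹ * w ∈ Cfsg.pCore 3 G} ∧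
    {w : G | w ∈ D ∧ Dd D d = Dd D w} = {w : G | ∃ g ∈ Cfsg.pCore 3 G, w = g * d * g⁻¹} := by
  haveI : Fact (Nat.Prime 3) := ⟨Nat.prime_three⟩
  have hO : IsPGroup 3 (Cfsg.pCore 3 G) := Cfsg.Agent.Helper25.isPGroup_pCore' 3 G
  haveI hOn : (Cfsg.pCore 3 G).Normal := Cfsg.pCore_normal 3 G
  have hdd := mul_self hD hd
  have hdi := inv_eq hD hd
  have h12 : {w : G | w ∈ D ∧ Dd D d = Dd D w} ⊆ {w : G | w ∈ D ∧ d⁻¹ * w ∈ Cfsg.pCore 3 G} := by
    rintro w ⟨hw, hdw⟩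
    refine ⟨hw, ?_⟩
    rw [hdi]
    apply wM_le_pCore hZ hD hconj
    exact Subgroup.subset_closure ⟨d, hd, w, hw, hdw, rfl⟩
  have h23 : {w : G | w ∈ D ∧ d⁻¹ * w ∈ Cfsg.pCore 3 G} ⊆
      {w : G | ∃ g ∈ Cfsg.pCore 3 G, w = g * d * g⁻¹} := by
    rintro w ⟨hw, hdw⟩
    rw [hdi] at hdw
    by_cases hc : Commute d w
    · have h1 : d * w = 1 := eq_one_of_sq_of_mem_three hO hdw (sq_of_commute hD hd hw hc)
      have : d = w⁻¹ := eq_inv_of_mul_eq_one_left h1
      rw [inv_eq hD hw] at this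
      exact ⟨1, Subgroup.one_mem _, by rw [← this]; group⟩
    · exact ⟨d * w, hdw, (conj_of_noncommuting hD hd hw hc).symm⟩
  have h31 : {w : G | ∃ g ∈ Cfsg.pCore 3 G, w = g * d * g⁻¹} ⊆
      {w : G | w ∈ D ∧ Dd D d = Dd D w} := by
    rintro w ⟨g, hg, rfl⟩
    have hw : g * d * g⁻¹ ∈ D := hconj g d hd
    have hdw : d * (g * d * g⁻¹) ∈ Cfsg.pCore 3 G := by
      have : d * (g * d * g⁻¹) = (d * g * d⁻¹) * g⁻¹ := by rw [hdi]; group
      rw [this]
      exact Subgroup.mul_mem _ (hOn.conj_mem g hg d) (Subgroup.inv_mem _ hg)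
    have hwd : (g * d * g⁻¹) * d ∈ Cfsg.pCore 3 G := by
      have : (g * d * g⁻¹) * d = (d * (g * d * g⁻¹))⁻¹ := by
        rw [mul_inv_rev, inv_eq hD hw, hdi]
      rw [this]; exact Subgroup.inv_mem _ hdw
    exact ⟨hw, Set.Subset.antisymm (Dd_subset_of_mul_mem hD hd hw hdw)
      (Dd_subset_of_mul_mem hD hw hd hwd)⟩
  exact ⟨Set.Subset.antisymm h12 (h23.trans h31),
    Set.Subset.antisymm (h12.trans h23) h31⟩

end Cfsg.Agent.Helper25.TT
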