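import Mathlib
import Cfsg.Prelude.Def_Local
import Cfsg.Agent.Lib.Helper25.WSim3
import Cfsg.Agent.Lib.Helper25.ThreeTransp2
import Cfsg.Agent.Lib.Helper7.FStar2
import Cfsg.Agent.S5349
import Cfsg.Agent.S5347

/-!
# Towards S5351 (helper25): exactly one of `O₂`, `O₃` non-central, `E(G) ≠ 1`
-/

set_option autoImplicit false

namespace Cfsg.Agent.Helper25.TT

open Cfsg

variable {G : Type*} [Group G] {D : Set G}

/-- a non-central normal subgroup is not centralized by some member of a generating set. -/
theorem exists_conj_ne_of_not_le_center (hgen : Subgroup.closure D = ⊤) {N : Subgroup G}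
    (hN : ¬ N ≤ Subgroup.center G) : ∃ d ∈ D, ∃ n ∈ N, n * d * n⁻¹ ≠ d := by
  by_contra hcon
  push Not at hcon
  apply hN
  intro n hn
  rw [Subgroup.mem_center_iff]
  have h1 : Subgroup.closure D ≤ Subgroup.centralizer {n} := by
    rw [Subgroup.closure_le]
    intro d hd
    rw [SetLike.mem_coe, Subgroup.mem_centralizer_iff]
    intro y hy
    rw [Set.mem_singleton_iff] at hy
    subst hy
    have := hcon d hd y hn
    calc y * d = (y * d * y⁻¹) * y := by group
      _ = d * y := by rw [this]
  rw [hgen] at h1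
  intro g
  have := h1 (Subgroup.mem_top g)
  rw [Subgroup.mem_centralizer_iff] at this
  exact (this n rfl).symm

/-- `Z2`: if `f` commutes with `a * b` (`a`, `b` distinct with the same commuting sets) then `f`
commutes with `a`. -/
theorem commute_of_commute_mul_sim (hD : IsThreeTranspositionSet D) {a b f : G} (ha : a ∈ D)
    (hb : b ∈ D) (hf : f ∈ D) (hs : Sim D b a) (hne : a ≠ b) (hc : Commute f (a * b)) :
    Commute f a := by
  by_contra hfa
  have hfb : ¬ Commute f b := fun h => hfa ((hs f hf).mp h.symm).symm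
  have haa := mul_self hD ha
  have hbb := mul_self hD hb
  have hff := mul_self hD hf
  have br_a : f * a * f = a * f * a := braid hD hf ha hfa
  have br_b : f * b * f = b * f * b := braid hD hf hb hfb
  have h1 : (f * a * f) * (f * b * f) = a * b := by
    calc (f * a * f) * (f * b * f) = f * a * (f * f) * b * f := by group
      _ = f * (a * b) * f := by rw [hff]; group
      _ = (a * b) * f * f := by rw [hc.eq]
      _ = a * b := by rw [mul_assoc, hff, mul_one]
  rw [br_a, br_b] at h1
  have h2 : f * a * b * f * b = b := by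
    have : a * (f * a * b * f * b) = a * b := by rw [← h1]; group
    exact mul_left_cancel this
  have h3 : f * a * b * f = 1 := by
    have : (f * a * b * f) * b = 1 * b := by rw [one_mul]; exact h2
    exact mul_right_cancel this
  have h4 : a * b = 1 := by
    calc a * b = f * (f * a * b * f) * f := by
          rw [show f * (f * a * b * f) * f = (f * f) * a * b * (f * f) by group, hff]; group
      _ = 1 := by rw [h3, mul_one, hff]
  have : a = b⁻¹ := eq_inv_of_mul_eq_one_left h4
  rw [inv_eq hD hb] at this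
  exact hne this

/-- `Z3`: the same for `WSim`-related `a`, `b`. -/
theorem commute_of_commute_mul_wsim (hD : IsThreeTranspositionSet D) {a b f : G} (ha : a ∈ D)
    (hb : b ∈ D) (hf : f ∈ D) (hs : WSim D a b) (hne : a ≠ b) (hfa' : f ≠ a) (hfb' : f ≠ b)
    (hc : Commute f (a * b)) : Commute f a := by
  by_contra hfa
  have hfb : ¬ Commute f b := by
    intro h
    have h1 : f ∈ Dd D b := ⟨hf, hfb', h.symm⟩
    rw [← hs] at h1
    exact hfa h1.2.2.symm
  have hnab : ¬ Commute a b := hs.not_commute hb hne
  have := not_commute_conj_mul hD ha hb hf hnab hfa hfb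
  apply this
  have e : a * (b * f * b) * a = (a * b) * f * (a * b)⁻¹ := by
    rw [mul_inv_rev, inv_eq hD ha, inv_eq hD hb]; group
  rw [e, ← hc.eq, mul_assoc, mul_inv_cancel, mul_one]

/-- two `WSim`-pairs with the same product are `WSim`-related. -/
theorem Dd_subset_of_same_product (hD : IsThreeTranspositionSet D) {d w e e' : G}
    (hw : w ∈ D) (he : e ∈ D) (he' : e' ∈ D) (hdw : WSim D d w)
    (hee' : WSim D e e') (hne' : e ≠ e') (hprod : d * w = e * e') : Dd D d ⊆ Dd D e := by
  rintro f ⟨hf, hfd, hdf⟩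
  have h1 : f ∈ Dd D w := by rw [← hdw]; exact ⟨hf, hfd, hdf⟩
  have hwf : Commute w f := h1.2.2
  have hc : Commute f (e * e') := by
    rw [← hprod]; exact (hdf.mul_left hwf).symm
  have hnee' : ¬ Commute e e' := hee'.not_commute he' hne'
  have hee := mul_self hD he
  have hfe : f ≠ e := by
    rintro rfl
    apply hnee'
    -- f commutes with f * e'
    have : f * (f * e') = (f * e') * f := hc.eq
    have h2 : e' = f * e' * f := by
      calc e' = (f * f) * e' := by rw [hee, one_mul]
        _ = f * (f * e') := by group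
        _ = f * e' * f := this
    show f * e' = e' * f
    calc f * e' = f * (f * e' * f) := by rw [← h2]
      _ = (f * f) * e' * f := by group
      _ = e' * f := by rw [hee, one_mul]
  have hfe' : f ≠ e' := by
    rintro rfl
    apply hnee'
    have hff := mul_self hD he'
    have : f * (e * f) = (e * f) * f := hc.eq
    show e * f = f * e
    calc e * f = (f * f) * (e * f) := by rw [hff, one_mul]
      _ = f * (f * (e * f)) := by group
      _ = f * ((e * f) * f) := by rw [this]
      _ = f * e * (f * f) := by group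
      _ = f * e := by rw [hff, mul_one]
  exact ⟨hf, hfe, (commute_of_commute_mul_wsim hD he he' hf hee' hne' hfe hfe' hc).symm⟩

theorem wsim_of_same_product (hD : IsThreeTranspositionSet D) {d w e e' : G}
    (hd : d ∈ D) (hw : w ∈ D) (he : e ∈ D) (he' : e' ∈ D) (hdw : WSim D d w) (hne : d ≠ w)
    (hee' : WSim D e e') (hne' : e ≠ e') (hprod : d * w = e * e') : WSim D d e :=
  Set.Subset.antisymm (Dd_subset_of_same_product hD hw he he' hdw hee' hne' hprod)
    (Dd_subset_of_same_product hD he' hd hw hee' hdw hne hprod.symm)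

/-- easy direction of S5350: `O₃(G)`-conjugates are `WSim`-related. -/
theorem wsim_conj_pCore_three [Finite G] (hD : IsThreeTranspositionSet D)
    (hconj : ∀ g : G, ∀ x ∈ D, g * x * g⁻¹ ∈ D) {d : G} (hd : d ∈ D) {g : G}
    (hg : g ∈ Cfsg.pCore 3 G) : WSim D d (g * d * g⁻¹) := by
  haveI hOn : (Cfsg.pCore 3 G).Normal := Cfsg.pCore_normal 3 G
  have hdi := inv_eq hD hd
  have hw : g * d * g⁻¹ ∈ D := hconj g d hd
  have hdw : d * (g * d * g⁻¹) ∈ Cfsg.pCore 3 G := by
    have : d * (g * d * g⁻¹) = (d * g * d⁻¹) * g⁻¹ := by rw [hdi]; group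
    rw [this]
    exact Subgroup.mul_mem _ (hOn.conj_mem g hg d) (Subgroup.inv_mem _ hg)
  have hwd : (g * d * g⁻¹) * d ∈ Cfsg.pCore 3 G := by
    have : (g * d * g⁻¹) * d = (d * (g * d * g⁻¹))⁻¹ := by
      rw [mul_inv_rev, inv_eq hD hw, hdi]
    rw [this]; exact Subgroup.inv_mem _ hdw
  exact Set.Subset.antisymm (Dd_subset_of_mul_mem hD hd hw hdw)
    (Dd_subset_of_mul_mem hD hw hd hwd)

/-- a homomorphism-type argument: commutators with a perfect subgroup `L` landing in a solvable
subgroup centralized by `L` are trivial. -/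
theorem commutator_eq_one_of_perfect (L R : Subgroup G) (hperf : commutator ↥L = ⊤)
    [Group.IsSolvable ↥R] (hLR : ∀ x ∈ L, ∀ r ∈ R, x * r = r * x) (d : G)
    (hc : ∀ x ∈ L, d * x * d⁻¹ * x⁻¹ ∈ R) : ∀ x ∈ L, d * x * d⁻¹ * x⁻¹ = 1 := by
  let φ : ↥L →* ↥R :=
    { toFun := fun x => ⟨d * x * d⁻¹ * (x : G)⁻¹, hc x x.2⟩
      map_one' := by apply Subtype.ext; simp
      map_mul' := by
        intro x y
        apply Subtype.ext
        show d * ((x : G) * y) * d⁻¹ * ((x : G) * y)⁻¹ =
          (d * x * d⁻¹ * (x : G)⁻¹) * (d * y * d⁻¹ * (y : G)⁻¹)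
        have h := hLR x x.2 _ (hc y y.2)
        calc d * ((x : G) * y) * d⁻¹ * ((x : G) * y)⁻¹
            = (d * x * d⁻¹ * (x : G)⁻¹) * ((x : G) * (d * y * d⁻¹ * (y : G)⁻¹)) * (x : G)⁻¹ := by
              group
          _ = (d * x * d⁻¹ * (x : G)⁻¹) * ((d * y * d⁻¹ * (y : G)⁻¹) * x) * (x : G)⁻¹ := by rw [h]
          _ = _ := by group }
  have hrange : ∀ n : ℕ, φ.range ≤ derivedSeries ↥R n := by
    intro n
    induction n with
    | zero => exact le_top
    | succ n ih =>
      have h1 : φ.range = Subgroup.map φ ⁅(⊤ : Subgroup ↥L), ⊤⁆ := by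
        rw [← commutator_def, hperf, MonoidHom.range_eq_map]
      rw [h1, Subgroup.map_commutator, derivedSeries_succ, ← MonoidHom.range_eq_map]
      exact Subgroup.commutator_mono ih ih
  obtain ⟨n, hn⟩ := Group.IsSolvable.solvable (G := ↥R)
  intro x hx
  have h2 : φ ⟨x, hx⟩ ∈ φ.range := ⟨_, rfl⟩
  have h3 := hrange n h2
  rw [hn, Subgroup.mem_bot] at h3
  have := congrArg Subtype.val h3
  exact this

end Cfsg.Agent.Helper25.TT
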