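import Mathlib
import Cfsg.Agent.Lib.Helper25.TT51a
import Cfsg.Agent.Lib.Helper7.Fitting
import Cfsg.Agent.Lib.Helper7.Quasisimple

/-!
# S5351 modulo the `Z*`-theorem (helper25)
-/

set_option autoImplicit false

namespace Cfsg.Agent.Helper25.TT

open Cfsg
open scoped commutatorElement

variable {G : Type*} [Group G] {D : Set G}

/-- elements of a component commute with elements of `O_p(G)`. -/
theorem commute_component_pCore [Finite G] {L : Subgroup G} (hL : Cfsg.IsComponent L) (p : ℕ)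
    [Fact p.Prime] {x z : G} (hx : x ∈ L) (hz : z ∈ Cfsg.pCore p G) : x * z = z * x := by
  have hp : IsPGroup p (Cfsg.pCore p G) := Cfsg.Agent.Helper25.isPGroup_pCore' p G
  have hzF : z ∈ Cfsg.fittingSubgroup G :=
    Cfsg.Agent.Helper7.le_fittingSubgroup _ hp.isNilpotent hz
  have h1 := Cfsg.Agent.Helper7.component_commutator_fittingSubgroup hL
  have h2 : ⁅x, z⁆ ∈ ⁅L, Cfsg.fittingSubgroup G⁆ := Subgroup.commutator_mem_commutator hx hzF
  rw [h1, Subgroup.mem_bot, commutatorElement_eq_one_iff_mul_comm] at h2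
  exact h2

/-- **(C2) core**: if `v ≠ d` has the same commuting set as `d`, then `d` centralizes every
component. -/
theorem commute_component_of_sim [Finite G] (hD : IsThreeTranspositionSet D)
    (hconj : ∀ g : G, ∀ x ∈ D, g * x * g⁻¹ ∈ D) {d v : G} (hd : d ∈ D) (hv : v ∈ D)
    (hs : Sim D v d) (hne : v ≠ d) {L : Subgroup G} (hL : Cfsg.IsComponent L) :
    ∀ x ∈ L, x * d = d * x := by
  haveI : Fact (Nat.Prime 2) := ⟨Nat.prime_two⟩
  have hz : d * v ∈ Cfsg.pCore 2 G := mul_mem_pCore hD hconj hd hv hs hne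
  have hdv : Commute d v := (hs.commute hd).symm
  have hzz : (d * v) * (d * v) = 1 := by
    rw [← pow_two]; exact sq_of_commute hD hd hv hdv
  -- `d` commutes with all its `L`-conjugates
  have key : ∀ x ∈ L, Commute (x * d * x⁻¹) d := by
    intro x hx
    have hxz : x * (d * v) = (d * v) * x := commute_component_pCore hL 2 hx hz
    have he : x * d * x⁻¹ ∈ D := hconj x d hd
    have he' : x * v * x⁻¹ ∈ D := hconj x v hv
    have hprod : (x * d * x⁻¹) * (x * v * x⁻¹) = d * v := by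
      calc (x * d * x⁻¹) * (x * v * x⁻¹) = (x * (d * v)) * x⁻¹ := by group
        _ = d * v := by rw [hxz]; group
    have hee := mul_self hD he
    have he'eq : x * v * x⁻¹ = (x * d * x⁻¹) * (d * v) := by
      rw [← hprod, ← mul_assoc, hee, one_mul]
    -- `e z` is an involution, so `e` commutes with `z`
    have hinv : ((x * d * x⁻¹) * (d * v)) * ((x * d * x⁻¹) * (d * v)) = 1 := by
      rw [← he'eq]; exact mul_self hD he'
    have hc : Commute (x * d * x⁻¹) (d * v) := by
      show (x * d * x⁻¹) * (d * v) = (d * v) * (x * d * x⁻¹)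
      have h1 : (x * d * x⁻¹) * (d * v) = ((x * d * x⁻¹) * (d * v))⁻¹ :=
        eq_inv_of_mul_eq_one_left hinv
      rw [h1, mul_inv_rev, inv_eq hD he]
      congr 1
      exact inv_eq_of_mul_eq_one_left hzz
    exact commute_of_commute_mul_sim hD hd hv he hs (Ne.symm hne) hc
  -- the abelian subgroup generated by the `L`-conjugates
  set A : Subgroup G := Subgroup.closure {e | ∃ x ∈ L, e = x * d * x⁻¹} with hA
  have hAcomm : ∀ a ∈ {e | ∃ x ∈ L, e = x * d * x⁻¹}, ∀ b ∈ {e | ∃ x ∈ L, e = x * d * x⁻¹},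
      a * b = b * a := by
    rintro _ ⟨x, hx, rfl⟩ _ ⟨y, hy, rfl⟩
    have h1 := key (x⁻¹ * y) (L.mul_mem (L.inv_mem hx) hy)
    have h2 : Commute (x * ((x⁻¹ * y) * d * (x⁻¹ * y)⁻¹) * x⁻¹) (x * d * x⁻¹) := by
      show x * ((x⁻¹ * y) * d * (x⁻¹ * y)⁻¹) * x⁻¹ * (x * d * x⁻¹) =
        (x * d * x⁻¹) * (x * ((x⁻¹ * y) * d * (x⁻¹ * y)⁻¹) * x⁻¹)
      have := h1.eq
      calc x * ((x⁻¹ * y) * d * (x⁻¹ * y)⁻¹) * x⁻¹ * (x * d * x⁻¹)
          = x * (((x⁻¹ * y) * d * (x⁻¹ * y)⁻¹) * d) * x⁻¹ := by group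
        _ = x * (d * ((x⁻¹ * y) * d * (x⁻¹ * y)⁻¹)) * x⁻¹ := by rw [this]
        _ = _ := by group
    rw [show x * ((x⁻¹ * y) * d * (x⁻¹ * y)⁻¹) * x⁻¹ = y * d * y⁻¹ by group] at h2
    exact h2.eq.symm
  haveI hAc : IsMulCommutative A := Subgroup.isMulCommutative_closure hAcomm
  haveI : Group.IsSolvable ↥A := Group.isSolvable_of_comm (fun a b => mul_comm' a b)
  have hnorm : L ≤ Subgroup.normalizer (A : Set G) := by
    have key2 : ∀ y ∈ L, ∀ n ∈ A, y * n * y⁻¹ ∈ A := by
      intro y hy n hn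
      induction hn using Subgroup.closure_induction with
      | mem e he =>
        obtain ⟨x, hx, rfl⟩ := he
        apply Subgroup.subset_closure
        exact ⟨y * x, L.mul_mem hy hx, by group⟩
      | one => simp
      | mul a b _ _ ha hb =>
        have : y * (a * b) * y⁻¹ = (y * a * y⁻¹) * (y * b * y⁻¹) := by group
        rw [this]; exact Subgroup.mul_mem _ ha hb
      | inv a _ ha =>
        have : y * a⁻¹ * y⁻¹ = (y * a * y⁻¹)⁻¹ := by group
        rw [this]; exact Subgroup.inv_mem _ ha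
    intro y hy
    rw [Subgroup.mem_normalizer_iff]
    intro n
    constructor
    · exact key2 y hy n
    · intro h
      have := key2 y⁻¹ (L.inv_mem hy) _ h
      rwa [show y⁻¹ * (y * n * y⁻¹) * y⁻¹⁻¹ = n by group] at this
  have hcomm := Cfsg.Agent.Helper7.component_commutator_solvable_eq_bot L A hL inferInstance hnorm
  intro x hx
  have hdA : d ∈ A := Subgroup.subset_closure ⟨1, L.one_mem, by group⟩
  have h2 : ⁅x, d⁆ ∈ ⁅L, A⁆ := Subgroup.commutator_mem_commutator hx hdA
  rw [hcomm, Subgroup.mem_bot, commutatorElement_eq_one_iff_mul_comm] at h2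
  exact h2

end Cfsg.Agent.Helper25.TT
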