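import Mathlib
import Cfsg.Agent.Lib.Helper25.TT51b

/-!
# S5351 modulo the `Z*`-theorem, part 3 (helper25)
-/

set_option autoImplicit false

namespace Cfsg.Agent.Helper25.TT

open Cfsg
open scoped commutatorElement

variable {G : Type*} [Group G] {D : Set G}

/-- **(C3) core**: if `w ≠ d` is `WSim`-related to `d` with `d * w ∈ O₃(G)`, then `d` centralizes
every component (modulo `Z*`). -/
theorem commute_component_of_wsim [Finite G] (hZ : ∀ H : Subgroup G, ZStarAt H)
    (hD : IsThreeTranspositionSet D)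
    (hconj : ∀ g : G, ∀ x ∈ D, g * x * g⁻¹ ∈ D) {d w : G} (hd : d ∈ D) (hw : w ∈ D)
    (hs : WSim D d w) (hne : d ≠ w) (hy : d * w ∈ Cfsg.pCore 3 G) {L : Subgroup G}
    (hL : Cfsg.IsComponent L) : ∀ x ∈ L, x * d = d * x := by
  haveI : Fact (Nat.Prime 3) := ⟨Nat.prime_three⟩
  have hdi := inv_eq hD hd
  -- `L`-conjugates of `d` are `WSim`-related to `d`
  have key : ∀ x ∈ L, WSim D d (x * d * x⁻¹) := by
    intro x hx
    have hxy : x * (d * w) = (d * w) * x := commute_component_pCore hL 3 hx hy
    have he : x * d * x⁻¹ ∈ D := hconj x d hd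
    have he' : x * w * x⁻¹ ∈ D := hconj x w hw
    have hprod : d * w = (x * d * x⁻¹) * (x * w * x⁻¹) := by
      symm
      calc (x * d * x⁻¹) * (x * w * x⁻¹) = (x * (d * w)) * x⁻¹ := by group
        _ = d * w := by rw [hxy]; group
    have hne' : x * d * x⁻¹ ≠ x * w * x⁻¹ := by
      intro h
      apply hne
      have := congrArg (fun z => x⁻¹ * z * x) h
      simpa [mul_assoc] using this
    exact wsim_of_same_product hD hd hw he he' hs hne (hs.conj hconj x) hne' hprod
  -- the 3-group generated by products of members of the class of `d`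
  have hRp : IsPGroup 3 (wR D d) :=
    isPGroup_three_closure_mul (wClass_three hD d) (wClass_nc d) (wClass_conj hconj d) (hZ _)
  haveI : Group.IsNilpotent ↥(wR D d) := hRp.isNilpotent
  haveI : Group.IsSolvable ↥(wR D d) := inferInstance
  have hnorm : L ≤ Subgroup.normalizer (wR D d : Set G) := by
    have key2 : ∀ y ∈ L, ∀ n ∈ wR D d, y * n * y⁻¹ ∈ wR D d := by
      intro y hy n hn
      induction hn using Subgroup.closure_induction with
      | mem e he =>
        obtain ⟨a, ha, b, hb, rfl⟩ := he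
        apply Subgroup.subset_closure
        refine ⟨y * a * y⁻¹, ⟨hconj y a ha.1, ?_⟩, y * b * y⁻¹, ⟨hconj y b hb.1, ?_⟩, by group⟩
        · exact (key y hy).trans (ha.2.conj hconj y)
        · exact (key y hy).trans (hb.2.conj hconj y)
      | one => simp
      | mul a b _ _ ha hb =>
        have : y * (a * b) * y⁻¹ = (y * a * y⁻¹) * (y * b * y⁻¹) := by group
        rw [this]; exact Subgroup.mul_mem _ ha hb
      | inv a _ ha =>
        have : y * a⁻¹ * y⁻¹ = (y * a * y⁻¹)⁻¹ := by group
        rw [this]; exact Subgroup.inv_mem _ ha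
    intro y hy
    rw [Subgroup.mem_normalizer_iff]
    intro n
    constructor
    · exact key2 y hy n
    · intro h
      have := key2 y⁻¹ (L.inv_mem hy) _ h
      rwa [show y⁻¹ * (y * n * y⁻¹) * y⁻¹⁻¹ = n by group] at this
  have hcomm := Cfsg.Agent.Helper7.component_commutator_solvable_eq_bot L (wR D d) hL
    inferInstance hnorm
  have hLR : ∀ x ∈ L, ∀ r ∈ wR D d, x * r = r * x := by
    intro x hx r hr
    have h2 : ⁅x, r⁆ ∈ ⁅L, wR D d⁆ := Subgroup.commutator_mem_commutator hx hr
    rw [hcomm, Subgroup.mem_bot, commutatorElement_eq_one_iff_mul_comm] at h2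
    exact h2
  have hc : ∀ x ∈ L, d * x * d⁻¹ * x⁻¹ ∈ wR D d := by
    intro x hx
    have : d * x * d⁻¹ * x⁻¹ = d * (x * d * x⁻¹) := by rw [hdi]; group
    rw [this]
    exact Subgroup.subset_closure
      ⟨d, ⟨hd, WSim.refl d⟩, x * d * x⁻¹, ⟨hconj x d hd, key x hx⟩, rfl⟩
  have hperf : commutator ↥L = ⊤ := Cfsg.Agent.Helper7.quasisimple_commutator_eq_top hL.2
  have h1 := commutator_eq_one_of_perfect L (wR D d) hperf hLR d hc
  intro x hx
  have h2 := h1 x hx
  calc x * d = (d * x * d⁻¹ * x⁻¹)⁻¹ * (d * x) := by group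
    _ = d * x := by rw [h2, inv_one, one_mul]

/-- if all `O_q(G)` are central then so is the Fitting subgroup. -/
theorem fittingSubgroup_le_center [Finite G]
    (h : ∀ q : ℕ, q.Prime → Cfsg.pCore q G ≤ Subgroup.center G) :
    Cfsg.fittingSubgroup G ≤ Subgroup.center G := by
  set F := Cfsg.fittingSubgroup G with hF
  haveI : F.Normal := Cfsg.Agent.Helper7.fittingSubgroup_normal'
  haveI : Group.IsNilpotent ↥F := Cfsg.Agent.Helper7.fittingSubgroup_isNilpotent
  have hFpos : Nat.card F ≠ 0 := Nat.card_pos.ne'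
  have hpos : Nat.card (Subgroup.center G ⊓ F : Subgroup G) ≠ 0 := Nat.card_pos.ne'
  have hdvd : Nat.card F ∣ Nat.card (Subgroup.center G ⊓ F : Subgroup G) := by
    rw [← Nat.factorization_prime_le_iff_dvd hFpos hpos]
    intro q hq
    haveI : Fact q.Prime := ⟨hq⟩
    obtain S : Sylow q ↥F := default
    haveI : (S : Subgroup ↥F).Characteristic := S.characteristic_of_normal inferInstance
    haveI : ((S : Subgroup ↥F).map F.subtype).Normal := ConjAct.normal_of_characteristic_of_normal
    have hcard : Nat.card ↥((S : Subgroup ↥F).map F.subtype) =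
        q ^ (Nat.card ↥F).factorization q := by
      rw [Subgroup.card_map_of_injective F.subtype_injective, S.card_eq_multiplicity]
    have hp : IsPGroup q ((S : Subgroup ↥F).map F.subtype) := S.isPGroup'.map _
    have hle : (S : Subgroup ↥F).map F.subtype ≤ Subgroup.center G ⊓ F := by
      apply le_inf
      · exact (Cfsg.Agent.Helper25.le_pCore' inferInstance hp).trans (h q hq)
      · rintro _ ⟨x, -, rfl⟩; exact x.2
    have h1 : q ^ (Nat.card ↥F).factorization q ∣ Nat.card (Subgroup.center G ⊓ F : Subgroup G) :=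
      hcard ▸ Subgroup.card_dvd_of_le hle
    exact (Nat.Prime.pow_dvd_iff_le_factorization hq hpos).mp h1
  have hle : Nat.card F ≤ Nat.card (Subgroup.center G ⊓ F : Subgroup G) :=
    Nat.le_of_dvd Nat.card_pos hdvd
  have heq : Subgroup.center G ⊓ F = F := Subgroup.eq_of_le_of_card_ge inf_le_right hle
  rw [← heq]; exact inf_le_left

end Cfsg.Agent.Helper25.TT
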