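import Mathlib
import Cfsg.Agent.Lib.Helper25.TT51c

/-!
# S5351 modulo the `Z*`-theorem, assembly (helper25)
-/

set_option autoImplicit false

namespace Cfsg.Agent.Helper25.TT

open Cfsg
open scoped commutatorElement

variable {G : Type*} [Group G] {D : Set G}

/-- no component is centralized by a generating set. -/
theorem layer_eq_bot_of_centralized (hgen : Subgroup.closure D = ⊤)
    (h : ∀ d ∈ D, ∀ L : Subgroup G, Cfsg.IsComponent L → ∀ x ∈ L, x * d = d * x) :
    Cfsg.layer G = ⊥ := by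
  rw [Cfsg.Agent.Helper7.layer_eq_bot_iff]
  intro L hL
  have hLc : L ≤ Subgroup.center G := by
    intro x hx
    rw [Subgroup.mem_center_iff]
    have h1 : Subgroup.closure D ≤ Subgroup.centralizer {x} := by
      rw [Subgroup.closure_le]
      intro d hd
      rw [SetLike.mem_coe, Subgroup.mem_centralizer_iff]
      intro y hy
      rw [Set.mem_singleton_iff] at hy
      subst hy
      exact h d hd L hL y hx
    rw [hgen] at h1
    intro g
    have := h1 (Subgroup.mem_top g)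
    rw [Subgroup.mem_centralizer_iff] at this
    exact (this x rfl).symm
  have h2 : ⁅L, L⁆ = ⊥ := by
    rw [eq_bot_iff, Subgroup.commutator_le]
    intro a ha b hb
    rw [Subgroup.mem_bot, commutatorElement_eq_one_iff_mul_comm]
    have := hLc hb
    rw [Subgroup.mem_center_iff] at this
    exact (this a)
  rw [Cfsg.Agent.Helper7.component_perfect hL] at h2
  exact Cfsg.Agent.Helper7.component_ne_bot hL h2

/-- **S5351 modulo `Z*`.** -/
theorem trichotomy_of_ZStar [Finite G] (hZ : ∀ H : Subgroup G, ZStarAt H)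
    (hD : IsThreeTranspositionClass D) (hD2 : ∃ a ∈ D, ∃ b ∈ D, a ≠ b) :
    (∀ p : ℕ, p.Prime → 3 < p → Cfsg.pCore p G ≤ Subgroup.center G) ∧
    ((¬ Cfsg.pCore 2 G ≤ Subgroup.center G ∧ Cfsg.pCore 3 G ≤ Subgroup.center G ∧
        Cfsg.layer G = ⊥) ∨
      (Cfsg.pCore 2 G ≤ Subgroup.center G ∧ ¬ Cfsg.pCore 3 G ≤ Subgroup.center G ∧
        Cfsg.layer G = ⊥) ∨
      (Cfsg.pCore 2 G ≤ Subgroup.center G ∧ Cfsg.pCore 3 G ≤ Subgroup.center G ∧
        Cfsg.layer G ≠ ⊥)) := by
  haveI : Fact (Nat.Prime 2) := ⟨Nat.prime_two⟩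
  haveI : Fact (Nat.Prime 3) := ⟨Nat.prime_three⟩
  have hS := hD.1
  have hgen := hD.2.2
  have hconj : ∀ g : G, ∀ x ∈ D, g * x * g⁻¹ ∈ D := fun g x hx => conj_mem hD g hx
  have hDG : Cfsg.IsThreeTranspositionGroup D := ⟨hS, hconj, hgen⟩
  -- part (A)
  have hA : ∀ p : ℕ, p.Prime → 3 < p → Cfsg.pCore p G ≤ Subgroup.center G := by
    intro p hp hp3 x hx
    haveI : Fact p.Prime := ⟨hp⟩
    rw [Subgroup.mem_center_iff]
    have h1 : Subgroup.closure D ≤ Subgroup.centralizer {x} := by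
      rw [Subgroup.closure_le]
      intro d hd
      rw [SetLike.mem_coe, Subgroup.mem_centralizer_iff]
      intro y hy
      rw [Set.mem_singleton_iff] at hy
      subst hy
      have hn : d ∈ Subgroup.normalizer (Cfsg.pCore p G : Set G) := by
        rw [Subgroup.normalizer_eq_top]; trivial
      exact ((Cfsg.Agent.S5347.result hDG hp hp3 (Cfsg.pCore p G)
        (Cfsg.Agent.Helper25.isPGroup_pCore' p G) hd hn) y hx).eq.symm
    rw [hgen] at h1
    intro g
    have := h1 (Subgroup.mem_top g)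
    rw [Subgroup.mem_centralizer_iff] at this
    exact (this x rfl).symm
  -- every member has a `Sim`-partner when `O₂` is not central
  have hV : ¬ Cfsg.pCore 2 G ≤ Subgroup.center G → ∀ d ∈ D, ∃ v ∈ D, Sim D v d ∧ v ≠ d := by
    intro hnc
    obtain ⟨d₀, hd₀, n, hn, hne⟩ := exists_conj_ne_of_not_le_center hgen hnc
    have h49 := Cfsg.Agent.S5349.result hD hD2 hd₀
    have hmem : n * d₀ * n⁻¹ ∈ {v : G | ∃ g ∈ Cfsg.pCore 2 G, v = g * d₀ * g⁻¹} := ⟨n, hn, rfl⟩
    rw [← h49.2] at hmem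
    have hs₀ : Sim D (n * d₀ * n⁻¹) d₀ := hmem.2
    intro d hd
    obtain ⟨g, rfl⟩ := isConj_of_mem hD hd₀ hd
    refine ⟨g * (n * d₀ * n⁻¹) * g⁻¹, hconj g _ hmem.1, hs₀.conj hconj g, ?_⟩
    intro h
    apply hne
    have := congrArg (fun z => g⁻¹ * z * g) h
    simpa [mul_assoc] using this
  have hW : ¬ Cfsg.pCore 3 G ≤ Subgroup.center G → ∀ d ∈ D,
      ∃ w ∈ D, WSim D d w ∧ d ≠ w ∧ d * w ∈ Cfsg.pCore 3 G := by
    intro hnc
    obtain ⟨d₀, hd₀, n, hn, hne⟩ := exists_conj_ne_of_not_le_center hgen hnc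
    haveI hOn : (Cfsg.pCore 3 G).Normal := Cfsg.pCore_normal 3 G
    intro d hd
    obtain ⟨g, rfl⟩ := isConj_of_mem hD hd₀ hd
    have hn' : g * n * g⁻¹ ∈ Cfsg.pCore 3 G := hOn.conj_mem n hn g
    refine ⟨(g * n * g⁻¹) * (g * d₀ * g⁻¹) * (g * n * g⁻¹)⁻¹, hconj _ _ hd,
      wsim_conj_pCore_three hS hconj hd hn', ?_, ?_⟩
    · intro h
      apply hne
      have := congrArg (fun z => g⁻¹ * z * g) h
      have e1 : g⁻¹ * ((g * n * g⁻¹) * (g * d₀ * g⁻¹) * (g * n * g⁻¹)⁻¹) * g = n * d₀ * n⁻¹ := by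
        group
      have e2 : g⁻¹ * (g * d₀ * g⁻¹) * g = d₀ := by group
      simp only [e1, e2] at this
      exact this.symm
    · have hdi := inv_eq hS hd
      have : (g * d₀ * g⁻¹) * ((g * n * g⁻¹) * (g * d₀ * g⁻¹) * (g * n * g⁻¹)⁻¹) =
          ((g * d₀ * g⁻¹) * (g * n * g⁻¹) * (g * d₀ * g⁻¹)⁻¹) * (g * n * g⁻¹)⁻¹ := by
        rw [hdi]; group
      rw [this]
      exact Subgroup.mul_mem _ (hOn.conj_mem _ hn' _) (Subgroup.inv_mem _ hn')
  -- (C1)
  have hC1 : ¬ Cfsg.pCore 2 G ≤ Subgroup.center G → ¬ Cfsg.pCore 3 G ≤ Subgroup.center G →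
      False := by
    intro h2 h3
    have hD2' := hD2
    obtain ⟨d, hd, -, -, -⟩ := hD2'
    obtain ⟨v, hv, hsv, hvd⟩ := hV h2 d hd
    obtain ⟨w, hw, hsw, hdw, -⟩ := hW h3 d hd
    have hdv : Commute d v := (hsv.commute hd).symm
    have h1 : v ∈ Dd D d := ⟨hv, hvd, hdv⟩
    rw [hsw] at h1
    have hwv : Commute w v := h1.2.2
    have hdw' : Commute d w := ((hsv w hw).mp hwv.symm)
    exact hsw.not_commute hw hdw hdw'
  -- (C2)
  have hC2 : ¬ Cfsg.pCore 2 G ≤ Subgroup.center G → Cfsg.layer G = ⊥ := by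
    intro h2
    apply layer_eq_bot_of_centralized hgen
    intro d hd L hL
    obtain ⟨v, hv, hsv, hvd⟩ := hV h2 d hd
    exact commute_component_of_sim hS hconj hd hv hsv hvd hL
  -- (C3)
  have hC3 : ¬ Cfsg.pCore 3 G ≤ Subgroup.center G → Cfsg.layer G = ⊥ := by
    intro h3
    apply layer_eq_bot_of_centralized hgen
    intro d hd L hL
    obtain ⟨w, hw, hsw, hdw, hy⟩ := hW h3 d hd
    exact commute_component_of_wsim hZ hS hconj hd hw hsw hdw hy hL
  -- (C4)
  have hC4 : Cfsg.pCore 2 G ≤ Subgroup.center G → Cfsg.pCore 3 G ≤ Subgroup.center G →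
      Cfsg.layer G ≠ ⊥ := by
    intro h2 h3 hE
    have hall : ∀ q : ℕ, q.Prime → Cfsg.pCore q G ≤ Subgroup.center G := by
      intro q hq
      by_cases hq3 : 3 < q
      · exact hA q hq hq3
      · have : q = 2 ∨ q = 3 := by
          have := hq.two_le
          interval_cases q
          · left; rfl
          · right; rfl
        rcases this with rfl | rfl
        · exact h2
        · exact h3
    have hF := fittingSubgroup_le_center hall
    have hcen := Cfsg.Agent.Helper7.centralizer_fittingSubgroup_le_iff.mpr hE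
    have htop : (⊤ : Subgroup G) ≤ Subgroup.center G := by
      intro g _
      apply hF
      apply hcen
      rw [Subgroup.mem_centralizer_iff]
      intro f hf
      have := hF hf
      rw [Subgroup.mem_center_iff] at this
      exact (this g).symm
    have hD2' := hD2
    obtain ⟨d, hd, -, -, -⟩ := hD2'
    obtain ⟨e, he, hde⟩ := exists_not_commute hD hD2 hd
    apply hde
    have := htop (Subgroup.mem_top d)
    rw [Subgroup.mem_center_iff] at this
    exact (this e).symm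
  refine ⟨hA, ?_⟩
  by_cases h2 : Cfsg.pCore 2 G ≤ Subgroup.center G
  · by_cases h3 : Cfsg.pCore 3 G ≤ Subgroup.center G
    · right; right; exact ⟨h2, h3, hC4 h2 h3⟩
    · right; left; exact ⟨h2, h3, hC3 h3⟩
  · left
    refine ⟨h2, ?_, hC2 h2⟩
    by_contra h3
    exact hC1 h2 h3

end Cfsg.Agent.Helper25.TT
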