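import Mathlib
import Cfsg.Agent.Lib.Helper25.TT51d
import Cfsg.Agent.Lib.Helper7.Components2
import Cfsg.Agent.Lib.Helper7.FStar
import Cfsg.Agent.S5351

/-!
# Towards S5353 / S5352 (helper25): structure when `F*(G) = L Z(G)`
-/

set_option autoImplicit false

namespace Cfsg.Agent.Helper25.TT

open Cfsg
open scoped commutatorElement

variable {G : Type*} [Group G] {D : Set G}

/-- In a 3-transposition group with `O₂`, `O₃` central, the Fitting subgroup is central. -/
theorem fitting_le_center_of_class [Finite G] (hD : IsThreeTranspositionClass D)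
    (hD2 : ∃ a ∈ D, ∃ b ∈ D, a ≠ b) (h2 : Cfsg.pCore 2 G ≤ Subgroup.center G)
    (h3 : Cfsg.pCore 3 G ≤ Subgroup.center G) :
    Cfsg.fittingSubgroup G ≤ Subgroup.center G := by
  have hA := (Cfsg.Agent.S5351.result hD hD2).1
  apply fittingSubgroup_le_center
  intro q hq
  by_cases hq3 : 3 < q
  · exact hA q hq hq3
  · have : q = 2 ∨ q = 3 := by
      have := hq.two_le
      interval_cases q
      · left; rfl
      · right; rfl
    rcases this with rfl | rfl
    · exact h2
    · exact h3

/-- `C_G(L) ≤ Z(G)` when `F*(G) = L Z(G)` and `F(G) ≤ Z(G)`. -/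
theorem centralizer_le_center_of_fstar [Finite G] (hFit : Cfsg.fittingSubgroup G ≤ Subgroup.center G)
    (L : Subgroup G) [L.Normal]
    (hF : Cfsg.generalizedFittingSubgroup G = L ⊔ Subgroup.center G) :
    Subgroup.centralizer (L : Set G) ≤ Subgroup.center G := by
  intro x hx
  have hx' : ∀ y ∈ L, y * x = x * y := fun y hy => Subgroup.mem_centralizer_iff.mp hx y hy
  -- `x` centralizes `F*(G)`
  have h1 : x ∈ Subgroup.centralizer (Cfsg.generalizedFittingSubgroup G : Set G) := by
    rw [hF]
    have : L ⊔ Subgroup.center G ≤ Subgroup.centralizer {x} := by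
      apply sup_le
      · intro y hy
        rw [Subgroup.mem_centralizer_iff]
        intro z hz
        rw [Set.mem_singleton_iff] at hz
        subst hz
        exact (hx' y hy).symm
      · intro y hy
        rw [Subgroup.mem_centralizer_iff]
        intro z hz
        rw [Set.mem_singleton_iff] at hz
        subst hz
        exact (Subgroup.mem_center_iff.mp hy z)
    rw [Subgroup.mem_centralizer_iff]
    intro y hy
    have := this hy
    rw [Subgroup.mem_centralizer_iff] at this
    exact (this x rfl).symm
  have h2 := Cfsg.Agent.Helper7.centralizer_generalizedFittingSubgroup_le h1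
  rw [hF] at h2
  have h2' : x ∈ ((L ⊔ Subgroup.center G : Subgroup G) : Set G) := h2
  rw [Subgroup.normal_mul] at h2'
  obtain ⟨l, hl, z, hz, rfl⟩ := Set.mem_mul.mp h2'
  rw [SetLike.mem_coe] at hl hz
  -- `l ∈ L ⊓ C_G(L)`, an abelian normal subgroup
  have hl' : l ∈ L ⊓ Subgroup.centralizer (L : Set G) := by
    refine ⟨hl, ?_⟩
    have : l = (l * z) * z⁻¹ := by group
    rw [this]
    refine Subgroup.mul_mem _ hx ?_
    rw [Subgroup.mem_centralizer_iff]
    intro y _
    have := Subgroup.mem_center_iff.mp (Subgroup.inv_mem _ hz) y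
    exact this
  set M : Subgroup G := L ⊓ Subgroup.centralizer (L : Set G) with hM
  haveI : M.Normal := by rw [hM]; infer_instance
  have hMcomm : ∀ a b : M, a * b = b * a := by
    intro a b
    apply Subtype.ext
    have ha : (a : G) ∈ L := a.2.1
    have hb : (b : G) ∈ Subgroup.centralizer (L : Set G) := b.2.2
    rw [Subgroup.mem_centralizer_iff] at hb
    exact (hb a ha)
  haveI : IsMulCommutative M := ⟨⟨hMcomm⟩⟩
  have hMnil : Group.IsNilpotent M := Cfsg.Agent.Helper7.isNilpotent_of_isMulCommutative M
  have hMF : M ≤ Cfsg.fittingSubgroup G := Cfsg.Agent.Helper7.le_fittingSubgroup M hMnil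
  exact Subgroup.mul_mem _ (hFit (hMF hl')) hz

/-- a normal subgroup contains `L` or is central. -/
theorem normal_le_or_le_center [Finite G] (L : Subgroup G) [L.Normal]
    (hL : Cfsg.IsQuasisimple L) (hC : Subgroup.centralizer (L : Set G) ≤ Subgroup.center G)
    (N : Subgroup G) [hN : N.Normal] : L ≤ N ∨ N ≤ Subgroup.center G := by
  have hLc : Cfsg.IsComponent L := ⟨Subgroup.Normal.isSubnormal inferInstance, hL⟩
  rcases Cfsg.Agent.Helper7.component_le_or_commutator_eq_bot' L N hLc
    (Subgroup.Normal.isSubnormal hN) with h | h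
  · left; exact h
  · right
    rw [Subgroup.commutator_comm] at h
    exact (Subgroup.commutator_eq_bot_iff_le_centralizer.mp h).trans hC

end Cfsg.Agent.Helper25.TT
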