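import Mathlib
import Cfsg.Agent.Lib.Helper25.TT53a
import Cfsg.Agent.Lib.Helper7.Layer3
import Cfsg.Agent.S0144

/-!
# Towards S5352 (helper25): members of `D` normalize every component
-/

set_option autoImplicit false

namespace Cfsg.Agent.Helper25.TT

open Cfsg
open scoped commutatorElement Pointwise

universe u

variable {G : Type u} [Group G] {D : Set G}

/-- a finite group in which every element squares or cubes to one is solvable. -/
theorem isSolvable_of_sq_or_cube {Q : Type*} [Group Q] [Finite Q]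
    (h : ∀ q : Q, q ^ 2 = 1 ∨ q ^ 3 = 1) : Group.IsSolvable Q := by
  have hc0 : Nat.card Q ≠ 0 := Nat.card_pos.ne'
  have hprime : ∀ r : ℕ, r.Prime → r ∣ Nat.card Q → r = 2 ∨ r = 3 := by
    intro r hr hdvd
    haveI : Fact r.Prime := ⟨hr⟩
    obtain ⟨g, hg⟩ := exists_prime_orderOf_dvd_card' r hdvd
    rcases h g with h2 | h3
    · left
      have := orderOf_dvd_of_pow_eq_one h2
      rw [hg] at this
      exact (Nat.prime_dvd_prime_iff_eq hr Nat.prime_two).mp this
    · right
      have := orderOf_dvd_of_pow_eq_one h3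
      rw [hg] at this
      exact (Nat.prime_dvd_prime_iff_eq hr Nat.prime_three).mp this
  obtain ⟨a, m, hm2, hm⟩ := Nat.exists_eq_pow_mul_and_not_dvd hc0 2 (by norm_num)
  have hm0 : m ≠ 0 := by
    rintro rfl
    rw [mul_zero] at hm
    exact hc0 hm
  obtain ⟨b, m', hm3, hm'⟩ := Nat.exists_eq_pow_mul_and_not_dvd hm0 3 (by norm_num)
  have hm1 : m' = 1 := by
    by_contra hne
    obtain ⟨r, hr, hrd⟩ := Nat.exists_prime_and_dvd hne
    have hrm : r ∣ m := by
      rw [hm']
      exact dvd_mul_of_dvd_right hrd _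
    have hrG : r ∣ Nat.card Q := by
      rw [hm]
      exact dvd_mul_of_dvd_right hrm _
    rcases hprime r hr hrG with rfl | rfl
    · exact hm2 hrm
    · exact hm3 hrd
  apply Cfsg.Agent.S0144.result 2 3 a b Nat.prime_two Nat.prime_three
  rw [hm, hm', hm1, mul_one]

/-- a quasisimple group has an element whose square and cube are both non-central. -/
theorem exists_not_sq_cube_center {L : Type*} [Group L] [Finite L] (hL : Cfsg.IsQuasisimple L) :
    ∃ x : L, x ^ 2 ∉ Subgroup.center L ∧ x ^ 3 ∉ Subgroup.center L := by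
  by_contra hcon
  push Not at hcon
  have hQ : ∀ q : L ⧸ Subgroup.center L, q ^ 2 = 1 ∨ q ^ 3 = 1 := by
    intro q
    obtain ⟨x, rfl⟩ := QuotientGroup.mk_surjective q
    by_cases h2 : x ^ 2 ∈ Subgroup.center L
    · left
      rw [← QuotientGroup.mk_pow, QuotientGroup.eq_one_iff]; exact h2
    · right
      rw [← QuotientGroup.mk_pow, QuotientGroup.eq_one_iff]; exact hcon x h2
  haveI hsolvQ : Group.IsSolvable (L ⧸ Subgroup.center L) := isSolvable_of_sq_or_cube hQ
  haveI : Group.IsSolvable (Subgroup.center L) :=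
    Group.isSolvable_of_comm (fun a b => mul_comm' a b)
  have hsolv : Group.IsSolvable L :=
    Group.isSolvable_of_ker_le_range (Subgroup.center L).subtype (QuotientGroup.mk' (Subgroup.center L))
      (by rw [QuotientGroup.ker_mk', Subgroup.range_subtype])
  exact Cfsg.Agent.Helper7.quasisimple_not_isSolvable hL hsolv

/-- every member of a set of 3-transpositions closed under conjugation normalizes every
component. -/
theorem conj_smul_component_eq [Finite G] (hS : IsThreeTranspositionSet D)
    (hconj : ∀ g : G, ∀ x ∈ D, g * x * g⁻¹ ∈ D) {L : Subgroup G} (hL : Cfsg.IsComponent L)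
    {d : G} (hd : d ∈ D) : MulAut.conj d • L = L := by
  by_contra hne
  set K : Subgroup G := MulAut.conj d • L with hK
  have hKc : Cfsg.IsComponent K := Cfsg.Agent.Helper7.isComponent_conj_smul hL d
  have hLK : ⁅L, K⁆ = ⊥ :=
    Cfsg.Agent.Helper7.component_commutator_eq_bot_of_ne hL hKc (fun h => hne h.symm)
  have hcomm : ∀ x ∈ L, ∀ y ∈ K, x * y = y * x := by
    intro x hx y hy
    have := Subgroup.commutator_mem_commutator hx hy
    rw [hLK, Subgroup.mem_bot, commutatorElement_eq_one_iff_mul_comm] at this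
    exact this
  have hdi := inv_eq hS hd
  obtain ⟨x, hx2, hx3⟩ := exists_not_sq_cube_center hL.2
  have hyK : d * (x : G) * d⁻¹ ∈ K := by
    rw [hK]
    have := Subgroup.smul_mem_pointwise_smul (x : G) (MulAut.conj d) L x.2
    rwa [MulAut.smul_def, MulAut.conj_apply] at this
  set y := d * (x : G) * d⁻¹ with hy
  have hxy : (x : G)⁻¹ * y = y * (x : G)⁻¹ := hcomm _ (Subgroup.inv_mem _ x.2) y hyK
  have hprod : d * ((x : G) * d * (x : G)⁻¹) = y * (x : G)⁻¹ := by
    rw [hy]
    calc d * ((x : G) * d * (x : G)⁻¹) = d * (x : G) * d * (x : G)⁻¹ := by group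
      _ = d * (x : G) * d⁻¹ * (x : G)⁻¹ := by rw [hdi]
  have hpow : ∀ n : ℕ, (y * (x : G)⁻¹) ^ n = 1 → (x : G) ^ n = y ^ n := by
    intro n hn
    have hc : Commute y (x : G)⁻¹ := hxy.symm
    rw [hc.mul_pow, inv_pow, mul_inv_eq_one] at hn
    exact hn.symm
  have hcen : ∀ n : ℕ, (x : G) ^ n = y ^ n → x ^ n ∈ Subgroup.center ↥L := by
    intro n hn
    rw [Subgroup.mem_center_iff]
    intro l
    apply Subtype.ext
    show (l : G) * (x : G) ^ n = (x : G) ^ n * (l : G)
    rw [hn]
    exact hcomm l l.2 _ (Subgroup.pow_mem _ hyK n)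
  rcases hS.2 d hd _ (hconj x d hd) with h | h
  · rw [hprod] at h
    exact hx2 (hcen 2 (hpow 2 h))
  · rw [hprod] at h
    exact hx3 (hcen 3 (hpow 3 h))

/-- hence every component of a 3-transposition group is normal. -/
theorem component_normal [Finite G] (hS : IsThreeTranspositionSet D)
    (hconj : ∀ g : G, ∀ x ∈ D, g * x * g⁻¹ ∈ D) (hgen : Subgroup.closure D = ⊤)
    {L : Subgroup G} (hL : Cfsg.IsComponent L) : L.Normal := by
  rw [← Subgroup.normalizer_eq_top_iff, eq_top_iff, ← hgen, Subgroup.closure_le]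
  intro d hd
  have h := conj_smul_component_eq hS hconj hL hd
  rw [SetLike.mem_coe, Subgroup.mem_normalizer_iff]
  intro z
  constructor
  · intro hz
    have := Subgroup.smul_mem_pointwise_smul z (MulAut.conj d) L hz
    rwa [h, MulAut.smul_def, MulAut.conj_apply] at this
  · intro hz
    rw [← h] at hz
    have e : d * z * d⁻¹ = MulAut.conj d • z := by rw [MulAut.smul_def, MulAut.conj_apply]
    rw [e, Subgroup.smul_mem_pointwise_smul_iff] at hz
    exact hz

end Cfsg.Agent.Helper25.TT
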