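import Mathlib
import Cfsg.Agent.Lib.Helper25.TT52a
import Cfsg.Agent.S5561

/-!
# Towards S5352 (helper25): there is only one component
-/

set_option autoImplicit false

namespace Cfsg.Agent.Helper25.TT

open Cfsg
open scoped commutatorElement Pointwise

universe u

variable {G : Type u} [Group G] {D : Set G}

theorem le_normalizer_of_forall_conj_mem {L R : Subgroup G}
    (h : ∀ l ∈ L, ∀ r ∈ R, l * r * l⁻¹ ∈ R) : L ≤ Subgroup.normalizer (R : Set G) := by
  intro y hy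
  rw [Subgroup.mem_normalizer_iff]
  intro n
  constructor
  · exact h y hy n
  · intro h'
    have := h y⁻¹ (L.inv_mem hy) _ h'
    rwa [show y⁻¹ * (y * n * y⁻¹) * y⁻¹⁻¹ = n by group] at this

/-- if `d` commutes with all its `L`-conjugates then `L` centralizes `d`. -/
theorem commute_component_of_commute_conj [Finite G] {L : Subgroup G} (hL : Cfsg.IsComponent L)
    {d : G} (key : ∀ x ∈ L, Commute (x * d * x⁻¹) d) : ∀ x ∈ L, x * d = d * x := by
  set A : Subgroup G := Subgroup.closure {e | ∃ x ∈ L, e = x * d * x⁻¹} with hA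
  have hAcomm : ∀ a ∈ {e | ∃ x ∈ L, e = x * d * x⁻¹}, ∀ b ∈ {e | ∃ x ∈ L, e = x * d * x⁻¹},
      a * b = b * a := by
    rintro _ ⟨x, hx, rfl⟩ _ ⟨y, hy, rfl⟩
    have h1 := key (x⁻¹ * y) (L.mul_mem (L.inv_mem hx) hy)
    have h2 : Commute (x * ((x⁻¹ * y) * d * (x⁻¹ * y)⁻¹) * x⁻¹) (x * d * x⁻¹) := by
      show x * ((x⁻¹ * y) * d * (x⁻¹ * y)⁻¹) * x⁻¹ * (x * d * x⁻¹) =
        (x * d * x⁻¹) * (x * ((x⁻¹ * y) * d * (x⁻¹ * y)⁻¹) * x⁻¹)
      have := h1.eq
      calc x * ((x⁻¹ * y) * d * (x⁻¹ * y)⁻¹) * x⁻¹ * (x * d * x⁻¹)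
          = x * (((x⁻¹ * y) * d * (x⁻¹ * y)⁻¹) * d) * x⁻¹ := by group
        _ = x * (d * ((x⁻¹ * y) * d * (x⁻¹ * y)⁻¹)) * x⁻¹ := by rw [this]
        _ = _ := by group
    rw [show x * ((x⁻¹ * y) * d * (x⁻¹ * y)⁻¹) * x⁻¹ = y * d * y⁻¹ by group] at h2
    exact h2.eq.symm
  haveI hAc : IsMulCommutative A := Subgroup.isMulCommutative_closure hAcomm
  haveI : Group.IsSolvable ↥A := Group.isSolvable_of_comm (fun a b => mul_comm' a b)
  have hnorm : L ≤ Subgroup.normalizer (A : Set G) := by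
    apply le_normalizer_of_forall_conj_mem
    intro y hy n hn
    induction hn using Subgroup.closure_induction with
    | mem e he =>
      obtain ⟨x, hx, rfl⟩ := he
      apply Subgroup.subset_closure
      exact ⟨y * x, L.mul_mem hy hx, by group⟩
    | one => simp
    | mul a b _ _ ha hb =>
      have : y * (a * b) * y⁻¹ = (y * a * y⁻¹) * (y * b * y⁻¹) := by group
      rw [this]; exact Subgroup.mul_mem _ ha hb
    | inv a _ ha =>
      have : y * a⁻¹ * y⁻¹ = (y * a * y⁻¹)⁻¹ := by group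
      rw [this]; exact Subgroup.inv_mem _ ha
  have hcomm := Cfsg.Agent.Helper7.component_commutator_solvable_eq_bot L A hL inferInstance hnorm
  intro x hx
  have hdA : d ∈ A := Subgroup.subset_closure ⟨1, L.one_mem, by group⟩
  have h2 : ⁅x, d⁆ ∈ ⁅L, A⁆ := Subgroup.commutator_mem_commutator hx hdA
  rw [hcomm, Subgroup.mem_bot, commutatorElement_eq_one_iff_mul_comm] at h2
  exact h2

/-- if the product of `d` with each of its `L`-conjugates has order dividing 3 then `L`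
centralizes `d`. -/
theorem commute_component_of_cube_conj [Finite G] {L : Subgroup G} [hLn : L.Normal]
    (hL : Cfsg.IsComponent L) {d : G} (hd2 : orderOf d = 2)
    (key : ∀ x ∈ L, (x * d * x⁻¹ * d) ^ 3 = 1) : ∀ x ∈ L, x * d = d * x := by
  haveI : Fact (Nat.Prime 3) := ⟨Nat.prime_three⟩
  have hdd : d * d = 1 := by rw [← pow_two, ← hd2]; exact pow_orderOf_eq_one d
  have hdi : d⁻¹ = d := inv_eq_of_mul_eq_one_left hdd
  set H : Subgroup G := L ⊔ Subgroup.zpowers d with hH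
  have hLH : L ≤ H := le_sup_left
  have hdH : d ∈ H := le_sup_right (a := L) (Subgroup.mem_zpowers d)
  set d' : H := ⟨d, hdH⟩ with hd'
  have hd'2 : orderOf d' = 2 := by rw [hd', Subgroup.orderOf_mk]; exact hd2
  -- conjugates of `d'` in `H` are `L`-conjugates of `d`
  have hcj : ∀ a ∈ conjugatesOf d', ∃ l ∈ L, (a : G) = l * d * l⁻¹ := by
    intro a ha
    have ha' : IsConj d' a := ha
    rw [isConj_iff] at ha'
    obtain ⟨c, rfl⟩ := ha'
    have hc : (c : G) ∈ ((L ⊔ Subgroup.zpowers d : Subgroup G) : Set G) := c.2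
    rw [Subgroup.normal_mul] at hc
    obtain ⟨l, hl, z, hz, hlz⟩ := Set.mem_mul.mp hc
    rw [SetLike.mem_coe] at hl hz
    obtain ⟨i, rfl⟩ := Subgroup.mem_zpowers_iff.mp hz
    refine ⟨l, hl, ?_⟩
    show (c : G) * d * (c : G)⁻¹ = l * d * l⁻¹
    rw [← hlz]
    have h1 : d ^ i * d * (d ^ i)⁻¹ = d := by
      rw [← zpow_add_one, ← zpow_neg, ← zpow_add]; simp
    calc l * d ^ i * d * (l * d ^ i)⁻¹ = l * (d ^ i * d * (d ^ i)⁻¹) * l⁻¹ := by group
      _ = l * d * l⁻¹ := by rw [h1]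
  have hprod : ∀ a ∈ conjugatesOf d', ∀ b ∈ conjugatesOf d', ∃ k : ℕ, orderOf (a * b) = 3 ^ k := by
    intro a ha b hb
    obtain ⟨l, hl, hal⟩ := hcj a ha
    obtain ⟨l', hl', hbl⟩ := hcj b hb
    have h3 : (a * b) ^ 3 = 1 := by
      apply Subtype.ext
      rw [Subgroup.coe_pow, Subgroup.coe_mul, hal, hbl, Subgroup.coe_one]
      have hz := key (l'⁻¹ * l) (L.mul_mem (L.inv_mem hl') hl)
      have e : l * d * l⁻¹ * (l' * d * l'⁻¹) =
          l' * ((l'⁻¹ * l) * d * (l'⁻¹ * l)⁻¹ * d) * l'⁻¹ := by group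
      rw [e, conj_pow, hz]; group
    have hdvd := orderOf_dvd_of_pow_eq_one h3
    rcases (Nat.dvd_prime Nat.prime_three).mp hdvd with h | h
    · exact ⟨0, by rw [h, pow_zero]⟩
    · exact ⟨1, by rw [h, pow_one]⟩
  have h61 := Cfsg.Agent.S5561.result d' hd'2 hprod
  haveI hOn : (Cfsg.pCore 3 ↥H).Normal := Cfsg.pCore_normal 3 ↥H
  set R : Subgroup G := (Cfsg.pCore 3 ↥H).map H.subtype with hR
  have hp : IsPGroup 3 (Cfsg.pCore 3 ↥H) := Cfsg.Agent.Helper25.isPGroup_pCore' 3 ↥H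
  haveI : Group.IsNilpotent (Cfsg.pCore 3 ↥H) := hp.isNilpotent
  haveI : Group.IsSolvable ↥R := by
    have e := (Cfsg.pCore 3 ↥H).equivMapOfInjective H.subtype H.subtype_injective
    exact Group.isSolvable_of_isSolvable_injective (f := e.symm.toMonoidHom) e.symm.injective
  have hnorm : L ≤ Subgroup.normalizer (R : Set G) := by
    apply le_normalizer_of_forall_conj_mem
    rintro l hl _ ⟨r, hr, rfl⟩
    refine ⟨(⟨l, hLH hl⟩ : H) * r * (⟨l, hLH hl⟩ : H)⁻¹, hOn.conj_mem r hr _, rfl⟩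
  have hcomm := Cfsg.Agent.Helper7.component_commutator_solvable_eq_bot L R hL inferInstance hnorm
  have hLR : ∀ x ∈ L, ∀ r ∈ R, x * r = r * x := by
    intro x hx r hr
    have h2 : ⁅x, r⁆ ∈ ⁅L, R⁆ := Subgroup.commutator_mem_commutator hx hr
    rw [hcomm, Subgroup.mem_bot, commutatorElement_eq_one_iff_mul_comm] at h2
    exact h2
  have hperf : commutator ↥L = ⊤ := Cfsg.Agent.Helper7.quasisimple_commutator_eq_top hL.2
  have hc : ∀ x ∈ L, d * x * d⁻¹ * x⁻¹ ∈ R := by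
    intro x hx
    have h1 : d' ∈ conjugatesOf d' := mem_conjugatesOf_self
    have h2 : (⟨x, hLH hx⟩ : H) * d' * (⟨x, hLH hx⟩ : H)⁻¹ ∈ conjugatesOf d' := by
      show IsConj d' _
      rw [isConj_iff]; exact ⟨_, rfl⟩
    have h3 := h61 _ h1 _ h2
    refine ⟨_, h3, ?_⟩
    show d * (x * d * x⁻¹) = d * x * d⁻¹ * x⁻¹
    rw [hdi]; group
  have h1 := commutator_eq_one_of_perfect L R hperf hLR d hc
  intro x hx
  have := h1 x hx
  calc x * d = (d * x * d⁻¹ * x⁻¹)⁻¹ * (d * x) := by group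
    _ = d * x := by rw [this, inv_one, one_mul]

end Cfsg.Agent.Helper25.TT
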