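import Mathlib
import Cfsg.Agent.Lib.Helper25.ThreeTransp1

/-!
# Blocks of imprimitivity for the conjugation action on a set of 3-transpositions (helper25)
-/

set_option autoImplicit false

namespace Cfsg.Agent.Helper25.TT

open Cfsg

variable {G : Type*} [Group G] {D B : Set G}

/-- the conjugate `g B g⁻¹` of a set. -/
def cj (g : G) (B : Set G) : Set G := (fun x => g * x * g⁻¹) '' B

theorem mem_cj {g x : G} {B : Set G} : x ∈ cj g B ↔ g⁻¹ * x * g ∈ B := by
  unfold cj
  constructor
  · rintro ⟨y, hy, rfl⟩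
    have : g⁻¹ * (g * y * g⁻¹) * g = y := by group
    rw [this]; exact hy
  · intro h
    exact ⟨g⁻¹ * x * g, h, by group⟩

theorem conj_mem_cj {g x : G} {B : Set G} (hx : x ∈ B) : g * x * g⁻¹ ∈ cj g B :=
  ⟨x, hx, rfl⟩

theorem cj_one (B : Set G) : cj 1 B = B := by
  ext x; rw [mem_cj]; simp

theorem cj_mul (g h : G) (B : Set G) : cj (g * h) B = cj g (cj h B) := by
  ext x
  rw [mem_cj, mem_cj, mem_cj]
  have : (g * h)⁻¹ * x * (g * h) = h⁻¹ * (g⁻¹ * x * g) * h := by group
  rw [this]

/-- `B` is a block for the conjugation action. -/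
def IsBlk (B : Set G) : Prop := ∀ g : G, cj g B = B ∨ Disjoint (cj g B) B

theorem IsBlk.cj_eq_of_mem (hB : IsBlk B) {g x : G} (h1 : x ∈ cj g B) (h2 : x ∈ B) :
    cj g B = B := by
  rcases hB g with h | h
  · exact h
  · exact absurd h2 (Set.disjoint_left.mp h h1)

theorem IsBlk.eq_of_mem (hB : IsBlk B) {g h x : G} (hg : x ∈ cj g B) (hh : x ∈ cj h B) :
    cj g B = cj h B := by
  have h1 : h⁻¹ * x * h ∈ B := mem_cj.mp hh
  have h2 : h⁻¹ * x * h ∈ cj (h⁻¹ * g) B := by
    rw [cj_mul, mem_cj]
    have : h⁻¹⁻¹ * (h⁻¹ * x * h) * h⁻¹ = x := by group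
    rw [this]; exact hg
  have h3 := hB.cj_eq_of_mem h2 h1
  have : g = h * (h⁻¹ * g) := by group
  rw [this, cj_mul, h3]

/-- the kernel of the action on the conjugates of `B`. -/
def blockKernel (B : Set G) : Subgroup G where
  carrier := {k | ∀ g : G, cj (k * g) B = cj g B}
  one_mem' := by intro g; rw [one_mul]
  mul_mem' := by
    intro k k' hk hk' g
    rw [mul_assoc, hk (k' * g), hk' g]
  inv_mem' := by
    intro k hk g
    have := hk (k⁻¹ * g)
    rw [mul_inv_cancel_left] at this
    exact this.symm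

theorem mem_blockKernel {k : G} : k ∈ blockKernel B ↔ ∀ g : G, cj (k * g) B = cj g B := Iff.rfl

instance blockKernel_normal : (blockKernel B).Normal := by
  constructor
  intro k hk n g
  have h1 : n * k * n⁻¹ * g = n * (k * (n⁻¹ * g)) := by group
  rw [h1, cj_mul, hk (n⁻¹ * g), ← cj_mul, mul_inv_cancel_left]

/-- an element commuting with a member of a block fixes the block. -/
theorem IsBlk.cj_eq_of_commute (hB : IsBlk B) {g y a : G} (ha : a ∈ cj g B) (hc : Commute y a) :
    cj (y * g) B = cj g B := by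
  apply hB.eq_of_mem (x := a) _ ha
  rw [cj_mul, mem_cj]
  have : y⁻¹ * a * y = a := by rw [mul_assoc, ← hc.eq, inv_mul_cancel_left]
  rw [this]; exact ha

theorem IsBlk.cj_eq_of_commute' (hB : IsBlk B) {y a : G} (ha : a ∈ B) (hc : Commute y a) :
    cj y B = B := by
  have ha' : a ∈ cj 1 B := by rw [cj_one]; exact ha
  have := hB.cj_eq_of_commute ha' hc
  rwa [mul_one, cj_one] at this

/-- two members of a block of 3-transpositions act in the same way on the block system. -/
theorem exists_block_conj (hS : IsThreeTranspositionSet D) (hB : IsBlk B) (hBD : B ⊆ D)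
    (hcover : ∀ y ∈ D, ∃ h : G, y ∈ cj h B) {a b : G} (ha : a ∈ B) (hb : b ∈ B)
    {y : G} (hy : y ∈ D) : ∃ h : G, a * y * a⁻¹ ∈ cj h B ∧ b * y * b⁻¹ ∈ cj h B := by
  have haD := hBD ha
  have hbD := hBD hb
  have hai := inv_eq hS haD
  have hbi := inv_eq hS hbD
  have hyi := inv_eq hS hy
  have hBa : cj a B = B := hB.cj_eq_of_commute' ha (Commute.refl a)
  have hBb : cj b B = B := hB.cj_eq_of_commute' hb (Commute.refl b)
  by_cases hya : Commute y a
  · have e1 : a * y * a⁻¹ = y := by rw [← hya.eq, mul_inv_cancel_right]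
    by_cases hyb : Commute y b
    · have e2 : b * y * b⁻¹ = y := by rw [← hyb.eq, mul_inv_cancel_right]
      obtain ⟨h, hh⟩ := hcover y hy
      exact ⟨h, by rw [e1]; exact hh, by rw [e2]; exact hh⟩
    · -- `y` fixes `B`, so `b y b = y b y ∈ B`
      have hBy : cj y B = B := hB.cj_eq_of_commute' ha hya
      have h1 : y * b * y⁻¹ ∈ B := by
        have := conj_mem_cj (g := y) hb
        rwa [hBy] at this
      have hbr : b * y * b = y * b * y := braid hS hbD hy (fun h => hyb h.symm)
      have h2 : b * y * b⁻¹ ∈ B := by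
        rw [hbi, hbr]; rw [hyi] at h1; exact h1
      have h3 : y ∈ B := by
        have := conj_mem_cj (g := b) h2
        rw [hBb] at this
        have e : b * (b * y * b⁻¹) * b⁻¹ = y := by
          rw [hbi]
          calc b * (b * y * b) * b = (b * b) * y * (b * b) := by group
            _ = y := by rw [mul_self hS hbD, one_mul, mul_one]
        rwa [e] at this
      refine ⟨1, ?_, ?_⟩
      · rw [cj_one, e1]; exact h3
      · rw [cj_one]; exact h2
  · by_cases hyb : Commute y b
    · have e2 : b * y * b⁻¹ = y := by rw [← hyb.eq, mul_inv_cancel_right]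
      have hBy : cj y B = B := hB.cj_eq_of_commute' hb hyb
      have h1 : y * a * y⁻¹ ∈ B := by
        have := conj_mem_cj (g := y) ha
        rwa [hBy] at this
      have hbr : a * y * a = y * a * y := braid hS haD hy (fun h => hya h.symm)
      have h2 : a * y * a⁻¹ ∈ B := by
        rw [hai, hbr]; rw [hyi] at h1; exact h1
      have h3 : y ∈ B := by
        have := conj_mem_cj (g := a) h2
        rw [hBa] at this
        have e : a * (a * y * a⁻¹) * a⁻¹ = y := by
          rw [hai]
          calc a * (a * y * a) * a = (a * a) * y * (a * a) := by group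
            _ = y := by rw [mul_self hS haD, one_mul, mul_one]
        rwa [e] at this
      refine ⟨1, ?_, ?_⟩
      · rw [cj_one]; exact h2
      · rw [cj_one, e2]; exact h3
    · have hbra : a * y * a = y * a * y := braid hS haD hy (fun h => hya h.symm)
      have hbrb : b * y * b = y * b * y := braid hS hbD hy (fun h => hyb h.symm)
      refine ⟨y, ?_, ?_⟩
      · rw [hai, hbra]
        have := conj_mem_cj (g := y) ha
        rwa [hyi] at this
      · rw [hbi, hbrb]
        have := conj_mem_cj (g := y) hb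
        rwa [hyi] at this

/-- the product of two members of a block lies in the kernel of the action on blocks. -/
theorem mul_mem_blockKernel (hS : IsThreeTranspositionSet D)
    (hconj : ∀ g : G, ∀ x ∈ D, g * x * g⁻¹ ∈ D) (hB : IsBlk B) (hBD : B ⊆ D)
    (hcover : ∀ y ∈ D, ∃ h : G, y ∈ cj h B) {a b : G} (ha : a ∈ B) (hb : b ∈ B) :
    a * b ∈ blockKernel B := by
  intro g
  have haD := hBD ha
  have hbD := hBD hb
  have hbi := inv_eq hS hbD
  set y := g * a * g⁻¹ with hy
  have hyD : y ∈ D := hconj g a haD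
  have hyg : y ∈ cj g B := conj_mem_cj ha
  have hy'D : b * y * b⁻¹ ∈ D := hconj b y hyD
  obtain ⟨h, h1, h2⟩ := exists_block_conj hS hB hBD hcover ha hb hy'D
  have e2 : b * (b * y * b⁻¹) * b⁻¹ = y := by
    rw [hbi]
    calc b * (b * y * b) * b = (b * b) * y * (b * b) := by group
      _ = y := by rw [mul_self hS hbD, one_mul, mul_one]
  rw [e2] at h2
  have hgh : cj g B = cj h B := hB.eq_of_mem hyg h2
  apply hB.eq_of_mem (x := a * (b * y * b⁻¹) * a⁻¹)
  · have : a * (b * y * b⁻¹) * a⁻¹ = (a * b * g) * a * (a * b * g)⁻¹ := by rw [hy]; group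
    rw [this]; exact conj_mem_cj ha
  · rw [hgh]; exact h1

end Cfsg.Agent.Helper25.TT
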