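import Mathlib
import Cfsg.Prelude.Def_FischerSpaces
import Cfsg.Agent.Lib.Helper25.TT53a
import Cfsg.Agent.Lib.Helper25.TT53b

/-!
# S5353 (helper25): primitivity and connectedness of the commuting graph
-/

set_option autoImplicit false

namespace Cfsg.Agent.Helper25.TT

open Cfsg
open scoped commutatorElement

variable {G : Type*} [Group G] {D : Set G}

/-- `L` of index at most 2 gives primitivity. -/
theorem primitive_of_index_le_two [Finite G] (hD : IsThreeTranspositionClass D)
    (hD2 : ∃ a ∈ D, ∃ b ∈ D, a ≠ b) (h2 : Cfsg.pCore 2 G ≤ Subgroup.center G)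
    (L : Subgroup G) [L.Normal] (hL : Cfsg.IsQuasisimple L)
    (hC : Subgroup.centralizer (L : Set G) ≤ Subgroup.center G) (hidx : L.index ≤ 2) :
    Cfsg.IsPrimitiveUnderConj D := by
  have hS := hD.1
  have hgen := hD.2.2
  have hconj : ∀ g : G, ∀ x ∈ D, g * x * g⁻¹ ∈ D := fun g x hx => conj_mem hD g hx
  refine ⟨fun a ha b hb => isConj_of_mem hD ha hb, hD2, ?_⟩
  intro B hBD hblk
  have hB : IsBlk B := hblk
  by_contra hcon
  push Not at hcon
  obtain ⟨hns, hne⟩ := hcon
  obtain ⟨a, ha, b, hb, hab⟩ := hns
  have haD := hBD ha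
  have hbD := hBD hb
  have hcover : ∀ y ∈ D, ∃ h : G, y ∈ cj h B := by
    intro y hy
    obtain ⟨g, rfl⟩ := isConj_of_mem hD haD hy
    exact ⟨g, conj_mem_cj ha⟩
  have hK : a * b ∈ blockKernel B := mul_mem_blockKernel hS hconj hB hBD hcover ha hb
  rcases normal_le_or_le_center L hL hC (blockKernel B) with hLK | hKZ
  · apply hne
    have hLg : ∀ l ∈ L, cj l B = B := by
      intro l hl
      have := hLK hl (1 : G)
      rwa [mul_one, cj_one] at this
    have hBa : cj a B = B := hB.cj_eq_of_commute' ha (Commute.refl a)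
    have hstab : ∀ g : G, cj g B = B := by
      intro g
      by_cases hgL : g ∈ L
      · exact hLg g hgL
      by_cases haL : a ∈ L
      · exfalso
        apply hgL
        have h1 : Subgroup.closure D ≤ L := by
          rw [Subgroup.closure_le]
          intro x hx
          obtain ⟨k, rfl⟩ := isConj_of_mem hD haD hx
          exact (inferInstance : L.Normal).conj_mem a haL k
        rw [hgen] at h1
        exact h1 (Subgroup.mem_top g)
      · have hi0 : L.index ≠ 0 := Subgroup.index_ne_zero_of_finite
        have hi1 : L.index ≠ 1 := by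
          intro h
          rw [Subgroup.index_eq_one] at h
          apply hgL; rw [h]; exact Subgroup.mem_top g
        have hi2 : L.index = 2 := by omega
        have hmem : a⁻¹ * g ∈ L := by
          rw [Subgroup.mul_mem_iff_of_index_two hi2]
          constructor
          · intro h; exact absurd ((Subgroup.inv_mem_iff L).mp h) haL
          · intro h; exact absurd h hgL
        have : g = a * (a⁻¹ * g) := by group
        rw [this, cj_mul, hLg _ hmem, hBa]
    apply Set.Subset.antisymm hBD
    intro x hx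
    obtain ⟨g, rfl⟩ := isConj_of_mem hD haD hx
    rw [← hstab g]
    exact conj_mem_cj ha
  · -- `a b` central: then `b` is equivalent to `a`
    have hz := hKZ hK
    rw [Subgroup.mem_center_iff] at hz
    have hai := inv_eq hS haD
    have hsim : ∀ e ∈ D, Commute b e ↔ Commute a e := by
      intro e _
      have hb' : b = a * (a * b) := by
        rw [← mul_assoc, mul_self hS haD, one_mul]
      constructor
      · intro h
        unfold Commute SemiconjBy at h ⊢
        have h1 : a * (a * b) * e = e * (a * (a * b)) := by rw [← hb']; exact h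
        have h2 : a * (a * b) * e = a * e * (a * b) := by
          rw [mul_assoc, ← hz e, ← mul_assoc]
        have h3 : e * (a * (a * b)) = e * a * (a * b) := by rw [mul_assoc]
        rw [h2, h3] at h1
        exact mul_right_cancel h1
      · intro h
        unfold Commute SemiconjBy at h ⊢
        rw [hb']
        calc a * (a * b) * e = a * e * (a * b) := by rw [mul_assoc, ← hz e, ← mul_assoc]
          _ = e * a * (a * b) := by rw [h]
          _ = e * (a * (a * b)) := by rw [mul_assoc]
    have h49 := (Cfsg.Agent.S5349.result hD hD2 haD).2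
    have hmem : b ∈ {v : G | v ∈ D ∧ ∀ e ∈ D, Commute v e ↔ Commute a e} := ⟨hbD, hsim⟩
    rw [h49] at hmem
    obtain ⟨g, hg, hbg⟩ := hmem
    have hgz := h2 hg
    rw [Subgroup.mem_center_iff] at hgz
    apply hab
    rw [hbg, ← hgz a, mul_inv_cancel_right]

/-- adjacent members of the commuting graph are congruent modulo `L`. -/
theorem inv_mul_mem_of_commute [Finite G] (hD : IsThreeTranspositionClass D)
    (hD2 : ∃ a ∈ D, ∃ b ∈ D, a ≠ b)
    (L : Subgroup G) [hLn : L.Normal] (hL : Cfsg.IsQuasisimple L)
    (hC : Subgroup.centralizer (L : Set G) ≤ Subgroup.center G) {a b : G} (ha : a ∈ D)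
    (hb : b ∈ D) (hab : Commute a b) : a⁻¹ * b ∈ L := by
  have hS := hD.1
  have hconj : ∀ g : G, ∀ x ∈ D, g * x * g⁻¹ ∈ D := fun g x hx => conj_mem hD g hx
  have hai := inv_eq hS ha
  have hbi := inv_eq hS hb
  have hncen : ∀ x ∈ D, x ∉ Subgroup.center G := by
    intro x hx hxz
    obtain ⟨e, -, hne⟩ := exists_not_commute hD hD2 hx
    rw [Subgroup.mem_center_iff] at hxz
    exact hne (hxz e).symm
  by_cases hcase : ∃ l ∈ L, ¬ Commute (l * a * l⁻¹) b
  · obtain ⟨l, hl, hnc⟩ := hcase
    set c := l * a * l⁻¹ with hc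
    have hcD : c ∈ D := hconj l a ha
    have hbr : c * b * c = b * c * b := braid hS hcD hb hnc
    rw [← QuotientGroup.eq]
    have hca : ((c : G) : G ⧸ L) = ((a : G) : G ⧸ L) := by
      rw [QuotientGroup.eq]
      have : c⁻¹ * a = l * (a⁻¹ * l⁻¹ * a) := by rw [hc]; group
      rw [this]
      refine Subgroup.mul_mem _ hl ?_
      have := hLn.conj_mem l⁻¹ (Subgroup.inv_mem _ hl) a⁻¹
      rwa [inv_inv] at this
    have h1 : ((c * b * c : G) : G ⧸ L) = ((b * c * b : G) : G ⧸ L) := by rw [hbr]
    simp only [QuotientGroup.mk_mul, hca] at h1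
    have hab' : ((a : G) : G ⧸ L) * ((b : G) : G ⧸ L) = ((b : G) : G ⧸ L) * ((a : G) : G ⧸ L) := by
      rw [← QuotientGroup.mk_mul, ← QuotientGroup.mk_mul, hab.eq]
    have haa : ((a : G) : G ⧸ L) * ((a : G) : G ⧸ L) = 1 := by
      rw [← QuotientGroup.mk_mul, mul_self hS ha]; rfl
    have hbb : ((b : G) : G ⧸ L) * ((b : G) : G ⧸ L) = 1 := by
      rw [← QuotientGroup.mk_mul, mul_self hS hb]; rfl
    have h3 : ((a : G) : G ⧸ L) * ((b : G) : G ⧸ L) * ((a : G) : G ⧸ L) = ((b : G) : G ⧸ L) := by
      rw [hab', mul_assoc, haa, mul_one]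
    have h4 : ((b : G) : G ⧸ L) * ((a : G) : G ⧸ L) * ((b : G) : G ⧸ L) = ((a : G) : G ⧸ L) := by
      rw [← hab', mul_assoc, hbb, mul_one]
    rw [h3, h4] at h1
    exact h1.symm
  · exfalso
    push Not at hcase
    set N : Subgroup G := Subgroup.closure {x | ∃ l ∈ L, x = l * a * l⁻¹ * a⁻¹} with hN
    have hgenL : ∀ l ∈ L, l * a * l⁻¹ * a⁻¹ ∈ L := by
      intro l hl
      have h1 := hLn.conj_mem l⁻¹ (Subgroup.inv_mem _ hl) a
      have : l * a * l⁻¹ * a⁻¹ = l * (a * l⁻¹ * a⁻¹) := by group
      rw [this]; exact Subgroup.mul_mem _ hl h1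
    have hNL : N ≤ L := by
      rw [hN, Subgroup.closure_le]
      rintro x ⟨l, hl, rfl⟩
      exact hgenL l hl
    have hbN : ∀ n ∈ N, n * b = b * n := by
      intro n hn
      have : N ≤ Subgroup.centralizer {b} := by
        rw [hN, Subgroup.closure_le]
        rintro x ⟨l, hl, rfl⟩
        rw [SetLike.mem_coe, Subgroup.mem_centralizer_iff]
        intro y hy
        rw [Set.mem_singleton_iff] at hy
        subst hy
        have h1 := (hcase l hl).eq
        rw [hai]
        calc y * (l * a * l⁻¹ * a) = (y * (l * a * l⁻¹)) * a := by group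
          _ = ((l * a * l⁻¹) * y) * a := by rw [h1]
          _ = (l * a * l⁻¹) * (y * a) := by group
          _ = (l * a * l⁻¹) * (a * y) := by rw [hab.eq]
          _ = l * a * l⁻¹ * a * y := by group
      have h2 := this hn
      rw [Subgroup.mem_centralizer_iff] at h2
      exact (h2 b rfl).symm
    have hsub : ∀ k ∈ L, ∀ n ∈ N, k * n * k⁻¹ ∈ N := by
      intro k hk n hn
      rw [hN] at hn
      induction hn using Subgroup.closure_induction with
      | mem x hx =>
        obtain ⟨l, hl, rfl⟩ := hx
        have e : k * (l * a * l⁻¹ * a⁻¹) * k⁻¹ =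
            ((k * l) * a * (k * l)⁻¹ * a⁻¹) * (k * a * k⁻¹ * a⁻¹)⁻¹ := by group
        rw [e]
        refine Subgroup.mul_mem _ ?_ (Subgroup.inv_mem _ ?_)
        · exact Subgroup.subset_closure ⟨k * l, Subgroup.mul_mem _ hk hl, rfl⟩
        · exact Subgroup.subset_closure ⟨k, hk, rfl⟩
      | one => simp
      | mul x y _ _ hx hy =>
        have e : k * (x * y) * k⁻¹ = (k * x * k⁻¹) * (k * y * k⁻¹) := by group
        rw [e]; exact Subgroup.mul_mem _ hx hy
      | inv x _ hx =>
        have e : k * x⁻¹ * k⁻¹ = (k * x * k⁻¹)⁻¹ := by group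
        rw [e]; exact Subgroup.inv_mem _ hx
    haveI hNn : (N.subgroupOf L).Normal := by
      constructor
      intro n hn k
      rw [Subgroup.mem_subgroupOf] at hn ⊢
      exact hsub k k.2 n hn
    rcases Cfsg.Agent.Helper7.quasisimple_normal_eq_top_or_le_center hL (N.subgroupOf L) with h | h
    · rw [Subgroup.subgroupOf_eq_top] at h
      apply hncen b hb
      apply hC
      rw [Subgroup.mem_centralizer_iff]
      intro y hy
      exact hbN y (h hy)
    · have hLR : ∀ x ∈ L, ∀ r ∈ N, x * r = r * x := by
        intro x hx r hr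
        have h1 : (⟨r, hNL hr⟩ : L) ∈ N.subgroupOf L := by
          rw [Subgroup.mem_subgroupOf]; exact hr
        have h2 := h h1
        rw [Subgroup.mem_center_iff] at h2
        have := congrArg Subtype.val (h2 ⟨x, hx⟩)
        exact this
      haveI : Group.IsSolvable N := by
        apply Group.isSolvable_of_comm
        intro r s
        apply Subtype.ext
        exact hLR r (hNL r.2) s s.2
      have hperf : commutator ↥L = ⊤ := Cfsg.Agent.Helper7.quasisimple_commutator_eq_top hL
      have hc : ∀ x ∈ L, a * x * a⁻¹ * x⁻¹ ∈ N := by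
        intro x hx
        have e : a * x * a⁻¹ * x⁻¹ = (x * a * x⁻¹ * a⁻¹)⁻¹ := by group
        rw [e]
        exact Subgroup.inv_mem _ (Subgroup.subset_closure ⟨x, hx, rfl⟩)
      have h1 := commutator_eq_one_of_perfect L N hperf hLR a hc
      apply hncen a ha
      apply hC
      rw [Subgroup.mem_centralizer_iff]
      intro y hy
      have := h1 y hy
      calc y * a = (a * y * a⁻¹ * y⁻¹)⁻¹ * (a * y) := by group
        _ = a * y := by rw [this, inv_one, one_mul]

end Cfsg.Agent.Helper25.TT
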