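import Mathlib
import Cfsg.Agent.Lib.Helper25.TT52b
import Cfsg.Agent.Lib.Helper25.TT53c

/-!
# S5352 (helper25): assembly
-/

set_option autoImplicit false

namespace Cfsg.Agent.Helper25.TT

open Cfsg
open scoped commutatorElement Pointwise

universe u

variable {G : Type u} [Group G] {D : Set G}

/-- of two distinct normal components, a 3-transposition centralizes one. -/
theorem commute_component_of_two [Finite G] (hS : IsThreeTranspositionSet D)
    (hconj : ∀ g : G, ∀ x ∈ D, g * x * g⁻¹ ∈ D) {L K : Subgroup G} [hLn : L.Normal]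
    [hKn : K.Normal] (hL : Cfsg.IsComponent L) (hK : Cfsg.IsComponent K) (hne : L ≠ K)
    {d : G} (hd : d ∈ D) : (∀ x ∈ L, x * d = d * x) ∨ (∀ k ∈ K, k * d = d * k) := by
  by_cases hk : ∀ k ∈ K, k * d = d * k
  · right; exact hk
  left
  push Not at hk
  obtain ⟨k₀, hk₀, hk₀d⟩ := hk
  have hdd := mul_self hS hd
  have hdi := inv_eq hS hd
  have hLK : ⁅L, K⁆ = ⊥ := Cfsg.Agent.Helper7.component_commutator_eq_bot_of_ne hL hK hne
  have hcomm : ∀ x ∈ L, ∀ y ∈ K, x * y = y * x := by
    intro x hx y hy
    have := Subgroup.commutator_mem_commutator hx hy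
    rw [hLK, Subgroup.mem_bot, commutatorElement_eq_one_iff_mul_comm] at this
    exact this
  set e := k₀ * d * k₀⁻¹ with he
  have heD : e ∈ D := hconj k₀ d hd
  set v := d * e with hv
  have hvK : v ∈ K := by
    have : v = (d * k₀ * d⁻¹) * k₀⁻¹ := by rw [hv, he, hdi]; group
    rw [this]
    exact K.mul_mem (hKn.conj_mem k₀ hk₀ d) (K.inv_mem hk₀)
  have hv1 : v ≠ 1 := by
    intro h
    apply hk₀d
    have h1 : e = d := by
      have : e = d⁻¹ * v := by rw [hv, inv_mul_cancel_left]
      rw [this, h, mul_one, hdi]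
    calc k₀ * d = (k₀ * d * k₀⁻¹) * k₀ := by group
      _ = d * k₀ := by rw [← he, h1]
  have hv23 := hS.2 d hd e heD
  have hu : ∀ x ∈ L, x * d * x⁻¹ * d ∈ L := by
    intro x hx
    have : x * d * x⁻¹ * d = x * (d * x⁻¹ * d⁻¹) := by rw [hdi]; group
    rw [this]
    exact L.mul_mem hx (hLn.conj_mem _ (L.inv_mem hx) d)
  have huv : ∀ x ∈ L, (x * d * x⁻¹ * d) * v = (x * d * x⁻¹) * e := by
    intro x _
    rw [hv]
    calc x * d * x⁻¹ * d * (d * e) = x * d * x⁻¹ * (d * d) * e := by group
      _ = x * d * x⁻¹ * e := by rw [hdd, mul_one]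
  have hpow : ∀ x ∈ L, ∀ n : ℕ, ((x * d * x⁻¹) * e) ^ n = (x * d * x⁻¹ * d) ^ n * v ^ n := by
    intro x hx n
    rw [← huv x hx]
    have hc : Commute (x * d * x⁻¹ * d) v := hcomm _ (hu x hx) v hvK
    exact hc.mul_pow n
  rcases hv23 with hv2 | hv3
  · -- `v` an involution: all `u` square to one
    apply commute_component_of_commute_conj hL
    intro x hx
    have hxD : x * d * x⁻¹ ∈ D := hconj x d hd
    apply commute_of_sq hS hxD hd
    rcases hS.2 _ hxD d hd with h2 | h3
    · exact h2
    · rcases hS.2 _ hxD e heD with h2' | h3'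
      · rw [hpow x hx 2, hv2, mul_one] at h2'
        exact h2'
      · exfalso
        rw [hpow x hx 3, h3, one_mul] at h3'
        apply hv1
        calc v = v ^ 3 * (v ^ 2)⁻¹ := by group
          _ = 1 := by rw [h3', hv2]; simp
  · -- `v` of order 3: all `u` cube to one
    apply commute_component_of_cube_conj hL (hS.1 d hd)
    intro x hx
    have hxD : x * d * x⁻¹ ∈ D := hconj x d hd
    rcases hS.2 _ hxD d hd with h2 | h3
    · rcases hS.2 _ hxD e heD with h2' | h3'
      · exfalso
        rw [hpow x hx 2, h2, one_mul] at h2'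
        apply hv1
        calc v = v ^ 3 * (v ^ 2)⁻¹ := by group
          _ = 1 := by rw [h2', hv3]; simp
      · rw [hpow x hx 3, hv3, mul_one] at h3'
        exact h3'
    · exact h3

/-- a normal component is not centralized by a member of a generating class. -/
theorem component_not_centralized [Finite G] (hD : IsThreeTranspositionClass D)
    {L : Subgroup G} [hLn : L.Normal] (hL : Cfsg.IsComponent L) {d : G} (hd : d ∈ D)
    (h : ∀ x ∈ L, x * d = d * x) : False := by
  have hgen := hD.2.2
  have hall : ∀ e ∈ D, ∀ x ∈ L, x * e = e * x := by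
    intro e he x hx
    obtain ⟨g, rfl⟩ := isConj_of_mem hD hd he
    have h1 := h (g⁻¹ * x * g) (by
      have := hLn.conj_mem x hx g⁻¹
      rwa [inv_inv] at this)
    calc x * (g * d * g⁻¹) = g * ((g⁻¹ * x * g) * d) * g⁻¹ := by group
      _ = g * (d * (g⁻¹ * x * g)) * g⁻¹ := by rw [h1]
      _ = g * d * g⁻¹ * x := by group
  have hLc : L ≤ Subgroup.center G := by
    intro x hx
    rw [Subgroup.mem_center_iff]
    have h1 : Subgroup.closure D ≤ Subgroup.centralizer {x} := by
      rw [Subgroup.closure_le]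
      intro e he
      rw [SetLike.mem_coe, Subgroup.mem_centralizer_iff]
      intro y hy
      rw [Set.mem_singleton_iff] at hy
      subst hy
      exact hall e he y hx
    rw [hgen] at h1
    intro g
    have := h1 (Subgroup.mem_top g)
    rw [Subgroup.mem_centralizer_iff] at this
    exact (this x rfl).symm
  have h2 : ⁅L, L⁆ = ⊥ := by
    rw [eq_bot_iff, Subgroup.commutator_le]
    intro a ha b hb
    rw [Subgroup.mem_bot, commutatorElement_eq_one_iff_mul_comm]
    have := hLc hb
    rw [Subgroup.mem_center_iff] at this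
    exact (this a)
  rw [Cfsg.Agent.Helper7.component_perfect hL] at h2
  exact Cfsg.Agent.Helper7.component_ne_bot hL h2

/-- **S5352.** -/
theorem exists_quasisimple_normal [Finite G] (hD : IsThreeTranspositionClass D)
    (hD2 : ∃ a ∈ D, ∃ b ∈ D, a ≠ b) (h2 : Cfsg.pCore 2 G ≤ Subgroup.center G)
    (h3 : Cfsg.pCore 3 G ≤ Subgroup.center G) :
    ∃ L : Subgroup G, L.Normal ∧ Cfsg.IsQuasisimple L ∧
      Cfsg.generalizedFittingSubgroup G = L ⊔ Subgroup.center G ∧
      (L = ⊤ ∨ ∀ a ∈ D, ∀ b ∈ D, a * b * a⁻¹ * b⁻¹ ∈ L → a⁻¹ * b ∈ L) := by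
  have hS := hD.1
  have hgen := hD.2.2
  have hconj : ∀ g : G, ∀ x ∈ D, g * x * g⁻¹ ∈ D := fun g x hx => conj_mem hD g hx
  have hE : Cfsg.layer G ≠ ⊥ := by
    rcases (Cfsg.Agent.S5351.result hD hD2).2 with h | h | h
    · exact absurd h2 h.1
    · exact absurd h3 h.2.1
    · exact h.2.2
  rw [Ne, Cfsg.Agent.Helper7.layer_eq_bot_iff] at hE
  push Not at hE
  obtain ⟨L, hL⟩ := hE
  haveI hLn : L.Normal := component_normal hS hconj hgen hL
  have huniq : ∀ K : Subgroup G, Cfsg.IsComponent K → K = L := by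
    intro K hK
    by_contra hne
    haveI hKn : K.Normal := component_normal hS hconj hgen hK
    obtain ⟨d, hd, -⟩ := hD2
    rcases commute_component_of_two hS hconj hL hK (fun h => hne h.symm) hd with h | h
    · exact component_not_centralized hD hL hd h
    · exact component_not_centralized hD hK hd h
  have hlayer : Cfsg.layer G = L := by
    apply le_antisymm
    · unfold Cfsg.layer
      exact sSup_le fun K hK => (huniq K hK).le
    · exact Cfsg.Agent.Helper7.component_le_layer hL
  have hFit := fitting_le_center_of_class hD hD2 h2 h3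
  have hFit' : Cfsg.fittingSubgroup G = Subgroup.center G := by
    apply le_antisymm hFit
    exact Cfsg.Agent.Helper7.le_fittingSubgroup (Subgroup.center G)
      (Cfsg.Agent.Helper7.isNilpotent_of_isMulCommutative _)
  have hF : Cfsg.generalizedFittingSubgroup G = L ⊔ Subgroup.center G := by
    unfold Cfsg.generalizedFittingSubgroup
    rw [hlayer, hFit']
  have hC := centralizer_le_center_of_fstar hFit L hF
  refine ⟨L, hLn, hL.2, hF, Or.inr ?_⟩
  intro a ha b hb hab
  by_cases hc : Commute a b
  · exact inv_mul_mem_of_commute hD hD2 L hL.2 hC ha hb hc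
  · have h3' := cube_of_not_commute hS ha hb hc
    have hai := inv_eq hS ha
    have hbi := inv_eq hS hb
    have e1 : a * b * a⁻¹ * b⁻¹ = (a * b) ^ 2 := by rw [hai, hbi, pow_two]; group
    have e2 : a⁻¹ * b = ((a * b) ^ 2)⁻¹ := by
      rw [hai, eq_inv_iff_mul_eq_one, ← pow_succ']; exact h3'
    rw [e2]
    rw [e1] at hab
    exact L.inv_mem hab

end Cfsg.Agent.Helper25.TT
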