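import Mathlib
import Cfsg.Agent.Lib.Helper25.TT53c

/-!
# S5353 (helper25): connected commuting graph gives index at most 2
-/

set_option autoImplicit false

namespace Cfsg.Agent.Helper25.TT

open Cfsg

variable {G : Type*} [Group G] {D : Set G}

/-- if all members of `D` are congruent modulo `L` then `L` has index at most 2. -/
theorem index_le_two_of_congr [Finite G] (hS : IsThreeTranspositionSet D)
    (hgen : Subgroup.closure D = ⊤) (L : Subgroup G) [hLn : L.Normal] {d : G} (hd : d ∈ D)
    (h : ∀ x ∈ D, d⁻¹ * x ∈ L) : L.index ≤ 2 := by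
  set π := QuotientGroup.mk' L with hπ
  have h1 : Subgroup.closure D ≤ (Subgroup.zpowers (π d)).comap π := by
    rw [Subgroup.closure_le]
    intro x hx
    rw [SetLike.mem_coe, Subgroup.mem_comap]
    have : π x = π d := by
      rw [hπ, QuotientGroup.mk'_apply, QuotientGroup.mk'_apply, eq_comm, QuotientGroup.eq]
      exact h x hx
    rw [this]
    exact Subgroup.mem_zpowers _
  rw [hgen] at h1
  have h2 : Subgroup.zpowers (π d) = ⊤ := by
    rw [eq_top_iff]
    intro q _
    obtain ⟨g, rfl⟩ := QuotientGroup.mk'_surjective L q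
    exact h1 (Subgroup.mem_top g)
  have h3 : L.index = orderOf (π d) := by
    rw [Subgroup.index_eq_card, ← Nat.card_zpowers, h2, Subgroup.card_top]
  rw [h3]
  apply orderOf_le_of_pow_eq_one (by norm_num)
  rw [← map_pow, pow_two, mul_self hS hd, map_one]

/-- connected commuting graph gives index at most 2. -/
theorem index_le_two_of_connected [Finite G] (hD : IsThreeTranspositionClass D)
    (hD2 : ∃ a ∈ D, ∃ b ∈ D, a ≠ b)
    (L : Subgroup G) [hLn : L.Normal] (hL : Cfsg.IsQuasisimple L)
    (hC : Subgroup.centralizer (L : Set G) ≤ Subgroup.center G)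
    (hconn : (Cfsg.commutingGraph D).Connected) : L.index ≤ 2 := by
  have hS := hD.1
  have key : ∀ (u v : D), (Cfsg.commutingGraph D).Walk u v → (u : G)⁻¹ * (v : G) ∈ L := by
    intro u v w
    induction w with
    | nil => simp
    | @cons u v w hadj _ ih =>
      have hadj' := hadj
      unfold Cfsg.commutingGraph at hadj'
      rw [SimpleGraph.fromRel_adj] at hadj'
      have hc : Commute (u : G) (v : G) := by
        rcases hadj'.2 with h | h
        · exact h
        · exact h.symm
      have h1 := inv_mul_mem_of_commute hD hD2 L hL hC u.2 v.2 hc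
      have e : (u : G)⁻¹ * (w : G) = ((u : G)⁻¹ * (v : G)) * ((v : G)⁻¹ * (w : G)) := by group
      rw [e]; exact Subgroup.mul_mem _ h1 ih
  obtain ⟨d, hd, -⟩ := hD2
  apply index_le_two_of_congr hS hD.2.2 L hd
  intro x hx
  obtain ⟨w⟩ := hconn.preconnected ⟨d, hd⟩ ⟨x, hx⟩
  exact key _ _ w

end Cfsg.Agent.Helper25.TT
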