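import Mathlib
import Cfsg.Agent.Lib.Helper25.TT53d
import Cfsg.Agent.S5350

/-!
# Towards S5361 (helper25): primitivity forces `O₂ = O₃ = 1` and connectedness
-/

set_option autoImplicit false

namespace Cfsg.Agent.Helper25.TT

open Cfsg

variable {G : Type*} [Group G] {D : Set G}

/-- the class of `d` under a conjugation-invariant symmetric transitive relation is a block. -/
theorem isBlk_of_rel (r : G → G → Prop) (hsymm : ∀ x y, r x y → r y x)
    (htrans : ∀ x y z, r x y → r y z → r x z)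
    (hinv : ∀ g x y, r x y → r (g * x * g⁻¹) (g * y * g⁻¹))
    (hconj : ∀ g : G, ∀ x ∈ D, g * x * g⁻¹ ∈ D) (d : G) : IsBlk {x | x ∈ D ∧ r x d} := by
  intro g
  by_cases hg : r (g * d * g⁻¹) d
  · left
    ext z
    constructor
    · rintro ⟨x, ⟨hxD, hx⟩, rfl⟩
      exact ⟨hconj g x hxD, htrans _ _ _ (hinv g x d hx) hg⟩
    · rintro ⟨hzD, hz⟩
      rw [mem_cj]
      refine ⟨?_, ?_⟩
      · have := hconj g⁻¹ z hzD
        rwa [inv_inv] at this
      · have h1 := hinv g⁻¹ z d hz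
        have h2 := hinv g⁻¹ _ _ hg
        have e : g⁻¹ * (g * d * g⁻¹) * g⁻¹⁻¹ = d := by group
        rw [e] at h2
        rw [inv_inv] at h1 h2
        exact htrans _ _ _ h1 (hsymm _ _ h2)
  · right
    rw [Set.disjoint_left]
    rintro y ⟨x, ⟨_, hx⟩, rfl⟩ ⟨_, hy⟩
    apply hg
    exact htrans _ _ _ (hsymm _ _ (hinv g x d hx)) hy

/-- conjugation as a graph endomorphism of the commuting graph. -/
def conjHom (hconj : ∀ g : G, ∀ x ∈ D, g * x * g⁻¹ ∈ D) (g : G) :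
    Cfsg.commutingGraph D →g Cfsg.commutingGraph D where
  toFun x := ⟨g * x.1 * g⁻¹, hconj g x.1 x.2⟩
  map_rel' := by
    intro a b hab
    unfold Cfsg.commutingGraph at hab ⊢
    rw [SimpleGraph.fromRel_adj] at hab ⊢
    obtain ⟨hne, hc⟩ := hab
    have hc' : Commute (a : G) (b : G) := by
      rcases hc with h | h
      · exact h
      · exact h.symm
    refine ⟨?_, Or.inl ?_⟩
    · intro h
      apply hne
      have h1 := congrArg Subtype.val h
      simp only at h1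
      apply Subtype.ext
      have := congrArg (fun z => g⁻¹ * z * g) h1
      simpa [mul_assoc] using this
    · show g * (a : G) * g⁻¹ * (g * (b : G) * g⁻¹) = g * (b : G) * g⁻¹ * (g * (a : G) * g⁻¹)
      calc g * (a : G) * g⁻¹ * (g * (b : G) * g⁻¹) = g * ((a : G) * (b : G)) * g⁻¹ := by group
        _ = g * ((b : G) * (a : G)) * g⁻¹ := by rw [hc'.eq]
        _ = _ := by group

/-- reachability in the commuting graph, as a relation on `G`. -/
def Reach (D : Set G) (x y : G) : Prop :=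
  ∃ (hx : x ∈ D) (hy : y ∈ D), (Cfsg.commutingGraph D).Reachable ⟨x, hx⟩ ⟨y, hy⟩

theorem Reach.symm {x y : G} (h : Reach D x y) : Reach D y x := by
  obtain ⟨hx, hy, h⟩ := h
  exact ⟨hy, hx, h.symm⟩

theorem Reach.trans {x y z : G} (h1 : Reach D x y) (h2 : Reach D y z) : Reach D x z := by
  obtain ⟨hx, hy, h1⟩ := h1
  obtain ⟨hy', hz, h2⟩ := h2
  exact ⟨hx, hz, h1.trans h2⟩

theorem Reach.conj (hconj : ∀ g : G, ∀ x ∈ D, g * x * g⁻¹ ∈ D) {x y : G} (h : Reach D x y)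
    (g : G) : Reach D (g * x * g⁻¹) (g * y * g⁻¹) := by
  obtain ⟨hx, hy, h⟩ := h
  exact ⟨hconj g x hx, hconj g y hy, h.map (conjHom hconj g)⟩

/-- primitivity forces `O₂(G) ≤ Z(G)`. -/
theorem pCore_two_le_center_of_primitive [Finite G] (hD : IsThreeTranspositionClass D)
    (hprim : Cfsg.IsPrimitiveUnderConj D) : Cfsg.pCore 2 G ≤ Subgroup.center G := by
  obtain ⟨-, hD2, hblk⟩ := hprim
  have hS := hD.1
  have hgen := hD.2.2
  have hconj : ∀ g : G, ∀ x ∈ D, g * x * g⁻¹ ∈ D := fun g x hx => conj_mem hD g hx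
  by_contra hnc
  obtain ⟨d, hd, n, hn, hne⟩ := exists_conj_ne_of_not_le_center hgen hnc
  have hB : IsBlk {x | x ∈ D ∧ Sim D x d} :=
    isBlk_of_rel (Sim D) (fun _ _ h => h.symm) (fun _ _ _ h1 h2 => h1.trans h2)
      (fun g _ _ h => h.conj hconj g) hconj d
  have h49 := (Cfsg.Agent.S5349.result hD hD2 hd).2
  rcases hblk _ (fun x hx => hx.1) hB with h | h
  · apply hne
    have h1 : n * d * n⁻¹ ∈ {v : G | ∃ g ∈ Cfsg.pCore 2 G, v = g * d * g⁻¹} := ⟨n, hn, rfl⟩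
    rw [← h49] at h1
    exact h h1 ⟨hd, Sim.refl d⟩
  · obtain ⟨e, he, hde⟩ := exists_not_commute hD hD2 hd
    rw [← h] at he
    exact hde (he.2.commute hd).symm

/-- primitivity together with a commuting pair forces `O₃(G) ≤ Z(G)`. -/
theorem pCore_three_le_center_of_primitive [Finite G] (hD : IsThreeTranspositionClass D)
    (hprim : Cfsg.IsPrimitiveUnderConj D) (hw : ∃ a ∈ D, ∃ b ∈ D, a ≠ b ∧ Commute a b) :
    Cfsg.pCore 3 G ≤ Subgroup.center G := by
  obtain ⟨-, hD2, hblk⟩ := hprim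
  have hS := hD.1
  have hgen := hD.2.2
  have hconj : ∀ g : G, ∀ x ∈ D, g * x * g⁻¹ ∈ D := fun g x hx => conj_mem hD g hx
  by_contra hnc
  obtain ⟨d, hd, n, hn, hne⟩ := exists_conj_ne_of_not_le_center hgen hnc
  have hB : IsBlk {x | x ∈ D ∧ WSim D x d} :=
    isBlk_of_rel (WSim D) (fun _ _ h => h.symm) (fun _ _ _ h1 h2 => h1.trans h2)
      (fun g _ _ h => h.conj hconj g) hconj d
  have h50 := (Cfsg.Agent.S5350.result hD hD2 hd).2
  rcases hblk _ (fun x hx => hx.1) hB with h | h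
  · apply hne
    have h1 : n * d * n⁻¹ ∈ {v : G | ∃ g ∈ Cfsg.pCore 3 G, v = g * d * g⁻¹} := ⟨n, hn, rfl⟩
    rw [← h50] at h1
    have h2 : n * d * n⁻¹ ∈ {x | x ∈ D ∧ WSim D x d} := ⟨h1.1, h1.2.symm⟩
    exact h h2 ⟨hd, WSim.refl d⟩
  · obtain ⟨a, ha, b, hb, hab, hc⟩ := hw
    have ha' : a ∈ {x | x ∈ D ∧ WSim D x d} := by rw [h]; exact ha
    have hb' : b ∈ {x | x ∈ D ∧ WSim D x d} := by rw [h]; exact hb
    have hwab : WSim D a b := ha'.2.trans hb'.2.symm
    exact hwab.not_commute hb hab hc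

/-- primitivity together with a commuting pair forces connectedness. -/
theorem connected_of_primitive (hconj : ∀ g : G, ∀ x ∈ D, g * x * g⁻¹ ∈ D)
    (hprim : Cfsg.IsPrimitiveUnderConj D) (hw : ∃ a ∈ D, ∃ b ∈ D, a ≠ b ∧ Commute a b) :
    (Cfsg.commutingGraph D).Connected := by
  obtain ⟨-, -, hblk⟩ := hprim
  obtain ⟨a, ha, b, hb, hab, hc⟩ := hw
  have hB : IsBlk {x | x ∈ D ∧ Reach D x a} :=
    isBlk_of_rel (Reach D) (fun _ _ h => h.symm) (fun _ _ _ h1 h2 => h1.trans h2)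
      (fun g _ _ h => h.conj hconj g) hconj a
  have haB : a ∈ {x | x ∈ D ∧ Reach D x a} := ⟨ha, ha, ha, SimpleGraph.Reachable.refl _⟩
  have hbB : b ∈ {x | x ∈ D ∧ Reach D x a} := by
    refine ⟨hb, hb, ha, SimpleGraph.Adj.reachable ?_⟩
    unfold Cfsg.commutingGraph
    rw [SimpleGraph.fromRel_adj]
    exact ⟨fun h => hab (congrArg Subtype.val h).symm, Or.inr hc⟩
  rcases hblk _ (fun x hx => hx.1) hB with h | h
  · exact absurd (h haB hbB) hab
  · haveI : Nonempty D := ⟨⟨a, ha⟩⟩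
    refine ⟨?_⟩
    intro u v
    have hu : (u : G) ∈ {x | x ∈ D ∧ Reach D x a} := by rw [h]; exact u.2
    have hv : (v : G) ∈ {x | x ∈ D ∧ Reach D x a} := by rw [h]; exact v.2
    obtain ⟨_, hu1, hu2, h1⟩ := hu
    obtain ⟨_, hv1, hv2, h2⟩ := hv
    exact h1.trans h2.symm

end Cfsg.Agent.Helper25.TT
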