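import Mathlib
import Cfsg.Agent.Lib.Helper25.TT61a
import Cfsg.Agent.Lib.Helper25.TT52c
import Cfsg.Agent.Lib.Helper25.WidthOne2

/-!
# Towards S5361 (helper25): simplicity of the commutator subgroup
-/

set_option autoImplicit false

namespace Cfsg.Agent.Helper25.TT

open Cfsg
open scoped commutatorElement

universe u

variable {G : Type u} [Group G] {D : Set G}

/-- all members of a class are congruent modulo the commutator subgroup. -/
theorem inv_mul_mem_commutator (hD : IsThreeTranspositionClass D) {d x : G} (hd : d ∈ D)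
    (hx : x ∈ D) : d⁻¹ * x ∈ commutator G := by
  obtain ⟨g, rfl⟩ := isConj_of_mem hD hd hx
  have h : ⁅d⁻¹, g⁆ ∈ ⁅(⊤ : Subgroup G), ⊤⁆ :=
    Subgroup.commutator_mem_commutator (Subgroup.mem_top _) (Subgroup.mem_top _)
  rw [← commutator_def, commutatorElement_def, inv_inv] at h
  have e : d⁻¹ * (g * d * g⁻¹) = d⁻¹ * g * d * g⁻¹ := by group
  rw [e]; exact h

/-- if all members of `D` are congruent modulo `L` then `G' ≤ L`. -/
theorem commutator_le_of_congr (hgen : Subgroup.closure D = ⊤) (L : Subgroup G) [hLn : L.Normal]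
    {d : G} (h : ∀ x ∈ D, d⁻¹ * x ∈ L) : commutator G ≤ L := by
  set π := QuotientGroup.mk' L with hπ
  have h1 : Subgroup.closure D ≤ (Subgroup.zpowers (π d)).comap π := by
    rw [Subgroup.closure_le]
    intro x hx
    rw [SetLike.mem_coe, Subgroup.mem_comap]
    have : π x = π d := by
      rw [hπ, QuotientGroup.mk'_apply, QuotientGroup.mk'_apply, eq_comm, QuotientGroup.eq]
      exact h x hx
    rw [this]
    exact Subgroup.mem_zpowers _
  rw [hgen] at h1
  rw [commutator_def, Subgroup.commutator_le]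
  intro g₁ _ g₂ _
  have e1 := h1 (Subgroup.mem_top g₁)
  have e2 := h1 (Subgroup.mem_top g₂)
  rw [Subgroup.mem_comap] at e1 e2
  obtain ⟨i, hi⟩ := Subgroup.mem_zpowers_iff.mp e1
  obtain ⟨j, hj⟩ := Subgroup.mem_zpowers_iff.mp e2
  rw [← QuotientGroup.ker_mk' L, MonoidHom.mem_ker, map_commutatorElement, ← hπ, ← hi, ← hj,
    commutatorElement_eq_one_iff_commute]
  exact (Commute.refl (π d)).zpow_zpow i j

/-- all members of `D` are congruent modulo `L` when the commuting graph is connected. -/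
theorem inv_mul_mem_of_connected [Finite G] (hD : IsThreeTranspositionClass D)
    (hD2 : ∃ a ∈ D, ∃ b ∈ D, a ≠ b)
    (L : Subgroup G) [hLn : L.Normal] (hL : Cfsg.IsQuasisimple L)
    (hC : Subgroup.centralizer (L : Set G) ≤ Subgroup.center G)
    (hconn : (Cfsg.commutingGraph D).Connected) {d x : G} (hd : d ∈ D) (hx : x ∈ D) :
    d⁻¹ * x ∈ L := by
  have key : ∀ (u v : D), (Cfsg.commutingGraph D).Walk u v → (u : G)⁻¹ * (v : G) ∈ L := by
    intro u v w
    induction w with
    | nil => simp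
    | @cons u v w hadj _ ih =>
      have hadj' := hadj
      unfold Cfsg.commutingGraph at hadj'
      rw [SimpleGraph.fromRel_adj] at hadj'
      have hc : Commute (u : G) (v : G) := by
        rcases hadj'.2 with h | h
        · exact h
        · exact h.symm
      have h1 := inv_mul_mem_of_commute hD hD2 L hL hC u.2 v.2 hc
      have e : (u : G)⁻¹ * (w : G) = ((u : G)⁻¹ * (v : G)) * ((v : G)⁻¹ * (w : G)) := by group
      rw [e]; exact Subgroup.mul_mem _ h1 ih
  obtain ⟨w⟩ := hconn.preconnected ⟨d, hd⟩ ⟨x, hx⟩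
  exact key _ _ w

/-- **(C)**: trivial `O₂`, `O₃` and a connected commuting graph make `G'` simple. -/
theorem simple_commutator_of_connected [Finite G] (hD : IsThreeTranspositionClass D)
    (hZ : Subgroup.center G = ⊥) (hw : ∃ a ∈ D, ∃ b ∈ D, a ≠ b ∧ Commute a b)
    (h2 : Cfsg.pCore 2 G = ⊥) (h3 : Cfsg.pCore 3 G = ⊥)
    (hconn : (Cfsg.commutingGraph D).Connected) : IsSimpleGroup (commutator G) := by
  have hD2 : ∃ a ∈ D, ∃ b ∈ D, a ≠ b := by
    obtain ⟨a, ha, b, hb, hab, -⟩ := hw
    exact ⟨a, ha, b, hb, hab⟩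
  have h2' : Cfsg.pCore 2 G ≤ Subgroup.center G := by rw [h2]; exact bot_le
  have h3' : Cfsg.pCore 3 G ≤ Subgroup.center G := by rw [h3]; exact bot_le
  obtain ⟨L, hLn, hL, hF, -⟩ := exists_quasisimple_normal hD hD2 h2' h3'
  haveI := hLn
  have hFit := fitting_le_center_of_class hD hD2 h2' h3'
  have hC := centralizer_le_center_of_fstar hFit L hF
  obtain ⟨d, hd, -⟩ := hD2
  have hD2 : ∃ a ∈ D, ∃ b ∈ D, a ≠ b := by
    obtain ⟨a, ha, b, hb, hab, -⟩ := hw
    exact ⟨a, ha, b, hb, hab⟩
  have hGL : commutator G ≤ L :=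
    commutator_le_of_congr hD.2.2 L (d := d)
      (fun x hx => inv_mul_mem_of_connected hD hD2 L hL hC hconn hd hx)
  have hLc : Cfsg.IsComponent L := ⟨Subgroup.Normal.isSubnormal inferInstance, hL⟩
  have hLG : L ≤ commutator G := by
    rw [commutator_def, ← Cfsg.Agent.Helper7.component_perfect hLc]
    exact Subgroup.commutator_mono le_top le_top
  have hEq : commutator G = L := le_antisymm hGL hLG
  have hcen : Subgroup.center ↥L = ⊥ := by
    rw [eq_bot_iff]
    intro x hx
    rw [Subgroup.mem_center_iff] at hx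
    have h1 : (x : G) ∈ Subgroup.centralizer (L : Set G) := by
      rw [Subgroup.mem_centralizer_iff]
      intro y hy
      exact congrArg Subtype.val (hx ⟨y, hy⟩)
    have h2 := hC h1
    rw [hZ, Subgroup.mem_bot] at h2
    rw [Subgroup.mem_bot]
    exact Subtype.ext h2
  haveI hsq : IsSimpleGroup (↥L ⧸ Subgroup.center ↥L) := hL.2
  have hLne : L ≠ ⊥ := Cfsg.Agent.Helper7.component_ne_bot hLc
  haveI : Nontrivial ↥L := by
    rw [Subgroup.nontrivial_iff_ne_bot]; exact hLne
  have hLs : IsSimpleGroup ↥L := by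
    let e : (↥L ⧸ Subgroup.center ↥L) ≃* ↥L :=
      (QuotientGroup.quotientMulEquivOfEq hcen).trans QuotientGroup.quotientBot
    exact IsSimpleGroup.isSimpleGroup_of_surjective e.toMonoidHom e.surjective
  rw [hEq]
  exact hLs

end Cfsg.Agent.Helper25.TT
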