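import Mathlib
import Cfsg.Agent.Lib.Helper25.TT54b
import Cfsg.Agent.Lib.Helper25.TT61b

/-!
# S5354 (helper25): assembly
-/

set_option autoImplicit false

namespace Cfsg.Agent.Helper25.TT

open Cfsg

universe u

variable {G : Type u} [Group G] {D : Set G}

/-- a conjugation-invariant set all of whose members are conjugate is a class. -/
theorem isClass_of_primitive (hD : Cfsg.IsThreeTranspositionGroup D)
    (hprim : Cfsg.IsPrimitiveUnderConj D) : IsThreeTranspositionClass D := by
  obtain ⟨hS, hconj, hgen⟩ := hD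
  obtain ⟨hall, ⟨a, ha, -⟩, -⟩ := hprim
  refine ⟨hS, ⟨a, ha, ?_⟩, hgen⟩
  ext x
  constructor
  · intro hx
    obtain ⟨g, hg⟩ := hall a ha x hx
    show IsConj a x
    rw [isConj_iff]; exact ⟨g, hg⟩
  · intro hx
    have hx' : IsConj a x := hx
    rw [isConj_iff] at hx'
    obtain ⟨g, rfl⟩ := hx'
    exact hconj g a ha

/-- **S5354.** -/
theorem primitive_structure [Finite G] (hD : Cfsg.IsThreeTranspositionGroup D)
    (hprim : Cfsg.IsPrimitiveUnderConj D) (hw : ∃ a ∈ D, ∃ b ∈ D, a ≠ b ∧ Commute a b) :
    (∃ L : Subgroup G, L.Normal ∧ Cfsg.IsQuasisimple L ∧ L.index ≤ 2 ∧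
      Cfsg.generalizedFittingSubgroup G = L ⊔ Subgroup.center G) ∧
    (Cfsg.commutingGraph D).Connected ∧
    ∀ d ∈ D, Subgroup.closure {y : G | y ∈ D ∧ Commute d y} ≠ ⊤ ∧
      ∀ H : Subgroup G, Cfsg.IsDSubgroup D H →
        Subgroup.closure {y : G | y ∈ D ∧ Commute d y} ≤ H →
        H = Subgroup.closure {y : G | y ∈ D ∧ Commute d y} ∨ H = ⊤ := by
  have hDc := isClass_of_primitive hD hprim
  obtain ⟨hS, hconj, hgen⟩ := hD
  have hD2 := hprim.2.1
  have h2 := pCore_two_le_center_of_primitive hDc hprim
  have h3 := pCore_three_le_center_of_primitive hDc hprim hw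
  have hconn := connected_of_primitive hconj hprim hw
  refine ⟨?_, hconn, ?_⟩
  · obtain ⟨L, hLn, hL, hF, -⟩ := exists_quasisimple_normal hDc hD2 h2 h3
    haveI := hLn
    have hFit := fitting_le_center_of_class hDc hD2 h2 h3
    have hC := centralizer_le_center_of_fstar hFit L hF
    exact ⟨L, hLn, hL, index_le_two_of_connected hDc hD2 L hL hC hconn, hF⟩
  · intro d hd
    constructor
    · intro htop
      obtain ⟨e, he, hne⟩ := exists_not_commute hDc hD2 hd
      apply hne
      have h1 : Subgroup.closure {y : G | y ∈ D ∧ Commute d y} ≤ Subgroup.centralizer {d} := by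
        rw [Subgroup.closure_le]
        intro y hy
        rw [SetLike.mem_coe, Subgroup.mem_centralizer_iff]
        intro z hz
        rw [Set.mem_singleton_iff] at hz
        subst hz
        exact hy.2.eq
      rw [htop] at h1
      have := h1 (Subgroup.mem_top e)
      rw [Subgroup.mem_centralizer_iff] at this
      exact this d rfl
    · intro H hHD hM
      by_cases hsub : ∀ y ∈ D, y ∈ H → Commute d y
      · left
        apply le_antisymm _ hM
        have hHD' : Subgroup.closure {y : G | y ∈ D ∧ y ∈ H} = H := hHD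
        rw [← hHD']
        apply Subgroup.closure_mono
        intro y hy
        exact ⟨hy.1, hsub y hy.1 hy.2⟩
      · right
        push Not at hsub
        obtain ⟨e, he, heH, hde⟩ := hsub
        exact eq_top_of_mem_not_commute hS hconj hgen hprim hconn hd H hHD hM he heH hde

end Cfsg.Agent.Helper25.TT
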