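import Mathlib
import Cfsg.Agent.Lib.Helper25.TT54c
import Cfsg.Agent.Lib.Helper25.WidthOne1

/-!
# S1613 (helper25): in a primitive 3-transposition group `D_x` is a single class of `⟨D_x⟩`
-/

set_option autoImplicit false

namespace Cfsg.Agent.Helper25.TT

open Cfsg

variable {G : Type*} [Group G] {D : Set G}

/-- the orbit of `y` under `⟨D_x⟩`. -/
def orb (D : Set G) (x y : G) : Set G :=
  {z | ∃ g ∈ Subgroup.closure (Dd D x), z = g * y * g⁻¹}

theorem mem_orb_self (x y : G) : y ∈ orb D x y := ⟨1, Subgroup.one_mem _, by simp⟩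

theorem closure_Dd_commute {x g : G} (hg : g ∈ Subgroup.closure (Dd D x)) : Commute g x := by
  have h : Subgroup.closure (Dd D x) ≤ Subgroup.centralizer {x} := by
    rw [Subgroup.closure_le]
    intro y hy
    rw [SetLike.mem_coe, Subgroup.mem_centralizer_iff]
    intro z hz
    rw [Set.mem_singleton_iff] at hz
    rw [hz]
    exact hy.2.2.eq
  have := h hg
  rw [Subgroup.mem_centralizer_iff] at this
  exact (this x rfl).symm

theorem orb_subset_Dd (hconj : ∀ g : G, ∀ x ∈ D, g * x * g⁻¹ ∈ D) {x y : G} (hy : y ∈ Dd D x) :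
    orb D x y ⊆ Dd D x := by
  rintro _ ⟨g, hg, rfl⟩
  have hc := closure_Dd_commute hg
  have hgx : g * x * g⁻¹ = x := by rw [hc.eq, mul_inv_cancel_right]
  have := (mem_Dd_conj_iff hconj g x (g * y * g⁻¹)).mpr (by
    rw [show g⁻¹ * (g * y * g⁻¹) * g = y by group]; exact hy)
  rwa [hgx] at this

theorem conj_mem_orb {x y z h : G} (hz : z ∈ orb D x y) (hh : h ∈ Subgroup.closure (Dd D x)) :
    h * z * h⁻¹ ∈ orb D x y := by
  obtain ⟨g, hg, rfl⟩ := hz
  exact ⟨h * g, Subgroup.mul_mem _ hh hg, by group⟩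

theorem orb_eq_of_mem {x y z : G} (hz : z ∈ orb D x y) : orb D x z = orb D x y := by
  obtain ⟨g, hg, rfl⟩ := hz
  ext w
  constructor
  · rintro ⟨k, hk, rfl⟩
    exact ⟨k * g, Subgroup.mul_mem _ hk hg, by group⟩
  · rintro ⟨k, hk, rfl⟩
    exact ⟨k * g⁻¹, Subgroup.mul_mem _ hk (Subgroup.inv_mem _ hg), by group⟩

theorem mem_orb_of_not_commute (hS : IsThreeTranspositionSet D) {x y e : G} (hy : y ∈ Dd D x)
    (he : e ∈ Dd D x) (hnc : ¬ Commute y e) : e ∈ orb D x y := by
  refine ⟨y * e, Subgroup.mul_mem _ (Subgroup.subset_closure hy) (Subgroup.subset_closure he), ?_⟩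
  exact (conj_of_noncommuting hS hy.1 he.1 hnc).symm

/-- in the primitive case two members of `D` with the same commuting sets are equal. -/
theorem sim_eq_of_primitive (hD : IsThreeTranspositionClass D)
    (hprim : Cfsg.IsPrimitiveUnderConj D) {x d : G} (hx : x ∈ D) (hd : d ∈ D)
    (h : Sim D x d) : x = d := by
  obtain ⟨-, hD2, hblk⟩ := hprim
  have hconj : ∀ g : G, ∀ x ∈ D, g * x * g⁻¹ ∈ D := fun g x hx => conj_mem hD g hx
  have hB : IsBlk {x | x ∈ D ∧ Sim D x d} :=
    isBlk_of_rel (Sim D) (fun _ _ h => h.symm) (fun _ _ _ h1 h2 => h1.trans h2)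
      (fun g _ _ h => h.conj hconj g) hconj d
  rcases hblk _ (fun x hx => hx.1) hB with h' | h'
  · exact h' ⟨hx, h⟩ ⟨hd, Sim.refl d⟩
  · obtain ⟨e, he, hde⟩ := exists_not_commute hD hD2 hd
    rw [← h'] at he
    exact absurd (he.2.commute hd).symm hde

theorem conj_mem_closure {S T : Set G} {h : G} (hST : ∀ s ∈ S, h * s * h⁻¹ ∈ T) {g : G}
    (hg : g ∈ Subgroup.closure S) : h * g * h⁻¹ ∈ Subgroup.closure T := by
  induction hg using Subgroup.closure_induction with
  | mem s hs => exact Subgroup.subset_closure (hST s hs)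
  | one => simp
  | mul x y _ _ hx hy =>
    have : h * (x * y) * h⁻¹ = (h * x * h⁻¹) * (h * y * h⁻¹) := by group
    rw [this]; exact Subgroup.mul_mem _ hx hy
  | inv x _ hx =>
    have : h * x⁻¹ * h⁻¹ = (h * x * h⁻¹)⁻¹ := by group
    rw [this]; exact Subgroup.inv_mem _ hx

/-- **Key lemma**: for an orbit of maximal size which is not all of `D_x`, the members of `D`
commuting with the whole orbit are exactly the members of `C_D(x)` outside the orbit. -/
theorem commute_orb_iff [Finite G] (hD : IsThreeTranspositionClass D)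
    (hprim : Cfsg.IsPrimitiveUnderConj D) (hconn : (Cfsg.commutingGraph D).Connected)
    {x y : G} (hx : x ∈ D) (hy : y ∈ Dd D x)
    (hmax : ∀ x' ∈ D, ∀ y' ∈ Dd D x', (orb D x' y').ncard ≤ (orb D x y).ncard)
    {t : G} (ht : t ∈ D) :
    (∀ z ∈ orb D x y, Commute t z) ↔ (Commute x t ∧ t ∉ orb D x y) := by
  have hS := hD.1
  have hconj : ∀ g : G, ∀ x ∈ D, g * x * g⁻¹ ∈ D := fun g x hx => conj_mem hD g hx
  have hsub := orb_subset_Dd hconj hy
  have hback : ∀ t ∈ D, Commute x t → t ∉ orb D x y → ∀ z ∈ orb D x y, Commute t z := by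
    intro t ht hxt htn z hz
    by_cases htx : t = x
    · rw [htx]; exact (hsub hz).2.2
    · by_contra hnc
      apply htn
      have htD : t ∈ Dd D x := ⟨ht, htx, hxt⟩
      have : t ∈ orb D x z := mem_orb_of_not_commute hS (hsub hz) htD (fun h => hnc h.symm)
      rwa [orb_eq_of_mem hz] at this
  constructor
  · intro hall
    have htn : t ∉ orb D x y := by
      intro htΔ
      have hcent : ∀ g ∈ Subgroup.closure (Dd D x), g * t * g⁻¹ = t := by
        have hle : Subgroup.closure (Dd D x) ≤ Subgroup.centralizer {t} := by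
          rw [Subgroup.closure_le]
          intro s hs
          rw [SetLike.mem_coe, Subgroup.mem_centralizer_iff]
          intro z hz
          rw [Set.mem_singleton_iff] at hz
          rw [hz]
          by_cases hsΔ : s ∈ orb D x y
          · exact (hall s hsΔ).eq
          · exact ((hback s hs.1 hs.2.2 hsΔ t htΔ).eq).symm
        intro g hg
        have := hle hg
        rw [Subgroup.mem_centralizer_iff] at this
        rw [← this t rfl, mul_inv_cancel_right]
      have horb : orb D x y = {t} := by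
        rw [← orb_eq_of_mem htΔ]
        ext w
        constructor
        · rintro ⟨g, hg, rfl⟩
          exact hcent g hg
        · intro hw
          rw [Set.mem_singleton_iff] at hw
          rw [hw]; exact mem_orb_self x t
      have hcard1 : (orb D x y).ncard = 1 := by rw [horb]; exact Set.ncard_singleton t
      have hsing : ∀ x' ∈ D, ∀ y' ∈ Dd D x', orb D x' y' = {y'} := by
        intro x' hx' y' hy'
        have h1 := hmax x' hx' y' hy'
        rw [hcard1] at h1
        have hfin : (orb D x' y').Finite := Set.toFinite _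
        have h2 : (orb D x' y').ncard = 1 := by
          have : 0 < (orb D x' y').ncard :=
            (Set.ncard_pos hfin).mpr ⟨y', mem_orb_self x' y'⟩
          omega
        obtain ⟨w, hw⟩ := Set.ncard_eq_one.mp h2
        have hmem := mem_orb_self (D := D) x' y'
        rw [hw] at hmem ⊢
        rw [Set.mem_singleton_iff] at hmem
        rw [hmem]
      have htDd : t ∈ Dd D x := hsub htΔ
      have hxDt : x ∈ Dd D t := ⟨hx, fun h => htDd.2.1 h.symm, htDd.2.2.symm⟩
      have hsim : Sim D x t := by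
        intro s hs
        constructor
        · intro hxs
          by_cases hsx : s = x
          · rw [hsx]; exact htDd.2.2.symm
          · by_contra hnc
            have hsD : s ∈ Dd D x := ⟨hs, hsx, hxs⟩
            have := mem_orb_of_not_commute hS htDd hsD hnc
            rw [hsing x hx t htDd, Set.mem_singleton_iff] at this
            apply hnc; rw [this]
        · intro hts
          by_cases hst : s = t
          · rw [hst]; exact htDd.2.2
          · by_contra hnc
            have hsD : s ∈ Dd D t := ⟨hs, hst, hts⟩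
            have := mem_orb_of_not_commute hS hxDt hsD hnc
            rw [hsing t ht x hxDt, Set.mem_singleton_iff] at this
            apply hnc; rw [this]
      exact htDd.2.1 (sim_eq_of_primitive hD hprim hx ht hsim).symm
    refine ⟨?_, htn⟩
    by_contra hxt
    set S : Set G := {s | s ∈ D ∧ Commute x s} ∪ {t} with hSdef
    have hSD : S ⊆ D := by
      rintro s (hs | hs)
      · exact hs.1
      · rw [Set.mem_singleton_iff] at hs; rw [hs]; exact ht
    set H := Subgroup.closure S with hH
    have hHD : Cfsg.IsDSubgroup D H := by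
      unfold Cfsg.IsDSubgroup
      apply le_antisymm
      · rw [Subgroup.closure_le]; intro s hs; exact hs.2
      · rw [hH]; apply Subgroup.closure_mono
        intro s hs; exact ⟨hSD hs, Subgroup.subset_closure hs⟩
    have hM : Subgroup.closure {s : G | s ∈ D ∧ Commute x s} ≤ H :=
      Subgroup.closure_mono Set.subset_union_left
    have htH : t ∈ H := Subgroup.subset_closure (Or.inr rfl)
    have htop := eq_top_of_mem_not_commute hS hconj hD.2.2 hprim hconn hx H hHD hM ht htH hxt
    have hstab : H ≤ conjStab (orb D x y) := by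
      rw [hH, Subgroup.closure_le]
      rintro s (hs | hs)
      · by_cases hsx : s = x
        · rw [hsx]
          apply mem_conjStab_of_forall
          · intro z hz
            have hc := (hsub hz).2.2
            rw [hc.eq, mul_inv_cancel_right]; exact hz
          · intro z hz
            have hc := (hsub hz).2.2
            have : x⁻¹ * z * x = z := by rw [mul_assoc, ← hc.eq, inv_mul_cancel_left]
            rw [this]; exact hz
        · have hsD : s ∈ Dd D x := ⟨hs.1, hsx, hs.2⟩
          have hsc := Subgroup.subset_closure hsD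
          apply mem_conjStab_of_forall
          · intro z hz; exact conj_mem_orb hz hsc
          · intro z hz
            have := conj_mem_orb hz (Subgroup.inv_mem _ hsc)
            rwa [inv_inv] at this
      · rw [Set.mem_singleton_iff] at hs
        rw [hs]
        apply mem_conjStab_of_forall
        · intro z hz
          have hc := hall z hz
          rw [hc.eq, mul_inv_cancel_right]; exact hz
        · intro z hz
          have hc := hall z hz
          have : t⁻¹ * z * t = z := by rw [mul_assoc, ← hc.eq, inv_mul_cancel_left]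
          rw [this]; exact hz
    have hyΔ : y ∈ orb D x y := mem_orb_self x y
    obtain ⟨g, hg⟩ := isConj_of_mem hD hy.1 hx
    have hgS : g ∈ conjStab (orb D x y) := hstab (by rw [htop]; exact Subgroup.mem_top g)
    have := (hgS y).mp hyΔ
    rw [hg] at this
    exact (hsub this).2.1 rfl
  · rintro ⟨hxt, htn⟩
    exact hback t ht hxt htn

/-- for some `a ∈ D` the set `D_a` is a single orbit of `⟨D_a⟩`. -/
theorem exists_Dd_eq_orb [Finite G] (hD : IsThreeTranspositionClass D)
    (hprim : Cfsg.IsPrimitiveUnderConj D) (hw : ∃ a ∈ D, ∃ b ∈ D, a ≠ b ∧ Commute a b) :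
    ∃ a ∈ D, ∃ b ∈ Dd D a, Dd D a = orb D a b := by
  have hS := hD.1
  have hconj : ∀ g : G, ∀ x ∈ D, g * x * g⁻¹ ∈ D := fun g x hx => conj_mem hD g hx
  have hconn := connected_of_primitive hconj hprim hw
  set P : Set (G × G) := {p | p.1 ∈ D ∧ p.2 ∈ Dd D p.1} with hP
  have hPne : P.Nonempty := by
    obtain ⟨a, ha, b, hb, hab, hc⟩ := hw
    exact ⟨(a, b), ha, hb, fun h => hab h.symm, hc⟩
  obtain ⟨⟨a, b⟩, ⟨ha, hb⟩, hmax'⟩ :=
    Set.exists_max_image P (fun p => (orb D p.1 p.2).ncard) (Set.toFinite P) hPne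
  have hmax : ∀ x' ∈ D, ∀ y' ∈ Dd D x', (orb D x' y').ncard ≤ (orb D a b).ncard :=
    fun x' hx' y' hy' => hmax' (x', y') ⟨hx', hy'⟩
  refine ⟨a, ha, b, hb, ?_⟩
  have hsub := orb_subset_Dd hconj hb
  apply Set.Subset.antisymm _ hsub
  intro e he
  by_contra heΔ
  have hLa := fun t ht => commute_orb_iff hD hprim hconn ha hb hmax (t := t) ht
  have hecomm : ∀ z ∈ orb D a b, Commute e z := (hLa e he.1).mpr ⟨he.2.2, heΔ⟩
  have hΔe : orb D a b ⊆ Dd D e := by
    intro z hz
    exact ⟨(hsub hz).1, fun h => heΔ (h ▸ hz), hecomm z hz⟩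
  have hbe : b ∈ Dd D e := hΔe (mem_orb_self a b)
  have hΔsub : orb D a b ⊆ orb D e b := by
    set Ω : Set G := {z | z ∈ orb D a b ∧ z ∈ orb D e b} with hΩ
    have hstab : Subgroup.closure (Dd D a) ≤ conjStab Ω := by
      rw [Subgroup.closure_le]
      intro s hs
      by_cases hsΔ : s ∈ orb D a b
      · have hsa := Subgroup.subset_closure hs
        have hse := Subgroup.subset_closure (hΔe hsΔ)
        apply mem_conjStab_of_forall
        · intro z hz
          exact ⟨conj_mem_orb hz.1 hsa, conj_mem_orb hz.2 hse⟩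
        · intro z hz
          have h1 := conj_mem_orb hz.1 (Subgroup.inv_mem _ hsa)
          have h2 := conj_mem_orb hz.2 (Subgroup.inv_mem _ hse)
          rw [inv_inv] at h1 h2
          exact ⟨h1, h2⟩
      · have hsc : ∀ z ∈ orb D a b, Commute s z := (hLa s hs.1).mpr ⟨hs.2.2, hsΔ⟩
        apply mem_conjStab_of_forall
        · intro z hz
          have hc := hsc z hz.1
          rw [hc.eq, mul_inv_cancel_right]; exact hz
        · intro z hz
          have hc := hsc z hz.1
          have : s⁻¹ * z * s = z := by rw [mul_assoc, ← hc.eq, inv_mul_cancel_left]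
          rw [this]; exact hz
    rintro _ ⟨g, hg, rfl⟩
    have hbΩ : b ∈ Ω := ⟨mem_orb_self a b, mem_orb_self e b⟩
    exact ((hstab hg b).mp hbΩ).2
  have hΔeq : orb D a b = orb D e b :=
    Set.eq_of_subset_of_ncard_le hΔsub (hmax e he.1 b hbe) (Set.toFinite _)
  have haDe : a ∈ Dd D e := ⟨ha, fun h => he.2.1 h.symm, he.2.2.symm⟩
  have haΔ : a ∉ orb D a b := fun h => (hsub h).2.1 rfl
  have hmax_e : ∀ x' ∈ D, ∀ y' ∈ Dd D x', (orb D x' y').ncard ≤ (orb D e b).ncard := by
    rw [← hΔeq]; exact hmax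
  have hLe := fun t ht => commute_orb_iff hD hprim hconn he.1 hbe hmax_e (t := t) ht
  have hsim : Sim D a e := by
    intro s hs
    by_cases hsΔ : s ∈ orb D a b
    · exact ⟨fun _ => (hΔe hsΔ).2.2, fun _ => (hsub hsΔ).2.2⟩
    · have h1 := hLa s hs
      have h2 := hLe s hs
      rw [← hΔeq] at h2
      constructor
      · intro h
        exact (h2.mp (h1.mpr ⟨h, hsΔ⟩)).1
      · intro h
        exact (h1.mp (h2.mpr ⟨h, hsΔ⟩)).1
  exact he.2.1 (sim_eq_of_primitive hD hprim ha he.1 hsim).symm

/-- **S1613, abstract form**: in a primitive 3-transposition group, `D_x` is a single conjugacy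
class of `⟨D_x⟩`. -/
theorem dx_single_class [Finite G] (hD : IsThreeTranspositionClass D)
    (hprim : Cfsg.IsPrimitiveUnderConj D) {x : G} (hx : x ∈ D) :
    ∀ y ∈ Dd D x, ∀ y' ∈ Dd D x, ∃ g ∈ Subgroup.closure (Dd D x), g * y * g⁻¹ = y' := by
  intro y hy y' hy'
  have hconj : ∀ g : G, ∀ x ∈ D, g * x * g⁻¹ ∈ D := fun g x hx => conj_mem hD g hx
  have hw : ∃ a ∈ D, ∃ b ∈ D, a ≠ b ∧ Commute a b :=
    ⟨x, hx, y, hy.1, fun h => hy.2.1 h.symm, hy.2.2⟩
  obtain ⟨a, ha, b, hb, hab⟩ := exists_Dd_eq_orb hD hprim hw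
  obtain ⟨h, hh⟩ := isConj_of_mem hD ha hx
  subst hh
  have h1 : h⁻¹ * y * h ∈ Dd D a := (mem_Dd_conj_iff hconj h a y).mp hy
  have h2 : h⁻¹ * y' * h ∈ Dd D a := (mem_Dd_conj_iff hconj h a y').mp hy'
  rw [hab] at h1 h2
  obtain ⟨g1, hg1, e1⟩ := h1
  obtain ⟨g2, hg2, e2⟩ := h2
  refine ⟨h * (g2 * g1⁻¹) * h⁻¹, ?_, ?_⟩
  · apply conj_mem_closure _ (Subgroup.mul_mem _ hg2 (Subgroup.inv_mem _ hg1))
    intro s hs
    rw [mem_Dd_conj_iff hconj]
    rwa [show h⁻¹ * (h * s * h⁻¹) * h = s by group]
  · have ey : y = h * (g1 * b * g1⁻¹) * h⁻¹ := by rw [← e1]; group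
    have ey' : y' = h * (g2 * b * g2⁻¹) * h⁻¹ := by rw [← e2]; group
    rw [ey, ey']; group

end Cfsg.Agent.Helper25.TT
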