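import Mathlib
import Cfsg.Agent.Lib.Helper25.TT13a
import Cfsg.Agent.S0215

/-!
# S1613 (helper25): primitivity from `G'' = G'` and the absence of solvable normal subgroups
-/

set_option autoImplicit false

namespace Cfsg.Agent.Helper25.TT

open Cfsg

universe u

variable {G : Type u} [Group G] {D : Set G}

/-- a perfect subgroup contained in a `p`-subgroup is trivial. -/
theorem eq_bot_of_perfect_of_le_pGroup [Finite G] {p : ℕ} [Fact p.Prime] {P O : Subgroup G}
    (hP : ⁅P, P⁆ = P) (hO : IsPGroup p O) (hle : P ≤ O) : P = ⊥ := by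
  haveI : Group.IsPerfect P := Subgroup.isPerfect_iff.mpr hP
  have hPp : IsPGroup p P := hO.to_le hle
  haveI : Group.IsNilpotent P := hPp.isNilpotent
  by_contra hne
  haveI : Nontrivial P := (Subgroup.nontrivial_iff_ne_bot P).mpr hne
  exact Group.IsPerfect.not_isSolvable P inferInstance

/-- if `G'` is perfect and `L` is a normal subgroup modulo which commuting members of `D`
become equal, then `L` has index at most 2. -/
theorem index_le_two_of_perfect [Finite G] (hD : IsThreeTranspositionClass D)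
    (hperf : ⁅commutator G, commutator G⁆ = commutator G)
    (L : Subgroup G) [hLn : L.Normal]
    (hcong : ∀ a ∈ D, ∀ b ∈ D, a * b * a⁻¹ * b⁻¹ ∈ L → a⁻¹ * b ∈ L) : L.index ≤ 2 := by
  have hS := hD.1
  have hgen := hD.2.2
  have hconj : ∀ g : G, ∀ x ∈ D, g * x * g⁻¹ ∈ D := fun g x hx => conj_mem hD g hx
  obtain ⟨d, hd, -⟩ := hD.2.1
  by_cases hdL : d ∈ L
  · have : L = ⊤ := by
      rw [eq_top_iff, ← hgen, Subgroup.closure_le]
      intro x hx
      obtain ⟨g, rfl⟩ := isConj_of_mem hD hd hx
      exact hLn.conj_mem d hdL g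
    rw [this, Subgroup.index_top]; norm_num
  · haveI : Fact (Nat.Prime 3) := ⟨Nat.prime_three⟩
    set π := QuotientGroup.mk' L with hπ
    set Dbar : Set (G ⧸ L) := π '' D with hDbar
    have hnotL : ∀ x ∈ D, x ∉ L := by
      intro x hx hxL
      obtain ⟨g, hg⟩ := isConj_of_mem hD hx hd
      apply hdL; rw [← hg]; exact hLn.conj_mem x hxL g
    have hSbar : IsThreeTranspositionSet Dbar := by
      constructor
      · rintro _ ⟨x, hx, rfl⟩
        apply orderOf_eq_prime
        · rw [← map_pow, pow_two, mul_self hS hx, map_one]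
        · intro h
          apply hnotL x hx
          rwa [hπ, QuotientGroup.mk'_apply, QuotientGroup.eq_one_iff] at h
      · rintro _ ⟨x, hx, rfl⟩ _ ⟨y, hy, rfl⟩
        rcases hS.2 x hx y hy with h | h
        · left; rw [← map_mul, ← map_pow, h, map_one]
        · right; rw [← map_mul, ← map_pow, h, map_one]
    have hconjbar : ∀ g : G ⧸ L, ∀ x ∈ Dbar, g * x * g⁻¹ ∈ Dbar := by
      intro g
      obtain ⟨g, rfl⟩ := QuotientGroup.mk'_surjective L g
      rintro _ ⟨x, hx, rfl⟩
      exact ⟨g * x * g⁻¹, hconj g x hx, by simp [hπ]⟩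
    have hncbar : ∀ a ∈ Dbar, ∀ b ∈ Dbar, Commute a b → a = b := by
      rintro _ ⟨a, ha, rfl⟩ _ ⟨b, hb, rfl⟩ hc
      have h1 : a * b * a⁻¹ * b⁻¹ ∈ L := by
        rw [← QuotientGroup.eq_one_iff]
        have : ((a * b * a⁻¹ * b⁻¹ : G) : G ⧸ L) = π a * π b * (π a)⁻¹ * (π b)⁻¹ := by
          simp [hπ]
        rw [this, hc.eq]; group
      have h2 := hcong a ha b hb h1
      rw [hπ, QuotientGroup.mk'_apply, QuotientGroup.mk'_apply, QuotientGroup.eq]
      exact h2
    have hZ : ZStarAt (G ⧸ L) :=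
      fun P u hu huP hiso => Cfsg.Agent.S0215.result P u hu huP hiso
    have hprod : ∀ x ∈ D, π (d⁻¹ * x) ∈ Cfsg.pCore 3 (G ⧸ L) := by
      intro x hx
      rw [inv_eq hS hd, map_mul]
      exact mul_mem_pCore_three hZ hSbar hconjbar hncbar ⟨d, hd, rfl⟩ ⟨x, hx, rfl⟩
    haveI hOn : (Cfsg.pCore 3 (G ⧸ L)).Normal := Cfsg.pCore_normal 3 (G ⧸ L)
    have hR : commutator G ≤ (Cfsg.pCore 3 (G ⧸ L)).comap π :=
      commutator_le_of_congr hgen _ (d := d) (fun x hx => hprod x hx)
    have hmap : (commutator G).map π ≤ Cfsg.pCore 3 (G ⧸ L) := by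
      rw [Subgroup.map_le_iff_le_comap]; exact hR
    have hperf' : ⁅(commutator G).map π, (commutator G).map π⁆ = (commutator G).map π := by
      rw [← Subgroup.map_commutator, hperf]
    have hbot := eq_bot_of_perfect_of_le_pGroup hperf'
      (Cfsg.Agent.Helper25.isPGroup_pCore' 3 (G ⧸ L)) hmap
    have hle : commutator G ≤ L := by
      intro x hx
      have : π x ∈ (commutator G).map π := Subgroup.mem_map_of_mem π hx
      rw [hbot, Subgroup.mem_bot] at this
      rwa [hπ, QuotientGroup.mk'_apply, QuotientGroup.eq_one_iff] at this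
    exact index_le_two_of_congr hS hgen L hd
      (fun x hx => hle (inv_mul_mem_commutator hD hd hx))

/-- a class of 3-transpositions in a group without solvable normal subgroups whose derived
group is perfect is primitive. -/
theorem primitive_of_perfect [Finite G] (hD : IsThreeTranspositionClass D)
    (hsol : ∀ N : Subgroup G, N.Normal → Group.IsSolvable ↥N → N = ⊥)
    (hperf : ⁅commutator G, commutator G⁆ = commutator G)
    (hD2 : ∃ a ∈ D, ∃ b ∈ D, a ≠ b) : Cfsg.IsPrimitiveUnderConj D := by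
  haveI : Fact (Nat.Prime 2) := ⟨Nat.prime_two⟩
  haveI : Fact (Nat.Prime 3) := ⟨Nat.prime_three⟩
  have hcore : ∀ p : ℕ, [Fact p.Prime] → Cfsg.pCore p G = ⊥ := by
    intro p _
    apply hsol _ (Cfsg.pCore_normal p G)
    haveI : Group.IsNilpotent (Cfsg.pCore p G) :=
      (Cfsg.Agent.Helper25.isPGroup_pCore' p G).isNilpotent
    infer_instance
  have h2 : Cfsg.pCore 2 G ≤ Subgroup.center G := by rw [hcore 2]; exact bot_le
  have h3 : Cfsg.pCore 3 G ≤ Subgroup.center G := by rw [hcore 3]; exact bot_le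
  obtain ⟨L, hLn, hL, hF, halt⟩ := exists_quasisimple_normal hD hD2 h2 h3
  haveI := hLn
  have hFit := fitting_le_center_of_class hD hD2 h2 h3
  have hC := centralizer_le_center_of_fstar hFit L hF
  have hidx : L.index ≤ 2 := by
    rcases halt with h | h
    · rw [h, Subgroup.index_top]; norm_num
    · exact index_le_two_of_perfect hD hperf L h
  exact primitive_of_index_le_two hD hD2 h2 L hL hC hidx

end Cfsg.Agent.Helper25.TT
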