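import Mathlib
import Cfsg.Agent.Lib.Helper25.TT13b
import Cfsg.Agent.Lib.Helper25.SylowIn

/-!
# S1612 (helper25): maximal commuting subsets of a class of 3-transpositions
-/

set_option autoImplicit false

namespace Cfsg.Agent.Helper25.TT

open Cfsg Cfsg.Agent.Helper25

universe u

variable {G : Type u} [Group G] {D : Set G}

theorem closure_commute_of_commute {E : Set G} (hc : ∀ a ∈ E, ∀ b ∈ E, Commute a b) :
    ∀ g ∈ Subgroup.closure E, ∀ h ∈ Subgroup.closure E, Commute g h := by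
  have h1 : ∀ g ∈ Subgroup.closure E, ∀ e ∈ E, Commute g e := by
    intro g hg e he
    induction hg using Subgroup.closure_induction with
    | mem s hs => exact hc s hs e he
    | one => exact Commute.one_left e
    | mul x y _ _ hx hy => exact hx.mul_left hy
    | inv x _ hx => exact hx.inv_left
  intro g hg h hh
  induction hh using Subgroup.closure_induction with
  | mem s hs => exact h1 g hg s hs
  | one => exact Commute.one_right g
  | mul x y _ _ hx hy => exact hx.mul_right hy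
  | inv x _ hx => exact hx.inv_right

theorem closure_sq_of_commute {E : Set G} (hc : ∀ a ∈ E, ∀ b ∈ E, Commute a b)
    (hsq : ∀ a ∈ E, a * a = 1) : ∀ g ∈ Subgroup.closure E, g * g = 1 := by
  have hcc := closure_commute_of_commute hc
  intro g hg
  induction hg using Subgroup.closure_induction with
  | mem s hs => exact hsq s hs
  | one => simp
  | mul x y hx hy ihx ihy =>
    have hxy : Commute x y := hcc x hx y hy
    calc x * y * (x * y) = x * (y * x) * y := by group
      _ = x * (x * y) * y := by rw [hxy.eq]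
      _ = (x * x) * (y * y) := by group
      _ = 1 := by rw [ihx, ihy, one_mul]
  | inv x _ ihx =>
    calc x⁻¹ * x⁻¹ = (x * x)⁻¹ := by group
      _ = 1 := by rw [ihx, inv_one]

theorem isPGroup_closure_of_commute {E : Set G} (hc : ∀ a ∈ E, ∀ b ∈ E, Commute a b)
    (hsq : ∀ a ∈ E, a * a = 1) : IsPGroup 2 (Subgroup.closure E) := by
  rintro ⟨g, hg⟩
  refine ⟨1, ?_⟩
  apply Subtype.ext
  simp only [pow_one, Subgroup.coe_pow, Subgroup.coe_one, pow_two]
  exact closure_sq_of_commute hc hsq g hg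

theorem eq_one_of_cube_of_mem_two {O : Subgroup G} (hO : IsPGroup 2 O) {x : G} (hx : x ∈ O)
    (h3 : x ^ 3 = 1) : x = 1 := by
  obtain ⟨k, hk⟩ := hO ⟨x, hx⟩
  have hk' : x ^ 2 ^ k = 1 := by
    have := congrArg Subtype.val hk
    simpa using this
  have h1 : orderOf x ∣ 3 := orderOf_dvd_of_pow_eq_one h3
  have h2 : orderOf x ∣ 2 ^ k := orderOf_dvd_of_pow_eq_one hk'
  have hcop : Nat.Coprime (2 ^ k) 3 := Nat.Coprime.pow_left k (by norm_num)
  have h4 : orderOf x ∣ 1 := by
    have := Nat.dvd_gcd h2 h1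
    rwa [hcop.gcd_eq_one] at this
  exact orderOf_eq_one_iff.mp (Nat.dvd_one.mp h4)

/-- members of `D` in a common 2-subgroup commute. -/
theorem commute_of_mem_two_group (hS : IsThreeTranspositionSet D) {T : Subgroup G}
    (hT : IsPGroup 2 T) {x y : G} (hx : x ∈ D) (hy : y ∈ D) (hxT : x ∈ T) (hyT : y ∈ T) :
    Commute x y := by
  rcases hS.2 x hx y hy with h | h
  · exact commute_of_sq hS hx hy h
  · have h1 := eq_one_of_cube_of_mem_two hT (T.mul_mem hxT hyT) h
    have : y = x⁻¹ := by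
      rw [eq_inv_iff_mul_eq_one, ← h1]
      have hc : x * y = 1 := h1
      calc y * x = x⁻¹ * (x * y) * x := by group
        _ = x * y := by rw [hc]; group
    rw [this]
    exact (Commute.refl x).inv_right

/-- a commuting subset of `D` of maximal size is the set of all members of `D` in any
2-subgroup containing it. -/
theorem eq_inter_of_max [Finite G] (hS : IsThreeTranspositionSet D) {E : Set G}
    (hmax : ∀ E' : Set G, E' ⊆ D → (∀ a ∈ E', ∀ b ∈ E', Commute a b) → E'.ncard ≤ E.ncard)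
    (hED : E ⊆ D) {T : Subgroup G} (hT : IsPGroup 2 T) (hET : E ⊆ T) :
    E = {x | x ∈ D ∧ x ∈ T} := by
  have hsub : E ⊆ {x | x ∈ D ∧ x ∈ T} := fun x hx => ⟨hED hx, hET hx⟩
  apply Set.eq_of_subset_of_ncard_le hsub _ (Set.toFinite _)
  exact hmax _ (fun x hx => hx.1)
    (fun a ha b hb => commute_of_mem_two_group hS hT ha.1 hb.1 ha.2 hb.2)

theorem mem_normalizer_of_forall_finite {E : Set G} (hfin : E.Finite) {g : G}
    (h : ∀ y ∈ E, g * y * g⁻¹ ∈ E) : g ∈ Subgroup.normalizer E := by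
  have himg : (fun y => g * y * g⁻¹) '' E = E := by
    apply Set.eq_of_subset_of_ncard_le _ _ hfin
    · rintro _ ⟨y, hy, rfl⟩; exact h y hy
    · rw [Set.ncard_image_of_injective]
      intro u v huv
      simpa using huv
  rw [Subgroup.mem_set_normalizer_iff]
  intro y
  constructor
  · exact h y
  · intro hy
    rw [← himg] at hy
    obtain ⟨z, hz, hzy⟩ := hy
    have : z = y := by simpa using hzy
    rwa [← this]

/-- **S1612 (i)**. -/
theorem exists_sylow_le_normalizer [Finite G] (hD : IsThreeTranspositionClass D) {E : Set G}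
    (hE : E ⊆ D) (hc : ∀ a ∈ E, ∀ b ∈ E, Commute a b)
    (hmax : ∀ E' : Set G, E' ⊆ D → (∀ a ∈ E', ∀ b ∈ E', Commute a b) → E'.ncard ≤ E.ncard) :
    ∃ P : Sylow 2 G, (P : Subgroup G) ≤ Subgroup.normalizer E := by
  haveI : Fact (Nat.Prime 2) := ⟨Nat.prime_two⟩
  have hS := hD.1
  have hQ : IsPGroup 2 (Subgroup.closure E) :=
    isPGroup_closure_of_commute hc (fun a ha => mul_self hS (hE ha))
  obtain ⟨P, hP⟩ := hQ.exists_le_sylow
  refine ⟨P, ?_⟩
  have hEP : E ⊆ (P : Subgroup G) := fun x hx => hP (Subgroup.subset_closure hx)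
  have heq := eq_inter_of_max hS hmax hE P.isPGroup' hEP
  intro g hg
  apply mem_normalizer_of_forall_finite (Set.toFinite E)
  intro y hy
  rw [heq] at hy ⊢
  exact ⟨conj_mem hD g hy.1, (P : Subgroup G).mul_mem ((P : Subgroup G).mul_mem hg hy.2)
    ((P : Subgroup G).inv_mem hg)⟩

/-- **S1612 (ii)**. -/
theorem normalizer_two_transitive [Finite G] (hD : IsThreeTranspositionClass D)
    (hprim : Cfsg.IsPrimitiveUnderConj D) {E : Set G}
    (hE : E ⊆ D) (hc : ∀ a ∈ E, ∀ b ∈ E, Commute a b)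
    (hmax : ∀ E' : Set G, E' ⊆ D → (∀ a ∈ E', ∀ b ∈ E', Commute a b) → E'.ncard ≤ E.ncard)
    {a b c d : G} (ha : a ∈ E) (hb : b ∈ E) (hc' : c ∈ E) (hd : d ∈ E) (hab : a ≠ b)
    (hcd : c ≠ d) : ∃ g ∈ Subgroup.normalizer E, g * a * g⁻¹ = c ∧ g * b * g⁻¹ = d := by
  haveI : Fact (Nat.Prime 2) := ⟨Nat.prime_two⟩
  have hS := hD.1
  have hconj : ∀ g : G, ∀ x ∈ D, g * x * g⁻¹ ∈ D := fun g x hx => conj_mem hD g hx
  -- transitivity on commuting pairs
  obtain ⟨g₁, hg₁⟩ := isConj_of_mem hD (hE ha) (hE hc')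
  have hb₁ : g₁ * b * g₁⁻¹ ∈ Dd D c := by
    refine ⟨hconj g₁ b (hE hb), ?_, ?_⟩
    · intro h
      apply hab
      rw [← hg₁] at h
      have : g₁ * b * g₁⁻¹ = g₁ * a * g₁⁻¹ := h
      simpa using this.symm
    · rw [← hg₁]; exact commute_conj_conj' (hc a ha b hb)
  have hdD : d ∈ Dd D c := ⟨hE hd, fun h => hcd h.symm, hc c hc' d hd⟩
  obtain ⟨g₂, hg₂, hg₂b⟩ := dx_single_class hD hprim (hE hc') _ hb₁ d hdD
  have hg₂c : g₂ * c * g₂⁻¹ = c := by
    rw [(closure_Dd_commute hg₂).eq, mul_inv_cancel_right]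
  set g := g₂ * g₁ with hg
  have hga : g * a * g⁻¹ = c := by
    calc g * a * g⁻¹ = g₂ * (g₁ * a * g₁⁻¹) * g₂⁻¹ := by rw [hg]; group
      _ = c := by rw [hg₁, hg₂c]
  have hgb : g * b * g⁻¹ = d := by
    calc g * b * g⁻¹ = g₂ * (g₁ * b * g₁⁻¹) * g₂⁻¹ := by rw [hg]; group
      _ = d := hg₂b
  -- the centralizer of `c` and `d`
  set H := Subgroup.centralizer ({c, d} : Set G) with hH
  set Q := Subgroup.closure E with hQdef
  have hQ2 : IsPGroup 2 Q :=
    isPGroup_closure_of_commute hc (fun a ha => mul_self hS (hE ha))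
  have hmemH : ∀ x : G, Commute x c → Commute x d → x ∈ H := by
    intro x hxc hxd
    rw [hH, Subgroup.mem_centralizer_iff]
    intro z hz
    rcases hz with rfl | hz
    · exact hxc.eq.symm
    · rw [Set.mem_singleton_iff] at hz; rw [hz]; exact hxd.eq.symm
  have hQH : Q ≤ H := by
    rw [hQdef, Subgroup.closure_le]
    intro x hx
    exact hmemH x (hc x hx c hc') (hc x hx d hd)
  have hQgH : Cfsg.conjBy Q g ≤ H := by
    intro x hx
    rw [mem_conjBy] at hx
    have hcc := closure_commute_of_commute hc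
    have h1 : Commute (g⁻¹ * x * g) a := hcc _ hx a (Subgroup.subset_closure ha)
    have h2 : Commute (g⁻¹ * x * g) b := hcc _ hx b (Subgroup.subset_closure hb)
    have e : g * (g⁻¹ * x * g) * g⁻¹ = x := by group
    have h1' := commute_conj_conj' (c := g) h1
    have h2' := commute_conj_conj' (c := g) h2
    rw [e, hga] at h1'
    rw [e, hgb] at h2'
    exact hmemH x h1' h2'
  obtain ⟨T, hT, hQT⟩ := exists_isSylowIn_ge hQH hQ2
  obtain ⟨k, hkH, hk⟩ := hT.exists_conj_le hQgH (isPGroup_conjBy hQ2 g)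
  have heq := eq_inter_of_max hS hmax hE hT.isPGroup
    (fun x hx => hQT (Subgroup.subset_closure hx))
  have hkc : Commute k c := by
    rw [hH, Subgroup.mem_centralizer_iff] at hkH
    exact (hkH c (Set.mem_insert c _)).symm
  have hkd : Commute k d := by
    rw [hH, Subgroup.mem_centralizer_iff] at hkH
    exact (hkH d (Set.mem_insert_of_mem c rfl)).symm
  refine ⟨k * g, ?_, ?_, ?_⟩
  · apply mem_normalizer_of_forall_finite (Set.toFinite E)
    intro y hy
    have hyQ : y ∈ Q := Subgroup.subset_closure hy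
    have h1 : g * y * g⁻¹ ∈ Cfsg.conjBy Q g := by
      rw [mem_conjBy]
      rwa [show g⁻¹ * (g * y * g⁻¹) * g = y by group]
    have h2 : k * (g * y * g⁻¹) * k⁻¹ ∈ Cfsg.conjBy (Cfsg.conjBy Q g) k := by
      rw [mem_conjBy]
      rwa [show k⁻¹ * (k * (g * y * g⁻¹) * k⁻¹) * k = g * y * g⁻¹ by group]
    have h3 := hk h2
    rw [heq]
    have e : k * g * y * (k * g)⁻¹ = k * (g * y * g⁻¹) * k⁻¹ := by group
    rw [e]
    exact ⟨hconj k _ (hconj g y (hE hy)), h3⟩
  · calc k * g * a * (k * g)⁻¹ = k * (g * a * g⁻¹) * k⁻¹ := by group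
      _ = c := by rw [hga, hkc.eq, mul_inv_cancel_right]
  · calc k * g * b * (k * g)⁻¹ = k * (g * b * g⁻¹) * k⁻¹ := by group
      _ = d := by rw [hgb, hkd.eq, mul_inv_cancel_right]

end Cfsg.Agent.Helper25.TT
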