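import Mathlib
import Cfsg.Agent.Lib.Helper25.TT13a

/-!
# S0441 (helper25): in a primitive 3-transposition group `⟨C_D(a)⟩` is transitive on the
members of `D` not commuting with `a`
-/

set_option autoImplicit false

namespace Cfsg.Agent.Helper25.TT

open Cfsg

variable {G : Type*} [Group G] {D : Set G}

/-- `M_a = ⟨C_D(a)⟩`. -/
def Mc (D : Set G) (a : G) : Subgroup G := Subgroup.closure {y | y ∈ D ∧ Commute a y}

/-- `c` and `c'` are conjugate under `M_a`. -/
def MOrb (D : Set G) (a c c' : G) : Prop := ∃ g ∈ Mc D a, g * c * g⁻¹ = c'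

theorem Mc_commute {a g : G} (hg : g ∈ Mc D a) : Commute g a := by
  have h : Mc D a ≤ Subgroup.centralizer {a} := by
    unfold Mc
    rw [Subgroup.closure_le]
    intro y hy
    rw [SetLike.mem_coe, Subgroup.mem_centralizer_iff]
    intro z hz
    rw [Set.mem_singleton_iff] at hz
    rw [hz]
    exact hy.2.eq
  have := h hg
  rw [Subgroup.mem_centralizer_iff] at this
  exact (this a rfl).symm

theorem Mc_conj_self {a g : G} (hg : g ∈ Mc D a) : g * a * g⁻¹ = a := by
  rw [(Mc_commute hg).eq, mul_inv_cancel_right]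

theorem closure_Dd_le_Mc (a : G) : Subgroup.closure (Dd D a) ≤ Mc D a := by
  unfold Mc
  apply Subgroup.closure_mono
  intro y hy
  exact ⟨hy.1, hy.2.2⟩

theorem MOrb.refl (a c : G) : MOrb D a c c := ⟨1, Subgroup.one_mem _, by simp⟩

theorem MOrb.symm {a c c' : G} (h : MOrb D a c c') : MOrb D a c' c := by
  obtain ⟨g, hg, rfl⟩ := h
  exact ⟨g⁻¹, Subgroup.inv_mem _ hg, by group⟩

theorem MOrb.trans {a c c' c'' : G} (h1 : MOrb D a c c') (h2 : MOrb D a c' c'') :
    MOrb D a c c'' := by
  obtain ⟨g, hg, rfl⟩ := h1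
  obtain ⟨k, hk, rfl⟩ := h2
  exact ⟨k * g, Subgroup.mul_mem _ hk hg, by group⟩

theorem commute_conj_conj_iff (g x y : G) :
    Commute (g * x * g⁻¹) (g * y * g⁻¹) ↔ Commute x y := by
  constructor
  · intro h
    have := commute_conj_conj' (c := g⁻¹) h
    rwa [show g⁻¹ * (g * x * g⁻¹) * g⁻¹⁻¹ = x by group,
      show g⁻¹ * (g * y * g⁻¹) * g⁻¹⁻¹ = y by group] at this
  · exact commute_conj_conj'

theorem commute_conj_Mc_iff {a g x : G} (hg : g ∈ Mc D a) :
    Commute a (g * x * g⁻¹) ↔ Commute a x := by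
  have := commute_conj_conj_iff g a x
  rwa [Mc_conj_self hg] at this

theorem mem_Dd_conj_Mc (hconj : ∀ g : G, ∀ x ∈ D, g * x * g⁻¹ ∈ D) {a g b : G}
    (hg : g ∈ Mc D a) (hb : b ∈ Dd D a) : g * b * g⁻¹ ∈ Dd D a := by
  refine ⟨hconj g b hb.1, ?_, (commute_conj_Mc_iff hg).mpr hb.2.2⟩
  intro h
  apply hb.2.1
  have : g * b * g⁻¹ = g * a * g⁻¹ := by rw [h, Mc_conj_self hg]
  simpa using this

/-- **Fact A**: two commuting members of `D`, neither commuting with `a`, are conjugate
under `M_a`. -/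
theorem fact_A (hS : IsThreeTranspositionSet D) (hconj : ∀ g : G, ∀ x ∈ D, g * x * g⁻¹ ∈ D)
    {a c c' : G} (ha : a ∈ D) (hc : c ∈ D) (hc' : c' ∈ D) (hac : ¬ Commute a c)
    (hac' : ¬ Commute a c') (hcc' : Commute c c') : MOrb D a c c' := by
  have haa := mul_self hS ha
  have hcc := mul_self hS hc
  have hc'c' := mul_self hS hc'
  have br1 : c * a * c = a * c * a := braid hS hc ha (fun h => hac h.symm)
  have br2 : a * c' * a = c' * a * c' := braid hS ha hc' hac'
  have hrpr : c' * c * c' = c := by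
    rw [← hcc'.eq, mul_assoc, hc'c', mul_one]
  set y := c' * (a * c * a) * c' with hy
  have hyD : y ∈ D := conj_mem_invol hS hconj hc' (conj_mem_invol hS hconj ha hc)
  have hyy := mul_self hS hyD
  -- `a y a = y`
  have haya : a * y * a = y := by
    calc a * y * a = (a * c' * a) * c * (a * c' * a) := by rw [hy]; group
      _ = (c' * a * c') * c * (c' * a * c') := by rw [br2]
      _ = c' * a * (c' * c * c') * a * c' := by group
      _ = c' * (a * c * a) * c' := by rw [hrpr]; group
  have hcomm : Commute a y := by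
    show a * y = y * a
    calc a * y = (a * y * a) * a := by rw [mul_assoc (a * y), haa, mul_one]
      _ = y * a := by rw [haya]
  -- `y c y = a c' a`
  have h5 : c * a * c * a * c = a := by
    calc c * a * c * a * c = (c * a * c) * a * c := by group
      _ = (a * c * a) * a * c := by rw [br1]
      _ = a * c * (a * a) * c := by group
      _ = a := by rw [haa, mul_one, mul_assoc, hcc, mul_one]
  have hycy : y * c * y = a * c' * a := by
    calc y * c * y = c' * a * c * a * (c' * c * c') * a * c * a * c' := by rw [hy]; group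
      _ = c' * a * (c * a * c * a * c) * a * c' := by rw [hrpr]; group
      _ = c' * (a * a) * a * c' := by rw [h5]; group
      _ = c' * a * c' := by rw [haa, mul_one]
      _ = a * c' * a := br2.symm
  refine ⟨a * y, ?_, ?_⟩
  · unfold Mc
    exact Subgroup.mul_mem _ (Subgroup.subset_closure ⟨ha, Commute.refl a⟩)
      (Subgroup.subset_closure ⟨hyD, hcomm⟩)
  · have hinv : (a * y)⁻¹ = y * a := by
      rw [mul_inv_rev, inv_eq hS hyD, inv_eq hS ha]
    rw [hinv]
    calc a * y * c * (y * a) = a * (y * c * y) * a := by group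
      _ = a * (a * c' * a) * a := by rw [hycy]
      _ = (a * a) * c' * (a * a) := by group
      _ = c' := by rw [haa, one_mul, mul_one]

/-- having a commuting partner in `D_a` is invariant under `M_a`. -/
theorem exists_commute_of_MOrb (hconj : ∀ g : G, ∀ x ∈ D, g * x * g⁻¹ ∈ D) {a c c' : G}
    (h : MOrb D a c c') (hb : ∃ b ∈ Dd D a, Commute b c) : ∃ b ∈ Dd D a, Commute b c' := by
  obtain ⟨g, hg, rfl⟩ := h
  obtain ⟨b, hb, hbc⟩ := hb
  exact ⟨g * b * g⁻¹, mem_Dd_conj_Mc hconj hg hb, commute_conj_conj' hbc⟩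

/-- **Diameter 2**: every member of `D` not commuting with `a` commutes with a member
of `D_a`. -/
theorem exists_commute_of_connected (hS : IsThreeTranspositionSet D)
    (hconj : ∀ g : G, ∀ x ∈ D, g * x * g⁻¹ ∈ D)
    (hconn : (Cfsg.commutingGraph D).Connected) {a : G} (ha : a ∈ D) {c : G} (hc : c ∈ D)
    (hac : ¬ Commute a c) : ∃ b ∈ Dd D a, Commute b c := by
  have key : ∀ (u v : D), (Cfsg.commutingGraph D).Walk u v →
      (Commute a (u : G) ∨ ∃ b ∈ Dd D a, Commute b (u : G)) →
      (Commute a (v : G) ∨ ∃ b ∈ Dd D a, Commute b (v : G)) := by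
    intro u v w
    induction w with
    | nil => exact id
    | @cons u v w hadj _ ih =>
      intro hu
      apply ih
      have hadj' := hadj
      unfold Cfsg.commutingGraph at hadj'
      rw [SimpleGraph.fromRel_adj] at hadj'
      have hne : (u : G) ≠ (v : G) := fun h => hadj'.1 (Subtype.ext h)
      have hcomm : Commute (u : G) (v : G) := by
        rcases hadj'.2 with h | h
        · exact h
        · exact h.symm
      by_cases hav : Commute a (v : G)
      · exact Or.inl hav
      · right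
        by_cases hau : Commute a (u : G)
        · by_cases hua : (u : G) = a
          · exact absurd (hua ▸ hcomm) hav
          · exact ⟨u, ⟨u.2, hua, hau⟩, hcomm⟩
        · rcases hu with h | h
          · exact absurd h hau
          · exact exists_commute_of_MOrb hconj
              (fact_A hS hconj ha u.2 v.2 hau hav hcomm) h
  obtain ⟨w⟩ := hconn.preconnected ⟨a, ha⟩ ⟨c, hc⟩
  rcases key _ _ w (Or.inl (Commute.refl a)) with h | h
  · exact absurd h hac
  · exact h

/-- **Fact B**. -/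
theorem fact_B (hS : IsThreeTranspositionSet D) (hconj : ∀ g : G, ∀ x ∈ D, g * x * g⁻¹ ∈ D)
    {a c c' : G} (ha : a ∈ D) (hc : c ∈ D) (hc' : c' ∈ D) (hac : ¬ Commute a c)
    (hac' : ¬ Commute a c') (hn : ¬ MOrb D a c c') :
    ¬ Commute c c' ∧ ¬ Commute a (c * c' * c) := by
  have hcc' : ¬ Commute c c' := fun h => hn (fact_A hS hconj ha hc hc' hac hac' h)
  refine ⟨hcc', ?_⟩
  intro h
  apply hn
  have hcc := mul_self hS hc
  have hc'c' := mul_self hS hc'
  have br : c * c' * c = c' * c * c' := braid hS hc hc' hcc'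
  have hD'' : c * c' * c ∈ D := conj_mem_invol hS hconj hc hc'
  refine ⟨c * c' * c, Subgroup.subset_closure ⟨hD'', h⟩, ?_⟩
  rw [inv_eq hS hD'']
  calc c * c' * c * c * (c * c' * c) = c * c' * (c * c) * (c * c' * c) := by group
    _ = c * c' * (c * c' * c) := by rw [hcc, mul_one]
    _ = c * c' * (c' * c * c') := by rw [br]
    _ = c * (c' * c') * c * c' := by group
    _ = c' := by rw [hc'c', mul_one, hcc, one_mul]

/-- **Fact C**. -/
theorem fact_C (hS : IsThreeTranspositionSet D) (hconj : ∀ g : G, ∀ x ∈ D, g * x * g⁻¹ ∈ D)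
    {a c c' b : G} (ha : a ∈ D) (hc : c ∈ D) (hc' : c' ∈ D) (hac : ¬ Commute a c)
    (hac' : ¬ Commute a c') (hn : ¬ MOrb D a c c') (hb : b ∈ Dd D a) (hbc' : Commute b c')
    (hbc : ¬ Commute b c) : MOrb D a c (c * c' * c) := by
  obtain ⟨hcc', hac''⟩ := fact_B hS hconj ha hc hc' hac hac' hn
  have hcc := mul_self hS hc
  have hbb := mul_self hS hb.1
  have hbM : b ∈ Mc D a := Subgroup.subset_closure ⟨hb.1, hb.2.2⟩
  have br : b * c * b = c * b * c := braid hS hb.1 hc hbc
  have h1 : MOrb D a c (b * c * b) := ⟨b, hbM, by rw [inv_eq hS hb.1]⟩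
  have hD1 : b * c * b ∈ D := conj_mem_invol hS hconj hb.1 hc
  have hD2 : c * c' * c ∈ D := conj_mem_invol hS hconj hc hc'
  have ha1 : ¬ Commute a (b * c * b) := by
    intro h
    apply hac
    have := (commute_conj_Mc_iff (x := c) hbM).mp (by rwa [inv_eq hS hb.1])
    exact this
  have hcomm : Commute (b * c * b) (c * c' * c) := by
    rw [br]
    have := commute_conj_conj' (c := c) hbc'
    rwa [inv_eq hS hc] at this
  exact h1.trans (fact_A hS hconj ha hD1 hD2 ha1 hac'' hcomm)

/-- the sets of commuting partners in `D_a` of two members in different `M_a`-orbits are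
comparable. -/
theorem comparable_of_not_MOrb (hS : IsThreeTranspositionSet D)
    (hconj : ∀ g : G, ∀ x ∈ D, g * x * g⁻¹ ∈ D)
    {a c c' : G} (ha : a ∈ D) (hc : c ∈ D) (hc' : c' ∈ D) (hac : ¬ Commute a c)
    (hac' : ¬ Commute a c') (hn : ¬ MOrb D a c c') :
    (∀ b ∈ Dd D a, Commute b c' → Commute b c) ∨ (∀ b ∈ Dd D a, Commute b c → Commute b c') := by
  by_contra hcon
  rw [not_or] at hcon
  obtain ⟨h1, h2⟩ := hcon
  push Not at h1 h2
  obtain ⟨b, hb, hbc', hbc⟩ := h1
  obtain ⟨b₂, hb₂, hb₂c, hb₂c'⟩ := h2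
  have hcc' := (fact_B hS hconj ha hc hc' hac hac' hn).1
  have br : c * c' * c = c' * c * c' := braid hS hc hc' hcc'
  have e1 := fact_C hS hconj ha hc hc' hac hac' hn hb hbc' hbc
  have hn' : ¬ MOrb D a c' c := fun h => hn h.symm
  have e2 := fact_C hS hconj ha hc' hc hac' hac hn' hb₂ hb₂c hb₂c'
  rw [← br] at e2
  exact hn (e1.trans e2.symm)

theorem ncard_Dd_eq [Finite G] (hD : IsThreeTranspositionClass D) {x y : G} (hx : x ∈ D)
    (hy : y ∈ D) : (Dd D x).ncard = (Dd D y).ncard := by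
  have hconj : ∀ g : G, ∀ x ∈ D, g * x * g⁻¹ ∈ D := fun g x hx => conj_mem hD g hx
  obtain ⟨g, rfl⟩ := isConj_of_mem hD hx hy
  have : Dd D (g * x * g⁻¹) = (fun z => g * z * g⁻¹) '' Dd D x := by
    ext z
    rw [mem_Dd_conj_iff hconj]
    constructor
    · intro h
      exact ⟨g⁻¹ * z * g, h, by group⟩
    · rintro ⟨w, hw, rfl⟩
      rwa [show g⁻¹ * (g * w * g⁻¹) * g = w by group]
  rw [this, Set.ncard_image_of_injective]
  intro u v huv
  simpa using huv

/-- in the primitive case (of width at least 2) two members of `D` with the same sets of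
commuting partners are equal. -/
theorem wsim_eq_of_primitive (hD : IsThreeTranspositionClass D)
    (hprim : Cfsg.IsPrimitiveUnderConj D) (hw : ∃ a ∈ D, ∃ b ∈ D, a ≠ b ∧ Commute a b)
    {x d : G} (hx : x ∈ D) (hd : d ∈ D) (h : WSim D x d) : x = d := by
  obtain ⟨-, hD2, hblk⟩ := hprim
  have hconj : ∀ g : G, ∀ x ∈ D, g * x * g⁻¹ ∈ D := fun g x hx => conj_mem hD g hx
  have hB : IsBlk {x | x ∈ D ∧ WSim D x d} :=
    isBlk_of_rel (WSim D) (fun _ _ h => h.symm) (fun _ _ _ h1 h2 => h1.trans h2)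
      (fun g _ _ h => h.conj hconj g) hconj d
  rcases hblk _ (fun x hx => hx.1) hB with h' | h'
  · exact h' ⟨hx, h⟩ ⟨hd, WSim.refl d⟩
  · exfalso
    obtain ⟨a, ha, b, hb, hab, hc⟩ := hw
    have ha' : a ∈ {x | x ∈ D ∧ WSim D x d} := by rw [h']; exact ha
    have hb' : b ∈ {x | x ∈ D ∧ WSim D x d} := by rw [h']; exact hb
    have hwab : WSim D a b := ha'.2.trans hb'.2.symm
    exact hwab.not_commute hb hab hc

/-- a member of `D` not commuting with `a` fails to commute with some member of `D_a`. -/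
theorem exists_not_commute_Dd [Finite G] (hD : IsThreeTranspositionClass D)
    (hprim : Cfsg.IsPrimitiveUnderConj D) (hw : ∃ a ∈ D, ∃ b ∈ D, a ≠ b ∧ Commute a b)
    {a c : G} (ha : a ∈ D) (hc : c ∈ D) (hac : ¬ Commute a c) :
    ∃ b ∈ Dd D a, ¬ Commute b c := by
  by_contra hcon
  push Not at hcon
  have hsub : Dd D a ⊆ Dd D c := by
    intro b hb
    refine ⟨hb.1, ?_, (hcon b hb).symm⟩
    intro h
    apply hac
    rw [← h]; exact hb.2.2
  have heq : Dd D a = Dd D c :=
    Set.eq_of_subset_of_ncard_le hsub (ncard_Dd_eq hD hc ha).le (Set.toFinite _)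
  have := wsim_eq_of_primitive hD hprim hw ha hc heq
  apply hac
  rw [this]

/-- **Transitivity on non-commuting members**: in a primitive 3-transposition group of width
at least 2, `⟨C_D(a)⟩` is transitive on the members of `D` not commuting with `a`. -/
theorem Mc_transitive [Finite G] (hD : IsThreeTranspositionClass D)
    (hprim : Cfsg.IsPrimitiveUnderConj D) (hw : ∃ a ∈ D, ∃ b ∈ D, a ≠ b ∧ Commute a b)
    {a : G} (ha : a ∈ D) {c c' : G} (hc : c ∈ D) (hc' : c' ∈ D) (hac : ¬ Commute a c)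
    (hac' : ¬ Commute a c') : MOrb D a c c' := by
  have hS := hD.1
  have hconj : ∀ g : G, ∀ x ∈ D, g * x * g⁻¹ ∈ D := fun g x hx => conj_mem hD g hx
  have hconn := connected_of_primitive hconj hprim hw
  set A : Set G := {c | c ∈ D ∧ ¬ Commute a c} with hA
  have hAne : A.Nonempty := ⟨c, hc, hac⟩
  obtain ⟨cs, ⟨hcsD, hacs⟩, hmax⟩ := Set.exists_max_image A
    (fun c => ({b | b ∈ Dd D a ∧ Commute b c} : Set G).ncard) (Set.toFinite A) hAne
  have hall : ∀ c₂ ∈ D, ¬ Commute a c₂ → MOrb D a cs c₂ := by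
    intro c₂ hc₂ hac₂
    by_contra hn
    have hsubF : ∀ c' : G, MOrb D a c₂ c' → ∀ b ∈ Dd D a, Commute b c' → Commute b cs := by
      intro c' hc₂c' b hb hbc'
      have hc'D : c' ∈ D := by
        obtain ⟨g, -, rfl⟩ := hc₂c'; exact hconj g c₂ hc₂
      have hac' : ¬ Commute a c' := by
        obtain ⟨g, hg, rfl⟩ := hc₂c'
        rw [commute_conj_Mc_iff hg]; exact hac₂
      have hn' : ¬ MOrb D a cs c' := fun h => hn (h.trans hc₂c'.symm)
      rcases comparable_of_not_MOrb hS hconj ha hcsD hc'D hacs hac' hn' with h | h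
      · exact h b hb hbc'
      · have hsub : {b | b ∈ Dd D a ∧ Commute b cs} ⊆ {b | b ∈ Dd D a ∧ Commute b c'} :=
          fun b hb => ⟨hb.1, h b hb.1 hb.2⟩
        have heq := Set.eq_of_subset_of_ncard_le hsub (hmax c' ⟨hc'D, hac'⟩) (Set.toFinite _)
        have : b ∈ {b | b ∈ Dd D a ∧ Commute b cs} := by rw [heq]; exact ⟨hb, hbc'⟩
        exact this.2
    obtain ⟨b, hb, hbcs⟩ := exists_not_commute_Dd hD hprim hw ha hcsD hacs
    obtain ⟨b', hb', hb'c₂⟩ := exists_commute_of_connected hS hconj hconn ha hc₂ hac₂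
    obtain ⟨g, hg, hgb⟩ := dx_single_class hD hprim ha b' hb' b hb
    have hgM : g ∈ Mc D a := closure_Dd_le_Mc a hg
    apply hbcs
    apply hsubF (g * c₂ * g⁻¹) ⟨g, hgM, rfl⟩ b hb
    rw [← hgb]
    exact commute_conj_conj' hb'c₂
  exact (hall c hc hac).symm.trans (hall c' hc' hac')

end Cfsg.Agent.Helper25.TT
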