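import Mathlib
import Cfsg.Agent.Lib.Helper25.TT13b
import Cfsg.Agent.Lib.Helper25.TT13c

/-!
# S0441 (helper25): Fischer's rank 3 property
-/

set_option autoImplicit false

namespace Cfsg.Agent.Helper25.TT

open Cfsg
open scoped commutatorElement

universe u

variable {G : Type u} [Group G] {D : Set G}

/-- a simple non-commutative finite group is not a `p`-group. -/
theorem not_isPGroup_of_simple_nonab {N : Type*} [Group N] [Finite N] (hs : IsSimpleGroup N)
    (hnonab : ∃ x y : N, x * y ≠ y * x) (p : ℕ) [Fact p.Prime] : ¬ IsPGroup p N := by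
  intro hp
  haveI : Nontrivial N := hs.toNontrivial
  haveI := hp.center_nontrivial
  have hcn : Subgroup.center N ≠ ⊥ := by
    rw [← Subgroup.nontrivial_iff_ne_bot]; infer_instance
  rcases hs.eq_bot_or_eq_top_of_normal (Subgroup.center N) inferInstance with h' | h'
  · exact hcn h'
  · obtain ⟨x, y, hxy⟩ := hnonab
    apply hxy
    have : y ∈ Subgroup.center N := by rw [h']; exact Subgroup.mem_top y
    rw [Subgroup.mem_center_iff] at this
    exact (this x)

/-- with a simple non-commutative `G'`, `O_p(G) ≤ Z(G)`. -/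
theorem pCore_le_center_of_simple_commutator [Finite G]
    (hs : IsSimpleGroup (commutator G)) (hnonab : ∃ x y : commutator G, x * y ≠ y * x)
    (p : ℕ) [Fact p.Prime] : Cfsg.pCore p G ≤ Subgroup.center G := by
  set N := commutator G with hN
  set Q := Cfsg.pCore p G with hQ
  haveI hQn : Q.Normal := Cfsg.pCore_normal p G
  haveI hMn : (Q.subgroupOf N).Normal := Subgroup.Normal.subgroupOf hQn N
  rcases hs.eq_bot_or_eq_top_of_normal _ hMn with h | h
  · rw [Subgroup.subgroupOf_eq_bot] at h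
    intro q hq
    rw [Subgroup.mem_center_iff]
    intro g
    have h1 : q * g * q⁻¹ * g⁻¹ ∈ Q := by
      have : q * g * q⁻¹ * g⁻¹ = q * (g * q⁻¹ * g⁻¹) := by group
      rw [this]
      exact Q.mul_mem hq (hQn.conj_mem _ (Q.inv_mem hq) g)
    have h2 : q * g * q⁻¹ * g⁻¹ ∈ N := by
      have h' : ⁅q, g⁆ ∈ ⁅(⊤ : Subgroup G), ⊤⁆ :=
        Subgroup.commutator_mem_commutator (Subgroup.mem_top _) (Subgroup.mem_top _)
      rw [← commutator_def, commutatorElement_def] at h'
      exact h'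
    have h3 : q * g * q⁻¹ * g⁻¹ ∈ Q ⊓ N := ⟨h1, h2⟩
    rw [h.eq_bot, Subgroup.mem_bot] at h3
    calc g * q = (q * g * q⁻¹ * g⁻¹)⁻¹ * (q * g) := by group
      _ = q * g := by rw [h3, inv_one, one_mul]
  · exfalso
    rw [Subgroup.subgroupOf_eq_top] at h
    have hp : IsPGroup p ↥N :=
      (Cfsg.Agent.Helper25.isPGroup_pCore' p G).to_le h
    exact not_isPGroup_of_simple_nonab hs hnonab p hp

/-- a simple non-commutative `G'` is perfect. -/
theorem perfect_of_simple_commutator
    (hs : IsSimpleGroup (commutator G)) (hnonab : ∃ x y : commutator G, x * y ≠ y * x) :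
    ⁅commutator G, commutator G⁆ = commutator G := by
  rcases hs.eq_bot_or_eq_top_of_normal (commutator ↥(commutator G)) inferInstance with h | h
  · exfalso
    obtain ⟨x, y, hxy⟩ := hnonab
    apply hxy
    have : ⁅x, y⁆ ∈ commutator ↥(commutator G) := by
      change ⁅x, y⁆ ∈ ⁅(⊤ : Subgroup ↥(commutator G)), ⊤⁆
      exact Subgroup.commutator_mem_commutator (Subgroup.mem_top _) (Subgroup.mem_top _)
    rw [h, Subgroup.mem_bot, commutatorElement_eq_one_iff_commute] at this
    exact this.eq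
  · haveI : Group.IsPerfect ↥(commutator G) := ⟨h⟩
    exact Subgroup.isPerfect_iff.mp inferInstance

/-- primitivity from `O₂, O₃ ≤ Z` and `G'' = G'`. -/
theorem primitive_of_core_central [Finite G] (hD : IsThreeTranspositionClass D)
    (hD2 : ∃ a ∈ D, ∃ b ∈ D, a ≠ b) (h2 : Cfsg.pCore 2 G ≤ Subgroup.center G)
    (h3 : Cfsg.pCore 3 G ≤ Subgroup.center G)
    (hperf : ⁅commutator G, commutator G⁆ = commutator G) : Cfsg.IsPrimitiveUnderConj D := by
  obtain ⟨L, hLn, hL, hF, halt⟩ := exists_quasisimple_normal hD hD2 h2 h3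
  haveI := hLn
  have hFit := fitting_le_center_of_class hD hD2 h2 h3
  have hC := centralizer_le_center_of_fstar hFit L hF
  have hidx : L.index ≤ 2 := by
    rcases halt with h | h
    · rw [h, Subgroup.index_top]; norm_num
    · exact index_le_two_of_perfect hD hperf L h
  exact primitive_of_index_le_two hD hD2 h2 L hL hC hidx

/-- with a simple non-commutative `G'` the width is at least 2. -/
theorem exists_commute_of_simple_commutator [Finite G] (hD : IsThreeTranspositionClass D)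
    (hs : IsSimpleGroup (commutator G)) (hnonab : ∃ x y : commutator G, x * y ≠ y * x)
    {a : G} (ha : a ∈ D) : ∃ b ∈ D, b ≠ a ∧ Commute a b := by
  haveI : Fact (Nat.Prime 3) := ⟨Nat.prime_three⟩
  by_contra hcon
  push Not at hcon
  have hS := hD.1
  have hgen := hD.2.2
  have hconj : ∀ g : G, ∀ x ∈ D, g * x * g⁻¹ ∈ D := fun g x hx => conj_mem hD g hx
  have hnc : ∀ x ∈ D, ∀ y ∈ D, Commute x y → x = y := by
    intro x hx y hy hxy
    obtain ⟨g, rfl⟩ := isConj_of_mem hD ha hx
    have hy' : g⁻¹ * y * g ∈ D := by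
      have := hconj g⁻¹ y hy
      rwa [inv_inv] at this
    have hc : Commute a (g⁻¹ * y * g) := (commute_conj_iff g a y).mp hxy
    by_contra hne
    apply hcon (g⁻¹ * y * g) hy' _ hc
    intro h
    apply hne
    rw [← h]; group
  have hZ : ZStarAt G := fun P u hu huP hiso => Cfsg.Agent.S0215.result P u hu huP hiso
  haveI hOn : (Cfsg.pCore 3 G).Normal := Cfsg.pCore_normal 3 G
  have hle : commutator G ≤ Cfsg.pCore 3 G := by
    apply commutator_le_of_congr hgen _ (d := a)
    intro x hx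
    rw [inv_eq hS ha]
    exact mul_mem_pCore_three hZ hS hconj hnc ha hx
  have hp : IsPGroup 3 ↥(commutator G) :=
    (Cfsg.Agent.Helper25.isPGroup_pCore' 3 G).to_le hle
  exact not_isPGroup_of_simple_nonab hs hnonab 3 hp

/-- **S0441, abstract form.** -/
theorem rank_three [Finite G] (hD : IsThreeTranspositionClass D)
    (hs : IsSimpleGroup (commutator G)) (hnonab : ∃ x y : commutator G, x * y ≠ y * x)
    {a : G} (ha : a ∈ D) :
    (∃ b ∈ D, b ≠ a ∧ Commute a b) ∧ (∃ c ∈ D, ¬ Commute a c) ∧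
    (∀ b ∈ D, ∀ b' ∈ D, b ≠ a → b' ≠ a → Commute a b → Commute a b' →
      ∃ g : G, Commute g a ∧ g * b * g⁻¹ = b') ∧
    (∀ c ∈ D, ∀ c' ∈ D, ¬ Commute a c → ¬ Commute a c' →
      ∃ g : G, Commute g a ∧ g * c * g⁻¹ = c') := by
  haveI : Fact (Nat.Prime 2) := ⟨Nat.prime_two⟩
  haveI : Fact (Nat.Prime 3) := ⟨Nat.prime_three⟩
  have h1 := exists_commute_of_simple_commutator hD hs hnonab ha
  obtain ⟨b₀, hb₀, hb₀a, hab₀⟩ := h1
  have hD2 : ∃ a ∈ D, ∃ b ∈ D, a ≠ b := ⟨a, ha, b₀, hb₀, fun h => hb₀a h.symm⟩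
  have hw : ∃ a ∈ D, ∃ b ∈ D, a ≠ b ∧ Commute a b :=
    ⟨a, ha, b₀, hb₀, fun h => hb₀a h.symm, hab₀⟩
  have hprim := primitive_of_core_central hD hD2
    (pCore_le_center_of_simple_commutator hs hnonab 2)
    (pCore_le_center_of_simple_commutator hs hnonab 3)
    (perfect_of_simple_commutator hs hnonab)
  refine ⟨⟨b₀, hb₀, hb₀a, hab₀⟩, exists_not_commute hD hD2 ha, ?_, ?_⟩
  · intro b hb b' hb' hba hb'a hab hab'
    obtain ⟨g, hg, hgb⟩ := dx_single_class hD hprim ha b ⟨hb, hba, hab⟩ b' ⟨hb', hb'a, hab'⟩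
    exact ⟨g, closure_Dd_commute hg, hgb⟩
  · intro c hc c' hc' hac hac'
    obtain ⟨g, hg, hgc⟩ := Mc_transitive hD hprim hw ha hc hc' hac hac'
    exact ⟨g, Mc_commute hg, hgc⟩

end Cfsg.Agent.Helper25.TT
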