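import Mathlib
import Cfsg.Agent.Lib.Helper25.TT61b

/-!
# Towards S5361 (helper25): a simple commutator subgroup gives primitivity
-/

set_option autoImplicit false

namespace Cfsg.Agent.Helper25.TT

open Cfsg
open scoped commutatorElement

universe u

variable {G : Type u} [Group G] {D : Set G}

/-- with a commuting pair and trivial centre, a simple `G'` is not commutative. -/
theorem not_comm_of_simple_commutator [Finite G] (hD : IsThreeTranspositionClass D)
    (hZ : Subgroup.center G = ⊥) (hw : ∃ a ∈ D, ∃ b ∈ D, a ≠ b ∧ Commute a b)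
    (hs : IsSimpleGroup (commutator G)) : ¬ ∀ x y : commutator G, x * y = y * x := by
  intro hcomm
  have hS := hD.1
  obtain ⟨a, ha, b, hb, hab, hc⟩ := hw
  have hai := inv_eq hS ha
  have htN : a * b ∈ commutator G := by
    have := inv_mul_mem_commutator hD ha hb
    rwa [hai] at this
  have ht1 : a * b ≠ 1 := by
    intro h
    apply hab
    have : b = a⁻¹ := (inv_eq_of_mul_eq_one_right h).symm
    rw [this, hai]
  have htt : (a * b) * (a * b) = 1 := by
    rw [← pow_two]; exact sq_of_commute hS ha hb hc
  set t : commutator G := ⟨a * b, htN⟩ with ht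
  have ht1' : t ≠ 1 := by
    intro h
    exact ht1 (congrArg Subtype.val h)
  have htt' : t * t = 1 := Subtype.ext htt
  have hnorm : (Subgroup.zpowers t).Normal := by
    constructor
    intro n hn g
    rw [hcomm g n, mul_inv_cancel_right]; exact hn
  rcases hs.eq_bot_or_eq_top_of_normal _ hnorm with h | h
  · apply ht1'
    have := Subgroup.mem_zpowers t
    rw [h, Subgroup.mem_bot] at this
    exact this
  · -- every element of `G'` is `1` or `t`, so `t` is central
    have hcen : a * b ∈ Subgroup.center G := by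
      rw [Subgroup.mem_center_iff]
      intro g
      have hg : g * (a * b) * g⁻¹ ∈ commutator G :=
        (inferInstance : (commutator G).Normal).conj_mem _ htN g
      have hmem : (⟨g * (a * b) * g⁻¹, hg⟩ : commutator G) ∈ Subgroup.zpowers t := by
        rw [h]; exact Subgroup.mem_top _
      rcases mem_zpowers_invol htt' hmem with h1 | h1
      · exfalso
        apply ht1
        have := congrArg Subtype.val h1
        simp only [Subgroup.coe_one] at this
        have h2 := congrArg (fun z => g⁻¹ * z * g) this
        simpa [mul_assoc] using h2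
      · have := congrArg Subtype.val h1
        simp only [ht] at this
        calc g * (a * b) = (g * (a * b) * g⁻¹) * g := by group
          _ = a * b * g := by rw [this]
    rw [hZ, Subgroup.mem_bot] at hcen
    exact ht1 hcen

/-- with a simple non-commutative `G'` and trivial centre, `O_p(G) = 1`. -/
theorem pCore_eq_bot_of_simple_commutator [Finite G] (hZ : Subgroup.center G = ⊥)
    (hs : IsSimpleGroup (commutator G)) (hnc : ¬ ∀ x y : commutator G, x * y = y * x)
    (p : ℕ) [Fact p.Prime] : Cfsg.pCore p G = ⊥ := by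
  set N := commutator G with hN
  set Q := Cfsg.pCore p G with hQ
  haveI hQn : Q.Normal := Cfsg.pCore_normal p G
  haveI hMn : (Q.subgroupOf N).Normal := Subgroup.Normal.subgroupOf hQn N
  rcases hs.eq_bot_or_eq_top_of_normal _ hMn with h | h
  · rw [Subgroup.subgroupOf_eq_bot] at h
    rw [eq_bot_iff]
    intro q hq
    have hqc : q ∈ Subgroup.center G := by
      rw [Subgroup.mem_center_iff]
      intro g
      have h1 : q * g * q⁻¹ * g⁻¹ ∈ Q := by
        have : q * g * q⁻¹ * g⁻¹ = q * (g * q⁻¹ * g⁻¹) := by group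
        rw [this]
        exact Q.mul_mem hq (hQn.conj_mem _ (Q.inv_mem hq) g)
      have h2 : q * g * q⁻¹ * g⁻¹ ∈ N := by
        have h' : ⁅q, g⁆ ∈ ⁅(⊤ : Subgroup G), ⊤⁆ :=
          Subgroup.commutator_mem_commutator (Subgroup.mem_top _) (Subgroup.mem_top _)
        rw [← commutator_def, commutatorElement_def] at h'
        exact h'
      have h3 : q * g * q⁻¹ * g⁻¹ ∈ Q ⊓ N := ⟨h1, h2⟩
      rw [h.eq_bot, Subgroup.mem_bot] at h3
      calc g * q = (q * g * q⁻¹ * g⁻¹)⁻¹ * (q * g) := by group
        _ = q * g := by rw [h3, inv_one, one_mul]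
    rw [hZ] at hqc
    exact hqc
  · exfalso
    rw [Subgroup.subgroupOf_eq_top] at h
    have hp : IsPGroup p ↥N :=
      (Cfsg.Agent.Helper25.isPGroup_pCore' p G).to_le h
    haveI : Nontrivial ↥N := hs.toNontrivial
    haveI := hp.center_nontrivial
    have hcn : Subgroup.center ↥N ≠ ⊥ := by
      rw [← Subgroup.nontrivial_iff_ne_bot]; infer_instance
    rcases hs.eq_bot_or_eq_top_of_normal (Subgroup.center ↥N) inferInstance with h' | h'
    · exact hcn h'
    · apply hnc
      intro x y
      have : y ∈ Subgroup.center ↥N := by rw [h']; exact Subgroup.mem_top y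
      rw [Subgroup.mem_center_iff] at this
      exact (this x)

/-- **(A)**: a simple commutator subgroup gives primitivity. -/
theorem primitive_of_simple_commutator [Finite G] (hD : IsThreeTranspositionClass D)
    (hZ : Subgroup.center G = ⊥) (hw : ∃ a ∈ D, ∃ b ∈ D, a ≠ b ∧ Commute a b)
    (hs : IsSimpleGroup (commutator G)) : Cfsg.IsPrimitiveUnderConj D := by
  haveI : Fact (Nat.Prime 2) := ⟨Nat.prime_two⟩
  haveI : Fact (Nat.Prime 3) := ⟨Nat.prime_three⟩
  have hS := hD.1
  have hD2 : ∃ a ∈ D, ∃ b ∈ D, a ≠ b := by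
    obtain ⟨a, ha, b, hb, hab, -⟩ := hw
    exact ⟨a, ha, b, hb, hab⟩
  have hnc := not_comm_of_simple_commutator hD hZ hw hs
  have h2 := pCore_eq_bot_of_simple_commutator hZ hs hnc 2
  have h3 := pCore_eq_bot_of_simple_commutator hZ hs hnc 3
  have h2' : Cfsg.pCore 2 G ≤ Subgroup.center G := by rw [h2]; exact bot_le
  have h3' : Cfsg.pCore 3 G ≤ Subgroup.center G := by rw [h3]; exact bot_le
  obtain ⟨L, hLn, hL, hF, -⟩ := exists_quasisimple_normal hD hD2 h2' h3'
  haveI := hLn
  have hFit := fitting_le_center_of_class hD hD2 h2' h3'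
  have hC := centralizer_le_center_of_fstar hFit L hF
  have hLc : Cfsg.IsComponent L := ⟨Subgroup.Normal.isSubnormal inferInstance, hL⟩
  have hLG : L ≤ commutator G := by
    rw [commutator_def, ← Cfsg.Agent.Helper7.component_perfect hLc]
    exact Subgroup.commutator_mono le_top le_top
  have hGL : commutator G ≤ L := by
    haveI hMn : (L.subgroupOf (commutator G)).Normal := Subgroup.Normal.subgroupOf hLn _
    rcases hs.eq_bot_or_eq_top_of_normal _ hMn with h | h
    · exfalso
      rw [Subgroup.subgroupOf_eq_bot] at h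
      have : L = ⊥ := by
        have h1 : L ⊓ commutator G = ⊥ := h.eq_bot
        rwa [inf_eq_left.mpr hLG] at h1
      exact Cfsg.Agent.Helper7.component_ne_bot hLc this
    · rwa [Subgroup.subgroupOf_eq_top] at h
  have hEq : commutator G = L := le_antisymm hGL hLG
  obtain ⟨d, hd, -⟩ := hD2
  have hD2 : ∃ a ∈ D, ∃ b ∈ D, a ≠ b := by
    obtain ⟨a, ha, b, hb, hab, -⟩ := hw
    exact ⟨a, ha, b, hb, hab⟩
  have hidx : L.index ≤ 2 := by
    apply index_le_two_of_congr hS hD.2.2 L hd
    intro x hx
    rw [← hEq]
    exact inv_mul_mem_commutator hD hd hx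
  exact primitive_of_index_le_two hD hD2 h2' L hL hC hidx

end Cfsg.Agent.Helper25.TT
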