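import Mathlib
import Cfsg.Agent.Lib.Helper3.BisetYoshidaCore
import Cfsg.Agent.Lib.Helper3.BisetTransport
import Cfsg.Agent.Lib.Helper9.FrattiniElem

/-!
# Tate's theorem, first part: the focal subgroup is determined modulo the Frattini subgroup
-/

set_option autoImplicit false
set_option linter.style.haveILetI false
set_option linter.unusedSectionVars false

namespace Cfsg.Agent.Helper25.TateFoc

open Cfsg Cfsg.FusionSystem Cfsg.Agent.Helper25 Cfsg.Agent.Helper3.Biset

universe u

section Top

variable {T : Type u} [Group T] [Finite T] {p : ℕ} [hp : Fact p.Prime]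
  {F : FusionSystem (⊤ : Subgroup T)}

theorem frattini_map_le_range_pow :
    (frattini T).map (Abelianization.of : T →* Abelianization T) ≤
      (powMonoidHom p : Abelianization T →* Abelianization T).range := by
  have h1 := Cfsg.Agent.Helper9.frattini_le_ker_of_elementary (p := p)
    ((QuotientGroup.mk' (powMonoidHom p : Abelianization T →* Abelianization T).range).comp
      (Abelianization.of : T →* Abelianization T)) (fun a b => mul_comm a b) (by
      intro a
      induction a using QuotientGroup.induction_on with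
      | _ x =>
        rw [← QuotientGroup.mk_pow, QuotientGroup.eq_one_iff]
        exact ⟨x, rfl⟩)
  rintro _ ⟨x, hx, rfl⟩
  have h2 := h1 hx
  rw [MonoidHom.mem_ker, MonoidHom.comp_apply, QuotientGroup.mk'_apply,
    QuotientGroup.eq_one_iff] at h2
  exact h2

/-- **Tate, first part (top version).** -/
theorem focal_le_of_le_sup_frattini (hT : IsPGroup p T) (hF : F.IsSaturated p) (R₀ : Subgroup T)
    (hcR : commutator T ≤ R₀) (hR₀ : R₀ ≤ F.focalSubgroup)
    (h : F.focalSubgroup ≤ R₀ ⊔ frattini T) : F.focalSubgroup ≤ R₀ := by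
  obtain ⟨c, hc1, hc2, hc3⟩ := exists_char hT hF
  have hc : ∀ D, c D ≠ 0 → D ∈ TD F := hc1
  have hstab : ∀ E E' : Subgroup (T × T), FFConj F E E' → marks c E = marks c E' :=
    fun E E' hEE => hc3 E E' hEE (Nat.zero_le _)
  have htop : ∀ D : Subgroup (T × T), Nat.card D = Nat.card T → c D = cTop F D :=
    fun D hD => hc2 D hD.ge
  have hndvd := not_dvd_card_RQ hT hF hc htop
  have hcop : p.Coprime (Nat.card (RQ T T (Om c))) :=
    (Nat.Prime.coprime_iff_not_dvd hp.out).2 hndvd
  set B : Subgroup (Abelianization T) := F.focalSubgroup.map Abelianization.of with hBdef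
  set R : Subgroup (Abelianization T) := R₀.map Abelianization.of with hRdef
  set τ := transfer T T (Om c) (rfree_Om hc) with hτ
  set Tm : Abelianization T →* Abelianization T := Abelianization.lift τ with hTmdef
  have hA : IsPGroup p (Abelianization T) := hT.to_quotient _
  have hRB : R ≤ B := Subgroup.map_mono hR₀
  have hBker : B ≤ Tm.ker := by
    rw [hBdef, Subgroup.map_le_iff_le_comap]
    unfold FusionSystem.focalSubgroup
    rw [Subgroup.closure_le]
    rintro _ ⟨P, φ, x, hφ, rfl⟩
    show Tm (Abelianization.of ((x : T)⁻¹ * φ x)) = 1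
    rw [hTmdef, Abelianization.lift_apply_of, map_mul, map_inv, hτ,
      transfer_stable hc hstab hφ x, inv_mul_cancel]
  have hTm : ∀ a : Abelianization T, Tm a * a ^ Nat.card (RQ T T (Om c)) ∈ B := by
    intro a
    have hsurj : Function.Surjective (Abelianization.of : T →* Abelianization T) :=
      QuotientGroup.mk'_surjective _
    obtain ⟨t, rfl⟩ := hsurj a
    have hχ : ∀ (P : Subgroup T) (φ : P →* T), φ ∈ F.Hom P → ∀ x : P,
        ((QuotientGroup.mk' B).comp Abelianization.of) (φ x) =
          ((QuotientGroup.mk' B).comp Abelianization.of) (x : T) := by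
      intro P φ hφ x
      rw [MonoidHom.comp_apply, MonoidHom.comp_apply, QuotientGroup.mk'_apply,
        QuotientGroup.mk'_apply, eq_comm, QuotientGroup.eq, ← map_inv, ← map_mul]
      exact Subgroup.mem_map_of_mem _ (Subgroup.subset_closure ⟨P, φ, x, hφ, rfl⟩)
    have h1 := lift_transfer_eq_pow hc ((QuotientGroup.mk' B).comp Abelianization.of) hχ t
    have hl : Abelianization.lift ((QuotientGroup.mk' B).comp Abelianization.of) =
        QuotientGroup.mk' B := by
      apply Abelianization.hom_ext
      ext y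
      rw [MonoidHom.comp_apply, Abelianization.lift_apply_of]
    rw [hl] at h1
    rw [hTmdef, Abelianization.lift_apply_of, ← QuotientGroup.eq_one_iff, QuotientGroup.mk_mul,
      QuotientGroup.mk_pow]
    have h2 : ((τ t : Abelianization T) : Abelianization T ⧸ B) =
        ((QuotientGroup.mk (Abelianization.of t) : Abelianization T ⧸ B))⁻¹ ^
          Nat.card (RQ T T (Om c)) := h1
    rw [h2, ← mul_pow, inv_mul_cancel, one_pow]
  have hsuff : B ≤ R ⊔ (powMonoidHom p : Abelianization T →* Abelianization T).range := by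
    rw [hBdef]
    refine (Subgroup.map_mono h).trans ?_
    rw [Subgroup.map_sup]
    exact sup_le_sup_left frattini_map_le_range_pow _
  have hBR := Cfsg.Agent.Helper3.TateAb.le_of_le_sup_pow hA Tm B R _ hcop hBker hTm hRB hsuff
  intro x hx
  obtain ⟨r, hr, hrx⟩ := hBR (Subgroup.mem_map_of_mem Abelianization.of hx)
  have h1 : r⁻¹ * x ∈ commutator T := by
    rw [← QuotientGroup.eq]
    exact hrx
  have h2 : x = r * (r⁻¹ * x) := by rw [mul_inv_cancel_left]
  rw [h2]
  exact R₀.mul_mem hr (hcR h1)

end Top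

section General

variable {Ω : Type u} [Group Ω] {S : Subgroup Ω}

/-- The focal subgroup of the copy on `↥S`. -/
theorem IsTopCopy.focal_map {F : FusionSystem S} {E : FusionSystem (⊤ : Subgroup ↥S)}
    (h : IsTopCopy F E) : E.focalSubgroup.map S.subtype = F.focalSubgroup := by
  apply le_antisymm
  · rw [Subgroup.map_le_iff_le_comap]
    conv_lhs => unfold FusionSystem.focalSubgroup
    rw [Subgroup.closure_le]
    rintro _ ⟨P', φ', x', hφ', rfl⟩
    obtain ⟨φ, hφ, hφeq⟩ := h.exists_of_mem hφ'
    have hx1 : ((x' : ↥S) : Ω) ∈ P'.map S.subtype := Subgroup.mem_map_of_mem _ x'.2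
    show S.subtype ((x' : ↥S)⁻¹ * φ' x') ∈ F.focalSubgroup
    have e : S.subtype ((x' : ↥S)⁻¹ * φ' x') = ((x' : ↥S) : Ω)⁻¹ * φ ⟨((x' : ↥S) : Ω), hx1⟩ := by
      rw [hφeq x' hx1]
      simp
    rw [e]
    exact Subgroup.subset_closure ⟨_, φ, ⟨_, hx1⟩, hφ, rfl⟩
  · exact h.focal_le

theorem focalSubgroup_le (F : FusionSystem S) : F.focalSubgroup ≤ S := by
  unfold FusionSystem.focalSubgroup
  rw [Subgroup.closure_le]
  rintro _ ⟨P, φ, x, hφ, rfl⟩
  exact S.mul_mem (S.inv_mem ((F.le_of_mem hφ).1 x.2)) ((F.le_of_mem hφ).2 x)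

/-- **Tate, first part.** -/
theorem focal_le_of_le [Finite S] (p : ℕ) [Fact p.Prime] (hS : IsPGroup p S) (F : FusionSystem S)
    (hF : F.IsSaturated p) (R : Subgroup Ω) (hcR : ⁅(S : Subgroup Ω), (S : Subgroup Ω)⁆ ≤ R)
    (hR : R ≤ F.focalSubgroup)
    (h : F.focalSubgroup ≤ R ⊔ (frattini ↥S).map S.subtype) : F.focalSubgroup ≤ R := by
  obtain ⟨E, hE⟩ := exists_topCopy F
  have hEsat : E.IsSaturated p := hE.isSaturated hS hF
  have hT : IsPGroup p ↥S := hS
  have hfoc := IsTopCopy.focal_map hE
  have hRS : R ≤ S := hR.trans (focalSubgroup_le F)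
  have hRmap : (R.subgroupOf S).map S.subtype = R := by
    rw [Subgroup.subgroupOf_map_subtype, inf_eq_left.2 hRS]
  have hinj : Function.Injective S.subtype := S.subtype_injective
  have h1 : commutator ↥S ≤ R.subgroupOf S := by
    intro c hc
    rw [Subgroup.mem_subgroupOf]
    apply hcR
    have h2 : (commutator ↥S).map S.subtype = ⁅(S : Subgroup Ω), (S : Subgroup Ω)⁆ := by
      rw [commutator_def, Subgroup.map_commutator, ← MonoidHom.range_eq_map, Subgroup.range_subtype]
    rw [← h2]
    exact Subgroup.mem_map_of_mem _ hc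
  have h2 : R.subgroupOf S ≤ E.focalSubgroup := by
    intro r hr
    rw [Subgroup.mem_subgroupOf] at hr
    have := hR hr
    rw [← hfoc] at this
    obtain ⟨k, hk, hkr⟩ := this
    have : k = r := hinj hkr
    rw [← this]
    exact hk
  have h3 : E.focalSubgroup ≤ R.subgroupOf S ⊔ frattini ↥S := by
    intro x hx
    have hx' : S.subtype x ∈ F.focalSubgroup := by
      rw [← hfoc]; exact Subgroup.mem_map_of_mem _ hx
    have := h hx'
    rw [← hRmap, ← Subgroup.map_sup] at this
    obtain ⟨k, hk, hkr⟩ := this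
    have : k = x := hinj hkr
    rw [← this]
    exact hk
  have h4 := focal_le_of_le_sup_frattini hT hEsat (R.subgroupOf S) h1 h2 h3
  rw [← hfoc, ← hRmap]
  exact Subgroup.map_mono h4

end General

end Cfsg.Agent.Helper25.TateFoc
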