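import Mathlib
import Cfsg.Agent.Lib.Helper25.FusionHyp
import Cfsg.Agent.Lib.Helper25.FusionAlperin2
import Cfsg.Agent.S5124

/-!
# Two facts on the hyperfocal subgroup

* every map of a saturated fusion system is conjugation by an element of `S` modulo the hyperfocal
  subgroup;
* the hyperfocal subgroup is generated by the `S`-conjugates of the elements `q⁻¹ ψ(q)` with `ψ` a
  map of the system between subgroups of the hyperfocal subgroup.
-/

set_option autoImplicit false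
set_option linter.style.haveILetI false
set_option linter.unusedSectionVars false

namespace Cfsg.Agent.Helper25.TateHyp

open Cfsg Cfsg.FusionSystem Cfsg.Agent.Helper25

variable {Ω : Type*} [Group Ω] {S : Subgroup Ω}

/-- Every map of the system is conjugation by an element of `S` modulo the hyperfocal subgroup. -/
theorem exists_conj_mod_hyp [Finite S] (p : ℕ) [Fact p.Prime] (hS : IsPGroup p S)
    (F : FusionSystem S) (hF : F.IsSaturated p) {P : Subgroup Ω} {φ : P →* Ω} (hφ : φ ∈ F.Hom P) :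
    ∃ s ∈ S, ∀ x : P, (s * (x : Ω) * s⁻¹)⁻¹ * φ x ∈ F.hyperfocalSubgroup p := by
  set T := F.hyperfocalSubgroup p with hT
  have hnorm : ∀ s ∈ S, ∀ y ∈ T, s * y * s⁻¹ ∈ T :=
    fun s hs y hy => conj_mem_hyperfocalSubgroup F p hs hy
  refine alperin_induction p hS F hF
    (fun P φ => ∃ s ∈ S, ∀ x : P, (s * (x : Ω) * s⁻¹)⁻¹ * φ x ∈ T) ?_ ?_ ?_ ?_ hφ
  · intro P g _ hg
    refine ⟨g, hg, fun x => ?_⟩
    rw [conjHom_apply, inv_mul_cancel]
    exact T.one_mem
  · rintro P Q φ ψ _ _ ⟨s₁, hs₁, h₁⟩ ⟨s₂, hs₂, h₂⟩ h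
    refine ⟨s₂ * s₁, S.mul_mem hs₂ hs₁, fun x => ?_⟩
    have e1 := h₁ x
    have e2 := h₂ ⟨φ x, h x⟩
    have e3 := hnorm s₂ hs₂ _ e1
    have e4 := T.mul_mem e3 e2
    have : (s₂ * s₁ * (x : Ω) * (s₂ * s₁)⁻¹)⁻¹ * (ψ.comp (φ.codRestrict Q h)) x =
        s₂ * ((s₁ * (x : Ω) * s₁⁻¹)⁻¹ * φ x) * s₂⁻¹ *
          ((s₂ * ((⟨φ x, h x⟩ : Q) : Ω) * s₂⁻¹)⁻¹ * ψ ⟨φ x, h x⟩) := by
      rw [MonoidHom.comp_apply]
      show _ = s₂ * ((s₁ * (x : Ω) * s₁⁻¹)⁻¹ * φ x) * s₂⁻¹ *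
          ((s₂ * φ x * s₂⁻¹)⁻¹ * ψ ⟨φ x, h x⟩)
      have : (φ.codRestrict Q h) x = ⟨φ x, h x⟩ := rfl
      rw [this]
      group
    rw [this]
    exact e4
  · rintro P φ _ ⟨s, hs, h⟩ ψ _ hinv
    refine ⟨s⁻¹, S.inv_mem hs, ?_⟩
    rintro ⟨_, x, rfl⟩
    rw [hinv x]
    have e1 := h x
    have e2 := hnorm s⁻¹ (S.inv_mem hs) _ (T.inv_mem e1)
    have : (s⁻¹ * ((⟨φ x, ⟨x, rfl⟩⟩ : φ.range) : Ω) * s⁻¹⁻¹)⁻¹ * (x : Ω) =
        s⁻¹ * ((s * (x : Ω) * s⁻¹)⁻¹ * φ x)⁻¹ * s⁻¹⁻¹ := by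
      show (s⁻¹ * φ x * s⁻¹⁻¹)⁻¹ * (x : Ω) = _
      group
    rw [this]
    exact e2
  · intro P hP α hα
    have hPS : P ≤ S := by
      rcases hP with rfl | hP
      · exact le_rfl
      · exact hP.1.1
    have hFA := isFullyAutomized_of_eq_or_essential p hS F hF hP
    obtain ⟨σ, hσ, ν, hν, rfl⟩ := exists_mul_autInducedBy_pResidual p F hFA hα
    obtain ⟨s, hs, hσs⟩ := (mem_autInducedBy_iff σ).mp hσ
    refine ⟨s, hs, fun x => ?_⟩
    have h1 : (x : Ω)⁻¹ * (((ν : MulAut P) x : P) : Ω) ∈ T := hyperfocal_gen_mem F p hPS ν hν x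
    have h2 := hnorm s hs _ h1
    have : (s * (x : Ω) * s⁻¹)⁻¹ * (P.subtype.comp (σ * (ν : MulAut P)).toMonoidHom) x =
        s * ((x : Ω)⁻¹ * (((ν : MulAut P) x : P) : Ω)) * s⁻¹ := by
      show (s * (x : Ω) * s⁻¹)⁻¹ * (((σ * (ν : MulAut P)) x : P) : Ω) = _
      rw [MulAut.mul_apply, hσs]
      group
    rw [this]
    exact h2

/-- The `S`-invariant generating set of the hyperfocal subgroup. -/
def hypGen (F : FusionSystem S) (p : ℕ) : Set Ω :=
  {g | ∃ (Y₀ : Subgroup Ω) (ψ : Y₀ →* Ω) (q : Y₀) (s : Ω), Y₀ ≤ F.hyperfocalSubgroup p ∧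
    ψ ∈ F.Hom Y₀ ∧ s ∈ S ∧ g = s * ((q : Ω)⁻¹ * ψ q) * s⁻¹}

theorem conj_mem_closure_hypGen (F : FusionSystem S) (p : ℕ) {s : Ω} (hs : s ∈ S) {g : Ω}
    (hg : g ∈ Subgroup.closure (hypGen F p)) : s * g * s⁻¹ ∈ Subgroup.closure (hypGen F p) := by
  induction hg using Subgroup.closure_induction with
  | mem g hg =>
    obtain ⟨Y₀, ψ, q, s', hY₀, hψ, hs', rfl⟩ := hg
    apply Subgroup.subset_closure
    refine ⟨Y₀, ψ, q, s * s', hY₀, hψ, S.mul_mem hs hs', ?_⟩
    group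
  | one => simp
  | mul a b _ _ ha hb =>
    have : s * (a * b) * s⁻¹ = (s * a * s⁻¹) * (s * b * s⁻¹) := by group
    rw [this]; exact Subgroup.mul_mem _ ha hb
  | inv a _ ha =>
    have : s * a⁻¹ * s⁻¹ = (s * a * s⁻¹)⁻¹ := by group
    rw [this]; exact Subgroup.inv_mem _ ha

/-- An automorphism in the system moves elements of `P ∩ hyp` inside the generated subgroup. -/
theorem inv_mul_apply_mem_closure (F : FusionSystem S) (p : ℕ) {P : Subgroup Ω} (hPS : P ≤ S)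
    {a : MulAut P} (ha : a ∈ F.autGroup P) (y : P) (hy : (y : Ω) ∈ F.hyperfocalSubgroup p) :
    (y : Ω)⁻¹ * ((a y : P) : Ω) ∈ Subgroup.closure (hypGen F p) := by
  apply Subgroup.subset_closure
  have h1 : P.subtype.comp a.toMonoidHom ∈ F.Hom P := (mem_autGroup_iff F hPS a).1 ha
  have hle : P ⊓ F.hyperfocalSubgroup p ≤ P := inf_le_left
  refine ⟨P ⊓ F.hyperfocalSubgroup p, (P.subtype.comp a.toMonoidHom).comp (Subgroup.inclusion hle),
    ⟨y, ⟨y.2, hy⟩⟩, 1, inf_le_right, restrict_mem F hle h1, S.one_mem, ?_⟩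
  rw [one_mul, inv_one, mul_one]
  rfl

/-- The hyperfocal subgroup is generated by the `S`-conjugates of the `q⁻¹ ψ(q)` with `ψ` a map of
the system between subgroups of the hyperfocal subgroup. -/
theorem hyp_le_closure_hypGen [Finite S] (p : ℕ) [Fact p.Prime] (hS : IsPGroup p S)
    (F : FusionSystem S) :
    F.hyperfocalSubgroup p ≤ Subgroup.closure (hypGen F p) := by
  have hp : p.Prime := Fact.out
  set U₂ := Subgroup.closure (hypGen F p) with hU₂
  conv_lhs => unfold FusionSystem.hyperfocalSubgroup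
  rw [Subgroup.closure_le]
  rintro _ ⟨P, α, x, hPS, hα, rfl⟩
  rw [SetLike.mem_coe]
  suffices h : ∀ x : P, (x : Ω)⁻¹ * (((α : MulAut P) x : P) : Ω) ∈ U₂ from h x
  clear x
  unfold pResidual at hα
  induction hα using Subgroup.closure_induction with
  | mem α hα =>
    intro x
    have hcop : Nat.Coprime (orderOf α) p := hα
    set a : MulAut P := (α : MulAut P) with ha
    have haA : a ∈ F.autGroup P := α.2
    set n := orderOf α with hn
    have han : a ^ n = 1 := by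
      have h1 : α ^ n = 1 := pow_orderOf_eq_one α
      have h2 := congrArg Subtype.val h1
      simpa using h2
    have hαres : α ∈ pResidual p ↥(F.autGroup P) := Subgroup.subset_closure hα
    obtain ⟨d, hd⟩ : ∃ d : P, d = x⁻¹ * a x := ⟨_, rfl⟩
    have hdT : (d : Ω) ∈ F.hyperfocalSubgroup p := by
      have := hyperfocal_gen_mem F p hPS α hαres x
      rw [hd]
      exact this
    have hdS : (d : Ω) ∈ S := hPS d.2
    have hax : a x = x * d := by rw [hd, mul_inv_cancel_left]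
    have hkey : ∀ k : ℕ, ((x : Ω) * (d : Ω) ^ k)⁻¹ * (((a ^ k) x : P) : Ω) ∈ U₂ := by
      intro k
      induction k with
      | zero =>
        rw [pow_zero, pow_zero, mul_one, MulAut.one_apply, inv_mul_cancel]
        exact U₂.one_mem
      | succ k ih =>
        have hak : a ^ k ∈ F.autGroup P := Subgroup.pow_mem _ haA k
        have e1 : (a ^ (k + 1)) x = (a ^ k) x * (a ^ k) d := by
          rw [pow_succ, MulAut.mul_apply, hax, map_mul]
        have h1 := inv_mul_apply_mem_closure F p hPS hak d hdT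
        have h2 := conj_mem_closure_hypGen F p (S.inv_mem hdS) ih
        have h3 := U₂.mul_mem h2 h1
        have : ((x : Ω) * (d : Ω) ^ (k + 1))⁻¹ * (((a ^ (k + 1)) x : P) : Ω) =
            (d : Ω)⁻¹ * (((x : Ω) * (d : Ω) ^ k)⁻¹ * (((a ^ k) x : P) : Ω)) * (d : Ω)⁻¹⁻¹ *
              ((d : Ω)⁻¹ * (((a ^ k) d : P) : Ω)) := by
          rw [e1, Subgroup.coe_mul, pow_succ]
          group
        rw [this]
        exact h3
    have h1 := hkey n
    rw [han, MulAut.one_apply] at h1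
    have h2 : (d : Ω) ^ n ∈ U₂ := by
      have : ((x : Ω) * (d : Ω) ^ n)⁻¹ * (x : Ω) = ((d : Ω) ^ n)⁻¹ := by group
      rw [this] at h1
      exact (Subgroup.inv_mem_iff _).1 h1
    -- `d` has `p`-power order
    have hdord : ∃ j : ℕ, orderOf (d : Ω) = p ^ j := by
      obtain ⟨k, hk⟩ := hS (⟨(d : Ω), hdS⟩ : S)
      have hk' : (d : Ω) ^ p ^ k = 1 := by
        have := congrArg Subtype.val hk
        simpa using this
      obtain ⟨j, -, hj⟩ := (Nat.dvd_prime_pow hp).1 (orderOf_dvd_of_pow_eq_one hk')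
      exact ⟨j, hj⟩
    obtain ⟨j, hj⟩ := hdord
    have hc2 : Nat.Coprime n (orderOf (d : Ω)) := by
      rw [hj]
      exact Nat.Coprime.pow_right j hcop
    obtain ⟨m, hm⟩ := exists_pow_eq_self_of_coprime hc2
    have h3 : (d : Ω) ∈ U₂ := by
      rw [← hm]
      exact U₂.pow_mem h2 m
    have : (x : Ω)⁻¹ * ((a x : P) : Ω) = (d : Ω) := by
      rw [hd]; simp
    rw [this]
    exact h3
  | one =>
    intro x
    have : (((1 : ↥(F.autGroup P)) : MulAut P) x : P) = x := rfl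
    rw [this, inv_mul_cancel]
    exact U₂.one_mem
  | mul α β _ _ hα hβ =>
    intro x
    have e : (x : Ω)⁻¹ * ((((α * β : ↥(F.autGroup P)) : MulAut P) x : P) : Ω) =
        ((x : Ω)⁻¹ * (((β : MulAut P) x : P) : Ω)) *
          ((((β : MulAut P) x : P) : Ω)⁻¹ *
            (((α : MulAut P) ((β : MulAut P) x) : P) : Ω)) := by
      rw [Subgroup.coe_mul, MulAut.mul_apply]
      group
    rw [e]
    exact U₂.mul_mem (hβ x) (hα _)
  | inv α _ hα =>
    intro x
    have h1 := hα (((α : MulAut P)⁻¹) x)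
    have e : (x : Ω)⁻¹ * ((((α⁻¹ : ↥(F.autGroup P)) : MulAut P) x : P) : Ω) =
        ((((α : MulAut P)⁻¹ x : P) : Ω)⁻¹ *
          (((α : MulAut P) ((α : MulAut P)⁻¹ x) : P) : Ω))⁻¹ := by
      rw [Subgroup.coe_inv, MulAut.apply_inv_self]
      group
    rw [e]
    exact U₂.inv_mem h1

end Cfsg.Agent.Helper25.TateHyp
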