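import Mathlib
import Cfsg.Agent.Lib.Helper3.BisetTransfer

/-!
# A splitting lemma for bisets (towards Tate's theorem for fusion systems)

`T` a finite group, `W ≤ U` normal subgroups with `[U, T] ≤ W`, and `Y` a right-free `(T × T)`-set
with an equivariant map to `T ⧸ U`.  We form the fibre product `Y ×_{T/U} T/W`, a biset for the
group `T ×_{T/U} T/W`, and use its transfer to produce a homomorphism from `T` to the centre of
`T ⧸ W` restricting to a power map on `U`.
-/

set_option autoImplicit false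
set_option linter.style.haveILetI false
set_option linter.unusedSectionVars false

namespace Cfsg.Agent.Helper25.TateSplit

open MulAction Cfsg.Agent.Helper3.Biset

/-- Equivariant maps exist as soon as stabilizers can be matched. -/
theorem exists_equivariant {M Y Z : Type*} [Group M] [MulAction M Y] [MulAction M Z]
    (h : ∀ y : Y, ∃ z : Z, stabilizer M y ≤ stabilizer M z) :
    ∃ π : Y → Z, ∀ (m : M) (y : Y), π (m • y) = m • π y := by
  classical
  choose z hz using h
  let q : Y → orbitRel.Quotient M Y := fun y => Quotient.mk'' y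
  let r : Y → Y := fun y => (q y).out
  have hr : ∀ y, ∃ g : M, g • r y = y := by
    intro y
    have h1 : (Quotient.mk'' (r y) : orbitRel.Quotient M Y) = Quotient.mk'' y :=
      Quotient.out_eq' (q y)
    have h2 : r y ∈ orbit M y := (orbitRel_apply).1 (Quotient.exact' h1)
    obtain ⟨g, hg⟩ := h2
    refine ⟨g⁻¹, ?_⟩
    rw [← hg, inv_smul_smul]
  choose g hg using hr
  have hrm : ∀ (m : M) (y : Y), r (m • y) = r y := by
    intro m y
    have : q (m • y) = q y := Quotient.sound' ((orbitRel_apply).2 (mem_orbit y m))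
    show (q (m • y)).out = (q y).out
    rw [this]
  refine ⟨fun y => g y • z (r y), fun m y => ?_⟩
  show g (m • y) • z (r (m • y)) = m • g y • z (r y)
  rw [hrm, ← mul_smul]
  have h1 : (g (m • y))⁻¹ * (m * g y) ∈ stabilizer M (r y) := by
    rw [mem_stabilizer_iff, mul_smul, mul_smul, hg y, inv_smul_eq_iff]
    have := hg (m • y)
    rw [hrm] at this
    exact this.symm
  have h2 := hz (r y) h1
  rw [mem_stabilizer_iff, mul_smul, inv_smul_eq_iff] at h2
  exact h2.symm

universe u v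

/-- The data: normal subgroups `W ≤ U` of `T` with `[U, T] ≤ W`. -/
structure SplitData (T : Type u) [Group T] where
  U : Subgroup T
  W : Subgroup T
  nU : U.Normal
  nW : W.Normal
  le : W ≤ U
  cen : ∀ u ∈ U, ∀ t : T, u * t * u⁻¹ * t⁻¹ ∈ W

namespace SplitData

variable {T : Type u} [Group T] (D : SplitData T)

instance instNU : D.U.Normal := D.nU
instance instNW : D.W.Normal := D.nW

/-- The projection `T ⧸ W → T ⧸ U`. -/
def proj : T ⧸ D.W →* T ⧸ D.U :=
  QuotientGroup.map D.W D.U (MonoidHom.id T) D.le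

theorem proj_mk (t : T) : D.proj (QuotientGroup.mk t) = (QuotientGroup.mk t : T ⧸ D.U) := rfl

theorem proj_surjective : Function.Surjective D.proj := by
  intro x
  obtain ⟨t, rfl⟩ := QuotientGroup.mk_surjective x
  exact ⟨QuotientGroup.mk t, rfl⟩

theorem exists_of_proj_eq_one {e : T ⧸ D.W} (h : D.proj e = 1) :
    ∃ u ∈ D.U, e = QuotientGroup.mk u := by
  obtain ⟨t, rfl⟩ := QuotientGroup.mk_surjective e
  rw [proj_mk, QuotientGroup.eq_one_iff] at h
  exact ⟨t, h, rfl⟩

theorem mk_mem_center {u : T} (hu : u ∈ D.U) :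
    (QuotientGroup.mk u : T ⧸ D.W) ∈ Subgroup.center (T ⧸ D.W) := by
  rw [Subgroup.mem_center_iff]
  intro g
  obtain ⟨t, rfl⟩ := QuotientGroup.mk_surjective g
  rw [← QuotientGroup.mk_mul, ← QuotientGroup.mk_mul, QuotientGroup.eq]
  have := D.cen u⁻¹ (D.U.inv_mem hu) t⁻¹
  have e : (t * u)⁻¹ * (u * t) = u⁻¹ * t⁻¹ * u⁻¹⁻¹ * t⁻¹⁻¹ := by group
  rw [e]
  exact this

theorem central_of_proj_eq_one {e : T ⧸ D.W} (h : D.proj e = 1) :
    e ∈ Subgroup.center (T ⧸ D.W) := by
  obtain ⟨u, hu, rfl⟩ := D.exists_of_proj_eq_one h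
  exact D.mk_mem_center hu

/-- The fibre product `T ×_{T/U} T/W`. -/
def That : Subgroup (T × (T ⧸ D.W)) where
  carrier := {x | (QuotientGroup.mk x.1 : T ⧸ D.U) = D.proj x.2}
  mul_mem' := by
    intro a b ha hb
    simp only [Set.mem_setOf_eq, Prod.fst_mul, Prod.snd_mul, QuotientGroup.mk_mul, map_mul] at *
    rw [ha, hb]
  one_mem' := by simp
  inv_mem' := by
    intro a ha
    simp only [Set.mem_setOf_eq, Prod.fst_inv, Prod.snd_inv, QuotientGroup.mk_inv, map_inv] at *
    rw [ha]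

theorem That_spec (x : D.That) : (QuotientGroup.mk x.1.1 : T ⧸ D.U) = D.proj x.1.2 := x.2

/-- The difference character of the fibre product, with values in the centre of `T ⧸ W`. -/
def chi : D.That →* Subgroup.center (T ⧸ D.W) where
  toFun x := ⟨(QuotientGroup.mk x.1.1 : T ⧸ D.W)⁻¹ * x.1.2, D.central_of_proj_eq_one (by
    rw [map_mul, map_inv, D.proj_mk, D.That_spec x, inv_mul_cancel])⟩
  map_one' := by
    apply Subtype.ext
    simp
  map_mul' x x' := by
    apply Subtype.ext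
    have hc : (QuotientGroup.mk x.1.1 : T ⧸ D.W)⁻¹ * x.1.2 ∈ Subgroup.center (T ⧸ D.W) :=
      D.central_of_proj_eq_one (by
        rw [map_mul, map_inv, D.proj_mk, D.That_spec x, inv_mul_cancel])
    have hc' := Subgroup.mem_center_iff.1 hc ((QuotientGroup.mk x'.1.1 : T ⧸ D.W)⁻¹)
    show (QuotientGroup.mk (x.1.1 * x'.1.1) : T ⧸ D.W)⁻¹ * (x.1.2 * x'.1.2) =
      ((QuotientGroup.mk x.1.1 : T ⧸ D.W)⁻¹ * x.1.2) *
        ((QuotientGroup.mk x'.1.1 : T ⧸ D.W)⁻¹ * x'.1.2)
    rw [QuotientGroup.mk_mul, mul_inv_rev]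
    calc (QuotientGroup.mk x'.1.1 : T ⧸ D.W)⁻¹ * (QuotientGroup.mk x.1.1 : T ⧸ D.W)⁻¹ *
          (x.1.2 * x'.1.2)
        = ((QuotientGroup.mk x'.1.1 : T ⧸ D.W)⁻¹ *
            ((QuotientGroup.mk x.1.1 : T ⧸ D.W)⁻¹ * x.1.2)) * x'.1.2 := by
          simp only [mul_assoc]
      _ = (((QuotientGroup.mk x.1.1 : T ⧸ D.W)⁻¹ * x.1.2) *
            (QuotientGroup.mk x'.1.1 : T ⧸ D.W)⁻¹) * x'.1.2 := by rw [hc']
      _ = _ := by simp only [mul_assoc]

theorem chi_coe (x : D.That) :
    ((D.chi x : Subgroup.center (T ⧸ D.W)) : T ⧸ D.W) =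
      (QuotientGroup.mk x.1.1 : T ⧸ D.W)⁻¹ * x.1.2 := rfl

/-- The graph embedding of `T`. -/
def iota : T →* D.That :=
  (MonoidHom.prod (MonoidHom.id T) (QuotientGroup.mk' D.W)).codRestrict D.That (fun _ => rfl)

/-- The embedding `u ↦ (u, 1)` of `U`. -/
def kappa : D.U →* D.That :=
  (MonoidHom.prod D.U.subtype (1 : D.U →* T ⧸ D.W)).codRestrict D.That (fun u => by
    show (QuotientGroup.mk (u : T) : T ⧸ D.U) = D.proj 1
    rw [map_one]
    exact (QuotientGroup.eq_one_iff _).2 u.2)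

/-- The embedding `u ↦ (1, uW)` of `U`. -/
def zeta : D.U →* D.That :=
  (MonoidHom.prod (1 : D.U →* T) ((QuotientGroup.mk' D.W).comp D.U.subtype)).codRestrict D.That
    (fun u => by
      show (QuotientGroup.mk (1 : T) : T ⧸ D.U) = D.proj (QuotientGroup.mk (u : T))
      rw [D.proj_mk]
      exact ((QuotientGroup.eq_one_iff _).2 u.2).symm)

theorem iota_coe (t : T) : ((D.iota t : D.That) : T × (T ⧸ D.W)) = (t, QuotientGroup.mk t) := rfl
theorem kappa_coe (u : D.U) : ((D.kappa u : D.That) : T × (T ⧸ D.W)) = ((u : T), 1) := rfl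
theorem zeta_coe (u : D.U) :
    ((D.zeta u : D.That) : T × (T ⧸ D.W)) = (1, QuotientGroup.mk (u : T)) := rfl

theorem iota_eq (u : D.U) : D.iota (u : T) = D.kappa u * D.zeta u := by
  apply Subtype.ext
  rw [Subgroup.coe_mul, iota_coe, kappa_coe, zeta_coe, Prod.mk_mul_mk, mul_one, one_mul]

theorem iota_conj_kappa (s : T) (u : D.U) (h : s * (u : T) * s⁻¹ ∈ D.U) :
    D.kappa ⟨s * (u : T) * s⁻¹, h⟩ = D.iota s * D.kappa u * (D.iota s)⁻¹ := by
  apply Subtype.ext
  rw [Subgroup.coe_mul, Subgroup.coe_mul, Subgroup.coe_inv, iota_coe, kappa_coe, kappa_coe]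
  simp

end SplitData

end Cfsg.Agent.Helper25.TateSplit
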