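import Mathlib
import Cfsg.Agent.Lib.Helper25.TateSplit1

/-!
# The fibre product biset
-/

set_option autoImplicit false
set_option linter.style.haveILetI false
set_option linter.unusedSectionVars false

namespace Cfsg.Agent.Helper25.TateSplit

open MulAction Cfsg.Agent.Helper3.Biset

universe u v

variable {T : Type u} [Group T] (D : SplitData T)

/-- An equivariant map from a `(T × T)`-set to `T ⧸ U`. -/
structure EqMap (Y : Type v) [MulAction (T × T) Y] where
  π : Y → T ⧸ D.U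
  eq : ∀ (a b : T) (y : Y), π ((a, b) • y) =
    (QuotientGroup.mk a : T ⧸ D.U) * π y * (QuotientGroup.mk b : T ⧸ D.U)⁻¹

variable {D} {Y : Type v} [MulAction (T × T) Y] (P : EqMap D Y)

/-- The fibre product `Y ×_{T/U} T/W`. -/
@[ext] structure Yhat where
  y : Y
  e : T ⧸ D.W
  h : P.π y = D.proj e

instance Yhat.instMulAction : MulAction (D.That × D.That) (Yhat P) where
  smul x w := ⟨((x.1.1.1, x.2.1.1) : T × T) • w.y, x.1.1.2 * w.e * (x.2.1.2)⁻¹, by
    rw [P.eq, w.h, map_mul, map_mul, map_inv, D.That_spec x.1, D.That_spec x.2]⟩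
  one_smul w := by
    apply Yhat.ext
    · show (((1 : T), (1 : T)) : T × T) • w.y = w.y
      rw [Prod.mk_one_one, one_smul]
    · show (1 : T ⧸ D.W) * w.e * (1 : T ⧸ D.W)⁻¹ = w.e
      rw [one_mul, inv_one, mul_one]
  mul_smul x x' w := by
    apply Yhat.ext
    · show ((x.1.1.1 * x'.1.1.1, x.2.1.1 * x'.2.1.1) : T × T) • w.y =
        ((x.1.1.1, x.2.1.1) : T × T) • ((x'.1.1.1, x'.2.1.1) : T × T) • w.y
      rw [← mul_smul, Prod.mk_mul_mk]
    · show (x.1.1.2 * x'.1.1.2) * w.e * (x.2.1.2 * x'.2.1.2)⁻¹ =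
        x.1.1.2 * (x'.1.1.2 * w.e * (x'.2.1.2)⁻¹) * (x.2.1.2)⁻¹
      rw [mul_inv_rev]
      simp only [mul_assoc]

theorem Yhat.smul_y (x : D.That × D.That) (w : Yhat P) :
    (x • w).y = ((x.1.1.1, x.2.1.1) : T × T) • w.y := rfl

theorem Yhat.smul_e (x : D.That × D.That) (w : Yhat P) :
    (x • w).e = x.1.1.2 * w.e * (x.2.1.2)⁻¹ := rfl

instance Yhat.instFinite [Finite T] [Finite Y] : Finite (Yhat P) :=
  Finite.of_injective (fun w : Yhat P => (w.y, w.e)) (by
    intro a b h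
    have h1 := congrArg Prod.fst h
    have h2 := congrArg Prod.snd h
    exact Yhat.ext h1 h2)

theorem Yhat.rfree (hfree : RFree T T Y) : RFree D.That D.That (Yhat P) := by
  intro b w h
  have hy := congrArg Yhat.y h
  have he := congrArg Yhat.e h
  rw [Yhat.smul_y] at hy
  rw [Yhat.smul_e] at he
  have hb1 : b.1.1 = 1 := hfree b.1.1 w.y hy
  have hb2 : b.1.2 = 1 := by
    have : ((1 : D.That) : T × (T ⧸ D.W)).2 = 1 := rfl
    rw [this, one_mul] at he
    have h3 : w.e * (b.1.2)⁻¹ = w.e * 1 := by rw [he, mul_one]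
    have h4 := mul_left_cancel h3
    exact inv_eq_one.1 h4
  exact Subtype.ext (Prod.ext hb1 hb2)

/-- The right orbits of the fibre product are those of `Y`. -/
theorem card_RQ_Yhat : Nat.card (RQ D.That D.That (Yhat P)) = Nat.card (RQ T T Y) := by
  let f : RQ D.That D.That (Yhat P) → RQ T T Y :=
    Quotient.map' (fun w : Yhat P => w.y) (by
      rintro w w' ⟨b, rfl⟩
      exact ⟨b.1.1, rfl⟩)
  have hf : ∀ w : Yhat P, f (RQ.mk w) = RQ.mk w.y := fun w => rfl
  refine Nat.card_congr (Equiv.ofBijective f ⟨?_, ?_⟩)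
  · intro z z' hzz
    induction z using RQ.ind with
    | _ w =>
    induction z' using RQ.ind with
    | _ w' =>
    rw [hf, hf] at hzz
    obtain ⟨s, hs⟩ := RQ.mk_eq_mk.1 hzz
    have hmem : ((s, (w'.e)⁻¹ * w.e) : T × (T ⧸ D.W)) ∈ D.That := by
      show (QuotientGroup.mk s : T ⧸ D.U) = D.proj ((w'.e)⁻¹ * w.e)
      have h1 := w'.h
      rw [← hs, P.eq, w.h] at h1
      rw [map_mul, map_inv, ← h1]
      simp
    apply RQ.mk_eq_mk.2
    refine ⟨⟨_, hmem⟩, ?_⟩
    apply Yhat.ext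
    · rw [Yhat.smul_y]
      exact hs
    · rw [Yhat.smul_e]
      show (1 : T ⧸ D.W) * w.e * ((w'.e)⁻¹ * w.e)⁻¹ = w'.e
      simp
  · intro z
    induction z using RQ.ind with
    | _ y =>
    obtain ⟨e, he⟩ := D.proj_surjective (P.π y)
    exact ⟨RQ.mk ⟨y, e, he.symm⟩, rfl⟩

section Transfer

variable [Finite T] [Finite Y] (hfree : RFree T T Y)

/-- The transfer of the central elements `(1, uW)`. -/
theorem transfer_zeta (u : D.U) :
    transfer D.That D.That (Yhat P) (Yhat.rfree P hfree) (D.zeta u) =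
      Abelianization.of (D.zeta u)⁻¹ ^ Nat.card (RQ T T Y) := by
  rw [← card_RQ_Yhat P]
  apply transfer_eq_pow
  intro w
  apply Yhat.ext
  · rw [Yhat.smul_y, Yhat.smul_y]
    show (((1 : T), (1 : T)) : T × T) • w.y = (((1 : T), (1 : T)⁻¹) : T × T) • w.y
    rw [inv_one]
  · rw [Yhat.smul_e, Yhat.smul_e]
    show (QuotientGroup.mk (u : T) : T ⧸ D.W) * w.e * (1 : T ⧸ D.W)⁻¹ =
      (1 : T ⧸ D.W) * w.e * ((QuotientGroup.mk (u : T) : T ⧸ D.W)⁻¹)⁻¹
    rw [inv_one, mul_one, one_mul, inv_inv]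
    exact (Subgroup.mem_center_iff.1 (D.mk_mem_center u.2) w.e).symm

end Transfer

end Cfsg.Agent.Helper25.TateSplit
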