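import Mathlib
import Cfsg.Agent.Lib.Helper25.TateSplit2

/-!
# Stability of the transfer of the fibre product biset and the splitting lemma
-/

set_option autoImplicit false
set_option linter.style.haveILetI false
set_option linter.unusedSectionVars false

namespace Cfsg.Agent.Helper25.TateSplit

open MulAction Cfsg.Agent.Helper3.Biset

universe u v

variable {T : Type u} [Group T] {D : SplitData T} {Y : Type v} [MulAction (T × T) Y]
  (P : EqMap D Y) [Finite T] [Finite Y] (hfree : RFree T T Y)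

/-- `ψ : Y₀ → T` is stable for the biset `Y`: twisting the left action by `ψ` gives an isomorphic
biset. -/
def StableMap (Y : Type v) [MulAction (T × T) Y] (Y₀ : Subgroup T) (ψ : Y₀ →* T) : Prop :=
  ∃ f₀ : Y ≃ Y, ∀ (q : Y₀) (s : T) (y : Y), f₀ (((q : T), s) • y) = ((ψ q, s) : T × T) • f₀ y

/-- The transfer of the fibre product restricted to `U × 1` is invariant under stable maps between
subgroups of `U`. -/
theorem transfer_kappa_stable {Y₀ : Subgroup T} (hY₀ : Y₀ ≤ D.U) {ψ : Y₀ →* T}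
    (hψ : ∀ q, ψ q ∈ D.U) (hst : StableMap Y Y₀ ψ) (q : Y₀) :
    transfer D.That D.That (Yhat P) (Yhat.rfree P hfree) (D.kappa ⟨ψ q, hψ q⟩) =
      transfer D.That D.That (Yhat P) (Yhat.rfree P hfree) (D.kappa ⟨q, hY₀ q.2⟩) := by
  obtain ⟨f₀, hf₀⟩ := hst
  have hfr := Yhat.rfree P hfree
  set j₁ : ↥Y₀ →* D.That := D.kappa.comp (Subgroup.inclusion hY₀) with hj₁
  set j₂ : ↥Y₀ →* D.That := D.kappa.comp (ψ.codRestrict D.U hψ) with hj₂
  set ι₁ : ↥Y₀ × D.That →* D.That × D.That := j₁.prodMap (MonoidHom.id D.That) with hι₁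
  set ι₂ : ↥Y₀ × D.That →* D.That × D.That := j₂.prodMap (MonoidHom.id D.That) with hι₂
  have hfree₁ : RFree ↥Y₀ D.That (Pull ι₁ (Yhat P)) := fun b y h => hfr b y (by
    have h' : (ι₁ ((1 : ↥Y₀), b)) • (show Yhat P from y) = y := h
    have e : ι₁ ((1 : ↥Y₀), b) = ((1 : D.That), b) := by
      rw [hι₁]; simp
    rw [e] at h'
    exact h')
  have hfree₂ : RFree ↥Y₀ D.That (Pull ι₂ (Yhat P)) := fun b y h => hfr b y (by
    have h' : (ι₂ ((1 : ↥Y₀), b)) • (show Yhat P from y) = y := h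
    have e : ι₂ ((1 : ↥Y₀), b) = ((1 : D.That), b) := by
      rw [hι₂]; simp
    rw [e] at h'
    exact h')
  -- the section and the correction term
  let σ : T ⧸ D.U → T ⧸ D.W := Function.surjInv D.proj_surjective
  have hσ : ∀ x, D.proj (σ x) = x := Function.surjInv_eq D.proj_surjective
  let β : Y → T ⧸ D.W := fun y => σ (P.π (f₀ y) * (P.π y)⁻¹)
  have hβ : ∀ (a : Y₀) (s : T) (y : Y), β (((a : T), s) • y) = β y := by
    intro a s y
    show σ _ = σ _
    congr 1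
    rw [hf₀, P.eq, P.eq]
    have h1 : (QuotientGroup.mk (ψ a) : T ⧸ D.U) = 1 := (QuotientGroup.eq_one_iff _).2 (hψ a)
    have h2 : (QuotientGroup.mk (a : T) : T ⧸ D.U) = 1 :=
      (QuotientGroup.eq_one_iff _).2 (hY₀ a.2)
    rw [h1, h2]
    group
  let fh : Yhat P → Yhat P := fun w => ⟨f₀ w.y, β w.y * w.e, by
    rw [map_mul, hσ, ← w.h]; group⟩
  let gh : Yhat P → Yhat P := fun w => ⟨f₀.symm w.y, (β (f₀.symm w.y))⁻¹ * w.e, by
    rw [map_mul, map_inv, hσ, Equiv.apply_symm_apply, ← w.h]; group⟩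
  have hfg : ∀ w, gh (fh w) = w := by
    intro w
    apply Yhat.ext
    · show f₀.symm (f₀ w.y) = w.y
      rw [Equiv.symm_apply_apply]
    · show (β (f₀.symm (f₀ w.y)))⁻¹ * (β w.y * w.e) = w.e
      rw [Equiv.symm_apply_apply, inv_mul_cancel_left]
  have hgf : ∀ w, fh (gh w) = w := by
    intro w
    apply Yhat.ext
    · show f₀ (f₀.symm w.y) = w.y
      rw [Equiv.apply_symm_apply]
    · show β (f₀.symm w.y) * ((β (f₀.symm w.y))⁻¹ * w.e) = w.e
      rw [mul_inv_cancel_left]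
  let Fh : Pull ι₁ (Yhat P) ≃ Pull ι₂ (Yhat P) := ⟨fh, gh, hfg, hgf⟩
  have hFh : ∀ (a' : ↥Y₀) (b : D.That) (y' : Pull ι₁ (Yhat P)),
      Fh ((a', b) • y') = ((MonoidHom.id ↥Y₀) a', b) • Fh y' := by
    intro a' b w
    have hl : ((a', b) • w : Pull ι₁ (Yhat P)) =
        (((j₁ a', b) : D.That × D.That) • (show Yhat P from w) : Yhat P) := rfl
    have hr : (((MonoidHom.id ↥Y₀) a', b) • Fh w : Pull ι₂ (Yhat P)) =
        (((j₂ a', b) : D.That × D.That) • (fh w) : Yhat P) := rfl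
    rw [hr]
    show fh ((a', b) • w : Pull ι₁ (Yhat P)) = _
    rw [hl]
    apply Yhat.ext
    · show f₀ ((((j₁ a', b) : D.That × D.That) • (show Yhat P from w) : Yhat P).y) =
        ((((j₂ a', b) : D.That × D.That) • (fh w) : Yhat P)).y
      rw [Yhat.smul_y, Yhat.smul_y]
      exact hf₀ a' b.1.1 _
    · show β ((((j₁ a', b) : D.That × D.That) • (show Yhat P from w) : Yhat P).y) *
          ((((j₁ a', b) : D.That × D.That) • (show Yhat P from w) : Yhat P).e) =
        ((((j₂ a', b) : D.That × D.That) • (fh w) : Yhat P)).e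
      rw [Yhat.smul_y, Yhat.smul_e, Yhat.smul_e]
      have e1 : (((j₁ a', b) : D.That × D.That).1.1.1, ((j₁ a', b) : D.That × D.That).2.1.1) =
          (((a' : T), b.1.1) : T × T) := rfl
      have e2 : ((j₁ a', b) : D.That × D.That).1.1.2 = 1 := rfl
      have e3 : ((j₂ a', b) : D.That × D.That).1.1.2 = 1 := rfl
      rw [e1, hβ, e2, e3]
      show β (show Yhat P from w).y * (1 * (show Yhat P from w).e * (b.1.2)⁻¹) =
        1 * (β (show Yhat P from w).y * (show Yhat P from w).e) * (b.1.2)⁻¹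
      rw [one_mul, one_mul, mul_assoc]
  have e1 : transfer ↥Y₀ D.That (Pull ι₁ (Yhat P)) hfree₁ q =
      transfer D.That D.That (Yhat P) hfr (j₁ q) :=
    transfer_comp hfr hfree₁ j₁ (Equiv.refl (Yhat P)) (fun a' b y' => rfl) q
  have e2 : transfer ↥Y₀ D.That (Pull ι₂ (Yhat P)) hfree₂ q =
      transfer D.That D.That (Yhat P) hfr (j₂ q) :=
    transfer_comp hfr hfree₂ j₂ (Equiv.refl (Yhat P)) (fun a' b y' => rfl) q
  have e3 : transfer ↥Y₀ D.That (Pull ι₁ (Yhat P)) hfree₁ q =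
      transfer ↥Y₀ D.That (Pull ι₂ (Yhat P)) hfree₂ ((MonoidHom.id ↥Y₀) q) :=
    transfer_comp hfree₂ hfree₁ (MonoidHom.id ↥Y₀) Fh hFh q
  have h1 : j₁ q = D.kappa ⟨q, hY₀ q.2⟩ := rfl
  have h2 : j₂ q = D.kappa ⟨ψ q, hψ q⟩ := rfl
  rw [← h1, ← h2, ← e1, ← e2, e3]
  rfl

end Cfsg.Agent.Helper25.TateSplit
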