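import Mathlib
import Cfsg.Agent.Lib.Helper25.TateSplit3

/-!
# The splitting lemma: `U ∩ W[T,T] ≤ W`
-/

set_option autoImplicit false
set_option linter.style.haveILetI false
set_option linter.unusedSectionVars false

namespace Cfsg.Agent.Helper25.TateSplit

open MulAction Cfsg.Agent.Helper3.Biset
open scoped IsMulCommutative

universe u v

variable {T : Type u} [Group T] (D : SplitData T) (Y : Type v) [MulAction (T × T) Y]

/-- The generators `s (q⁻¹ ψ(q)) s⁻¹` with `ψ` a stable map between subgroups of `U`. -/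
def GenSet : Set T :=
  {g | ∃ (Y₀ : Subgroup T) (ψ : Y₀ →* T) (q : Y₀) (s : T), Y₀ ≤ D.U ∧ (∀ x, ψ x ∈ D.U) ∧
    StableMap Y Y₀ ψ ∧ g = s * ((q : T)⁻¹ * ψ q) * s⁻¹}

variable {D Y} (P : EqMap D Y) [Finite T] [Finite Y] (hfree : RFree T T Y)

theorem transfer_kappa_eq_one (hgen : D.U ≤ Subgroup.closure (GenSet D Y)) (u : D.U) :
    transfer D.That D.That (Yhat P) (Yhat.rfree P hfree) (D.kappa u) = 1 := by
  set V := transfer D.That D.That (Yhat P) (Yhat.rfree P hfree) with hV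
  set Ξ : D.U →* Abelianization D.That := V.comp D.kappa with hΞ
  have hsub : GenSet D Y ⊆ ((Ξ.ker.map D.U.subtype : Subgroup T) : Set T) := by
    rintro g ⟨Y₀, ψ, q, s, hY₀, hψ, hst, rfl⟩
    have h1 := transfer_kappa_stable P hfree hY₀ hψ hst q
    set v : D.U := (⟨q, hY₀ q.2⟩ : D.U)⁻¹ * ⟨ψ q, hψ q⟩ with hv
    have hv1 : Ξ v = 1 := by
      rw [hv, map_mul, map_inv, hΞ, MonoidHom.comp_apply, MonoidHom.comp_apply, ← hV] at *
      rw [h1, inv_mul_cancel]
    have hmem : s * (v : T) * s⁻¹ ∈ D.U := D.nU.conj_mem _ v.2 s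
    refine ⟨⟨s * (v : T) * s⁻¹, hmem⟩, ?_, rfl⟩
    rw [SetLike.mem_coe, MonoidHom.mem_ker, hΞ, MonoidHom.comp_apply, D.iota_conj_kappa s v hmem,
      map_mul, map_mul, map_inv, mul_comm, inv_mul_cancel_left]
    exact hv1
  have hle : D.U ≤ Ξ.ker.map D.U.subtype := hgen.trans ((Subgroup.closure_le _).2 hsub)
  obtain ⟨k, hk, hku⟩ := hle u.2
  have : k = u := Subtype.ext hku
  rw [← this]
  exact hk

/-- The homomorphism from `T` to the centre of `T ⧸ W`. -/
noncomputable def tauHat : T →* Subgroup.center (T ⧸ D.W) :=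
  (Abelianization.lift D.chi).comp
    ((transfer D.That D.That (Yhat P) (Yhat.rfree P hfree)).comp D.iota)

theorem tauHat_apply_of_mem (hgen : D.U ≤ Subgroup.closure (GenSet D Y)) (u : D.U) :
    ((tauHat P hfree (u : T) : Subgroup.center (T ⧸ D.W)) : T ⧸ D.W) =
      ((QuotientGroup.mk (u : T) : T ⧸ D.W)⁻¹) ^ Nat.card (RQ T T Y) := by
  unfold tauHat
  rw [MonoidHom.comp_apply, MonoidHom.comp_apply, D.iota_eq, map_mul,
    transfer_kappa_eq_one P hfree hgen u, one_mul, transfer_zeta P hfree u, map_pow,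
    Abelianization.lift_apply_of, map_inv, Subgroup.coe_pow, Subgroup.coe_inv, D.chi_coe]
  congr 2
  rw [D.zeta_coe]
  show (QuotientGroup.mk (1 : T) : T ⧸ D.W)⁻¹ * QuotientGroup.mk (u : T) = _
  rw [QuotientGroup.mk_one, inv_one, one_mul]

/-- **Splitting lemma.** -/
theorem inf_le (P : EqMap D Y) (hfree : RFree T T Y) {p : ℕ} [Fact p.Prime] (hT : IsPGroup p T)
    (hm : ¬ p ∣ Nat.card (RQ T T Y)) (hgen : D.U ≤ Subgroup.closure (GenSet D Y)) :
    D.U ⊓ (D.W ⊔ commutator T) ≤ D.W := by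
  have hp : p.Prime := Fact.out
  rintro u ⟨huU, huS⟩
  obtain ⟨w, hw, c, hc, rfl⟩ := Subgroup.mem_sup_of_normal_left.1 huS
  have h1 : tauHat P hfree c = 1 := by
    have := Abelianization.commutator_subset_ker (tauHat P hfree)
    exact this hc
  have h2 : tauHat P hfree w = 1 := by
    apply Subtype.ext
    have := tauHat_apply_of_mem P hfree hgen ⟨w, D.le hw⟩
    rw [this]
    have hw1 : (QuotientGroup.mk w : T ⧸ D.W) = 1 := (QuotientGroup.eq_one_iff _).2 hw
    show ((QuotientGroup.mk w : T ⧸ D.W)⁻¹) ^ _ = 1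
    rw [hw1, inv_one, one_pow]
  have h3 : tauHat P hfree (w * c) = 1 := by rw [map_mul, h1, h2, one_mul]
  have h4 := tauHat_apply_of_mem P hfree hgen ⟨w * c, huU⟩
  rw [h3] at h4
  have h5 : ((QuotientGroup.mk (w * c) : T ⧸ D.W)⁻¹) ^ Nat.card (RQ T T Y) = 1 := h4.symm
  have hE : IsPGroup p (T ⧸ D.W) := hT.to_quotient _
  obtain ⟨k, hk⟩ := hE ((QuotientGroup.mk (w * c) : T ⧸ D.W)⁻¹)
  have hcop : Nat.Coprime (p ^ k) (Nat.card (RQ T T Y)) :=
    Nat.Coprime.pow_left k ((Nat.Prime.coprime_iff_not_dvd hp).2 hm)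
  have h6 := pow_gcd_eq_one.2 ⟨hk, h5⟩
  rw [hcop, pow_one] at h6
  have h7 : (QuotientGroup.mk (w * c) : T ⧸ D.W) = 1 := inv_eq_one.1 h6
  exact (QuotientGroup.eq_one_iff _).1 h7

end Cfsg.Agent.Helper25.TateSplit
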