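import Mathlib
import Cfsg.Agent.Lib.Helper25.TateSplit4
import Cfsg.Agent.Lib.Helper25.TateHyp1
import Cfsg.Agent.Lib.Helper3.BisetYoshida
import Cfsg.Agent.Lib.Helper3.BisetTransport

/-!
# The hyperfocal subgroup splits: `hyp(F) ∩ W[S,S] ≤ W` for `[hyp(F), S] ≤ W ≤ hyp(F)`
-/

set_option autoImplicit false
set_option linter.style.haveILetI false
set_option linter.unusedSectionVars false

namespace Cfsg.Agent.Helper25.TateHyp

open MulAction Cfsg Cfsg.FusionSystem Cfsg.Agent.Helper25 Cfsg.Agent.Helper3.Biset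
  Cfsg.Agent.Helper25.TateSplit

universe u

section Top

variable {T : Type u} [Group T] [Finite T] {F : FusionSystem (⊤ : Subgroup T)}

/-- Maps of the system are stable for a stable biset. -/
theorem stableMap_of_mem {c : Subgroup (T × T) → ℕ}
    (hstab : ∀ E E' : Subgroup (T × T), FFConj F E E' → marks c E = marks c E')
    {Q : Subgroup T} {ψ : Q →* T} (hψ : ψ ∈ F.Hom Q) : StableMap (Om c) Q ψ := by
  set ι₁ : ↥Q × T →* T × T := Q.subtype.prodMap (MonoidHom.id T) with hι₁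
  set ι₂ : ↥Q × T →* T × T := ψ.prodMap (MonoidHom.id T) with hι₂
  have hmarks : ∀ H : Subgroup (↥Q × T), Nat.card (fix H (Pull ι₁ (Om c))) =
      Nat.card (fix H (Pull ι₂ (Om c))) := by
    intro H
    rw [card_fix_pull, card_fix_pull]
    refine hstab _ _ ⟨Q, ⊤, ψ, (⊤ : Subgroup T).subtype, hψ, subtype_mem F le_rfl, ?_, ?_⟩
    · rintro _ ⟨h, -, rfl⟩
      exact Subgroup.mem_prod.2 ⟨h.1.2, Subgroup.mem_top _⟩
    · ext x'
      rw [mem_ffimg]
      constructor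
      · rintro ⟨h, hh, rfl⟩
        exact ⟨ι₁ h, ⟨h, hh, rfl⟩, h.1.2, Subgroup.mem_top _, rfl, rfl⟩
      · rintro ⟨_, ⟨h, hh, rfl⟩, h₁, h₂, e₁, e₂⟩
        exact ⟨h, hh, Prod.ext e₁ e₂⟩
  obtain ⟨f, hf⟩ := exists_equiv_of_marks hmarks
  exact ⟨f, fun q s y => hf (q, s) y⟩

end Top

section QSet

variable {T : Type u} [Group T] (D : SplitData T)

/-- `T ⧸ U` as a `(T × T)`-set. -/
@[ext] structure QSet where
  val : T ⧸ D.U

instance QSet.instMulAction : MulAction (T × T) (QSet D) where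
  smul x q := ⟨(QuotientGroup.mk x.1 : T ⧸ D.U) * q.val * (QuotientGroup.mk x.2 : T ⧸ D.U)⁻¹⟩
  one_smul q := by
    apply QSet.ext
    show (QuotientGroup.mk (1 : T) : T ⧸ D.U) * q.val *
      (QuotientGroup.mk (1 : T) : T ⧸ D.U)⁻¹ = q.val
    rw [QuotientGroup.mk_one, one_mul, inv_one, mul_one]
  mul_smul x x' q := by
    apply QSet.ext
    show (QuotientGroup.mk (x.1 * x'.1) : T ⧸ D.U) * q.val *
      (QuotientGroup.mk (x.2 * x'.2) : T ⧸ D.U)⁻¹ =
      (QuotientGroup.mk x.1 : T ⧸ D.U) * ((QuotientGroup.mk x'.1 : T ⧸ D.U) *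
        q.val * (QuotientGroup.mk x'.2 : T ⧸ D.U)⁻¹) *
        (QuotientGroup.mk x.2 : T ⧸ D.U)⁻¹
    rw [QuotientGroup.mk_mul, QuotientGroup.mk_mul, mul_inv_rev]
    simp only [mul_assoc]

theorem QSet.smul_val (x : T × T) (q : QSet D) :
    (x • q).val = (QuotientGroup.mk x.1 : T ⧸ D.U) * q.val * (QuotientGroup.mk x.2 : T ⧸ D.U)⁻¹ :=
  rfl

theorem exists_eqMap {Y : Type*} [MulAction (T × T) Y]
    (h : ∀ y : Y, ∃ q : T ⧸ D.U, ∀ a b : T, ((a, b) : T × T) • y = y →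
      (QuotientGroup.mk a : T ⧸ D.U) * q * (QuotientGroup.mk b : T ⧸ D.U)⁻¹ = q) :
    Nonempty (EqMap D Y) := by
  have h' : ∀ y : Y, ∃ z : QSet D, stabilizer (T × T) y ≤ stabilizer (T × T) z := by
    intro y
    obtain ⟨q, hq⟩ := h y
    refine ⟨⟨q⟩, fun x hx => ?_⟩
    rw [mem_stabilizer_iff] at hx ⊢
    apply QSet.ext
    rw [QSet.smul_val]
    exact hq x.1 x.2 hx
  obtain ⟨π, hπ⟩ := exists_equivariant h'
  refine ⟨⟨fun y => (π y).val, fun a b y => ?_⟩⟩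
  show (π (((a, b) : T × T) • y)).val = _
  rw [hπ (a, b) y, QSet.smul_val]

end QSet

section Main

variable {Ω : Type u} [Group Ω] {S : Subgroup Ω}

/-- **The hyperfocal subgroup splits.**  For `W` normal in `S` with `[hyp(F), S] ≤ W ≤ hyp(F)`,
`hyp(F) ∩ W [S,S] ≤ W` (inside the group `↥S`). -/
theorem hyp_inf_le [Finite S] (p : ℕ) [Fact p.Prime] (hS : IsPGroup p S) (F : FusionSystem S)
    (hF : F.IsSaturated p) (W' : Subgroup ↥S) [hW'n : W'.Normal]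
    (hW'U : W' ≤ (F.hyperfocalSubgroup p).subgroupOf S)
    (hcen : ∀ u ∈ (F.hyperfocalSubgroup p).subgroupOf S, ∀ t : ↥S, u * t * u⁻¹ * t⁻¹ ∈ W') :
    (F.hyperfocalSubgroup p).subgroupOf S ⊓ (W' ⊔ commutator ↥S) ≤ W' := by
  have hp : p.Prime := Fact.out
  set U' : Subgroup ↥S := (F.hyperfocalSubgroup p).subgroupOf S with hU'
  have hU'n : U'.Normal := by
    refine ⟨fun u hu t => ?_⟩
    rw [hU', Subgroup.mem_subgroupOf] at hu ⊢
    exact conj_mem_hyperfocalSubgroup F p t.2 hu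
  obtain ⟨E, hE⟩ := exists_topCopy F
  have hEsat : E.IsSaturated p := hE.isSaturated hS hF
  have hT : IsPGroup p ↥S := hS
  obtain ⟨c, hc1, hc2, hc3⟩ := exists_char hT hEsat
  have hc : ∀ D, c D ≠ 0 → D ∈ TD E := hc1
  have hstab : ∀ A A' : Subgroup (↥S × ↥S), FFConj E A A' → marks c A = marks c A' :=
    fun A A' hAA => hc3 A A' hAA (Nat.zero_le _)
  have htop : ∀ D : Subgroup (↥S × ↥S), Nat.card D = Nat.card ↥S → c D = cTop E D :=
    fun D hD => hc2 D hD.ge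
  have hndvd := not_dvd_card_RQ hT hEsat hc htop
  let D : SplitData ↥S := ⟨U', W', hU'n, hW'n, hW'U, hcen⟩
  have hsc := Cfsg.Agent.S5124.result p hS F hF
  -- the equivariant map
  have heq : Nonempty (EqMap D (Om c)) := by
    apply exists_eqMap
    intro y
    obtain ⟨P', φ', hφ', hst⟩ := stabilizer_mem_TD hc y
    obtain ⟨φ, hφ, hφeq⟩ := hE.exists_of_mem hφ'
    obtain ⟨s, hs, hsx⟩ := exists_conj_mod_hyp p hS F hF hφ
    refine ⟨(QuotientGroup.mk (⟨s, hs⟩ : ↥S) : ↥S ⧸ D.U)⁻¹, fun a b hab => ?_⟩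
    have hmem : ((a, b) : ↥S × ↥S) ∈ graph P' φ' := by
      rw [← hst, mem_stabilizer_iff]; exact hab
    obtain ⟨haP, hab'⟩ := mem_graph.1 hmem
    have haP' : ((a : ↥S) : Ω) ∈ P'.map S.subtype := Subgroup.mem_map_of_mem _ haP
    have h1 := hsx ⟨(a : Ω), haP'⟩
    have h2 := hφeq ⟨a, haP⟩ haP'
    rw [← QuotientGroup.mk_inv, ← QuotientGroup.mk_inv, ← QuotientGroup.mk_mul,
      ← QuotientGroup.mk_mul, QuotientGroup.eq]
    show (a * (⟨s, hs⟩ : ↥S)⁻¹ * b⁻¹)⁻¹ * (⟨s, hs⟩ : ↥S)⁻¹ ∈ U'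
    rw [hU', Subgroup.mem_subgroupOf]
    have h3 : (b : Ω) = φ ⟨(a : Ω), haP'⟩ :=
      (congrArg Subtype.val hab').symm.trans h2.symm
    have h4 := conj_mem_hyperfocalSubgroup F p (S.mul_mem (S.mul_mem hs a.2) (S.inv_mem hs)) h1
    have e : (((a * (⟨s, hs⟩ : ↥S)⁻¹ * b⁻¹)⁻¹ * (⟨s, hs⟩ : ↥S)⁻¹ : ↥S) : Ω) =
        (s * (a : Ω) * s⁻¹) * ((s * (a : Ω) * s⁻¹)⁻¹ * φ ⟨(a : Ω), haP'⟩) *
          (s * (a : Ω) * s⁻¹)⁻¹ := by
      rw [← h3]
      push_cast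
      group
    rw [e]
    exact h4
  obtain ⟨P⟩ := heq
  -- the generation hypothesis
  have hgen : D.U ≤ Subgroup.closure (GenSet D (Om c)) := by
    set K := Subgroup.closure (GenSet D (Om c)) with hK
    have hsub : hypGen F p ⊆ ((K.map S.subtype : Subgroup Ω) : Set Ω) := by
      rintro g ⟨Y₀, ψ, q, s, hY₀, hψ, hs, rfl⟩
      have hY₀S : Y₀ ≤ S := hY₀.trans (hyperfocalSubgroup_le F p)
      have hψS := (F.le_of_mem hψ).2
      have hY₀' : (Y₀.subgroupOf S).map S.subtype = Y₀ := by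
        rw [Subgroup.subgroupOf_map_subtype, inf_eq_left.2 hY₀S]
      let ψ' : ↥(Y₀.subgroupOf S) →* ↥S :=
        (ψ.codRestrict S hψS).comp (Subgroup.subgroupOfEquivOfLe hY₀S).toMonoidHom
      have hψ' : ψ' ∈ E.Hom (Y₀.subgroupOf S) := hE.mem_of_mem hψ hY₀' ψ' (fun x hx => rfl)
      let q' : ↥(Y₀.subgroupOf S) := ⟨⟨q, hY₀S q.2⟩, q.2⟩
      have hmemG : (⟨s, hs⟩ : ↥S) * ((q' : ↥S)⁻¹ * ψ' q') * (⟨s, hs⟩ : ↥S)⁻¹ ∈
          GenSet D (Om c) := by
        refine ⟨Y₀.subgroupOf S, ψ', q', ⟨s, hs⟩, ?_, ?_, stableMap_of_mem hstab hψ', rfl⟩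
        · intro x hx
          show x ∈ U'
          rw [hU', Subgroup.mem_subgroupOf]
          exact hY₀ hx
        · intro x
          show ψ' x ∈ U'
          rw [hU', Subgroup.mem_subgroupOf]
          exact hsc.2 Y₀ hY₀ ψ hψ _
      refine ⟨_, Subgroup.subset_closure hmemG, ?_⟩
      rfl
    intro u hu
    have hu' : (u : Ω) ∈ F.hyperfocalSubgroup p := by
      have : u ∈ U' := hu
      rwa [hU', Subgroup.mem_subgroupOf] at this
    have h1 := hyp_le_closure_hypGen p hS F hu'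
    have h2 := (Subgroup.closure_le _).2 hsub h1
    obtain ⟨k, hk, hku⟩ := h2
    have : k = u := Subtype.ext hku
    rw [← this]
    exact hk
  exact inf_le (D := D) P (rfree_Om hc) hT hndvd hgen

end Main

end Cfsg.Agent.Helper25.TateHyp
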