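import Mathlib
import Cfsg.Agent.Lib.Helper25.TateHyp2
import Cfsg.Agent.Lib.Helper25.TateFoc1
import Cfsg.Agent.S5092

/-!
# Tate's theorem for fusion systems
-/

set_option autoImplicit false
set_option linter.style.haveILetI false
set_option linter.unusedSectionVars false

namespace Cfsg.Agent.Helper25.TateMain

open Cfsg Cfsg.FusionSystem Cfsg.Agent.Helper25 Cfsg.Agent.Helper25.TateHyp
  Cfsg.Agent.Helper25.TateFoc

universe u

/-- In a nilpotent group, normal subgroups `V ≤ U` with `U ≤ V [U, G]` are equal. -/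
theorem le_of_le_sup_commutator {G : Type*} [Group G] [hG : Group.IsNilpotent G]
    (U V : Subgroup G) [hUn : U.Normal] [hVn : V.Normal]
    (h : U ≤ V ⊔ ⁅U, (⊤ : Subgroup G)⁆) : U ≤ V := by
  set π := QuotientGroup.mk' V with hπ
  have hsurj : Function.Surjective π := QuotientGroup.mk'_surjective V
  set Ub : Subgroup (G ⧸ V) := U.map π with hUb
  have h1 : Ub ≤ ⁅Ub, (⊤ : Subgroup (G ⧸ V))⁆ := by
    have h2 := Subgroup.map_mono (f := π) h
    rw [Subgroup.map_sup, Subgroup.map_commutator] at h2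
    have h3 : V.map π = ⊥ := by
      rw [Subgroup.map_eq_bot_iff, hπ, QuotientGroup.ker_mk']
    have h4 : (⊤ : Subgroup G).map π = ⊤ := by
      rw [← MonoidHom.range_eq_map, MonoidHom.range_eq_top]
      exact hsurj
    rw [h3, h4, bot_sup_eq] at h2
    exact h2
  have h5 : ∀ n : ℕ, Ub ≤ (⊤ : Subgroup (G ⧸ V)).lowerCentralSeries n := by
    intro n
    induction n with
    | zero => rw [Subgroup.lowerCentralSeries_zero]; exact le_top
    | succ n ih =>
      refine h1.trans ?_
      rw [Subgroup.lowerCentralSeries_succ]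
      exact Subgroup.commutator_mono ih le_rfl
  obtain ⟨n, hn⟩ := Subgroup.nilpotent_iff_lowerCentralSeries.1
    (inferInstance : Group.IsNilpotent (G ⧸ V))
  have h6 : Ub = ⊥ := by
    rw [eq_bot_iff, ← hn]
    exact h5 n
  rw [hUb, Subgroup.map_eq_bot_iff, hπ, QuotientGroup.ker_mk'] at h6
  exact h6

variable {Ω : Type u} [Group Ω] {S : Subgroup Ω}

theorem focal_le_of_subsystem {F H : FusionSystem S} (hHF : H.IsSubsystemOf F) :
    H.focalSubgroup ≤ F.focalSubgroup := by
  unfold FusionSystem.focalSubgroup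
  apply Subgroup.closure_mono
  rintro _ ⟨P, φ, x, hφ, rfl⟩
  exact ⟨P, φ, x, hHF P hφ, rfl⟩

theorem autGroup_le_of_subsystem {F H : FusionSystem S} (hHF : H.IsSubsystemOf F)
    (P : Subgroup Ω) : H.autGroup P ≤ F.autGroup P := by
  unfold FusionSystem.autGroup
  apply Subgroup.closure_mono
  intro α hα
  exact hHF P hα

theorem hyp_le_of_subsystem {F H : FusionSystem S} (hHF : H.IsSubsystemOf F) (p : ℕ) :
    H.hyperfocalSubgroup p ≤ F.hyperfocalSubgroup p := by
  conv_lhs => unfold FusionSystem.hyperfocalSubgroup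
  rw [Subgroup.closure_le]
  rintro _ ⟨P, α, x, hPS, hα, rfl⟩
  have h1 := pResidual_transport p (MonoidHom.id (MulAut P)) (fun _ _ h => h)
    (A := H.autGroup P) (A' := F.autGroup P) (fun a ha => autGroup_le_of_subsystem hHF P ha) hα
  exact hyperfocal_gen_mem F p hPS _ h1 x

/-- **Tate, second part.** -/
theorem hyp_eq_of_focal_eq [Finite S] (p : ℕ) [Fact p.Prime] (hS : IsPGroup p S)
    (F : FusionSystem S) (hF : F.IsSaturated p) (H : FusionSystem S) (hH : H.IsSaturated p)
    (hHF : H.IsSubsystemOf F) (hfoc : F.focalSubgroup = H.focalSubgroup) :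
    F.hyperfocalSubgroup p = H.hyperfocalSubgroup p := by
  apply le_antisymm _ (hyp_le_of_subsystem hHF p)
  set U := F.hyperfocalSubgroup p with hU
  set V := H.hyperfocalSubgroup p with hV
  have hVU : V ≤ U := hyp_le_of_subsystem hHF p
  have hUS : U ≤ S := hyperfocalSubgroup_le F p
  have hVS : V ≤ S := hyperfocalSubgroup_le H p
  set U' : Subgroup ↥S := U.subgroupOf S with hU'
  set V' : Subgroup ↥S := V.subgroupOf S with hV'
  have hU'n : U'.Normal := by
    refine ⟨fun u hu t => ?_⟩
    rw [hU', Subgroup.mem_subgroupOf] at hu ⊢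
    exact conj_mem_hyperfocalSubgroup F p t.2 hu
  have hV'n : V'.Normal := by
    refine ⟨fun u hu t => ?_⟩
    rw [hV', Subgroup.mem_subgroupOf] at hu ⊢
    exact conj_mem_hyperfocalSubgroup H p t.2 hu
  have hV'U' : V' ≤ U' := fun x hx => hVU hx
  have hinj : Function.Injective S.subtype := S.subtype_injective
  have hVmap : V'.map S.subtype = V := by
    rw [hV', Subgroup.subgroupOf_map_subtype, inf_eq_left.2 hVS]
  have hcomm : (commutator ↥S).map S.subtype = ⁅(S : Subgroup Ω), (S : Subgroup Ω)⁆ := by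
    rw [commutator_def, Subgroup.map_commutator, ← MonoidHom.range_eq_map, Subgroup.range_subtype]
  -- `U ≤ V [S,S]`
  have h1 : U' ≤ V' ⊔ commutator ↥S := by
    intro u hu
    have hu' : (u : Ω) ∈ U := hu
    have h2 : (u : Ω) ∈ F.focalSubgroup := by
      rw [Cfsg.Agent.S5092.result p hS F hF]
      exact le_sup_left (a := U) hu'
    rw [hfoc, Cfsg.Agent.S5092.result p hS H hH, ← hV, ← hVmap, ← hcomm, ← Subgroup.map_sup] at h2
    obtain ⟨k, hk, hku⟩ := h2
    have : k = u := hinj hku
    rw [← this]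
    exact hk
  -- the subgroup `W`
  set W' : Subgroup ↥S := V' ⊔ ⁅U', (⊤ : Subgroup ↥S)⁆ with hW'
  haveI hcn : (⁅U', (⊤ : Subgroup ↥S)⁆).Normal := Subgroup.commutator_normal U' ⊤
  haveI hW'n : W'.Normal := Subgroup.sup_normal V' _
  have hW'U' : W' ≤ U' := sup_le hV'U' (Subgroup.commutator_le_left U' ⊤)
  have hcen : ∀ u ∈ U', ∀ t : ↥S, u * t * u⁻¹ * t⁻¹ ∈ W' := by
    intro u hu t
    apply le_sup_right (a := V')
    have := Subgroup.commutator_mem_commutator hu (Subgroup.mem_top t)
    rwa [commutatorElement_def] at this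
  have h3 := hyp_inf_le p hS F hF W' hW'U' hcen
  have h4 : U' ≤ W' := by
    intro u hu
    apply h3
    refine ⟨hu, ?_⟩
    have := h1 hu
    exact (sup_le_sup_right (le_sup_left (a := V') (b := ⁅U', (⊤ : Subgroup ↥S)⁆)) _) this
  haveI : Group.IsNilpotent ↥S := IsPGroup.isNilpotent hS
  have h5 : U' ≤ V' := le_of_le_sup_commutator U' V' h4
  intro x hx
  have hxS : x ∈ S := hUS hx
  exact h5 (show (⟨x, hxS⟩ : ↥S) ∈ U' from hx)

/-- **Tate's theorem for fusion systems.** -/
theorem tate [Finite S] (p : ℕ) [Fact p.Prime] (hS : IsPGroup p S)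
    (F : FusionSystem S) (hF : F.IsSaturated p) (H : FusionSystem S) (hH : H.IsSaturated p)
    (hHF : H.IsSubsystemOf F) :
    (((frattini ↥S).map S.subtype ⊔ F.focalSubgroup) =
        ((frattini ↥S).map S.subtype ⊔ H.focalSubgroup) ↔
      F.focalSubgroup = H.focalSubgroup) ∧
    (F.focalSubgroup = H.focalSubgroup ↔
      F.hyperfocalSubgroup p = H.hyperfocalSubgroup p) := by
  refine ⟨⟨fun h => ?_, fun h => by rw [h]⟩, ⟨fun h => hyp_eq_of_focal_eq p hS F hF H hH hHF h,
    fun h => ?_⟩⟩
  · apply le_antisymm _ (focal_le_of_subsystem hHF)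
    apply focal_le_of_le p hS F hF H.focalSubgroup
    · rw [Cfsg.Agent.S5092.result p hS H hH]
      exact le_sup_right
    · exact focal_le_of_subsystem hHF
    · have : F.focalSubgroup ≤ (frattini ↥S).map S.subtype ⊔ F.focalSubgroup := le_sup_right
      rw [h, sup_comm] at this
      exact this
  · rw [Cfsg.Agent.S5092.result p hS F hF, Cfsg.Agent.S5092.result p hS H hH, h]

end Cfsg.Agent.Helper25.TateMain
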