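import Mathlib
import Cfsg.Agent.Lib.Helper25.TateMain
import Cfsg.Agent.Lib.Helper25.FusionInduction3
import Cfsg.Agent.Lib.Helper14.FusModQ3
import Cfsg.Agent.Lib.Helper23.PGroup

/-!
# Tate's `p`-nilpotency criterion for fusion systems, and the Frattini criterion
-/

set_option autoImplicit false
set_option linter.style.haveILetI false
set_option linter.unusedSectionVars false

namespace Cfsg.Agent.Helper25.TateMain

open Cfsg Cfsg.FusionSystem Cfsg.Agent.Helper25 Cfsg.Agent.Helper25.TateHyp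
  Cfsg.Agent.Helper25.TateFoc
open scoped commutatorElement

universe u

variable {Ω : Type u} [Group Ω] {S : Subgroup Ω}

/-- If `hyp(F) ≤ V [S,S]` for an `S`-invariant subgroup `V ≤ hyp(F)`, then `hyp(F) ≤ V`. -/
theorem hyp_le_of_le_sup [Finite S] (p : ℕ) [Fact p.Prime] (hS : IsPGroup p S)
    (F : FusionSystem S) (hF : F.IsSaturated p) (V : Subgroup Ω)
    (hVU : V ≤ F.hyperfocalSubgroup p) (hVn : ∀ s ∈ S, ∀ v ∈ V, s * v * s⁻¹ ∈ V)
    (h : F.hyperfocalSubgroup p ≤ V ⊔ ⁅(S : Subgroup Ω), (S : Subgroup Ω)⁆) :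
    F.hyperfocalSubgroup p ≤ V := by
  set U := F.hyperfocalSubgroup p with hU
  have hUS : U ≤ S := hyperfocalSubgroup_le F p
  have hVS : V ≤ S := hVU.trans hUS
  set U' : Subgroup ↥S := U.subgroupOf S with hU'
  set V' : Subgroup ↥S := V.subgroupOf S with hV'
  have hU'n : U'.Normal := by
    refine ⟨fun u hu t => ?_⟩
    rw [hU', Subgroup.mem_subgroupOf] at hu ⊢
    exact conj_mem_hyperfocalSubgroup F p t.2 hu
  have hV'n : V'.Normal := by
    refine ⟨fun u hu t => ?_⟩
    rw [hV', Subgroup.mem_subgroupOf] at hu ⊢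
    exact hVn t t.2 _ hu
  have hV'U' : V' ≤ U' := fun x hx => hVU hx
  have hinj : Function.Injective S.subtype := S.subtype_injective
  have hVmap : V'.map S.subtype = V := by
    rw [hV', Subgroup.subgroupOf_map_subtype, inf_eq_left.2 hVS]
  have hcomm : (commutator ↥S).map S.subtype = ⁅(S : Subgroup Ω), (S : Subgroup Ω)⁆ := by
    rw [commutator_def, Subgroup.map_commutator, ← MonoidHom.range_eq_map, Subgroup.range_subtype]
  have h1 : U' ≤ V' ⊔ commutator ↥S := by
    intro u hu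
    have hu' : (u : Ω) ∈ U := hu
    have h2 := h hu'
    rw [← hVmap, ← hcomm, ← Subgroup.map_sup] at h2
    obtain ⟨k, hk, hku⟩ := h2
    have : k = u := hinj hku
    rw [← this]
    exact hk
  set W' : Subgroup ↥S := V' ⊔ ⁅U', (⊤ : Subgroup ↥S)⁆ with hW'
  haveI hcn : (⁅U', (⊤ : Subgroup ↥S)⁆).Normal := Subgroup.commutator_normal U' ⊤
  haveI hW'n : W'.Normal := Subgroup.sup_normal V' _
  have hW'U' : W' ≤ U' := sup_le hV'U' (Subgroup.commutator_le_left U' ⊤)
  have hcen : ∀ u ∈ U', ∀ t : ↥S, u * t * u⁻¹ * t⁻¹ ∈ W' := by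
    intro u hu t
    apply le_sup_right (a := V')
    have := Subgroup.commutator_mem_commutator hu (Subgroup.mem_top t)
    rwa [commutatorElement_def] at this
  have h3 := hyp_inf_le p hS F hF W' hW'U' hcen
  have h4 : U' ≤ W' := by
    intro u hu
    apply h3
    refine ⟨hu, ?_⟩
    have := h1 hu
    exact (sup_le_sup_right (le_sup_left (a := V') (b := ⁅U', (⊤ : Subgroup ↥S)⁆)) _) this
  haveI : Group.IsNilpotent ↥S := IsPGroup.isNilpotent hS
  have h5 : U' ≤ V' := le_of_le_sup_commutator U' V' h4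
  intro x hx
  have hxS : x ∈ S := hUS hx
  exact h5 (show (⟨x, hxS⟩ : ↥S) ∈ U' from hx)

/-- **Tate's criterion.**  If the focal subgroup lies in the Frattini subgroup then the system is
the inner system. -/
theorem inner_of_focal_le_frattini [Finite S] (p : ℕ) [Fact p.Prime] (hS : IsPGroup p S)
    (F : FusionSystem S) (hF : F.IsSaturated p)
    (h : F.focalSubgroup ≤ (frattini ↥S).map S.subtype) :
    ∀ P : Subgroup Ω, F.Hom P = (innerFusionSystem S).Hom P := by
  have hfocS := Cfsg.Agent.S5092.result p hS F hF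
  have h1 : F.focalSubgroup ≤ ⁅(S : Subgroup Ω), (S : Subgroup Ω)⁆ := by
    apply focal_le_of_le p hS F hF _ le_rfl
    · rw [hfocS]; exact le_sup_right
    · exact h.trans le_sup_right
  have h2 : F.hyperfocalSubgroup p ≤ ⊥ := by
    apply hyp_le_of_le_sup p hS F hF ⊥ bot_le
    · intro s _ v hv
      rw [Subgroup.mem_bot] at hv ⊢
      rw [hv, mul_one, mul_inv_cancel]
    · rw [bot_sup_eq]
      refine le_trans ?_ h1
      rw [hfocS]; exact le_sup_left
  intro P
  apply Set.Subset.antisymm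
  · intro φ hφ
    obtain ⟨s, hs, hsx⟩ := exists_conj_mod_hyp p hS F hF hφ
    refine ⟨(F.le_of_mem hφ).1, s, hs, fun x => ?_⟩
    have := h2 (hsx x)
    rw [Subgroup.mem_bot, inv_mul_eq_one] at this
    exact this.symm
  · rintro φ ⟨hP, g, hg, hgx⟩
    have : φ = conjHom P g := by ext x; exact hgx x
    rw [this]
    exact F.conj_mem hP hg

/-- If `N_F(S)` is inner and `Φ(S)` is strongly closed, the focal subgroup lies in `Φ(S)`. -/
theorem focal_le_frattini [Finite S] (p : ℕ) [Fact p.Prime] (hS : IsPGroup p S)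
    (F : FusionSystem S) (hF : F.IsSaturated p)
    (hN : ∀ N : FusionSystem (normalizerIn S S), F.IsNormalizerSystem S N → ∀ P : Subgroup Ω,
      N.Hom P = (innerFusionSystem (normalizerIn S S)).Hom P)
    (hΦ : F.StronglyClosed ((frattini ↥S).map S.subtype)) :
    F.focalSubgroup ≤ (frattini ↥S).map S.subtype := by
  set Φ := (frattini ↥S).map S.subtype with hΦdef
  have hcomm : ∀ x ∈ S, ∀ g ∈ S, x⁻¹ * (g * x * g⁻¹) ∈ Φ := by
    intro x hx g hg
    refine ⟨⁅(⟨x, hx⟩ : S)⁻¹, (⟨g, hg⟩ : S)⁆,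
      Cfsg.Agent.Helper23.commutator_le_frattini_pgroup p hS ?_, ?_⟩
    · rw [commutator_def]
      exact Subgroup.commutator_mem_commutator (Subgroup.mem_top _) (Subgroup.mem_top _)
    · rw [commutatorElement_def]
      simp [mul_assoc]
  have hTop := Cfsg.Agent.Helper14.FusModQ.top_inner F hN
  have key : ∀ {R : Subgroup Ω} {φ : R →* Ω}, φ ∈ F.Hom R → ∀ x : R, (x : Ω)⁻¹ * φ x ∈ Φ := by
    intro R φ hφ
    refine normal_family_induction p hS F hF (T := S) le_rfl
      (fun g hg v hv => S.mul_mem (S.mul_mem (S.inv_mem hg) hv) hg)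
      (fun P φ => ∀ x : P, (x : Ω)⁻¹ * φ x ∈ Φ) ?_ ?_ ?_ ?_
      (fun P hP => (F.autGroup P) ⊓
        { carrier := {γ : MulAut P | ∀ x : P, (x : Ω)⁻¹ * ((γ x : P) : Ω) ∈ Φ ∧
            (x : Ω)⁻¹ * ((γ⁻¹ x : P) : Ω) ∈ Φ}
          mul_mem' := by
            intro a b ha hb x
            constructor
            · have h1 := (hb x).1
              have h2 := (ha (b x)).1
              have : (x : Ω)⁻¹ * (((a * b) x : P) : Ω) =
                  ((x : Ω)⁻¹ * ((b x : P) : Ω)) * (((b x : P) : Ω)⁻¹ * ((a (b x) : P) : Ω)) := by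
                rw [MulAut.mul_apply]; group
              rw [this]
              exact Φ.mul_mem h1 h2
            · have h1 := (ha x).2
              have h2 := (hb (a⁻¹ x)).2
              have : (x : Ω)⁻¹ * ((((a * b)⁻¹) x : P) : Ω) =
                  ((x : Ω)⁻¹ * ((a⁻¹ x : P) : Ω)) *
                    (((a⁻¹ x : P) : Ω)⁻¹ * ((b⁻¹ (a⁻¹ x) : P) : Ω)) := by
                rw [mul_inv_rev, MulAut.mul_apply]; group
              rw [this]
              exact Φ.mul_mem h1 h2
          one_mem' := by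
            intro x
            constructor
            · rw [MulAut.one_apply, inv_mul_cancel]; exact Φ.one_mem
            · rw [inv_one, MulAut.one_apply, inv_mul_cancel]; exact Φ.one_mem
          inv_mem' := by
            intro a ha x
            refine ⟨(ha x).2, ?_⟩
            rw [inv_inv]
            exact (ha x).1 }) ?_ ?_ ?_ ?_ hφ
    · intro P g hP hg x
      rw [conjHom_apply]
      exact hcomm x (hP x.2) g hg
    · intro P Q φ ψ _ _ h1 h2 h x
      have e1 := h1 x
      have e2 := h2 ⟨φ x, h x⟩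
      have : (x : Ω)⁻¹ * (ψ.comp (φ.codRestrict Q h)) x =
          ((x : Ω)⁻¹ * φ x) * ((((⟨φ x, h x⟩ : Q) : Ω))⁻¹ * ψ ⟨φ x, h x⟩) := by
        rw [MonoidHom.comp_apply]
        have : (φ.codRestrict Q h) x = ⟨φ x, h x⟩ := rfl
        rw [this]
        group
      rw [this]
      exact Φ.mul_mem e1 e2
    · rintro P φ _ h1 ψ _ hinv ⟨_, x, rfl⟩
      rw [hinv x]
      have := Φ.inv_mem (h1 x)
      have e : ((x : Ω)⁻¹ * φ x)⁻¹ = (((⟨φ x, ⟨x, rfl⟩⟩ : φ.range) : Ω))⁻¹ * (x : Ω) := by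
        show _ = (φ x)⁻¹ * (x : Ω)
        group
      rw [← e]
      exact this
    · -- `hbig`
      intro P hP hSP α hα x
      have hPS : P = S := le_antisymm hP hSP
      have hαF := (mem_autGroup_iff F hP α).mp hα
      obtain ⟨g, hg, hgx⟩ := hTop P hPS _ hαF
      have : (P.subtype.comp α.toMonoidHom) x = g * (x : Ω) * g⁻¹ := hgx x
      rw [this]
      exact hcomm x (hP x.2) g hg
    · -- `hKA`
      intro P hP
      exact inf_le_left
    · -- `hKn`
      intro P hP β hβ γ hγ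
      refine ⟨(F.autGroup P).mul_mem ((F.autGroup P).mul_mem hβ hγ.1) ((F.autGroup P).inv_mem hβ),
        ?_⟩
      have hβF := (mem_autGroup_iff F hP β).mp hβ
      have hle : P ⊓ Φ ≤ P := inf_le_left
      have hres := restrict_mem F hle hβF
      have hmove : ∀ y : P, (y : Ω) ∈ Φ → ((β y : P) : Ω) ∈ Φ := by
        intro y hy
        exact hΦ.2 (P ⊓ Φ) inf_le_right _ hres ⟨y, ⟨y.2, hy⟩⟩
      intro x
      constructor
      · have h1 := (hγ.2 (β⁻¹ x)).1
        have h2 := hmove ((β⁻¹ x)⁻¹ * γ (β⁻¹ x)) (by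
          rw [Subgroup.coe_mul, Subgroup.coe_inv]; exact h1)
        have e : (x : Ω)⁻¹ * (((β * γ * β⁻¹) x : P) : Ω) =
            ((β ((β⁻¹ x)⁻¹ * γ (β⁻¹ x)) : P) : Ω) := by
          rw [map_mul, map_inv, MulAut.apply_inv_self, MulAut.mul_apply, MulAut.mul_apply,
            Subgroup.coe_mul, Subgroup.coe_inv]
        rw [e]
        exact h2
      · have h1 := (hγ.2 (β⁻¹ x)).2
        have h2 := hmove ((β⁻¹ x)⁻¹ * γ⁻¹ (β⁻¹ x)) (by
          rw [Subgroup.coe_mul, Subgroup.coe_inv]; exact h1)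
        have e : (x : Ω)⁻¹ * ((((β * γ * β⁻¹)⁻¹) x : P) : Ω) =
            ((β ((β⁻¹ x)⁻¹ * γ⁻¹ (β⁻¹ x)) : P) : Ω) := by
          have e0 : (β * γ * β⁻¹)⁻¹ = β * γ⁻¹ * β⁻¹ := by group
          rw [e0, map_mul, map_inv, MulAut.apply_inv_self, MulAut.mul_apply, MulAut.mul_apply,
            Subgroup.coe_mul, Subgroup.coe_inv]
        rw [e]
        exact h2
    · -- `hKT`
      intro P hP g hg hgN
      refine ⟨?_, fun x => ⟨?_, ?_⟩⟩
      · show P.normalizerMonoidHom ⟨g, hgN⟩ ∈ F.autGroup P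
        rw [mem_autGroup_iff F hP]
        have : P.subtype.comp (P.normalizerMonoidHom ⟨g, hgN⟩).toMonoidHom = conjHom P g := by
          ext x; rfl
        rw [this]
        exact F.conj_mem hP hg
      · show (x : Ω)⁻¹ * (g * (x : Ω) * g⁻¹) ∈ Φ
        exact hcomm x (hP x.2) g hg
      · have e : (P.normalizerMonoidHom ⟨g, hgN⟩)⁻¹ = P.normalizerMonoidHom ⟨g, hgN⟩⁻¹ := by
          rw [map_inv]
        rw [e]
        show (x : Ω)⁻¹ * (g⁻¹ * (x : Ω) * g⁻¹⁻¹) ∈ Φ
        exact hcomm x (hP x.2) g⁻¹ (S.inv_mem hg)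
    · -- `hKPr`
      intro P hP γ hγ x
      exact (hγ.2 x).1
  unfold FusionSystem.focalSubgroup
  rw [Subgroup.closure_le]
  rintro _ ⟨P, φ, x, hφ, rfl⟩
  exact key hφ x

end Cfsg.Agent.Helper25.TateMain
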