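import Mathlib
import Cfsg.Prelude.Def_RootSubgroups

/-!
# Unipotent subgroups of `GL(M)` via the augmentation space (helper25)

`aug H` is the span of the endomorphisms `g - 1`, `g ∈ H`.  It is closed under multiplication and
`H` acts unipotently iff some power of `aug H` vanishes.
-/

set_option autoImplicit false

namespace Cfsg.Agent.Helper25
namespace Unip

open Cfsg

variable {k : Type*} [Field k] {M : Type*} [AddCommGroup M] [Module k M]

local notation "GL" => LinearMap.GeneralLinearGroup k M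

/-- The endomorphism `g - 1`. -/
def dl (g : GL) : Module.End k M := (g : M →ₗ[k] M) - 1

theorem dl_one : dl (1 : GL) = 0 := by
  unfold dl
  simp

theorem coe_eq (g : GL) : ((g : M →ₗ[k] M) : Module.End k M) = 1 + dl g := by
  unfold dl; abel

theorem coe_mul' (g h : GL) : ((g * h : GL) : M →ₗ[k] M) = (g : M →ₗ[k] M) * (h : M →ₗ[k] M) := rfl

theorem dl_mul (g h : GL) : dl (g * h) = dl g * dl h + dl g + dl h := by
  unfold dl
  rw [coe_mul']
  noncomm_ring

theorem coe_mul_inv (g : GL) : (g : M →ₗ[k] M) * ((g⁻¹ : GL) : M →ₗ[k] M) = 1 := by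
  rw [← coe_mul', mul_inv_cancel]; rfl

theorem coe_inv_mul (g : GL) : ((g⁻¹ : GL) : M →ₗ[k] M) * (g : M →ₗ[k] M) = 1 := by
  rw [← coe_mul', inv_mul_cancel]; rfl

/-- The augmentation space of a subgroup. -/
def aug (H : Subgroup GL) : Submodule k (Module.End k M) :=
  Submodule.span k {x | ∃ g ∈ H, x = dl g}

theorem dl_mem_aug {H : Subgroup GL} {g : GL} (hg : g ∈ H) : dl g ∈ aug H :=
  Submodule.subset_span ⟨g, hg, rfl⟩

theorem aug_mono {H H' : Subgroup GL} (h : H ≤ H') : aug H ≤ aug H' := by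
  apply Submodule.span_mono
  rintro x ⟨g, hg, rfl⟩
  exact ⟨g, h hg, rfl⟩

theorem aug_le_iff {H : Subgroup GL} {Q : Submodule k (Module.End k M)} :
    aug H ≤ Q ↔ ∀ g ∈ H, dl g ∈ Q := by
  constructor
  · intro h g hg
    exact h (dl_mem_aug hg)
  · intro h
    apply Submodule.span_le.mpr
    rintro x ⟨g, hg, rfl⟩
    exact h g hg

theorem aug_mul_le (H : Subgroup GL) : aug H * aug H ≤ aug H := by
  unfold aug
  rw [Submodule.span_mul_span]
  apply Submodule.span_le.mpr
  rintro x ⟨y, ⟨g, hg, rfl⟩, z, ⟨h, hh, rfl⟩, rfl⟩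
  have : dl g * dl h = dl (g * h) - dl g - dl h := by rw [dl_mul]; abel
  show dl g * dl h ∈ Submodule.span k {x | ∃ g ∈ H, x = dl g}
  rw [this]
  exact Submodule.sub_mem _ (Submodule.sub_mem _ (Submodule.subset_span ⟨_, H.mul_mem hg hh, rfl⟩)
    (Submodule.subset_span ⟨g, hg, rfl⟩)) (Submodule.subset_span ⟨h, hh, rfl⟩)

/-- If `Q` is closed under multiplication and contains `aug A` for all `A` in a family, then it
contains the augmentation space of the supremum. -/
theorem aug_iSup_le {ι : Sort*} (A : ι → Subgroup GL) {Q : Submodule k (Module.End k M)}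
    (hQ : Q * Q ≤ Q) (h : ∀ i, aug (A i) ≤ Q) : aug (⨆ i, A i) ≤ Q := by
  rw [aug_le_iff]
  intro g hg
  refine Subgroup.iSup_induction A (C := fun g => dl g ∈ Q) hg ?_ ?_ ?_
  · intro i x hx
    exact h i (dl_mem_aug hx)
  · rw [dl_one]; exact Q.zero_mem
  · intro x y hx hy
    rw [dl_mul]
    exact Q.add_mem (Q.add_mem (hQ (Submodule.mul_mem_mul hx hy)) hx) hy

theorem aug_sup_le {A B : Subgroup GL} {Q : Submodule k (Module.End k M)}
    (hQ : Q * Q ≤ Q) (hA : aug A ≤ Q) (hB : aug B ≤ Q) : aug (A ⊔ B) ≤ Q := by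
  rw [sup_eq_iSup]
  apply aug_iSup_le _ hQ
  intro b
  cases b <;> simp [hA, hB]

/-- powers decrease -/
theorem pow_succ_le {Q : Submodule k (Module.End k M)} (hQ : Q * Q ≤ Q) (n : ℕ) :
    Q ^ (n + 2) ≤ Q ^ (n + 1) := by
  induction n with
  | zero =>
    rw [pow_succ, zero_add, pow_one]
    exact hQ
  | succ n ih =>
    rw [pow_succ, pow_succ Q (n + 1)]
    exact mul_le_mul' ih le_rfl

theorem pow_le_pow_of_le {Q : Submodule k (Module.End k M)} (hQ : Q * Q ≤ Q) {m n : ℕ} (hm : 1 ≤ m)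
    (hmn : m ≤ n) : Q ^ n ≤ Q ^ m := by
  induction n, hmn using Nat.le_induction with
  | base => exact le_rfl
  | succ n hn ih =>
    obtain ⟨j, rfl⟩ : ∃ j, n = j + 1 := ⟨n - 1, by omega⟩
    exact (pow_succ_le hQ j).trans ih

/-- The span of the products of `n` elements `g - 1`. -/
theorem list_prod_mem_pow {H : Subgroup GL} (l : List GL) (hl : ∀ g ∈ l, g ∈ H) :
    (l.map fun g => (g : M →ₗ[k] M) - 1).prod ∈ aug H ^ l.length := by
  induction l with
  | nil =>
    simp only [List.map_nil, List.prod_nil, List.length_nil, pow_zero]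
    exact Submodule.one_le.mp le_rfl
  | cons g l ih =>
    simp only [List.map_cons, List.prod_cons, List.length_cons]
    rw [pow_succ']
    exact Submodule.mul_mem_mul (dl_mem_aug (hl g (by simp)))
      (ih (fun g' hg' => hl g' (by simp [hg'])))

theorem pow_le_span_list (H : Subgroup GL) (n : ℕ) :
    aug H ^ n ≤ Submodule.span k {p | ∃ l : List GL, (∀ g ∈ l, g ∈ H) ∧ l.length = n ∧
      p = (l.map fun g => (g : M →ₗ[k] M) - 1).prod} := by
  induction n with
  | zero =>
    rw [pow_zero, Submodule.one_eq_span]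
    apply Submodule.span_mono
    rintro x hx
    rw [Set.mem_singleton_iff] at hx
    exact ⟨[], by simp, rfl, by simp [hx]⟩
  | succ n ih =>
    rw [pow_succ']
    refine (mul_le_mul' le_rfl ih).trans ?_
    unfold aug
    rw [Submodule.span_mul_span]
    apply Submodule.span_mono
    rintro x ⟨y, ⟨g, hg, rfl⟩, z, ⟨l, hl, hlen, rfl⟩, rfl⟩
    refine ⟨g :: l, ?_, by simp [hlen], by simp [dl]⟩
    intro g' hg'
    rcases List.mem_cons.mp hg' with rfl | h
    · exact hg
    · exact hl g' h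

theorem isUnipotentOn_iff (H : Subgroup GL) : Cfsg.IsUnipotentOn H ↔ ∃ n : ℕ, aug H ^ n = ⊥ := by
  constructor
  · rintro ⟨n, hn⟩
    refine ⟨n, ?_⟩
    rw [eq_bot_iff]
    refine (pow_le_span_list H n).trans ?_
    apply Submodule.span_le.mpr
    rintro x ⟨l, hl, hlen, rfl⟩
    rw [hn l hl hlen]
    exact Submodule.zero_mem _
  · rintro ⟨n, hn⟩
    refine ⟨n, fun l hl hlen => ?_⟩
    have := list_prod_mem_pow l hl
    rw [hlen, hn, Submodule.mem_bot] at this
    exact this

theorem isUnipotentOn_mono {H H' : Subgroup GL} (h : H ≤ H') (hu : Cfsg.IsUnipotentOn H') :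
    Cfsg.IsUnipotentOn H := by
  rw [isUnipotentOn_iff] at hu ⊢
  obtain ⟨n, hn⟩ := hu
  refine ⟨n, ?_⟩
  rw [eq_bot_iff, ← hn]
  exact pow_le_pow_left' (aug_mono h) n

end Unip
end Cfsg.Agent.Helper25
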