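import Mathlib
import Cfsg.Prelude.Def_RootSubgroups
import Cfsg.Agent.Lib.Helper25.Unipotent1

/-!
# Normalizers grow in unipotent subgroups of `GL(M)` (helper25)
-/

set_option autoImplicit false

namespace Cfsg.Agent.Helper25
namespace Unip

open Cfsg

variable {k : Type*} [Field k] {M : Type*} [AddCommGroup M] [Module k M]

local notation "GL" => LinearMap.GeneralLinearGroup k M

theorem eq_one_of_dl_eq_zero {g : GL} (h : dl g = 0) : g = 1 := by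
  apply Units.ext
  have : (g : M →ₗ[k] M) = 1 + dl g := coe_eq g
  rw [h, add_zero] at this
  exact this

/-- `x * (1 + dl w) ∈ Q ^ (i+1)` if `x ∈ Q ^ (i+1)` and `dl w ∈ Q`. -/
theorem mul_coe_mem_pow {Q : Submodule k (Module.End k M)} (hQ : Q * Q ≤ Q) {i : ℕ}
    {x : Module.End k M} (hx : x ∈ Q ^ (i + 1)) {w : GL} (hw : dl w ∈ Q) :
    x * (w : M →ₗ[k] M) ∈ Q ^ (i + 1) := by
  rw [coe_eq w, mul_add, mul_one]
  refine Submodule.add_mem _ hx ?_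
  apply pow_succ_le hQ i
  rw [pow_succ Q (i + 1)]
  exact Submodule.mul_mem_mul hx hw

theorem dl_inv (u : GL) : dl u⁻¹ = -(dl u * ((u⁻¹ : GL) : M →ₗ[k] M)) := by
  have h1 : (u : M →ₗ[k] M) * ((u⁻¹ : GL) : M →ₗ[k] M) = 1 := coe_mul_inv u
  unfold dl
  rw [sub_mul, h1, one_mul]
  abel

theorem dl_inv_mem_pow {Q : Submodule k (Module.End k M)} (hQ : Q * Q ≤ Q) {i : ℕ} {u : GL}
    (hu : dl u ∈ Q ^ (i + 1)) (hu' : dl u⁻¹ ∈ Q) : dl u⁻¹ ∈ Q ^ (i + 1) := by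
  rw [dl_inv]
  exact Submodule.neg_mem _ (mul_coe_mem_pow hQ hu hu')

theorem dl_comm (u d : GL) :
    dl (u * d * u⁻¹ * d⁻¹) = (dl u * dl d - dl d * dl u) * (((d * u)⁻¹ : GL) : M →ₗ[k] M) := by
  have h1 : ((u * d * u⁻¹ * d⁻¹ : GL) : M →ₗ[k] M) =
      ((u * d : GL) : M →ₗ[k] M) * (((d * u)⁻¹ : GL) : M →ₗ[k] M) := by
    have hg : u * d * u⁻¹ * d⁻¹ = (u * d) * (d * u)⁻¹ := by group
    rw [hg, coe_mul']
  have h2 : ((d * u : GL) : M →ₗ[k] M) * (((d * u)⁻¹ : GL) : M →ₗ[k] M) = 1 := coe_mul_inv _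
  have h3 : dl u * dl d - dl d * dl u = ((u * d : GL) : M →ₗ[k] M) - ((d * u : GL) : M →ₗ[k] M) := by
    rw [coe_mul', coe_mul', coe_eq u, coe_eq d]
    noncomm_ring
  rw [h3, sub_mul, h2]
  unfold dl
  rw [h1]

theorem dl_comm_mem_pow {Q : Submodule k (Module.End k M)} (hQ : Q * Q ≤ Q) {i : ℕ} {u d : GL}
    (hu : dl u ∈ Q ^ (i + 1)) (hd : dl d ∈ Q) (hw : dl (d * u)⁻¹ ∈ Q) :
    dl (u * d * u⁻¹ * d⁻¹) ∈ Q ^ (i + 2) := by
  rw [dl_comm]
  refine mul_coe_mem_pow hQ (i := i + 1) ?_ hw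
  refine Submodule.sub_mem _ ?_ ?_
  · rw [pow_succ Q (i + 1)]
    exact Submodule.mul_mem_mul hu hd
  · rw [pow_succ' Q (i + 1)]
    exact Submodule.mul_mem_mul hd hu

/-- **Normalizers grow**: a proper subgroup `N` of a unipotent subgroup `U` is normalized by some
element of `U` outside `N`. -/
theorem exists_normalizing {U N : Subgroup GL} (hU : ∃ m : ℕ, aug U ^ m = ⊥) (hNU : N ≤ U)
    (hne : N ≠ U) :
    ∃ u ∈ U, u ∉ N ∧ ∀ d ∈ N, u * d * u⁻¹ ∈ N ∧ u⁻¹ * d * u ∈ N := by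
  classical
  obtain ⟨m, hm⟩ := hU
  have hQ := aug_mul_le U
  have hm' : aug U ^ (m + 1) = ⊥ := by rw [pow_succ, hm, Submodule.bot_mul]
  let P : ℕ → Prop := fun i => ∃ u ∈ U, u ∉ N ∧ dl u ∈ aug U ^ (i + 1)
  have hP0 : P 0 := by
    have : ¬ U ≤ N := fun h => hne (le_antisymm hNU h)
    obtain ⟨u, hu, huN⟩ := SetLike.not_le_iff_exists.mp this
    refine ⟨u, hu, huN, ?_⟩
    rw [zero_add, pow_one]
    exact dl_mem_aug hu
  have hPm : ¬ P m := by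
    rintro ⟨u, _, huN, hu'⟩
    rw [hm', Submodule.mem_bot] at hu'
    exact huN (by rw [eq_one_of_dl_eq_zero hu']; exact N.one_mem)
  obtain ⟨i, hi⟩ : ∃ i, i = Nat.findGreatest P m := ⟨_, rfl⟩
  have hPi : P i := by
    rw [hi]
    exact Nat.findGreatest_spec (P := P) (Nat.zero_le m) hP0
  have hile : i ≤ m := by rw [hi]; exact Nat.findGreatest_le m
  have hilt : i < m := lt_of_le_of_ne hile (fun h => hPm (h ▸ hPi))
  have hPi1 : ¬ P (i + 1) := by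
    apply Nat.findGreatest_is_greatest (P := P) (n := m)
    · rw [← hi]; exact Nat.lt_succ_self i
    · exact hilt
  obtain ⟨u, hu, huN, hui⟩ := hPi
  refine ⟨u, hu, huN, fun d hd => ?_⟩
  have hdU := hNU hd
  have hui' : dl u⁻¹ ∈ aug U ^ (i + 1) := dl_inv_mem_pow hQ hui (dl_mem_aug (U.inv_mem hu))
  constructor
  · have hc : u * d * u⁻¹ * d⁻¹ ∈ N := by
      by_contra hcN
      apply hPi1
      refine ⟨_, U.mul_mem (U.mul_mem (U.mul_mem hu hdU) (U.inv_mem hu)) (U.inv_mem hdU), hcN, ?_⟩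
      exact dl_comm_mem_pow hQ hui (dl_mem_aug hdU)
        (dl_mem_aug (U.inv_mem (U.mul_mem hdU hu)))
    have : u * d * u⁻¹ = (u * d * u⁻¹ * d⁻¹) * d := by group
    rw [this]
    exact N.mul_mem hc hd
  · have hc : u⁻¹ * d * u⁻¹⁻¹ * d⁻¹ ∈ N := by
      by_contra hcN
      apply hPi1
      refine ⟨_, U.mul_mem (U.mul_mem (U.mul_mem (U.inv_mem hu) hdU) (U.inv_mem (U.inv_mem hu)))
        (U.inv_mem hdU), hcN, ?_⟩
      exact dl_comm_mem_pow hQ hui' (dl_mem_aug hdU)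
        (dl_mem_aug (U.inv_mem (U.mul_mem hdU (U.inv_mem hu))))
    have : u⁻¹ * d * u = (u⁻¹ * d * u⁻¹⁻¹ * d⁻¹) * d := by group
    rw [this]
    exact N.mul_mem hc hd

end Unip
end Cfsg.Agent.Helper25
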