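import Mathlib
import Cfsg.Prelude.Def_RootSubgroups
import Cfsg.Agent.Lib.Helper25.Unipotent1

/-!
# The product of a unipotent subgroup with a unipotent subgroup normalizing it (helper25)
-/

set_option autoImplicit false

namespace Cfsg.Agent.Helper25
namespace Unip

open Cfsg

variable {k : Type*} [Field k] {M : Type*} [AddCommGroup M] [Module k M]

local notation "GL" => LinearMap.GeneralLinearGroup k M

section Alg

variable {J J' : Submodule k (Module.End k M)}

/-- abstract nilpotency statement -/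
theorem nilpotent_of_ideal (hJ : J * J ≤ J) (hJ' : J' * J' ≤ J') (hsw : J' * J ≤ J ⊔ J * J')
    {m r : ℕ} (hm : J ^ (m + 1) = ⊥) (hr : J' ^ (r + 1) = ⊥) :
    ∃ n : ℕ, ((J ⊔ J * J') ⊔ J') ^ n = ⊥ ∧ ((J ⊔ J * J') ⊔ J') * ((J ⊔ J * J') ⊔ J') ≤ (J ⊔ J * J') ⊔ J' := by
  obtain ⟨K, hK⟩ : ∃ K, K = J ⊔ J * J' := ⟨_, rfl⟩
  rw [← hK]
  -- basic products
  have hJK : J * K ≤ K := by
    rw [hK, Submodule.mul_sup, ← mul_assoc]
    exact sup_le (hJ.trans le_sup_left) ((mul_le_mul' hJ le_rfl).trans le_sup_right)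
  have hKJ' : K * J' ≤ K := by
    rw [hK, Submodule.sup_mul, mul_assoc]
    exact sup_le le_sup_right ((mul_le_mul' le_rfl hJ').trans le_sup_right)
  have hKJ : K * J ≤ K := by
    have h1 : K * J = J * J ⊔ J * (J' * J) := by rw [hK, Submodule.sup_mul, mul_assoc]
    rw [h1]
    refine sup_le (hJ.trans (by rw [hK]; exact le_sup_left)) ?_
    refine (mul_le_mul' le_rfl hsw).trans ?_
    rw [← hK]
    exact hJK
  have hJ'K : J' * K ≤ K := by
    have h1 : J' * K = J' * J ⊔ (J' * J) * J' := by rw [hK, Submodule.mul_sup, mul_assoc]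
    rw [h1]
    have h2 : J' * J ≤ K := by rw [hK]; exact hsw
    exact sup_le h2 ((mul_le_mul' h2 le_rfl).trans hKJ')
  have hKK : K * K ≤ K := by
    have h1 : K * K = K * J ⊔ (K * J) * J' := by
      calc K * K = K * (J ⊔ J * J') := congrArg (fun X => K * X) hK
        _ = K * J ⊔ (K * J) * J' := by rw [Submodule.mul_sup, mul_assoc]
    rw [h1]
    exact sup_le hKJ ((mul_le_mul' hKJ le_rfl).trans hKJ')
  have hPP : (K ⊔ J') * (K ⊔ J') ≤ K ⊔ J' := by
    rw [Submodule.sup_mul, Submodule.mul_sup, Submodule.mul_sup]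
    refine sup_le (sup_le (hKK.trans le_sup_left) (hKJ'.trans le_sup_left))
      (sup_le (hJ'K.trans le_sup_left) (hJ'.trans le_sup_right))
  -- J' * J^i ≤ J^i ⊔ J^i * J'
  have hswi : ∀ i : ℕ, J' * J ^ (i + 1) ≤ J ^ (i + 1) ⊔ J ^ (i + 1) * J' := by
    intro i
    induction i with
    | zero => simpa using hsw
    | succ i ih =>
      have h1 : J' * J ^ (i + 2) = (J' * J) * J ^ (i + 1) := by rw [pow_succ' J (i + 1), mul_assoc]
      rw [h1]
      refine (mul_le_mul' hsw le_rfl).trans ?_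
      rw [Submodule.sup_mul]
      refine sup_le ?_ ?_
      · rw [← pow_succ' J (i + 1)]; exact le_sup_left
      · rw [mul_assoc]
        refine (mul_le_mul' le_rfl ih).trans ?_
        rw [Submodule.mul_sup, ← mul_assoc, ← pow_succ' J (i + 1)]
  -- K * K_i ≤ K_{i+1}
  have hKi : ∀ i : ℕ, K ^ (i + 1) ≤ J ^ (i + 1) ⊔ J ^ (i + 1) * J' := by
    intro i
    induction i with
    | zero => rw [hK]; simp
    | succ i ih =>
      rw [pow_succ' K (i + 1)]
      refine (mul_le_mul' le_rfl ih).trans ?_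
      have hstep : J * (J ^ (i + 1) ⊔ J ^ (i + 1) * J') ≤ J ^ (i + 2) ⊔ J ^ (i + 2) * J' := by
        rw [Submodule.mul_sup, ← mul_assoc, ← pow_succ' J (i + 1)]
      have hstep2 : (J ^ (i + 2) ⊔ J ^ (i + 2) * J') * J' ≤ J ^ (i + 2) ⊔ J ^ (i + 2) * J' := by
        rw [Submodule.sup_mul, mul_assoc]
        exact sup_le le_sup_right ((mul_le_mul' le_rfl hJ').trans le_sup_right)
      have hKdef : K * (J ^ (i + 1) ⊔ J ^ (i + 1) * J') =
          J * (J ^ (i + 1) ⊔ J ^ (i + 1) * J') ⊔ J * (J' * (J ^ (i + 1) ⊔ J ^ (i + 1) * J')) := by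
        conv_lhs => rw [hK]
        rw [Submodule.sup_mul, mul_assoc]
      rw [hKdef]
      refine sup_le hstep ?_
      have h2 : J' * (J ^ (i + 1) ⊔ J ^ (i + 1) * J') ≤ J ^ (i + 1) ⊔ J ^ (i + 1) * J' := by
        rw [Submodule.mul_sup, ← mul_assoc]
        refine sup_le (hswi i) ?_
        refine (mul_le_mul' (hswi i) le_rfl).trans ?_
        rw [Submodule.sup_mul, mul_assoc]
        exact sup_le le_sup_right ((mul_le_mul' le_rfl hJ').trans le_sup_right)
      exact (mul_le_mul' le_rfl h2).trans hstep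
  have hKm : K ^ (m + 1) = ⊥ := by
    rw [eq_bot_iff]
    refine (hKi m).trans ?_
    rw [hm, Submodule.bot_mul, sup_idem]
  -- P^j ≤ K ⊔ J'^j
  have hPj : ∀ j : ℕ, (K ⊔ J') ^ (j + 1) ≤ K ⊔ J' ^ (j + 1) := by
    intro j
    induction j with
    | zero => simp
    | succ j ih =>
      rw [pow_succ (K ⊔ J') (j + 1)]
      refine (mul_le_mul' ih le_rfl).trans ?_
      rw [Submodule.sup_mul, Submodule.mul_sup, Submodule.mul_sup]
      have h3 : J' ^ (j + 1) ≤ J' := by
        have := pow_le_pow_of_le hJ' (m := 1) (n := j + 1) le_rfl (by omega)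
        simpa using this
      refine sup_le (sup_le (hKK.trans le_sup_left) (hKJ'.trans le_sup_left))
        (sup_le (((mul_le_mul' h3 le_rfl).trans hJ'K).trans le_sup_left) ?_)
      rw [← pow_succ J' (j + 1)]
      exact le_sup_right
  have hPr : (K ⊔ J') ^ (r + 1) ≤ K := by
    refine (hPj r).trans ?_
    rw [hr, sup_bot_eq]
  refine ⟨(r + 1) * (m + 1), ?_, hPP⟩
  rw [pow_mul, eq_bot_iff, ← hKm]
  exact pow_le_pow_left' hPr (m + 1)

end Alg

/-- The swap relation `(t - 1)(d - 1) = (d' - 1)(t - 1) + (d' - 1) - (d - 1)` with `d' = t d t⁻¹`. -/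
theorem dl_swap (t d : GL) :
    dl t * dl d = dl (t * d * t⁻¹) * dl t + dl (t * d * t⁻¹) - dl d := by
  have h1 : ((t * d * t⁻¹ : GL) : M →ₗ[k] M) * (t : M →ₗ[k] M) = (t : M →ₗ[k] M) * (d : M →ₗ[k] M) := by
    rw [← coe_mul', ← coe_mul']
    congr 1
    group
  have h2 : dl (t * d * t⁻¹) * dl t + dl (t * d * t⁻¹) - dl d =
      ((t * d * t⁻¹ : GL) : M →ₗ[k] M) * (t : M →ₗ[k] M) - (t : M →ₗ[k] M) - (d : M →ₗ[k] M) + 1 := by
    unfold dl
    noncomm_ring
  rw [h2, h1]
  unfold dl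
  noncomm_ring

/-- `D ⊔ T` is unipotent if `D`, `T` are and `T` normalizes `D`. -/
theorem sup_unipotent {D T : Subgroup GL} (hD : ∃ m : ℕ, aug D ^ m = ⊥) (hT : ∃ r : ℕ, aug T ^ r = ⊥)
    (hnorm : ∀ t ∈ T, ∀ d ∈ D, t * d * t⁻¹ ∈ D) : ∃ n : ℕ, aug (D ⊔ T) ^ n = ⊥ := by
  obtain ⟨m, hm⟩ := hD
  obtain ⟨r, hr⟩ := hT
  have hm' : aug D ^ (m + 1) = ⊥ := by rw [pow_succ, hm, Submodule.bot_mul]
  have hr' : aug T ^ (r + 1) = ⊥ := by rw [pow_succ, hr, Submodule.bot_mul]
  have hsw : aug T * aug D ≤ aug D ⊔ aug D * aug T := by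
    rw [Submodule.mul_le]
    intro x hx y hy
    -- linearity in both arguments
    refine Submodule.span_induction (p := fun x _ => x * y ∈ aug D ⊔ aug D * aug T) ?_ ?_ ?_ ?_ hx
    · rintro x ⟨t, ht, rfl⟩
      refine Submodule.span_induction (p := fun y _ => dl t * y ∈ aug D ⊔ aug D * aug T) ?_ ?_ ?_ ?_ hy
      · rintro y ⟨d, hd, rfl⟩
        rw [dl_swap]
        have hd' := hnorm t ht d hd
        refine Submodule.sub_mem _ (Submodule.add_mem _ ?_ ?_) ?_
        · exact le_sup_right (a := aug D) (Submodule.mul_mem_mul (dl_mem_aug hd') (dl_mem_aug ht))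
        · exact le_sup_left (a := aug D) (dl_mem_aug hd')
        · exact le_sup_left (a := aug D) (dl_mem_aug hd)
      · rw [mul_zero]; exact Submodule.zero_mem _
      · intro a b _ _ ha hb
        rw [mul_add]; exact Submodule.add_mem _ ha hb
      · intro c a _ ha
        rw [mul_smul_comm]; exact Submodule.smul_mem _ c ha
    · rw [zero_mul]; exact Submodule.zero_mem _
    · intro a b _ _ ha hb
      rw [add_mul]; exact Submodule.add_mem _ ha hb
    · intro c a _ ha
      rw [smul_mul_assoc]; exact Submodule.smul_mem _ c ha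
  obtain ⟨n, hn, hPP⟩ := nilpotent_of_ideal (aug_mul_le D) (aug_mul_le T) hsw hm' hr'
  refine ⟨n, ?_⟩
  rw [eq_bot_iff, ← hn]
  apply pow_le_pow_left'
  exact aug_sup_le hPP (le_sup_left.trans le_sup_left) le_sup_right

end Unip
end Cfsg.Agent.Helper25
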