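import Mathlib
import Cfsg.Prelude.Def_RootSubgroups
import Cfsg.Agent.Lib.Helper25.Unipotent2
import Cfsg.Agent.Lib.Helper25.Unipotent3
import Cfsg.Agent.Lib.Helper25.ConjBy

/-!
# A Baer-type theorem for families of pairwise unipotent subgroups of `GL(M)` (helper25)

Alperin–Lyons style argument; the potential is the dimension of the augmentation space.
-/

set_option autoImplicit false

namespace Cfsg.Agent.Helper25
namespace Unip

open Cfsg

variable {k : Type*} [Field k] {M : Type*} [AddCommGroup M] [Module k M]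

local notation "GL" => LinearMap.GeneralLinearGroup k M

/-- unipotent, phrased with the augmentation space -/
def Nil (U : Subgroup GL) : Prop := ∃ n : ℕ, aug U ^ n = ⊥

theorem Nil.mono {U U' : Subgroup GL} (h : U ≤ U') (hu : Nil U') : Nil U := by
  obtain ⟨n, hn⟩ := hu
  refine ⟨n, ?_⟩
  rw [eq_bot_iff, ← hn]
  exact pow_le_pow_left' (aug_mono h) n

theorem aug_sSup_le {s : Set (Subgroup GL)} {Q : Submodule k (Module.End k M)}
    (hQ : Q * Q ≤ Q) (h : ∀ A ∈ s, aug A ≤ Q) : aug (sSup s) ≤ Q := by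
  rw [sSup_eq_iSup']
  exact aug_iSup_le _ hQ (fun A => h A.1 A.2)

variable (Wf : Set (Subgroup (LinearMap.GeneralLinearGroup k M)))

/-- `U` is generated by the members of `Wf` it contains. -/
def IsGen (U : Subgroup GL) : Prop := U ≤ sSup {A | A ∈ Wf ∧ A ≤ U}

/-- unipotent and generated by members -/
def IsU (U : Subgroup GL) : Prop := Nil U ∧ IsGen Wf U

/-- closure: generated by all members whose augmentation space lies in that of `U` -/
def cl (U : Subgroup GL) : Subgroup GL := sSup {A | A ∈ Wf ∧ aug A ≤ aug U}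

def IsMax (R : Subgroup GL) : Prop := IsU Wf R ∧ ∀ U', IsU Wf U' → R ≤ U' → U' ≤ R

variable {Wf}

theorem isGen_of_mem {A : Subgroup GL} (hA : A ∈ Wf) : IsGen Wf A :=
  le_sSup (show A ∈ {B | B ∈ Wf ∧ B ≤ A} from ⟨hA, le_rfl⟩)

theorem isGen_sSup {s : Set (Subgroup GL)} (hs : s ⊆ Wf) : IsGen Wf (sSup s) := by
  apply sSup_le_sSup
  intro A hA
  exact ⟨hs hA, le_sSup hA⟩

theorem isGen_sup {U U' : Subgroup GL} (h : IsGen Wf U) (h' : IsGen Wf U') : IsGen Wf (U ⊔ U') := by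
  unfold IsGen at *
  refine sup_le (h.trans ?_) (h'.trans ?_)
  · apply sSup_le_sSup
    rintro A ⟨hA, hAU⟩
    exact ⟨hA, hAU.trans le_sup_left⟩
  · apply sSup_le_sSup
    rintro A ⟨hA, hAU⟩
    exact ⟨hA, hAU.trans le_sup_right⟩

theorem le_cl {U : Subgroup GL} (h : IsGen Wf U) : U ≤ cl Wf U := by
  refine h.trans ?_
  apply sSup_le_sSup
  rintro A ⟨hA, hAU⟩
  exact ⟨hA, aug_mono hAU⟩

theorem aug_cl {U : Subgroup GL} (h : IsGen Wf U) : aug (cl Wf U) = aug U := by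
  apply le_antisymm
  · exact aug_sSup_le (aug_mul_le U) (fun A hA => hA.2)
  · exact aug_mono (le_cl h)

theorem isU_cl {U : Subgroup GL} (h : IsU Wf U) : IsU Wf (cl Wf U) := by
  refine ⟨?_, ?_⟩
  · obtain ⟨n, hn⟩ := h.1
    exact ⟨n, by rw [aug_cl h.2, hn]⟩
  · exact isGen_sSup (fun A hA => hA.1)

theorem mem_le_cl {U A : Subgroup GL} (hA : A ∈ Wf) (h : aug A ≤ aug U) : A ≤ cl Wf U :=
  le_sSup (show A ∈ {B | B ∈ Wf ∧ aug B ≤ aug U} from ⟨hA, h⟩)

theorem closed_of_max {R : Subgroup GL} (hR : IsMax Wf R) {A : Subgroup GL} (hA : A ∈ Wf)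
    (h : aug A ≤ aug R) : A ≤ R :=
  (mem_le_cl hA h).trans (hR.2 _ (isU_cl hR.1) (le_cl hR.1.2))

theorem exists_max [FiniteDimensional k M] {U₀ : Subgroup GL} (h₀ : IsU Wf U₀) :
    ∃ R, IsMax Wf R ∧ U₀ ≤ R := by
  let s : Set ℕ := {n | ∃ U, IsU Wf U ∧ U₀ ≤ U ∧ Module.finrank k (aug U) = n}
  have hne : s.Nonempty := ⟨_, U₀, h₀, le_rfl, rfl⟩
  have hbdd : BddAbove s := by
    refine ⟨Module.finrank k (Module.End k M), ?_⟩
    rintro n ⟨U, _, _, rfl⟩
    exact Submodule.finrank_le _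
  obtain ⟨U₁, hU₁, h01, hfr⟩ := Nat.sSup_mem hne hbdd
  refine ⟨cl Wf U₁, ⟨isU_cl hU₁, ?_⟩, h01.trans (le_cl hU₁.2)⟩
  intro U' hU' hle
  have h1 : Module.finrank k (aug U') ≤ sSup s :=
    le_csSup hbdd ⟨U', hU', (h01.trans (le_cl hU₁.2)).trans hle, rfl⟩
  have h2 : aug U₁ ≤ aug U' := by
    rw [← aug_cl hU₁.2]; exact aug_mono hle
  have h3 : aug U₁ = aug U' := by
    apply Submodule.eq_of_le_of_finrank_le h2
    rw [hfr]; exact h1
  refine hU'.2.trans ?_
  apply sSup_le_sSup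
  rintro A ⟨hA, hAU⟩
  exact ⟨hA, by rw [h3]; exact aug_mono hAU⟩

/-- a member of `Wf` normalizing `D`, inside `R₁` but not inside `D` -/
theorem exists_normalizing_member {R₁ D : Subgroup GL} (hR₁ : IsU Wf R₁) (hDR : D ≤ R₁)
    (hne : D ≠ R₁) (hD : IsGen Wf D) (hconj : ∀ A ∈ Wf, ∀ u ∈ R₁, Cfsg.conjBy A u ∈ Wf) :
    ∃ A ∈ Wf, A ≤ R₁ ∧ ¬ A ≤ D ∧ ∀ a ∈ A, ∀ d ∈ D, a * d * a⁻¹ ∈ D := by
  by_contra hcon
  push_neg at hcon
  -- (†)
  have hdag : ∀ A ∈ Wf, A ≤ R₁ → (∀ a ∈ A, ∀ d ∈ D, a * d * a⁻¹ ∈ D) → A ≤ D := by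
    intro A hA hAR hn
    by_contra hAD
    obtain ⟨a, ha, d, hd, hnot⟩ := hcon A hA hAR hAD
    exact hnot (hn a ha d hd)
  -- the normalizer of D in R₁
  let N₁ : Subgroup GL :=
    { carrier := {u | u ∈ R₁ ∧ ∀ d, d ∈ D ↔ u * d * u⁻¹ ∈ D}
      mul_mem' := by
        rintro u v ⟨hu, hu'⟩ ⟨hv, hv'⟩
        refine ⟨R₁.mul_mem hu hv, fun d => ?_⟩
        rw [hv' d, hu' (v * d * v⁻¹)]
        have : u * (v * d * v⁻¹) * u⁻¹ = u * v * d * (u * v)⁻¹ := by group
        rw [this]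
      one_mem' := ⟨R₁.one_mem, fun d => by simp⟩
      inv_mem' := by
        rintro u ⟨hu, hu'⟩
        refine ⟨R₁.inv_mem hu, fun d => ?_⟩
        rw [hu' (u⁻¹ * d * u⁻¹⁻¹)]
        have : u * (u⁻¹ * d * u⁻¹⁻¹) * u⁻¹ = d := by group
        rw [this] }
  have hN₁mem : ∀ u, u ∈ N₁ ↔ u ∈ R₁ ∧ ∀ d, d ∈ D ↔ u * d * u⁻¹ ∈ D := fun u => Iff.rfl
  have hN₁R : N₁ ≤ R₁ := fun u hu => ((hN₁mem u).mp hu).1
  have hDN₁ : D ≤ N₁ := by
    intro x hx
    rw [hN₁mem]
    refine ⟨hDR hx, fun d => ⟨fun hd => D.mul_mem (D.mul_mem hx hd) (D.inv_mem hx), fun h => ?_⟩⟩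
    have : d = x⁻¹ * (x * d * x⁻¹) * x := by group
    rw [this]
    exact D.mul_mem (D.mul_mem (D.inv_mem hx) h) hx
  by_cases hN : N₁ = R₁
  · -- everything normalizes D
    apply hne
    apply le_antisymm hDR
    refine hR₁.2.trans (sSup_le ?_)
    rintro A ⟨hA, hAR⟩
    apply hdag A hA hAR
    intro a ha d hd
    have : a ∈ N₁ := by rw [hN]; exact hAR ha
    exact (((hN₁mem a).mp this).2 d).mp hd
  · obtain ⟨u, huR, huN, hu⟩ := exists_normalizing hR₁.1 hN₁R hN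
    -- v normalizing N₁ inside R₁ maps D into D
    have key : ∀ v ∈ R₁, (∀ x ∈ N₁, v * x * v⁻¹ ∈ N₁) → ∀ d ∈ D, v * d * v⁻¹ ∈ D := by
      intro v hv hvN d hd
      have hd' := hD hd
      rw [sSup_eq_iSup'] at hd'
      refine Subgroup.iSup_induction _ (C := fun d => v * d * v⁻¹ ∈ D) hd' ?_ ?_ ?_
      · rintro ⟨A, hA, hAD⟩ a ha
        have hA' : Cfsg.conjBy A v ∈ Wf := hconj A hA v hv
        have hA'R : Cfsg.conjBy A v ≤ R₁ := by
          intro y hy
          rw [mem_conjBy] at hy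
          have : y = v * (v⁻¹ * y * v) * v⁻¹ := by group
          rw [this]
          exact R₁.mul_mem (R₁.mul_mem hv (hDR (hAD hy))) (R₁.inv_mem hv)
        have hA'D : Cfsg.conjBy A v ≤ D := by
          apply hdag _ hA' hA'R
          intro y hy d' hd'
          rw [mem_conjBy] at hy
          have hyN : y ∈ N₁ := by
            have : y = v * (v⁻¹ * y * v) * v⁻¹ := by group
            rw [this]
            exact hvN _ (hDN₁ (hAD hy))
          exact (((hN₁mem y).mp hyN).2 d').mp hd'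
        apply hA'D
        rw [mem_conjBy]
        have : v⁻¹ * (v * a * v⁻¹) * v = a := by group
        rw [this]; exact ha
      · simp
      · intro x y hx hy
        have : v * (x * y) * v⁻¹ = (v * x * v⁻¹) * (v * y * v⁻¹) := by group
        rw [this]; exact D.mul_mem hx hy
    apply huN
    rw [hN₁mem]
    refine ⟨huR, fun d => ⟨fun hd => key u huR (fun x hx => (hu x hx).1) d hd, fun h => ?_⟩⟩
    have h2 := key u⁻¹ (R₁.inv_mem huR) (fun x hx => by
      have := (hu x hx).2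
      rw [inv_inv]; exact this) _ h
    have : u⁻¹ * (u * d * u⁻¹) * u⁻¹⁻¹ = d := by group
    rw [this] at h2
    exact h2

end Unip
end Cfsg.Agent.Helper25
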