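import Mathlib
import Cfsg.Prelude.Def_RootSubgroups
import Cfsg.Agent.Lib.Helper25.Unipotent4
import Cfsg.Agent.Lib.Helper25.FusionNormal

/-!
# A Baer-type theorem for families of pairwise unipotent subgroups of `GL(M)`: main argument
(helper25)
-/

set_option autoImplicit false

namespace Cfsg.Agent.Helper25
namespace Unip

open Cfsg

variable {k : Type*} [Field k] {M : Type*} [AddCommGroup M] [Module k M]

local notation "GL" => LinearMap.GeneralLinearGroup k M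

variable {Wf : Set (Subgroup (LinearMap.GeneralLinearGroup k M))}

/-- the subgroup generated by the members inside both `R₁` and `R₂` -/
def pairD (Wf : Set (Subgroup (LinearMap.GeneralLinearGroup k M))) (R₁ R₂ : Subgroup GL) :
    Subgroup GL := sSup {A | A ∈ Wf ∧ A ≤ R₁ ∧ A ≤ R₂}

theorem strict_finrank [FiniteDimensional k M] {D D' A R : Subgroup GL} (hDD' : D ≤ D')
    (hAD' : A ≤ D') (hDR : D ≤ R) (hR : IsMax Wf R) (hA : A ∈ Wf) (hcontra : ¬ A ≤ R) :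
    Module.finrank k (aug D) < Module.finrank k (aug D') := by
  have h1 : aug D ≤ aug D' := aug_mono hDD'
  rcases (Submodule.finrank_mono h1).lt_or_eq with h | h
  · exact h
  · exfalso
    have h2 : aug D = aug D' := Submodule.eq_of_le_of_finrank_eq h1 h
    apply hcontra
    apply closed_of_max hR hA
    calc aug A ≤ aug D' := aug_mono hAD'
      _ = aug D := h2.symm
      _ ≤ aug R := aug_mono hDR

theorem nil_bot : Nil (⊥ : Subgroup GL) := by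
  refine ⟨1, ?_⟩
  rw [pow_one, eq_bot_iff, aug_le_iff]
  intro g hg
  rw [Subgroup.mem_bot] at hg
  rw [hg, dl_one]
  exact Submodule.zero_mem _

section

variable [FiniteDimensional k M] (hWW : ∀ A ∈ Wf, ∀ B ∈ Wf, Nil (A ⊔ B))
  {G : Subgroup (LinearMap.GeneralLinearGroup k M)} (hWG : ∀ A ∈ Wf, A ≤ G) (hWconj : ∀ A ∈ Wf, ∀ g ∈ G, Cfsg.conjBy A g ∈ Wf)
include hWW hWG hWconj

theorem step {R₁ R₂ : Subgroup GL} (h₁ : IsMax Wf R₁) (h₂ : IsMax Wf R₂) (hne : R₁ ≠ R₂) :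
    ∃ R₁' R₂', IsMax Wf R₁' ∧ IsMax Wf R₂' ∧ R₁' ≠ R₂' ∧
      Module.finrank k (aug (pairD Wf R₁ R₂)) < Module.finrank k (aug (pairD Wf R₁' R₂')) := by
  obtain ⟨D, hDdef⟩ : ∃ D, D = pairD Wf R₁ R₂ := ⟨_, rfl⟩
  rw [← hDdef]
  have hD1 : D ≤ R₁ := by
    rw [hDdef]; exact sSup_le (fun A hA => hA.2.1)
  have hD2 : D ≤ R₂ := by
    rw [hDdef]; exact sSup_le (fun A hA => hA.2.2)
  have hDgen : IsGen Wf D := by
    rw [hDdef]; exact isGen_sSup (fun A hA => hA.1)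
  have hmemD : ∀ A ∈ Wf, A ≤ R₁ → A ≤ R₂ → A ≤ D := by
    intro A hA h1 h2
    rw [hDdef]
    exact le_sSup (show A ∈ {A | A ∈ Wf ∧ A ≤ R₁ ∧ A ≤ R₂} from ⟨hA, h1, h2⟩)
  have hDR₁ : D ≠ R₁ := by
    intro h
    apply hne
    have hle : R₁ ≤ R₂ := h ▸ hD2
    exact le_antisymm hle (h₁.2 R₂ h₂.1 hle)
  have hDR₂ : D ≠ R₂ := by
    intro h
    apply hne
    have hle : R₂ ≤ R₁ := h ▸ hD1
    exact le_antisymm (h₂.2 R₁ h₁.1 hle) hle
  have hleG : ∀ {U : Subgroup GL}, IsGen Wf U → U ≤ G := fun hU =>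
    hU.trans (sSup_le (fun A hA => hWG A hA.1))
  obtain ⟨A₁, hA₁, hA₁R, hA₁D, hA₁n⟩ := exists_normalizing_member h₁.1 hD1 hDR₁ hDgen
    (fun A hA u hu => hWconj A hA u (hleG h₁.1.2 hu))
  obtain ⟨A₂, hA₂, hA₂R, hA₂D, hA₂n⟩ := exists_normalizing_member h₂.1 hD2 hDR₂ hDgen
    (fun A hA u hu => hWconj A hA u (hleG h₂.1.2 hu))
  have hT : Nil (A₁ ⊔ A₂) := hWW A₁ hA₁ A₂ hA₂
  have hTn : ∀ t ∈ A₁ ⊔ A₂, ∀ d ∈ D, t * d * t⁻¹ ∈ D := by
    intro t ht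
    refine sup_induction (Q := A₁) (R := A₂) (C := fun t => ∀ d ∈ D, t * d * t⁻¹ ∈ D)
      hA₁n hA₂n ?_ ht
    intro x y _ _ hx hy d hd
    have : x * y * d * (x * y)⁻¹ = x * (y * d * y⁻¹) * x⁻¹ := by group
    rw [this]
    exact hx _ (hy d hd)
  have hU₃ : IsU Wf (D ⊔ (A₁ ⊔ A₂)) :=
    ⟨sup_unipotent (Nil.mono hD1 h₁.1.1) hT hTn,
      isGen_sup hDgen (isGen_sup (isGen_of_mem hA₁) (isGen_of_mem hA₂))⟩
  obtain ⟨R₃, hR₃, hU₃R₃⟩ := exists_max hU₃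
  have hDR₃ : D ≤ R₃ := le_sup_left.trans hU₃R₃
  have hA₁R₃ : A₁ ≤ R₃ := (le_sup_left.trans le_sup_right).trans hU₃R₃
  have hA₂R₃ : A₂ ≤ R₃ := (le_sup_right.trans le_sup_right).trans hU₃R₃
  by_cases h31 : R₃ = R₁
  · refine ⟨R₂, R₃, h₂, hR₃, fun h => hne (h31 ▸ h.symm), ?_⟩
    have hDD' : D ≤ pairD Wf R₂ R₃ := by
      rw [hDdef]
      apply sSup_le_sSup
      rintro A ⟨hA, hA1, hA2⟩
      exact ⟨hA, hA2, (hmemD A hA hA1 hA2).trans hDR₃⟩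
    have hAD' : A₂ ≤ pairD Wf R₂ R₃ :=
      le_sSup (show A₂ ∈ {A | A ∈ Wf ∧ A ≤ R₂ ∧ A ≤ R₃} from ⟨hA₂, hA₂R, hA₂R₃⟩)
    exact strict_finrank hDD' hAD' hD1 h₁ hA₂ (fun h => hA₂D (hmemD A₂ hA₂ h hA₂R))
  · refine ⟨R₁, R₃, h₁, hR₃, fun h => h31 h.symm, ?_⟩
    have hDD' : D ≤ pairD Wf R₁ R₃ := by
      rw [hDdef]
      apply sSup_le_sSup
      rintro A ⟨hA, hA1, hA2⟩
      exact ⟨hA, hA1, (hmemD A hA hA1 hA2).trans hDR₃⟩
    have hAD' : A₁ ≤ pairD Wf R₁ R₃ :=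
      le_sSup (show A₁ ∈ {A | A ∈ Wf ∧ A ≤ R₁ ∧ A ≤ R₃} from ⟨hA₁, hA₁R, hA₁R₃⟩)
    exact strict_finrank hDD' hAD' hD2 h₂ hA₁ (fun h => hA₁D (hmemD A₁ hA₁ hA₁R h))

theorem no_two_max {R₁ R₂ : Subgroup GL} (h₁ : IsMax Wf R₁) (h₂ : IsMax Wf R₂) : R₁ = R₂ := by
  by_contra hne
  have key : ∀ n : ℕ, ∀ R₁ R₂ : Subgroup GL, IsMax Wf R₁ → IsMax Wf R₂ → R₁ ≠ R₂ →
      Module.finrank k (Module.End k M) - Module.finrank k (aug (pairD Wf R₁ R₂)) = n → False := by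
    intro n
    induction n using Nat.strong_induction_on with
    | _ n ih =>
      intro R₁ R₂ h₁ h₂ hne hn
      obtain ⟨R₁', R₂', h₁', h₂', hne', hlt⟩ := step hWW hWG hWconj h₁ h₂ hne
      have hb : Module.finrank k (aug (pairD Wf R₁' R₂')) ≤ Module.finrank k (Module.End k M) :=
        Submodule.finrank_le _
      exact ih _ (by omega) R₁' R₂' h₁' h₂' hne' rfl
  exact key _ R₁ R₂ h₁ h₂ hne rfl

theorem main : Nil (⨆ A ∈ Wf, A) := by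
  by_cases hne : Wf.Nonempty
  · obtain ⟨A₀, hA₀⟩ := hne
    have hU₀ : IsU Wf A₀ := ⟨by have := hWW A₀ hA₀ A₀ hA₀; rwa [sup_idem] at this, isGen_of_mem hA₀⟩
    obtain ⟨R₁, hR₁, _⟩ := exists_max hU₀
    refine Nil.mono ?_ hR₁.1.1
    apply iSup₂_le
    intro B hB
    have hUB : IsU Wf B := ⟨by have := hWW B hB B hB; rwa [sup_idem] at this, isGen_of_mem hB⟩
    obtain ⟨R₂, hR₂, hBR₂⟩ := exists_max hUB
    rw [no_two_max hWW hWG hWconj hR₁ hR₂]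
    exact hBR₂
  · rw [Set.not_nonempty_iff_eq_empty] at hne
    have : (⨆ A ∈ Wf, A) = (⊥ : Subgroup GL) := by
      rw [eq_bot_iff]
      apply iSup₂_le
      intro A hA
      rw [hne] at hA
      exact absurd hA (Set.notMem_empty A)
    rw [this]
    exact nil_bot

end

end Unip
end Cfsg.Agent.Helper25
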