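import Mathlib
import Cfsg.Agent.Lib.Helper25.InvOdd2

/-!
# An involution normalizing a Sylow 3-subgroup (helper25)

`exists_sylow_three_inv`: `Q ≤ R` normal in `G`, `Q` a `2`-group, `R/Q` a `3`-group,
`G = R ∪ dR` for an involution `d`, and every `R`-conjugate of `d` in `Qd` is a `Q`-conjugate
of `d`.  Then `d` normalizes a Sylow `3`-subgroup of `G`.
-/

set_option autoImplicit false

namespace Cfsg.Agent.Helper25.InvOdd

open scoped Pointwise

/-- Sylow conjugation, expressed with cardinalities. -/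
theorem exists_conj_mem_of_card {G : Type*} [Group G] [Finite G] {p : ℕ} [Fact p.Prime]
    {L P : Subgroup G} (hPL : P ≤ L) (hcard : Nat.card P = p ^ (Nat.card L).factorization p)
    {x : G} (hxL : x ∈ L) (hx : IsPGroup p (Subgroup.zpowers x)) :
    ∃ l ∈ L, l⁻¹ * x * l ∈ P := by
  have hcard' : Nat.card (P.subgroupOf L) = p ^ (Nat.card L).factorization p := by
    rw [← hcard]; exact Nat.card_congr (Subgroup.subgroupOfEquivOfLe hPL).toEquiv
  set P₀ : Sylow p L := Sylow.ofCard (P.subgroupOf L) hcard' with hP₀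
  have hX : IsPGroup p (Subgroup.zpowers (⟨x, hxL⟩ : L)) := by
    apply (hx.comap_subtype (K := L)).to_le
    rw [Subgroup.zpowers_le]
    show (⟨x, hxL⟩ : L) ∈ (Subgroup.zpowers x).comap L.subtype
    rw [Subgroup.mem_comap]
    exact Subgroup.mem_zpowers x
  obtain ⟨S, hS⟩ := hX.exists_le_sylow
  obtain ⟨g, hg⟩ := MulAction.exists_smul_eq L S P₀
  have hxS : (⟨x, hxL⟩ : L) ∈ (S : Subgroup L) := hS (Subgroup.mem_zpowers _)
  have h1 : MulAut.conj g • (⟨x, hxL⟩ : L) ∈ MulAut.conj g • (S : Subgroup L) :=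
    Subgroup.smul_mem_pointwise_smul _ _ _ hxS
  have h2 : (MulAut.conj g • (S : Subgroup L)) = ((g • S : Sylow p L) : Subgroup L) := rfl
  rw [h2, hg] at h1
  have h3 : MulAut.conj g • (⟨x, hxL⟩ : L) = g * ⟨x, hxL⟩ * g⁻¹ := rfl
  rw [h3, hP₀, Sylow.coe_ofCard, Subgroup.mem_subgroupOf] at h1
  refine ⟨(g⁻¹ : L), (g⁻¹ : L).2, ?_⟩
  simpa using h1

/-- a `p`-subgroup which is not of Sylow order is normalized by a `p`-element outside it. -/
theorem exists_normalizing_not_mem {G : Type*} [Group G] [Finite G] {p : ℕ} [Fact p.Prime]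
    {P : Subgroup G} (hP : IsPGroup p P)
    (hnot : Nat.card P ≠ p ^ (Nat.card G).factorization p) :
    ∃ y ∈ Subgroup.normalizer (P : Set G), y ∉ P ∧ ∃ s : ℕ, y ^ p ^ s = 1 := by
  have hpp : p.Prime := Fact.out
  obtain ⟨n, hn⟩ := IsPGroup.iff_card.mp hP
  have hGpos : Nat.card G ≠ 0 := Nat.card_pos.ne'
  have hdvd : p ^ n ∣ Nat.card G := hn ▸ Subgroup.card_subgroup_dvd_card P
  have hnle : n ≤ (Nat.card G).factorization p :=
    (Nat.Prime.pow_dvd_iff_le_factorization hpp hGpos).mp hdvd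
  have hlt : n < (Nat.card G).factorization p := by
    rcases hnle.eq_or_lt with h | h
    · exact absurd (by rw [hn, h]) hnot
    · exact h
  have h1 : p ^ (n + 1) ∣ Nat.card G :=
    (Nat.Prime.pow_dvd_iff_le_factorization hpp hGpos).mpr hlt
  have hmod := Sylow.card_normalizer_modEq_card (G := G) hn
  have h2 : p ^ (n + 1) ∣ Nat.card (Subgroup.normalizer (P : Set G)) :=
    (Nat.modEq_zero_iff_dvd.mp (hmod.trans (Nat.modEq_zero_iff_dvd.mpr h1)))
  set H : Subgroup G := Subgroup.normalizer (P : Set G) with hH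
  obtain ⟨S₀⟩ : Nonempty (Sylow p H) := inferInstance
  set S₁ : Subgroup G := (S₀ : Subgroup H).map H.subtype with hS₁
  have hS₁H : S₁ ≤ H := by rintro _ ⟨x, -, rfl⟩; exact x.2
  have hS₁p : IsPGroup p S₁ := S₀.isPGroup'.map _
  have hS₁c : Nat.card S₁ = p ^ (Nat.card H).factorization p := by
    rw [hS₁, Subgroup.card_map_of_injective H.subtype_injective]
    exact S₀.card_eq_multiplicity
  have hPS₁ : P ≤ S₁ := le_of_card_sylow Subgroup.le_normalizer hP le_rfl hS₁H hS₁p hS₁c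
  have hHpos : Nat.card H ≠ 0 := Nat.card_pos.ne'
  have hlt2 : n + 1 ≤ (Nat.card H).factorization p :=
    (Nat.Prime.pow_dvd_iff_le_factorization hpp hHpos).mp h2
  have hcardlt : Nat.card P < Nat.card S₁ := by
    rw [hn, hS₁c]
    exact Nat.pow_lt_pow_right hpp.one_lt hlt2
  have hex : ∃ y ∈ S₁, y ∉ P := by
    by_contra hcon
    push Not at hcon
    have : S₁ ≤ P := hcon
    exact absurd (Subgroup.card_le_of_le this) (by omega)
  obtain ⟨y, hyS, hyP⟩ := hex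
  obtain ⟨s, hs⟩ := hS₁p ⟨y, hyS⟩
  refine ⟨y, hS₁H hyS, hyP, s, ?_⟩
  have := congrArg Subtype.val hs
  simpa using this

/-- Bezout: if `x ^ a ∈ M` and `x ^ b ∈ M` with `a`, `b` coprime then `x ∈ M`. -/
theorem mem_of_pow_mem_of_coprime {G : Type*} [Group G] {M : Subgroup G} {x : G} {a b : ℕ}
    (hab : Nat.Coprime a b) (ha : x ^ a ∈ M) (hb : x ^ b ∈ M) : x ∈ M := by
  have hc : IsCoprime (a : ℤ) (b : ℤ) := Nat.isCoprime_iff_coprime.mpr hab
  obtain ⟨u, v, huv⟩ := hc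
  have : x = (x ^ a) ^ u * (x ^ b) ^ v := by
    rw [← zpow_natCast x a, ← zpow_natCast x b, ← zpow_mul, ← zpow_mul, ← zpow_add,
      mul_comm (a : ℤ) u, mul_comm (b : ℤ) v, huv, zpow_one]
  rw [this]
  exact M.mul_mem (M.zpow_mem ha u) (M.zpow_mem hb v)

/-- the `3`-part: if `x ^ 3 ^ s` lies in the `2`-group `Q`, some power `x ^ 2 ^ e` is a
`3`-element, and `x` lies in every subgroup containing `Q` and `x ^ 2 ^ e`. -/
theorem exists_three_part {G : Type*} [Group G] {Q : Subgroup G} (hQ2 : IsPGroup 2 Q) {x : G}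
    {s : ℕ} (hx : x ^ 3 ^ s ∈ Q) :
    ∃ e : ℕ, (x ^ 2 ^ e) ^ 3 ^ s = 1 ∧
      ∀ M : Subgroup G, Q ≤ M → x ^ 2 ^ e ∈ M → x ∈ M := by
  obtain ⟨e, he⟩ := hQ2 ⟨_, hx⟩
  have he' : (x ^ 3 ^ s) ^ 2 ^ e = 1 := by
    have := congrArg Subtype.val he
    simpa using this
  refine ⟨e, ?_, fun M hQM hM => ?_⟩
  · rw [← pow_mul, mul_comm, pow_mul]; exact he'
  · apply mem_of_pow_mem_of_coprime (a := 2 ^ e) (b := 3 ^ s) _ hM (hQM hx)
    exact Nat.Coprime.pow _ _ (by norm_num)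

theorem isPGroup_zpowers_of_pow {G : Type*} [Group G] {p : ℕ} {x : G} {s : ℕ}
    (hx : x ^ p ^ s = 1) : IsPGroup p (Subgroup.zpowers x) := by
  rintro ⟨y, hy⟩
  obtain ⟨k, rfl⟩ := Subgroup.mem_zpowers_iff.mp hy
  refine ⟨s, ?_⟩
  apply Subtype.ext
  show (x ^ k) ^ p ^ s = 1
  rw [← zpow_natCast, ← zpow_mul, mul_comm, zpow_mul, zpow_natCast, hx, one_zpow]

end Cfsg.Agent.Helper25.InvOdd
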