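import Mathlib
import Cfsg.Agent.Lib.Helper25.WQuot2

/-!
# An involution normalizing a Sylow 3-subgroup, main theorem (helper25)
-/

set_option autoImplicit false

namespace Cfsg.Agent.Helper25.InvOdd

open Subgroup in
theorem exists_sylow_three_inv {G : Type*} [Group G] [Finite G] (Q R : Subgroup G)
    [hQn : Q.Normal] [hRn : R.Normal] (hQ2 : IsPGroup 2 Q) (hQR : Q ≤ R)
    (hR3 : ∀ g ∈ R, ∃ s : ℕ, g ^ 3 ^ s ∈ Q) {d : G} (hd : d * d = 1)
    (hGR : ∀ g : G, g ∈ R ∨ d * g ∈ R)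
    (hV : ∀ c ∈ R, c * d * c⁻¹ * d⁻¹ ∈ Q → ∃ u ∈ Q, c * d * c⁻¹ = u * d * u⁻¹) :
    ∃ P : Sylow 3 G, ∀ x ∈ P, d * x * d⁻¹ ∈ P := by
  classical
  haveI : Fact (Nat.Prime 3) := ⟨Nat.prime_three⟩
  have hdi : d⁻¹ = d := inv_eq_of_mul_eq_one_right hd
  -- 3-elements lie in `R`
  have h3R : ∀ y : G, (∃ s : ℕ, y ^ 3 ^ s = 1) → y ∈ R := by
    rintro y ⟨s, hs⟩
    rcases hGR y with h | h
    · exact h
    · have hy : y = d * (d * y) := by rw [← mul_assoc, hd, one_mul]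
      have hy2 : y ^ 2 ∈ R := by
        have : y ^ 2 = (d * (d * y) * d⁻¹) * (d * y) := by
          rw [pow_two, hdi]
          calc y * y = (d * d) * y * ((d * d) * y) := by rw [hd, one_mul]
            _ = d * (d * y) * d * (d * y) := by group
        rw [this]; exact R.mul_mem (hRn.conj_mem _ h d) h
      obtain ⟨j', hj'⟩ : Odd (3 ^ s) := Odd.pow (by decide)
      have : y = (y ^ 2) ^ (j' + 1) := by
        rw [← pow_mul, show 2 * (j' + 1) = 3 ^ s + 1 by omega, pow_succ, hs, one_mul]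
      rw [this]; exact R.pow_mem hy2 _
  -- a Sylow 3-subgroup of the centralizer of `d`
  set H : Subgroup G := Subgroup.centralizer {d} with hH
  obtain ⟨S₀⟩ : Nonempty (Sylow 3 H) := inferInstance
  set Pd : Subgroup G := (S₀ : Subgroup H).map H.subtype with hPd
  have hPdH : Pd ≤ H := by rintro _ ⟨x, -, rfl⟩; exact x.2
  have hPdp : IsPGroup 3 Pd := S₀.isPGroup'.map _
  have hPdc : Nat.card Pd = 3 ^ (Nat.card H).factorization 3 := by
    rw [hPd, Subgroup.card_map_of_injective H.subtype_injective]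
    exact S₀.card_eq_multiplicity
  have hHmem : ∀ x, x ∈ H ↔ d * x = x * d := by
    intro x; rw [hH, Subgroup.mem_centralizer_iff]; simp
  have hPdinv : ∀ x ∈ Pd, d * x * d⁻¹ = x := by
    intro x hx
    have := (hHmem x).mp (hPdH hx)
    rw [this]; group
  -- a maximal invariant 3-subgroup
  set PP : Set (Subgroup G) := {P | IsPGroup 3 P ∧ Pd ≤ P ∧ ∀ x ∈ P, d * x * d⁻¹ ∈ P} with hPP
  have hPPne : PP.Nonempty := ⟨Pd, hPdp, le_rfl, fun x hx => by rw [hPdinv x hx]; exact hx⟩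
  obtain ⟨P₁, ⟨hP₁p, hPdP₁, hP₁inv⟩, hmax⟩ :=
    Set.Finite.exists_maximalFor (fun P : Subgroup G => Nat.card P) PP (Set.toFinite _) hPPne
  have hcard : Nat.card P₁ = 3 ^ (Nat.card G).factorization 3 := by
    by_contra hnot
    obtain ⟨y, hyN, hyP, s, hys⟩ := exists_normalizing_not_mem hP₁p hnot
    have hyR : y ∈ R := h3R y ⟨s, hys⟩
    have hP₁R : P₁ ≤ R := by
      intro x hx
      obtain ⟨a, ha⟩ := hP₁p ⟨x, hx⟩
      refine h3R x ⟨a, ?_⟩
      have := congrArg Subtype.val ha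
      simpa using this
    have hdN : d ∈ Subgroup.normalizer (P₁ : Set G) := by
      rw [Subgroup.mem_normalizer_iff]; intro x; exact (conj_mem_iff hd hP₁inv x).symm
    obtain ⟨N, hNdef⟩ : ∃ N : Subgroup G, N = Subgroup.normalizer (P₁ : Set G) := ⟨_, rfl⟩
    rw [← hNdef] at hyN hdN
    obtain ⟨m, hm⟩ : ∃ m : G, m = y * d * y⁻¹ * d⁻¹ := ⟨_, rfl⟩
    have hmN : m ∈ N := by
      rw [hm]
      exact N.mul_mem (N.mul_mem (N.mul_mem hyN hdN) (N.inv_mem hyN)) (N.inv_mem hdN)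
    have hmR : m ∈ R := by
      have : m = y * (d * y⁻¹ * d⁻¹) := by rw [hm]; group
      rw [this]; exact R.mul_mem hyR (hRn.conj_mem _ (R.inv_mem hyR) d)
    have hminv : d * m * d⁻¹ = m⁻¹ := by
      rw [hm]
      have e1 : d * (y * d * y⁻¹ * d⁻¹) * d⁻¹ = d * y * d * y⁻¹ * (d * d)⁻¹ := by group
      have e2 : (y * d * y⁻¹ * d⁻¹)⁻¹ = d * y * d⁻¹ * y⁻¹ := by group
      rw [e1, e2, hd, hdi]; simp
    obtain ⟨s', hs'⟩ := hR3 m hmR
    obtain ⟨e, he3, heM⟩ := exists_three_part hQ2 hs'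
    obtain ⟨m₃, hm₃⟩ : ∃ m₃ : G, m₃ = m ^ 2 ^ e := ⟨_, rfl⟩
    rw [← hm₃] at he3 heM
    have hm₃p : IsPGroup 3 (Subgroup.zpowers m₃) := isPGroup_zpowers_of_pow he3
    have hm₃N : m₃ ∈ N := by rw [hm₃]; exact N.pow_mem hmN _
    have hm₃inv : d * m₃ * d⁻¹ = m₃⁻¹ := by rw [hm₃, ← conj_pow, hminv, inv_pow]
    -- the enlarged subgroup
    have hP₂p : IsPGroup 3 (P₁ ⊔ Subgroup.zpowers m₃ : Subgroup G) :=
      IsPGroup.to_sup_of_normal_left' hP₁p hm₃p
        (by rw [Subgroup.zpowers_le, ← hNdef]; exact hm₃N)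
    have hP₂inv : ∀ x ∈ (P₁ ⊔ Subgroup.zpowers m₃ : Subgroup G),
        d * x * d⁻¹ ∈ (P₁ ⊔ Subgroup.zpowers m₃ : Subgroup G) := by
      have : (P₁ ⊔ Subgroup.zpowers m₃ : Subgroup G) ≤
          (P₁ ⊔ Subgroup.zpowers m₃ : Subgroup G).comap (MulAut.conj d).toMonoidHom := by
        apply sup_le
        · intro x hx
          rw [Subgroup.mem_comap]
          exact Subgroup.mem_sup_left (hP₁inv x hx)
        · rw [Subgroup.zpowers_le, Subgroup.mem_comap]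
          show d * m₃ * d⁻¹ ∈ _
          rw [hm₃inv]
          exact Subgroup.mem_sup_right (Subgroup.inv_mem _ (Subgroup.mem_zpowers _))
      intro x hx; exact this hx
    have hP₂mem : (P₁ ⊔ Subgroup.zpowers m₃ : Subgroup G) ∈ PP :=
      ⟨hP₂p, hPdP₁.trans le_sup_left, hP₂inv⟩
    have hP₂le : Nat.card (P₁ ⊔ Subgroup.zpowers m₃ : Subgroup G) ≤ Nat.card P₁ :=
      hmax hP₂mem (Subgroup.card_le_of_le le_sup_left)
    have hP₂eq : P₁ = P₁ ⊔ Subgroup.zpowers m₃ := Subgroup.eq_of_le_of_card_ge le_sup_left hP₂le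
    have hm₃P₁ : m₃ ∈ P₁ := by
      rw [hP₂eq]; exact Subgroup.mem_sup_right (Subgroup.mem_zpowers _)
    -- `m ∈ Q P₁`
    obtain ⟨R₁, hR₁⟩ : ∃ R₁ : Subgroup G, R₁ = Q ⊔ P₁ := ⟨_, rfl⟩
    have hQR₁ : Q ≤ R₁ := hR₁ ▸ le_sup_left
    have hP₁R₁ : P₁ ≤ R₁ := hR₁ ▸ le_sup_right
    have hR₁R : R₁ ≤ R := hR₁ ▸ sup_le hQR hP₁R
    have hmR₁ : m ∈ R₁ := heM R₁ hQR₁ (hP₁R₁ hm₃P₁)
    -- the square root `k`
    obtain ⟨j', hj'⟩ : Odd (3 ^ s') := Odd.pow (by decide)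
    obtain ⟨k, hk⟩ : ∃ k : G, k = m ^ (j' + 1) := ⟨_, rfl⟩
    have hkR₁ : k ∈ R₁ := by rw [hk]; exact R₁.pow_mem hmR₁ _
    have hkinv : d * k * d⁻¹ = k⁻¹ := by rw [hk, ← conj_pow, hminv, inv_pow]
    obtain ⟨q₀, hq₀⟩ : ∃ q₀ : G, q₀ = m ^ 3 ^ s' := ⟨_, rfl⟩
    have hq₀Q : q₀ ∈ Q := hq₀ ▸ hs'
    have hkk : k * k = m * q₀ := by
      rw [hk, hq₀, ← pow_add, show j' + 1 + (j' + 1) = 3 ^ s' + 1 by omega, pow_succ']
    have hcomm_km : Commute k m := by rw [hk]; exact (Commute.refl m).pow_left _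
    have hcomm_qm : Commute q₀ m := by rw [hq₀]; exact (Commute.refl m).pow_left _
    obtain ⟨c, hc⟩ : ∃ c : G, c = k⁻¹ * y := ⟨_, rfl⟩
    have hcR : c ∈ R := by
      rw [hc]; exact R.mul_mem (R.inv_mem (hR₁R hkR₁)) hyR
    have hcd : c * d * c⁻¹ * d⁻¹ = q₀⁻¹ := by
      have e1 : c * d * c⁻¹ * d⁻¹ = k⁻¹ * m * (d * k * d⁻¹) := by rw [hc, hm]; group
      rw [e1, hkinv]
      calc k⁻¹ * m * k⁻¹ = m * k⁻¹ * k⁻¹ := by rw [hcomm_km.inv_left.eq]
        _ = m * (k * k)⁻¹ := by rw [mul_inv_rev, mul_assoc]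
        _ = m * (q₀⁻¹ * m⁻¹) := by rw [hkk, mul_inv_rev]
        _ = (m * q₀⁻¹) * m⁻¹ := by rw [mul_assoc]
        _ = (q₀⁻¹ * m) * m⁻¹ := by rw [hcomm_qm.inv_left.eq]
        _ = q₀⁻¹ := by rw [mul_assoc, mul_inv_cancel, mul_one]
    obtain ⟨u, huQ, hu⟩ := hV c hcR (by rw [hcd]; exact Q.inv_mem hq₀Q)
    obtain ⟨h, hh⟩ : ∃ h : G, h = u⁻¹ * c := ⟨_, rfl⟩
    have hhH : h ∈ H := by
      rw [hHmem]
      have e1 : h * d * h⁻¹ = d := by
        rw [hh]
        calc u⁻¹ * c * d * (u⁻¹ * c)⁻¹ = u⁻¹ * (c * d * c⁻¹) * u := by group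
          _ = d := by rw [hu]; group
      calc d * h = (h * d * h⁻¹) * h := by rw [e1]
        _ = h * d := by group
    have hy_eq : y = k * u * h := by rw [hh, hc]; group
    have hhR : h ∈ R := by
      rw [hh]; exact R.mul_mem (R.inv_mem (hQR huQ)) hcR
    -- normalizer of `R₁`
    have hNR₁ : ∀ g ∈ N, g ∈ Subgroup.normalizer (R₁ : Set G) := by
      have key : ∀ g ∈ N, R₁ ≤ R₁.comap (MulAut.conj g).toMonoidHom := by
        intro g hg
        rw [hR₁]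
        apply sup_le
        · intro x hx
          rw [Subgroup.mem_comap]
          exact Subgroup.mem_sup_left (hQn.conj_mem x hx g)
        · intro x hx
          rw [Subgroup.mem_comap]
          rw [hNdef, Subgroup.mem_normalizer_iff] at hg
          exact Subgroup.mem_sup_right ((hg x).mp hx)
      intro g hg
      rw [Subgroup.mem_normalizer_iff]
      intro x
      constructor
      · intro hx; exact key g hg hx
      · intro hx
        have := key g⁻¹ (N.inv_mem hg) hx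
        rw [Subgroup.mem_comap] at this
        have e : (MulAut.conj g⁻¹).toMonoidHom (g * x * g⁻¹) = x := by
          show g⁻¹ * (g * x * g⁻¹) * g⁻¹⁻¹ = x
          group
        rwa [e] at this
    have hhNR₁ : h ∈ Subgroup.normalizer (R₁ : Set G) := by
      have : h = (k * u)⁻¹ * y := by rw [hy_eq]; group
      rw [this]
      exact Subgroup.mul_mem _
        (Subgroup.inv_mem _ (Subgroup.le_normalizer (R₁.mul_mem hkR₁ (hQR₁ huQ)))) (hNR₁ y hyN)
    -- the 3-part of `h`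
    obtain ⟨s'', hs''⟩ := hR3 h hhR
    obtain ⟨e', he'3, he'M⟩ := exists_three_part hQ2 hs''
    obtain ⟨h₃, hh₃⟩ : ∃ h₃ : G, h₃ = h ^ 2 ^ e' := ⟨_, rfl⟩
    rw [← hh₃] at he'3 he'M
    obtain ⟨L, hL⟩ : ∃ L : Subgroup G, L = H ⊓ Subgroup.normalizer (R₁ : Set G) := ⟨_, rfl⟩
    have hh₃L : h₃ ∈ L := by
      rw [hh₃]; apply L.pow_mem; rw [hL]; exact ⟨hhH, hhNR₁⟩
    have hPdL : Pd ≤ L := by
      rw [hL]
      exact le_inf hPdH ((hPdP₁.trans hP₁R₁).trans Subgroup.le_normalizer)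
    have hLH : L ≤ H := by rw [hL]; exact inf_le_left
    have hPdcL : Nat.card Pd = 3 ^ (Nat.card L).factorization 3 := by
      have hLpos : Nat.card L ≠ 0 := Nat.card_pos.ne'
      have hHpos : Nat.card H ≠ 0 := Nat.card_pos.ne'
      have h1 : 3 ^ (Nat.card H).factorization 3 ∣ Nat.card L :=
        hPdc ▸ Subgroup.card_dvd_of_le hPdL
      have h2 : (Nat.card H).factorization 3 ≤ (Nat.card L).factorization 3 :=
        (Nat.Prime.pow_dvd_iff_le_factorization Nat.prime_three hLpos).mp h1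
      have h3 : (Nat.card L).factorization 3 ≤ (Nat.card H).factorization 3 :=
        (Nat.factorization_le_iff_dvd hLpos hHpos).mpr (Subgroup.card_dvd_of_le hLH) 3
      rw [hPdc]; congr 1; omega
    obtain ⟨l, hlL, hl⟩ :=
      exists_conj_mem_of_card hPdL hPdcL hh₃L (isPGroup_zpowers_of_pow he'3)
    have hh₃R₁ : h₃ ∈ R₁ := by
      have h1 : l⁻¹ * h₃ * l ∈ R₁ := hP₁R₁ (hPdP₁ hl)
      have hlN : l ∈ Subgroup.normalizer (R₁ : Set G) := by
        rw [hL] at hlL; exact hlL.2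
      have h2 := (Subgroup.mem_normalizer_iff.mp hlN (l⁻¹ * h₃ * l)).mp h1
      rwa [show l * (l⁻¹ * h₃ * l) * l⁻¹ = h₃ by group] at h2
    have hhR₁ : h ∈ R₁ := he'M R₁ hQR₁ hh₃R₁
    have hyR₁ : y ∈ R₁ := by
      rw [hy_eq]; exact R₁.mul_mem (R₁.mul_mem hkR₁ (hQR₁ huQ)) hhR₁
    -- `y ∈ Q P₁` is a 3-element normalizing `P₁`, hence in `P₁`
    have hyset : y ∈ ((Q ⊔ P₁ : Subgroup G) : Set G) := by rw [← hR₁]; exact hyR₁
    rw [Subgroup.normal_mul] at hyset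
    obtain ⟨q, hq, p, hp, hqp⟩ := Set.mem_mul.mp hyset
    have hTp : IsPGroup 3 (P₁ ⊔ Subgroup.zpowers y : Subgroup G) :=
      IsPGroup.to_sup_of_normal_left' hP₁p (isPGroup_zpowers_of_pow hys)
        (by rw [Subgroup.zpowers_le, ← hNdef]; exact hyN)
    have hqT : q ∈ (P₁ ⊔ Subgroup.zpowers y : Subgroup G) := by
      have : q = y * p⁻¹ := by rw [← hqp]; group
      rw [this]
      exact Subgroup.mul_mem _ (Subgroup.mem_sup_right (Subgroup.mem_zpowers _))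
        (Subgroup.mem_sup_left (Subgroup.inv_mem _ hp))
    obtain ⟨a, ha⟩ := hTp ⟨q, hqT⟩
    obtain ⟨b, hb⟩ := hQ2 ⟨q, hq⟩
    have ha' : q ^ 3 ^ a = 1 := by
      have := congrArg Subtype.val ha
      simpa using this
    have hb' : q ^ 2 ^ b = 1 := by
      have := congrArg Subtype.val hb
      simpa using this
    have hq1 : q ∈ (⊥ : Subgroup G) :=
      mem_of_pow_mem_of_coprime (a := 3 ^ a) (b := 2 ^ b)
        (Nat.Coprime.pow _ _ (by norm_num)) (by rw [ha']; exact Subgroup.one_mem _)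
        (by rw [hb']; exact Subgroup.one_mem _)
    rw [Subgroup.mem_bot] at hq1
    apply hyP
    rw [← hqp, hq1, one_mul]
    exact hp
  exact ⟨Sylow.ofCard P₁ hcard, fun x hx => hP₁inv x hx⟩

end Cfsg.Agent.Helper25.InvOdd
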