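import Mathlib
import Cfsg.Agent.Lib.Helper25.WQuot3
import Cfsg.Agent.Lib.Helper25.WidthOne2
import Cfsg.Agent.Lib.Helper25.ThreeTransp2
import Cfsg.Agent.S5349

/-!
# S5356 modulo the `Z*`-theorem (helper25)
-/

set_option autoImplicit false

namespace Cfsg.Agent.Helper25.TT

open Cfsg

variable {G : Type*} [Group G] {D : Set G}

/-- the hypothesis "everything commuting with `d` is `Sim`-related to `d`" holds for all members. -/
theorem sim_of_commute_all (hD : IsThreeTranspositionClass D) {d : G} (hd : d ∈ D)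
    (hV : {y : G | y ∈ D ∧ Commute d y} = {v : G | v ∈ D ∧ ∀ e ∈ D, Commute v e ↔ Commute d e})
    {x y : G} (hx : x ∈ D) (hy : y ∈ D) (hxy : Commute x y) : Sim D y x := by
  have hconj : ∀ g : G, ∀ x ∈ D, g * x * g⁻¹ ∈ D := fun g x hx => conj_mem hD g hx
  obtain ⟨g, rfl⟩ := isConj_of_mem hD hd hx
  have hy' : g⁻¹ * y * g ∈ D := by simpa using hconj g⁻¹ y hy
  have hc : Commute d (g⁻¹ * y * g) := (commute_conj_iff g d y).mp hxy
  have hmem : g⁻¹ * y * g ∈ {y : G | y ∈ D ∧ Commute d y} := ⟨hy', hc⟩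
  rw [hV] at hmem
  have hs : Sim D (g⁻¹ * y * g) d := hmem.2
  have := hs.conj hconj g
  rwa [show g * (g⁻¹ * y * g) * g⁻¹ = y by group] at this

theorem not_mem_pCore_two [Finite G] (hD : IsThreeTranspositionClass D)
    (hD2 : ∃ a ∈ D, ∃ b ∈ D, a ≠ b) {x : G} (hx : x ∈ D) : x ∉ Cfsg.pCore 2 G := by
  haveI : Fact (Nat.Prime 2) := ⟨Nat.prime_two⟩
  have hQ : IsPGroup 2 (Cfsg.pCore 2 G) := Cfsg.Agent.Helper25.isPGroup_pCore' 2 G
  haveI hQn : (Cfsg.pCore 2 G).Normal := Cfsg.pCore_normal 2 G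
  intro hxQ
  have hall : ∀ y ∈ D, y ∈ Cfsg.pCore 2 G := by
    intro y hy
    obtain ⟨g, rfl⟩ := isConj_of_mem hD hx hy
    exact hQn.conj_mem x hxQ g
  obtain ⟨e, he, hxe⟩ := exists_not_commute hD hD2 hx
  have h3 : (x * e) ^ 3 = 1 := cube_of_not_commute hD.1 hx he hxe
  have hmem : x * e ∈ Cfsg.pCore 2 G := Subgroup.mul_mem _ hxQ (hall e he)
  obtain ⟨k, hk⟩ := hQ ⟨_, hmem⟩
  have hk' : (x * e) ^ 2 ^ k = 1 := by
    have := congrArg Subtype.val hk
    simpa using this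
  have h1 : x * e ∈ (⊥ : Subgroup G) :=
    InvOdd.mem_of_pow_mem_of_coprime (a := 3) (b := 2 ^ k)
      (Nat.Coprime.pow_right _ (by norm_num)) (by rw [h3]; exact Subgroup.one_mem _)
      (by rw [hk']; exact Subgroup.one_mem _)
  rw [Subgroup.mem_bot] at h1
  have : x = e⁻¹ := eq_inv_of_mul_eq_one_left h1
  rw [inv_eq hD.1 he] at this
  exact hxe (this ▸ Commute.refl _)

/-- **S5356 modulo `Z*`.** -/
theorem exists_sylow_three_of_ZStar [Finite G] (hZ : ZStarAt (G ⧸ Cfsg.pCore 2 G))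
    (hD : IsThreeTranspositionClass D) (hD2 : ∃ a ∈ D, ∃ b ∈ D, a ≠ b) {d : G} (hd : d ∈ D)
    (hV : {y : G | y ∈ D ∧ Commute d y} = {v : G | v ∈ D ∧ ∀ e ∈ D, Commute v e ↔ Commute d e}) :
    ∃ P : Sylow 3 G, d ∈ Subgroup.normalizer (P : Set G) ∧
      Subgroup.zpowers d ⊔ (P : Subgroup G) ⊔ Cfsg.pCore 2 G = ⊤ := by
  haveI : Fact (Nat.Prime 2) := ⟨Nat.prime_two⟩
  haveI : Fact (Nat.Prime 3) := ⟨Nat.prime_three⟩
  have hS := hD.1
  have hconj : ∀ g : G, ∀ x ∈ D, g * x * g⁻¹ ∈ D := fun g x hx => conj_mem hD g hx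
  set Q : Subgroup G := Cfsg.pCore 2 G with hQdef
  have hQ2 : IsPGroup 2 Q := Cfsg.Agent.Helper25.isPGroup_pCore' 2 G
  have hQn : Q.Normal := Cfsg.pCore_normal 2 G
  have hDQ : ∀ x ∈ D, x ∉ Q := fun x hx => not_mem_pCore_two hD hD2 hx
  have hdd := mul_self hS hd
  have hdi := inv_eq hS hd
  -- the quotient
  set π : G →* G ⧸ Q := QuotientGroup.mk' Q with hπ
  have hπsurj : Function.Surjective π := QuotientGroup.mk'_surjective Q
  have hπ1 : ∀ g : G, π g = 1 ↔ g ∈ Q := fun g => QuotientGroup.eq_one_iff g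
  have hD3 : IsThreeTranspositionSet (π '' D) := by
    refine ⟨?_, ?_⟩
    · rintro _ ⟨x, hx, rfl⟩
      apply orderOf_eq_prime
      · rw [← map_pow, pow_two, mul_self hS hx, map_one]
      · intro h; exact hDQ x hx ((hπ1 x).mp h)
    · rintro _ ⟨x, hx, rfl⟩ _ ⟨y, hy, rfl⟩
      rcases hS.2 x hx y hy with h | h
      · left; rw [← map_mul, ← map_pow, h, map_one]
      · right; rw [← map_mul, ← map_pow, h, map_one]
  have hDconj : ∀ g : G ⧸ Q, ∀ x ∈ π '' D, g * x * g⁻¹ ∈ π '' D := by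
    rintro g _ ⟨x, hx, rfl⟩
    obtain ⟨g, rfl⟩ := hπsurj g
    exact ⟨g * x * g⁻¹, hconj g x hx, by simp⟩
  have hDnc : ∀ a ∈ π '' D, ∀ b ∈ π '' D, Commute a b → a = b := by
    rintro _ ⟨a, ha, rfl⟩ _ ⟨b, hb, rfl⟩ hab
    by_cases hc : Commute a b
    · by_cases hne : b = a
      · rw [hne]
      · have hs : Sim D b a := sim_of_commute_all hD hd hV ha hb hc
        have hmem : a * b ∈ Q := mul_mem_pCore hS hconj ha hb hs hne
        have h1 : π a * π b = 1 := by rw [← map_mul]; exact (hπ1 _).mpr hmem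
        have h2 : π a = (π b)⁻¹ := eq_inv_of_mul_eq_one_left h1
        rw [h2, ← map_inv, inv_eq hS hb]
    · have hbr := braid hS ha hb hc
      have h1 : π a * π b * π a = π b * π a * π b := by
        rw [← map_mul, ← map_mul, hbr, map_mul, map_mul]
      have haa : π a * π a = 1 := by rw [← map_mul, mul_self hS ha, map_one]
      have hbb : π b * π b = 1 := by rw [← map_mul, mul_self hS hb, map_one]
      have h2 : π a * π b * π a = π b := by
        rw [hab.eq, mul_assoc, haa, mul_one]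
      have h3 : π b * π a * π b = π a := by
        rw [← hab.eq, mul_assoc, hbb, mul_one]
      rw [← h3, ← h1, h2]
  have hW : ∀ a ∈ D, ∀ b ∈ D, π a * π b ∈ Cfsg.pCore 3 (G ⧸ Q) := fun a ha b hb =>
    mul_mem_pCore_three hZ hD3 hDconj hDnc ⟨a, ha, rfl⟩ ⟨b, hb, rfl⟩
  have hO3 : IsPGroup 3 (Cfsg.pCore 3 (G ⧸ Q)) := Cfsg.Agent.Helper25.isPGroup_pCore' 3 _
  haveI hO3n : (Cfsg.pCore 3 (G ⧸ Q)).Normal := Cfsg.pCore_normal 3 _
  obtain ⟨R, hRdef⟩ : ∃ R : Subgroup G, R = (Cfsg.pCore 3 (G ⧸ Q)).comap π := ⟨_, rfl⟩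
  haveI hRn : R.Normal := hRdef ▸ Subgroup.Normal.comap hO3n π
  have hRmem : ∀ g, g ∈ R ↔ π g ∈ Cfsg.pCore 3 (G ⧸ Q) := by
    intro g; rw [hRdef, Subgroup.mem_comap]
  have hQR : Q ≤ R := by
    intro q hq
    rw [hRmem, (hπ1 q).mpr hq]; exact Subgroup.one_mem _
  have hR3 : ∀ g ∈ R, ∃ s : ℕ, g ^ 3 ^ s ∈ Q := by
    intro g hg
    obtain ⟨s, hs⟩ := hO3 ⟨π g, (hRmem g).mp hg⟩
    refine ⟨s, ?_⟩
    rw [← hπ1, map_pow]
    have := congrArg Subtype.val hs
    simpa using this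
  have hGR : ∀ g : G, g ∈ R ∨ d * g ∈ R := by
    intro g
    have hg : g ∈ Subgroup.closure D := by rw [hD.2.2]; trivial
    induction hg using Subgroup.closure_induction with
    | mem x hx =>
      right; rw [hRmem, map_mul]; exact hW d hd x hx
    | one => left; exact R.one_mem
    | mul x y _ _ hx hy =>
      rcases hx with hx | hx <;> rcases hy with hy | hy
      · left; exact R.mul_mem hx hy
      · right
        have : d * (x * y) = (d * x * d⁻¹) * (d * y) := by group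
        rw [this]; exact R.mul_mem (hRn.conj_mem x hx d) hy
      · right
        have : d * (x * y) = (d * x) * y := by group
        rw [this]; exact R.mul_mem hx hy
      · left
        have : x * y = (d * (d * x) * d⁻¹) * (d * y) := by
          rw [hdi]
          calc x * y = (d * d) * x * ((d * d) * y) := by rw [hdd, one_mul, one_mul]
            _ = d * (d * x) * d * (d * y) := by group
        rw [this]; exact R.mul_mem (hRn.conj_mem _ hx d) hy
    | inv x _ hx =>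
      rcases hx with hx | hx
      · left; exact R.inv_mem hx
      · right
        have : d * x⁻¹ = d * (d * x)⁻¹ * d⁻¹ := by
          rw [hdi, mul_inv_rev, hdi]
          calc d * x⁻¹ = d * x⁻¹ * (d * d) := by rw [hdd, mul_one]
            _ = d * (x⁻¹ * d) * d := by group
        rw [this]; exact hRn.conj_mem _ (R.inv_mem hx) d
  have hV' : ∀ c ∈ R, c * d * c⁻¹ * d⁻¹ ∈ Q → ∃ u ∈ Q, c * d * c⁻¹ = u * d * u⁻¹ := by
    intro c _ hcq
    have h49 := Cfsg.Agent.S5349.result hD hD2 hd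
    have hvD : c * d * c⁻¹ ∈ D := hconj c d hd
    have h2 : c * d * c⁻¹ ∈ {v : G | v ∈ D ∧ d⁻¹ * v ∈ Q} := by
      refine ⟨hvD, ?_⟩
      have : d⁻¹ * (c * d * c⁻¹) = d⁻¹ * (c * d * c⁻¹ * d⁻¹) * d⁻¹⁻¹ := by group
      rw [this]; exact hQn.conj_mem _ hcq d⁻¹
    rw [← h49.1, h49.2] at h2
    obtain ⟨u, hu, huv⟩ := h2
    exact ⟨u, hu, huv⟩
  obtain ⟨P, hP⟩ := InvOdd.exists_sylow_three_inv Q R hQ2 hQR hR3 hdd hGR hV'
  refine ⟨P, ?_, ?_⟩
  · show d ∈ Subgroup.normalizer ((P : Subgroup G) : Set G)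
    rw [Subgroup.mem_normalizer_iff]
    intro x
    exact (InvOdd.conj_mem_iff hdd (X := (P : Subgroup G)) hP x).symm
  · -- `R ≤ P Q`
    have hRPQ : R ≤ (P : Subgroup G) ⊔ Q := by
      intro g hg
      have h1 : Cfsg.pCore 3 (G ⧸ Q) ≤ ((P.mapSurjective hπsurj : Sylow 3 (G ⧸ Q)) : Subgroup (G ⧸ Q)) :=
        IsPGroup.le_sylow_of_normal hO3 _
      have h2 := h1 ((hRmem g).mp hg)
      rw [Sylow.coe_mapSurjective] at h2
      obtain ⟨p, hp, hpg⟩ := h2
      have h3 : p⁻¹ * g ∈ Q := by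
        rw [← hπ1, map_mul, map_inv, hpg, inv_mul_cancel]
      have : g = p * (p⁻¹ * g) := by group
      rw [this]
      exact Subgroup.mul_mem _ (Subgroup.mem_sup_left hp) (Subgroup.mem_sup_right h3)
    rw [eq_top_iff]
    intro g _
    rw [sup_assoc]
    rcases hGR g with h | h
    · exact Subgroup.mem_sup_right (hRPQ h)
    · have : g = d * (d * g) := by rw [← mul_assoc, hdd, one_mul]
      rw [this]
      exact Subgroup.mul_mem _ (Subgroup.mem_sup_left (Subgroup.mem_zpowers d))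
        (Subgroup.mem_sup_right (hRPQ h))

end Cfsg.Agent.Helper25.TT
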