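import Mathlib
import Cfsg.Prelude.Def_RootSubgroups
import Cfsg.Agent.Lib.Helper25.ConjBy
import Cfsg.Agent.Lib.Helper25.RankOne2

set_option autoImplicit false

namespace Cfsg.Agent.Helper25
namespace WeakTI

variable {G : Type*} [Group G]

/-- the stabilizer of a family of subgroups under conjugation -/
def stab (Δ : Set (Subgroup G)) : Subgroup G where
  carrier := {g | (fun A => Cfsg.conjBy A g) '' Δ = Δ}
  mul_mem' := by
    intro g h hg hh
    show (fun A => Cfsg.conjBy A (g * h)) '' Δ = Δ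
    have : (fun A : Subgroup G => Cfsg.conjBy A (g * h)) =
        (fun A => Cfsg.conjBy A g) ∘ (fun A => Cfsg.conjBy A h) := by
      funext A; simp [conjBy_conjBy]
    rw [this, Set.image_comp]
    have hh' : (fun A => Cfsg.conjBy A h) '' Δ = Δ := hh
    rw [hh']
    exact hg
  one_mem' := by
    show (fun A => Cfsg.conjBy A 1) '' Δ = Δ
    simp [conjBy_one]
  inv_mem' := by
    intro g hg
    show (fun A => Cfsg.conjBy A g⁻¹) '' Δ = Δ
    have hg' : (fun A => Cfsg.conjBy A g) '' Δ = Δ := hg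
    nth_rewrite 1 [← hg']
    rw [← Set.image_comp]
    have : ((fun A : Subgroup G => Cfsg.conjBy A g⁻¹) ∘ fun A => Cfsg.conjBy A g) = id := by
      funext A; simp [conjBy_conjBy, conjBy_one]
    rw [this, Set.image_id]

theorem mem_stab {Δ : Set (Subgroup G)} {g : G} :
    g ∈ stab Δ ↔ (fun A => Cfsg.conjBy A g) '' Δ = Δ := Iff.rfl

theorem conjBy_mem_of_mem_stab {Δ : Set (Subgroup G)} {g : G} (hg : g ∈ stab Δ) {A : Subgroup G}
    (hA : A ∈ Δ) : Cfsg.conjBy A g ∈ Δ := by
  have h : (fun A => Cfsg.conjBy A g) '' Δ = Δ := hg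
  rw [← h]
  exact ⟨A, hA, rfl⟩

/-- a member of `S` commuting elementwise with a member of the weak TI-subset `Δ` stabilizes `Δ`. -/
theorem le_stab {S Δ : Set (Subgroup G)} (hΔ : Cfsg.IsWeakTISubset S Δ) {E D : Subgroup G}
    (hE : E ∈ S) (hD : D ∈ Δ) (hcomm : ∀ e ∈ E, ∀ d ∈ D, e * d = d * e) : E ≤ stab Δ := by
  intro e he
  by_cases he1 : e = 1
  · rw [he1]; exact (stab Δ).one_mem
  · rcases hΔ.2.2.2 e ⟨he1, E, hE, he⟩ with h | h
    · exact h
    · exfalso
      have h1 : Cfsg.conjBy D e = D := RankOne.conjBy_eq_of_commute (fun d hd => hcomm e he d hd)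
      have h2 : D ∈ (fun A => Cfsg.conjBy A e) '' Δ := ⟨D, hD, h1⟩
      exact (Set.disjoint_left.1 h) h2 hD

end WeakTI
end Cfsg.Agent.Helper25
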